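import Mathlib
import Groth.Agent.Lib.Lead.ModTensor

/-!
# Tensoring with an invertible module is an equivalence of categories

`tensorRight L : X.Modules ⥤ X.Modules` (`M ↦ M ⊗ L`), naturality of the associator and right unitor of
`CohB1.tensorMod` in the first variable, and for `e : L ⊗ L' ≅ O` the equivalence
`tensorEquiv e : X.Modules ≌ X.Modules` with functor `tensorRight L` and inverse `tensorRight L'`.
Consequences: `− ⊗ L` preserves short exact sequences, monos, epis, (co)limits.
-/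

set_option backward.isDefEq.respectTransparency false

universe u

open CategoryTheory MonoidalCategory AlgebraicGeometry Opposite Limits

namespace Groth.Agent.Lib.Helper20.TensorEquiv

open Groth.Agent.Lib.Lead.ModTensor

variable {X : Scheme.{u}}

/-- The functor `M ↦ M ⊗ L`. -/
noncomputable def tensorRight (L₁ : X.Modules) : X.Modules ⥤ X.Modules where
  obj M := CohB1.tensorMod M L₁
  map f := tensorMap f (𝟙 L₁)
  map_id M := tensorMap_id M L₁
  map_comp f g := by
    have := tensorMap_comp f g (𝟙 L₁) (𝟙 L₁)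
    rwa [Category.comp_id] at this

@[simp] lemma tensorRight_obj (L₁ M : X.Modules) : (tensorRight L₁).obj M = CohB1.tensorMod M L₁ := rfl
@[simp] lemma tensorRight_map (L₁ : X.Modules) {M N : X.Modules} (f : M ⟶ N) :
    (tensorRight L₁).map f = tensorMap f (𝟙 L₁) := rfl

/-- naturality of the unit of sheafification -/
lemma η_naturality {P Q : CohB1.PMod X} (g : P ⟶ Q) :
    g ≫ η Q = η P ≫ (V X).map ((L X).map g) :=
  ((adj X).unit.naturality g)

lemma tensorMap_eq_whiskerRight {M M' : X.Modules} (f : M ⟶ M') (N : X.Modules) :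
    tensorMap f (𝟙 N) = (L X).map ((V X).map f ▷ CohB1.toPMod N) := by
  unfold tensorMap
  rw [(V X).map_id]
  congr 1

lemma tensorMap_eq_whiskerLeft (M : X.Modules) {N N' : X.Modules} (g : N ⟶ N') :
    tensorMap (𝟙 M) g = (L X).map (CohB1.toPMod M ◁ (V X).map g) := by
  unfold tensorMap
  rw [(V X).map_id]
  congr 1

/-- naturality of the associator in the first variable -/
lemma assoc_naturality_left {A A₂ : X.Modules} (f : A ⟶ A₂) (B C : X.Modules) :
    tensorMap (tensorMap f (𝟙 B)) (𝟙 C) ≫ (assoc A₂ B C).hom =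
      (assoc A B C).hom ≫ tensorMap f (𝟙 (CohB1.tensorMod B C)) := by
  have h1 : IsIso ((L X).map (η (CohB1.toPMod A ⊗ CohB1.toPMod B) ▷ CohB1.toPMod C)) :=
    isIso_L_whiskerRight (η _) _
  have h2 : IsIso ((L X).map (η (CohB1.toPMod A₂ ⊗ CohB1.toPMod B) ▷ CohB1.toPMod C)) :=
    isIso_L_whiskerRight (η _) _
  -- the presheaf-level map `g = f ▷ B`
  set g : CohB1.toPMod A ⊗ CohB1.toPMod B ⟶ CohB1.toPMod A₂ ⊗ CohB1.toPMod B :=
    (V X).map f ▷ CohB1.toPMod B with hg
  have e1 : tensorMap f (𝟙 B) = (L X).map g := tensorMap_eq_whiskerRight f B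
  have key : (L X).map (g ▷ CohB1.toPMod C) ≫
      (L X).map (η (CohB1.toPMod A₂ ⊗ CohB1.toPMod B) ▷ CohB1.toPMod C) =
      (L X).map (η (CohB1.toPMod A ⊗ CohB1.toPMod B) ▷ CohB1.toPMod C) ≫
        (L X).map ((V X).map ((L X).map g) ▷ CohB1.toPMod C) := by
    rw [← (L X).map_comp, ← (L X).map_comp, ← MonoidalCategory.comp_whiskerRight,
      ← MonoidalCategory.comp_whiskerRight, η_naturality]
  unfold assoc
  simp only [Iso.trans_hom, Iso.symm_hom, asIso_inv, asIso_hom, Functor.mapIso_hom]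
  rw [tensorMap_eq_whiskerRight (tensorMap f (𝟙 B)) C, e1,
    tensorMap_eq_whiskerRight f (CohB1.tensorMod B C)]
  rw [← Category.assoc]
  rw [show (L X).map ((V X).map ((L X).map g) ▷ CohB1.toPMod C) ≫
      inv ((L X).map (η (CohB1.toPMod A₂ ⊗ CohB1.toPMod B) ▷ CohB1.toPMod C)) =
      inv ((L X).map (η (CohB1.toPMod A ⊗ CohB1.toPMod B) ▷ CohB1.toPMod C)) ≫
        (L X).map (g ▷ CohB1.toPMod C) from by
    rw [IsIso.comp_inv_eq, Category.assoc, key, IsIso.inv_hom_id_assoc]]
  simp only [Category.assoc]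
  congr 1
  rw [← (L X).map_comp, ← (L X).map_comp, ← (L X).map_comp, ← (L X).map_comp]
  congr 1
  let f' : CohB1.toPMod A ⟶ CohB1.toPMod A₂ := (V X).map f
  have n1 := MonoidalCategory.associator_naturality_left f' (CohB1.toPMod B) (CohB1.toPMod C)
  have n2 := MonoidalCategory.whisker_exchange f' (η (CohB1.toPMod B ⊗ CohB1.toPMod C))
  calc _ = (f' ▷ CohB1.toPMod B ▷ CohB1.toPMod C ≫ (α_ _ _ _).hom) ≫
        CohB1.toPMod A₂ ◁ η (CohB1.toPMod B ⊗ CohB1.toPMod C) := rfl
    _ = ((α_ _ _ _).hom ≫ f' ▷ (CohB1.toPMod B ⊗ CohB1.toPMod C)) ≫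
        CohB1.toPMod A₂ ◁ η (CohB1.toPMod B ⊗ CohB1.toPMod C) := by rw [n1]
    _ = (α_ _ _ _).hom ≫ (f' ▷ (CohB1.toPMod B ⊗ CohB1.toPMod C) ≫
        CohB1.toPMod A₂ ◁ η (CohB1.toPMod B ⊗ CohB1.toPMod C)) := Category.assoc _ _ _
    _ = (α_ _ _ _).hom ≫ (CohB1.toPMod A ◁ η (CohB1.toPMod B ⊗ CohB1.toPMod C) ≫ f' ▷ _) := by
        rw [n2]
    _ = _ := rfl

/-- naturality of the counit of sheafification -/
lemma counit_naturality {M N : X.Modules} (f : M ⟶ N) :
    (L X).map ((V X).map f) ≫ (counitIso N).hom = (counitIso M).hom ≫ f :=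
  (adj X).counit.naturality f

lemma rightUnitor_hom (M : X.Modules) :
    (rightUnitor M).hom = (L X).map (ρ_ (CohB1.toPMod M)).hom ≫ (counitIso M).hom := rfl

/-- naturality of the right unitor -/
lemma rightUnitor_naturality {M N : X.Modules} (f : M ⟶ N) :
    tensorMap f (𝟙 (Coh.structureModule X)) ≫ (rightUnitor N).hom = (rightUnitor M).hom ≫ f := by
  rw [rightUnitor_hom, rightUnitor_hom, Category.assoc, ← counit_naturality f,
    tensorMap_eq_whiskerRight, ← Category.assoc, ← Category.assoc, ← (L X).map_comp,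
    ← (L X).map_comp]
  congr 2
  exact MonoidalCategory.rightUnitor_naturality ((V X).map f)

lemma tensorMap_exchange {M N : X.Modules} (f : M ⟶ N) {A B : X.Modules} (g : A ⟶ B) :
    tensorMap f (𝟙 A) ≫ tensorMap (𝟙 N) g = tensorMap (𝟙 M) g ≫ tensorMap f (𝟙 B) := by
  rw [← tensorMap_comp, ← tensorMap_comp, Category.comp_id, Category.id_comp, Category.comp_id,
    Category.id_comp]

/-- `(M ⊗ L₁) ⊗ L₂ ≅ M` naturally in `M`, when `L₁ ⊗ L₂ ≅ O`. -/
noncomputable def compIso {L₁ L₂ : X.Modules} (e : CohB1.tensorMod L₁ L₂ ≅ Coh.structureModule X) :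
    tensorRight L₁ ⋙ tensorRight L₂ ≅ 𝟭 X.Modules :=
  NatIso.ofComponents
    (fun M => assoc M L₁ L₂ ≪≫ tensorIso (Iso.refl M) e ≪≫ rightUnitor M)
    (by
      intro M N f
      show tensorMap (tensorMap f (𝟙 L₁)) (𝟙 L₂) ≫
          ((assoc N L₁ L₂).hom ≫ tensorMap (𝟙 N) e.hom ≫ (rightUnitor N).hom) =
        ((assoc M L₁ L₂).hom ≫ tensorMap (𝟙 M) e.hom ≫ (rightUnitor M).hom) ≫ f
      rw [← Category.assoc, assoc_naturality_left, Category.assoc, ← Category.assoc (tensorMap f _),
        tensorMap_exchange, Category.assoc, rightUnitor_naturality]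
      simp only [Category.assoc])

/-- The equivalence `− ⊗ L₁` with inverse `− ⊗ L₂`, when `L₁ ⊗ L₂ ≅ O`. -/
noncomputable def tensorEquiv {L₁ L₂ : X.Modules}
    (e : CohB1.tensorMod L₁ L₂ ≅ Coh.structureModule X) : X.Modules ≌ X.Modules :=
  CategoryTheory.Equivalence.mk (tensorRight L₁) (tensorRight L₂) (compIso e).symm
    (compIso (braid L₂ L₁ ≪≫ e))

@[simp] lemma tensorEquiv_functor {L₁ L₂ : X.Modules}
    (e : CohB1.tensorMod L₁ L₂ ≅ Coh.structureModule X) :
    (tensorEquiv e).functor = tensorRight L₁ := rfl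

lemma isEquivalence_tensorRight {L₁ L₂ : X.Modules}
    (e : CohB1.tensorMod L₁ L₂ ≅ Coh.structureModule X) : (tensorRight L₁).IsEquivalence :=
  inferInstanceAs (tensorEquiv e).functor.IsEquivalence

section Consequences

variable {L₁ L₂ : X.Modules} (e : CohB1.tensorMod L₁ L₂ ≅ Coh.structureModule X)

include e in
lemma preservesZeroMorphisms_tensorRight : (tensorRight L₁).PreservesZeroMorphisms := by
  have := isEquivalence_tensorRight e
  infer_instance

include e in
lemma mono_tensorMap {M N : X.Modules} (f : M ⟶ N) [Mono f] : Mono (tensorMap f (𝟙 L₁)) := by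
  have := isEquivalence_tensorRight e
  exact inferInstanceAs (Mono ((tensorRight L₁).map f))

include e in
lemma epi_tensorMap {M N : X.Modules} (f : M ⟶ N) [Epi f] : Epi (tensorMap f (𝟙 L₁)) := by
  have := isEquivalence_tensorRight e
  exact inferInstanceAs (Epi ((tensorRight L₁).map f))

include e in
lemma tensorMap_zero (M N : X.Modules) : tensorMap (0 : M ⟶ N) (𝟙 L₁) = 0 := by
  haveI := preservesZeroMorphisms_tensorRight e
  exact (tensorRight L₁).map_zero M N

/-- the image of a short complex under `− ⊗ L₁` -/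
noncomputable def mapSC (S : ShortComplex X.Modules) : ShortComplex X.Modules :=
  ShortComplex.mk (tensorMap S.f (𝟙 L₁)) (tensorMap S.g (𝟙 L₁)) (by
    have := tensorMap_comp S.f S.g (𝟙 L₁) (𝟙 L₁)
    rw [Category.comp_id, S.zero, tensorMap_zero e] at this
    exact this.symm)

lemma shortExact_mapSC {S : ShortComplex X.Modules} (hS : S.ShortExact) :
    (mapSC e S).ShortExact := by
  haveI := isEquivalence_tensorRight e
  haveI := preservesZeroMorphisms_tensorRight e
  exact hS.map_of_exact (tensorRight L₁)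

end Consequences

end Groth.Agent.Lib.Helper20.TensorEquiv
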