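import Mathlib
import Groth.Agent.Lib.Helper27.DeltaSeq2

set_option autoImplicit false

/-!
# Natural comparison of exact δ-sequences on an acyclic class

Two sequences of functors `T T' : ℕ → A ⥤ B` with *natural* connecting maps (for short exact
sequences whose first term lies in a class `𝒮`), long exact sequences and vanishing on injectives
are *naturally* isomorphic on `𝒮` as soon as they agree in degree `0`.
-/

namespace Groth.Agent.Lib.Helper20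

open CategoryTheory Limits Groth.Agent.Lib.helper27

universe v u v' u'

namespace NatSeq

variable {A : Type u} [Category.{v} A] [Abelian A] {B : Type u'} [Category.{v'} B] [Abelian B]

/-- A sequence of functors with natural connecting maps for short exact sequences with first term
in `𝒮`, giving long exact sequences, and vanishing on injectives in positive degrees. -/
structure ExSeqOn (𝒮 : ObjectProperty A) (T : ℕ → A ⥤ B) where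
  δ : ∀ (S : ShortComplex A), S.ShortExact → 𝒮 S.X₁ → ∀ i : ℕ,
    (T i).obj S.X₃ ⟶ (T (i + 1)).obj S.X₁
  δ_nat : ∀ (S S' : ShortComplex A) (hS : S.ShortExact) (hS' : S'.ShortExact) (h₁ : 𝒮 S.X₁)
    (h₁' : 𝒮 S'.X₁) (φ : S ⟶ S') (i : ℕ),
    δ S hS h₁ i ≫ (T (i + 1)).map φ.τ₁ = (T i).map φ.τ₃ ≫ δ S' hS' h₁' i
  h1 : ∀ (S : ShortComplex A) (hS : S.ShortExact) (h₁ : 𝒮 S.X₁) (i : ℕ),
    (T i).map S.g ≫ δ S hS h₁ i = 0
  h2 : ∀ (S : ShortComplex A) (hS : S.ShortExact) (h₁ : 𝒮 S.X₁) (i : ℕ),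
    δ S hS h₁ i ≫ (T (i + 1)).map S.f = 0
  ex1 : ∀ (S : ShortComplex A) (hS : S.ShortExact) (h₁ : 𝒮 S.X₁) (i : ℕ),
    (ShortComplex.mk _ _ (h1 S hS h₁ i)).Exact
  ex2 : ∀ (S : ShortComplex A) (hS : S.ShortExact) (h₁ : 𝒮 S.X₁) (i : ℕ),
    (ShortComplex.mk _ _ (h2 S hS h₁ i)).Exact
  vanish : ∀ (I : A), Injective I → ∀ i : ℕ, IsZero ((T (i + 1)).obj I)

variable {𝒮 : ObjectProperty A} {T T' : ℕ → A ⥤ B} [EnoughInjectives A]

/-- the chosen injective short exact sequence `0 ⟶ X ⟶ I ⟶ Q ⟶ 0` -/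
noncomputable abbrev SX (X : A) : ShortComplex A := cokerSES (Injective.ι X)

lemma hSX (X : A) : (SX X).ShortExact := cokerSES_shortExact _

instance (X : A) : Injective (SX X).X₂ := inferInstanceAs (Injective (Injective.under X))

/-- a morphism between the chosen sequences extending a given morphism -/
noncomputable def SXMap {X Y : A} (f : X ⟶ Y) : SX X ⟶ SX Y :=
  cokerSESMap (Injective.ι X) (Injective.ι Y) f
    (Injective.factorThru (f ≫ Injective.ι Y) (Injective.ι X)) (Injective.comp_factorThru _ _)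

@[simp] lemma SXMap_τ₁ {X Y : A} (f : X ⟶ Y) : (SXMap f).τ₁ = f := rfl

/-- the connecting map of the chosen sequence, with the expected type -/
noncomputable def dX (hT : ExSeqOn 𝒮 T) (X : A) (hX : 𝒮 X) (i : ℕ) :
    (T i).obj (SX X).X₃ ⟶ (T (i + 1)).obj X :=
  hT.δ (SX X) (hSX X) hX i

instance epi_dX (hT : ExSeqOn 𝒮 T) (X : A) (hX : 𝒮 X) (i : ℕ) : Epi (dX hT X hX i) :=
  (hT.ex2 (SX X) (hSX X) hX i).epi_f
    ((hT.vanish _ (inferInstanceAs (Injective (SX X).X₂)) i).eq_of_tgt _ _)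

lemma dX_nat (hT : ExSeqOn 𝒮 T) {X Y : A} (hX : 𝒮 X) (hY : 𝒮 Y) (f : X ⟶ Y) (i : ℕ) :
    dX hT X hX i ≫ (T (i + 1)).map f = (T i).map (SXMap f).τ₃ ≫ dX hT Y hY i :=
  hT.δ_nat (SX X) (SX Y) (hSX X) (hSX Y) hX hY (SXMap f) i

/-- natural families of maps in degree `i` on the class `𝒮` -/
structure NatFam (𝒮 : ObjectProperty A) (T T' : ℕ → A ⥤ B) (i : ℕ) where
  θ : ∀ X : A, 𝒮 X → ((T i).obj X ⟶ (T' i).obj X)
  nat : ∀ (X Y : A) (hX : 𝒮 X) (hY : 𝒮 Y) (f : X ⟶ Y),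
      (T i).map f ≫ θ Y hY = θ X hX ≫ (T' i).map f

variable (hT : ExSeqOn 𝒮 T) (hT' : ExSeqOn 𝒮 T')
  (h𝒮 : ∀ S : ShortComplex A, S.ShortExact → 𝒮 S.X₁ → Injective S.X₂ → 𝒮 S.X₃)
  (h𝒮inj : ∀ I : A, Injective I → 𝒮 I)

include h𝒮 in
lemma hQ (X : A) (hX : 𝒮 X) : 𝒮 (SX X).X₃ :=
  h𝒮 (SX X) (hSX X) hX (inferInstanceAs (Injective (SX X).X₂))

/-- the step map in degree `i + 1` -/
noncomputable def stepθ (i : ℕ) (θ : NatFam 𝒮 T T' i) (X : A) (hX : 𝒮 X) :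
    (T (i + 1)).obj X ⟶ (T' (i + 1)).obj X :=
  have : Epi (ShortComplex.mk _ _ (hT.h1 (SX X) (hSX X) hX i)).g := epi_dX hT X hX i
  (hT.ex1 (SX X) (hSX X) hX i).desc
    (θ.θ (SX X).X₃ (hQ h𝒮 X hX) ≫ hT'.δ (SX X) (hSX X) hX i) (by
      show (T i).map (SX X).g ≫ θ.θ (SX X).X₃ (hQ h𝒮 X hX) ≫ hT'.δ (SX X) (hSX X) hX i = 0
      rw [← Category.assoc,
        θ.nat _ _ (h𝒮inj _ (inferInstanceAs (Injective (SX X).X₂))) (hQ h𝒮 X hX) (SX X).g,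
        Category.assoc, hT'.h1, comp_zero])

lemma δ_stepθ (i : ℕ) (θ : NatFam 𝒮 T T' i) (X : A) (hX : 𝒮 X) :
    dX hT X hX i ≫ stepθ hT hT' h𝒮 h𝒮inj i θ X hX =
      θ.θ (SX X).X₃ (hQ h𝒮 X hX) ≫ dX hT' X hX i := by
  have : Epi (ShortComplex.mk _ _ (hT.h1 (SX X) (hSX X) hX i)).g := epi_dX hT X hX i
  exact (hT.ex1 (SX X) (hSX X) hX i).g_desc _ _

lemma stepθ_nat (i : ℕ) (θ : NatFam 𝒮 T T' i) (X Y : A) (hX : 𝒮 X) (hY : 𝒮 Y) (f : X ⟶ Y) :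
    (T (i + 1)).map f ≫ stepθ hT hT' h𝒮 h𝒮inj i θ Y hY =
      stepθ hT hT' h𝒮 h𝒮inj i θ X hX ≫ (T' (i + 1)).map f := by
  rw [← cancel_epi (dX hT X hX i), ← Category.assoc, dX_nat hT hX hY f i, Category.assoc,
    δ_stepθ, ← Category.assoc, θ.nat _ _ (hQ h𝒮 X hX) (hQ h𝒮 Y hY) (SXMap f).τ₃, Category.assoc,
    ← dX_nat hT' hX hY f i, ← Category.assoc, ← δ_stepθ hT hT' h𝒮 h𝒮inj i θ X hX,
    Category.assoc]

/-- the step construction on natural families -/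
noncomputable def stepFam (i : ℕ) (θ : NatFam 𝒮 T T' i) : NatFam 𝒮 T T' (i + 1) :=
  ⟨stepθ hT hT' h𝒮 h𝒮inj i θ, stepθ_nat hT hT' h𝒮 h𝒮inj i θ⟩

/-- the natural family in all degrees generated by a natural transformation in degree `0` -/
noncomputable def fam (e : T 0 ⟶ T' 0) : ∀ i : ℕ, NatFam 𝒮 T T' i
  | 0 => ⟨fun X _ => e.app X, fun _ _ _ _ f => e.naturality f⟩
  | i + 1 => stepFam hT hT' h𝒮 h𝒮inj i (fam e i)

lemma δ_fam (e : T 0 ⟶ T' 0) (i : ℕ) (X : A) (hX : 𝒮 X) :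
    dX hT X hX i ≫ (fam hT hT' h𝒮 h𝒮inj e (i + 1)).θ X hX =
      (fam hT hT' h𝒮 h𝒮inj e i).θ (SX X).X₃ (hQ h𝒮 X hX) ≫ dX hT' X hX i :=
  δ_stepθ hT hT' h𝒮 h𝒮inj i _ X hX

lemma fam_comp (e : T 0 ⟶ T' 0) (e' : T' 0 ⟶ T 0) (h : e ≫ e' = 𝟙 _) :
    ∀ (i : ℕ) (X : A) (hX : 𝒮 X),
      (fam hT hT' h𝒮 h𝒮inj e i).θ X hX ≫ (fam hT' hT h𝒮 h𝒮inj e' i).θ X hX = 𝟙 _ := by
  intro i
  induction i with
  | zero =>
    intro X hX
    show e.app X ≫ e'.app X = 𝟙 _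
    rw [← NatTrans.comp_app, h]
    rfl
  | succ i ih =>
    intro X hX
    rw [← cancel_epi (dX hT X hX i), ← Category.assoc, δ_fam, Category.assoc,
      δ_fam, ← Category.assoc, ih, Category.id_comp, Category.comp_id]

/-- **Natural comparison**: the isomorphisms `T i X ≅ T' i X` for `X` in `𝒮`. -/
noncomputable def iso (e : T 0 ≅ T' 0) (i : ℕ) (X : A) (hX : 𝒮 X) :
    (T i).obj X ≅ (T' i).obj X where
  hom := (fam hT hT' h𝒮 h𝒮inj e.hom i).θ X hX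
  inv := (fam hT' hT h𝒮 h𝒮inj e.inv i).θ X hX
  hom_inv_id := fam_comp hT hT' h𝒮 h𝒮inj e.hom e.inv e.hom_inv_id i X hX
  inv_hom_id := fam_comp hT' hT h𝒮 h𝒮inj e.inv e.hom e.inv_hom_id i X hX

lemma iso_natural (e : T 0 ≅ T' 0) (i : ℕ) (X Y : A) (hX : 𝒮 X) (hY : 𝒮 Y) (f : X ⟶ Y) :
    (T i).map f ≫ (iso hT hT' h𝒮 h𝒮inj e i Y hY).hom =
      (iso hT hT' h𝒮 h𝒮inj e i X hX).hom ≫ (T' i).map f :=
  (fam hT hT' h𝒮 h𝒮inj e.hom i).nat X Y hX hY f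

lemma iso_zero (e : T 0 ≅ T' 0) (X : A) (hX : 𝒮 X) :
    (iso hT hT' h𝒮 h𝒮inj e 0 X hX).hom = e.hom.app X := rfl

end NatSeq

end Groth.Agent.Lib.Helper20
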