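import Mathlib
import Groth.Agent.Lib.Helper20.NatSeq
import Groth.Agent.Lib.Helper27.CechSite

set_option autoImplicit false
set_option linter.unusedVariables false
set_option linter.unusedSectionVars false

/-!
# Natural Čech-to-derived comparison (helper20)

The Leray isomorphisms `Ȟ^p(𝒰, F) ≅ Ext^p(P, F)` of helper27's `CechLeray` made natural in `F`.
-/

namespace Groth.Agent.Lib.Helper20

open CategoryTheory Limits Opposite Abelian Groth.Agent.Lib.helper27

universe w v u v' u'

namespace CechNat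

section ext

variable {𝒜 : Type u} [Category.{v} 𝒜] [Abelian 𝒜] [HasExt.{w} 𝒜]

/-- `F ↦ Ext^n(P, F)` as an exact sequence of functors with natural connecting maps. -/
noncomputable def extExSeqOn (P : 𝒜) (𝒮 : ObjectProperty 𝒜) :
    NatSeq.ExSeqOn 𝒮 (fun n => (extFunctor.{w} n).obj (op P)) where
  δ S hS _ i := AddCommGrpCat.ofHom (hS.extClass.postcomp P rfl)
  δ_nat S S' hS hS' _ _ φ i := by
    apply AddCommGrpCat.hom_ext
    apply AddMonoidHom.ext
    intro x
    show (x.comp hS.extClass rfl).comp (Ext.mk₀ φ.τ₁) (add_zero _) =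
      (x.comp (Ext.mk₀ φ.τ₃) (add_zero _)).comp hS'.extClass rfl
    rw [Ext.comp_assoc x hS.extClass (Ext.mk₀ φ.τ₁) rfl (add_zero 1) (by lia),
      ShortComplex.ShortExact.extClass_naturality hS hS' φ,
      Ext.comp_assoc x (Ext.mk₀ φ.τ₃) hS'.extClass (add_zero i) (zero_add 1) (by lia)]
  h1 S hS _ i := by
    apply AddCommGrpCat.hom_ext
    apply AddMonoidHom.ext
    intro x
    show (x.comp (Ext.mk₀ S.g) (add_zero _)).comp hS.extClass rfl = 0
    simp
  h2 S hS _ i := by
    apply AddCommGrpCat.hom_ext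
    apply AddMonoidHom.ext
    intro x
    show (x.comp hS.extClass rfl).comp (Ext.mk₀ S.f) (add_zero _) = 0
    simp
  ex1 S hS _ i := Ext.covariant_sequence_exact₃' P hS i (i + 1) rfl
  ex2 S hS _ i := Ext.covariant_sequence_exact₁' P hS i (i + 1) rfl
  vanish I hI i := by
    have : Subsingleton (Ext.{w} P I (i + 1)) :=
      subsingleton_of_forall_eq 0 fun x ↦ (Ext.eq_zero_of_injective x)
    exact AddCommGrpCat.isZero_of_subsingleton (AddCommGrpCat.of (Ext.{w} P I (i + 1)))

end ext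

section sheaf

variable {C : Type u} [SmallCategory C] (J : GrothendieckTopology C)
  [HasExt.{u} (Sheaf J AddCommGrpCat.{u})]
  {A : ℕ → Type u} (V : ∀ n, A n → C)
  (Č : Sheaf J AddCommGrpCat.{u} ⥤ CochainComplex AddCommGrpCat.{u} ℕ) [Č.Additive]
  (e : ∀ n, Č ⋙ HomologicalComplex.eval _ _ n ≅ CechLeray.prodSections J (V n))

lemma acyc_of_injective (I : Sheaf J AddCommGrpCat.{u}) (hI : Injective I) :
    CechLeray.Acyc J V I := by
  intro n a q
  exact subsingleton_of_forall_eq 0 fun x ↦ (Ext.eq_zero_of_injective x)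

/-- Čech cohomology as an exact sequence of functors on the acyclic class, with natural
connecting maps. -/
noncomputable def cechExSeqOn (hinj : ∀ (I : Sheaf J AddCommGrpCat.{u}), Injective I →
    ∀ n : ℕ, (Č.obj I).ExactAt (n + 1)) :
    NatSeq.ExSeqOn (CechLeray.Acyc J V) (CechLeray.T J Č) where
  δ S hS h₁ i := (CechLeray.map_shortExact J V Č e S hS h₁).δ i (i + 1) rfl
  δ_nat S S' hS hS' h₁ h₁' φ i :=
    HomologicalComplex.HomologySequence.δ_naturality (Č.mapShortComplex.map φ)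
      (CechLeray.map_shortExact J V Č e S hS h₁) (CechLeray.map_shortExact J V Č e S' hS' h₁')
      i (i + 1) rfl
  h1 S hS h₁ i := (CechLeray.map_shortExact J V Č e S hS h₁).comp_δ i (i + 1) rfl
  h2 S hS h₁ i := (CechLeray.map_shortExact J V Č e S hS h₁).δ_comp i (i + 1) rfl
  ex1 S hS h₁ i := (CechLeray.map_shortExact J V Č e S hS h₁).homology_exact₃ i (i + 1) rfl
  ex2 S hS h₁ i := (CechLeray.map_shortExact J V Č e S hS h₁).homology_exact₁ i (i + 1) rfl
  vanish I hI i := by
    have := hinj I hI i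
    rwa [HomologicalComplex.exactAt_iff_isZero_homology] at this

/-- **Natural abstract Leray theorem**: the comparison isomorphisms between Čech cohomology and
`Ext^p(P, -)`, for sheaves acyclic on the objects of the Čech complex. -/
noncomputable def lerayIso (hinj : ∀ (I : Sheaf J AddCommGrpCat.{u}), Injective I →
      ∀ n : ℕ, (Č.obj I).ExactAt (n + 1))
    (P : Sheaf J AddCommGrpCat.{u}) (e₀ : CechLeray.T J Č 0 ≅ (extFunctor.{u} 0).obj (op P))
    (p : ℕ) (F : Sheaf J AddCommGrpCat.{u}) (hF : CechLeray.Acyc J V F) :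
    (CechLeray.T J Č p).obj F ≅ ((extFunctor.{u} p).obj (op P)).obj F :=
  NatSeq.iso (cechExSeqOn J V Č e hinj) (extExSeqOn P _)
    (fun S hS h₁ hI => CechLeray.acyc_X₃ J V S hS h₁ hI) (acyc_of_injective J V) e₀ p F hF

lemma lerayIso_natural (hinj : ∀ (I : Sheaf J AddCommGrpCat.{u}), Injective I →
      ∀ n : ℕ, (Č.obj I).ExactAt (n + 1))
    (P : Sheaf J AddCommGrpCat.{u}) (e₀ : CechLeray.T J Č 0 ≅ (extFunctor.{u} 0).obj (op P))
    (p : ℕ) (F G : Sheaf J AddCommGrpCat.{u}) (hF : CechLeray.Acyc J V F)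
    (hG : CechLeray.Acyc J V G) (φ : F ⟶ G) :
    (CechLeray.T J Č p).map φ ≫ (lerayIso J V Č e hinj P e₀ p G hG).hom =
      (lerayIso J V Č e hinj P e₀ p F hF).hom ≫ ((extFunctor.{u} p).obj (op P)).map φ :=
  NatSeq.iso_natural (cechExSeqOn J V Č e hinj) (extExSeqOn P _)
    (fun S hS h₁ hI => CechLeray.acyc_X₃ J V S hS h₁ hI) (acyc_of_injective J V) e₀ p F G hF hG φ

lemma lerayIso_zero (hinj : ∀ (I : Sheaf J AddCommGrpCat.{u}), Injective I →
      ∀ n : ℕ, (Č.obj I).ExactAt (n + 1))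
    (P : Sheaf J AddCommGrpCat.{u}) (e₀ : CechLeray.T J Č 0 ≅ (extFunctor.{u} 0).obj (op P))
    (F : Sheaf J AddCommGrpCat.{u}) (hF : CechLeray.Acyc J V F) :
    (lerayIso J V Č e hinj P e₀ 0 F hF).hom = e₀.hom.app F := rfl

end sheaf

end CechNat

end Groth.Agent.Lib.Helper20
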