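import Mathlib
import Groth.Agent.Lib.Helper20.CechNat
import Groth.Prelude.Def_CohTop

set_option autoImplicit false
set_option linter.unusedVariables false
set_option linter.unusedSectionVars false

/-!
# Natural Čech-to-derived comparison on topological spaces (helper20)
-/

namespace Groth.Agent.Lib.Helper20

open CategoryTheory Limits Opposite Abelian TopologicalSpace Groth.Agent.Lib.helper27

universe u

namespace CechNatTop

variable {X : TopCat.{u}}

/-- the constant sheaf `ℤ` -/
noncomputable abbrev ZX (X : TopCat.{u}) : CohTop.Ab X :=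
  (constantSheaf (Opens.grothendieckTopology X) AddCommGrpCat.{u}).obj
    (AddCommGrpCat.of (ULift ℤ))

/-- `H⁰(X, F) = F(X)`, naturally in `F`. -/
noncomputable def h0Iso (X : TopCat.{u}) :
    (sheafSections (Opens.grothendieckTopology X) AddCommGrpCat.{u}).obj (op (⊤ : Opens X)) ≅
      (extFunctor.{u} 0).obj (op (ZX X)) :=
  NatIso.ofComponents
    (fun F => (Sheaf.H.equiv₀ F (isTerminalTop (α := Opens X))).symm.toAddCommGrpIso) (by
      intro F G φ
      apply AddCommGrpCat.hom_ext
      apply AddMonoidHom.ext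
      intro x
      exact (Sheaf.H.equiv₀_symm_naturality (isTerminalTop (α := Opens X)) φ x).symm)

variable {ι : Type u} (U : ι → Opens X)

/-- the Čech complex functor on abelian sheaves -/
noncomputable abbrev Č : CohTop.Ab X ⥤ CochainComplex AddCommGrpCat.{u} ℕ :=
  CechSite.Č (Opens.grothendieckTopology X) (𝟭 (Opens X)) U

/-- `Ȟ⁰ = H⁰`, naturally. -/
noncomputable def e₀ (hcov : iSup U = ⊤) :
    CechLeray.T (Opens.grothendieckTopology X) (Č U) 0 ≅ (extFunctor.{u} 0).obj (op (ZX X)) :=
  CechSite.e₀ (Opens.grothendieckTopology X) (𝟭 (Opens X)) U (W := (⊤ : Opens X))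
      (fun i => homOfLE le_top) (fun T s s' => Subsingleton.elim _ _)
      (by
        intro x hx
        have hx' : x ∈ iSup U := by rw [hcov]; exact hx
        obtain ⟨i, hi⟩ := Opens.mem_iSup.1 hx'
        exact ⟨U i, homOfLE le_top, Sieve.ofArrows_mk _ _ i, hi⟩)
      (fun i j Z gi gj hij => ⟨Z, 𝟙 Z, gi, gj, by simp, by simp⟩) ≪≫ h0Iso X

lemma hinj (I : CohTop.Ab X) (hI : Injective I) (n : ℕ) : ((Č U).obj I).ExactAt (n + 1) := by
  have : Injective ((sheafToPresheaf (Opens.grothendieckTopology X) AddCommGrpCat.{u}).obj I) :=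
    Injective.injective_of_adjoint
      (sheafificationAdjunction (Opens.grothendieckTopology X) AddCommGrpCat.{u}) I
  exact Cech.exactAt_of_injective U _ n

/-- the acyclicity condition -/
def IsAcyc (F : CohTop.Ab X) : Prop :=
  ∀ (n : ℕ) (a : Fin (n + 1) → ι) (q : ℕ), Subsingleton (CohTop.HU F (q + 1) (∏ᶜ (U ∘ a)))

/-- **Natural Leray isomorphism** on a topological space. -/
noncomputable def cechIso (hcov : iSup U = ⊤) (p : ℕ) (F : CohTop.Ab X) (hF : IsAcyc U F) :
    ((Č U).obj F).homology p ≅ AddCommGrpCat.of (Sheaf.H.{u} F p) :=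
  CechNat.lerayIso (Opens.grothendieckTopology X) (CechSite.V (𝟭 (Opens X)) U) (Č U)
    (CechSite.e (Opens.grothendieckTopology X) (𝟭 (Opens X)) U) (hinj U) (ZX X) (e₀ U hcov) p F hF

lemma cechIso_natural (hcov : iSup U = ⊤) (p : ℕ) (F G : CohTop.Ab X) (hF : IsAcyc U F)
    (hG : IsAcyc U G) (φ : F ⟶ G) :
    HomologicalComplex.homologyMap ((Č U).map φ) p ≫ (cechIso U hcov p G hG).hom =
      (cechIso U hcov p F hF).hom ≫ AddCommGrpCat.ofHom (Sheaf.H.map φ p) :=
  CechNat.lerayIso_natural (Opens.grothendieckTopology X) (CechSite.V (𝟭 (Opens X)) U) (Č U)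
    (CechSite.e (Opens.grothendieckTopology X) (𝟭 (Opens X)) U) (hinj U) (ZX X) (e₀ U hcov) p F G
    hF hG φ

end CechNatTop

end Groth.Agent.Lib.Helper20
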