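import Mathlib
import Groth.Agent.Lib.Helper20.CechNatTop

set_option autoImplicit false
set_option linter.unusedVariables false
set_option linter.unusedSectionVars false

/-!
# A finiteness criterion for sheaf cohomology via Čech cochains (helper20)
-/

namespace Groth.Agent.Lib.Helper20

open CategoryTheory Limits Opposite Abelian TopologicalSpace Groth.Agent.Lib.helper27

universe u

namespace CechFin

section complex

variable (K : CochainComplex AddCommGrpCat.{u} ℕ) (n : ℕ) {L : AddCommGrpCat.{u}}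
  (θ : K.X (n + 1) ⟶ L) (hθd : K.d n (n + 1) ≫ θ = 0)

/-- the map induced on homology by a map on cochains killing coboundaries -/
noncomputable def Θ : K.homology (n + 1) ⟶ L :=
  K.homologyι (n + 1) ≫ K.descOpcycles θ n (by simp) hθd

lemma π_Θ : K.homologyπ (n + 1) ≫ Θ K n θ hθd = K.iCycles (n + 1) ≫ θ := by
  rw [Θ, ← Category.assoc, HomologicalComplex.homology_π_ι, Category.assoc,
    HomologicalComplex.p_descOpcycles]

lemma Θ_injective
    (hθi : ∀ z : K.X (n + 1), K.d (n + 1) (n + 2) z = 0 → θ z = 0 → ∃ y, K.d n (n + 1) y = z) :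
    Function.Injective (Θ K n θ hθd) := by
  rw [injective_iff_map_eq_zero]
  intro x hx
  have hsurj : Function.Surjective (K.homologyπ (n + 1)) :=
    (AddCommGrpCat.epi_iff_surjective (K.homologyπ (n + 1))).1 inferInstance
  obtain ⟨z', rfl⟩ := hsurj x
  have h1 : θ (K.iCycles (n + 1) z') = 0 := by
    have := ConcreteCategory.congr_hom (π_Θ K n θ hθd) z'
    rw [ConcreteCategory.comp_apply, ConcreteCategory.comp_apply] at this
    rw [← this]
    exact hx
  have h2 : K.d (n + 1) (n + 2) (K.iCycles (n + 1) z') = 0 := by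
    have := ConcreteCategory.congr_hom (K.iCycles_d (n + 1) (n + 2)) z'
    rw [ConcreteCategory.comp_apply] at this
    exact this
  obtain ⟨y, hy⟩ := hθi _ h2 h1
  have h3 : K.toCycles n (n + 1) y = z' := by
    have hinj : Function.Injective (K.iCycles (n + 1)) :=
      (AddCommGrpCat.mono_iff_injective (K.iCycles (n + 1))).1 inferInstance
    apply hinj
    have := ConcreteCategory.congr_hom (K.toCycles_i n (n + 1)) y
    rw [ConcreteCategory.comp_apply] at this
    rw [this, hy]
  rw [← h3]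
  have := ConcreteCategory.congr_hom (K.toCycles_comp_homologyπ n (n + 1)) y
  rw [ConcreteCategory.comp_apply] at this
  exact this

lemma exists_cycle (z : K.X (n + 1)) (hz : K.d (n + 1) (n + 2) z = 0) :
    ∃ x : K.cycles (n + 1), K.iCycles (n + 1) x = z := by
  let k : AddCommGrpCat.of (ULift.{u} ℤ) ⟶ K.X (n + 1) :=
    AddCommGrpCat.ofHom ((zmultiplesHom _ z).comp AddEquiv.ulift.toAddMonoidHom)
  have hk : k ≫ K.d (n + 1) (n + 2) = 0 := by
    apply AddCommGrpCat.hom_ext
    apply AddMonoidHom.ext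
    intro m
    show K.d (n + 1) (n + 2) (m.down • z) = 0
    rw [map_zsmul, hz, smul_zero]
  refine ⟨K.liftCycles k (n + 2) (by simp) hk (ULift.up 1), ?_⟩
  have := ConcreteCategory.congr_hom (K.liftCycles_i k (n + 2) (by simp) hk) (ULift.up 1)
  rw [ConcreteCategory.comp_apply] at this
  rw [this]
  show (1 : ℤ) • z = z
  rw [one_smul]

lemma Θ_surjective
    (hθs : ∀ g : L, ∃ z : K.X (n + 1), K.d (n + 1) (n + 2) z = 0 ∧ θ z = g) :
    Function.Surjective (Θ K n θ hθd) := by
  intro g
  obtain ⟨z, hz, rfl⟩ := hθs g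
  obtain ⟨x, rfl⟩ := exists_cycle K n z hz
  refine ⟨K.homologyπ (n + 1) x, ?_⟩
  have := ConcreteCategory.congr_hom (π_Θ K n θ hθd) x
  rw [ConcreteCategory.comp_apply, ConcreteCategory.comp_apply] at this
  exact this

lemma homologyMap_Θ (μ : K ⟶ K) (m : L ⟶ L) (h : μ.f (n + 1) ≫ θ = θ ≫ m) :
    HomologicalComplex.homologyMap μ (n + 1) ≫ Θ K n θ hθd = Θ K n θ hθd ≫ m := by
  have h1 : HomologicalComplex.opcyclesMap μ (n + 1) ≫ K.descOpcycles θ n (by simp) hθd =
      K.descOpcycles θ n (by simp) hθd ≫ m := by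
    rw [← cancel_epi (K.pOpcycles (n + 1)), ← Category.assoc, HomologicalComplex.p_opcyclesMap,
      Category.assoc, HomologicalComplex.p_descOpcycles, ← Category.assoc,
      HomologicalComplex.p_descOpcycles, h]
  rw [Θ, ← Category.assoc, HomologicalComplex.homologyι_naturality, Category.assoc, h1,
    Category.assoc]

end complex

section top

variable {X : TopCat.{u}} {ι : Type u} (U : ι → Opens X)

open CechNatTop

/-- **Finiteness criterion**: if the Čech `(n+1)`-cocycles modulo coboundaries of an acyclic sheaf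
are detected equivariantly by a map to a finite module over a Noetherian ring `A`, then
`H^{n+1}` is a finite `A`-module. -/
theorem finite_H_of_cech {A : Type u} [CommRing A] [IsNoetherianRing A] (hcov : iSup U = ⊤)
    (F : CohTop.Ab X) (hF : IsAcyc U F) (n : ℕ)
    (act : A → (F ⟶ F)) (modH : Module A (Sheaf.H.{u} F (n + 1)))
    (hsmul : ∀ (r : A) (x : Sheaf.H.{u} F (n + 1)), r • x = Sheaf.H.map (act r) (n + 1) x)
    {L : Type u} [AddCommGroup L] [Module A L] [Module.Finite A L]
    (θ : ((Č U).obj F).X (n + 1) →+ L)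
    (hθd : ∀ y, θ (((Č U).obj F).d n (n + 1) y) = 0)
    (hθs : ∀ (r : A) (c : ((Č U).obj F).X (n + 1)),
      θ (((Č U).map (act r)).f (n + 1) c) = r • θ c)
    (hθi : ∀ z : ((Č U).obj F).X (n + 1), ((Č U).obj F).d (n + 1) (n + 2) z = 0 → θ z = 0 →
      ∃ y, ((Č U).obj F).d n (n + 1) y = z) :
    Module.Finite A (Sheaf.H.{u} F (n + 1)) := by
  let K := (Č U).obj F
  let θ' : K.X (n + 1) ⟶ AddCommGrpCat.of L := AddCommGrpCat.ofHom θ
  have hθd' : K.d n (n + 1) ≫ θ' = 0 := by
    apply AddCommGrpCat.hom_ext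
    apply AddMonoidHom.ext
    intro y
    exact hθd y
  let ε := cechIso U hcov (n + 1) F hF
  let Ψ : Sheaf.H.{u} F (n + 1) →+ L := ((Θ K n θ' hθd').hom).comp (ε.inv.hom)
  have hΨinj : Function.Injective Ψ := by
    intro x y hxy
    have h1 := Θ_injective K n θ' hθd' hθi hxy
    have h2 : Function.Injective ε.inv :=
      (AddCommGrpCat.mono_iff_injective ε.inv).1 inferInstance
    exact h2 h1
  have hΨsmul : ∀ (r : A) (x : Sheaf.H.{u} F (n + 1)), Ψ (r • x) = r • Ψ x := by
    intro r x
    rw [hsmul]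
    have nat := cechIso_natural U hcov (n + 1) F F hF hF (act r)
    -- invert the naturality square
    have nat' : AddCommGrpCat.ofHom (Sheaf.H.map (act r) (n + 1)) ≫ ε.inv =
        ε.inv ≫ HomologicalComplex.homologyMap ((Č U).map (act r)) (n + 1) := by
      rw [← cancel_mono ε.hom, Category.assoc, Category.assoc, nat, ε.inv_hom_id,
        Category.comp_id, ε.inv_hom_id_assoc]
    have hm := homologyMap_Θ K n θ' hθd' ((Č U).map (act r))
      (AddCommGrpCat.ofHom (DistribSMul.toAddMonoidHom L r)) (by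
        apply AddCommGrpCat.hom_ext
        apply AddMonoidHom.ext
        intro c
        exact hθs r c)
    have e1 := ConcreteCategory.congr_hom nat' x
    rw [ConcreteCategory.comp_apply, ConcreteCategory.comp_apply] at e1
    have e2 := ConcreteCategory.congr_hom hm (ε.inv x)
    rw [ConcreteCategory.comp_apply, ConcreteCategory.comp_apply] at e2
    show (Θ K n θ' hθd') (ε.inv (Sheaf.H.map (act r) (n + 1) x)) = r • (Θ K n θ' hθd') (ε.inv x)
    have e1' : ε.inv (Sheaf.H.map (act r) (n + 1) x) =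
        HomologicalComplex.homologyMap ((Č U).map (act r)) (n + 1) (ε.inv x) := e1
    rw [e1', e2]
    rfl
  let Ψl : Sheaf.H.{u} F (n + 1) →ₗ[A] L :=
    { toFun := Ψ
      map_add' := map_add Ψ
      map_smul' := hΨsmul }
  exact Module.Finite.of_injective Ψl hΨinj

/-- **Computation criterion**: if the Čech `(n+1)`-cocycles modulo coboundaries of an acyclic sheaf
are computed equivariantly by a map `θ` to `L`, then `H^{n+1} ≃+ L` equivariantly. -/
theorem exists_addEquiv_of_cech {A : Type u} [CommRing A] (hcov : iSup U = ⊤)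
    (F : CohTop.Ab X) (hF : IsAcyc U F) (n : ℕ) (act : A → (F ⟶ F))
    {L : Type u} [AddCommGroup L] [Module A L]
    (θ : ((Č U).obj F).X (n + 1) →+ L)
    (hθd : ∀ y, θ (((Č U).obj F).d n (n + 1) y) = 0)
    (hθs : ∀ (r : A) (c : ((Č U).obj F).X (n + 1)),
      θ (((Č U).map (act r)).f (n + 1) c) = r • θ c)
    (hθi : ∀ z : ((Č U).obj F).X (n + 1), ((Č U).obj F).d (n + 1) (n + 2) z = 0 → θ z = 0 →
      ∃ y, ((Č U).obj F).d n (n + 1) y = z)
    (hθsurj : ∀ g : L, ∃ z : ((Č U).obj F).X (n + 1),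
      ((Č U).obj F).d (n + 1) (n + 2) z = 0 ∧ θ z = g) :
    ∃ Ψ : Sheaf.H.{u} F (n + 1) ≃+ L,
      ∀ (r : A) (x : Sheaf.H.{u} F (n + 1)), Ψ (Sheaf.H.map (act r) (n + 1) x) = r • Ψ x := by
  let K := (Č U).obj F
  let θ' : K.X (n + 1) ⟶ AddCommGrpCat.of L := AddCommGrpCat.ofHom θ
  have hθd' : K.d n (n + 1) ≫ θ' = 0 := by
    apply AddCommGrpCat.hom_ext
    apply AddMonoidHom.ext
    intro y
    exact hθd y
  let ε := cechIso U hcov (n + 1) F hF
  let Ψ : Sheaf.H.{u} F (n + 1) →+ L := ((Θ K n θ' hθd').hom).comp (ε.inv.hom)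
  have hΨinj : Function.Injective Ψ := by
    intro x y hxy
    have h1 := Θ_injective K n θ' hθd' hθi hxy
    have h2 : Function.Injective ε.inv :=
      (AddCommGrpCat.mono_iff_injective ε.inv).1 inferInstance
    exact h2 h1
  have hΨsurj : Function.Surjective Ψ := by
    intro g
    obtain ⟨w, hw⟩ := Θ_surjective K n θ' hθd' hθsurj g
    have h2 : Function.Surjective ε.inv :=
      (AddCommGrpCat.epi_iff_surjective ε.inv).1 inferInstance
    obtain ⟨x, rfl⟩ := h2 w
    exact ⟨x, hw⟩
  have hΨsmul : ∀ (r : A) (x : Sheaf.H.{u} F (n + 1)),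
      Ψ (Sheaf.H.map (act r) (n + 1) x) = r • Ψ x := by
    intro r x
    have nat := cechIso_natural U hcov (n + 1) F F hF hF (act r)
    have nat' : AddCommGrpCat.ofHom (Sheaf.H.map (act r) (n + 1)) ≫ ε.inv =
        ε.inv ≫ HomologicalComplex.homologyMap ((Č U).map (act r)) (n + 1) := by
      rw [← cancel_mono ε.hom, Category.assoc, Category.assoc, nat, ε.inv_hom_id,
        Category.comp_id, ε.inv_hom_id_assoc]
    have hm := homologyMap_Θ K n θ' hθd' ((Č U).map (act r))
      (AddCommGrpCat.ofHom (DistribSMul.toAddMonoidHom L r)) (by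
        apply AddCommGrpCat.hom_ext
        apply AddMonoidHom.ext
        intro c
        exact hθs r c)
    have e1 := ConcreteCategory.congr_hom nat' x
    rw [ConcreteCategory.comp_apply, ConcreteCategory.comp_apply] at e1
    have e2 := ConcreteCategory.congr_hom hm (ε.inv x)
    rw [ConcreteCategory.comp_apply, ConcreteCategory.comp_apply] at e2
    show (Θ K n θ' hθd') (ε.inv (Sheaf.H.map (act r) (n + 1) x)) = r • (Θ K n θ' hθd') (ε.inv x)
    have e1' : ε.inv (Sheaf.H.map (act r) (n + 1) x) =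
        HomologicalComplex.homologyMap ((Č U).map (act r)) (n + 1) (ε.inv x) := e1
    rw [e1', e2]
    rfl
  exact ⟨AddEquiv.ofBijective Ψ ⟨hΨinj, hΨsurj⟩, hΨsmul⟩

end top

end CechFin

end Groth.Agent.Lib.Helper20
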