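import Mathlib
import Groth.Agent.Lib.Helper27.CechInj

/-!
# Čech acyclicity from an algebraic "partition of unity" (helper20)

* `dFun`, `exists_primitive`: purely algebraic lemma on `Λ`-valued functions on tuples of indices.
* `exactAt_of_partition`: for a presheaf of abelian groups `F` on a category `D` with finite
  products and a finite family `U : ι → D`, if the groups `F(U_a)` embed compatibly into one abelian
  group `Λ` and there are endomorphisms `P k` of `Λ` with `∑ P k = id` on the images and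
  `P k (im F(U_{k,a})) ⊆ im F(U_a)`, then the Čech complex of `F` is exact at degree `p + 1`.
-/

set_option autoImplicit false
set_option linter.unusedVariables false
set_option linter.unusedSectionVars false

universe u v

open CategoryTheory Limits Opposite

namespace Groth.Agent.Lib.Helper20.CechPoU

open Groth.Agent.Lib.helper27

section algebra

variable {ι : Type*} [Fintype ι] {Λ : Type*} [AddCommGroup Λ]

/-- The alternating-sum differential on `Λ`-valued functions on tuples. -/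
def dFun (p : ℕ) (f : (Fin (p + 1) → ι) → Λ) : (Fin (p + 2) → ι) → Λ :=
  fun b => ∑ i : Fin (p + 2), (-1 : ℤ) ^ (i : ℕ) • f (b ∘ Fin.succAbove i)

theorem exists_primitive (p : ℕ) (S₀ : (Fin (p + 1) → ι) → AddSubgroup Λ)
    (S₁ : (Fin (p + 2) → ι) → AddSubgroup Λ) (P : ι → Λ →+ Λ)
    (hP : ∀ (k : ι) (a : Fin (p + 1) → ι) (x : Λ), x ∈ S₁ (Fin.cons k a) → P k x ∈ S₀ a)
    (hsum : ∀ (b : Fin (p + 2) → ι) (x : Λ), x ∈ S₁ b → ∑ k, P k x = x)
    (f : (Fin (p + 2) → ι) → Λ) (hf : ∀ b, f b ∈ S₁ b) (hdf : dFun (p + 1) f = 0) :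
    ∃ g : (Fin (p + 1) → ι) → Λ, (∀ a, g a ∈ S₀ a) ∧ dFun p g = f := by
  refine ⟨fun a => ∑ k, P k (f (Fin.cons k a)), fun a => ?_, ?_⟩
  · exact AddSubgroup.sum_mem _ (fun k _ => hP k a _ (hf _))
  · funext b
    have key : ∀ k : ι,
        ∑ i : Fin (p + 2), (-1 : ℤ) ^ (i : ℕ) • f (Fin.cons k (b ∘ Fin.succAbove i)) = f b := by
      intro k
      have h1 := congrFun hdf (Fin.cons k b)
      simp only [dFun, Pi.zero_apply] at h1
      rw [Fin.sum_univ_succ (n := p + 2)] at h1
      simp only [Cech.cons_comp_succAbove_zero, Cech.cons_comp_succAbove_succ, Fin.val_zero,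
        pow_zero, one_smul, Fin.val_succ, pow_succ, mul_neg, mul_one, neg_smul,
        Finset.sum_neg_distrib] at h1
      rw [add_neg_eq_zero] at h1
      exact h1.symm
    show ∑ i : Fin (p + 2), (-1 : ℤ) ^ (i : ℕ) • ∑ k, P k (f (Fin.cons k (b ∘ Fin.succAbove i))) = f b
    simp only [Finset.smul_sum]
    rw [Finset.sum_comm]
    have h2 : ∀ k : ι, ∑ i : Fin (p + 2), (-1 : ℤ) ^ (i : ℕ) •
        P k (f (Fin.cons k (b ∘ Fin.succAbove i))) = P k (f b) := by
      intro k
      rw [← key k, map_sum]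
      simp only [map_zsmul]
    rw [Finset.sum_congr rfl (fun k _ => h2 k)]
    exact hsum b _ (hf b)

end algebra

section cech

variable {D : Type u} [SmallCategory D] [HasFiniteProducts D] {ι : Type u} [Fintype ι] (U : ι → D)
  (F : Dᵒᵖ ⥤ AddCommGrpCat.{u}) {Λ : Type v} [AddCommGroup Λ]
  (ρ : ∀ (q : ℕ) (a : Fin (q + 1) → ι), (Cech.Z U F q a) →+ Λ)

/-- The family of images in `Λ` of the components of a Čech cochain. -/
noncomputable def r (q : ℕ) (x : (∏ᶜ Cech.Z U F q : AddCommGrpCat.{u})) : (Fin (q + 1) → ι) → Λ :=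
  fun a => ρ q a (Pi.π (Cech.Z U F q) a x)

lemma r_zero (q : ℕ) : r U F ρ q 0 = 0 := by
  funext a
  simp [r]

lemma r_d'
    (hface : ∀ (q : ℕ) (b : Fin (q + 2) → ι) (i : Fin (q + 2))
      (s : Cech.Z U F q (b ∘ Fin.succAbove i)),
      ρ (q + 1) b (F.map (Cech.face U b i).op s) = ρ q (b ∘ Fin.succAbove i) s)
    (q : ℕ) (x : (∏ᶜ Cech.Z U F q : AddCommGrpCat.{u})) :
    r U F ρ (q + 1) (Cech.d' U F q x) = dFun q (r U F ρ q x) := by
  funext b
  simp only [r, dFun]
  rw [Cech.d'_eq, Cech.hom_sum_apply, map_sum, map_sum]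
  refine Finset.sum_congr rfl (fun i _ => ?_)
  rw [Cech.hom_zsmul_apply, map_zsmul, map_zsmul, Cech.π_δ'_apply, hface]

lemma r_injective (q : ℕ) (hinj : ∀ a, Function.Injective (ρ q a)) :
    Function.Injective (r U F ρ q) := by
  intro x y hxy
  apply (Concrete.productEquiv (Cech.Z U F q)).injective
  funext a
  rw [Concrete.productEquiv_apply_apply, Concrete.productEquiv_apply_apply]
  exact hinj a (congrFun hxy a)

lemma exists_r_eq (q : ℕ) (g : (Fin (q + 1) → ι) → Λ) (hg : ∀ a, g a ∈ (ρ q a).range) :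
    ∃ y, r U F ρ q y = g := by
  choose t ht using hg
  refine ⟨(Concrete.productEquiv (Cech.Z U F q)).symm t, ?_⟩
  funext a
  simp only [r]
  rw [Concrete.productEquiv_symm_apply_π]
  exact ht a

/-- **Čech acyclicity from a partition of unity on a common overgroup.** -/
theorem exactAt_of_partition (p : ℕ)
    (hinj : ∀ b, Function.Injective (ρ (p + 1) b))
    (hface : ∀ (q : ℕ) (b : Fin (q + 2) → ι) (i : Fin (q + 2))
      (s : Cech.Z U F q (b ∘ Fin.succAbove i)),
      ρ (q + 1) b (F.map (Cech.face U b i).op s) = ρ q (b ∘ Fin.succAbove i) s)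
    (P : ι → Λ →+ Λ)
    (hP : ∀ (k : ι) (a : Fin (p + 1) → ι) (x : Λ),
      x ∈ (ρ (p + 1) (Fin.cons k a)).range → P k x ∈ (ρ p a).range)
    (hsum : ∀ (b : Fin (p + 2) → ι) (x : Λ), x ∈ (ρ (p + 1) b).range → ∑ k, P k x = x) :
    ((cechComplexFunctor U).obj F).ExactAt (p + 1) := by
  have main : ∀ x : (∏ᶜ Cech.Z U F (p + 1) : AddCommGrpCat.{u}), Cech.d' U F (p + 1) x = 0 →
      ∃ y : (∏ᶜ Cech.Z U F p : AddCommGrpCat.{u}), Cech.d' U F p y = x := by
    intro x hx'
    have h1 : dFun (p + 1) (r U F ρ (p + 1) x) = 0 := by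
      rw [← r_d' U F ρ hface, hx', r_zero]
    obtain ⟨g, hg, hdg⟩ := exists_primitive p (fun a => (ρ p a).range)
      (fun b => (ρ (p + 1) b).range) P hP hsum (r U F ρ (p + 1) x) (fun b => ⟨_, rfl⟩) h1
    obtain ⟨y, hy⟩ := exists_r_eq U F ρ p g hg
    refine ⟨y, ?_⟩
    apply r_injective U F ρ (p + 1) hinj
    rw [r_d' U F ρ hface, hy, hdg]
  apply Cech.exactAt_of_forall
  exact main

end cech

end Groth.Agent.Lib.Helper20.CechPoU
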