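import Mathlib
import Groth.Prelude.Def_CohB1

open MvPolynomial HomogeneousLocalization

namespace Groth.Agent.Lib.Helper20.ProjGamma

universe u
variable {σ : Type*} {R : Type u} [CommRing R]

/-- Multiplication by a monic monomial is injective. -/
theorem mul_monomial_one_cancel {p q : MvPolynomial σ R} (s : σ →₀ ℕ)
    (h : p * monomial s 1 = q * monomial s 1) : p = q := by
  ext m
  have := congrArg (coeff (m + s)) h
  simpa [coeff_mul_monomial] using this

theorem monomial_one_mem_nonZeroDivisors (s : σ →₀ ℕ) :
    (monomial s (1 : R)) ∈ nonZeroDivisors (MvPolynomial σ R) := by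
  rw [mem_nonZeroDivisors_iff_right]
  intro p hp
  exact mul_monomial_one_cancel s (by rw [hp, zero_mul])

/-- If `p * X j ^ b = q * X i ^ a` with `i ≠ j`, every monomial of `p` has `i`-exponent `≥ a`. -/
theorem le_of_mem_support [DecidableEq σ] {p q : MvPolynomial σ R} {i j : σ} (hij : i ≠ j) (a b : ℕ)
    (h : p * X j ^ b = q * X i ^ a) {m : σ →₀ ℕ} (hm : coeff m p ≠ 0) : a ≤ m i := by
  rw [X_pow_eq_monomial, X_pow_eq_monomial] at h
  have h1 := congrArg (coeff (m + Finsupp.single j b)) h
  rw [coeff_mul_monomial, mul_one, coeff_mul_monomial'] at h1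
  by_contra hlt
  rw [if_neg] at h1
  · exact hm h1
  · intro hle
    have := hle i
    simp [Finsupp.single_eq_of_ne hij] at this
    omega

/-- A homogeneous polynomial of degree `a` whose monomials all have `i`-exponent `≥ a` is
`c * X i ^ a`. -/
theorem eq_C_mul_X_pow [DecidableEq σ] {p : MvPolynomial σ R} {i : σ} {a : ℕ} (hp : p.IsHomogeneous a)
    (h : ∀ m, coeff m p ≠ 0 → a ≤ m i) : p = C (coeff (Finsupp.single i a) p) * X i ^ a := by
  have key : ∀ m, coeff m p ≠ 0 → m = Finsupp.single i a := by
    intro m hm
    have h1 : m.degree = a := by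
      rw [Finsupp.degree_eq_weight_one]
      exact hp hm
    have h2 := h m hm
    have h3 : Finsupp.single i (m i) ≤ m := by
      intro k
      by_cases hk : k = i
      · subst hk; simp
      · simp [Finsupp.single_eq_of_ne hk]
    obtain ⟨m', hm'⟩ := exists_add_of_le h3
    have h4 : m.degree = m i + m'.degree := by
      conv_lhs => rw [hm']
      rw [map_add, Finsupp.degree_single]
    have h5 : m'.degree = 0 := by omega
    have h6 : m' = 0 := by
      rwa [Finsupp.degree_eq_zero_iff] at h5
    rw [hm', h6, add_zero]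
    congr 1
    omega
  ext m
  rw [X_pow_eq_monomial, C_mul_monomial, mul_one, coeff_monomial]
  split_ifs with hm
  · rw [hm]
  · by_contra h0
    exact hm (key m h0).symm

section core
variable (n : ℕ) (R : Type u) [CommRing R]

theorem X_mem (i : Fin (n + 1)) :
    (X i : MvPolynomial (Fin (n + 1)) R) ∈ CohB1.polyGrading n R 1 :=
  isHomogeneous_X R i

/-- The structure map `R → A_(f)`. -/
noncomputable def toAway (f : MvPolynomial (Fin (n + 1)) R) :
    R →+* Away (CohB1.polyGrading n R) f :=
  (fromZeroRingHom (CohB1.polyGrading n R) _).comp (algebraMap R (CohB1.polyGrading n R 0))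

theorem val_toAway (f : MvPolynomial (Fin (n + 1)) R) (r : R) :
    (toAway n R f r).val =
      algebraMap (MvPolynomial (Fin (n + 1)) R) (Localization.Away f) (C r) := by
  show (HomogeneousLocalization.mk ⟨0, algebraMap R (CohB1.polyGrading n R 0) r, 1, one_mem _⟩ :
    Away (CohB1.polyGrading n R) f).val = _
  rw [HomogeneousLocalization.val_mk]
  exact Localization.mk_one_eq_algebraMap _

theorem toAway_injective (s : Fin (n + 1) →₀ ℕ) :
    Function.Injective (toAway n R (monomial s 1)) := by
  intro r r' h
  have h1 := congrArg HomogeneousLocalization.val h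
  rw [val_toAway, val_toAway] at h1
  have h2 : Function.Injective (algebraMap (MvPolynomial (Fin (n + 1)) R)
      (Localization.Away (monomial s (1 : R)))) := by
    apply IsLocalization.injective (M := Submonoid.powers (monomial s (1 : R)))
    apply Submonoid.powers_le.mpr
    exact monomial_one_mem_nonZeroDivisors s
  exact C_injective _ _ (h2 h1)

theorem X_mem_nonZeroDivisors (i : Fin (n + 1)) :
    (X i : MvPolynomial (Fin (n + 1)) R) ∈ nonZeroDivisors (MvPolynomial (Fin (n + 1)) R) :=
  monomial_one_mem_nonZeroDivisors (Finsupp.single i 1)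

theorem poly_identity (i j : Fin (n + 1)) (di dj : ℕ) (pi pj : MvPolynomial (Fin (n + 1)) R)
    (hpi : pi ∈ CohB1.polyGrading n R (di • 1)) (hpj : pj ∈ CohB1.polyGrading n R (dj • 1))
    (h : awayMap (CohB1.polyGrading n R) (X_mem n R j) rfl
        (Away.mk (CohB1.polyGrading n R) (X_mem n R i) di pi hpi) =
      awayMap (CohB1.polyGrading n R) (X_mem n R i) (mul_comm (X i) (X j))
        (Away.mk (CohB1.polyGrading n R) (X_mem n R j) dj pj hpj)) :
    pi * X j ^ dj = pj * X i ^ di := by
  rw [awayMap_mk, awayMap_mk] at h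
  have h1 := congrArg HomogeneousLocalization.val h
  rw [Away.val_mk, Away.val_mk, Localization.mk_eq_mk_iff, Localization.r_iff_exists] at h1
  obtain ⟨c, hc⟩ := h1
  have hcm : (c : MvPolynomial (Fin (n + 1)) R) ∈ nonZeroDivisors _ := by
    obtain ⟨k, hk⟩ := c.2
    rw [← hk]
    exact pow_mem (mul_mem (X_mem_nonZeroDivisors n R i) (X_mem_nonZeroDivisors n R j)) k
  have hM : (c : MvPolynomial (Fin (n + 1)) R) * X i ^ dj * X j ^ di ∈ nonZeroDivisors _ :=
    mul_mem (mul_mem hcm (pow_mem (X_mem_nonZeroDivisors n R i) dj))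
      (pow_mem (X_mem_nonZeroDivisors n R j) di)
  rw [← mul_cancel_right_mem_nonZeroDivisors hM]
  simp only [mul_pow] at hc
  linear_combination hc

theorem mk_C_mul_X_pow (i : Fin (n + 1)) (d : ℕ) (c : R)
    (hp : C c * X i ^ d ∈ CohB1.polyGrading n R (d • 1)) :
    Away.mk (CohB1.polyGrading n R) (X_mem n R i) d (C c * X i ^ d) hp = toAway n R (X i) c := by
  apply HomogeneousLocalization.val_injective
  rw [Away.val_mk, val_toAway, Localization.mk_eq_mk', IsLocalization.mk'_eq_iff_eq_mul, ← map_mul]

theorem awayMap_toAway {f g x : MvPolynomial (Fin (n + 1)) R} {e : ℕ}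
    (hg : g ∈ CohB1.polyGrading n R e) (hx : x = f * g) (r : R) :
    awayMap (CohB1.polyGrading n R) hg hx (toAway n R f r) = toAway n R x r :=
  awayMap_fromZeroRingHom _ hg hx _

theorem core (a : ∀ i : Fin (n + 1), Away (CohB1.polyGrading n R) (X i))
    (h : ∀ i j, awayMap (CohB1.polyGrading n R) (X_mem n R j) rfl (a i) =
      awayMap (CohB1.polyGrading n R) (X_mem n R i) (mul_comm (X i) (X j)) (a j)) :
    ∃ r : R, ∀ i, a i = toAway n R (X i) r := by
  classical
  choose d p hp ha using fun i => Away.mk_surjective (CohB1.polyGrading n R) (X_mem n R i) (a i)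
  -- each numerator is a constant times a power of `X i`
  have hmono : ∀ i, p i = C (coeff (Finsupp.single i (d i)) (p i)) * X i ^ d i := by
    intro i
    have hhom : (p i).IsHomogeneous (d i) := by
      have := hp i
      rwa [smul_eq_mul, mul_one] at this
    apply eq_C_mul_X_pow hhom
    intro m hm
    by_cases hex : ∃ j, i ≠ j
    · obtain ⟨j, hij⟩ := hex
      have hid := poly_identity n R i j (d i) (d j) (p i) (p j) (hp i) (hp j)
        (by rw [ha i, ha j]; exact h i j)
      exact le_of_mem_support hij (d i) (d j) hid hm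
    · push Not at hex
      have h1 : m.degree = d i := by
        rw [Finsupp.degree_eq_weight_one]
        exact hhom hm
      rw [Finsupp.degree_eq_sum, Fintype.sum_eq_single i (fun k hk => absurd (hex k) hk.symm)] at h1
      exact h1.ge
  have hai : ∀ i, a i = toAway n R (X i) (coeff (Finsupp.single i (d i)) (p i)) := by
    intro i
    rw [← ha i]
    have := mk_C_mul_X_pow n R i (d i) (coeff (Finsupp.single i (d i)) (p i))
      (by rw [← hmono i]; exact hp i)
    rw [← this]
    congr 1
    exact hmono i
  have hc : ∀ i j, coeff (Finsupp.single i (d i)) (p i) = coeff (Finsupp.single j (d j)) (p j) := by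
    intro i j
    have h1 := h i j
    rw [hai i, hai j, awayMap_toAway, awayMap_toAway] at h1
    have hXX : (X i * X j : MvPolynomial (Fin (n + 1)) R) =
        monomial (Finsupp.single i 1 + Finsupp.single j 1) 1 := by
      rw [X, X, monomial_mul, one_mul]
    have hinj := toAway_injective n R (Finsupp.single i 1 + Finsupp.single j 1)
    rw [← hXX] at hinj
    exact hinj h1
  exact ⟨coeff (Finsupp.single 0 (d 0)) (p 0), fun i => (hai i).trans (by rw [hc i 0])⟩

end core

end Groth.Agent.Lib.Helper20.ProjGamma
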