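import Mathlib
import Groth.Prelude.Def_CohB1
import Groth.Agent.Lib.Helper20.ProjGammaAlg

/-!
# Degree-zero localizations of the polynomial ring inside the Laurent polynomial ring (helper20)

For `A = R[x_0..x_n]` graded by degree and a monomial `f = x^s`, the ring `A_(f)` embeds into the
Laurent polynomial ring `Lau = R[ℤ^{n+1}]`, with image the span of the Laurent monomials `e` with
`∑ e = 0` and `e j ≥ 0` whenever `s j = 0`.
-/

set_option autoImplicit false
set_option linter.unusedVariables false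
set_option linter.unusedSectionVars false

universe u

open MvPolynomial HomogeneousLocalization

namespace Groth.Agent.Lib.Helper20.ProjLaurent

variable (n : ℕ) (R : Type u) [CommRing R]

/-- The Laurent polynomial ring in `n + 1` variables. -/
abbrev Lau : Type u := AddMonoidAlgebra R (Fin (n + 1) → ℤ)

/-- Exponent vectors of polynomials as exponent vectors of Laurent polynomials. -/
def expHom : (Fin (n + 1) →₀ ℕ) →+ (Fin (n + 1) → ℤ) where
  toFun s i := (s i : ℤ)
  map_zero' := by funext i; simp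
  map_add' s t := by funext i; simp

lemma expHom_apply (s : Fin (n + 1) →₀ ℕ) (i : Fin (n + 1)) : expHom n s i = (s i : ℤ) := rfl

lemma expHom_injective : Function.Injective (expHom n) := by
  intro s t h
  ext i
  have := congrFun h i
  simpa [expHom_apply] using this

/-- The inclusion of the polynomial ring in the Laurent polynomial ring. -/
noncomputable def φ : MvPolynomial (Fin (n + 1)) R →+* Lau n R :=
  AddMonoidAlgebra.mapDomainRingHom R (expHom n)

lemma φ_monomial (s : Fin (n + 1) →₀ ℕ) (c : R) :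
    φ n R (monomial s c) = AddMonoidAlgebra.single (expHom n s) c := by
  rw [← single_eq_monomial]
  exact AddMonoidAlgebra.mapDomain_single

lemma φ_injective : Function.Injective (φ n R) :=
  AddMonoidAlgebra.mapDomain_injective (expHom_injective n)

lemma φ_monomial_mul_inv (s : Fin (n + 1) →₀ ℕ) :
    φ n R (monomial s 1) * AddMonoidAlgebra.single (-(expHom n s)) 1 = 1 := by
  rw [φ_monomial, AddMonoidAlgebra.single_mul_single, add_neg_cancel, mul_one]
  rfl

lemma isUnit_φ_monomial (s : Fin (n + 1) →₀ ℕ) : IsUnit (φ n R (monomial s 1)) :=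
  isUnit_iff_exists_inv.mpr ⟨_, φ_monomial_mul_inv n R s⟩

section rho

variable {n R}

/-- The embedding `A_(f) → Lau` for `f` with `φ f` a unit. -/
noncomputable def ρ (f : MvPolynomial (Fin (n + 1)) R) (hf : IsUnit (φ n R f)) :
    Away (CohB1.polyGrading n R) f →+* Lau n R :=
  (Localization.awayLift (φ n R) f hf).comp
    (algebraMap (Away (CohB1.polyGrading n R) f) (Localization.Away f))

lemma ρ_apply (f : MvPolynomial (Fin (n + 1)) R) (hf : IsUnit (φ n R f))
    (a : Away (CohB1.polyGrading n R) f) :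
    ρ f hf a = Localization.awayLift (φ n R) f hf a.val := rfl

lemma ρ_awayMap {f g x : MvPolynomial (Fin (n + 1)) R} {e : ℕ}
    (hg : g ∈ CohB1.polyGrading n R e) (hx : x = f * g)
    (hf : IsUnit (φ n R f)) (hxu : IsUnit (φ n R x)) (a : Away (CohB1.polyGrading n R) f) :
    ρ x hxu (awayMap (CohB1.polyGrading n R) hg hx a) = ρ f hf a := by
  rw [ρ_apply, ρ_apply, val_awayMap]
  have key : (Localization.awayLift (φ n R) x hxu).comp
      (Localization.awayLift (algebraMap (MvPolynomial (Fin (n + 1)) R) (Localization.Away x)) f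
        (isUnit_of_dvd_unit (map_dvd _ ⟨_, hx⟩) (IsLocalization.Away.algebraMap_isUnit x))) =
      Localization.awayLift (φ n R) f hf := by
    apply IsLocalization.ringHom_ext (Submonoid.powers f)
    refine RingHom.ext fun z => ?_
    simp [Localization.awayLift, IsLocalization.Away.lift]
  exact congrArg (fun h => h a.val) key

lemma ρ_mk {f : MvPolynomial (Fin (n + 1)) R} (hf : IsUnit (φ n R f)) (v : Lau n R)
    (hv : φ n R f * v = 1) {d : ℕ} (hfd : f ∈ CohB1.polyGrading n R d) (m : ℕ)
    (z : MvPolynomial (Fin (n + 1)) R) (hz : z ∈ CohB1.polyGrading n R (m • d)) :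
    ρ f hf (Away.mk (CohB1.polyGrading n R) hfd m z hz) = φ n R z * v ^ m := by
  rw [ρ_apply, Away.val_mk]
  exact Localization.awayLift_mk (φ n R) f z v hv m

end rho

section image

variable {n R}

lemma monomial_mem (s : Fin (n + 1) →₀ ℕ) :
    (monomial s (1 : R)) ∈ CohB1.polyGrading n R s.degree :=
  isHomogeneous_monomial _ rfl

/-- The inverse of `φ (x^s)`. -/
noncomputable abbrev vInv (s : Fin (n + 1) →₀ ℕ) : Lau n R :=
  AddMonoidAlgebra.single (-(expHom n s)) 1

lemma vInv_pow (s : Fin (n + 1) →₀ ℕ) (m : ℕ) :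
    (vInv s : Lau n R) ^ m = AddMonoidAlgebra.single (-(m • expHom n s)) 1 := by
  rw [vInv, AddMonoidAlgebra.single_pow, one_pow, smul_neg]

lemma ρ_mk_monomial (s : Fin (n + 1) →₀ ℕ) (hf : IsUnit (φ n R (monomial s 1))) (m : ℕ)
    (z : MvPolynomial (Fin (n + 1)) R) (hz : z ∈ CohB1.polyGrading n R (m • s.degree)) :
    ρ (monomial s 1) hf (Away.mk (CohB1.polyGrading n R) (monomial_mem s) m z hz) =
      φ n R z * AddMonoidAlgebra.single (-(m • expHom n s)) 1 := by
  rw [ρ_mk hf (vInv s) (φ_monomial_mul_inv n R s), vInv_pow]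

lemma ρ_injective (s : Fin (n + 1) →₀ ℕ) (hf : IsUnit (φ n R (monomial s 1))) :
    Function.Injective (ρ (monomial s (1 : R)) hf) := by
  rw [injective_iff_map_eq_zero]
  intro a ha
  obtain ⟨m, z, hz, rfl⟩ := Away.mk_surjective _ (monomial_mem s) a
  rw [ρ_mk hf (vInv s) (φ_monomial_mul_inv n R s)] at ha
  have hu : IsUnit ((vInv s : Lau n R) ^ m) :=
    (isUnit_iff_exists_inv'.mpr ⟨_, φ_monomial_mul_inv n R s⟩).pow m
  have h0 : φ n R z = 0 := (hu.mul_left_eq_zero).mp ha
  have hz0 : z = 0 := φ_injective n R (h0.trans (map_zero _).symm)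
  subst hz0
  apply HomogeneousLocalization.val_injective
  rw [Away.val_mk, Localization.mk_zero, HomogeneousLocalization.val_zero]

/-- The exponent vectors of degree `0` that are nonnegative outside the support of `s`. -/
def E (s : Fin (n + 1) →₀ ℕ) : Set (Fin (n + 1) → ℤ) :=
  {e | ∑ i, e i = 0 ∧ ∀ j, s j = 0 → 0 ≤ e j}

variable (R) in
/-- Laurent polynomials supported in `E s`. -/
def Sup (s : Fin (n + 1) →₀ ℕ) : AddSubgroup (Lau n R) where
  carrier := {x | ∀ e ∈ x.coeff.support, e ∈ E s}
  zero_mem' := by simp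
  add_mem' := by
    intro a b ha hb e he
    rw [AddMonoidAlgebra.coeff_add] at he
    rcases Finset.mem_union.mp (Finsupp.support_add he) with h | h
    · exact ha e h
    · exact hb e h
  neg_mem' := by
    intro a ha e he
    rw [AddMonoidAlgebra.coeff_neg, Finsupp.support_neg] at he
    exact ha e he

lemma mem_Sup (s : Fin (n + 1) →₀ ℕ) (x : Lau n R) :
    x ∈ Sup R s ↔ ∀ e ∈ x.coeff.support, e ∈ E s := Iff.rfl

lemma single_mem_Sup (s : Fin (n + 1) →₀ ℕ) (e : Fin (n + 1) → ℤ) (c : R) (he : e ∈ E s) :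
    (AddMonoidAlgebra.single e c : Lau n R) ∈ Sup R s := by
  intro e' he'
  rw [AddMonoidAlgebra.coeff_single] at he'
  have := Finset.mem_singleton.mp (Finsupp.support_single_subset he')
  rw [this]
  exact he

lemma range_ρ_le (s : Fin (n + 1) →₀ ℕ) (hf : IsUnit (φ n R (monomial s 1))) :
    (ρ (monomial s (1 : R)) hf).toAddMonoidHom.range ≤ Sup R s := by
  rintro _ ⟨a, rfl⟩
  obtain ⟨m, z, hz, rfl⟩ := Away.mk_surjective _ (monomial_mem s) a
  show ρ (monomial s 1) hf _ ∈ _
  rw [ρ_mk_monomial, z.as_sum, map_sum, Finset.sum_mul]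
  refine AddSubgroup.sum_mem _ (fun t ht => ?_)
  rw [φ_monomial, AddMonoidAlgebra.single_mul_single]
  apply single_mem_Sup
  have hdeg : m • s.degree = ∑ i ∈ t.support, t i :=
    ((mem_homogeneousSubmodule _ _).mp hz).degree_eq_sum_deg_support ht
  have hdeg' : (m : ℤ) * ∑ i, (s i : ℤ) = ∑ i, (t i : ℤ) := by
    have h1 : m * ∑ i, s i = ∑ i, t i := by
      rw [← Finsupp.degree_eq_sum, ← Finsupp.degree_eq_sum, Finsupp.degree_apply t]
      exact hdeg
    exact_mod_cast h1
  have happ : ∀ i, (expHom n t + -(m • expHom n s)) i = (t i : ℤ) - m * (s i : ℤ) := by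
    intro i
    rw [Pi.add_apply, Pi.neg_apply, Pi.smul_apply, expHom_apply, expHom_apply, nsmul_eq_mul]
    ring
  constructor
  · rw [Finset.sum_congr rfl (fun i _ => happ i), Finset.sum_sub_distrib, ← Finset.mul_sum, hdeg']
    ring
  · intro j hj
    rw [happ, hj]
    simp

lemma single_mem_range (s : Fin (n + 1) →₀ ℕ) (hf : IsUnit (φ n R (monomial s 1)))
    (e : Fin (n + 1) → ℤ) (c : R) (he : e ∈ E s) :
    (AddMonoidAlgebra.single e c : Lau n R) ∈ (ρ (monomial s (1 : R)) hf).toAddMonoidHom.range := by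
  set m : ℕ := ∑ j, (e j).natAbs with hm
  have hnn : ∀ j, 0 ≤ e j + m * (s j : ℤ) := by
    intro j
    by_cases hj : s j = 0
    · rw [hj]
      simpa using he.2 j hj
    · have h1 : (1 : ℤ) ≤ s j := by exact_mod_cast Nat.one_le_iff_ne_zero.mpr hj
      have h2 : ((e j).natAbs : ℤ) ≤ m := by
        exact_mod_cast Finset.single_le_sum (f := fun j => (e j).natAbs)
          (fun _ _ => Nat.zero_le _) (Finset.mem_univ j)
      have h3 : -e j ≤ (e j).natAbs := by
        rw [Int.natCast_natAbs]
        exact neg_le_abs (e j)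
      have h4 : (0 : ℤ) ≤ m := Int.natCast_nonneg m
      nlinarith
  let t : Fin (n + 1) →₀ ℕ :=
    Finsupp.equivFunOnFinite.symm (fun j => (e j + m * (s j : ℤ)).toNat)
  have ht : ∀ j, (t j : ℤ) = e j + m * s j := fun j => Int.toNat_of_nonneg (hnn j)
  have htdeg : t.degree = m • s.degree := by
    have h5 : ((t.degree : ℕ) : ℤ) = ((m • s.degree : ℕ) : ℤ) := by
      rw [Finsupp.degree_eq_sum, Finsupp.degree_eq_sum]
      push_cast
      rw [Finset.sum_congr rfl (fun j _ => ht j), Finset.sum_add_distrib, he.1, zero_add,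
        ← Finset.mul_sum]
      simp
    exact_mod_cast h5
  refine ⟨Away.mk _ (monomial_mem s) m (monomial t c)
    ((mem_homogeneousSubmodule _ _).mpr (isHomogeneous_monomial _ htdeg)), ?_⟩
  show ρ _ hf _ = _
  rw [ρ_mk_monomial, φ_monomial, AddMonoidAlgebra.single_mul_single, mul_one]
  congr 1
  funext j
  rw [Pi.add_apply, Pi.neg_apply, Pi.smul_apply, expHom_apply, expHom_apply, nsmul_eq_mul, ht]
  ring

lemma Sup_le_range (s : Fin (n + 1) →₀ ℕ) (hf : IsUnit (φ n R (monomial s 1))) :
    Sup R s ≤ (ρ (monomial s (1 : R)) hf).toAddMonoidHom.range := by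
  intro x hx
  rw [← AddMonoidAlgebra.sum_coeff_single x, Finsupp.sum]
  refine AddSubgroup.sum_mem _ (fun e he => ?_)
  exact single_mem_range s hf e _ (hx e he)

lemma range_ρ_eq (s : Fin (n + 1) →₀ ℕ) (hf : IsUnit (φ n R (monomial s 1))) :
    (ρ (monomial s (1 : R)) hf).toAddMonoidHom.range = Sup R s :=
  le_antisymm (range_ρ_le s hf) (Sup_le_range s hf)

end image

section projections

variable {n R}

/-- An index at which the exponent vector is nonnegative (if there is one). -/
noncomputable def κ (e : Fin (n + 1) → ℤ) : Fin (n + 1) :=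
  if h : ∃ k, 0 ≤ e k then h.choose else 0

lemma κ_spec (e : Fin (n + 1) → ℤ) (h : ∃ k, 0 ≤ e k) : 0 ≤ e (κ e) := by
  rw [κ, dif_pos h]
  exact h.choose_spec

lemma exists_nonneg_of_sum_eq_zero (e : Fin (n + 1) → ℤ) (h : ∑ i, e i = 0) : ∃ k, 0 ≤ e k := by
  by_contra hne
  push Not at hne
  have : ∑ i, e i < 0 := Finset.sum_neg (fun i _ => hne i) Finset.univ_nonempty
  omega

variable (R) in
/-- The projection onto the span of the Laurent monomials `e` with `κ e = k`. -/
noncomputable def P (k : Fin (n + 1)) : Lau n R →+ Lau n R :=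
  (AddMonoidAlgebra.coeffAddEquiv.symm.toAddMonoidHom.comp
    (Finsupp.filterAddHom (fun e => κ e = k))).comp AddMonoidAlgebra.coeffAddEquiv.toAddMonoidHom

lemma coeff_P (k : Fin (n + 1)) (x : Lau n R) :
    (P R k x).coeff = Finsupp.filter (fun e => κ e = k) x.coeff := rfl

lemma sum_P (x : Lau n R) : ∑ k, P R k x = x := by
  apply AddMonoidAlgebra.ext
  rw [AddMonoidAlgebra.coeff_sum]
  ext e
  rw [Finsupp.finsetSum_apply]
  simp only [coeff_P, Finsupp.filter_apply]
  rw [Finset.sum_ite_eq]
  simp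

lemma P_mem (k : Fin (n + 1)) (s : Fin (n + 1) →₀ ℕ) (x : Lau n R)
    (hx : x ∈ Sup R (Finsupp.single k 1 + s)) : P R k x ∈ Sup R s := by
  intro e he
  rw [coeff_P, Finsupp.mem_support_iff, Finsupp.filter_apply] at he
  have hκ : κ e = k := by
    by_contra h
    rw [if_neg h] at he
    exact he rfl
  rw [if_pos hκ] at he
  have hE := hx e (Finsupp.mem_support_iff.mpr he)
  refine ⟨hE.1, fun j hj => ?_⟩
  by_cases hjk : j = k
  · rw [hjk, ← hκ]
    exact κ_spec e (exists_nonneg_of_sum_eq_zero e hE.1)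
  · apply hE.2 j
    rw [Finsupp.add_apply, Finsupp.single_apply, if_neg (Ne.symm hjk), hj]

end projections

end Groth.Agent.Lib.Helper20.ProjLaurent
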