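import Mathlib
import Groth.Prelude.Def_Coh
import Groth.Prelude.Def_CohB1
import Groth.Agent.Lib.Helper20.CechPoU
import Groth.Agent.Lib.Helper20.ProjLaurent

/-!
# The Čech complex of the structure sheaf of projective space for the standard cover is exact in
positive degrees (helper20)
-/

set_option autoImplicit false
set_option linter.unusedVariables false
set_option linter.unusedSectionVars false

universe u

open CategoryTheory Limits Opposite TopologicalSpace AlgebraicGeometry MvPolynomial
  HomogeneousLocalization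

namespace Groth.Agent.Lib.Helper20.ProjCechO

open Groth.Agent.Lib.helper27 Groth.Agent.Lib.Helper20.ProjLaurent Groth.Agent.Lib.Helper20.CechPoU

variable (n : ℕ) (R : Type u) [CommRing R]

/-- Projective space as a `Proj`. -/
noncomputable abbrev PX : Scheme.{u} := Proj (CohB1.polyGrading n R)

/-- basic open of a monomial -/
noncomputable abbrev Dp (s : Fin (n + 1) →₀ ℕ) : (PX n R).Opens :=
  Proj.basicOpen (CohB1.polyGrading n R) (monomial s (1 : R))

lemma monomial_add (s t : Fin (n + 1) →₀ ℕ) :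
    (monomial (s + t) (1 : R)) = monomial s 1 * monomial t 1 := by
  rw [monomial_mul, one_mul]

lemma Dp_add (s t : Fin (n + 1) →₀ ℕ) : Dp n R (s + t) = Dp n R s ⊓ Dp n R t := by
  rw [Dp, monomial_add, Proj.basicOpen_mul]

/-- The embedding `Γ(ℙⁿ, D₊(x^s)) → Lau`. -/
noncomputable def ρg (s : Fin (n + 1) →₀ ℕ) (hs : 0 < s.degree) :
    Γ(PX n R, Dp n R s) →+* Lau n R :=
  (ρ (monomial s (1 : R)) (isUnit_φ_monomial n R s)).comp
    (Proj.basicOpenIsoAway (CohB1.polyGrading n R) (monomial s (1 : R)) (monomial_mem s) hs).inv.hom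

lemma ρg_injective (s : Fin (n + 1) →₀ ℕ) (hs : 0 < s.degree) :
    Function.Injective (ρg n R s hs) := by
  intro x y h
  have h1 := ρ_injective s (isUnit_φ_monomial n R s) h
  exact (ConcreteCategory.bijective_of_isIso
    (Proj.basicOpenIsoAway (CohB1.polyGrading n R) (monomial s (1 : R)) (monomial_mem s) hs).inv).1 h1

lemma range_ρg (s : Fin (n + 1) →₀ ℕ) (hs : 0 < s.degree) :
    (ρg n R s hs).toAddMonoidHom.range = Sup R s := by
  rw [← range_ρ_eq s (isUnit_φ_monomial n R s)]
  ext x
  constructor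
  · rintro ⟨y, rfl⟩
    exact ⟨_, rfl⟩
  · rintro ⟨y, rfl⟩
    obtain ⟨z, rfl⟩ := (ConcreteCategory.bijective_of_isIso
      (Proj.basicOpenIsoAway (CohB1.polyGrading n R) (monomial s (1 : R))
        (monomial_mem s) hs).inv).2 y
    exact ⟨z, rfl⟩

lemma ρg_res (s s' t : Fin (n + 1) →₀ ℕ) (h : s' = s + t) (hs : 0 < s.degree)
    (hs' : 0 < s'.degree) (hle : Dp n R s' ≤ Dp n R s) (σ : Γ(PX n R, Dp n R s)) :
    ρg n R s' hs' ((PX n R).presheaf.map (homOfLE hle).op σ) = ρg n R s hs σ := by
  subst h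
  obtain ⟨a, rfl⟩ : ∃ a, (Proj.basicOpenIsoAway (CohB1.polyGrading n R) (monomial s (1 : R))
      (monomial_mem s) hs).hom a = σ :=
    (ConcreteCategory.bijective_of_isIso (Proj.basicOpenIsoAway (CohB1.polyGrading n R)
      (monomial s (1 : R)) (monomial_mem s) hs).hom).2 σ
  have h1 := Proj.awayMap_awayToSection (CohB1.polyGrading n R) (f := monomial s (1 : R))
    (g := monomial t (1 : R)) (monomial_mem t) (x := monomial (s + t) (1 : R))
    (monomial_add n R s t)
  have h2 := ConcreteCategory.congr_hom h1 a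
  rw [ConcreteCategory.comp_apply, ConcreteCategory.comp_apply] at h2
  have h3 : (PX n R).presheaf.map (homOfLE hle).op
      ((Proj.basicOpenIsoAway (CohB1.polyGrading n R) (monomial s (1 : R))
        (monomial_mem s) hs).hom a) =
      (Proj.basicOpenIsoAway (CohB1.polyGrading n R) (monomial (s + t) (1 : R))
        (monomial_mem (s + t)) hs').hom
        (awayMap (CohB1.polyGrading n R) (monomial_mem t) (monomial_add n R s t) a) := by
    rw [Proj.basicOpenIsoAway_hom, Proj.basicOpenIsoAway_hom]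
    exact h2.symm
  rw [h3]
  show ρ (monomial (s + t) (1 : R)) (isUnit_φ_monomial n R (s + t))
      ((Proj.basicOpenIsoAway (CohB1.polyGrading n R) (monomial (s + t) (1 : R))
        (monomial_mem (s + t)) hs').inv
        ((Proj.basicOpenIsoAway (CohB1.polyGrading n R) (monomial (s + t) (1 : R))
        (monomial_mem (s + t)) hs').hom _)) =
      ρ (monomial s (1 : R)) (isUnit_φ_monomial n R s) ((Proj.basicOpenIsoAway (CohB1.polyGrading n R) (monomial s (1 : R))
        (monomial_mem s) hs).inv ((Proj.basicOpenIsoAway (CohB1.polyGrading n R)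
        (monomial s (1 : R)) (monomial_mem s) hs).hom a))
  rw [← ConcreteCategory.comp_apply, ← ConcreteCategory.comp_apply, Iso.hom_inv_id,
    Iso.hom_inv_id]
  exact ρ_awayMap (monomial_mem t) (monomial_add n R s t) _ _ a

/-- The index type of the standard cover (in `Type u`). -/
abbrev ι : Type u := ULift.{u} (Fin (n + 1))

/-- The standard cover of projective space. -/
noncomputable def U (k : ι n) : (PX n R).Opens :=
  Proj.basicOpen (CohB1.polyGrading n R) (X k.down)

/-- The structure sheaf as a presheaf of abelian groups. -/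
noncomputable abbrev F : TopCat.Presheaf AddCommGrpCat.{u} (PX n R) :=
  (Coh.structureModule (PX n R)).presheaf

variable {n}

/-- The multiplicity vector of a tuple of indices. -/
noncomputable def mult {q : ℕ} (a : Fin q → ι n) : Fin (n + 1) →₀ ℕ :=
  ∑ i, Finsupp.single (a i).down 1

lemma mult_cons {q : ℕ} (k : ι n) (a : Fin q → ι n) :
    mult (Fin.cons k a : Fin (q + 1) → ι n) = Finsupp.single k.down 1 + mult a := by
  simp [mult, Fin.sum_univ_succ]

lemma mult_succAbove {q : ℕ} (b : Fin (q + 1) → ι n) (i : Fin (q + 1)) :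
    mult b = mult (b ∘ Fin.succAbove i) + Finsupp.single (b i).down 1 := by
  simp only [mult]
  rw [Fin.sum_univ_succAbove _ i]
  exact add_comm _ _

lemma degree_mult {q : ℕ} (a : Fin q → ι n) : (mult a).degree = q := by
  simp [mult, map_sum]

variable (n)

lemma prod_eq_iInf {q : ℕ} (W : Fin q → (PX n R).Opens) : (∏ᶜ W : (PX n R).Opens) = ⨅ k, W k := by
  apply le_antisymm
  · exact le_iInf fun k => leOfHom (Pi.π W k)
  · exact leOfHom (Pi.lift (fun k => homOfLE (iInf_le W k)))

variable {n}

lemma iInf_fin_succ' {α : Type*} [CompleteLattice α] {q : ℕ} (W : Fin (q + 1) → α) :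
    ⨅ k, W k = W 0 ⊓ ⨅ j : Fin q, W j.succ := by
  apply le_antisymm
  · refine le_inf (iInf_le W 0) (le_iInf fun j => iInf_le W j.succ)
  · refine le_iInf fun k => ?_
    refine Fin.cases ?_ (fun j => ?_) k
    · exact inf_le_left
    · exact inf_le_right.trans (iInf_le (fun j : Fin q => W j.succ) j)

lemma Dp_mult_aux {q : ℕ} (a : Fin q → ι n) : Dp n R (mult a) = ⨅ k, U n R (a k) := by
  induction q with
  | zero =>
    simp only [mult, Finset.univ_eq_empty, Finset.sum_empty, iInf_of_empty]
    exact Proj.basicOpen_one _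
  | succ q ih =>
    have h1 : mult a = Finsupp.single (a 0).down 1 + mult (fun i => a i.succ) := by
      simp [mult, Fin.sum_univ_succ]
    rw [h1, Dp_add, ih, iInf_fin_succ' (fun k => U n R (a k))]
    rfl

lemma Dp_mult {q : ℕ} (a : Fin q → ι n) : Dp n R (mult a) = ∏ᶜ (U n R ∘ a) := by
  rw [prod_eq_iInf, Dp_mult_aux]
  rfl

variable (n)

lemma Dp_le {q : ℕ} (a : Fin (q + 1) → ι n) : Dp n R (mult a) ≤ ∏ᶜ (U n R ∘ a) :=
  (Dp_mult R a).le

lemma le_Dp {q : ℕ} (a : Fin (q + 1) → ι n) : ∏ᶜ (U n R ∘ a) ≤ Dp n R (mult a) :=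
  (Dp_mult R a).ge

lemma deg_pos {q : ℕ} (a : Fin (q + 1) → ι n) : 0 < (mult a).degree := by
  rw [degree_mult]
  omega

/-- Restriction from `U_a` to `D₊(x^{mult a})` (an isomorphism). -/
noncomputable def resD (q : ℕ) (a : Fin (q + 1) → ι n) :
    (Cech.Z (U n R) (F n R) q a) →+ Γ(PX n R, Dp n R (mult a)) :=
  ((F n R).map (homOfLE (Dp_le n R a)).op).hom

lemma resD_bijective (q : ℕ) (a : Fin (q + 1) → ι n) : Function.Bijective (resD n R q a) := by
  have h1 : (F n R).map (homOfLE (Dp_le n R a)).op ≫ (F n R).map (homOfLE (le_Dp n R a)).op =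
      𝟙 _ := by
    rw [← Functor.map_comp, ← op_comp, ← (F n R).map_id]
    rfl
  have h2 : (F n R).map (homOfLE (le_Dp n R a)).op ≫ (F n R).map (homOfLE (Dp_le n R a)).op =
      𝟙 _ := by
    rw [← Functor.map_comp, ← op_comp, ← (F n R).map_id]
    rfl
  have : IsIso ((F n R).map (homOfLE (Dp_le n R a)).op) := ⟨_, h1, h2⟩
  exact ConcreteCategory.bijective_of_isIso ((F n R).map (homOfLE (Dp_le n R a)).op)

/-- The embedding of the sections over `U_a` into the Laurent polynomial ring. -/
noncomputable def ρt (q : ℕ) (a : Fin (q + 1) → ι n) :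
    (Cech.Z (U n R) (F n R) q a) →+ Lau n R :=
  (ρg n R (mult a) (deg_pos n a)).toAddMonoidHom.comp (resD n R q a)

lemma ρt_injective (q : ℕ) (a : Fin (q + 1) → ι n) : Function.Injective (ρt n R q a) :=
  (ρg_injective n R (mult a) (deg_pos n a)).comp (resD_bijective n R q a).1

lemma range_ρt (q : ℕ) (a : Fin (q + 1) → ι n) : (ρt n R q a).range = Sup R (mult a) := by
  rw [← range_ρg n R (mult a) (deg_pos n a)]
  ext x
  constructor
  · rintro ⟨y, rfl⟩
    exact ⟨_, rfl⟩
  · rintro ⟨y, rfl⟩
    obtain ⟨z, rfl⟩ := (resD_bijective n R q a).2 y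
    exact ⟨z, rfl⟩

lemma ρt_face (q : ℕ) (b : Fin (q + 2) → ι n) (i : Fin (q + 2))
    (σ : Cech.Z (U n R) (F n R) q (b ∘ Fin.succAbove i)) :
    ρt n R (q + 1) b ((F n R).map (Cech.face (U n R) b i).op σ) =
      ρt n R q (b ∘ Fin.succAbove i) σ := by
  have hle : Dp n R (mult b) ≤ Dp n R (mult (b ∘ Fin.succAbove i)) := by
    rw [mult_succAbove b i, Dp_add]
    exact inf_le_left
  have h1 := ρg_res n R (mult (b ∘ Fin.succAbove i)) (mult b) (Finsupp.single (b i).down 1)
    (mult_succAbove b i) (deg_pos n _) (deg_pos n b) hle (resD n R q _ σ)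
  have h2 : resD n R (q + 1) b ((F n R).map (Cech.face (U n R) b i).op σ) =
      (PX n R).presheaf.map (homOfLE hle).op (resD n R q _ σ) := by
    show ((F n R).map (Cech.face (U n R) b i).op ≫ (F n R).map (homOfLE (Dp_le n R b)).op) σ =
      ((F n R).map (homOfLE (Dp_le n R (b ∘ Fin.succAbove i))).op ≫
        (F n R).map (homOfLE hle).op) σ
    rw [← Functor.map_comp, ← Functor.map_comp]
    exact congrArg (fun h => ((F n R).map h) σ) (Subsingleton.elim _ _)
  show ρg n R (mult b) (deg_pos n b) (resD n R (q + 1) b _) =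
    ρg n R (mult (b ∘ Fin.succAbove i)) (deg_pos n _) (resD n R q _ σ)
  rw [h2, h1]

/-- **The Čech complex of `O` on projective space for the standard cover is exact in positive
degrees.** -/
theorem exactAt_cech (p : ℕ) :
    ((cechComplexFunctor (U n R)).obj (F n R)).ExactAt (p + 1) := by
  refine exactAt_of_partition (U n R) (F n R) (ρt n R) p (fun b => ρt_injective n R (p + 1) b)
    (ρt_face n R) (fun k => P R k.down) ?_ ?_
  · intro k a x hx
    rw [range_ρt] at hx ⊢
    rw [mult_cons] at hx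
    exact P_mem k.down (mult a) x hx
  · intro b x _
    rw [← sum_P x]
    conv_rhs => rw [← Equiv.sum_comp (Equiv.ulift.{u, 0} (α := Fin (n + 1)))]
    rw [sum_P]
    rfl

end Groth.Agent.Lib.Helper20.ProjCechO
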