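import Mathlib
import Groth.Prelude.Def_CohB1
import Groth.Agent.Lib.Helper20.ProjLaurent

/-!
# Degree-`d` fractions of the polynomial ring inside the Laurent polynomial ring (helper20)

`val s k m = φ m * T^{-k s}` is the Laurent polynomial of the fraction `m / (x^s)^k`.  For `m`
homogeneous of degree `k |s| + d` these span `Supd R d s`: Laurent polynomials supported on
exponents `e` with `∑ e = d` and `e j ≥ 0` off the support of `s`.
-/

set_option autoImplicit false
set_option linter.unusedVariables false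
set_option linter.unusedSectionVars false

universe u

open MvPolynomial

namespace Groth.Agent.Lib.Helper20.ProjLaurent

variable {n : ℕ} {R : Type u} [CommRing R]

/-- The exponent vectors of degree `d` that are nonnegative outside the support of `s`. -/
def Ed (d : ℤ) (s : Fin (n + 1) →₀ ℕ) : Set (Fin (n + 1) → ℤ) :=
  {e | ∑ i, e i = d ∧ ∀ j, s j = 0 → 0 ≤ e j}

variable (R) in
/-- Laurent polynomials supported in `Ed d s`. -/
def Supd (d : ℤ) (s : Fin (n + 1) →₀ ℕ) : AddSubgroup (Lau n R) where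
  carrier := {x | ∀ e ∈ x.coeff.support, e ∈ Ed d s}
  zero_mem' := by simp
  add_mem' := by
    intro a b ha hb e he
    rw [AddMonoidAlgebra.coeff_add] at he
    rcases Finset.mem_union.mp (Finsupp.support_add he) with h | h
    · exact ha e h
    · exact hb e h
  neg_mem' := by
    intro a ha e he
    rw [AddMonoidAlgebra.coeff_neg, Finsupp.support_neg] at he
    exact ha e he

lemma single_mem_Supd (d : ℤ) (s : Fin (n + 1) →₀ ℕ) (e : Fin (n + 1) → ℤ) (c : R)
    (he : e ∈ Ed d s) : (AddMonoidAlgebra.single e c : Lau n R) ∈ Supd R d s := by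
  intro e' he'
  rw [AddMonoidAlgebra.coeff_single] at he'
  have := Finset.mem_singleton.mp (Finsupp.support_single_subset he')
  rw [this]
  exact he

/-- The Laurent polynomial of the fraction `m / (x^s)^k`. -/
noncomputable def val (s : Fin (n + 1) →₀ ℕ) (k : ℕ) (m : MvPolynomial (Fin (n + 1)) R) : Lau n R :=
  φ n R m * AddMonoidAlgebra.single (-(k • expHom n s)) 1

lemma T_mul_T (a b : Fin (n + 1) → ℤ) :
    (AddMonoidAlgebra.single a 1 : Lau n R) * AddMonoidAlgebra.single b 1 =
      AddMonoidAlgebra.single (a + b) 1 := by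
  rw [AddMonoidAlgebra.single_mul_single, mul_one]

lemma isUnit_T (a : Fin (n + 1) → ℤ) : IsUnit (AddMonoidAlgebra.single a 1 : Lau n R) := by
  refine isUnit_iff_exists_inv.mpr ⟨AddMonoidAlgebra.single (-a) 1, ?_⟩
  rw [T_mul_T, add_neg_cancel]
  rfl

lemma φ_monomial_pow (s : Fin (n + 1) →₀ ℕ) (k : ℕ) :
    φ n R ((monomial s 1) ^ k) = AddMonoidAlgebra.single (k • expHom n s) 1 := by
  rw [map_pow, φ_monomial, AddMonoidAlgebra.single_pow, one_pow]

lemma val_eq_zero_iff (s : Fin (n + 1) →₀ ℕ) (k : ℕ) (m : MvPolynomial (Fin (n + 1)) R) :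
    val s k m = 0 ↔ m = 0 := by
  rw [val, (isUnit_T _).mul_left_eq_zero]
  constructor
  · intro h
    exact φ_injective n R (h.trans (map_zero _).symm)
  · rintro rfl
    exact map_zero _

lemma val_eq_of_mul_eq (s : Fin (n + 1) →₀ ℕ) (k k' : ℕ) (m m' : MvPolynomial (Fin (n + 1)) R)
    (h : m * (monomial s 1) ^ k' = m' * (monomial s 1) ^ k) : val s k m = val s k' m' := by
  have h1 := congrArg (φ n R) h
  rw [map_mul, map_mul, φ_monomial_pow, φ_monomial_pow] at h1
  have h2 := congrArg (· * (AddMonoidAlgebra.single (-(k • expHom n s) + -(k' • expHom n s)) 1 :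
    Lau n R)) h1
  simp only [mul_assoc, T_mul_T] at h2
  rw [val, val]
  convert h2 using 3
  · abel
  · abel

lemma val_sub (s : Fin (n + 1) →₀ ℕ) (k : ℕ) (a b : MvPolynomial (Fin (n + 1)) R) :
    val s k (a - b) = val s k a - val s k b := by
  simp only [val, map_sub, sub_mul]

lemma mul_eq_of_val_eq (s : Fin (n + 1) →₀ ℕ) (k k' : ℕ) (m m' : MvPolynomial (Fin (n + 1)) R)
    (h : val s k m = val s k' m') :
    m * (monomial s 1) ^ k' = m' * (monomial s 1) ^ k := by
  have h1 : val s k m = val s (k + k') (m * (monomial s 1) ^ k') :=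
    val_eq_of_mul_eq s _ _ _ _ (by rw [pow_add]; ring)
  have h2 : val s k' m' = val s (k + k') (m' * (monomial s 1) ^ k) :=
    val_eq_of_mul_eq s _ _ _ _ (by rw [pow_add]; ring)
  rw [h1, h2] at h
  have h3 := sub_eq_zero.mpr h
  rw [← val_sub, val_eq_zero_iff] at h3
  exact sub_eq_zero.mp h3

lemma val_add (s : Fin (n + 1) →₀ ℕ) (k k' : ℕ) (m m' : MvPolynomial (Fin (n + 1)) R) :
    val s (k + k') (m * (monomial s 1) ^ k' + m' * (monomial s 1) ^ k) = val s k m + val s k' m' := by
  simp only [val, map_add, map_mul, φ_monomial_pow, add_mul, mul_assoc, T_mul_T]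
  congr 3
  · rw [add_smul]; abel
  · rw [add_smul]; abel

lemma val_mul_pow (s t : Fin (n + 1) →₀ ℕ) (k : ℕ) (m : MvPolynomial (Fin (n + 1)) R) :
    val (s + t) k (m * (monomial t 1) ^ k) = val s k m := by
  simp only [val, map_mul, φ_monomial_pow, mul_assoc, T_mul_T]
  congr 2
  rw [map_add, smul_add]
  abel

lemma val_mem_Supd (d : ℤ) (s : Fin (n + 1) →₀ ℕ) (k i : ℕ) (m : MvPolynomial (Fin (n + 1)) R)
    (hm : m ∈ CohB1.polyGrading n R i) (hi : (i : ℤ) = k * s.degree + d) :
    val s k m ∈ Supd R d s := by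
  rw [val, m.as_sum, map_sum, Finset.sum_mul]
  refine AddSubgroup.sum_mem _ (fun t ht => ?_)
  rw [φ_monomial, AddMonoidAlgebra.single_mul_single]
  apply single_mem_Supd
  have hdeg : i = ∑ j ∈ t.support, t j :=
    ((mem_homogeneousSubmodule _ _).mp hm).degree_eq_sum_deg_support ht
  have hdeg' : (i : ℤ) = ∑ j, (t j : ℤ) := by
    have h1 : i = ∑ j, t j := by
      rw [← Finsupp.degree_eq_sum, Finsupp.degree_apply t]
      exact hdeg
    exact_mod_cast h1
  have hs : ((s.degree : ℕ) : ℤ) = ∑ j, (s j : ℤ) := by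
    rw [Finsupp.degree_eq_sum]
    push_cast
    rfl
  have happ : ∀ j, (expHom n t + -(k • expHom n s)) j = (t j : ℤ) - k * (s j : ℤ) := by
    intro j
    rw [Pi.add_apply, Pi.neg_apply, Pi.smul_apply, expHom_apply, expHom_apply, nsmul_eq_mul]
    ring
  constructor
  · rw [Finset.sum_congr rfl (fun j _ => happ j), Finset.sum_sub_distrib, ← Finset.mul_sum,
      ← hdeg', ← hs, hi]
    ring
  · intro j hj
    rw [happ, hj]
    simp

lemma exists_val_eq_single (d : ℤ) (s : Fin (n + 1) →₀ ℕ) (e : Fin (n + 1) → ℤ) (c : R)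
    (he : e ∈ Ed d s) :
    ∃ (k i : ℕ) (m : MvPolynomial (Fin (n + 1)) R), m ∈ CohB1.polyGrading n R i ∧
      (i : ℤ) = k * s.degree + d ∧ val s k m = AddMonoidAlgebra.single e c := by
  set k : ℕ := ∑ j, (e j).natAbs with hk
  have hnn : ∀ j, 0 ≤ e j + k * (s j : ℤ) := by
    intro j
    by_cases hj : s j = 0
    · rw [hj]
      simpa using he.2 j hj
    · have h1 : (1 : ℤ) ≤ s j := by exact_mod_cast Nat.one_le_iff_ne_zero.mpr hj
      have h2 : ((e j).natAbs : ℤ) ≤ k := by
        exact_mod_cast Finset.single_le_sum (f := fun j => (e j).natAbs)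
          (fun _ _ => Nat.zero_le _) (Finset.mem_univ j)
      have h3 : -e j ≤ (e j).natAbs := by
        rw [Int.natCast_natAbs]
        exact neg_le_abs (e j)
      have h4 : (0 : ℤ) ≤ k := Int.natCast_nonneg k
      nlinarith
  let t : Fin (n + 1) →₀ ℕ :=
    Finsupp.equivFunOnFinite.symm (fun j => (e j + k * (s j : ℤ)).toNat)
  have ht : ∀ j, (t j : ℤ) = e j + k * s j := fun j => Int.toNat_of_nonneg (hnn j)
  have htdeg : ((t.degree : ℕ) : ℤ) = k * s.degree + d := by
    rw [Finsupp.degree_eq_sum, Finsupp.degree_eq_sum]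
    push_cast
    rw [Finset.sum_congr rfl (fun j _ => ht j), Finset.sum_add_distrib, he.1, ← Finset.mul_sum]
    ring
  refine ⟨k, t.degree, monomial t c,
    (mem_homogeneousSubmodule _ _).mpr (isHomogeneous_monomial _ rfl), htdeg, ?_⟩
  rw [val, φ_monomial, AddMonoidAlgebra.single_mul_single, mul_one]
  congr 1
  funext j
  rw [Pi.add_apply, Pi.neg_apply, Pi.smul_apply, expHom_apply, expHom_apply, nsmul_eq_mul, ht]
  ring

/-- `P k` maps `Supd (single k 1 + s)` into `Supd s`, provided no exponent vector in play is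
entirely negative. -/
lemma P_mem_d (d : ℤ) (k : Fin (n + 1)) (s : Fin (n + 1) →₀ ℕ) (x : Lau n R)
    (hx : x ∈ Supd R d (Finsupp.single k 1 + s))
    (hgood : (∃ j, (Finsupp.single k 1 + s : Fin (n + 1) →₀ ℕ) j = 0) ∨ -((n : ℤ) + 1) < d) :
    P R k x ∈ Supd R d s := by
  intro e he
  rw [coeff_P, Finsupp.mem_support_iff, Finsupp.filter_apply] at he
  have hκ : κ e = k := by
    by_contra h
    rw [if_neg h] at he
    exact he rfl
  rw [if_pos hκ] at he
  have hE := hx e (Finsupp.mem_support_iff.mpr he)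
  have hex : ∃ j, 0 ≤ e j := by
    rcases hgood with ⟨j, hj⟩ | hd
    · exact ⟨j, hE.2 j hj⟩
    · by_contra hne
      push Not at hne
      have h1 : ∑ i, e i ≤ ∑ i : Fin (n + 1), (-1 : ℤ) :=
        Finset.sum_le_sum (fun i _ => by have := hne i; omega)
      rw [hE.1] at h1
      simp at h1
      omega
  refine ⟨hE.1, fun j hj => ?_⟩
  by_cases hjk : j = k
  · rw [hjk, ← hκ]
    exact κ_spec e hex
  · apply hE.2 j
    rw [Finsupp.add_apply, Finsupp.single_apply, if_neg (Ne.symm hjk), hj]

end Groth.Agent.Lib.Helper20.ProjLaurent
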