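import Mathlib
import Groth.Prelude.Def_Coh
import Groth.Prelude.Def_CohB1
import Groth.Prelude.Def_Twist2
import Groth.Agent.Lib.Helper20.CechPoU
import Groth.Agent.Lib.Helper20.ProjLaurentD
import Groth.Agent.Lib.Helper20.ProjCechO
import Groth.Agent.Lib.Helper28.TwistFree

/-!
# The Čech complex of `O(d)` on projective space for the standard cover (helper20)
-/

set_option autoImplicit false
set_option linter.unusedVariables false
set_option linter.unusedSectionVars false

universe u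

open CategoryTheory Limits Opposite TopologicalSpace AlgebraicGeometry MvPolynomial

namespace Groth.Agent.Lib.Helper20.ProjCechTw

open Groth.Agent.Lib.helper27 Groth.Agent.Lib.Helper20.ProjLaurent Groth.Agent.Lib.Helper20.CechPoU
  Groth.Agent.Lib.Helper20.ProjCechO Groth.Agent.Lib.helper28.GrFrac
  Groth.Agent.Lib.helper28.TwistSec Groth.Agent.Lib.helper28.TwistFree

variable (n : ℕ) (R : Type u) [CommRing R] (d : ℤ)

/-- Sections of `O(d)` over `W`. -/
abbrev Sec (W : (PX n R).Opens) : Type u :=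
  Twist.sectN (𝒜 := CohB1.polyGrading n R) d (op W)

noncomputable instance (priority := high) secAddCommGroup (W : (PX n R).Opens) :
    AddCommGroup (Sec n R d W) :=
  Submodule.addCommGroup (Twist.sectN (𝒜 := CohB1.polyGrading n R) d (op W))

variable {n R d}

/-- `σ` is given on all of `W` by the fraction `m / (x^s)^k`. -/
def IsFracOn {W : (PX n R).Opens} (σ : Sec n R d W) (s : Fin (n + 1) →₀ ℕ) (k : ℕ)
    (m : MvPolynomial (Fin (n + 1)) R) : Prop :=
  ∀ x : W, ∃ hx : (monomial s (1 : R)) ^ k ∉ x.1.asHomogeneousIdeal,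
    ((σ.1 x : Twist.twistAt (CohB1.polyGrading n R) d x.1) : Twist.Loc (CohB1.polyGrading n R) x.1) =
      Localization.mk m ⟨(monomial s (1 : R)) ^ k, hx⟩

lemma exists_rep {W : (PX n R).Opens} (s : Fin (n + 1) →₀ ℕ) (hs : 0 < s.degree)
    (hW : W = Dp n R s) (σ : Sec n R d W) :
    ∃ (k i : ℕ) (m : MvPolynomial (Fin (n + 1)) R), m ∈ CohB1.polyGrading n R i ∧
      (i : ℤ) = k * s.degree + d ∧ IsFracOn σ s k m := by
  obtain ⟨k, i, m, hk, hi, h⟩ := sectN_eq_fraction' (CohB1.polyGrading n R) d hs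
    (monomial_mem (R := R) s) W hW σ
  exact ⟨k, i, m.1, m.2, hi, fun x => ⟨hk x, h x⟩⟩

lemma rep_unique {W : (PX n R).Opens} (s : Fin (n + 1) →₀ ℕ) (hs : 0 < s.degree)
    (hW : W = Dp n R s) (σ : Sec n R d W) {k k' i i' : ℕ} {m m' : MvPolynomial (Fin (n + 1)) R}
    (hm : m ∈ CohB1.polyGrading n R i) (hi : (i : ℤ) = k * s.degree + d)
    (hm' : m' ∈ CohB1.polyGrading n R i') (hi' : (i' : ℤ) = k' * s.degree + d)
    (h : IsFracOn σ s k m) (h' : IsFracOn σ s k' m') :
    m * (monomial s (1 : R)) ^ k' = m' * (monomial s (1 : R)) ^ k := by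
  have hf := monomial_mem (R := R) s
  have hdeg : i + k' * s.degree = i' + k * s.degree := by
    have : ((i + k' * s.degree : ℕ) : ℤ) = ((i' + k * s.degree : ℕ) : ℤ) := by
      push_cast
      rw [hi, hi']
      ring
    exact_mod_cast this
  have hz : m * (monomial s (1 : R)) ^ k' - m' * (monomial s (1 : R)) ^ k ∈
      CohB1.polyGrading n R (i + k' * s.degree) := by
    refine sub_mem ?_ ?_
    · exact SetLike.mul_mem_graded hm (by simpa using SetLike.pow_mem_graded k' hf)
    · rw [hdeg]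
      exact SetLike.mul_mem_graded hm' (by simpa using SetLike.pow_mem_graded k hf)
  obtain ⟨N, hN⟩ := exists_pow_smul_eq_zero (CohB1.polyGrading n R) (CohB1.polyGrading n R) hs hf hz
    (fun y hy => by
      have hyW : y ∈ W := by
        rw [hW]
        exact (ProjectiveSpectrum.mem_basicOpen _ _ y).mpr hy
      obtain ⟨hx, e1⟩ := h ⟨y, hyW⟩
      obtain ⟨hx', e2⟩ := h' ⟨y, hyW⟩
      have e3 := e1.symm.trans e2
      rw [mk_eq_mk_iff'] at e3
      obtain ⟨c, hc⟩ := e3
      refine ⟨c.1, c.2, ?_⟩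
      simp only [smul_eq_mul] at hc ⊢
      rw [mul_sub]
      linear_combination hc)
  rw [smul_eq_mul] at hN
  have hnz : (monomial s (1 : R)) ^ N ∈ nonZeroDivisors (MvPolynomial (Fin (n + 1)) R) :=
    pow_mem (Groth.Agent.Lib.Helper20.ProjGamma.monomial_one_mem_nonZeroDivisors s) N
  have := (mul_left_mem_nonZeroDivisors_eq_zero_iff hnz).mp hN
  exact sub_eq_zero.mp this

/-- The Laurent polynomial of a section of `O(d)` over `W = D₊(x^s)`. -/
noncomputable def ρdFun {W : (PX n R).Opens} (s : Fin (n + 1) →₀ ℕ) (hs : 0 < s.degree)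
    (hW : W = Dp n R s) (σ : Sec n R d W) : Lau n R :=
  val s (exists_rep s hs hW σ).choose (exists_rep s hs hW σ).choose_spec.choose_spec.choose

lemma ρdFun_eq {W : (PX n R).Opens} (s : Fin (n + 1) →₀ ℕ) (hs : 0 < s.degree)
    (hW : W = Dp n R s) (σ : Sec n R d W) {k i : ℕ} {m : MvPolynomial (Fin (n + 1)) R}
    (hm : m ∈ CohB1.polyGrading n R i) (hi : (i : ℤ) = k * s.degree + d)
    (h : IsFracOn σ s k m) : ρdFun s hs hW σ = val s k m := by
  obtain ⟨hm', hi', h'⟩ := (exists_rep s hs hW σ).choose_spec.choose_spec.choose_spec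
  exact val_eq_of_mul_eq s _ _ _ _ (rep_unique s hs hW σ hm' hi' hm hi h' h)

lemma isFracOn_add {W : (PX n R).Opens} (s : Fin (n + 1) →₀ ℕ) (σ τ : Sec n R d W)
    {k k' : ℕ} {m m' : MvPolynomial (Fin (n + 1)) R}
    (h : IsFracOn σ s k m) (h' : IsFracOn τ s k' m') :
    IsFracOn (σ + τ) s (k + k')
      (m * (monomial s (1 : R)) ^ k' + m' * (monomial s (1 : R)) ^ k) := by
  intro x
  obtain ⟨hx, e1⟩ := h x
  obtain ⟨hx', e2⟩ := h' x
  have hxx : (monomial s (1 : R)) ^ (k + k') ∉ x.1.asHomogeneousIdeal := by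
    rw [pow_add]
    intro hmem
    exact (x.1.isPrime.mem_or_mem hmem).elim hx hx'
  refine ⟨hxx, ?_⟩
  have e3 : (((σ + τ).1 x : Twist.twistAt (CohB1.polyGrading n R) d x.1) :
      Twist.Loc (CohB1.polyGrading n R) x.1) =
      ((σ.1 x : Twist.twistAt (CohB1.polyGrading n R) d x.1) :
        Twist.Loc (CohB1.polyGrading n R) x.1) +
      ((τ.1 x : Twist.twistAt (CohB1.polyGrading n R) d x.1) :
        Twist.Loc (CohB1.polyGrading n R) x.1) := rfl
  rw [e3, e1, e2, Localization.add_mk, mk_eq_mk_iff']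
  refine ⟨1, ?_⟩
  simp only [OneMemClass.coe_one, one_mul, Submonoid.coe_mul]
  ring

lemma ρdFun_add {W : (PX n R).Opens} (s : Fin (n + 1) →₀ ℕ) (hs : 0 < s.degree)
    (hW : W = Dp n R s) (σ τ : Sec n R d W) :
    ρdFun s hs hW (σ + τ) = ρdFun s hs hW σ + ρdFun s hs hW τ := by
  obtain ⟨k, i, m, hm, hi, h⟩ := exists_rep s hs hW σ
  obtain ⟨k', i', m', hm', hi', h'⟩ := exists_rep s hs hW τ
  have hf := monomial_mem (R := R) s
  have hdeg : i' + k * s.degree = i + k' * s.degree := by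
    have : ((i' + k * s.degree : ℕ) : ℤ) = ((i + k' * s.degree : ℕ) : ℤ) := by
      push_cast
      rw [hi, hi']
      ring
    exact_mod_cast this
  have hmem : m * (monomial s (1 : R)) ^ k' + m' * (monomial s (1 : R)) ^ k ∈
      CohB1.polyGrading n R (i + k' * s.degree) := by
    refine add_mem ?_ ?_
    · exact SetLike.mul_mem_graded hm (by simpa using SetLike.pow_mem_graded k' hf)
    · rw [← hdeg]
      exact SetLike.mul_mem_graded hm' (by simpa using SetLike.pow_mem_graded k hf)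
  rw [ρdFun_eq s hs hW σ hm hi h, ρdFun_eq s hs hW τ hm' hi' h',
    ρdFun_eq s hs hW (σ + τ) hmem (by push_cast; rw [hi]; ring) (isFracOn_add s σ τ h h'),
    val_add]

/-- The embedding of the sections of `O(d)` over `W = D₊(x^s)` into the Laurent polynomials. -/
noncomputable def ρd {W : (PX n R).Opens} (s : Fin (n + 1) →₀ ℕ) (hs : 0 < s.degree)
    (hW : W = Dp n R s) : Sec n R d W →+ Lau n R :=
  AddMonoidHom.mk' (ρdFun s hs hW) (ρdFun_add s hs hW)

lemma ρd_eq {W : (PX n R).Opens} (s : Fin (n + 1) →₀ ℕ) (hs : 0 < s.degree)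
    (hW : W = Dp n R s) (σ : Sec n R d W) {k i : ℕ} {m : MvPolynomial (Fin (n + 1)) R}
    (hm : m ∈ CohB1.polyGrading n R i) (hi : (i : ℤ) = k * s.degree + d)
    (h : IsFracOn σ s k m) : ρd s hs hW σ = val s k m :=
  ρdFun_eq s hs hW σ hm hi h

lemma ρd_injective {W : (PX n R).Opens} (s : Fin (n + 1) →₀ ℕ) (hs : 0 < s.degree)
    (hW : W = Dp n R s) (σ τ : Sec n R d W) (hστ : ρd s hs hW σ = ρd s hs hW τ) : σ = τ := by
  obtain ⟨k, i, m, hm, hi, h⟩ := exists_rep s hs hW σ
  obtain ⟨k', i', m', hm', hi', h'⟩ := exists_rep s hs hW τ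
  rw [ρd_eq s hs hW σ hm hi h, ρd_eq s hs hW τ hm' hi' h'] at hστ
  apply Subtype.ext
  funext x
  apply Subtype.ext
  obtain ⟨hx, e1⟩ := h x
  obtain ⟨hx', e2⟩ := h' x
  rw [e1, e2, mk_eq_mk_iff']
  refine ⟨1, ?_⟩
  have h3 := mul_eq_of_val_eq s k k' m m' hστ
  simp only [OneMemClass.coe_one, one_mul]
  linear_combination h3

lemma pow_notMem_of_eq {W : (PX n R).Opens} (s : Fin (n + 1) →₀ ℕ) (hW : W = Dp n R s) (k : ℕ)
    (y : W) : (monomial s (1 : R)) ^ k ∉ y.1.asHomogeneousIdeal := by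
  intro hmem
  have hy : y.1 ∈ Dp n R s := hW ▸ y.2
  exact (ProjectiveSpectrum.mem_basicOpen _ _ y.1).mp hy (y.1.isPrime.mem_of_pow_mem k hmem)

lemma range_ρd {W : (PX n R).Opens} (s : Fin (n + 1) →₀ ℕ) (hs : 0 < s.degree)
    (hW : W = Dp n R s) : (ρd (d := d) s hs hW).range = Supd R d s := by
  apply le_antisymm
  · rintro _ ⟨σ, rfl⟩
    obtain ⟨k, i, m, hm, hi, h⟩ := exists_rep s hs hW σ
    rw [ρd_eq s hs hW σ hm hi h]
    exact val_mem_Supd d s k i m hm hi
  · intro x hx
    rw [← AddMonoidAlgebra.sum_coeff_single x, Finsupp.sum]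
    refine AddSubgroup.sum_mem _ (fun e he => ?_)
    obtain ⟨k, i, m, hm, hi, hv⟩ := exists_val_eq_single d s e (x.coeff e) (hx e he)
    have hfk : (monomial s (1 : R)) ^ k ∈ CohB1.polyGrading n R (k * s.degree) := by
      simpa using SetLike.pow_mem_graded k (monomial_mem (R := R) s)
    refine ⟨fracSectN (CohB1.polyGrading n R) d W ⟨m, hm⟩ ⟨(monomial s (1 : R)) ^ k, hfk⟩
      (pow_notMem_of_eq s hW k) (by push_cast; rw [hi]), ?_⟩
    rw [ρd_eq s hs hW _ hm hi (fun y => ⟨pow_notMem_of_eq s hW k y, rfl⟩)]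
    exact hv

lemma ρd_res {W W' : (PX n R).Opens} (s s' t : Fin (n + 1) →₀ ℕ) (hst : s' = s + t)
    (hs : 0 < s.degree) (hs' : 0 < s'.degree) (hW : W = Dp n R s) (hW' : W' = Dp n R s')
    (i : W' ⟶ W) (σ : Sec n R d W) :
    ρd s' hs' hW' (Twist.resN d i.op σ) = ρd s hs hW σ := by
  subst hst
  obtain ⟨k, j, m, hm, hj, h⟩ := exists_rep s hs hW σ
  have hg := monomial_mem (R := R) t
  have hmem : m * (monomial t (1 : R)) ^ k ∈ CohB1.polyGrading n R (j + k * t.degree) :=
    SetLike.mul_mem_graded hm (by simpa using SetLike.pow_mem_graded k hg)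
  have hfrac : IsFracOn (Twist.resN d i.op σ) (s + t) k (m * (monomial t (1 : R)) ^ k) := by
    intro x
    obtain ⟨hx, e1⟩ := h (i x)
    refine ⟨pow_notMem_of_eq (s + t) hW' k x, ?_⟩
    have e0 : (((Twist.resN d i.op σ).1 x : Twist.twistAt (CohB1.polyGrading n R) d x.1) :
        Twist.Loc (CohB1.polyGrading n R) x.1) =
        ((σ.1 (i x) : Twist.twistAt (CohB1.polyGrading n R) d x.1) :
          Twist.Loc (CohB1.polyGrading n R) x.1) := rfl
    rw [e0, e1, mk_eq_mk_iff']
    refine ⟨1, ?_⟩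
    simp only [OneMemClass.coe_one, one_mul]
    rw [monomial_add, mul_pow]
    ring
  have e2 := ρd_eq (s + t) hs' hW' (Twist.resN d i.op σ) hmem
    (by push_cast; rw [hj, map_add]; push_cast; ring) hfrac
  exact e2.trans ((val_mul_pow s t k m).trans (ρd_eq s hs hW σ hm hj h).symm)

variable (n R d)

/-- The twisting sheaf `O(d)` as a presheaf of abelian groups. -/
noncomputable abbrev Fd : TopCat.Presheaf AddCommGrpCat.{u} (PX n R) :=
  (Twist.twistProjSpace n R d).presheaf

/-- The embedding of the sections of `O(d)` over `U_a` into the Laurent polynomial ring. -/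
noncomputable def ρtd (q : ℕ) (a : Fin (q + 1) → ι n) :
    (Cech.Z (U n R) (Fd n R d) q a) →+ Lau n R :=
  ρd (d := d) (W := ∏ᶜ (U n R ∘ a)) (mult a) (deg_pos n a) (Dp_mult R a).symm

lemma ρtd_injective (q : ℕ) (a : Fin (q + 1) → ι n) : Function.Injective (ρtd n R d q a) :=
  fun σ τ h => ρd_injective (d := d) (W := ∏ᶜ (U n R ∘ a)) (mult a) (deg_pos n a)
    (Dp_mult R a).symm σ τ h

lemma range_ρtd (q : ℕ) (a : Fin (q + 1) → ι n) :
    (ρtd n R d q a).range = Supd R d (mult a) :=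
  range_ρd (d := d) (W := ∏ᶜ (U n R ∘ a)) (mult a) (deg_pos n a) (Dp_mult R a).symm

lemma ρtd_face (q : ℕ) (b : Fin (q + 2) → ι n) (i : Fin (q + 2))
    (σ : Cech.Z (U n R) (Fd n R d) q (b ∘ Fin.succAbove i)) :
    ρtd n R d (q + 1) b ((Fd n R d).map (Cech.face (U n R) b i).op σ) =
      ρtd n R d q (b ∘ Fin.succAbove i) σ :=
  ρd_res (d := d) (mult (b ∘ Fin.succAbove i)) (mult b) (Finsupp.single (b i).down 1)
    (mult_succAbove b i) (deg_pos n _) (deg_pos n b) (Dp_mult R _).symm (Dp_mult R b).symm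
    (Cech.face (U n R) b i) σ

variable {n}

lemma mult_apply {q : ℕ} (b : Fin q → ι n) (j : Fin (n + 1)) :
    mult b j = ∑ i, if (b i).down = j then 1 else 0 := by
  simp only [mult, Finsupp.finsetSum_apply, Finsupp.single_apply]

lemma exists_mult_eq_zero {q : ℕ} (b : Fin q → ι n) (hq : q ≤ n) : ∃ j, (mult b) j = 0 := by
  have hns : ¬ Function.Surjective (fun i => (b i).down) := by
    intro hsurj
    have := Fintype.card_le_of_surjective _ hsurj
    simp at this
    omega
  rw [Function.Surjective] at hns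
  push Not at hns
  obtain ⟨j, hj⟩ := hns
  refine ⟨j, ?_⟩
  rw [mult_apply]
  exact Finset.sum_eq_zero (fun i _ => if_neg (hj i))

variable (n)

/-- **The Čech complex of `O(d)` on `ℙⁿ` for the standard cover is exact in degree `p + 1`**
whenever `p + 1 < n`, or `d > -(n + 1)`. -/
theorem exactAt_cech_tw (p : ℕ) (h : p + 2 ≤ n ∨ -((n : ℤ) + 1) < d) :
    ((cechComplexFunctor (U n R)).obj (Fd n R d)).ExactAt (p + 1) := by
  refine exactAt_of_partition (U n R) (Fd n R d) (ρtd n R d) p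
    (fun b => ρtd_injective n R d (p + 1) b) (ρtd_face n R d) (fun k => P R k.down) ?_ ?_
  · intro k a x hx
    rw [range_ρtd] at hx ⊢
    rw [mult_cons] at hx
    refine P_mem_d d k.down (mult a) x hx ?_
    rcases h with h | h
    · left
      rw [← mult_cons]
      exact exists_mult_eq_zero _ (by omega)
    · right
      exact h
  · intro b x _
    rw [← sum_P x]
    conv_rhs => rw [← Equiv.sum_comp (Equiv.ulift.{u, 0} (α := Fin (n + 1)))]
    rw [sum_P]
    rfl

/-- For `d < 0` and `n ≥ 1` the Čech differential `C⁰ → C¹` of `O(d)` is injective. -/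
theorem d'_zero_injective (hd : d < 0) (hn : 1 ≤ n)
    (x : (∏ᶜ Cech.Z (U n R) (Fd n R d) 0 : AddCommGrpCat.{u}))
    (hx : Cech.d' (U n R) (Fd n R d) 0 x = 0) : x = 0 := by
  set f := r (U n R) (Fd n R d) (ρtd n R d) 0 x with hf
  have hdf : dFun 0 f = 0 := by
    rw [hf, ← r_d' (U n R) (Fd n R d) (ρtd n R d) (ρtd_face n R d), hx, r_zero]
  have hconst : ∀ a b : Fin 1 → ι n, f a = f b := by
    intro a b
    have h1 := congrFun hdf (Fin.cons (a 0) b)
    simp only [dFun, Pi.zero_apply] at h1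
    rw [Fin.sum_univ_succ (n := 1)] at h1
    simp only [Cech.cons_comp_succAbove_zero, Fin.val_zero, pow_zero, one_smul,
      Finset.univ_unique, Fin.default_eq_zero, Finset.sum_singleton, Fin.val_succ, zero_add,
      pow_one, neg_smul] at h1
    have h2 : (Fin.cons (a 0) b : Fin 2 → ι n) ∘ Fin.succAbove (Fin.succ 0) = a := by
      funext i
      have hi : i = 0 := Subsingleton.elim _ _
      subst hi
      rfl
    rw [h2] at h1
    exact (add_neg_eq_zero.mp h1).symm
  have hmem : ∀ a, f a ∈ Supd R d (mult a) := by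
    intro a
    rw [← range_ρtd n R d 0 a]
    exact ⟨_, rfl⟩
  have hzero : ∀ a, f a = 0 := by
    intro a
    rw [← AddMonoidAlgebra.coeff_eq_zero, ← Finsupp.support_eq_empty, Finset.eq_empty_iff_forall_notMem]
    intro e he
    have hnonneg : ∀ j, 0 ≤ e j := by
      intro j
      obtain ⟨l, hl⟩ : ∃ l : Fin (n + 1), l ≠ j := by
        by_cases hj : j = 0
        · refine ⟨Fin.last n, ?_⟩
          rw [hj]
          intro h0
          have := congrArg Fin.val h0
          simp at this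
          omega
        · exact ⟨0, fun h0 => hj h0.symm⟩
      have h3 : f a = f (fun _ => ULift.up l) := hconst _ _
      rw [h3] at he
      have h4 := (hmem (fun _ => ULift.up l) e he).2 j
      apply h4
      rw [mult_apply]
      simp [hl]
    have h5 := (hmem a e he).1
    have h6 : 0 ≤ ∑ i, e i := Finset.sum_nonneg (fun i _ => hnonneg i)
    omega
  apply r_injective (U n R) (Fd n R d) (ρtd n R d) 0 (ρtd_injective n R d 0)
  rw [r_zero]
  funext a
  exact hzero a

theorem exactAt_zero_cech_tw (hd : d < 0) (hn : 1 ≤ n) :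
    ((cechComplexFunctor (U n R)).obj (Fd n R d)).ExactAt 0 := by
  rw [HomologicalComplex.exactAt_iff' _ 0 0 1 (by simp) (by simp), ShortComplex.ab_exact_iff]
  intro x hx
  refine ⟨0, ?_⟩
  rw [map_zero]
  exact (d'_zero_injective n R d hd hn x hx).symm

end Groth.Agent.Lib.Helper20.ProjCechTw
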