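import Mathlib
import Groth.Prelude.Def_CohB1
import Groth.Agent.Lib.Helper20.ProjGammaAlg

open MvPolynomial HomogeneousLocalization AlgebraicGeometry CategoryTheory

namespace Groth.Agent.Lib.Helper20.ProjGamma

universe u
variable (n : ℕ) (R : Type u) [CommRing R]

theorem irrelevant_le :
    (HomogeneousIdeal.irrelevant (CohB1.polyGrading n R)).toIdeal ≤
      Ideal.span (Set.range (X : Fin (n + 1) → MvPolynomial (Fin (n + 1)) R)) := by
  intro z hz
  have h0 : GradedRing.proj (CohB1.polyGrading n R) 0 z = 0 :=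
    (HomogeneousIdeal.mem_irrelevant_iff _ z).mp hz
  have h1 : homogeneousComponent 0 z = 0 := by
    rw [← h0, GradedRing.proj_apply]
    exact (decomposition.decompose'_apply z 0).symm
  rw [homogeneousComponent_zero, C_eq_zero] at h1
  rw [← Set.image_univ, mem_ideal_span_X_image]
  intro m hm
  have hm0 : m ≠ 0 := by
    rintro rfl
    exact (mem_support_iff.mp hm) h1
  obtain ⟨i, hi⟩ := Finsupp.ne_iff.mp hm0
  exact ⟨i, Set.mem_univ _, by simpa using hi⟩

/-- The standard affine open cover of projective space. -/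
noncomputable def cover : (Proj (CohB1.polyGrading n R)).AffineOpenCover :=
  Proj.affineOpenCoverOfIrrelevantLESpan (CohB1.polyGrading n R)
    (X : Fin (n + 1) → MvPolynomial (Fin (n + 1)) R) (m := fun _ => 1)
    (fun i => X_mem n R i) (fun _ => one_pos) (irrelevant_le n R)

/-- The chart inclusions. -/
noncomputable abbrev ι (i : Fin (n + 1)) :
    Spec (.of (Away (CohB1.polyGrading n R) (X i))) ⟶ Proj (CohB1.polyGrading n R) :=
  Proj.awayι (CohB1.polyGrading n R) (X i) (X_mem n R i) one_pos

/-- Restriction of a global section to a chart. -/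
noncomputable def ψ (i : Fin (n + 1)) :
    Γ(Proj (CohB1.polyGrading n R), ⊤) ⟶ CommRingCat.of (Away (CohB1.polyGrading n R) (X i)) :=
  (ι n R i).appTop ≫ (Scheme.ΓSpecIso _).hom

theorem ext_of_ψ (s t : Γ(Proj (CohB1.polyGrading n R), ⊤))
    (h : ∀ i, (ψ n R i).hom s = (ψ n R i).hom t) : s = t := by
  apply (cover n R).openCover.ext_elem
  intro (i : Fin (n + 1))
  have h1 := h i
  simp only [ψ, CommRingCat.hom_comp, RingHom.comp_apply] at h1
  have h2 := (ConcreteCategory.bijective_of_isIso (Scheme.ΓSpecIso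
    (CommRingCat.of (Away (CohB1.polyGrading n R) (X i)))).hom).1 h1
  exact h2

/-- The structure morphism, typed with source `Proj`. -/
noncomputable def toSpec' : Proj (CohB1.polyGrading n R) ⟶ Spec (CommRingCat.of R) :=
  Proj.toSpecZero (CohB1.polyGrading n R) ≫
    Spec.map (CommRingCat.ofHom (algebraMap R (CohB1.polyGrading n R 0)))

theorem toSpec_appTop_ψ (i : Fin (n + 1)) :
    (toSpec' n R).appTop ≫ ψ n R i =
      (Scheme.ΓSpecIso (CommRingCat.of R)).hom ≫ CommRingCat.ofHom (toAway n R (X i)) := by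
  have h1 : ι n R i ≫ toSpec' n R =
      Spec.map (CommRingCat.ofHom (toAway n R (X i))) := by
    unfold toSpec'
    rw [Proj.awayι_toSpecZero_assoc, ← Spec.map_comp]
    rfl
  rw [ψ, ← Category.assoc, ← Scheme.Hom.comp_appTop, h1, Scheme.ΓSpecIso_naturality]

theorem ψ_awayMap (i j : Fin (n + 1)) :
    ψ n R i ≫ CommRingCat.ofHom (awayMap (CohB1.polyGrading n R) (X_mem n R j) rfl) =
      ψ n R j ≫ CommRingCat.ofHom
        (awayMap (CohB1.polyGrading n R) (X_mem n R i) (mul_comm (X i) (X j))) := by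
  have h1 := Proj.SpecMap_awayMap_awayι (CohB1.polyGrading n R) (X_mem n R i) one_pos
    (X_mem n R j) (x := X i * X j) rfl
  have h2 := Proj.SpecMap_awayMap_awayι (CohB1.polyGrading n R) (X_mem n R j) one_pos
    (X_mem n R i) (x := X i * X j) (mul_comm (X i) (X j))
  have h3 := congrArg Scheme.Hom.appTop (h1.trans h2.symm)
  rw [Scheme.Hom.comp_appTop, Scheme.Hom.comp_appTop] at h3
  simp only [ψ, Category.assoc]
  rw [← Scheme.ΓSpecIso_naturality, ← Scheme.ΓSpecIso_naturality, ← Category.assoc,
    ← Category.assoc]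
  exact congrArg (· ≫ _) h3

theorem ψ_toSpec_apply (i : Fin (n + 1)) (x : Γ(Spec (CommRingCat.of R), ⊤)) :
    (ψ n R i).hom ((toSpec' n R).appTop.hom x) =
      toAway n R (X i) ((Scheme.ΓSpecIso (CommRingCat.of R)).hom.hom x) := by
  have := congrArg (fun f => f.hom x) (toSpec_appTop_ψ n R i)
  simpa using this

theorem isIso_appTop' : IsIso (toSpec' n R).appTop := by
  rw [ConcreteCategory.isIso_iff_bijective]
  constructor
  · intro x y hxy
    have h1 : (ψ n R 0).hom ((toSpec' n R).appTop.hom x) =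
        (ψ n R 0).hom ((toSpec' n R).appTop.hom y) := congrArg _ hxy
    rw [ψ_toSpec_apply, ψ_toSpec_apply] at h1
    have hinj := toAway_injective n R (Finsupp.single (0 : Fin (n + 1)) 1)
    have h2 := hinj h1
    exact (ConcreteCategory.bijective_of_isIso (Scheme.ΓSpecIso (CommRingCat.of R)).hom).1 h2
  · intro s
    obtain ⟨r, hr⟩ := core n R (fun i => (ψ n R i).hom s) (fun i j => by
      have := congrArg (fun f => f.hom s) (ψ_awayMap n R i j)
      simpa using this)
    refine ⟨(Scheme.ΓSpecIso (CommRingCat.of R)).inv.hom r, ext_of_ψ n R _ _ fun i => ?_⟩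
    have h1 := ψ_toSpec_apply n R i ((Scheme.ΓSpecIso (CommRingCat.of R)).inv.hom r)
    have h2 : (Scheme.ΓSpecIso (CommRingCat.of R)).hom.hom
        ((Scheme.ΓSpecIso (CommRingCat.of R)).inv.hom r) = r := by
      have := congrArg (fun f => f.hom r) (Scheme.ΓSpecIso (CommRingCat.of R)).inv_hom_id
      simpa using this
    rw [h2] at h1
    exact h1.trans (hr i).symm

theorem isIso_appTop : IsIso (CohB1.ProjSpace.toSpec n R).appTop :=
  isIso_appTop' n R

end Groth.Agent.Lib.Helper20.ProjGamma
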