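import Mathlib
import Groth.Prelude.Def_Coh
import Groth.Prelude.Def_CohB1
import Groth.Prelude.Def_Twist2
import Groth.Agent.Lib.Helper20.ProjGamma
import Groth.Agent.Lib.Helper20.ProjCechTw

/-!
# Global sections of `O(d)` on projective space (helper20)
-/

set_option autoImplicit false
set_option linter.unusedVariables false
set_option linter.unusedSectionVars false

universe u

open CategoryTheory Limits Opposite TopologicalSpace AlgebraicGeometry MvPolynomial
  HomogeneousLocalization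

namespace Groth.Agent.Lib.Helper20.ProjH0

open Groth.Agent.Lib.Helper20.ProjLaurent Groth.Agent.Lib.Helper20.ProjCechO
  Groth.Agent.Lib.Helper20.ProjCechTw Groth.Agent.Lib.Helper20.ProjGamma
  Groth.Agent.Lib.helper28.TwistSec Groth.Agent.Lib.helper28.TwistFree

section chart

variable {R A : Type u} [CommRing R] [CommRing A] [Algebra R A] (𝒜 : ℕ → Submodule R A)
  [GradedAlgebra 𝒜] (f : A) {m : ℕ} (f_deg : f ∈ 𝒜 m) (hm : 0 < m)

/-- Pulling a global function back to the chart `Spec A_(f)` is restricting it to `D₊(f)`. -/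
lemma awayι_appTop :
    (Proj.awayι 𝒜 f f_deg hm).appTop ≫ (Scheme.ΓSpecIso _).hom =
      (Proj 𝒜).presheaf.map (homOfLE (le_top : Proj.basicOpen 𝒜 f ≤ ⊤)).op ≫
        (Proj.basicOpenIsoAway 𝒜 f f_deg hm).inv := by
  have h1 : (Proj.basicOpenIsoSpec 𝒜 f f_deg hm).hom.appTop =
      (Scheme.ΓSpecIso _).hom ≫ Proj.awayToSection 𝒜 f ≫ (Proj.basicOpen 𝒜 f).topIso.inv := by
    rw [Proj.basicOpenIsoSpec_hom]
    exact Proj.basicOpenToSpec_app_top 𝒜 f
  have h2 : (Proj.basicOpenIsoSpec 𝒜 f f_deg hm).inv.appTop ≫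
      (Proj.basicOpenIsoSpec 𝒜 f f_deg hm).hom.appTop = 𝟙 _ := by
    rw [← Scheme.Hom.comp_appTop, Iso.hom_inv_id]
    rfl
  have h3 : (Proj.basicOpenIsoSpec 𝒜 f f_deg hm).inv.appTop =
      (Proj.basicOpen 𝒜 f).topIso.hom ≫ (Proj.basicOpenIsoAway 𝒜 f f_deg hm).inv ≫
        (Scheme.ΓSpecIso _).inv := by
    rw [h1] at h2
    rw [← Proj.basicOpenIsoAway_hom 𝒜 f f_deg hm] at h2
    rw [← cancel_mono ((Scheme.ΓSpecIso _).hom ≫ (Proj.basicOpenIsoAway 𝒜 f f_deg hm).hom ≫
      (Proj.basicOpen 𝒜 f).topIso.inv), h2]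
    simp only [Category.assoc, Iso.inv_hom_id_assoc, Iso.hom_inv_id]
  rw [Proj.awayι, Scheme.Hom.comp_appTop, Category.assoc, h3]
  simp only [Category.assoc, Iso.inv_hom_id, Category.comp_id]
  rw [← Category.assoc]
  congr 1

end chart

section global

variable (n : ℕ) (R : Type u) [CommRing R]

/-- The global function on `ℙⁿ_R` attached to `r : R`, as a section of the structure sheaf. -/
noncomputable def gl (r : R) : Twist.O (𝒜 := CohB1.polyGrading n R) (op ⊤) :=
  Coh.toGlobal (X := CohB1.ProjSpace n R) (CohB1.ProjSpace.toSpec n R) r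

lemma gl_restrict (r : R) (k : Fin (n + 1)) :
    (Proj (CohB1.polyGrading n R)).presheaf.map
        (homOfLE (le_top : Proj.basicOpen (CohB1.polyGrading n R) (X k) ≤ ⊤)).op (gl n R r) =
      Proj.awayToSection (CohB1.polyGrading n R) (X k) (toAway n R (X k) r) := by
  have h1 : (Scheme.ΓSpecIso _).hom
      ((Proj.awayι (CohB1.polyGrading n R) (X k) (X_mem n R k) one_pos).appTop (gl n R r)) =
      (Proj.basicOpenIsoAway (CohB1.polyGrading n R) (X k) (X_mem n R k) one_pos).inv
        ((Proj (CohB1.polyGrading n R)).presheaf.map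
          (homOfLE (le_top : Proj.basicOpen (CohB1.polyGrading n R) (X k) ≤ ⊤)).op (gl n R r)) :=
    ConcreteCategory.congr_hom
      (awayι_appTop (CohB1.polyGrading n R) (X k) (X_mem n R k) one_pos) (gl n R r)
  have h2 : (Scheme.ΓSpecIso _).hom
      ((Proj.awayι (CohB1.polyGrading n R) (X k) (X_mem n R k) one_pos).appTop (gl n R r)) =
      toAway n R (X k) r := by
    have h3 := ψ_toSpec_apply n R k ((Scheme.ΓSpecIso (CommRingCat.of R)).inv.hom r)
    have h4 : (Scheme.ΓSpecIso (CommRingCat.of R)).hom.hom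
        ((Scheme.ΓSpecIso (CommRingCat.of R)).inv.hom r) = r := by
      exact ConcreteCategory.congr_hom (Scheme.ΓSpecIso (CommRingCat.of R)).inv_hom_id r
    rw [h4] at h3
    exact h3
  rw [h2] at h1
  have h5 := congrArg (Proj.basicOpenIsoAway (CohB1.polyGrading n R) (X k) (X_mem n R k)
    one_pos).hom h1
  rw [← ConcreteCategory.comp_apply (Proj.basicOpenIsoAway (CohB1.polyGrading n R) (X k)
    (X_mem n R k) one_pos).inv, Iso.inv_hom_id, Proj.basicOpenIsoAway_hom] at h5
  exact h5.symm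

lemma exists_mem_basicOpen (x : ProjectiveSpectrum (CohB1.polyGrading n R)) :
    ∃ k : Fin (n + 1), x ∈ ProjectiveSpectrum.basicOpen (CohB1.polyGrading n R) (X k) := by
  have h1 := Proj.iSup_basicOpen_eq_top (CohB1.polyGrading n R)
    (MvPolynomial.X : Fin (n + 1) → MvPolynomial (Fin (n + 1)) R) (irrelevant_le n R)
  have hx : x ∈ (⨆ k, Proj.basicOpen (CohB1.polyGrading n R) (X k) :
      (Proj (CohB1.polyGrading n R)).Opens) := by
    rw [h1]
    trivial
  obtain ⟨k, hk⟩ := Opens.mem_iSup.mp hx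
  exact ⟨k, hk⟩

lemma gl_val (r : R) (x : (⊤ : Opens (ProjectiveSpectrum.top (CohB1.polyGrading n R)))) :
    ((gl n R r).1 x).val = Localization.mk (C r) 1 := by
  obtain ⟨k, hk⟩ := exists_mem_basicOpen n R x.1
  have h1 : (gl n R r).1 x =
      (((Proj (CohB1.polyGrading n R)).presheaf.map
        (homOfLE (le_top : Proj.basicOpen (CohB1.polyGrading n R) (X k) ≤ ⊤)).op (gl n R r) :
        Twist.O (𝒜 := CohB1.polyGrading n R)
          (op (Proj.basicOpen (CohB1.polyGrading n R) (X k)))).1 ⟨x.1, hk⟩) := rfl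
  rw [h1, gl_restrict]
  have h2 := ProjectiveSpectrum.Proj.awayToSection_apply (CohB1.polyGrading n R) (X k)
    (toAway n R (X k) r) ⟨x.1, hk⟩
  refine h2.trans ?_
  rw [val_toAway, IsLocalization.map_eq, RingHom.id_apply]
  exact (Localization.mk_one_eq_algebraMap _).symm

end global

section sections

variable (n : ℕ) (R : Type u) [CommRing R] (d : ℤ)

lemma degree_single_pos (k : Fin (n + 1)) : 0 < (Finsupp.single k 1 : Fin (n + 1) →₀ ℕ).degree := by
  simp

/-- The chart `D₊(x_k)`. -/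
noncomputable abbrev Uk (k : Fin (n + 1)) : (PX n R).Opens := Dp n R (Finsupp.single k 1)

/-- The Laurent polynomial of a global section of `O(d)`, computed on the chart `D₊(x_k)`. -/
noncomputable def Φ (k : Fin (n + 1)) : Sec n R d ⊤ →+ Lau n R :=
  (ρd (d := d) (W := Uk n R k) (Finsupp.single k 1) (degree_single_pos n k) rfl).comp
    ((Fd n R d).map (homOfLE (le_top : Uk n R k ≤ ⊤)).op).hom

lemma Φ_apply (k : Fin (n + 1)) (σ : Sec n R d ⊤) :
    Φ n R d k σ = ρd (d := d) (W := Uk n R k) (Finsupp.single k 1) (degree_single_pos n k) rfl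
      (Twist.resN d (homOfLE (le_top : Uk n R k ≤ ⊤)).op σ) := rfl

lemma Φ_indep (k l : Fin (n + 1)) (σ : Sec n R d ⊤) : Φ n R d k σ = Φ n R d l σ := by
  have hkl : 0 < (Finsupp.single k 1 + Finsupp.single l 1 : Fin (n + 1) →₀ ℕ).degree := by
    simp
  have h1 := ρd_res (d := d) (W := Uk n R k)
    (W' := Dp n R (Finsupp.single k 1 + Finsupp.single l 1))
    (Finsupp.single k 1) (Finsupp.single k 1 + Finsupp.single l 1) (Finsupp.single l 1) rfl
    (degree_single_pos n k) hkl rfl rfl
    (homOfLE (by rw [Dp_add]; exact inf_le_left))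
    (Twist.resN d (homOfLE (le_top : Uk n R k ≤ ⊤)).op σ)
  have h2 := ρd_res (d := d) (W := Uk n R l)
    (W' := Dp n R (Finsupp.single k 1 + Finsupp.single l 1))
    (Finsupp.single l 1) (Finsupp.single k 1 + Finsupp.single l 1) (Finsupp.single k 1)
    (add_comm _ _)
    (degree_single_pos n l) hkl rfl rfl
    (homOfLE (by rw [Dp_add]; exact inf_le_right))
    (Twist.resN d (homOfLE (le_top : Uk n R l ≤ ⊤)).op σ)
  rw [Φ_apply, Φ_apply, ← h1, ← h2]
  rfl

lemma Φ_mem (k : Fin (n + 1)) (σ : Sec n R d ⊤) :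
    Φ n R d k σ ∈ Supd R d (Finsupp.single k 1) := by
  rw [← range_ρd (d := d) (W := Uk n R k) (Finsupp.single k 1) (degree_single_pos n k) rfl]
  exact ⟨_, rfl⟩

lemma Φ_injective (k : Fin (n + 1)) : Function.Injective (Φ n R d k) := by
  rw [injective_iff_map_eq_zero]
  intro σ hσ
  apply Subtype.ext
  funext x
  apply Subtype.ext
  obtain ⟨l, hl⟩ := exists_mem_basicOpen n R x.1
  have hl' : x.1 ∈ Uk n R l := by
    show x.1 ∈ Proj.basicOpen _ (monomial (Finsupp.single l 1) (1 : R))
    exact hl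
  have h1 : Φ n R d l σ = 0 := by rw [Φ_indep n R d l k, hσ]
  rw [Φ_apply] at h1
  have h2 := ρd_injective (d := d) (W := Uk n R l) (Finsupp.single l 1) (degree_single_pos n l)
    rfl _ 0 (h1.trans (map_zero _).symm)
  have h3 := congrArg (fun τ : Sec n R d (Uk n R l) =>
    ((τ.1 ⟨x.1, hl'⟩ : Twist.twistAt (CohB1.polyGrading n R) d x.1) :
      Twist.Loc (CohB1.polyGrading n R) x.1)) h2
  exact h3

end sections

section poly

variable (n : ℕ) (R : Type u) [CommRing R] (d : ℕ)

/-- The global section of `O(d)` defined by a homogeneous polynomial of degree `d`. -/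
noncomputable def glob (p : CohB1.polyGrading n R d) : Sec n R (d : ℤ) ⊤ :=
  Twist.globalOf (CohB1.polyGrading n R) p

lemma Φ_glob (k : Fin (n + 1)) (p : CohB1.polyGrading n R d) :
    Φ n R (d : ℤ) k (glob n R d p) = φ n R p.1 := by
  rw [Φ_apply]
  have hfrac : IsFracOn (Twist.resN (d : ℤ) (homOfLE (le_top : Uk n R k ≤ ⊤)).op (glob n R d p))
      (Finsupp.single k 1) 0 p.1 := by
    intro x
    have hx : (monomial (Finsupp.single k 1) (1 : R)) ^ 0 ∉ x.1.asHomogeneousIdeal := by
      rw [pow_zero]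
      exact fun h => x.1.isPrime.ne_top ((Ideal.eq_top_iff_one _).mpr h)
    refine ⟨hx, ?_⟩
    show Localization.mk p.1 _ = Localization.mk p.1 _
    congr 1
  refine (ρd_eq (d := (d : ℤ)) (W := Uk n R k) (Finsupp.single k 1) (degree_single_pos n k) rfl _
    p.2 (by simp) hfrac).trans ?_
  rw [ProjLaurent.val, zero_smul, neg_zero]
  exact mul_one _

lemma nonneg_of_mem (e : Fin (n + 1) → ℤ)
    (he : ∀ k : Fin (n + 1), e ∈ Ed (d : ℤ) (Finsupp.single k 1)) (j : Fin (n + 1)) : 0 ≤ e j := by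
  by_cases h : ∃ k : Fin (n + 1), k ≠ j
  · obtain ⟨k, hk⟩ := h
    apply (he k).2 j
    rw [Finsupp.single_apply, if_neg hk]
  · push Not at h
    have h1 := (he j).1
    rw [Finset.sum_eq_single j (fun i _ hi => absurd (h i) hi)
      (fun hj => absurd (Finset.mem_univ j) hj)] at h1
    rw [h1]
    exact Int.natCast_nonneg d

lemma exists_poly (σ : Sec n R (d : ℤ) ⊤) :
    ∃ p : CohB1.polyGrading n R d, φ n R p.1 = Φ n R (d : ℤ) 0 σ := by
  set lam := Φ n R (d : ℤ) 0 σ with hlam
  have hmem : ∀ e ∈ lam.coeff.support, ∀ k : Fin (n + 1), e ∈ Ed (d : ℤ) (Finsupp.single k 1) := by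
    intro e he k
    have := Φ_mem n R (d : ℤ) k σ
    rw [Φ_indep n R (d : ℤ) k 0] at this
    exact this e he
  let tn : (Fin (n + 1) → ℤ) → (Fin (n + 1) →₀ ℕ) :=
    fun e => Finsupp.equivFunOnFinite.symm (fun j => (e j).toNat)
  have htn : ∀ e ∈ lam.coeff.support, expHom n (tn e) = e := by
    intro e he
    funext j
    rw [expHom_apply]
    exact Int.toNat_of_nonneg (nonneg_of_mem n d e (hmem e he) j)
  refine ⟨⟨∑ e ∈ lam.coeff.support, monomial (tn e) (lam.coeff e), ?_⟩, ?_⟩
  · refine Submodule.sum_mem _ (fun e he => ?_)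
    rw [mem_homogeneousSubmodule]
    apply isHomogeneous_monomial
    have h1 : ((Finsupp.degree (tn e) : ℕ) : ℤ) = (d : ℤ) := by
      rw [Finsupp.degree_eq_sum]
      push_cast
      have h2 : ∀ j, ((tn e j : ℕ) : ℤ) = e j := fun j => by
        have := congrFun (htn e he) j
        rwa [expHom_apply] at this
      rw [Finset.sum_congr rfl (fun j _ => h2 j)]
      exact (hmem e he 0).1
    exact_mod_cast h1
  · show φ n R (∑ e ∈ lam.coeff.support, monomial (tn e) (lam.coeff e)) = lam
    rw [map_sum]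
    conv_rhs => rw [← AddMonoidAlgebra.sum_coeff_single lam, Finsupp.sum]
    refine Finset.sum_congr rfl (fun e he => ?_)
    rw [φ_monomial, htn e he]

lemma glob_injective : Function.Injective (glob n R d) := by
  intro p q h
  have h1 := congrArg (Φ n R (d : ℤ) 0) h
  rw [Φ_glob, Φ_glob] at h1
  exact Subtype.ext (φ_injective n R h1)

lemma glob_surjective : Function.Surjective (glob n R d) := by
  intro σ
  obtain ⟨p, hp⟩ := exists_poly n R d σ
  refine ⟨p, Φ_injective n R (d : ℤ) 0 ?_⟩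
  rw [Φ_glob, hp]

end poly

section H0

/-- `H⁰(X, M) ≃+ Γ(X, M)`. -/
noncomputable def h0Equiv (X : Scheme.{u}) (M : X.Modules) :
    Coh.HH X M 0 ≃+ (Coh.toAb M).obj.obj (op (⊤ : X.Opens)) :=
  Sheaf.H.equiv₀ (Coh.toAb M) Limits.isTerminalTop

lemma smul_h0Equiv_symm (X : Scheme.{u}) (M : X.Modules) (r : Coh.Γtop X)
    (m : (Coh.toAb M).obj.obj (op (⊤ : X.Opens))) :
    r • (h0Equiv X M).symm m = (h0Equiv X M).symm ((Coh.smulAb M r).hom.app (op ⊤) m) :=
  Sheaf.H.equiv₀_symm_naturality Limits.isTerminalTop (Coh.smulAb M r) m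

variable (n : ℕ) (R : Type u) [CommRing R] (d : ℕ)

/-- `glob`, typed as a map into the global sections of the underlying abelian sheaf. -/
noncomputable def globAb (p : CohB1.polyGrading n R d) :
    (Coh.toAb (Twist.twistProjSpace n R (d : ℤ))).obj.obj (op (⊤ : (CohB1.ProjSpace n R).Opens)) :=
  glob n R d p

lemma globAb_add (p q : CohB1.polyGrading n R d) :
    globAb n R d (p + q) = globAb n R d p + globAb n R d q := by
  apply Subtype.ext
  funext x
  apply Subtype.ext
  show Localization.mk (p.1 + q.1) _ = Localization.mk p.1 _ + Localization.mk q.1 _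
  rw [Localization.add_mk_self]

lemma smulAb_glob (r : R) (p : CohB1.polyGrading n R d) :
    (Coh.smulAb (Twist.twistProjSpace n R (d : ℤ))
      (Coh.toGlobal (X := CohB1.ProjSpace n R) (CohB1.ProjSpace.toSpec n R) r)).hom.app (op ⊤)
      (globAb n R d p) = globAb n R d (r • p) := by
  apply Subtype.ext
  funext x
  apply Subtype.ext
  have h1 : ((((Coh.smulAb (Twist.twistProjSpace n R (d : ℤ))
      (Coh.toGlobal (X := CohB1.ProjSpace n R) (CohB1.ProjSpace.toSpec n R) r)).hom.app (op ⊤)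
      (globAb n R d p) : Sec n R (d : ℤ) ⊤).1 x : Twist.twistAt (CohB1.polyGrading n R) d x.1) :
      Twist.Loc (CohB1.polyGrading n R) x.1) =
      ((gl n R r).1 x).val * (((glob n R d p).1 x : Twist.twistAt (CohB1.polyGrading n R) d x.1) :
        Twist.Loc (CohB1.polyGrading n R) x.1) :=
    Twist.coe_smul_val (d : ℤ) x.1 ((gl n R r).1 x) ((glob n R d p).1 x)
  refine h1.trans ?_
  refine (congrArg (· * _) (gl_val n R r x)).trans ?_
  show Localization.mk (C r) 1 * Localization.mk p.1 _ = Localization.mk (r • p.1) _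
  rw [Localization.mk_mul, smul_eq_C_mul]
  congr 1
  exact one_mul _

lemma smul_def' (r : R) (x : Coh.HH (CohB1.ProjSpace n R) (Twist.twistProjSpace n R (d : ℤ)) 0) :
    r • x = (Coh.toGlobal (X := CohB1.ProjSpace n R) (CohB1.ProjSpace.toSpec n R) r) • x := rfl

/-- The `R`-linear map from homogeneous polynomials of degree `d` to `H⁰(ℙⁿ, O(d))`. -/
noncomputable def polyToH0 :
    CohB1.polyGrading n R d →ₗ[R]
      Coh.HH (CohB1.ProjSpace n R) (Twist.twistProjSpace n R (d : ℤ)) 0 where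
  toFun p := (h0Equiv (CohB1.ProjSpace n R) (Twist.twistProjSpace n R (d : ℤ))).symm
    (globAb n R d p)
  map_add' p q := by
    rw [globAb_add, map_add]
  map_smul' r p := by
    rw [RingHom.id_apply, smul_def', smul_h0Equiv_symm, smulAb_glob]

lemma polyToH0_bijective : Function.Bijective (polyToH0 n R d) := by
  constructor
  · intro p q h
    exact glob_injective n R d ((h0Equiv _ _).symm.injective h)
  · intro x
    obtain ⟨p, hp⟩ := glob_surjective n R d ((h0Equiv _ _) x)
    refine ⟨p, ?_⟩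
    show (h0Equiv _ _).symm (globAb n R d p) = x
    have hp' : globAb n R d p = (h0Equiv _ _) x := hp
    rw [hp', AddEquiv.symm_apply_apply]

end H0

end Groth.Agent.Lib.Helper20.ProjH0
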