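import Mathlib
import Groth.Agent.Lib.Helper20.CechFin
import Groth.Agent.Lib.Helper20.ProjH0
import Groth.Agent.Lib.Helper27.SerreVan3
import Groth.Agent.Lib.Helper19.ProjSpaceProper
import Groth.Agent.Lib.Helper28.TwistQCoh

/-!
# Finiteness of the top cohomology of `O(d)` on projective space (helper20)
-/

set_option autoImplicit false
set_option linter.unusedVariables false
set_option linter.unusedSectionVars false

universe u

open CategoryTheory Limits Opposite TopologicalSpace AlgebraicGeometry MvPolynomial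
  HomogeneousLocalization

namespace Groth.Agent.Lib.Helper20.ProjTopFin

open Groth.Agent.Lib.helper27 Groth.Agent.Lib.Helper20.CechPoU
  Groth.Agent.Lib.Helper20.ProjLaurent Groth.Agent.Lib.Helper20.ProjCechO
  Groth.Agent.Lib.Helper20.ProjCechTw Groth.Agent.Lib.Helper20.ProjGamma
  Groth.Agent.Lib.Helper20.ProjH0

section cech

variable {D : Type u} [SmallCategory D] [HasFiniteProducts D] {ι : Type u} [Fintype ι] (U : ι → D)
  (F : Dᵒᵖ ⥤ AddCommGrpCat.{u}) {Λ : Type u} [AddCommGroup Λ]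
  (ρ : ∀ (q : ℕ) (a : Fin (q + 1) → ι), (Cech.Z U F q a) →+ Λ)

/-- A relative version of `exactAt_of_partition`: cocycles whose components lie in subgroups
`S₁ b` on which the partition of unity works are coboundaries. -/
theorem exists_d'_eq (p : ℕ)
    (hinj : ∀ b, Function.Injective (ρ (p + 1) b))
    (hface : ∀ (q : ℕ) (b : Fin (q + 2) → ι) (i : Fin (q + 2))
      (s : Cech.Z U F q (b ∘ Fin.succAbove i)),
      ρ (q + 1) b (F.map (Cech.face U b i).op s) = ρ q (b ∘ Fin.succAbove i) s)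
    (P : ι → Λ →+ Λ) (S₁ : AddSubgroup Λ)
    (hP : ∀ (k : ι) (a : Fin (p + 1) → ι) (x : Λ),
      x ∈ (ρ (p + 1) (Fin.cons k a)).range → x ∈ S₁ → P k x ∈ (ρ p a).range)
    (hsum : ∀ (x : Λ), x ∈ S₁ → ∑ k, P k x = x)
    (x : (∏ᶜ Cech.Z U F (p + 1) : AddCommGrpCat.{u})) (hx' : Cech.d' U F (p + 1) x = 0)
    (hxS : ∀ b, r U F ρ (p + 1) x b ∈ S₁) :
    ∃ y : (∏ᶜ Cech.Z U F p : AddCommGrpCat.{u}), Cech.d' U F p y = x := by
  have h1 : dFun (p + 1) (r U F ρ (p + 1) x) = 0 := by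
    rw [← r_d' U F ρ hface, hx', r_zero]
  obtain ⟨g, hg, hdg⟩ := exists_primitive p (fun a => (ρ p a).range)
    (fun b => (ρ (p + 1) b).range ⊓ S₁) P (fun k a x hx => hP k a x hx.1 hx.2)
    (fun b x hx => hsum x hx.2) (r U F ρ (p + 1) x) (fun b => ⟨⟨_, rfl⟩, hxS b⟩) h1
  obtain ⟨y, hy⟩ := exists_r_eq U F ρ p g hg
  refine ⟨y, ?_⟩
  apply r_injective U F ρ (p + 1) hinj
  rw [r_d' U F ρ hface, hy, hdg]

end cech

section laurent

variable {n : ℕ} (R : Type u) [CommRing R]

/-- Laurent polynomials without entirely negative exponent vectors. -/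
def NoNeg : AddSubgroup (Lau n R) where
  carrier := {x | ∀ e ∈ x.coeff.support, ∃ j, 0 ≤ e j}
  zero_mem' := by simp
  add_mem' := by
    intro a b ha hb e he
    rw [AddMonoidAlgebra.coeff_add] at he
    rcases Finset.mem_union.mp (Finsupp.support_add he) with h | h
    · exact ha e h
    · exact hb e h
  neg_mem' := by
    intro a ha e he
    rw [AddMonoidAlgebra.coeff_neg, Finsupp.support_neg] at he
    exact ha e he

lemma P_mem_d_of (d : ℤ) (k : Fin (n + 1)) (s : Fin (n + 1) →₀ ℕ) (x : Lau n R)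
    (hx : x ∈ Supd R d (Finsupp.single k 1 + s)) (hgood : x ∈ NoNeg (n := n) R) :
    P R k x ∈ Supd R d s := by
  intro e he
  rw [coeff_P, Finsupp.mem_support_iff, Finsupp.filter_apply] at he
  have hκ : κ e = k := by
    by_contra h
    rw [if_neg h] at he
    exact he rfl
  rw [if_pos hκ] at he
  have hE := hx e (Finsupp.mem_support_iff.mpr he)
  have hex : ∃ j, 0 ≤ e j := hgood e (Finsupp.mem_support_iff.mpr he)
  refine ⟨hE.1, fun j hj => ?_⟩
  by_cases hjk : j = k
  · rw [hjk, ← hκ]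
    exact κ_spec e hex
  · apply hE.2 j
    rw [Finsupp.add_apply, Finsupp.single_apply, if_neg (Ne.symm hjk), hj]

end laurent

section smul

variable (n : ℕ) (R : Type u) [CommRing R] (d : ℤ)

/-- the global function attached to `r : R` -/
noncomputable abbrev glr (r : R) : Coh.Γtop (CohB1.ProjSpace n R) :=
  Coh.toGlobal (X := CohB1.ProjSpace n R) (CohB1.ProjSpace.toSpec n R) r

/-- multiplication by `r : R` on sections of `O(d)` over `W` -/
noncomputable def smulSec (r : R) (W : (PX n R).Opens) (σ : Sec n R d W) : Sec n R d W :=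
  (Coh.smulAb (Twist.twistProjSpace n R d) (glr n R r)).hom.app (op W) σ

lemma isFracOn_smulSec (r : R) {W : (PX n R).Opens} (σ : Sec n R d W) (s : Fin (n + 1) →₀ ℕ)
    {k : ℕ} {m : MvPolynomial (Fin (n + 1)) R} (h : IsFracOn σ s k m) :
    IsFracOn (smulSec n R d r W σ) s k (C r * m) := by
  intro y
  obtain ⟨hy, e⟩ := h y
  refine ⟨hy, ?_⟩
  have h1 : ((((smulSec n R d r W σ).1 y : Twist.twistAt (CohB1.polyGrading n R) d y.1) :
      Twist.Loc (CohB1.polyGrading n R) y.1)) =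
      ((gl n R r).1 ⟨y.1, trivial⟩).val * (((σ.1 y : Twist.twistAt (CohB1.polyGrading n R) d y.1) :
        Twist.Loc (CohB1.polyGrading n R) y.1)) :=
    Twist.coe_smul_val d y.1 ((gl n R r).1 ⟨y.1, trivial⟩) (σ.1 y)
  refine h1.trans ?_
  rw [e]
  refine (congrArg (· * _) (gl_val n R r ⟨y.1, trivial⟩)).trans ?_
  rw [Localization.mk_mul]
  congr 1
  exact Subtype.ext (one_mul _)

lemma ρd_smulSec (r : R) {W : (PX n R).Opens} (s : Fin (n + 1) →₀ ℕ) (hs : 0 < s.degree)
    (hW : W = Dp n R s) (σ : Sec n R d W) :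
    ρd s hs hW (smulSec n R d r W σ) = AddMonoidAlgebra.single 0 r * ρd s hs hW σ := by
  obtain ⟨k, i, m, hm, hi, h⟩ := exists_rep s hs hW σ
  have hm' : C r * m ∈ CohB1.polyGrading n R i := by
    rw [← smul_eq_C_mul]
    exact Submodule.smul_mem _ r hm
  rw [ρd_eq s hs hW σ hm hi h, ρd_eq s hs hW _ hm' hi (isFracOn_smulSec n R d r σ s h)]
  rw [ProjLaurent.val, ProjLaurent.val, map_mul, C_apply, φ_monomial, map_zero, mul_assoc]

lemma coeff_ρd_smulSec (r : R) {W : (PX n R).Opens} (s : Fin (n + 1) →₀ ℕ) (hs : 0 < s.degree)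
    (hW : W = Dp n R s) (σ : Sec n R d W) (e : Fin (n + 1) → ℤ) :
    (ρd s hs hW (smulSec n R d r W σ)).coeff e = r * (ρd s hs hW σ).coeff e := by
  rw [ρd_smulSec, AddMonoidAlgebra.coeff_single_zero_mul]

end smul

section acyc

open Groth.Agent.Lib.Helper20.CechNatTop

/-- quasi-coherent modules are acyclic for covers with affine finite intersections -/
lemma isAcyc_of_affine (X : Scheme.{u}) {ι : Type u} (U : ι → X.Opens)
    (hU : ∀ s : Finset ι, s.Nonempty → IsAffineOpen (⨅ i ∈ s, U i))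
    (M : X.Modules) [M.IsQuasicoherent] : IsAcyc U (Coh.toAb M) := by
  classical
  intro n a q
  have hprod : (∏ᶜ (U ∘ a) : X.Opens) = iInf fun k => U (a k) := by
    apply le_antisymm
    · exact le_iInf fun k => leOfHom (Limits.Pi.π (U ∘ a) k)
    · exact leOfHom (Limits.Pi.lift (fun k => homOfLE (iInf_le (fun k => U (a k)) k)))
  rw [hprod]
  apply SerreVan.subsingleton_HU_of_isAffineOpen
  have := hU (Finset.univ.image a) (Finset.image_nonempty.2 Finset.univ_nonempty)
  have e : (⨅ i ∈ Finset.univ.image a, U i) = iInf fun k => U (a k) := by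
    apply le_antisymm
    · exact le_iInf fun k => iInf₂_le (a k) (Finset.mem_image_of_mem a (Finset.mem_univ k))
    · refine le_iInf₂ fun i hi => ?_
      obtain ⟨k, -, rfl⟩ := Finset.mem_image.1 hi
      exact iInf_le (fun k => U (a k)) k
  rwa [e] at this

variable (n : ℕ) (R : Type u) [CommRing R]

lemma hcov : iSup (U n R) = ⊤ := by
  have h1 := Proj.iSup_basicOpen_eq_top (CohB1.polyGrading n R)
    (MvPolynomial.X : Fin (n + 1) → MvPolynomial (Fin (n + 1)) R) (irrelevant_le n R)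
  rw [← h1]
  apply le_antisymm
  · exact iSup_le fun k => le_iSup (fun i : Fin (n + 1) =>
      Proj.basicOpen (CohB1.polyGrading n R) (MvPolynomial.X i)) k.down
  · exact iSup_le fun i => le_iSup (U n R) (ULift.up i)

lemma hU (s : Finset (ι n)) (hs : s.Nonempty) : IsAffineOpen (⨅ i ∈ s, U n R i) := by
  have hdiag : IsAffineHom (CategoryTheory.Limits.pullback.diagonal (CohB1.ProjSpace.toSpec n R)) :=
    inferInstance
  induction hs using Finset.Nonempty.cons_induction with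
  | singleton a =>
    simp only [Finset.mem_singleton, iInf_iInf_eq_left]
    exact Proj.isAffineOpen_basicOpen _ _ (X_mem n R a.down) one_pos
  | cons a s ha hs ih =>
    rw [Finset.cons_eq_insert, Finset.iInf_insert]
    exact isAffineHom_diagonal_iff.mp hdiag ⊤ (isAffineOpen_top _) _
      (by rw [Scheme.Hom.preimage_top]; exact le_top) _
      (by rw [Scheme.Hom.preimage_top]; exact le_top)
      (Proj.isAffineOpen_basicOpen _ _ (X_mem n R a.down) one_pos) ih

end acyc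

section top

open Groth.Agent.Lib.Helper20.CechNatTop

variable (p : ℕ) (R : Type u) [CommRing R] (d : ℤ)

/-- index set of the coefficient functionals: all-negative exponent vectors and tuples -/
abbrev Idx : Type u := (Fin (p + 1 + 1) → Finset.Icc d (-1)) × (Fin (p + 1 + 1) → ι (p + 1))

/-- the exponent vector of an index -/
def expo (s : Idx p d) : Fin (p + 1 + 1) → ℤ := fun j => ((s.1 j : ℤ))

lemma expo_neg (s : Idx p d) (j : Fin (p + 1 + 1)) : expo p d s j < 0 := by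
  have := (Finset.mem_Icc.1 (s.1 j).2).2
  show ((s.1 j : ℤ)) < 0
  omega

/-- the coefficient functional -/
noncomputable def coefHom (e : Fin (p + 1 + 1) → ℤ) : Lau (p + 1) R →+ R :=
  (Finsupp.applyAddHom e).comp AddMonoidAlgebra.coeffAddEquiv.toAddMonoidHom

lemma coefHom_apply (e : Fin (p + 1 + 1) → ℤ) (x : Lau (p + 1) R) :
    coefHom p R e x = x.coeff e := rfl

/-- the detecting map on top-degree Čech cochains -/
noncomputable def θ :
    (∏ᶜ Cech.Z (U (p + 1) R) (Fd (p + 1) R d) (p + 1) : AddCommGrpCat.{u}) →+ (Idx p d → R) :=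
  AddMonoidHom.pi (fun s : Idx p d =>
    ((coefHom p R (expo p d s)).comp (ρtd (p + 1) R d (p + 1) s.2)).comp
      (Pi.π (Cech.Z (U (p + 1) R) (Fd (p + 1) R d) (p + 1)) s.2).hom)

lemma θ_apply (c : (∏ᶜ Cech.Z (U (p + 1) R) (Fd (p + 1) R d) (p + 1) : AddCommGrpCat.{u}))
    (s : Idx p d) :
    θ p R d c s =
      (r (U (p + 1) R) (Fd (p + 1) R d) (ρtd (p + 1) R d) (p + 1) c s.2).coeff (expo p d s) := rfl

lemma coeff_eq_zero_of_mem_Supd {t : Fin (p + 1 + 1) →₀ ℕ} {x : Lau (p + 1) R}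
    (hx : x ∈ Supd R d t) (j : Fin (p + 1 + 1)) (ht : t j = 0) (e : Fin (p + 1 + 1) → ℤ)
    (he : e j < 0) : x.coeff e = 0 := by
  by_contra h
  have := (hx e (Finsupp.mem_support_iff.mpr h)).2 j ht
  omega

lemma θ_d' (y : (∏ᶜ Cech.Z (U (p + 1) R) (Fd (p + 1) R d) p : AddCommGrpCat.{u})) :
    θ p R d (Cech.d' (U (p + 1) R) (Fd (p + 1) R d) p y) = 0 := by
  funext s
  rw [θ_apply, r_d' (U (p + 1) R) (Fd (p + 1) R d) (ρtd (p + 1) R d) (ρtd_face (p + 1) R d)]
  simp only [dFun]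
  rw [AddMonoidAlgebra.coeff_sum, Finsupp.finsetSum_apply]
  apply Finset.sum_eq_zero
  intro i _
  rw [AddMonoidAlgebra.coeff_smul, Finsupp.smul_apply]
  have hmem : r (U (p + 1) R) (Fd (p + 1) R d) (ρtd (p + 1) R d) p y (s.2 ∘ Fin.succAbove i) ∈
      Supd R d (mult (s.2 ∘ Fin.succAbove i)) := by
    rw [← range_ρtd]
    exact ⟨_, rfl⟩
  obtain ⟨j, hj⟩ := exists_mult_eq_zero (s.2 ∘ Fin.succAbove i) (le_refl _)
  rw [coeff_eq_zero_of_mem_Supd p R d hmem j hj _ (expo_neg p d s j), smul_zero]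

/-- the `R`-action on the abelian sheaf of `O(d)` -/
noncomputable abbrev act (r : R) :
    Coh.toAb (Twist.twistProjSpace (p + 1) R d) ⟶ Coh.toAb (Twist.twistProjSpace (p + 1) R d) :=
  Coh.smulAb (Twist.twistProjSpace (p + 1) R d) (glr (p + 1) R r)

lemma θ_smul (t : R)
    (c : (∏ᶜ Cech.Z (U (p + 1) R) (Fd (p + 1) R d) (p + 1) : AddCommGrpCat.{u})) :
    θ p R d (((cechComplexFunctor (U (p + 1) R)).map (act p R d t).hom).f (p + 1) c) =
      t • θ p R d c := by
  funext s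
  rw [Pi.smul_apply, θ_apply, θ_apply, smul_eq_mul]
  have h1 : Pi.π (Cech.Z (U (p + 1) R) (Fd (p + 1) R d) (p + 1)) s.2
      (((cechComplexFunctor (U (p + 1) R)).map (act p R d t).hom).f (p + 1) c) =
      smulSec (p + 1) R d t (∏ᶜ (U (p + 1) R ∘ s.2))
        (Pi.π (Cech.Z (U (p + 1) R) (Fd (p + 1) R d) (p + 1)) s.2 c) :=
    CechLeray.π_map_apply _ _ (fun a : Fin (p + 1 + 1) → ι (p + 1) =>
      (act p R d t).hom.app (op (∏ᶜ (U (p + 1) R ∘ a)))) s.2 c
  refine (congrArg (fun σ => ((ρtd (p + 1) R d (p + 1) s.2) σ).coeff (expo p d s)) h1).trans ?_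
  exact coeff_ρd_smulSec (p + 1) R d t (mult s.2) (deg_pos (p + 1) s.2)
    (Dp_mult R s.2).symm _ _

lemma mem_NoNeg_of_θ_eq_zero
    (z : (∏ᶜ Cech.Z (U (p + 1) R) (Fd (p + 1) R d) (p + 1) : AddCommGrpCat.{u}))
    (hz : θ p R d z = 0) (b : Fin (p + 1 + 1) → ι (p + 1)) :
    r (U (p + 1) R) (Fd (p + 1) R d) (ρtd (p + 1) R d) (p + 1) z b ∈ NoNeg (n := p + 1) R := by
  intro e he
  by_contra hneg
  push Not at hneg
  have hmem : r (U (p + 1) R) (Fd (p + 1) R d) (ρtd (p + 1) R d) (p + 1) z b ∈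
      Supd R d (mult b) := by
    rw [← range_ρtd]
    exact ⟨_, rfl⟩
  have hsum : ∑ i, e i = d := (hmem e he).1
  have hge : ∀ j, d ≤ e j := by
    intro j
    have h1 : e j + ∑ i ∈ Finset.univ.erase j, e i = d := by
      rw [Finset.add_sum_erase _ _ (Finset.mem_univ j)]
      exact hsum
    have h2 : ∑ i ∈ Finset.univ.erase j, e i ≤ 0 :=
      Finset.sum_nonpos (fun i _ => (hneg i).le)
    omega
  let m : Fin (p + 1 + 1) → Finset.Icc d (-1) := fun j =>
    ⟨e j, Finset.mem_Icc.2 ⟨hge j, by have := hneg j; omega⟩⟩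
  have h3 := congrFun hz (m, b)
  rw [θ_apply] at h3
  have h4 : expo p d (m, b) = e := rfl
  rw [h4] at h3
  exact (Finsupp.mem_support_iff.1 he) h3

lemma exists_of_θ_eq_zero
    (z : (∏ᶜ Cech.Z (U (p + 1) R) (Fd (p + 1) R d) (p + 1) : AddCommGrpCat.{u}))
    (hdz : Cech.d' (U (p + 1) R) (Fd (p + 1) R d) (p + 1) z = 0) (hz : θ p R d z = 0) :
    ∃ y : (∏ᶜ Cech.Z (U (p + 1) R) (Fd (p + 1) R d) p : AddCommGrpCat.{u}),
      Cech.d' (U (p + 1) R) (Fd (p + 1) R d) p y = z := by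
  refine exists_d'_eq (U (p + 1) R) (Fd (p + 1) R d) (ρtd (p + 1) R d) p
    (fun b => ρtd_injective (p + 1) R d (p + 1) b) (ρtd_face (p + 1) R d)
    (fun k => P R k.down) (NoNeg (n := p + 1) R) ?_ ?_ z hdz
    (mem_NoNeg_of_θ_eq_zero p R d z hz)
  · intro k a x hx hx'
    rw [range_ρtd] at hx ⊢
    rw [mult_cons] at hx
    exact P_mem_d_of R d k.down (mult a) x hx hx'
  · intro x _
    rw [← sum_P x]
    conv_rhs => rw [← Equiv.sum_comp (Equiv.ulift.{u, 0} (α := Fin (p + 1 + 1)))]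
    rw [sum_P]
    rfl

/-- **Finiteness of the top cohomology** `H^n(ℙⁿ_R, O(d))`, `n = p + 1 ≥ 1`, over a Noetherian
ring. -/
theorem finite_top [IsNoetherianRing R] :
    Module.Finite R
      (Coh.HH (CohB1.ProjSpace (p + 1) R) (Twist.twistProjSpace (p + 1) R d) (p + 1)) := by
  haveI hqc : Coh.IsQCoh (Twist.twistProjSpace (p + 1) R d) :=
    Groth.Agent.Lib.helper28.TwistQCoh.twist_isQuasicoherent (CohB1.polyGrading (p + 1) R) d
  have h2 := isAcyc_of_affine (CohB1.ProjSpace (p + 1) R) (U (p + 1) R) (hU (p + 1) R)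
    (Twist.twistProjSpace (p + 1) R d)
  exact CechFin.finite_H_of_cech (U (p + 1) R) (hcov (p + 1) R)
    (Coh.toAb (Twist.twistProjSpace (p + 1) R d))
    h2 p (act p R d) (Coh.moduleOver R (CohB1.ProjSpace (p + 1) R)
      (Twist.twistProjSpace (p + 1) R d) (p + 1)) (fun t x => rfl)
    (θ p R d) (θ_d' p R d) (θ_smul p R d)
    (fun z hdz hz => exists_of_θ_eq_zero p R d z hdz hz)

end top

end Groth.Agent.Lib.Helper20.ProjTopFin
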