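import Mathlib
import Groth.Agent.Lib.Helper20.TensorEquiv
import Groth.Agent.Lib.Helper28.TwistPn
import Groth.Agent.Lib.Helper18.HHConseq

/-!
# Twisting on `P^n_R` is an exact equivalence

`invIso n R d : O(d) ⊗ O(-d) ≅ O`, `twistSC n R d S` (the twisted short complex), `shortExact_twistSC`,
`twistTwistIso F a b : (F ⊗ O(a)) ⊗ O(b) ≅ F ⊗ O(a+b)`, and transfer of cohomology vanishing along
isomorphisms.
-/

set_option autoImplicit false
universe u

open CategoryTheory CategoryTheory.Limits AlgebraicGeometry Opposite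

namespace Groth.Agent.Lib.Helper20.TwistEquivPn

open Groth.Agent.Lib.Lead.ModTensor Groth.Agent.Lib.Helper20.TensorEquiv
open Groth.Agent.Lib.helper28

noncomputable section

variable (n : ℕ) (R : Type u) [CommRing R]

/-- `O(a) ≅ O(b)` for `a = b`. -/
def twistCongr {a b : ℤ} (h : a = b) : Twist.twistProjSpace n R a ≅ Twist.twistProjSpace n R b :=
  eqToIso (by rw [h])

/-- `O(d) ⊗ O(-d) ≅ O`. -/
def invIso (d : ℤ) :
    CohB1.tensorMod (Twist.twistProjSpace n R d) (Twist.twistProjSpace n R (-d)) ≅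
      Coh.structureModule (CohB1.ProjSpace n R) :=
  TwistPn.tensorIso n R d (-d) ≪≫ twistCongr n R (add_neg_cancel d) ≪≫ (TwistPn.zeroIso n R).symm

/-- the short complex `S ⊗ O(d)` -/
def twistSC (d : ℤ) (S : ShortComplex (CohB1.ProjSpace n R).Modules) :
    ShortComplex (CohB1.ProjSpace n R).Modules :=
  mapSC (invIso n R d) S

lemma shortExact_twistSC (d : ℤ) {S : ShortComplex (CohB1.ProjSpace n R).Modules}
    (hS : S.ShortExact) : (twistSC n R d S).ShortExact :=
  shortExact_mapSC (invIso n R d) hS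

@[simp] lemma twistSC_X₁ (d : ℤ) (S : ShortComplex (CohB1.ProjSpace n R).Modules) :
    (twistSC n R d S).X₁ = CohB1.tensorMod S.X₁ (Twist.twistProjSpace n R d) := rfl
@[simp] lemma twistSC_X₂ (d : ℤ) (S : ShortComplex (CohB1.ProjSpace n R).Modules) :
    (twistSC n R d S).X₂ = CohB1.tensorMod S.X₂ (Twist.twistProjSpace n R d) := rfl
@[simp] lemma twistSC_X₃ (d : ℤ) (S : ShortComplex (CohB1.ProjSpace n R).Modules) :
    (twistSC n R d S).X₃ = CohB1.tensorMod S.X₃ (Twist.twistProjSpace n R d) := rfl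

/-- `(F ⊗ O(a)) ⊗ O(b) ≅ F ⊗ O(a + b)`. -/
def twistTwistIso (F : (CohB1.ProjSpace n R).Modules) (a b : ℤ) :
    CohB1.tensorMod (CohB1.tensorMod F (Twist.twistProjSpace n R a)) (Twist.twistProjSpace n R b) ≅
      CohB1.tensorMod F (Twist.twistProjSpace n R (a + b)) :=
  assoc F _ _ ≪≫ tensorIso (Iso.refl F) (TwistPn.tensorIso n R a b)

/-- `F ⊗ O(0) ≅ F`. -/
def twistZeroIso (F : (CohB1.ProjSpace n R).Modules) :
    CohB1.tensorMod F (Twist.twistProjSpace n R 0) ≅ F :=
  tensorIso (Iso.refl F) (TwistPn.zeroIso n R).symm ≪≫ rightUnitor F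

end

section Transfer

variable {X : Scheme.{u}}

/-- cohomology is invariant under isomorphism -/
noncomputable def hhEquiv {M N : X.Modules} (e : M ≅ N) (q : ℕ) :
    Coh.HH X M q ≃ₗ[Coh.Γtop X] Coh.HH X N q :=
  ((Groth.Agent.Lib.Helper18.HH.functor X q).mapIso e).toLinearEquiv

lemma subsingleton_of_iso {M N : X.Modules} (e : M ≅ N) (q : ℕ)
    (h : Subsingleton (Coh.HH X M q)) : Subsingleton (Coh.HH X N q) :=
  (hhEquiv e q).symm.toEquiv.subsingleton

end Transfer

end Groth.Agent.Lib.Helper20.TwistEquivPn
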