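import Mathlib

/-!
# Dimension counting along the long exact `Ext` sequence (helper20)

General lemmas in a `k`-linear abelian category:
* `LA.four_term`, `LA.bijective_of_exact`: linear algebra;
* `mapExt_bijective_of_isEquivalence`, `subsingleton_ext_of_iso`, `subsingleton_ext_sigma`;
* `ext_one_dim`, `ext_succ_equiv`: consequences of the contravariant long exact sequence.
-/

set_option autoImplicit false

universe w v u

open CategoryTheory Limits Abelian Opposite

namespace Groth.Agent.Lib.Helper20.ExtDim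

namespace LA

open Module

variable {k : Type*} [Field k] {V1 V2 V3 V4 : Type*}
  [AddCommGroup V1] [Module k V1] [AddCommGroup V2] [Module k V2]
  [AddCommGroup V3] [Module k V3] [AddCommGroup V4] [Module k V4]

/-- dimensions in a four term exact sequence `0 → V1 → V2 → V3 → V4 → 0` -/
theorem four_term (a : V1 →ₗ[k] V2) (b : V2 →ₗ[k] V3) (c : V3 →ₗ[k] V4)
    (ha : Function.Injective a) (hab : Function.Exact a b) (hbc : Function.Exact b c)
    (hc : Function.Surjective c) [Module.Finite k V2] [Module.Finite k V3] :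
    Module.Finite k V4 ∧ finrank k V4 + finrank k V2 = finrank k V3 + finrank k V1 := by
  have h4 : Module.Finite k V4 := Module.Finite.of_surjective c hc
  have h1 : Module.Finite k V1 := Module.Finite.of_injective a ha
  refine ⟨h4, ?_⟩
  have e1 := LinearMap.finrank_range_add_finrank_ker b
  have e2 := LinearMap.finrank_range_add_finrank_ker c
  rw [LinearMap.exact_iff.1 hab, LinearMap.finrank_range_of_inj ha] at e1
  rw [LinearMap.exact_iff.1 hbc, LinearMap.range_eq_top.2 hc, finrank_top] at e2
  omega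

/-- `V1 → V2 → V3 → V4` exact with `V1 = V4 = 0`: the middle map is bijective -/
theorem bijective_of_exact (a : V1 →ₗ[k] V2) (b : V2 →ₗ[k] V3) (c : V3 →ₗ[k] V4)
    (hab : Function.Exact a b) (hbc : Function.Exact b c)
    [Subsingleton V1] [Subsingleton V4] : Function.Bijective b := by
  constructor
  · rw [injective_iff_map_eq_zero]
    intro x hx
    obtain ⟨y, rfl⟩ := (hab x).1 hx
    rw [Subsingleton.elim y 0, map_zero]
  · intro z
    exact (hbc z).1 (Subsingleton.elim _ _)

end LA

section General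

variable {C : Type u} [Category.{v} C] [Abelian C] [HasExt.{w} C]

omit [HasExt.{w} C] in
lemma additive_of_isEquivalence (F : C ⥤ C) [F.IsEquivalence] : F.Additive := by
  have : PreservesFiniteLimits F := inferInstance
  exact Functor.additive_of_preserves_binary_products F

lemma mapExt_bijective_of_isEquivalence [EnoughInjectives C] (F : C ⥤ C) [F.IsEquivalence]
    [F.Additive] (X Y : C) (n : ℕ) :
    Function.Bijective (F.mapExtAddHom.{w} X Y n) := by
  have : PreservesFiniteLimits F := inferInstance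
  have : PreservesFiniteColimits F := inferInstance
  exact F.mapExt_bijective_of_preservesInjectiveObjects X Y n

lemma subsingleton_ext_sigma {m : ℕ} (L : Fin m → C) (Y : C) (n : ℕ)
    (h : ∀ i, Subsingleton (Ext.{w} (L i) Y n)) : Subsingleton (Ext.{w} (∐ L) Y n) := by
  have hc := biconeIsBilimitOfColimitCoconeOfIsColimit (colimit.isColimit (Discrete.functor L))
  exact (Ext.biproductAddEquiv hc Y n).toEquiv.subsingleton

lemma subsingleton_ext_of_iso {X X' Y Y' : C} (e1 : X ≅ X') (e2 : Y ≅ Y') (n : ℕ)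
    (h : Subsingleton (Ext.{w} X Y n)) : Subsingleton (Ext.{w} X' Y' n) := by
  let i1 := ((extFunctor.{w} n).mapIso e1.op).app Y
  let i2 := ((extFunctor.{w} n).obj (op X')).mapIso e2
  have h2 : Subsingleton (Ext.{w} X' Y n) :=
    @Equiv.subsingleton _ _ i1.addCommGroupIsoToAddEquiv.toEquiv h
  exact @Equiv.subsingleton _ _ i2.symm.addCommGroupIsoToAddEquiv.toEquiv h2

/-- `Ext` is invariant under an autoequivalence and isomorphisms (vanishing only) -/
lemma subsingleton_ext_of_equivalence [EnoughInjectives C] (F : C ⥤ C) [F.IsEquivalence]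
    {X Y X' Y' : C} (e1 : F.obj X ≅ X') (e2 : F.obj Y ≅ Y') (n : ℕ)
    (h : Subsingleton (Ext.{w} X' Y' n)) : Subsingleton (Ext.{w} X Y n) := by
  have := additive_of_isEquivalence F
  have h1 : Subsingleton (Ext.{w} (F.obj X) (F.obj Y) n) :=
    subsingleton_ext_of_iso e1.symm e2.symm n h
  exact (mapExt_bijective_of_isEquivalence F X Y n).1.subsingleton

end General

section Linear

variable {C : Type u} [Category.{v} C] [Abelian C] [HasExt.{w} C]
  (k : Type*) [Field k] [Linear k C] {S : ShortComplex C} (hS : S.ShortExact) (ω : C)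

open Module

include hS in
/-- `0 → Hom(X₃, ω) → Hom(X₂, ω) → Hom(X₁, ω) → Ext¹(X₃, ω) → 0` when `Ext¹(X₂, ω) = 0` -/
theorem ext_one_dim (h1 : Subsingleton (Ext.{w} S.X₂ ω 1))
    [Module.Finite k (Ext.{w} S.X₂ ω 0)] [Module.Finite k (Ext.{w} S.X₁ ω 0)] :
    Module.Finite k (Ext.{w} S.X₃ ω 1) ∧
      finrank k (Ext.{w} S.X₃ ω 1) + finrank k (Ext.{w} S.X₂ ω 0) =
        finrank k (Ext.{w} S.X₁ ω 0) + finrank k (Ext.{w} S.X₃ ω 0) := by
  have := hS.epi_g
  refine LA.four_term ((Ext.mk₀ S.g).precompOfLinear k ω (zero_add 0))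
    ((Ext.mk₀ S.f).precompOfLinear k ω (zero_add 0))
    (hS.extClass.precompOfLinear k ω (add_zero 1)) ?_ ?_ ?_ ?_
  · exact Ext.precomp_mk₀_injective_of_epi ω S.g
  · intro x
    constructor
    · intro hx
      exact Ext.contravariant_sequence_exact₂ hS ω x hx
    · rintro ⟨y, rfl⟩
      show (Ext.mk₀ S.f).comp ((Ext.mk₀ S.g).comp y (zero_add 0)) (zero_add 0) = 0
      rw [← Ext.comp_assoc_of_second_deg_zero, Ext.mk₀_comp_mk₀, S.zero, Ext.mk₀_zero,
        Ext.zero_comp]
  · intro x
    constructor
    · intro hx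
      exact Ext.contravariant_sequence_exact₁ hS ω x (add_zero 1) hx
    · rintro ⟨y, rfl⟩
      exact hS.extClass_comp_assoc y (h := add_zero 1)
  · intro x
    exact Ext.contravariant_sequence_exact₃ hS ω x (Subsingleton.elim _ _) (add_zero 1)

include hS in
/-- `Ext^{i+1}(X₁, ω) ≃ Ext^{i+2}(X₃, ω)` when `Ext^{i+1}(X₂, ω) = Ext^{i+2}(X₂, ω) = 0` -/
theorem ext_succ_equiv (i : ℕ) (h1 : Subsingleton (Ext.{w} S.X₂ ω (i + 1)))
    (h2 : Subsingleton (Ext.{w} S.X₂ ω (i + 2))) :
    Nonempty (Ext.{w} S.X₁ ω (i + 1) ≃ₗ[k] Ext.{w} S.X₃ ω (i + 2)) := by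
  have hb : Function.Bijective (hS.extClass.precompOfLinear k ω (add_comm 1 (i + 1))) := by
    refine LA.bijective_of_exact ((Ext.mk₀ S.f).precompOfLinear k ω (zero_add (i + 1)))
      (hS.extClass.precompOfLinear k ω (add_comm 1 (i + 1)))
      ((Ext.mk₀ S.g).precompOfLinear k ω (zero_add (i + 2))) ?_ ?_
    · intro x
      constructor
      · intro hx
        exact Ext.contravariant_sequence_exact₁ hS ω x (add_comm 1 (i + 1)) hx
      · rintro ⟨y, rfl⟩
        exact hS.extClass_comp_assoc y (h := add_comm 1 (i + 1))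
    · intro x
      constructor
      · intro hx
        exact Ext.contravariant_sequence_exact₃ hS ω x hx (add_comm 1 (i + 1))
      · rintro ⟨y, rfl⟩
        exact hS.comp_extClass_assoc y (add_comm 1 (i + 1))
  exact ⟨LinearEquiv.ofBijective _ hb⟩

end Linear

end Groth.Agent.Lib.Helper20.ExtDim
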