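import Mathlib
import Groth.Prelude.Def_KLin
import Groth.Agent.Lib.Helper20.ExtDim
import Groth.Agent.Lib.Helper18.HHConseq
import Groth.Agent.Lib.Helper18.HHSum

/-!
# `Ext^p(A, B) ≃ₗ H^p(X, H B)` by dimension shifting (helper20)

For an exact functor `H` on `O_X`-modules (`X` over a field `k`) with `H^{p+1}(X, H I) = 0` for
injective `I` and a natural `k`-linear isomorphism `Ext^0(A, B) ≃ H^0(X, H B)`, all
`Ext^p(A, B)` and `H^p(X, H B)` are `k`-linearly isomorphic.
-/

set_option autoImplicit false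

universe u

open CategoryTheory Limits Abelian Opposite AlgebraicGeometry

namespace Groth.Agent.Lib.Helper20.ExtShift

open Groth.Agent.Lib.Helper20.ExtDim Groth.Agent.Lib.Helper18.HH

namespace LA

variable {k : Type*} [Field k] {V1 V2 V3 W1 W2 W3 : Type*}
  [AddCommGroup V1] [Module k V1] [AddCommGroup V2] [Module k V2]
  [AddCommGroup V3] [Module k V3] [AddCommGroup W1] [Module k W1]
  [AddCommGroup W2] [Module k W2] [AddCommGroup W3] [Module k W3]

/-- comparison of cokernels -/
theorem coker_equiv (a : V1 →ₗ[k] V2) (b : V2 →ₗ[k] V3) (a' : W1 →ₗ[k] W2) (b' : W2 →ₗ[k] W3)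
    (hab : Function.Exact a b) (hb : Function.Surjective b)
    (hab' : Function.Exact a' b') (hb' : Function.Surjective b')
    (θ1 : V1 ≃ₗ[k] W1) (θ2 : V2 ≃ₗ[k] W2) (hcomm : ∀ x, θ2 (a x) = a' (θ1 x)) :
    Nonempty (V3 ≃ₗ[k] W3) := by
  have hker : (LinearMap.ker b).map (θ2 : V2 →ₗ[k] W2) = LinearMap.ker b' := by
    rw [LinearMap.exact_iff.1 hab, LinearMap.exact_iff.1 hab']
    ext w
    constructor
    · rintro ⟨v, ⟨x, rfl⟩, rfl⟩
      exact ⟨θ1 x, (hcomm x).symm⟩
    · rintro ⟨y, rfl⟩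
      refine ⟨a (θ1.symm y), ⟨_, rfl⟩, ?_⟩
      change θ2 (a (θ1.symm y)) = a' y
      rw [hcomm, LinearEquiv.apply_symm_apply]
  exact ⟨(b.quotKerEquivOfSurjective hb).symm.trans
    ((Submodule.Quotient.equiv _ _ θ2 hker).trans (b'.quotKerEquivOfSurjective hb'))⟩

end LA

variable {X : Scheme.{u}} (k : Type u) [Field k] [X.Over (Spec (CommRingCat.of k))]
  [HasExt.{u} X.Modules] [EnoughInjectives X.Modules]
  (A : X.Modules) (H : X.Modules ⥤ X.Modules) [H.Additive] [PreservesFiniteLimits H]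
  [PreservesFiniteColimits H]

/-- the step `Ext^{p+1}(A, X₃) ≃ Ext^{p+2}(A, X₁)` for a short exact sequence with injective
middle term -/
theorem ext_shift {S : ShortComplex X.Modules} (hS : S.ShortExact) [Injective S.X₂] (p : ℕ) :
    Nonempty (Ext.{u} A S.X₃ (p + 1) ≃ₗ[k] Ext.{u} A S.X₁ (p + 2)) := by
  have h1 : Subsingleton (Ext.{u} A S.X₂ (p + 1)) := Ext.subsingleton_of_injective _ _ _
  have h2 : Subsingleton (Ext.{u} A S.X₂ (p + 2)) := Ext.subsingleton_of_injective _ _ _
  have hb : Function.Bijective (hS.extClass.postcompOfLinear k A (rfl : p + 1 + 1 = p + 2)) := by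
    refine ExtDim.LA.bijective_of_exact ((Ext.mk₀ S.g).postcompOfLinear k A (add_zero (p + 1)))
      (hS.extClass.postcompOfLinear k A (rfl : p + 1 + 1 = p + 2))
      ((Ext.mk₀ S.f).postcompOfLinear k A (add_zero (p + 2))) ?_ ?_
    · intro x
      constructor
      · intro hx
        exact Ext.covariant_sequence_exact₃ A hS x rfl hx
      · rintro ⟨y, rfl⟩
        show (y.comp (Ext.mk₀ S.g) (add_zero (p + 1))).comp hS.extClass rfl = 0
        rw [Ext.comp_assoc_of_second_deg_zero, hS.comp_extClass, Ext.comp_zero]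
    · intro x
      constructor
      · intro hx
        exact Ext.covariant_sequence_exact₁ A hS x hx rfl
      · rintro ⟨y, rfl⟩
        show (y.comp hS.extClass rfl).comp (Ext.mk₀ S.f) (add_zero (p + 2)) = 0
        rw [Ext.comp_assoc_of_third_deg_zero, hS.extClass_comp, Ext.comp_zero]
  exact ⟨LinearEquiv.ofBijective _ hb⟩

variable (hI : ∀ I : X.Modules, Injective I → ∀ p : ℕ, Subsingleton (Coh.HH X (H.obj I) (p + 1)))
  (θ : ∀ B : X.Modules, Ext.{u} A B 0 ≃ₗ[k] Coh.HH X (H.obj B) 0)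
  (hθ : ∀ {B B' : X.Modules} (f : B ⟶ B') (x : Ext.{u} A B 0),
    θ B' (x.comp (Ext.mk₀ f) (add_zero 0)) = mapOver k (H.map f) 0 (θ B x))

include hI θ hθ in
/-- the degree one step -/
theorem ext_one {S : ShortComplex X.Modules} (hS : S.ShortExact) [Injective S.X₂] :
    Nonempty (Ext.{u} A S.X₁ 1 ≃ₗ[k] Coh.HH X (H.obj S.X₁) 1) := by
  have hSH : (S.map H).ShortExact := hS.map_of_exact H
  have h1 : Subsingleton (Ext.{u} A S.X₂ 1) := Ext.subsingleton_of_injective _ _ _
  have h1' : Subsingleton (Coh.HH X (S.map H).X₂ 1) := hI S.X₂ inferInstance 0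
  refine LA.coker_equiv ((Ext.mk₀ S.g).postcompOfLinear k A (add_zero 0))
    (hS.extClass.postcompOfLinear k A (rfl : 0 + 1 = 1))
    (mapOver k (S.map H).g 0) (δOver hSH k 0) ?_ ?_ (exactOver₃ hSH k 0) ?_ (θ S.X₂) (θ S.X₃) ?_
  · intro x
    constructor
    · intro hx
      exact Ext.covariant_sequence_exact₃ A hS x rfl hx
    · rintro ⟨y, rfl⟩
      show (y.comp (Ext.mk₀ S.g) (add_zero 0)).comp hS.extClass rfl = 0
      rw [Ext.comp_assoc_of_second_deg_zero, hS.comp_extClass, Ext.comp_zero]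
  · intro x
    exact Ext.covariant_sequence_exact₁ A hS x (Subsingleton.elim _ _) rfl
  · intro x
    exact (exactOver₁ hSH k 0 x).1 (Subsingleton.elim _ _)
  · intro x
    exact hθ S.g x

include hI θ hθ in
/-- **dimension shifting** -/
theorem ext_equiv_HH (p : ℕ) (B : X.Modules) :
    Nonempty (Ext.{u} A B p ≃ₗ[k] Coh.HH X (H.obj B) p) := by
  induction p generalizing B with
  | zero => exact ⟨θ B⟩
  | succ p ih =>
    let S : ShortComplex X.Modules :=
      ShortComplex.mk (Injective.ι B) (cokernel.π (Injective.ι B)) (cokernel.condition _)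
    have hS : S.ShortExact :=
      { exact := ShortComplex.exact_of_g_is_cokernel S (cokernelIsCokernel _)
        mono_f := inferInstanceAs (Mono (Injective.ι B))
        epi_g := inferInstanceAs (Epi (cokernel.π (Injective.ι B))) }
    have hinj : Injective S.X₂ := inferInstanceAs (Injective (Injective.under B))
    cases p with
    | zero => exact ext_one k A H hI θ hθ hS
    | succ q =>
      obtain ⟨e1⟩ := ext_shift k A hS q
      obtain ⟨e2⟩ := ih S.X₃
      have hSH : (S.map H).ShortExact := hS.map_of_exact H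
      let e3 := overEquiv k (δEquiv hSH (q + 1) (hI S.X₂ hinj q) (hI S.X₂ hinj (q + 1)))
      exact ⟨e1.symm.trans (e2.trans e3)⟩

end Groth.Agent.Lib.Helper20.ExtShift
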