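import Mathlib
import Groth.Prelude.Def_KLin
import Groth.Prelude.Def_DCoh4
import Groth.Agent.Lib.Lead.ModTensor
import Groth.Agent.Lib.Helper20.TensorEquiv

/-!
# `k`-linearity of the tensor product and of the sheaf Hom (helper20)

`tensorBi_map_smulModΓ`: `A ⊗ (r • -) = r • -` on `A ⊗ Y`;
`sheafHom_map_smulModΓ`: `ℋom(A, r • -) = r • -` on `ℋom(A, B)`.
-/

set_option autoImplicit false
universe u
open CategoryTheory Limits Opposite AlgebraicGeometry MonoidalCategory

namespace Groth.Agent.Lib.Helper20.SheafHomLin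

section General

variable {C : Type*} [Category C] {R : Cᵒᵖ ⥤ CommRingCat.{u}}

lemma whiskerLeft_smul_comp (P Q T : PresheafOfModules.{u} (R ⋙ forget₂ _ _)) (μ : Q ⟶ Q) (ν : T ⟶ T)
    (g : P ⊗ Q ⟶ T) (r : ∀ U : Cᵒᵖ, (R ⋙ forget₂ _ RingCat).obj U)
    (hμ : ∀ (U : Cᵒᵖ) (q : Q.obj U), (μ.app U).hom q = r U • q)
    (hν : ∀ (U : Cᵒᵖ) (t : T.obj U), (ν.app U).hom t = r U • t) :
    (P ◁ μ) ≫ g = g ≫ ν := by
  apply PresheafOfModules.hom_ext
  intro U
  apply ModuleCat.MonoidalCategory.tensor_ext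
  intro m y
  show (g.app U).hom (m ⊗ₜ ((μ.app U).hom y)) = (ν.app U).hom ((g.app U).hom (m ⊗ₜ y))
  rw [hμ, hν]
  exact (congrArg (g.app U).hom (TensorProduct.tmul_smul (r U) m y)).trans
    (LinearMap.map_smul (g.app U).hom (r U) (m ⊗ₜ y))

end General

open Groth.Agent.Lib.Lead.ModTensor Groth.Agent.Lib.Helper20.TensorEquiv

variable {X : Scheme.{u}}

lemma tensorBi_obj_map (A : X.Modules) {Y Y' : X.Modules} (f : Y ⟶ Y') :
    ((DCoh.tensorBi (X := X)).obj A).map f = (L X).map (CohB1.toPMod A ◁ (V X).map f) := rfl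

/-- a morphism out of a sheafification is determined by its restriction along the unit -/
lemma L_hom_ext {P : CohB1.PMod X} {M : X.Modules} (φ ψ : (L X).obj P ⟶ M)
    (h : η P ≫ (V X).map φ = η P ≫ (V X).map ψ) : φ = ψ :=
  ((adj X).homEquiv P M).injective h

/-- restriction of a global function, typed as a scalar for presheaves of modules -/
noncomputable def resU (r : Coh.Γtop X) (U : (TopologicalSpace.Opens X)ᵒᵖ) :
    ((X.sheaf.obj ⋙ forget₂ CommRingCat RingCat.{u}).obj U) := Coh.resTop X U r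

lemma V_smulModΓ_app (M : X.Modules) (r : Coh.Γtop X) (U : (TopologicalSpace.Opens X)ᵒᵖ)
    (m : (CohB1.toPMod M).obj U) :
    (((V X).map (Formal.smulModΓ M r)).app U).hom m = resU r U • m := rfl

/-- `A ⊗ (r • -) = r • -` -/
theorem tensorBi_map_smulModΓ (A Y : X.Modules) (r : Coh.Γtop X) :
    ((DCoh.tensorBi (X := X)).obj A).map (Formal.smulModΓ Y r) =
      Formal.smulModΓ (((DCoh.tensorBi (X := X)).obj A).obj Y) r := by
  rw [tensorBi_obj_map]
  apply L_hom_ext
  rw [← η_naturality]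
  exact whiskerLeft_smul_comp (CohB1.toPMod A) (CohB1.toPMod Y) _ _ _
    (η (CohB1.toPMod A ⊗ CohB1.toPMod Y)) (resU r) (fun U q => V_smulModΓ_app Y r U q)
    (fun U t => V_smulModΓ_app _ r U t)

/-- `ℋom(A, r • -) = r • -` -/
theorem sheafHom_map_smulModΓ (A B : X.Modules) [DCoh.HasSheafHom A] (r : Coh.Γtop X) :
    (DCoh.sheafHom A).map (Formal.smulModΓ B r) =
      Formal.smulModΓ ((DCoh.sheafHom A).obj B) r := by
  apply ((DCoh.sheafHomAdj A).homEquiv _ _).symm.injective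
  rw [Adjunction.homEquiv_counit, Adjunction.homEquiv_counit, tensorBi_map_smulModΓ,
    ← KLin.comp_smulModΓ, (DCoh.sheafHomAdj A).counit_naturality]

end Groth.Agent.Lib.Helper20.SheafHomLin
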