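import Mathlib
import Groth.Prelude.Def_Coh
import Groth.Agent.Lib.Helper18.HHConseq
import Groth.Agent.Lib.Helper18.HHZero

/-!
# Sections of `F → O` from vanishing of `H¹`

`homOfGlobal M t : O ⟶ M` for a global section `t`, `hom_ext_top` (maps out of `O` are determined by the image
of `1 ∈ Γ(X, O)`), `exists_lift_top` (global sections lift along `S.g` when `H¹(S.X₁) = 0`) and
`exists_section` : for a short exact sequence `S` with `S.X₃ ≅ O` and `H¹(X, S.X₁) = 0`, `S.g` has a section.
-/

set_option autoImplicit false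
universe u

open CategoryTheory CategoryTheory.Limits AlgebraicGeometry Opposite TopologicalSpace

namespace Groth.Agent.Lib.Helper20.SplitH1

variable {X : Scheme.{u}}

/-- the compatible family of restrictions of a global section -/
noncomputable def globalFamily (M : X.Modules) (t : M.val.obj (op ⊤)) : M.sections :=
  PresheafOfModules.sectionsMk (fun U => M.val.map (homOfLE (le_top : U.unop ≤ ⊤)).op t) (by
    intro U V f
    rw [← M.val.map_comp_apply]
    rfl)

/-- the morphism `O ⟶ M` determined by a global section -/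
noncomputable def homOfGlobal (M : X.Modules) (t : M.val.obj (op ⊤)) : Coh.structureModule X ⟶ M :=
  M.unitHomEquiv.symm (globalFamily M t)

lemma homOfGlobal_app_one (M : X.Modules) (t : M.val.obj (op ⊤)) (U : (Opens X)ᵒᵖ) :
    ((homOfGlobal M t).val.app U).hom (1 : X.ringCatSheaf.obj.obj U) =
      M.val.map (homOfLE (le_top : U.unop ≤ ⊤)).op t := by
  have h := M.unitHomEquiv.apply_symm_apply (globalFamily M t)
  exact congrArg (fun σ => σ.val U) h

lemma homOfGlobal_top (M : X.Modules) (t : M.val.obj (op ⊤)) :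
    ((homOfGlobal M t).val.app (op ⊤)).hom (1 : X.ringCatSheaf.obj.obj (op ⊤)) = t := by
  rw [homOfGlobal_app_one]
  have : (homOfLE (le_top : (op (⊤ : Opens X)).unop ≤ ⊤)).op = 𝟙 (op (⊤ : Opens X)) := rfl
  rw [this, M.val.map_id]
  rfl

/-- a morphism out of `O` is determined by the image of `1` over the whole space -/
lemma hom_ext_top {M : X.Modules} (a b : Coh.structureModule X ⟶ M)
    (h : (a.val.app (op ⊤)).hom (1 : X.ringCatSheaf.obj.obj (op ⊤)) =
      (b.val.app (op ⊤)).hom (1 : X.ringCatSheaf.obj.obj (op ⊤))) : a = b := by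
  apply M.unitHomEquiv.injective
  ext U
  show (a.val.app U).hom (1 : X.ringCatSheaf.obj.obj U) = (b.val.app U).hom (1 : X.ringCatSheaf.obj.obj U)
  have h1 : (1 : X.ringCatSheaf.obj.obj U) =
      (Coh.structureModule X).val.map (homOfLE (le_top : U.unop ≤ ⊤)).op
        (1 : X.ringCatSheaf.obj.obj (op ⊤)) :=
    ((X.ringCatSheaf.obj.map (homOfLE (le_top : U.unop ≤ ⊤)).op).hom.map_one).symm
  have na := PresheafOfModules.naturality_apply a.val (homOfLE (le_top : U.unop ≤ ⊤)).op
    (1 : X.ringCatSheaf.obj.obj (op ⊤))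
  have nb := PresheafOfModules.naturality_apply b.val (homOfLE (le_top : U.unop ≤ ⊤)).op
    (1 : X.ringCatSheaf.obj.obj (op ⊤))
  rw [h1]
  exact na.trans ((congrArg _ h).trans nb.symm)

open Groth.Agent.Lib.Helper18.HH in
/-- global sections lift along `S.g` when `H¹(X, S.X₁) = 0` -/
theorem exists_lift_top {S : ShortComplex X.Modules} (hS : S.ShortExact)
    (h1 : Subsingleton (Coh.HH X S.X₁ 1)) (c : S.X₃.val.obj (op ⊤)) :
    ∃ t : S.X₂.val.obj (op ⊤), (S.g.val.app (op ⊤)).hom t = c := by
  obtain ⟨y, hy⟩ := surjective_map_g hS 0 h1 ((equiv₀ S.X₃).symm c)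
  refine ⟨equiv₀ S.X₂ y, ?_⟩
  rw [← equiv₀_naturality, hy, LinearEquiv.apply_symm_apply]

/-- for a short exact sequence `0 → A → B → C → 0` with `C ≅ O` and `H¹(X, A) = 0`, the map `B → C` has a
section -/
theorem exists_section {S : ShortComplex X.Modules} (hS : S.ShortExact)
    (e : S.X₃ ≅ Coh.structureModule X) (h1 : Subsingleton (Coh.HH X S.X₁ 1)) :
    ∃ s : S.X₃ ⟶ S.X₂, s ≫ S.g = 𝟙 _ := by
  obtain ⟨t, ht⟩ := exists_lift_top hS h1
    ((e.inv.val.app (op ⊤)).hom (1 : X.ringCatSheaf.obj.obj (op ⊤)))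
  refine ⟨e.hom ≫ homOfGlobal S.X₂ t, ?_⟩
  have key : homOfGlobal S.X₂ t ≫ S.g = e.inv := by
    apply hom_ext_top
    refine Eq.trans ?_ ht
    show (S.g.val.app (op ⊤)).hom (((homOfGlobal S.X₂ t).val.app (op ⊤)).hom _) = _
    rw [homOfGlobal_top]
  rw [Category.assoc, key, e.hom_inv_id]

/-- a section of `S.g` in a short exact sequence gives a splitting -/
theorem nonempty_splitting_of_section {S : ShortComplex X.Modules} (hS : S.ShortExact)
    (s : S.X₃ ⟶ S.X₂) (hs : s ≫ S.g = 𝟙 _) : Nonempty S.Splitting :=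
  ⟨ShortComplex.Splitting.ofExactOfSection S hS.exact s hs hS.mono_f⟩

end Groth.Agent.Lib.Helper20.SplitH1
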