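import Mathlib
import Groth.Prelude.Def_KLin
import Groth.Prelude.Def_DCoh4
import Groth.Agent.Lib.Helper20.ExtShift
import Groth.Agent.Lib.Helper20.SheafHomLin
import Groth.Agent.Lib.Helper20.SplitH1
import Groth.Agent.Lib.Helper20.TwistEquivPn
import Groth.Agent.Lib.Helper18.HHZero
import Groth.Agent.Lib.Helper21.ExtLocFree
import Groth.Agent.Lib.Helper21.InjAcyc3
import Groth.Agent.S15520

/-!
# `Ext^p(A, B) ≃ₗ[k] H^p(X, ℋom(A, B))` for `A` finite locally free (helper20)

A `k`-linear refinement of helper21's `S12483`.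
-/

set_option autoImplicit false
universe u
open CategoryTheory Limits Opposite AlgebraicGeometry Abelian TopologicalSpace

namespace Groth.Agent.Lib.Helper20.SheafHomExt

open Groth.Agent.Lib.Helper18.HH Groth.Agent.Lib.Helper20.SheafHomLin

variable {X : Scheme.{u}}

section Rho

/-- the unit class in `H^0(X, O_X)` -/
noncomputable def ι₀ (X : Scheme.{u}) : Coh.HH X (Coh.structureModule X) 0 :=
  (equiv₀ (Coh.structureModule X)).symm (1 : X.ringCatSheaf.obj.obj (op ⊤))

/-- `Hom(O, M) → H^0(X, M)` -/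
noncomputable def ρ (M : X.Modules) (f : Coh.structureModule X ⟶ M) : Coh.HH X M 0 :=
  map f 0 (ι₀ X)

lemma ρ_eq (M : X.Modules) (f : Coh.structureModule X ⟶ M) :
    ρ M f = (equiv₀ M).symm ((f.val.app (op ⊤)).hom (1 : X.ringCatSheaf.obj.obj (op ⊤))) :=
  equiv₀_symm_naturality f _

lemma ρ_bijective (M : X.Modules) : Function.Bijective (ρ M) := by
  constructor
  · intro f g h
    rw [ρ_eq, ρ_eq] at h
    exact Groth.Agent.Lib.Helper20.SplitH1.hom_ext_top f g ((equiv₀ M).symm.injective h)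
  · intro x
    refine ⟨Groth.Agent.Lib.Helper20.SplitH1.homOfGlobal M (equiv₀ M x), ?_⟩
    rw [ρ_eq, Groth.Agent.Lib.Helper20.SplitH1.homOfGlobal_top, LinearEquiv.symm_apply_apply]

lemma ρ_comp {M N : X.Modules} (f : Coh.structureModule X ⟶ M) (h : M ⟶ N) :
    ρ N (f ≫ h) = map h 0 (ρ M f) := map_comp_apply f h 0 _

end Rho

section Theta

variable (k : Type u) [Field k] [X.Over (Spec (CommRingCat.of k))]
  (A : X.Modules) [DCoh.HasSheafHom A]

instance : (DCoh.sheafHom A).Additive := (DCoh.sheafHomAdj A).right_adjoint_additive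

/-- `A ⊗ O ≅ A` -/
noncomputable def uIso : ((DCoh.tensorBi (X := X)).obj A).obj (Coh.structureModule X) ≅ A :=
  Groth.Agent.Lib.Lead.ModTensor.rightUnitor A

/-- `Hom(A, B) ≃ Hom(O, ℋom(A, B))` -/
noncomputable def σ (B : X.Modules) : (A ⟶ B) ≃ (Coh.structureModule X ⟶ (DCoh.sheafHom A).obj B) :=
  (uIso A).symm.homFromEquiv.trans ((DCoh.sheafHomAdj A).homEquiv _ _)

lemma σ_comp {B B' : X.Modules} (g : A ⟶ B) (f : B ⟶ B') :
    σ A B' (g ≫ f) = σ A B g ≫ (DCoh.sheafHom A).map f := by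
  unfold σ
  simp only [Equiv.trans_apply, Iso.homFromEquiv_apply, Iso.symm_inv]
  rw [← Category.assoc, Adjunction.homEquiv_naturality_right]

/-- the universal class in `H^0(X, ℋom(A, A))` -/
noncomputable def c₀ : Coh.HH X ((DCoh.sheafHom A).obj A) 0 := ρ _ (σ A A (𝟙 A))

/-- `Hom(A, B) → H^0(X, ℋom(A, B))` -/
noncomputable def θ' (B : X.Modules) (g : A ⟶ B) : Coh.HH X ((DCoh.sheafHom A).obj B) 0 :=
  map ((DCoh.sheafHom A).map g) 0 (c₀ A)

lemma θ'_eq (B : X.Modules) (g : A ⟶ B) : θ' A B g = ρ _ (σ A B g) := by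
  unfold θ' c₀
  rw [← ρ_comp, ← σ_comp, Category.id_comp]

lemma θ'_bijective (B : X.Modules) : Function.Bijective (θ' A B) := by
  have h : θ' A B = (ρ _) ∘ (σ A B) := funext (θ'_eq A B)
  rw [h]
  exact (ρ_bijective _).comp (σ A B).bijective

lemma θ'_comp {B B' : X.Modules} (g : A ⟶ B) (f : B ⟶ B') :
    θ' A B' (g ≫ f) = map ((DCoh.sheafHom A).map f) 0 (θ' A B g) := by
  unfold θ'
  rw [Functor.map_comp, map_comp_apply]

/-- `θ'` as a `k`-linear equivalence -/
noncomputable def θLin (B : X.Modules) : (A ⟶ B) ≃ₗ[k] Coh.HH X ((DCoh.sheafHom A).obj B) 0 :=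
  LinearEquiv.ofBijective
    { toFun := θ' A B
      map_add' := fun g g' => by
        unfold θ'
        rw [Functor.map_add, Groth.Agent.Lib.Helper18.HH.map_add]
        rfl
      map_smul' := fun a g => by
        unfold θ'
        rw [KLin.smul_def, Functor.map_comp, map_comp_apply]
        have h : (DCoh.sheafHom A).map (Formal.smulMod k A a) =
            Formal.smulMod k ((DCoh.sheafHom A).obj A) a := sheafHom_map_smulModΓ A A _
        rw [h]
        have h2 : map (Formal.smulMod k ((DCoh.sheafHom A).obj A) a) 0 (c₀ A) = a • c₀ A := rfl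
        rw [h2]
        exact (mapOver k ((DCoh.sheafHom A).map g) 0).map_smul a (c₀ A) }
    (θ'_bijective A B)

variable [HasExt.{u} X.Modules]

/-- `Ext^0(A, B) ≃ₗ[k] H^0(X, ℋom(A, B))` -/
noncomputable def θ (B : X.Modules) : Ext.{u} A B 0 ≃ₗ[k] Coh.HH X ((DCoh.sheafHom A).obj B) 0 :=
  Ext.linearEquiv₀.trans (θLin k A B)

lemma θ_natural {B B' : X.Modules} (f : B ⟶ B') (x : Ext.{u} A B 0) :
    θ k A B' (x.comp (Ext.mk₀ f) (add_zero 0)) =
      mapOver k ((DCoh.sheafHom A).map f) 0 (θ k A B x) := by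
  have hx : x = Ext.mk₀ (Ext.homEquiv₀ x) := (Ext.mk₀_homEquiv₀_apply x).symm
  generalize Ext.homEquiv₀ x = g at hx
  subst hx
  have e1 : Ext.homEquiv₀ (Ext.mk₀ (g ≫ f)) = g ≫ f := Ext.homEquiv₀.apply_symm_apply (g ≫ f)
  have e2 : Ext.homEquiv₀ (Ext.mk₀ g) = g := Ext.homEquiv₀.apply_symm_apply g
  show θ' A B' (Ext.homEquiv₀ ((Ext.mk₀ g).comp (Ext.mk₀ f) (add_zero 0))) =
    map ((DCoh.sheafHom A).map f) 0 (θ' A B (Ext.homEquiv₀ (Ext.mk₀ g)))
  rw [Ext.mk₀_comp_mk₀, e1, e2, θ'_comp]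

end Theta

section Main

variable (k : Type u) [Field k] [X.Over (Spec (CommRingCat.of k))]
  (A : X.Modules) (hA : FlatMod.IsFinLocFree A) [DCoh.HasSheafHom A] [HasExt.{u} X.Modules]

include hA in
/-- **`Ext^p(A, B) ≃ₗ[k] H^p(X, ℋom(A, B))`** for `A` finite locally free -/
theorem ext_linearEquiv (B : X.Modules) (p : ℕ) :
    Nonempty (Ext.{u} A B p ≃ₗ[k] Coh.HH X ((DCoh.sheafHom A).obj B) p) := by
  have h1 : HasExt.{u} (ModSite.Mod X.sheaf) := ‹HasExt.{u} X.Modules›
  have : EnoughInjectives (ModSite.Mod X.sheaf) :=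
    Groth.Agent.Lib.Helper21.ModGroth.enoughInjectives_mod (ModSite.ringSh X.sheaf)
  have : EnoughInjectives X.Modules :=
    Groth.Agent.Lib.Helper21.ModGroth.enoughInjectives_mod X.ringCatSheaf
  let A' : ModSite.Mod X.sheaf := A
  have h2 : ModSite.HasSheafHom A' := Groth.Agent.Lib.helper21.ExtShDelta.hasSheafHom X.sheaf A'
  have hM : ∀ G : ModSite.Mod X.sheaf, IsZero ((ModSite.extSh A' 1).obj G) := fun G =>
    Groth.Agent.S15520.isZero_extSh_of_finLocFree X A G hA 1 le_rfl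
  let e : DCoh.sheafHom A ≅ ModSite.sheafHom A' :=
    conjugateIsoEquiv (DCoh.sheafHomAdj A) (ModSite.sheafHomAdj A')
      (Groth.Agent.Lib.Helper21.TensorMon.braidIso X.sheaf A').symm
  have : PreservesFiniteLimits (DCoh.sheafHom A) := by
    have := (DCoh.sheafHomAdj A).rightAdjoint_preservesLimits
    exact PreservesLimitsOfSize.preservesFiniteLimits.{u, u} _
  have : PreservesFiniteColimits (DCoh.sheafHom A) := by
    have hc := Groth.Agent.Lib.helper21.ExtLocFree.preservesFiniteColimits_sheafHom A' hM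
    exact @preservesFiniteColimits_of_natIso _ _ _ _ _ _ e.symm hc
  have hI : ∀ I : X.Modules, Injective I → ∀ p : ℕ,
      Subsingleton (Coh.HH X ((DCoh.sheafHom A).obj I) (p + 1)) := by
    intro I hI p
    have : Injective (C := ModSite.Mod X.sheaf) I := hI
    have h3 : Subsingleton (Ext.{u} (ModSite.unit X.sheaf) ((ModSite.sheafHom A').obj I) (p + 1)) :=
      subsingleton_of_forall_eq 0 fun x =>
        Groth.Agent.Lib.helper21.HomAcyc.ext_flat_sheafHom_eq_zero A' I p _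
          (Groth.Agent.Lib.helper21.HomAcyc.isFlat_unit X.sheaf) x
    obtain ⟨e4⟩ := Groth.Agent.Lib.helper21.InjAcyc.ext_unit_equiv_H (ModSite.ringSh X.sheaf)
      ((ModSite.sheafHom A').obj I) (p + 1)
    have h5 : Subsingleton (Coh.HH X ((ModSite.sheafHom A').obj I) (p + 1)) :=
      (EquivLike.injective e4.symm).subsingleton
    exact Groth.Agent.Lib.Helper20.TwistEquivPn.subsingleton_of_iso (e.app I).symm (p + 1) h5
  exact Groth.Agent.Lib.Helper20.ExtShift.ext_equiv_HH k A (DCoh.sheafHom A) hI (θ k A)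
    (fun f x => θ_natural k A f x) p B

end Main

end Groth.Agent.Lib.Helper20.SheafHomExt
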