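import Mathlib

/-!
# Points of a closed subset of Krull dimension `≤ 0` are closed
-/

set_option autoImplicit false

namespace Groth.Agent.Lib.Helper20.DimZeroClosed

open Topology

/-- the closure of a point as an irreducible closed set -/
def ptClosure {Y : Type*} [TopologicalSpace Y] (y : Y) : TopologicalSpace.IrreducibleCloseds Y where
  carrier := closure {y}
  isIrreducible' := isIrreducible_singleton.closure
  isClosed' := isClosed_closure

theorem isClosed_singleton_of_dim_le_zero {X : Type*} [TopologicalSpace X] [T0Space X]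
    (Z : Set X) (hZ : IsClosed Z) (h : topologicalKrullDim Z ≤ 0) (x : X) (hx : x ∈ Z) :
    IsClosed ({x} : Set X) := by
  have hmin := (Order.krullDim_nonpos_iff_forall_isMin
    (α := TopologicalSpace.IrreducibleCloseds Z)).1 h
  rw [← closure_eq_iff_isClosed]
  refine Set.Subset.antisymm ?_ subset_closure
  intro y hy
  have hyZ : y ∈ Z := (hZ.closure_subset_iff.2 (Set.singleton_subset_iff.2 hx)) hy
  -- in the subspace `Z`
  let x' : Z := ⟨x, hx⟩
  let y' : Z := ⟨y, hyZ⟩
  have hy' : y' ∈ closure ({x'} : Set Z) := by
    rw [closure_subtype]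
    simpa [x', y'] using hy
  have hle : ptClosure y' ≤ ptClosure x' := by
    show closure ({y'} : Set Z) ⊆ closure ({x'} : Set Z)
    exact isClosed_closure.closure_subset_iff.2 (Set.singleton_subset_iff.2 hy')
  have hge : ptClosure x' ≤ ptClosure y' := hmin (ptClosure x') hle
  have hx' : x' ∈ closure ({y'} : Set Z) := hge (subset_closure (Set.mem_singleton x'))
  rw [closure_subtype] at hx'
  have hx'' : x ∈ closure ({y} : Set X) := by simpa [x', y'] using hx'
  -- `x ⤳ y` and `y ⤳ x` in a T0 space
  have h1 : y ⤳ x := specializes_iff_mem_closure.2 hx''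
  have h2 : x ⤳ y := specializes_iff_mem_closure.2 hy
  exact (h1.antisymm h2).eq

end Groth.Agent.Lib.Helper20.DimZeroClosed
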