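import Mathlib
import Groth.Prelude.Def_Coh
import Groth.Agent.S0012
import Groth.Agent.S0007
import Groth.Agent.Lib.Helper16.QCohAffinePush
import Groth.Agent.Lib.Helper7.QCohProd

set_option autoImplicit false
universe u
open CategoryTheory CategoryTheory.Limits AlgebraicGeometry Opposite TopologicalSpace

namespace Groth.Agent.Lib.Helper20.AcyclicEmb

attribute [local instance] Abelian.hasFiniteBiproducts

variable {X : Scheme.{u}}

/-- The underlying abelian sheaf functor, typed on `X.Modules`. -/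
noncomputable def toAbFunctor (X : Scheme.{u}) :
    X.Modules ⥤ Sheaf (Opens.grothendieckTopology X) AddCommGrpCat.{u} :=
  SheafOfModules.toSheaf X.ringCatSheaf

instance : (toAbFunctor X).Additive :=
  (inferInstance : (SheafOfModules.toSheaf X.ringCatSheaf).Additive)

section ext
variable {𝒜 : Type*} [Category 𝒜] [Abelian 𝒜] {ℬ : Type*} [Category ℬ] [Abelian ℬ] [HasExt ℬ]

theorem subsingleton_ext_biproduct (F : 𝒜 ⥤ ℬ) [F.Additive] {J : Type} [Fintype J] (P : J → 𝒜)
    [HasBiproduct P] (Z : ℬ) (n : ℕ)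
    (h : ∀ j, Subsingleton (Abelian.Ext Z (F.obj (P j)) n)) :
    Subsingleton (Abelian.Ext Z (F.obj (⨁ P)) n) := by
  let c := F.mapBicone (biproduct.bicone P)
  have hc : c.IsBilimit := isBilimitOfPreserves _ (biproduct.isBilimit P)
  have : ∀ j, Subsingleton (Abelian.Ext Z ((F.obj ∘ P) j) n) := h
  exact (Abelian.Ext.addEquivBiproduct Z hc n).toEquiv.subsingleton

end ext

/-- Cohomology of a finite biproduct vanishes if it does for each summand. -/
theorem subsingleton_HH_biproduct {J : Type} [Fintype J] (P : J → X.Modules) (p : ℕ)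
    (h : ∀ j, Subsingleton (Coh.HH X (P j) p)) : Subsingleton (Coh.HH X (⨁ P) p) :=
  subsingleton_ext_biproduct (toAbFunctor X) P _ p h

/-- A morphism of modules which is injective on sections is a monomorphism. -/
theorem mono_of_injective_app {M N : X.Modules} (φ : M ⟶ N)
    (h : ∀ U : X.Opens, Function.Injective (φ.app U)) : Mono φ := by
  have h1 : Mono ((Scheme.Modules.toPresheaf X).map φ) := by
    rw [Scheme.Modules.toPresheaf_map]
    have : ∀ U, Mono ((Scheme.Modules.Hom.mapPresheaf φ).app U) := fun U => by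
      rw [Scheme.Modules.mapPresheaf_app]
      exact (AddCommGrpCat.mono_iff_injective _).mpr (h U.unop)
    exact @NatTrans.mono_of_mono_app _ _ _ _ _ _ (Scheme.Modules.Hom.mapPresheaf φ) this
  exact (Scheme.Modules.toPresheaf X).mono_of_mono_map h1

/-- The inclusion of an affine open is an affine morphism when affine opens have affine
intersections. -/
theorem isAffineHom_ι (hd : ∀ V W : X.Opens, IsAffineOpen V → IsAffineOpen W → IsAffineOpen (V ⊓ W))
    (U : X.Opens) (hU : IsAffineOpen U) : IsAffineHom U.ι := by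
  refine ⟨fun V hV => ?_⟩
  rw [← Scheme.Hom.isAffineOpen_iff_of_isOpenImmersion U.ι,
    Scheme.Hom.image_preimage_eq_opensRange_inf, Scheme.Opens.opensRange_ι]
  exact hd U V hU hV

/-- `j_* j^* M` for the inclusion of an open. -/
noncomputable def piece (U : X.Opens) (M : X.Modules) : X.Modules :=
  (Scheme.Modules.pushforward U.ι).obj ((Scheme.Modules.restrictFunctor U.ι).obj M)

/-- The unit `M ⟶ j_* j^* M`. -/
noncomputable def toPiece (U : X.Opens) (M : X.Modules) : M ⟶ piece U M :=
  (Scheme.Modules.restrictAdjunction U.ι).unit.app M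

theorem toPiece_app (U : X.Opens) (M : X.Modules) (V : X.Opens) :
    (toPiece U M).app V = M.presheaf.map (homOfLE (U.ι.image_preimage_le V)).op := rfl

theorem isQuasicoherent_piece (hd : ∀ V W : X.Opens, IsAffineOpen V → IsAffineOpen W →
    IsAffineOpen (V ⊓ W)) (U : X.Opens) (hU : IsAffineOpen U) (M : X.Modules) [M.IsQuasicoherent] :
    (piece U M).IsQuasicoherent := by
  have := isAffineHom_ι hd U hU
  exact Groth.Agent.Lib.helper16.QCohAffinePush.isQuasicoherent_push U.ι
    ((Scheme.Modules.restrictFunctor U.ι).obj M)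

theorem subsingleton_HH_piece (hd : ∀ V W : X.Opens, IsAffineOpen V → IsAffineOpen W →
    IsAffineOpen (V ⊓ W)) (U : X.Opens) (hU : IsAffineOpen U) (M : X.Modules) [M.IsQuasicoherent]
    (p : ℕ) (hp : 0 < p) : Subsingleton (Coh.HH X (piece U M) p) := by
  have := isAffineHom_ι hd U hU
  have : IsAffine (U : Scheme.{u}) := hU
  obtain ⟨e⟩ := Groth.Agent.S0012.result U.ι ((Scheme.Modules.restrictFunctor U.ι).obj M) p
  have := Groth.Agent.S0007.result (U : Scheme.{u}) ((Scheme.Modules.restrictFunctor U.ι).obj M) p hp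
  exact e.symm.toEquiv.subsingleton

/-- A finite affine open cover indexed by `Fin n`. -/
theorem exists_finite_affine_cover (X : Scheme.{u}) [CompactSpace X] :
    ∃ (n : ℕ) (U : Fin n → X.Opens), (∀ j, IsAffineOpen (U j)) ∧ ∀ x : X, ∃ j, x ∈ U j := by
  classical
  obtain ⟨t, ht⟩ := isCompact_univ.elim_finite_subcover
    (fun U : X.affineOpens => ((U.1 : X.Opens) : Set X)) (fun U => U.1.isOpen)
    (fun x _ => by
      have : x ∈ (⨆ U : X.affineOpens, (U.1 : X.Opens)) := by
        rw [iSup_affineOpens_eq_top X]; trivial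
      obtain ⟨U, hU⟩ := Opens.mem_iSup.mp this
      exact Set.mem_iUnion.mpr ⟨U, hU⟩)
  refine ⟨t.card, fun j => (t.equivFin.symm j).1.1, fun j => (t.equivFin.symm j).1.2, fun x => ?_⟩
  obtain ⟨U, hU⟩ := Set.mem_iUnion.mp (ht (Set.mem_univ x))
  obtain ⟨hUt, hxU⟩ := Set.mem_iUnion.mp hU
  refine ⟨t.equivFin ⟨U, hUt⟩, ?_⟩
  simpa using hxU

theorem exists_mono_acyclic (X : Scheme.{u}) [CompactSpace X]
    (hd : ∀ V W : X.Opens, IsAffineOpen V → IsAffineOpen W → IsAffineOpen (V ⊓ W))
    (M : X.Modules) [M.IsQuasicoherent] :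
    ∃ (M' : X.Modules) (i : M ⟶ M'), Mono i ∧ M'.IsQuasicoherent ∧
      ∀ p : ℕ, 0 < p → Subsingleton (Coh.HH X M' p) := by
  obtain ⟨n, U, hU, hcov⟩ := exists_finite_affine_cover X
  let P : Fin n → X.Modules := fun j => piece (U j) M
  let i : M ⟶ ⨁ P := biproduct.lift (fun j => toPiece (U j) M)
  refine ⟨⨁ P, i, ?_, ?_, ?_⟩
  · apply mono_of_injective_app
    intro V
    rw [injective_iff_map_eq_zero]
    intro s hs
    have key : ∀ j, (toPiece (U j) M).app V s = 0 := by
      intro j
      have h1 : i ≫ biproduct.π P j = toPiece (U j) M := biproduct.lift_π _ _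
      rw [← h1, Scheme.Modules.Hom.comp_app]
      show (biproduct.π P j).app V (i.app V s) = 0
      rw [hs, map_zero]
    let F : TopCat.Sheaf AddCommGrpCat.{u} X.toTopCat := ⟨M.presheaf, M.isSheaf⟩
    refine TopCat.Sheaf.eq_of_locally_eq' F
      (fun j => (U j).ι ''ᵁ ((U j).ι ⁻¹ᵁ V)) V
      (fun j => homOfLE ((U j).ι.image_preimage_le V)) ?_ s 0 ?_
    · intro x hx
      obtain ⟨j, hj⟩ := hcov x
      refine Opens.mem_iSup.mpr ⟨j, ?_⟩
      rw [Scheme.Hom.image_preimage_eq_opensRange_inf, Scheme.Opens.opensRange_ι]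
      exact ⟨hj, hx⟩
    · intro j
      rw [map_zero]
      exact key j
  · have h : ∀ j, (P j).IsQuasicoherent := fun j => isQuasicoherent_piece hd (U j) (hU j) M
    exact Groth.Agent.Lib.helper7.QCohProd.isQuasicoherent_of_iso (biproduct.isoProduct P).symm
      (Groth.Agent.Lib.helper7.QCohProd.isQuasicoherent_piObj P h)
  · intro p hp
    exact subsingleton_HH_biproduct P p (fun j => subsingleton_HH_piece hd (U j) (hU j) M p hp)

end Groth.Agent.Lib.Helper20.AcyclicEmb
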