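import Mathlib
import Groth.Prelude.Def_Coh
import Groth.Prelude.Def_CohB1
import Groth.Prelude.Def_CohTop
import Groth.Agent.S0020
import Groth.Agent.S0453

set_option autoImplicit false
universe u
open CategoryTheory CategoryTheory.Limits AlgebraicGeometry Opposite TopologicalSpace

namespace Groth.Agent.Lib.Helper20.ZeroDimSupp

/-- In a noetherian quasi-sober space, a closed set of closed points is finite. -/
theorem finite_of_isClosed_of_closed_points {α : Type*} [TopologicalSpace α] [NoetherianSpace α]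
    [QuasiSober α] (Z : Set α) (hZ : IsClosed Z) (h : ∀ x ∈ Z, IsClosed ({x} : Set α)) :
    Z.Finite := by
  obtain ⟨S, hSf, hSc, hSi, rfl⟩ := NoetherianSpace.exists_finite_set_isClosed_irreducible hZ
  refine Set.Finite.sUnion hSf fun t ht => ?_
  obtain ⟨x, hx⟩ := QuasiSober.sober (hSi t ht) (hSc t ht)
  have hxt : x ∈ t := hx.mem
  have hxc : IsClosed ({x} : Set α) := h x ⟨t, ht, hxt⟩
  have : t = {x} := by
    rw [← hx.def, hxc.closure_eq]
  rw [this]
  exact Set.finite_singleton x

theorem isClosed_singleton_subtype {α : Type*} [TopologicalSpace α] (O : Set α) (x : O)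
    (h : IsClosed ({x.1} : Set α)) : IsClosed ({x} : Set O) := by
  have := h.preimage (continuous_subtype_val (p := fun y => y ∈ O))
  convert this using 1
  ext y
  simp [Subtype.ext_iff]

/-- In a locally noetherian scheme, every subset of a closed set of closed points is closed. -/
theorem isClosed_of_subset_closed_points (X : Scheme.{u}) [IsLocallyNoetherian X]
    (Z : Set X) (hZ : IsClosed Z) (h : ∀ x ∈ Z, IsClosed ({x} : Set X)) (S : Set X) (hS : S ⊆ Z) :
    IsClosed S := by
  have hcov : TopologicalSpace.IsOpenCover (fun U : X.affineOpens => (U.1 : Opens X)) :=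
    iSup_affineOpens_eq_top X
  rw [hcov.isClosed_iff_coe_preimage]
  intro U
  have : IsNoetherianRing Γ(X, U.1) := IsLocallyNoetherian.component_noetherian U
  have hN : NoetherianSpace {x : X // x ∈ (U.1 : Opens X)} :=
    noetherianSpace_of_isAffineOpen U.1 U.2
  have hQ : QuasiSober {x : X // x ∈ (U.1 : Opens X)} :=
    (inferInstance : QuasiSober ((U.1 : Opens X) : Scheme.{u}))
  have hfin : ((Subtype.val : (U.1 : Opens X) → X) ⁻¹' Z).Finite :=
    finite_of_isClosed_of_closed_points _ (hZ.preimage continuous_subtype_val)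
      (fun x hx => isClosed_singleton_subtype _ x (h x.1 hx))
  have hfin' : ((Subtype.val : (U.1 : Opens X) → X) ⁻¹' S).Finite :=
    hfin.subset (Set.preimage_mono hS)
  have : ((Subtype.val : (U.1 : Opens X) → X) ⁻¹' S) =
      ⋃ x ∈ ((Subtype.val : (U.1 : Opens X) → X) ⁻¹' S), {x} := by
    ext y
    simp
  rw [this]
  exact hfin'.isClosed_biUnion fun x hx => isClosed_singleton_subtype _ x (h x.1 (hS hx))

section glue
variable {X : TopCat.{u}}

lemma map_map_apply (A : CohTop.Ab X) {V₁ V₂ V₃ : Opens X} (h₁ : V₂ ≤ V₁) (h₂ : V₃ ≤ V₂)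
    (s : A.obj.obj (op V₁)) :
    (A.obj.map (homOfLE h₂).op).hom ((A.obj.map (homOfLE h₁).op).hom s) =
      (A.obj.map (homOfLE (h₂.trans h₁)).op).hom s := by
  have : A.obj.map (homOfLE (h₂.trans h₁)).op =
      A.obj.map (homOfLE h₁).op ≫ A.obj.map (homOfLE h₂).op := by
    rw [← Functor.map_comp]
    rfl
  rw [this]
  rfl

/-- gluing two sections of an abelian sheaf (after helper27's `SectSupp.glue_two`) -/
lemma glue_two (A : CohTop.Ab X) (V₁ V₂ W : Opens X) (h₁ : V₁ ≤ W) (h₂ : V₂ ≤ W)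
    (hW : W ≤ V₁ ⊔ V₂) (s₁ : A.obj.obj (op V₁)) (s₂ : A.obj.obj (op V₂))
    (h : (A.obj.map (homOfLE (inf_le_left : V₁ ⊓ V₂ ≤ V₁)).op).hom s₁ =
      (A.obj.map (homOfLE (inf_le_right : V₁ ⊓ V₂ ≤ V₂)).op).hom s₂) :
    ∃ s : A.obj.obj (op W), (A.obj.map (homOfLE h₁).op).hom s = s₁ ∧
      (A.obj.map (homOfLE h₂).op).hom s = s₂ := by
  let Uf : Bool → Opens X := fun b => cond b V₁ V₂
  let sf : ∀ b : Bool, A.obj.obj (op (Uf b)) := fun b => by
    cases b
    · exact s₂
    · exact s₁
  have hcover : W ≤ iSup Uf := by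
    refine hW.trans (sup_le ?_ ?_)
    · exact le_iSup Uf true
    · exact le_iSup Uf false
  have hcomp : TopCat.Presheaf.IsCompatible A.obj Uf sf := by
    intro i j
    cases i <;> cases j
    · rfl
    · have := h.symm
      show (A.obj.map (homOfLE (inf_le_left : V₂ ⊓ V₁ ≤ V₂)).op).hom s₂ =
        (A.obj.map (homOfLE (inf_le_right : V₂ ⊓ V₁ ≤ V₁)).op).hom s₁
      have e1 := map_map_apply A (inf_le_right : V₁ ⊓ V₂ ≤ V₂)
        (le_inf inf_le_right inf_le_left : V₂ ⊓ V₁ ≤ V₁ ⊓ V₂) s₂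
      have e2 := map_map_apply A (inf_le_left : V₁ ⊓ V₂ ≤ V₁)
        (le_inf inf_le_right inf_le_left : V₂ ⊓ V₁ ≤ V₁ ⊓ V₂) s₁
      rw [← h] at e1
      exact e1.symm.trans e2
    · exact h
    · rfl
  obtain ⟨s, hs, -⟩ := TopCat.Sheaf.existsUnique_gluing' A Uf W
    (fun b => homOfLE (by cases b; exact h₂; exact h₁)) hcover sf hcomp
  exact ⟨s, hs true, hs false⟩

/-- An abelian sheaf is flasque if every subset of its support is closed.
Here the support is given as a set `Z` off which all stalks vanish. -/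
theorem isFlasque_of_discrete_support (A : CohTop.Ab X) (Z : Set X)
    (hstalk : ∀ x : X, x ∉ Z →
      Subsingleton ((TopCat.Presheaf.stalk (C := AddCommGrpCat.{u}) (X := X) A.obj x : AddCommGrpCat.{u}) : Type u))
    (hZ : ∀ S : Set X, S ⊆ Z → IsClosed S) : TopCat.Sheaf.IsFlasque A := by
  -- sections over an open set missing `Z` vanish
  have hzero : ∀ (O : Opens X), (∀ x ∈ O, x ∉ Z) → ∀ s t : A.obj.obj (op O), s = t := by
    intro O hO s t
    refine TopCat.Presheaf.section_ext A O s t fun x hx => ?_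
    have : Subsingleton ↑((TopCat.Sheaf.presheaf A).stalk x) := hstalk x (hO x hx)
    exact Subsingleton.elim _ _
  constructor
  intro U' V' i
  rw [AddCommGrpCat.epi_iff_surjective]
  intro s
  -- `i : U' ⟶ V'` in the opposite category: `V'.unop ≤ U'.unop`
  have hle : V'.unop ≤ U'.unop := leOfHom i.unop
  let N : Opens X := ⟨(U'.unop : Set X) ∩ (Z ∩ (V'.unop : Set X))ᶜ,
    U'.unop.isOpen.inter (hZ _ Set.inter_subset_left).isOpen_compl⟩
  have hN : N ≤ U'.unop := fun x hx => hx.1
  have hcov : U'.unop ≤ V'.unop ⊔ N := by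
    intro x hx
    by_cases hxV : x ∈ V'.unop
    · exact Or.inl hxV
    · exact Or.inr ⟨hx, fun h => hxV h.2⟩
  obtain ⟨t, ht, -⟩ := glue_two A V'.unop N U'.unop hle hN hcov s 0
    (hzero (V'.unop ⊓ N) (fun x hx hxZ => hx.2.2 ⟨hxZ, hx.1⟩) _ _)
  exact ⟨t, ht⟩

end glue

end Groth.Agent.Lib.Helper20.ZeroDimSupp
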