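import Mathlib
import Groth.Agent.Lib.Helper2.ModSec3

/-!
# Gluing an isomorphism of `O_X`-modules from local generators with the same cocycle (helper20)

`X` a scheme with an open cover `U i`; `L`, `M` modules with sections `s i`, `t i` over `U i` generating them freely
on every open contained in `U i`, and with the same transition functions `η i j`.  Then `L ≅ M`
(`Data.nonempty_iso`), by an isomorphism `Data.hom` with `hom (a • s i|_V) = a • t i|_V` (`Data.hom_app_gen`).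

* `ρ`, `rr`: restriction of sections / functions, `ρ_ρ`, `ρ_smul`, `eq_of_cover`, `exists_glue`.
* `IsGenOn L U s`: `s` generates `L` freely on every open of `U`; `IsGenOn.unit_smul`.
* `nonempty_iso_of_units`: the version with units `u i` (`η' i j * u i = u j * η i j`), and its converse
  `exists_units_of_iso` (= S10964).
-/

set_option autoImplicit false
universe u
open AlgebraicGeometry CategoryTheory Opposite TopologicalSpace

namespace Groth.Agent.Lib.helper20.GlueIso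

variable {X : Scheme.{u}}

/-- restriction of sections -/
noncomputable abbrev ρ (P : X.Modules) {A V : X.Opens} (h : V ≤ A) (x : Γ(P, A)) : Γ(P, V) :=
  P.presheaf.map (homOfLE h).op x

/-- restriction of functions -/
noncomputable abbrev rr {A V : X.Opens} (h : V ≤ A) (a : Γ(X, A)) : Γ(X, V) :=
  X.presheaf.map (homOfLE h).op a

lemma ρ_ρ (P : X.Modules) {A B V : X.Opens} (h₁ : B ≤ A) (h₂ : V ≤ B) (x : Γ(P, A)) :
    ρ P h₂ (ρ P h₁ x) = ρ P (h₂.trans h₁) x := by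
  unfold ρ
  rw [← ConcreteCategory.comp_apply, ← Functor.map_comp]
  rfl

lemma rr_rr {A B V : X.Opens} (h₁ : B ≤ A) (h₂ : V ≤ B) (a : Γ(X, A)) :
    rr h₂ (rr h₁ a) = rr (h₂.trans h₁) a := by
  unfold rr
  rw [← ConcreteCategory.comp_apply, ← Functor.map_comp]
  rfl

lemma ρ_self (P : X.Modules) {A : X.Opens} (x : Γ(P, A)) : ρ P (le_refl A) x = x := by
  unfold ρ
  have : (homOfLE (le_refl A)).op = 𝟙 (op A) := rfl
  rw [this, P.presheaf.map_id]
  rfl

lemma rr_self {A : X.Opens} (a : Γ(X, A)) : rr (le_refl A) a = a := by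
  unfold rr
  have : (homOfLE (le_refl A)).op = 𝟙 (op A) := rfl
  rw [this, X.presheaf.map_id]
  rfl

lemma ρ_smul (P : X.Modules) {A V : X.Opens} (h : V ≤ A) (a : Γ(X, A)) (x : Γ(P, A)) :
    ρ P h (a • x) = rr h a • ρ P h x :=
  Scheme.Modules.map_smul P (homOfLE h) a x

lemma ρ_add (P : X.Modules) {A V : X.Opens} (h : V ≤ A) (x y : Γ(P, A)) :
    ρ P h (x + y) = ρ P h x + ρ P h y := map_add _ _ _

lemma ρ_app {P Q : X.Modules} (φ : P ⟶ Q) {A V : X.Opens} (h : V ≤ A) (x : Γ(P, A)) :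
    ρ Q h (φ.app A x) = φ.app V (ρ P h x) :=
  (congr($(φ.mapPresheaf.naturality (homOfLE h).op) x)).symm

/-- Two sections agreeing on an open cover are equal. -/
theorem eq_of_cover (G : X.Modules) {ι : Type*} (W : ι → X.Opens) (V : X.Opens)
    (hle : ∀ i, W i ≤ V) (hcov : V ≤ ⨆ i, W i) (x y : Γ(G, V))
    (hxy : ∀ i, ρ G (hle i) x = ρ G (hle i) y) : x = y :=
  TopCat.Sheaf.eq_of_locally_eq' ⟨G.presheaf, G.isSheaf⟩ W V (fun i => homOfLE (hle i)) hcov x y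
    hxy

/-- Gluing of compatible sections over a cover of `V`. -/
theorem exists_glue (G : X.Modules) {ι : Type*} (W : ι → X.Opens) (V : X.Opens)
    (hle : ∀ i, W i ≤ V) (hcov : V ≤ ⨆ i, W i) (sf : ∀ i, Γ(G, W i))
    (hsf : ∀ i j, ρ G (inf_le_left : W i ⊓ W j ≤ W i) (sf i) =
      ρ G (inf_le_right : W i ⊓ W j ≤ W j) (sf j)) :
    ∃ T : Γ(G, V), ∀ i, ρ G (hle i) T = sf i := by
  obtain ⟨Tg, hTg, -⟩ := TopCat.Sheaf.existsUnique_gluing' ⟨G.presheaf, G.isSheaf⟩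
    W V (fun i => homOfLE (hle i)) hcov sf (fun i j => hsf i j)
  exact ⟨Tg, hTg⟩

/-- `s` generates `L` freely on every open contained in `U` -/
def IsGenOn (L : X.Modules) (U : X.Opens) (s : Γ(L, U)) : Prop :=
  ∀ (V : X.Opens) (h : V ≤ U), Function.Bijective (fun r : Γ(X, V) => r • ρ L h s)

lemma IsGenOn.unit_smul {L : X.Modules} {U : X.Opens} {s : Γ(L, U)} (hs : IsGenOn L U s)
    (u : (Γ(X, U))ˣ) : IsGenOn L U ((u : Γ(X, U)) • s) := by
  intro V h
  have hfun : (fun r : Γ(X, V) => r • ρ L h ((u : Γ(X, U)) • s)) =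
      (fun r : Γ(X, V) => r • ρ L h s) ∘ (fun r => r * rr h (u : Γ(X, U))) := by
    funext r
    change r • ρ L h ((u : Γ(X, U)) • s) = (r * rr h (u : Γ(X, U))) • ρ L h s
    rw [ρ_smul, mul_smul]
  rw [hfun]
  refine (hs V h).comp ?_
  have hu : IsUnit (rr h (u : Γ(X, U))) := u.isUnit.map (X.presheaf.map (homOfLE h).op).hom
  constructor
  · intro a b hab
    exact hu.mul_left_injective hab
  · intro a
    obtain ⟨v, hv⟩ := hu
    refine ⟨a * ((v⁻¹ : (Γ(X, V))ˣ) : Γ(X, V)), ?_⟩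
    change a * ((v⁻¹ : (Γ(X, V))ˣ) : Γ(X, V)) * rr h (u : Γ(X, U)) = a
    rw [← hv, mul_assoc, Units.inv_mul, mul_one]

variable {ι : Type*} {U : ι → X.Opens} {L M : X.Modules}

/-- local generators of `L` and `M` with the same transition functions -/
structure Data (U : ι → X.Opens) (L M : X.Modules) where
  s : ∀ i, Γ(L, U i)
  t : ∀ i, Γ(M, U i)
  hs : ∀ i, IsGenOn L (U i) (s i)
  ht : ∀ i, IsGenOn M (U i) (t i)
  η : ∀ i j, Γ(X, U i ⊓ U j)
  hη : ∀ i j, ρ L (inf_le_left : U i ⊓ U j ≤ U i) (s i) =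
    η i j • ρ L (inf_le_right : U i ⊓ U j ≤ U j) (s j)
  hη' : ∀ i j, ρ M (inf_le_left : U i ⊓ U j ≤ U i) (t i) =
    η i j • ρ M (inf_le_right : U i ⊓ U j ≤ U j) (t j)

namespace Data

variable (D : Data U L M)

lemma trans_s (i j : ι) {W : X.Opens} (hi : W ≤ U i) (hj : W ≤ U j) :
    ρ L hi (D.s i) = rr (le_inf hi hj) (D.η i j) • ρ L hj (D.s j) := by
  have := congrArg (ρ L (le_inf hi hj)) (D.hη i j)
  rwa [ρ_smul, ρ_ρ, ρ_ρ] at this

lemma trans_t (i j : ι) {W : X.Opens} (hi : W ≤ U i) (hj : W ≤ U j) :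
    ρ M hi (D.t i) = rr (le_inf hi hj) (D.η i j) • ρ M hj (D.t j) := by
  have := congrArg (ρ M (le_inf hi hj)) (D.hη' i j)
  rwa [ρ_smul, ρ_ρ, ρ_ρ] at this

/-- `n` is the image of `m`: whenever `m = r • s i` locally, `n = r • t i` there -/
def Rel (V : X.Opens) (m : Γ(L, V)) (n : Γ(M, V)) : Prop :=
  ∀ (i : ι) (W : X.Opens) (hV : W ≤ V) (hi : W ≤ U i) (r : Γ(X, W)),
    ρ L hV m = r • ρ L hi (D.s i) → ρ M hV n = r • ρ M hi (D.t i)

variable (hU : ∀ x : X, ∃ i, x ∈ U i)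

include hU in
lemma cover (V : X.Opens) : V ≤ ⨆ i, V ⊓ U i := by
  intro x hx
  obtain ⟨i, hi⟩ := hU x
  exact Opens.mem_iSup.mpr ⟨i, hx, hi⟩

include hU in
theorem rel_unique (V : X.Opens) (m : Γ(L, V)) (n n' : Γ(M, V)) (h : D.Rel V m n)
    (h' : D.Rel V m n') : n = n' := by
  refine eq_of_cover M (fun i => V ⊓ U i) V (fun i => inf_le_left) (cover hU V) n n' ?_
  intro i
  obtain ⟨r, hr⟩ := (D.hs i (V ⊓ U i) inf_le_right).2 (ρ L inf_le_left m)
  have hr : r • ρ L inf_le_right (D.s i) = ρ L inf_le_left m := hr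
  rw [h i (V ⊓ U i) inf_le_left inf_le_right r hr.symm,
    h' i (V ⊓ U i) inf_le_left inf_le_right r hr.symm]

include hU in
theorem rel_exists (V : X.Opens) (m : Γ(L, V)) : ∃ n : Γ(M, V), D.Rel V m n := by
  classical
  let W : ι → X.Opens := fun i => V ⊓ U i
  have hWV : ∀ i, W i ≤ V := fun i => inf_le_left
  have hWU : ∀ i, W i ≤ U i := fun i => inf_le_right
  have hc : ∀ i, ∃ c : Γ(X, W i), c • ρ L (hWU i) (D.s i) = ρ L (hWV i) m :=
    fun i => (D.hs i (W i) (hWU i)).2 _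
  choose c hc using hc
  let f : ∀ i, Γ(M, W i) := fun i => c i • ρ M (hWU i) (D.t i)
  have hcompat : ∀ i j, ρ M (inf_le_left : W i ⊓ W j ≤ W i) (f i) =
      ρ M (inf_le_right : W i ⊓ W j ≤ W j) (f j) := by
    intro i j
    have hTi : W i ⊓ W j ≤ U i := inf_le_left.trans (hWU i)
    have hTj : W i ⊓ W j ≤ U j := inf_le_right.trans (hWU j)
    have e1 : ρ M (inf_le_left : W i ⊓ W j ≤ W i) (f i) =
        (rr (inf_le_left : W i ⊓ W j ≤ W i) (c i) * rr (le_inf hTi hTj) (D.η i j)) •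
          ρ M hTj (D.t j) := by
      change ρ M _ (c i • ρ M (hWU i) (D.t i)) = _
      rw [ρ_smul, ρ_ρ, D.trans_t i j hTi hTj, mul_smul]
    have e2 : ρ M (inf_le_right : W i ⊓ W j ≤ W j) (f j) =
        rr (inf_le_right : W i ⊓ W j ≤ W j) (c j) • ρ M hTj (D.t j) := by
      change ρ M _ (c j • ρ M (hWU j) (D.t j)) = _
      rw [ρ_smul, ρ_ρ]
    rw [e1, e2]
    congr 1
    apply (D.hs j (W i ⊓ W j) hTj).1
    change (rr (inf_le_left : W i ⊓ W j ≤ W i) (c i) * rr (le_inf hTi hTj) (D.η i j)) •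
        ρ L hTj (D.s j) = rr (inf_le_right : W i ⊓ W j ≤ W j) (c j) • ρ L hTj (D.s j)
    rw [mul_smul, ← D.trans_s i j hTi hTj]
    have h1 : rr (inf_le_left : W i ⊓ W j ≤ W i) (c i) • ρ L hTi (D.s i) =
        ρ L (inf_le_left.trans (hWV i)) m := by
      have := congrArg (ρ L (inf_le_left : W i ⊓ W j ≤ W i)) (hc i)
      rwa [ρ_smul, ρ_ρ, ρ_ρ] at this
    have h2 : rr (inf_le_right : W i ⊓ W j ≤ W j) (c j) • ρ L hTj (D.s j) =
        ρ L (inf_le_right.trans (hWV j)) m := by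
      have := congrArg (ρ L (inf_le_right : W i ⊓ W j ≤ W j)) (hc j)
      rwa [ρ_smul, ρ_ρ, ρ_ρ] at this
    rw [h1, h2]
  obtain ⟨n, hn⟩ := exists_glue M W V hWV (cover hU V) f hcompat
  refine ⟨n, ?_⟩
  intro i T hTV hTi r hr
  have hTW : T ≤ W i := le_inf hTV hTi
  have hr' : rr hTW (c i) = r := by
    apply (D.hs i T hTi).1
    change rr hTW (c i) • ρ L hTi (D.s i) = r • ρ L hTi (D.s i)
    rw [← hr]
    have := congrArg (ρ L hTW) (hc i)
    rwa [ρ_smul, ρ_ρ, ρ_ρ] at this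
  have h3 := congrArg (ρ M hTW) (hn i)
  rw [ρ_ρ] at h3
  rw [h3]
  change ρ M hTW (c i • ρ M (hWU i) (D.t i)) = _
  rw [ρ_smul, ρ_ρ, hr']

theorem rel_add (V : X.Opens) (m m' : Γ(L, V)) (n n' : Γ(M, V)) (h : D.Rel V m n)
    (h' : D.Rel V m' n') : D.Rel V (m + m') (n + n') := by
  intro i W hV hi r hr
  obtain ⟨r₁, hr₁⟩ := (D.hs i W hi).2 (ρ L hV m)
  obtain ⟨r₂, hr₂⟩ := (D.hs i W hi).2 (ρ L hV m')
  have hr₁ : r₁ • ρ L hi (D.s i) = ρ L hV m := hr₁
  have hr₂ : r₂ • ρ L hi (D.s i) = ρ L hV m' := hr₂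
  have hsum : r = r₁ + r₂ := by
    apply (D.hs i W hi).1
    change r • ρ L hi (D.s i) = (r₁ + r₂) • ρ L hi (D.s i)
    rw [← hr, add_smul, hr₁, hr₂, ρ_add]
  rw [ρ_add, h i W hV hi r₁ hr₁.symm, h' i W hV hi r₂ hr₂.symm, hsum, add_smul]

theorem rel_smul (V : X.Opens) (b : Γ(X, V)) (m : Γ(L, V)) (n : Γ(M, V)) (h : D.Rel V m n) :
    D.Rel V (b • m) (b • n) := by
  intro i W hV hi r hr
  obtain ⟨r₁, hr₁⟩ := (D.hs i W hi).2 (ρ L hV m)
  have hr₁ : r₁ • ρ L hi (D.s i) = ρ L hV m := hr₁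
  have hmul : r = rr hV b * r₁ := by
    apply (D.hs i W hi).1
    change r • ρ L hi (D.s i) = (rr hV b * r₁) • ρ L hi (D.s i)
    rw [← hr, mul_smul, hr₁, ρ_smul]
  rw [ρ_smul, h i W hV hi r₁ hr₁.symm, hmul, mul_smul]

theorem rel_res (V V' : X.Opens) (hle : V' ≤ V) (m : Γ(L, V)) (n : Γ(M, V)) (h : D.Rel V m n) :
    D.Rel V' (ρ L hle m) (ρ M hle n) := by
  intro i W hV hi r hr
  rw [ρ_ρ] at hr ⊢
  exact h i W (hV.trans hle) hi r hr

theorem rel_gen (i : ι) (V : X.Opens) (h : V ≤ U i) (a : Γ(X, V)) :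
    D.Rel V (a • ρ L h (D.s i)) (a • ρ M h (D.t i)) := by
  intro j W hV hj r hr
  have hi : W ≤ U i := hV.trans h
  rw [ρ_smul, ρ_ρ, D.trans_s i j hi hj, ← mul_smul] at hr
  have hmul : rr hV a * rr (le_inf hi hj) (D.η i j) = r := (D.hs j W hj).1 hr
  rw [ρ_smul, ρ_ρ, D.trans_t i j hi hj, ← mul_smul, hmul]

/-- the image of a section -/
noncomputable def φfun (V : X.Opens) (m : Γ(L, V)) : Γ(M, V) := (D.rel_exists hU V m).choose

lemma φfun_spec (V : X.Opens) (m : Γ(L, V)) : D.Rel V m (D.φfun hU V m) :=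
  (D.rel_exists hU V m).choose_spec

lemma φfun_eq {V : X.Opens} {m : Γ(L, V)} {n : Γ(M, V)} (h : D.Rel V m n) :
    D.φfun hU V m = n :=
  D.rel_unique hU V m _ _ (D.φfun_spec hU V m) h

/-- the morphism `L ⟶ M` sending `s i` to `t i` -/
noncomputable def hom : L ⟶ M :=
  ⟨PresheafOfModules.homMk (M₁ := L.val) (M₂ := M.val)
    { app := fun V => AddCommGrpCat.ofHom (AddMonoidHom.mk'
        (fun (m : Γ(L, V.unop)) => (D.φfun hU V.unop m : Γ(M, V.unop)))
        (fun a b => D.φfun_eq hU (D.rel_add V.unop a b _ _ (D.φfun_spec hU V.unop a)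
          (D.φfun_spec hU V.unop b))))
      naturality := fun {V V'} i => by
        ext m
        have hi : i = (homOfLE (leOfHom i.unop)).op := Quiver.Hom.unop_inj (Subsingleton.elim _ _)
        change D.φfun hU V'.unop (L.presheaf.map i m) = M.presheaf.map i (D.φfun hU V.unop m)
        rw [hi]
        exact D.φfun_eq hU (D.rel_res V.unop V'.unop (leOfHom i.unop) m _
          (D.φfun_spec hU V.unop m)) }
    (fun V r m => D.φfun_eq hU (D.rel_smul V.unop r m _ (D.φfun_spec hU V.unop m)))⟩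

theorem hom_app (V : X.Opens) (m : Γ(L, V)) : (D.hom hU).app V m = D.φfun hU V m := rfl

theorem hom_app_gen (i : ι) (V : X.Opens) (h : V ≤ U i) (a : Γ(X, V)) :
    (D.hom hU).app V (a • ρ L h (D.s i)) = a • ρ M h (D.t i) :=
  D.φfun_eq hU (D.rel_gen i V h a)

theorem isIso_hom : IsIso (D.hom hU) := by
  refine Groth.Agent.Lib.helper2.ModSec.isIso_of_bijective_basis _ {V | ∃ i, V ≤ U i} ?_ ?_
  · refine Opens.isBasis_iff_nbhd.mpr (fun {V x} hx => ?_)
    obtain ⟨i, hi⟩ := hU x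
    exact ⟨V ⊓ U i, ⟨i, inf_le_right⟩, ⟨hx, hi⟩, inf_le_left⟩
  · rintro V ⟨i, h⟩
    have b1 := D.hs i V h
    have b2 := D.ht i V h
    constructor
    · intro m m' hmm
      obtain ⟨a, ha⟩ := b1.2 m
      obtain ⟨a', ha'⟩ := b1.2 m'
      have ha : a • ρ L h (D.s i) = m := ha
      have ha' : a' • ρ L h (D.s i) = m' := ha'
      rw [← ha, ← ha'] at hmm ⊢
      rw [hom_app_gen, hom_app_gen] at hmm
      rw [b2.1 hmm]
    · intro n
      obtain ⟨a, ha⟩ := b2.2 n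
      exact ⟨a • ρ L h (D.s i), (D.hom_app_gen hU i V h a).trans ha⟩

include hU in
theorem nonempty_iso (D : Data U L M) : Nonempty (L ≅ M) :=
  haveI := D.isIso_hom hU
  ⟨asIso (D.hom hU)⟩

end Data

/-- **Modules with local generators whose cocycles differ by a coboundary are isomorphic.** -/
theorem nonempty_iso_of_units (hU : ∀ x : X, ∃ i, x ∈ U i)
    (s : ∀ i, Γ(L, U i)) (s' : ∀ i, Γ(M, U i))
    (hs : ∀ i, IsGenOn L (U i) (s i)) (hs' : ∀ i, IsGenOn M (U i) (s' i))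
    (η η' : ∀ i j, Γ(X, U i ⊓ U j))
    (hη : ∀ i j, ρ L (inf_le_left : U i ⊓ U j ≤ U i) (s i) =
      η i j • ρ L (inf_le_right : U i ⊓ U j ≤ U j) (s j))
    (hη' : ∀ i j, ρ M (inf_le_left : U i ⊓ U j ≤ U i) (s' i) =
      η' i j • ρ M (inf_le_right : U i ⊓ U j ≤ U j) (s' j))
    (u : ∀ i, (Γ(X, U i))ˣ)
    (hu : ∀ i j, η' i j * rr (inf_le_left : U i ⊓ U j ≤ U i) (u i : Γ(X, U i)) =
      rr (inf_le_right : U i ⊓ U j ≤ U j) (u j : Γ(X, U j)) * η i j) :
    Nonempty (L ≅ M) := by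
  let D : Data U L M :=
    { s := s
      t := fun i => (u i : Γ(X, U i)) • s' i
      hs := hs
      ht := fun i => (hs' i).unit_smul (u i)
      η := η
      hη := hη
      hη' := by
        intro i j
        rw [ρ_smul, ρ_smul, hη' i j, ← mul_smul, ← mul_smul, mul_comm _ (η' i j), hu i j,
          mul_comm] }
  exact D.nonempty_iso hU

/-- the converse: an isomorphism gives units relating the cocycles -/
theorem exists_units_of_iso (e : L ≅ M)
    (s : ∀ i, Γ(L, U i)) (s' : ∀ i, Γ(M, U i))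
    (hs : ∀ i, IsGenOn L (U i) (s i)) (hs' : ∀ i, IsGenOn M (U i) (s' i))
    (η η' : ∀ i j, Γ(X, U i ⊓ U j))
    (hη : ∀ i j, ρ L (inf_le_left : U i ⊓ U j ≤ U i) (s i) =
      η i j • ρ L (inf_le_right : U i ⊓ U j ≤ U j) (s j))
    (hη' : ∀ i j, ρ M (inf_le_left : U i ⊓ U j ≤ U i) (s' i) =
      η' i j • ρ M (inf_le_right : U i ⊓ U j ≤ U j) (s' j)) :
    ∃ u : ∀ i, (Γ(X, U i))ˣ, ∀ i j,
      η' i j * rr (inf_le_left : U i ⊓ U j ≤ U i) (u i : Γ(X, U i)) =
        rr (inf_le_right : U i ⊓ U j ≤ U j) (u j : Γ(X, U j)) * η i j := by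
  have hu : ∀ i, ∃ a : Γ(X, U i), a • s' i = e.hom.app (U i) (s i) := by
    intro i
    obtain ⟨a, ha⟩ := (hs' i (U i) le_rfl).2 (e.hom.app (U i) (s i))
    have ha : a • ρ M le_rfl (s' i) = e.hom.app (U i) (s i) := ha
    rw [ρ_self] at ha
    exact ⟨a, ha⟩
  have hv : ∀ i, ∃ b : Γ(X, U i), b • s i = e.inv.app (U i) (s' i) := by
    intro i
    obtain ⟨b, hb⟩ := (hs i (U i) le_rfl).2 (e.inv.app (U i) (s' i))
    have hb : b • ρ L le_rfl (s i) = e.inv.app (U i) (s' i) := hb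
    rw [ρ_self] at hb
    exact ⟨b, hb⟩
  choose a ha using hu
  choose b hb using hv
  have hab : ∀ i, a i * b i = 1 := by
    intro i
    apply (hs' i (U i) le_rfl).1
    change (a i * b i) • ρ M le_rfl (s' i) = (1 : Γ(X, U i)) • ρ M le_rfl (s' i)
    rw [ρ_self, one_smul, mul_comm, mul_smul, ha i, ← Scheme.Modules.Hom.app_smul, hb i]
    have : e.hom.app (U i) (e.inv.app (U i) (s' i)) = (e.inv ≫ e.hom).app (U i) (s' i) := rfl
    rw [this, e.inv_hom_id]
    rfl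
  refine ⟨fun i => Units.mkOfMulEqOne (a i) (b i) (hab i), ?_⟩
  intro i j
  apply (hs' j (U i ⊓ U j) inf_le_right).1
  change (η' i j * rr inf_le_left (a i)) • ρ M inf_le_right (s' j) =
    (rr inf_le_right (a j) * η i j) • ρ M inf_le_right (s' j)
  have h1 : (η' i j * rr inf_le_left (a i)) • ρ M (inf_le_right : U i ⊓ U j ≤ U j) (s' j) =
      ρ M (inf_le_left : U i ⊓ U j ≤ U i) (e.hom.app (U i) (s i)) := by
    rw [← ha i, ρ_smul, hη' i j, ← mul_smul, mul_comm]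
  have h2 : (rr inf_le_right (a j) * η i j) • ρ M (inf_le_right : U i ⊓ U j ≤ U j) (s' j) =
      ρ M (inf_le_left : U i ⊓ U j ≤ U i) (e.hom.app (U i) (s i)) := by
    rw [ρ_app, hη i j, Scheme.Modules.Hom.app_smul, ← ρ_app, ← ha j, ρ_smul, ← mul_smul, mul_comm]
  rw [h1, h2]

end Groth.Agent.Lib.helper20.GlueIso
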