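import Mathlib
import Groth.Prelude.Def_Coh

/-!
# Multiplication by a global function as an endomorphism of an `O_X`-module (helper20)

* `smulHom r M : M ⟶ M` for `r : Coh.Γtop X`; `smulHom_app`.
* `smulHom_naturality`, `smulHom_one/zero/add/mul`.
* `pushforward_smulHom`, `pullback_smulHom` : compatibility with `f_*`, `f^*`.
-/

set_option autoImplicit false
universe u
open CategoryTheory CategoryTheory.Limits AlgebraicGeometry Opposite TopologicalSpace

namespace Groth.Agent.Lib.Helper20.SmulHom

variable {X : Scheme.{u}}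

lemma mul_comm_sec (U : (Opens X)ᵒᵖ) (a b : X.ringCatSheaf.obj.obj U) : a * b = b * a :=
  mul_comm (G := Γ(X, U.unop)) a b

/-- multiplication by the global function `r` on the `O_X`-module `M` -/
noncomputable def smulHom (r : Coh.Γtop X) (M : X.Modules) : M ⟶ M :=
  ⟨PresheafOfModules.homMk (Coh.smulAb M r).hom (fun U s m => by
    change Coh.resTop X U r • (s • m) = s • (Coh.resTop X U r • m)
    rw [smul_smul, smul_smul, mul_comm_sec])⟩

lemma smulHom_app (r : Coh.Γtop X) (M : X.Modules) (U : (Opens X)ᵒᵖ) (m : M.val.obj U) :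
    ((smulHom r M).val.app U).hom m = Coh.resTop X U r • m := rfl

lemma smulHom_naturality (r : Coh.Γtop X) {M N : X.Modules} (f : M ⟶ N) :
    smulHom r M ≫ f = f ≫ smulHom r N := by
  apply SheafOfModules.hom_ext
  ext U m
  change (f.val.app U).hom (Coh.resTop X U r • m) = Coh.resTop X U r • (f.val.app U).hom m
  exact (f.val.app U).hom.map_smul _ _

lemma smulHom_one (M : X.Modules) : smulHom (1 : Coh.Γtop X) M = 𝟙 M := by
  apply SheafOfModules.hom_ext
  ext U m
  change Coh.resTop X U 1 • m = m
  rw [map_one, one_smul]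

lemma smulHom_zero (M : X.Modules) : smulHom (0 : Coh.Γtop X) M = 0 := by
  apply SheafOfModules.hom_ext
  ext U m
  change Coh.resTop X U 0 • m = 0
  rw [map_zero, zero_smul]

lemma smulHom_add (r s : Coh.Γtop X) (M : X.Modules) :
    smulHom (r + s) M = smulHom r M + smulHom s M := by
  apply SheafOfModules.hom_ext
  ext U m
  change Coh.resTop X U (r + s) • m = Coh.resTop X U r • m + Coh.resTop X U s • m
  rw [map_add, add_smul]

lemma smulHom_mul (r s : Coh.Γtop X) (M : X.Modules) :
    smulHom (r * s) M = smulHom s M ≫ smulHom r M := by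
  apply SheafOfModules.hom_ext
  ext U m
  change Coh.resTop X U (r * s) • m = Coh.resTop X U r • (Coh.resTop X U s • m)
  rw [map_mul, mul_smul]

/-- `f_*` of multiplication by `f^♯ r` is multiplication by `r` -/
lemma pushforward_smulHom {Y : Scheme.{u}} (f : X ⟶ Y) (r : Coh.Γtop Y) (N : X.Modules) :
    (Scheme.Modules.pushforward f).map (smulHom (f.appTop.hom r) N) =
      smulHom r ((Scheme.Modules.pushforward f).obj N) := by
  apply SheafOfModules.hom_ext
  ext U m
  have key : Coh.resTop X (op (f ⁻¹ᵁ U.unop)) (f.appTop.hom r) =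
      (f.app U.unop).hom (Coh.resTop Y U r) :=
    (ConcreteCategory.congr_hom (f.naturality (homOfLE (le_top (a := U.unop))).op) r).symm
  change Coh.resTop X (op (f ⁻¹ᵁ U.unop)) (f.appTop.hom r) •
    (show N.val.obj (op (f ⁻¹ᵁ U.unop)) from m) = _
  rw [key]
  rfl

/-- `f^*` of multiplication by `r` is multiplication by `f^♯ r` -/
lemma pullback_smulHom {Y : Scheme.{u}} (f : X ⟶ Y) (r : Coh.Γtop Y) (M : Y.Modules) :
    (Scheme.Modules.pullback f).map (smulHom r M) =
      smulHom (f.appTop.hom r) ((Scheme.Modules.pullback f).obj M) := by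
  let adj := Scheme.Modules.pullbackPushforwardAdjunction f
  apply (adj.homEquiv _ _).injective
  rw [adj.homEquiv_unit, adj.homEquiv_unit, pushforward_smulHom, adj.unit_naturality,
    smulHom_naturality]

end Groth.Agent.Lib.Helper20.SmulHom
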