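import Mathlib
import Groth.Prelude.Def_HTop2

/-!
# Weighted "unique root" properties of rings are local (helper20)

`GP c u v d₁ d₂ A`: for all `x y : A` with `c^v * x^u = y^v` there is a unique `a` with
`x = a^d₁` and `y = c * a^d₂`.  Seminormality is `GP 1 3 2 2 3`, the `p`-part of absolute weak
normality is `GP p 1 p p 1`.  When `d₁ * u = d₂ * v` and all exponents are positive the property
passes to localizations away from an element, is invariant under ring isomorphisms, and can be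
checked on a finite cover by basic opens.
-/

set_option autoImplicit false
universe u

namespace Groth.Agent.Lib.helper20

/-- the generic weighted unique-root property -/
def GP (c u v d₁ d₂ : ℕ) (A : Type u) [CommRing A] : Prop :=
  ∀ x y : A, (c : A) ^ v * x ^ u = y ^ v → ∃! a : A, x = a ^ d₁ ∧ y = (c : A) * a ^ d₂

theorem isSeminormalRing_iff (A : Type u) [CommRing A] :
    HTop.IsSeminormalRing A ↔ GP 1 3 2 2 3 A := by
  unfold HTop.IsSeminormalRing GP
  simp only [Nat.cast_one, one_pow, one_mul]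

theorem isAWNRing_iff (A : Type u) [CommRing A] :
    HTop.IsAWNRing A ↔ GP 1 3 2 2 3 A ∧ ∀ p : ℕ, p.Prime → GP p 1 p p 1 A := by
  unfold HTop.IsAWNRing
  rw [isSeminormalRing_iff]
  unfold GP
  simp only [pow_one]

theorem scale1 {A : Type u} [CommRing A] (t b b' : A) (d : ℕ) (hd : 0 < d)
    (h : t * b ^ d = t * b' ^ d) : (t * b) ^ d = (t * b') ^ d := by
  obtain ⟨D, rfl⟩ : ∃ D, d = D + 1 := ⟨d - 1, by omega⟩
  calc (t * b) ^ (D + 1) = t ^ D * (t * b ^ (D + 1)) := by ring
    _ = t ^ D * (t * b' ^ (D + 1)) := by rw [h]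
    _ = (t * b') ^ (D + 1) := by ring

theorem scale2 {A : Type u} [CommRing A] (t c b b' : A) (d : ℕ) (hd : 0 < d)
    (h : t * (c * b ^ d) = t * (c * b' ^ d)) : c * (t * b) ^ d = c * (t * b') ^ d := by
  obtain ⟨D, rfl⟩ : ∃ D, d = D + 1 := ⟨d - 1, by omega⟩
  calc c * (t * b) ^ (D + 1) = t ^ D * (t * (c * b ^ (D + 1))) := by ring
    _ = t ^ D * (t * (c * b' ^ (D + 1))) := by rw [h]
    _ = c * (t * b') ^ (D + 1) := by ring

theorem scale3 {A : Type u} [CommRing A] (t c x y : A) (u v d₁ d₂ : ℕ) (he : d₁ * u = d₂ * v)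
    (hpos : 0 < d₁ * u) (h : t * (c ^ v * x ^ u) = t * y ^ v) :
    c ^ v * (t ^ d₁ * x) ^ u = (t ^ d₂ * y) ^ v := by
  obtain ⟨E, hE⟩ : ∃ E, d₁ * u = E + 1 := ⟨d₁ * u - 1, by omega⟩
  calc c ^ v * (t ^ d₁ * x) ^ u = t ^ (d₁ * u) * (c ^ v * x ^ u) := by
        rw [mul_pow, ← pow_mul]; ring
    _ = t ^ E * (t * (c ^ v * x ^ u)) := by rw [hE]; ring
    _ = t ^ E * (t * y ^ v) := by rw [h]
    _ = t ^ (d₂ * v) * y ^ v := by rw [← he, hE]; ring
    _ = (t ^ d₂ * y) ^ v := by rw [mul_pow, ← pow_mul]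

section
variable {c u v d₁ d₂ : ℕ}

theorem GP.of_ringEquiv {A B : Type u} [CommRing A] [CommRing B] (e : A ≃+* B)
    (h : GP c u v d₁ d₂ A) : GP c u v d₁ d₂ B := by
  intro x y hxy
  have h1 : (c : A) ^ v * (e.symm x) ^ u = (e.symm y) ^ v := by
    apply e.injective
    simp only [map_mul, map_pow, map_natCast, RingEquiv.apply_symm_apply]
    exact hxy
  obtain ⟨a, ⟨ha1, ha2⟩, hau⟩ := h _ _ h1
  refine ⟨e a, ⟨?_, ?_⟩, ?_⟩
  · have := congrArg e ha1
    simpa using this
  · have := congrArg e ha2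
    simpa using this
  · intro b ⟨hb1, hb2⟩
    have : e.symm b = a := by
      apply hau
      constructor
      · rw [hb1]; simp
      · rw [hb2]; simp
    rw [← this]; simp

variable (hu : 0 < u) (hv : 0 < v) (hd₁ : 0 < d₁) (hd₂ : 0 < d₂) (he : d₁ * u = d₂ * v)

include hd₁ hd₂ he in
/-- uniqueness in a localization away from `f` -/
theorem GP.unique_away {A B : Type u} [CommRing A] [CommRing B] [Algebra A B] (f : A)
    [IsLocalization.Away f B] (h : GP c u v d₁ d₂ A) (b b' : B) (h1 : b ^ d₁ = b' ^ d₁)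
    (h2 : (c : B) * b ^ d₂ = (c : B) * b' ^ d₂) : b = b' := by
  obtain ⟨i, b0, hb0⟩ := IsLocalization.Away.surj f b
  obtain ⟨i', b0', hb0'⟩ := IsLocalization.Away.surj f b'
  set F : B := algebraMap A B f with hF
  have hFu : IsUnit F := IsLocalization.Away.algebraMap_isUnit f
  -- common denominator
  have hb1 : b * F ^ (i + i') = algebraMap A B (b0 * f ^ i') := by
    rw [pow_add, ← mul_assoc, hb0, map_mul, map_pow]
  have hb1' : b' * F ^ (i + i') = algebraMap A B (b0' * f ^ i) := by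
    rw [pow_add, mul_comm (F ^ i), ← mul_assoc, hb0', map_mul, map_pow]
  obtain ⟨k, hk⟩ : ∃ k, k = i + i' := ⟨_, rfl⟩
  obtain ⟨b1, hb1d⟩ : ∃ b1, b1 = b0 * f ^ i' := ⟨_, rfl⟩
  obtain ⟨b1', hb1d'⟩ : ∃ b1', b1' = b0' * f ^ i := ⟨_, rfl⟩
  rw [← hk, ← hb1d] at hb1
  rw [← hk, ← hb1d'] at hb1'
  have e1 : algebraMap A B (b1 ^ d₁) = algebraMap A B (b1' ^ d₁) := by
    rw [map_pow, map_pow, ← hb1, ← hb1', mul_pow, mul_pow, h1]
  have e2 : algebraMap A B ((c : A) * b1 ^ d₂) = algebraMap A B ((c : A) * b1' ^ d₂) := by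
    rw [map_mul, map_mul, map_pow, map_pow, map_natCast, ← hb1, ← hb1', mul_pow, mul_pow,
      ← mul_assoc, ← mul_assoc, h2]
  obtain ⟨N1, hN1⟩ := IsLocalization.Away.exists_of_eq f e1
  obtain ⟨N2, hN2⟩ := IsLocalization.Away.exists_of_eq f e2
  obtain ⟨t, ht⟩ : ∃ t, t = f ^ (N1 + N2) := ⟨_, rfl⟩
  have k1 : (t * b1) ^ d₁ = (t * b1') ^ d₁ := by
    apply scale1 _ _ _ _ hd₁
    rw [ht, pow_add, mul_comm (f ^ N1), mul_assoc, hN1, ← mul_assoc]
  have k2 : (c : A) * (t * b1) ^ d₂ = (c : A) * (t * b1') ^ d₂ := by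
    apply scale2 _ _ _ _ _ hd₂
    rw [ht, pow_add, mul_assoc, hN2, ← mul_assoc]
  have hH : (c : A) ^ v * ((t * b1) ^ d₁) ^ u = ((c : A) * (t * b1) ^ d₂) ^ v := by
    rw [mul_pow (c : A), ← pow_mul, ← pow_mul, he]
  obtain ⟨a, -, hau⟩ := h _ _ hH
  have ea : t * b1 = a := hau _ ⟨rfl, rfl⟩
  have ea' : t * b1' = a := hau _ ⟨k1, k2⟩
  have hfin : algebraMap A B (t * b1) = algebraMap A B (t * b1') := by rw [ea, ea']
  rw [map_mul, map_mul, ← hb1, ← hb1'] at hfin
  have htu : IsUnit (algebraMap A B t) := by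
    rw [ht, map_pow]; exact hFu.pow _
  have hFk : IsUnit (F ^ k) := hFu.pow _
  have := htu.mul_left_cancel hfin
  exact hFk.mul_right_cancel this

include hu hd₁ hd₂ he in
/-- the property passes to localizations away from an element -/
theorem GP.away {A B : Type u} [CommRing A] [CommRing B] [Algebra A B] (f : A)
    [IsLocalization.Away f B] (h : GP c u v d₁ d₂ A) : GP c u v d₁ d₂ B := by
  intro x y hxy
  obtain ⟨i, x0, hx0⟩ := IsLocalization.Away.surj f x
  obtain ⟨j, y0, hy0⟩ := IsLocalization.Away.surj f y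
  set F : B := algebraMap A B f with hF
  have hFu : IsUnit F := IsLocalization.Away.algebraMap_isUnit f
  obtain ⟨k, hk⟩ : ∃ k, k = i + j := ⟨_, rfl⟩
  have hik : i ≤ d₁ * k := by
    calc i ≤ k := by omega
      _ = 1 * k := (one_mul k).symm
      _ ≤ d₁ * k := Nat.mul_le_mul_right k hd₁
  have hjk : j ≤ d₂ * k := by
    calc j ≤ k := by omega
      _ = 1 * k := (one_mul k).symm
      _ ≤ d₂ * k := Nat.mul_le_mul_right k hd₂
  obtain ⟨x1, hx1d⟩ : ∃ x1, x1 = x0 * f ^ (d₁ * k - i) := ⟨_, rfl⟩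
  obtain ⟨y1, hy1d⟩ : ∃ y1, y1 = y0 * f ^ (d₂ * k - j) := ⟨_, rfl⟩
  have hx1 : x * F ^ (d₁ * k) = algebraMap A B x1 := by
    rw [hx1d, map_mul, map_pow, ← hx0, mul_assoc, ← pow_add, Nat.add_sub_cancel' hik]
  have hy1 : y * F ^ (d₂ * k) = algebraMap A B y1 := by
    rw [hy1d, map_mul, map_pow, ← hy0, mul_assoc, ← pow_add, Nat.add_sub_cancel' hjk]
  have hrel : algebraMap A B ((c : A) ^ v * x1 ^ u) = algebraMap A B (y1 ^ v) := by
    rw [map_mul, map_pow, map_pow, map_pow, map_natCast, ← hx1, ← hy1, mul_pow, mul_pow,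
      ← mul_assoc, hxy, ← pow_mul, ← pow_mul]
    congr 2
    calc d₁ * k * u = d₁ * u * k := by ring
      _ = d₂ * v * k := by rw [he]
      _ = d₂ * k * v := by ring
  obtain ⟨N, hN⟩ := IsLocalization.Away.exists_of_eq f hrel
  obtain ⟨t, ht⟩ : ∃ t, t = f ^ N := ⟨_, rfl⟩
  rw [← ht] at hN
  have h2 : (c : A) ^ v * (t ^ d₁ * x1) ^ u = (t ^ d₂ * y1) ^ v :=
    scale3 t (c : A) x1 y1 u v d₁ d₂ he (Nat.mul_pos hd₁ hu) hN
  obtain ⟨a, ⟨ha1, ha2⟩, -⟩ := h _ _ h2
  have hGu : IsUnit (F ^ k * algebraMap A B t) := by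
    apply IsUnit.mul (hFu.pow _)
    rw [ht, map_pow]; exact hFu.pow _
  obtain ⟨G, hG⟩ := hGu
  have hx2 : algebraMap A B a ^ d₁ = x * (G : B) ^ d₁ := by
    rw [← map_pow, ← ha1, map_mul, map_pow, ← hx1, hG, mul_pow, ← pow_mul, mul_comm k d₁]
    ring
  have hy2 : (c : B) * algebraMap A B a ^ d₂ = y * (G : B) ^ d₂ := by
    have := congrArg (algebraMap A B) ha2
    simp only [map_mul, map_pow, map_natCast] at this
    rw [← this, ← hy1, hG, mul_pow, ← pow_mul, mul_comm k d₂]
    ring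
  refine ⟨algebraMap A B a * ((G⁻¹ : Bˣ) : B), ⟨?_, ?_⟩, ?_⟩
  · rw [mul_pow, hx2, mul_assoc, ← mul_pow, Units.mul_inv, one_pow, mul_one]
  · rw [mul_pow, ← mul_assoc, hy2, mul_assoc, ← mul_pow, Units.mul_inv, one_pow, mul_one]
  · intro b' ⟨hb1, hb2⟩
    apply GP.unique_away hd₁ hd₂ he f h
    · rw [← hb1, mul_pow, hx2, mul_assoc, ← mul_pow, Units.mul_inv, one_pow, mul_one]
    · rw [← hb2, mul_pow, ← mul_assoc, hy2, mul_assoc, ← mul_pow, Units.mul_inv, one_pow, mul_one]

include hu hv hd₁ hd₂ he in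
/-- the property can be checked on a finite cover by basic opens -/
theorem GP.of_span {A : Type u} [CommRing A] (s : Finset A)
    (hs : Ideal.span (s : Set A) = ⊤)
    (h : ∀ f ∈ s, GP c u v d₁ d₂ (Localization.Away f)) : GP c u v d₁ d₂ A := by
  intro x y hxy
  have hloc : ∀ a : (s : Set A), ∃! z : Localization.Away a.1,
      algebraMap A _ x = z ^ d₁ ∧ algebraMap A _ y = (c : Localization.Away a.1) * z ^ d₂ := by
    intro a
    apply h a.1 a.2
    rw [← map_pow, ← map_pow, ← map_natCast (algebraMap A (Localization.Away a.1)), ← map_pow,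
      ← map_mul, hxy]
  choose z hz hzu using hloc
  have hcompat : ∀ a b : (s : Set A),
      IsLocalization.Away.awayToAwayRight (S := Localization.Away a.1)
        (P := Localization.Away (a.1 * b.1)) a.1 b.1 (z a) =
      IsLocalization.Away.awayToAwayLeft (S := Localization.Away b.1)
        (P := Localization.Away (a.1 * b.1)) b.1 a.1 (z b) := by
    intro a b
    -- the property on the double localization
    have hQ : GP c u v d₁ d₂
        (Localization.Away (algebraMap A (Localization.Away a.1) b.1)) :=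
      GP.away hu hd₁ hd₂ he (algebraMap A (Localization.Away a.1) b.1) (h a.1 a.2)
    have hP : GP c u v d₁ d₂ (Localization.Away (a.1 * b.1)) :=
      hQ.of_ringEquiv (IsLocalization.algEquiv (Submonoid.powers (a.1 * b.1))
        (Localization.Away (algebraMap A (Localization.Away a.1) b.1))
        (Localization.Away (a.1 * b.1))).toRingEquiv
    have hH : (c : Localization.Away (a.1 * b.1)) ^ v * (algebraMap A _ x) ^ u =
        (algebraMap A _ y) ^ v := by
      rw [← map_pow, ← map_pow, ← map_natCast (algebraMap A (Localization.Away (a.1 * b.1))),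
        ← map_pow, ← map_mul, hxy]
    obtain ⟨w, -, hwu⟩ := hP _ _ hH
    have e1 : IsLocalization.Away.awayToAwayRight (S := Localization.Away a.1)
        (P := Localization.Away (a.1 * b.1)) a.1 b.1 (z a) = w := by
      apply hwu
      constructor
      · rw [← map_pow, ← (hz a).1, IsLocalization.Away.awayToAwayRight_eq]
      · have := congrArg (IsLocalization.Away.awayToAwayRight (S := Localization.Away a.1)
          (P := Localization.Away (a.1 * b.1)) a.1 b.1) (hz a).2
        rw [IsLocalization.Away.awayToAwayRight_eq, map_mul, map_natCast, map_pow] at this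
        exact this
    have e2 : IsLocalization.Away.awayToAwayLeft (S := Localization.Away b.1)
        (P := Localization.Away (a.1 * b.1)) b.1 a.1 (z b) = w := by
      apply hwu
      constructor
      · rw [← map_pow, ← (hz b).1, IsLocalization.Away.awayToAwayLeft_eq]
      · have := congrArg (IsLocalization.Away.awayToAwayLeft (S := Localization.Away b.1)
          (P := Localization.Away (a.1 * b.1)) b.1 a.1) (hz b).2
        rw [IsLocalization.Away.awayToAwayLeft_eq, map_mul, map_natCast, map_pow] at this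
        exact this
    rw [e1, e2]
  obtain ⟨r, hr, hru⟩ :=
    Localization.existsUnique_algebraMap_eq_of_span_eq_top (s : Set A) hs z hcompat
  have hinj := Localization.algebraMap_injective_of_span_eq_top (s : Set A) hs
  refine ⟨r, ⟨?_, ?_⟩, ?_⟩
  · apply hinj
    funext a
    show algebraMap A (Localization.Away a.1) x = algebraMap A (Localization.Away a.1) (r ^ d₁)
    rw [map_pow, hr a]
    exact (hz a).1
  · apply hinj
    funext a
    show algebraMap A (Localization.Away a.1) y =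
      algebraMap A (Localization.Away a.1) ((c : A) * r ^ d₂)
    rw [map_mul, map_natCast, map_pow, hr a]
    exact (hz a).2
  · intro r' ⟨hr1, hr2⟩
    apply hru
    intro a
    apply hzu
    constructor
    · rw [hr1, map_pow]
    · rw [hr2, map_mul, map_natCast, map_pow]

include hu hv hd₁ hd₂ he in
/-- version of `GP.of_span` for arbitrary localizations away from the elements of the cover -/
theorem GP.of_span' {A : Type u} [CommRing A] (s : Finset A)
    (hs : Ideal.span (s : Set A) = ⊤)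
    (h : ∀ f ∈ s, ∃ (B : Type u) (_ : CommRing B) (_ : Algebra A B) (_ : IsLocalization.Away f B),
      GP c u v d₁ d₂ B) : GP c u v d₁ d₂ A := by
  apply GP.of_span hu hv hd₁ hd₂ he s hs
  intro f hf
  obtain ⟨B, _, _, _, hB⟩ := h f hf
  exact hB.of_ringEquiv (IsLocalization.algEquiv (Submonoid.powers f) B
    (Localization.Away f)).toRingEquiv

end

end Groth.Agent.Lib.helper20

namespace Groth.Agent.Lib.helper20

open AlgebraicGeometry CategoryTheory

/-- affine communication for the generic property -/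
theorem GP.forall_affine {c u v d₁ d₂ : ℕ} (hu : 0 < u) (hv : 0 < v) (hd₁ : 0 < d₁) (hd₂ : 0 < d₂)
    (he : d₁ * u = d₂ * v) (X : Scheme.{u})
    (hX : ∀ x : X, ∃ U : X.affineOpens, x ∈ (U : X.Opens) ∧ GP c u v d₁ d₂ Γ(X, U))
    (V : X.affineOpens) : GP c u v d₁ d₂ Γ(X, V) := by
  choose U hxU hU using hX
  refine of_affine_open_cover (P := fun W => GP c u v d₁ d₂ Γ(X, W)) U ?_ V ?_ ?_ hU
  · rw [eq_top_iff]
    intro x _
    exact TopologicalSpace.Opens.mem_iSup.mpr ⟨x, hxU x⟩
  · intro W f hW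
    have := W.2.isLocalization_basicOpen f
    show GP c u v d₁ d₂ Γ(X, X.basicOpen f)
    exact GP.away hu hd₁ hd₂ he f hW
  · intro W s hs h
    apply GP.of_span' hu hv hd₁ hd₂ he s hs
    intro f hf
    exact ⟨Γ(X, X.basicOpen f), inferInstance, inferInstance, W.2.isLocalization_basicOpen f,
      h ⟨f, hf⟩⟩

theorem exists_affine_nhds (X : Scheme.{u}) (x : X) : ∃ U : X.affineOpens, x ∈ (U : X.Opens) := by
  obtain ⟨_, ⟨U, hU, rfl⟩, hxU, -⟩ :=
    X.isBasis_affineOpens.exists_subset_of_mem_open (Set.mem_univ x) isOpen_univ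
  exact ⟨⟨U, hU⟩, hxU⟩

end Groth.Agent.Lib.helper20
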