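import Mathlib
import Groth.Prelude.Def_Coh
import Groth.Agent.Lib.Helper11.CoprodVan

/-!
# Cohomology of a coproduct is generated by the cohomology of the summands (helper20)

On a quasi-compact quasi-separated scheme, an additive map out of `H^p(X, ∐ G_j)` which vanishes on the images of
all `H^p(X, G_j)` vanishes (`HH_sigma_ext`).  From helper27's `FiltCoh.preservesColimit_H_top`, following
helper11's `CoprodVan`.
-/

set_option autoImplicit false
universe u
open CategoryTheory CategoryTheory.Limits AlgebraicGeometry Opposite TopologicalSpace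

namespace Groth.Agent.Lib.Helper20.SigmaExt

open Groth.Agent.Lib.helper27

/-- naturality of helper27's comparison `H^n(⊤, F) ≃ H^n(X, F)` (as in `Lead.RpushCoh`) -/
lemma HEquivHU_map {X : TopCat.{u}} {F G : CohTop.Ab X} (σ : F ⟶ G) (n : ℕ) (y : CohTop.HU F n ⊤) :
    SerreVan.HEquivHU G n (CohTop.HUmap σ n ⊤ y) = Sheaf.H.map σ n (SerreVan.HEquivHU F n y) := by
  exact (Abelian.Ext.comp_assoc_of_third_deg_zero (Abelian.Ext.mk₀ _) y (Abelian.Ext.mk₀ σ)
    (zero_add n)).symm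

variable (X : Scheme.{u})

/-- a morphism out of `H^p(⊤, ∐ A_j)` vanishing on all `H^p(⊤, A_j)` vanishes -/
theorem HU_top_sigma_ext [CompactSpace X] [QuasiSeparatedSpace X] {ι : Type u}
    (A : ι → CohTop.Ab X.toTopCat) (p : ℕ) {B : AddCommGrpCat.{u}}
    (f : ((Sheaf.cohomologyPresheafFunctor (Opens.grothendieckTopology X) p).flip.obj (op ⊤)).obj (∐ A) ⟶ B)
    (h : ∀ j, ((Sheaf.cohomologyPresheafFunctor (Opens.grothendieckTopology X) p).flip.obj (op ⊤)).map
      (Sigma.ι A j) ≫ f = 0) : f = 0 := by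
  classical
  let Φ : CohTop.Ab X.toTopCat ⥤ AddCommGrpCat.{u} :=
    (Sheaf.cohomologyPresheafFunctor (Opens.grothendieckTopology X) p).flip.obj (op ⊤)
  have hadd : Φ.Additive :=
    inferInstanceAs (Abelian.extFunctorObj
      ((presheafToSheaf (Opens.grothendieckTopology X) AddCommGrpCat.{u}).obj
        (yoneda.obj (⊤ : Opens X) ⋙ AddCommGrpCat.free)) p).Additive
  have hqs : QuasiSeparatedSpace ↑X.toTopCat := ‹QuasiSeparatedSpace X›
  have hcs : CompactSpace ↑X.toTopCat := ‹CompactSpace X›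
  have hfb : HasFiniteBiproducts (CohTop.Ab X.toTopCat) := Abelian.hasFiniteBiproducts
  let 𝔅 : Set (Opens X.toTopCat) := {W | IsCompact W.1}
  have hcomp : ∀ W ∈ 𝔅, IsCompact (W : Set X.toTopCat) := fun W hW => hW
  have hinf : ∀ W ∈ 𝔅, ∀ W' ∈ 𝔅, W ⊓ W' ∈ 𝔅 := fun W hW W' hW' =>
    QuasiSeparatedSpace.inter_isCompact W.1 W'.1 W.2 hW W'.2 hW'
  have hbasis : ∀ W ∈ 𝔅, ∀ (V : Opens X.toTopCat), V ≤ W → ∀ x ∈ V, ∃ W' ∈ 𝔅, x ∈ W' ∧ W' ≤ V := by
    intro W _ V _ x hx
    obtain ⟨W', hW', hxW', hle⟩ := Opens.isBasis_iff_nbhd.mp X.isBasis_affineOpens hx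
    exact ⟨W', hW'.isCompact, hxW', hle⟩
  have htop : (⊤ : Opens X.toTopCat) ∈ 𝔅 := isCompact_univ
  let F := CoproductsFromFiniteFiltered.liftToFinsetObj (Discrete.functor A)
  have hpres : PreservesColimit F Φ :=
    FiltCoh.preservesColimit_H_top 𝔅 hcomp hinf hbasis ⊤ htop p F
  have hc := isColimitOfPreserves Φ
    (CoproductsFromFiniteFiltered.isColimitFiniteSubproductsCocone A)
  suffices H : ∀ g : Φ.obj (∐ A) ⟶ B, (∀ j, Φ.map (Sigma.ι A j) ≫ g = 0) → g = 0 from H f h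
  intro g hg
  refine hc.hom_ext fun S => ?_
  have hz : (Φ.mapCocone (CoproductsFromFiniteFiltered.finiteSubcoproductsCocone A)).ι.app S ≫
      (0 : Φ.obj (∐ A) ⟶ B) = 0 := comp_zero
  refine Eq.trans ?_ hz.symm
  change Φ.map (Sigma.desc fun s : S => Sigma.ι A s.1.as) ≫ g = 0
  -- the finite coproduct is preserved by the additive functor `Φ`
  have hfin : PreservesColimitsOfShape (Discrete S) Φ := by
    have : PreservesFiniteCoproducts Φ := inferInstance
    have h0 : PreservesColimitsOfShape (Discrete (Fin (Fintype.card S))) Φ := this.preserves _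
    exact preservesColimitsOfShape_of_equiv (Discrete.equivalence (Fintype.equivFin S).symm) Φ
  have hc2 := isColimitOfPreserves Φ
    (coproductIsCoproduct (fun x : S => (Discrete.functor A).obj x.1))
  refine hc2.hom_ext fun x => ?_
  obtain ⟨x⟩ := x
  have hz2 : (Φ.mapCocone (Cofan.mk _ (Sigma.ι fun x : S => (Discrete.functor A).obj x.1))).ι.app ⟨x⟩ ≫
      (0 : Φ.obj (∐ fun x : S => (Discrete.functor A).obj x.1) ⟶ B) = 0 := comp_zero
  refine Eq.trans ?_ hz2.symm
  change Φ.map (Sigma.ι (fun x : S => (Discrete.functor A).obj x.1) x) ≫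
    Φ.map (Sigma.desc fun s : S => Sigma.ι A s.1.as) ≫ g = 0
  rw [← Category.assoc, ← Φ.map_comp]
  have : Sigma.ι (fun x : S => (Discrete.functor A).obj x.1) x ≫
      (Sigma.desc fun s : S => Sigma.ι A s.1.as) = Sigma.ι A x.1.as :=
    Sigma.ι_desc _ _
  rw [this]
  exact hg x.1.as

/-- **an additive map out of `H^p(X, ∐ G_j)` vanishing on the images of all `H^p(X, G_j)` vanishes** -/
theorem HH_sigma_ext [CompactSpace X] [QuasiSeparatedSpace X] {ι : Type u}
    (G : ι → X.Modules) (p : ℕ) {B : Type u} [AddCommGroup B]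
    (f : Coh.HH X (∐ G) p →+ B)
    (h : ∀ j (x : Coh.HH X (G j) p),
      f (Sheaf.H.map ((SheafOfModules.toSheaf X.ringCatSheaf).map (Sigma.ι G j)) p x) = 0) :
    f = 0 := by
  have hpc := Groth.Agent.Lib.Helper21.ModSh.toSheaf_preservesColimits X.ringCatSheaf
  let Φ : CohTop.Ab X.toTopCat ⥤ AddCommGrpCat.{u} :=
    (Sheaf.cohomologyPresheafFunctor (Opens.grothendieckTopology X) p).flip.obj (op ⊤)
  let e : Coh.toAb (∐ G) ≅ ∐ fun j => Coh.toAb (G j) :=
    PreservesCoproduct.iso (SheafOfModules.toSheaf X.ringCatSheaf) G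
  -- transport `f` to `Φ (∐ toAb G_j)`
  let E := SerreVan.HEquivHU (Coh.toAb (∐ G)) p
  let f' : Φ.obj (∐ fun j => Coh.toAb (G j)) ⟶ AddCommGrpCat.of B :=
    Φ.map e.inv ≫ AddCommGrpCat.ofHom (f.comp E.toAddMonoidHom)
  have hf' : f' = 0 := by
    apply HU_top_sigma_ext X (fun j => Coh.toAb (G j)) p f'
    intro j
    change Φ.map (Sigma.ι (fun j => Coh.toAb (G j)) j) ≫ Φ.map e.inv ≫ _ = 0
    rw [← Category.assoc, ← Φ.map_comp]
    have hι : Sigma.ι (fun j => Coh.toAb (G j)) j ≫ e.inv =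
        (SheafOfModules.toSheaf X.ringCatSheaf).map (Sigma.ι G j) := by
      change Sigma.ι _ j ≫ (PreservesCoproduct.iso (SheafOfModules.toSheaf X.ringCatSheaf) G).inv = _
      rw [PreservesCoproduct.inv_hom]
      exact ι_comp_sigmaComparison _ _ _
    rw [hι]
    ext y
    change f (E (CohTop.HUmap ((SheafOfModules.toSheaf X.ringCatSheaf).map (Sigma.ι G j)) p ⊤ y)) = 0
    rw [HEquivHU_map]
    exact h j _
  apply AddMonoidHom.ext
  intro z
  obtain ⟨y, rfl⟩ := E.surjective z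
  have h1 : f' = Φ.map e.inv ≫ AddCommGrpCat.ofHom (f.comp E.toAddMonoidHom) := rfl
  have h2 : Φ.map e.hom ≫ f' = AddCommGrpCat.ofHom (f.comp E.toAddMonoidHom) := by
    rw [h1, ← Category.assoc, ← Φ.map_comp, e.hom_inv_id, Φ.map_id, Category.id_comp]
    rfl
  rw [hf', comp_zero] at h2
  have h3 := ConcreteCategory.congr_hom h2 y
  exact h3.symm

end Groth.Agent.Lib.Helper20.SigmaExt
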