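import Mathlib
import Groth.Prelude.Def_Canon
import Groth.Agent.Lib.Helper18.HHLES
import Groth.Agent.Lib.Helper20.SigmaExt
import Groth.Agent.Lib.Helper7.CohKer
import Groth.Agent.Lib.Helper11.QCohSigma

/-!
# Dualizing pairs: from a generating class to all quasi-coherent modules (helper20)

`X` a quasi-compact quasi-separated scheme over `Spec A`, `(ω, tr)` a candidate `r`-dualizing pair.  If the duality map
`φ ↦ tr ∘ H^r(φ)` is bijective on a class `𝒢` of quasi-coherent modules which generates all quasi-coherent modules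
(every quasi-coherent `F` is a quotient of a coproduct of members of `𝒢`) and `H^{r+1}` vanishes on quasi-coherent
modules, then the duality map is bijective on all quasi-coherent modules (`bijective_of_genBy`).
-/

set_option autoImplicit false
universe u
open CategoryTheory CategoryTheory.Limits AlgebraicGeometry Opposite TopologicalSpace

namespace Groth.Agent.Lib.Helper20.DualQCoh

open Groth.Agent.Lib.Helper18

variable (A : Type u) [CommRing A] (X : Scheme.{u}) [X.Over (Spec (CommRingCat.of A))]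
  (r : ℕ) (ω : X.Modules) (tr : Coh.HH X ω r →ₗ[A] A)

lemma dualityMap_apply (F : X.Modules) (φ : F ⟶ ω) (x : Coh.HH X F r) :
    Canon.dualityMap A X r ω tr F φ x = tr (HH.map φ r x) := rfl

lemma dualityMap_comp {F F' : X.Modules} (g : F' ⟶ F) (φ : F ⟶ ω) (x : Coh.HH X F' r) :
    Canon.dualityMap A X r ω tr F' (g ≫ φ) x = Canon.dualityMap A X r ω tr F φ (HH.map g r x) := by
  rw [dualityMap_apply, dualityMap_apply, HH.map_comp_apply]

/-- bijectivity of the duality map is invariant under isomorphism -/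
theorem bijective_of_iso {F F' : X.Modules} (e : F' ≅ F)
    (h : Function.Bijective (Canon.dualityMap A X r ω tr F)) :
    Function.Bijective (Canon.dualityMap A X r ω tr F') := by
  constructor
  · intro φ φ' hφ
    have : e.inv ≫ φ = e.inv ≫ φ' := by
      apply h.1
      apply LinearMap.ext
      intro x
      have h1 := dualityMap_comp A X r ω tr e.inv φ x
      have h2 := dualityMap_comp A X r ω tr e.inv φ' x
      rw [h1, h2, hφ]
    exact (cancel_epi e.inv).1 this
  · intro μ
    obtain ⟨ψ, hψ⟩ := h.2 (μ ∘ₗ (HH.mapOver A e.inv r))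
    refine ⟨e.hom ≫ ψ, ?_⟩
    apply LinearMap.ext
    intro x
    rw [dualityMap_comp, hψ]
    change μ (HH.map e.inv r (HH.map e.hom r x)) = μ x
    rw [← HH.map_comp_apply, e.hom_inv_id, HH.map_id]
    rfl

/-- `F` is a quotient of a coproduct of members of `𝒢` -/
def GenBy (𝒢 : X.Modules → Prop) (F : X.Modules) : Prop :=
  ∃ (J : Type u) (E : J → X.Modules) (π : (∐ E) ⟶ F), Epi π ∧ ∀ j, 𝒢 (E j)

variable {X}

theorem injective_of_genBy {𝒢 : X.Modules → Prop}
    (h𝒢 : ∀ E, 𝒢 E → Function.Injective (Canon.dualityMap A X r ω tr E))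
    {F : X.Modules} (hF : GenBy X 𝒢 F) :
    Function.Injective (Canon.dualityMap A X r ω tr F) := by
  obtain ⟨J, E, π, hπ, hE⟩ := hF
  intro φ φ' hφ
  rw [← cancel_epi π]
  apply Sigma.hom_ext
  intro j
  apply h𝒢 (E j) (hE j)
  apply LinearMap.ext
  intro x
  have h1 := dualityMap_comp A X r ω tr (Sigma.ι E j ≫ π) φ x
  have h2 := dualityMap_comp A X r ω tr (Sigma.ι E j ≫ π) φ' x
  rw [Category.assoc] at h1 h2
  rw [h1, h2, hφ]

theorem surjective_sigma [CompactSpace X] [QuasiSeparatedSpace X] {J : Type u} (E : J → X.Modules)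
    (h : ∀ j, Function.Surjective (Canon.dualityMap A X r ω tr (E j))) :
    Function.Surjective (Canon.dualityMap A X r ω tr (∐ E)) := by
  intro μ
  choose ψ hψ using fun j => h j (μ ∘ₗ HH.mapOver A (Sigma.ι E j) r)
  refine ⟨Sigma.desc ψ, ?_⟩
  have key := Groth.Agent.Lib.Helper20.SigmaExt.HH_sigma_ext X E r
    ((Canon.dualityMap A X r ω tr (∐ E) (Sigma.desc ψ) - μ : Coh.HH X (∐ E) r →ₗ[A] A).toAddMonoidHom)
    (by
      intro j x
      change Canon.dualityMap A X r ω tr (∐ E) (Sigma.desc ψ) (HH.map (Sigma.ι E j) r x) -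
        μ (HH.map (Sigma.ι E j) r x) = 0
      rw [← dualityMap_comp, Sigma.ι_desc, hψ j]
      exact sub_self _)
  apply LinearMap.ext
  intro x
  have := DFunLike.congr_fun key x
  exact sub_eq_zero.1 this

/-- **from a generating class to all quasi-coherent modules** -/
theorem bijective_of_genBy [CompactSpace X] [QuasiSeparatedSpace X] {𝒢 : X.Modules → Prop}
    (h𝒢q : ∀ E, 𝒢 E → E.IsQuasicoherent)
    (h𝒢 : ∀ E, 𝒢 E → Function.Bijective (Canon.dualityMap A X r ω tr E))
    (hgen : ∀ F : X.Modules, F.IsQuasicoherent → GenBy X 𝒢 F)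
    (hvan : ∀ K : X.Modules, K.IsQuasicoherent → Subsingleton (Coh.HH X K (r + 1)))
    (F : X.Modules) (hF : F.IsQuasicoherent) :
    Function.Bijective (Canon.dualityMap A X r ω tr F) := by
  have hinj : ∀ G : X.Modules, G.IsQuasicoherent →
      Function.Injective (Canon.dualityMap A X r ω tr G) := fun G hG =>
    injective_of_genBy A r ω tr (fun E hE => (h𝒢 E hE).1) (hgen G hG)
  refine ⟨hinj F hF, ?_⟩
  obtain ⟨J, E, π, hπ, hE⟩ := hgen F hF
  haveI := hF
  haveI hEq : (∐ E).IsQuasicoherent :=
    Groth.Agent.Lib.helper11.QCohSigma.isQuasicoherent_sigma E fun j => h𝒢q _ (hE j)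
  have hK : (kernel π).IsQuasicoherent := Groth.Agent.Lib.helper7.CohKer.isQuasicoherent_kernel π
  let S : ShortComplex X.Modules := ShortComplex.mk (kernel.ι π) π (kernel.condition π)
  have hS : S.ShortExact :=
    { exact := ShortComplex.exact_kernel π
      mono_f := inferInstanceAs (Mono (kernel.ι π))
      epi_g := hπ }
  -- `H^r(π)` is surjective
  have hsurj : Function.Surjective (HH.map π r) := by
    intro y
    have hz : HH.δ hS r y = 0 := by
      haveI := hvan _ hK
      exact Subsingleton.elim _ _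
    exact (HH.exact₃ hS r y).1 hz
  intro μ
  obtain ⟨ψ₀, hψ₀⟩ := surjective_sigma A r ω tr E (fun j => (h𝒢 _ (hE j)).2)
    (μ ∘ₗ HH.mapOver A π r)
  -- `ψ₀` kills the kernel
  have hker : kernel.ι π ≫ ψ₀ = 0 := by
    apply hinj _ hK
    apply LinearMap.ext
    intro x
    rw [dualityMap_comp, hψ₀]
    change μ (HH.map π r (HH.map (kernel.ι π) r x)) =
      Canon.dualityMap A X r ω tr (kernel π) 0 x
    rw [← HH.map_comp_apply, kernel.condition, dualityMap_apply, HH.map_zero, HH.map_zero]
    simp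
  -- so it factors through `F`
  let φ : F ⟶ ω := hS.exact.desc ψ₀ hker
  have hφ : π ≫ φ = ψ₀ := hS.exact.g_desc ψ₀ hker
  refine ⟨φ, ?_⟩
  apply LinearMap.ext
  intro y
  obtain ⟨x, rfl⟩ := hsurj y
  rw [← dualityMap_comp, hφ, hψ₀]
  rfl

end Groth.Agent.Lib.Helper20.DualQCoh
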