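import Mathlib
import Groth.Agent.Lib.Helper27.FibreVan2
import Groth.Agent.Lib.Lead.RpushCoh
import Groth.Agent.Lib.Helper21.ShHomCoh3
import Groth.Agent.Lib.Helper20.DualQCoh
import Groth.Agent.S11319

/-!
# Vanishing of cohomology above the fibre dimension over an affine Noetherian base (helper20)

`X` proper over a Noetherian ring `A`, all fibres of dimension `≤ r`.
* `subsingleton_HH_of_fibre_dim_le`: `H^p(X, M) = 0` for `M` coherent, `p > r` (from helper27's `FibreVan.isZero_stalk`
  = S0042 and lead's `RpushCoh.secEquiv`).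
* `subsingleton_HH_of_genBy`: descending induction from a generating class to all quasi-coherent modules.
-/

set_option autoImplicit false
universe u
open CategoryTheory CategoryTheory.Limits AlgebraicGeometry Opposite TopologicalSpace

namespace Groth.Agent.Lib.Helper20.FibreDimVan

open Groth.Agent.Lib.Helper18

/-- an abelian sheaf all of whose stalks vanish has no nonzero sections -/
lemma subsingleton_sections_of_stalks {T : TopCat.{u}}
    (F : Sheaf (Opens.grothendieckTopology T) AddCommGrpCat.{u})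
    (h : ∀ y : T, IsZero (TopCat.Presheaf.stalk (C := AddCommGrpCat.{u}) F.obj y)) (U : Opens T) :
    Subsingleton (F.obj.obj (op U)) := by
  refine ⟨fun s t => ?_⟩
  apply TopCat.Presheaf.section_ext F U s t
  intro x hx
  haveI : Subsingleton (TopCat.Presheaf.stalk (C := AddCommGrpCat.{u}) F.obj x) :=
    AddCommGrpCat.subsingleton_of_isZero (h x)
  exact Subsingleton.elim _ _

variable (A : Type u) [CommRing A] [IsNoetherianRing A] (X : Scheme.{u})
  [X.Over (Spec (CommRingCat.of A))] [IsProper (X ↘ Spec (CommRingCat.of A))]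

/-- **vanishing above the fibre dimension**, coherent modules -/
theorem subsingleton_HH_of_fibre_dim_le (r : ℕ)
    (hfib : ∀ y : ↥(Spec (CommRingCat.of A)),
      topologicalKrullDim ↥((X ↘ Spec (CommRingCat.of A)).fiber y) ≤ (r : WithBot ℕ∞))
    (M : X.Modules) (hM : Coh.IsCoh M) (p : ℕ) (hp : r < p) : Subsingleton (Coh.HH X M p) := by
  haveI : HasInjectiveResolutions X.Modules := Groth.Agent.Lib.helper21.ShHomCoh.hasInjRes X
  haveI : M.IsQuasicoherent := hM.1
  obtain ⟨Θ⟩ := Groth.Agent.Lib.helper21.RpushTheta.nonempty_theta (X ↘ Spec (CommRingCat.of A)) p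
  let E := Groth.Agent.Lib.Lead.RpushCoh.secEquiv (X ↘ Spec (CommRingCat.of A)) M p Θ
  obtain ⟨i⟩ := Groth.Agent.S11319.result (X ↘ Spec (CommRingCat.of A)) M p
  have hz : ∀ y : ↥(Spec (CommRingCat.of A)), IsZero (TopCat.Presheaf.stalk
      ((Coh.RpushAb (X ↘ Spec (CommRingCat.of A)) p).obj (Coh.toAb M)).obj y) := fun y =>
    Groth.Agent.Lib.helper27.FibreVan.isZero_stalk (X ↘ Spec (CommRingCat.of A)) y r (hfib y) M hM p hp
  haveI h1 := subsingleton_sections_of_stalks _ hz ⊤
  have h2 : Subsingleton ((Coh.toAb ((Coh.Rpush (X ↘ Spec (CommRingCat.of A)) p).obj M)).obj.obj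
      (op (⊤ : (Spec (CommRingCat.of A)).Opens))) :=
    @Equiv.subsingleton _ _
      (((sheafToPresheaf _ _).mapIso i).app (op ⊤)).addCommGroupIsoToAddEquiv.toEquiv h1
  exact E.symm.toEquiv.subsingleton

variable {X}

/-- **descending induction**: vanishing of `H^p`, `p > r`, on a generating class implies vanishing on all
quasi-coherent modules, provided `H^p` vanishes for `p > N` on all quasi-coherent modules -/
theorem subsingleton_HH_of_genBy {X : Scheme.{u}} [CompactSpace X] [QuasiSeparatedSpace X]
    {𝒢 : X.Modules → Prop} (h𝒢q : ∀ E, 𝒢 E → E.IsQuasicoherent)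
    (hgen : ∀ F : X.Modules, F.IsQuasicoherent → DualQCoh.GenBy X 𝒢 F) (r N : ℕ)
    (hN : ∀ K : X.Modules, K.IsQuasicoherent → ∀ p, N < p → Subsingleton (Coh.HH X K p))
    (h𝒢 : ∀ E, 𝒢 E → ∀ p, r < p → Subsingleton (Coh.HH X E p)) :
    ∀ K : X.Modules, K.IsQuasicoherent → ∀ p, r < p → Subsingleton (Coh.HH X K p) := by
  suffices H : ∀ d p : ℕ, N < p + d → r < p → ∀ K : X.Modules, K.IsQuasicoherent →
      Subsingleton (Coh.HH X K p) from
    fun K hK p hp => H (N + 1) p (by omega) hp K hK
  intro d
  induction d with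
  | zero => intro p hpN _ K hK; exact hN K hK p (by omega)
  | succ d ih =>
    intro p hpN hpr K hK
    obtain ⟨J, E, π, hπ, hE⟩ := hgen K hK
    haveI := hK
    haveI hEq : (∐ E).IsQuasicoherent :=
      Groth.Agent.Lib.helper11.QCohSigma.isQuasicoherent_sigma E fun j => h𝒢q _ (hE j)
    have hKer : (kernel π).IsQuasicoherent :=
      Groth.Agent.Lib.helper7.CohKer.isQuasicoherent_kernel π
    let S : ShortComplex X.Modules := ShortComplex.mk (kernel.ι π) π (kernel.condition π)
    have hS : S.ShortExact :=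
      { exact := ShortComplex.exact_kernel π
        mono_f := inferInstanceAs (Mono (kernel.ι π))
        epi_g := hπ }
    haveI h1 : Subsingleton (Coh.HH X (∐ E) p) :=
      Groth.Agent.Lib.helper11.CoprodVan.subsingleton_HH_sigma X E p fun j => h𝒢 _ (hE j) p hpr
    haveI h2 : Subsingleton (Coh.HH X (kernel π) (p + 1)) :=
      ih (p + 1) (by omega) (by omega) _ hKer
    refine ⟨fun x y => ?_⟩
    have hx : ∀ z : Coh.HH X K p, z = 0 := by
      intro z
      have hz : HH.δ hS p z = 0 := Subsingleton.elim _ _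
      obtain ⟨w, hw⟩ := (HH.exact₃ hS p z).1 hz
      rw [← hw, Subsingleton.elim w 0, map_zero]
    rw [hx x, hx y]

end Groth.Agent.Lib.Helper20.FibreDimVan
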