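import Mathlib
import Groth.Prelude.Def_CohB1
import Groth.Agent.Lib.Helper18.ProjChart
import Groth.Agent.Lib.Helper28.TwistPn

/-!
# Flatness of the Prelude projective spaces (helper20)

`CohB1.ProjSpace.toSpec n R : P^n_R ⟶ Spec R` and `CohB1.ProjSpaceOver.toBase n S : P^n_S ⟶ S`
are flat (the standard charts are polynomial rings).
-/

set_option autoImplicit false
universe u
open CategoryTheory CategoryTheory.Limits AlgebraicGeometry MvPolynomial

namespace Groth.Agent.Lib.Helper20.FlatPn

variable (n : ℕ) (R : Type u) [CommRing R]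

theorem flat_cHom (i : Fin (n + 1)) : (Groth.Agent.Lib.Helper18.ProjChart.cHom n R i).Flat := by
  have h1 : Groth.Agent.Lib.Helper18.ProjChart.cHom n R i =
      ((Groth.Agent.Lib.Helper18.ProjChart.chartEquiv n R i : _ →+* _)).comp
        (C : R →+* MvPolynomial (Groth.Agent.Lib.Helper18.ProjChart.Idx n i) R) := by
    ext r
    simp [Groth.Agent.Lib.Helper18.ProjChart.chartEquiv, Groth.Agent.Lib.Helper18.ProjChart.Φ]
  rw [h1]
  refine RingHom.Flat.comp ?_
    (RingHom.Flat.of_bijective (Groth.Agent.Lib.Helper18.ProjChart.chartEquiv n R i).bijective)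
  exact (RingHom.flat_algebraMap_iff (R := R)
    (S := MvPolynomial (Groth.Agent.Lib.Helper18.ProjChart.Idx n i) R)).mpr inferInstance

set_option backward.isDefEq.respectTransparency.types false in
theorem flat_aux : Flat (X := Proj (CohB1.polyGrading n R)) (Y := Spec (CommRingCat.of R))
    (Proj.toSpecZero (CohB1.polyGrading n R) ≫
      Spec.map (CommRingCat.ofHom (algebraMap R (CohB1.polyGrading n R 0)))) := by
  have hcov : ⨆ i : Fin (n + 1), Proj.basicOpen (CohB1.polyGrading n R)
      (X i : MvPolynomial (Fin (n + 1)) R) = ⊤ := by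
    refine top_le_iff.mp (fun x _ => ?_)
    obtain ⟨a, ha⟩ := Groth.Agent.Lib.helper28.TwistPn.exists_X_notMem n R x
    exact TopologicalSpace.Opens.mem_iSup.mpr
      ⟨a, (ProjectiveSpectrum.mem_basicOpen (CohB1.polyGrading n R) _ x).mpr ha⟩
  rw [IsZariskiLocalAtSource.iff_of_iSup_eq_top (P := @Flat) _ hcov]
  intro i
  rw [← MorphismProperty.cancel_left_of_respectsIso (P := @Flat)
    (Proj.basicOpenIsoSpec (CohB1.polyGrading n R) (X i : MvPolynomial (Fin (n + 1)) R)
      (Groth.Agent.Lib.helper28.TwistPn.X_mem n R i) one_pos).inv, ← Category.assoc, ← Category.assoc,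
    ← Proj.awayι, Proj.awayι_toSpecZero, ← Spec.map_comp, Flat.SpecMap_iff]
  exact flat_cHom n R i

instance flat_toSpec : Flat (CohB1.ProjSpace.toSpec n R) := flat_aux n R

instance flat_toBase (S : Scheme.{u}) : Flat (CohB1.ProjSpaceOver.toBase n S) := by
  unfold CohB1.ProjSpaceOver.toBase
  exact MorphismProperty.pullback_snd _ _ (flat_toSpec n _)

end Groth.Agent.Lib.Helper20.FlatPn
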