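import Mathlib
import Groth.Prelude.Def_Coh
import Groth.Agent.Lib.Helper18.HHConseq

/-!
# Cohomology chase along an exact complex of modules (helper20)

`cyclesSC K q : 0 → Z^q → K^q → Z^{q+1} → 0` (short exact when `K` is exact at `q+1`), and
`subsingleton_HH_cycles`: if `K` is exact, zero in degrees `< -N`, and `H^{i₀+j-s-1}(K^{-j}) = 0` for all
`j > s`, then `H^{i₀}(Z^{-s}) = 0`.
-/

set_option autoImplicit false
universe u

open CategoryTheory CategoryTheory.Limits AlgebraicGeometry

namespace Groth.Agent.Lib.helper20.KosChase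

noncomputable section

section Abstract

variable {C : Type*} [Category C] [Abelian C]

lemma epi_toCycles_of_exactAt {ι : Type*} {c : ComplexShape ι} (K : HomologicalComplex C c)
    (i j : ι) (hi : c.prev j = i) (h : K.ExactAt j) : Epi (K.toCycles i j) := by
  subst hi
  exact ((HomologicalComplex.exactAt_iff K j).1 h).epi_toCycles

variable (K : CochainComplex C ℤ)

/-- `0 → Z^q → K^q → Z^{q+1} → 0` -/
def cyclesSC (q : ℤ) : ShortComplex C :=
  ShortComplex.mk (K.iCycles q) (K.toCycles q (q + 1)) (by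
    rw [← cancel_mono (K.iCycles (q + 1)), Category.assoc, K.toCycles_i, K.iCycles_d, zero_comp])

lemma cyclesSC_shortExact (q : ℤ) (h : K.ExactAt (q + 1)) : (cyclesSC K q).ShortExact := by
  have hepi : Epi (K.toCycles q (q + 1)) :=
    epi_toCycles_of_exactAt K q (q + 1) (by simp) h
  have hmono : Mono (K.iCycles q) := inferInstance
  refine ShortComplex.ShortExact.mk' ?_ hmono hepi
  exact ShortComplex.exact_of_f_is_kernel _
    (isKernelOfComp (K.iCycles (q + 1)) (K.d q (q + 1)) (K.cyclesIsKernel q (q + 1) (by simp))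
      _ (K.toCycles_i q (q + 1)))

lemma isZero_cycles (q : ℤ) (h : IsZero (K.X q)) : IsZero (K.cycles q) := by
  rw [IsZero.iff_id_eq_zero, ← cancel_mono (K.iCycles q)]
  exact h.eq_of_tgt _ _

lemma isIso_iCycles_of_isZero (q : ℤ) (h : IsZero (K.X (q + 1))) : IsIso (K.iCycles q) := by
  have hd : K.d q (q + 1) = 0 := h.eq_of_tgt _ _
  have : (K.sc q).g = 0 := by
    have : (ComplexShape.up ℤ).next q = q + 1 := by simp
    change K.d q ((ComplexShape.up ℤ).next q) = 0
    rw [this]; exact hd
  exact ShortComplex.isIso_iCycles _ this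

end Abstract

section HH

open Groth.Agent.Lib.Helper18.HH

variable {X : Scheme.{u}}

lemma subsingleton_HH_of_isZero {M : X.Modules} (h : IsZero M) (q : ℕ) :
    Subsingleton (Coh.HH X M q) := by
  have h1 : IsZero ((functor X q).obj M) := (functor X q).map_isZero h
  exact ModuleCat.subsingleton_of_isZero h1

lemma subsingleton_HH_of_iso {M N : X.Modules} (e : M ≅ N) (q : ℕ)
    (h : Subsingleton (Coh.HH X M q)) : Subsingleton (Coh.HH X N q) := by
  let e' : Coh.HH X M q ≃ₗ[Coh.Γtop X] Coh.HH X N q := ((functor X q).mapIso e).toLinearEquiv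
  exact e'.symm.toEquiv.subsingleton

lemma subsingleton_HH_biprod (M N : X.Modules) (q : ℕ) (hM : Subsingleton (Coh.HH X M q))
    (hN : Subsingleton (Coh.HH X N q)) : Subsingleton (Coh.HH X (M ⊞ N) q) :=
  subsingleton_X₂ (ShortComplex.Splitting.ofHasBinaryBiproduct M N).shortExact q hM hN

variable (K : CochainComplex X.Modules ℤ)

lemma subsingleton_HH_cycles_succ (q : ℤ) (p : ℕ) (hex : K.ExactAt (q + 1))
    (h₂ : Subsingleton (Coh.HH X (K.X q) p)) (h₁ : Subsingleton (Coh.HH X (K.cycles q) (p + 1))) :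
    Subsingleton (Coh.HH X (K.cycles (q + 1)) p) :=
  subsingleton_X₃ (cyclesSC_shortExact K q hex) p h₂ h₁

/-- the cohomology chase: `H^p(Z^q) = 0` when `H^m(K^r) = 0` for all `r < q`, `m + r = p + q - 1` -/
theorem subsingleton_HH_cycles (hex : ∀ q, K.ExactAt q) (N : ℤ) (hN : ∀ q, q < N → IsZero (K.X q)) :
    ∀ (D : ℕ) (q : ℤ) (p : ℕ), q - D < N →
      (∀ (r : ℤ) (m : ℕ), r < q → (m : ℤ) + r = p + q - 1 → Subsingleton (Coh.HH X (K.X r) m)) →
      Subsingleton (Coh.HH X (K.cycles q) p) := by
  intro D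
  induction D with
  | zero =>
    intro q p hq _
    exact subsingleton_HH_of_isZero (isZero_cycles K q (hN q (by simpa using hq))) p
  | succ D ih =>
    intro q p hq H
    have e : q - 1 + 1 = q := by ring
    have h := subsingleton_HH_cycles_succ K (q - 1) p (hex _) (H (q - 1) p (by omega) (by ring))
      (ih (q - 1) (p + 1) (by push_cast at hq; omega)
        (fun r m hr hm => H r m (by omega) (by push_cast at hm; omega)))
    rw [e] at h
    exact h

/-- the chase for the last term of an exact complex ending in degree `0` -/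
theorem subsingleton_HH_last (hex : ∀ q, K.ExactAt q) (N : ℤ) (hN : ∀ q, q < N → IsZero (K.X q))
    (h1 : IsZero (K.X 1)) (p : ℕ)
    (H : ∀ (r : ℤ) (m : ℕ), r < 0 → (m : ℤ) + r = p - 1 → Subsingleton (Coh.HH X (K.X r) m)) :
    Subsingleton (Coh.HH X (K.X 0) p) := by
  have hc := subsingleton_HH_cycles K hex N hN (0 - N + 1).toNat 0 p (by omega)
    (fun r m hr hm => H r m hr (by omega))
  have : IsIso (K.iCycles 0) := isIso_iCycles_of_isZero K 0 (by simpa using h1)
  exact subsingleton_HH_of_iso (asIso (K.iCycles 0)) p hc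

/-- `0 → Z^q → K^q → Z^{q'} → 0` with `q + 1 = q'` -/
def cyclesSC' (q q' : ℤ) (h : q + 1 = q') : ShortComplex X.Modules :=
  ShortComplex.mk (K.iCycles q) (K.toCycles q q') (by
    subst h
    exact (cyclesSC K q).zero)

lemma cyclesSC'_shortExact (q q' : ℤ) (h : q + 1 = q') (hex : K.ExactAt q') :
    (cyclesSC' K q q' h).ShortExact := by
  subst h
  exact cyclesSC_shortExact K q hex

lemma map_sum {M N : X.Modules} {ι : Type*} (s : Finset ι) (f : ι → (M ⟶ N)) (q : ℕ) :
    map (∑ j ∈ s, f j) q = ∑ j ∈ s, map (f j) q := by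
  classical
  induction s using Finset.induction_on with
  | empty => simp only [Finset.sum_empty]; exact map_zero q
  | insert a s ha ih => rw [Finset.sum_insert ha, Finset.sum_insert ha, map_add, ih]

/-- the last differential of an exact complex ending in degree `0` is surjective on `H^0` -/
theorem surjective_HH_d (hex : ∀ q, K.ExactAt q) (N : ℤ) (hN : ∀ q, q < N → IsZero (K.X q))
    (h1 : IsZero (K.X 1))
    (H : ∀ (r : ℤ) (m : ℕ), r < -1 → (m : ℤ) + r = -1 → Subsingleton (Coh.HH X (K.X r) m)) :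
    Function.Surjective (map (K.d (-1) 0) 0) := by
  have hc : Subsingleton (Coh.HH X (K.cycles (-1)) 1) :=
    subsingleton_HH_cycles K hex N hN (-1 - N + 1).toNat (-1) 1 (by omega)
      (fun r m hr hm => H r m hr (by push_cast at hm; omega))
  have hS := cyclesSC'_shortExact K (-1) 0 (by norm_num) (hex 0)
  have hsurj : Function.Surjective (map (K.toCycles (-1) 0) 0) :=
    surjective_map_g hS 0 hc
  have hiso : IsIso (K.iCycles 0) := isIso_iCycles_of_isZero K 0 (by simpa using h1)
  have hd : K.d (-1) 0 = K.toCycles (-1) 0 ≫ K.iCycles 0 := (K.toCycles_i (-1) 0).symm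
  intro y
  obtain ⟨w, hw⟩ := hsurj (Groth.Agent.Lib.Helper18.HH.map (inv (K.iCycles 0)) 0 y)
  refine ⟨w, ?_⟩
  rw [hd, map_comp_apply, hw, ← map_comp_apply, IsIso.inv_hom_id,
    Groth.Agent.Lib.Helper18.HH.map_id]
  rfl

end HH

end

end Groth.Agent.Lib.helper20.KosChase
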