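import Mathlib

/-!
# Koszul complexes as iterated mapping cones (helper20)

`GrOp 𝒜`: a ℤ-graded family of objects with commuting degree-one operators `x j`.
`kos G m`: the (homological) Koszul complex on `x 0, …, x (m-1)`, built as an iterated mapping cone,
again a graded family (of cochain complexes) with the remaining operators.
Main results: `kos_prop` (termwise additive properties), `kos_exactAt` (acyclicity after an additive
functor which inverts one of the operators), `kos_exactAt_of_family` (acyclicity from a jointly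
zero-reflecting family of exact functors each inverting one operator).
-/

set_option autoImplicit false
universe v u v' u'

open CategoryTheory CategoryTheory.Limits

namespace Groth.Agent.Lib.helper20.KosCone

/-- graded object with commuting degree-one operators -/
structure GrOp (𝒜 : Type u) [Category.{v} 𝒜] where
  M : ℤ → 𝒜
  x : ℕ → ∀ d : ℤ, M d ⟶ M (d + 1)
  comm : ∀ (i j : ℕ) (d : ℤ), x i d ≫ x j (d + 1) = x j d ≫ x i (d + 1)

section Cone

variable {𝒜 : Type u} [Category.{v} 𝒜] [Preadditive 𝒜] [HasBinaryBiproducts 𝒜]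

open CochainComplex

lemma map_congr {K₁ L₁ K₂ L₂ : CochainComplex 𝒜 ℤ} (φ₁ : K₁ ⟶ L₁) (φ₂ : K₂ ⟶ L₂)
    {a a' : K₁ ⟶ K₂} {b b' : L₁ ⟶ L₂} (ha : a = a') (hb : b = b')
    (comm : φ₁ ≫ b = a ≫ φ₂) (comm' : φ₁ ≫ b' = a' ≫ φ₂) :
    mappingCone.map φ₁ φ₂ a b comm = mappingCone.map φ₁ φ₂ a' b' comm' := by
  subst ha hb; rfl

/-- one Koszul step: cone of `x 0`, the other operators shifted down -/
noncomputable def step (H : GrOp (CochainComplex 𝒜 ℤ)) : GrOp (CochainComplex 𝒜 ℤ) where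
  M a := mappingCone (H.x 0 a)
  x j a := mappingCone.map (H.x 0 a) (H.x 0 (a + 1)) (H.x (j + 1) a) (H.x (j + 1) (a + 1))
    (H.comm 0 (j + 1) a)
  comm i j a := by
    rw [← mappingCone.map_comp, ← mappingCone.map_comp]
    exact map_congr _ _ (H.comm _ _ _) (H.comm _ _ _) _ _

variable [HasZeroObject 𝒜]

/-- a graded object as a graded family of complexes concentrated in degree `0` -/
noncomputable def of (G : GrOp 𝒜) : GrOp (CochainComplex 𝒜 ℤ) where
  M a := (HomologicalComplex.single 𝒜 (ComplexShape.up ℤ) 0).obj (G.M a)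
  x j a := (HomologicalComplex.single 𝒜 (ComplexShape.up ℤ) 0).map (G.x j a)
  comm i j a := by rw [← Functor.map_comp, ← Functor.map_comp, G.comm]

/-- the Koszul complexes on the first `m` operators -/
noncomputable def kos (G : GrOp 𝒜) : ℕ → GrOp (CochainComplex 𝒜 ℤ)
  | 0 => of G
  | m + 1 => step (kos G m)

/-- the terms of a cone -/
noncomputable def stepXIso (H : GrOp (CochainComplex 𝒜 ℤ)) (a i : ℤ) :
    ((step H).M a).X i ≅ (H.M a).X (i + 1) ⊞ (H.M (a + 1)).X i :=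
  HomologicalComplex.homotopyCofiber.XIsoBiprod (H.x 0 a) i (i + 1) rfl

/-- termwise propagation of an additive property -/
theorem kos_prop (G : GrOp 𝒜) (P : 𝒜 → Prop) (hiso : ∀ {X Y : 𝒜}, (X ≅ Y) → P X → P Y)
    (hzero : ∀ X : 𝒜, IsZero X → P X) (hadd : ∀ X Y : 𝒜, P X → P Y → P (X ⊞ Y)) :
    ∀ (m : ℕ) (a i b : ℤ), b = a + i + m → P (G.M b) → P (((kos G m).M a).X i) := by
  intro m
  induction m with
  | zero =>
    intro a i b hb hP
    by_cases hi : i = 0
    · subst hi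
      have hb' : b = a := by simpa using hb
      subst hb'
      exact hiso (HomologicalComplex.singleObjXSelf (ComplexShape.up ℤ) 0 (G.M b)).symm hP
    · exact hzero _ (HomologicalComplex.isZero_single_obj_X (ComplexShape.up ℤ) 0 (G.M a) i hi)
  | succ m ih =>
    intro a i b hb hP
    refine hiso (stepXIso (kos G m) a i).symm (hadd _ _ ?_ ?_)
    · exact ih a (i + 1) b (by rw [hb]; push_cast; ring) hP
    · exact ih (a + 1) i b (by rw [hb]; push_cast; ring) hP

/-- vanishing of the terms outside `[-m, 0]` -/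
theorem kos_isZero (G : GrOp 𝒜) :
    ∀ (m : ℕ) (a i : ℤ), (0 < i ∨ i + m < 0) → IsZero (((kos G m).M a).X i) := by
  intro m
  induction m with
  | zero =>
    intro a i hi
    exact HomologicalComplex.isZero_single_obj_X (ComplexShape.up ℤ) 0 (G.M a) i (by omega)
  | succ m ih =>
    intro a i hi
    refine IsZero.of_iso ?_ (stepXIso (kos G m) a i)
    rw [biprod_isZero_iff]
    exact ⟨ih a (i + 1) (by push_cast at hi; omega), ih (a + 1) i (by push_cast at hi; omega)⟩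

/-- the last term of the Koszul complex -/
theorem kos_X_zero_iso (G : GrOp 𝒜) :
    ∀ (m : ℕ) (a b : ℤ), b = a + m → Nonempty (((kos G m).M a).X 0 ≅ G.M b) := by
  intro m
  induction m with
  | zero =>
    intro a b hb
    have hb' : b = a := by simpa using hb
    subst hb'
    exact ⟨HomologicalComplex.singleObjXSelf (ComplexShape.up ℤ) 0 (G.M b)⟩
  | succ m ih =>
    intro a b hb
    obtain ⟨e⟩ := ih (a + 1) b (by rw [hb]; push_cast; ring)
    have hz : IsZero (((kos G m).M a).X (0 + 1)) := kos_isZero G m a (0 + 1) (Or.inl (by norm_num))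
    exact ⟨stepXIso (kos G m) a 0 ≪≫ (isoZeroBiprod hz).symm ≪≫ e⟩

lemma kos_eq_iterate (G : GrOp 𝒜) (m : ℕ) : kos G m = step^[m] (of G) := by
  induction m with
  | zero => rfl
  | succ m ih => rw [Function.iterate_succ_apply', ← ih]; rfl

end Cone

section Exact

open CochainComplex

lemma quasiIso_iff_cone {C : Type*} [Category C] [Abelian C] {K L : CochainComplex C ℤ}
    (φ : K ⟶ L) : QuasiIso φ ↔ ∀ n, (mappingCone φ).ExactAt n := by
  rw [← HomologicalComplex.mem_quasiIso_iff, ← HomotopyCategory.quotient_map_mem_quasiIso_iff φ,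
    HomotopyCategory.quasiIso_eq_trW_subcategoryAcyclic]
  have h := (HomotopyCategory.subcategoryAcyclic C).trW_iff_of_distinguished _
    (HomotopyCategory.mappingCone_triangleh_distinguished φ)
  exact h.trans (HomotopyCategory.quotient_obj_mem_subcategoryAcyclic_iff_exactAt _)

lemma isIso_of_decomp {ℬ : Type*} [Category ℬ] [Preadditive ℬ] {P Q P₁ P₂ Q₁ Q₂ : ℬ}
    (f₁ : P ⟶ P₁) (s₁ : P ⟶ P₂) (l₁ : P₁ ⟶ P) (r₁ : P₂ ⟶ P)
    (f₂ : Q ⟶ Q₁) (s₂ : Q ⟶ Q₂) (l₂ : Q₁ ⟶ Q) (r₂ : Q₂ ⟶ Q)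
    (h₁ : f₁ ≫ l₁ + s₁ ≫ r₁ = 𝟙 P) (h₂ : f₂ ≫ l₂ + s₂ ≫ r₂ = 𝟙 Q)
    (lf₁ : l₁ ≫ f₁ = 𝟙 _) (ls₁ : l₁ ≫ s₁ = 0) (rf₁ : r₁ ≫ f₁ = 0) (rs₁ : r₁ ≫ s₁ = 𝟙 _)
    (lf₂ : l₂ ≫ f₂ = 𝟙 _) (ls₂ : l₂ ≫ s₂ = 0) (rf₂ : r₂ ≫ f₂ = 0) (rs₂ : r₂ ≫ s₂ = 𝟙 _)
    (α : P₁ ⟶ Q₁) (β : P₂ ⟶ Q₂) [IsIso α] [IsIso β] (u : P ⟶ Q)
    (hu : u = f₁ ≫ α ≫ l₂ + s₁ ≫ β ≫ r₂) : IsIso u := by
  refine ⟨f₂ ≫ inv α ≫ l₁ + s₂ ≫ inv β ≫ r₁, ?_, ?_⟩
  · subst hu
    simp only [Preadditive.add_comp, Preadditive.comp_add, Category.assoc]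
    rw [reassoc_of% lf₂, reassoc_of% ls₂, reassoc_of% rf₂, reassoc_of% rs₂]
    simp only [IsIso.hom_inv_id_assoc, zero_comp, comp_zero, add_zero, zero_add]
    exact h₁
  · subst hu
    simp only [Preadditive.add_comp, Preadditive.comp_add, Category.assoc]
    rw [reassoc_of% lf₁, reassoc_of% ls₁, reassoc_of% rf₁, reassoc_of% rs₁]
    simp only [IsIso.inv_hom_id_assoc, zero_comp, comp_zero, add_zero, zero_add]
    exact h₂

variable {𝒜 : Type u} [Category.{v} 𝒜] [Abelian 𝒜] {ℬ : Type u'} [Category.{v'} ℬ] [Abelian ℬ]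
  (r : 𝒜 ⥤ ℬ) [r.Additive]

/-- all complexes of the family become acyclic after `r` -/
def RAcyc (H : GrOp (CochainComplex 𝒜 ℤ)) : Prop :=
  ∀ a i, ((r.mapHomologicalComplex (ComplexShape.up ℤ)).obj (H.M a)).ExactAt i

/-- the operator `x j` becomes a termwise isomorphism after `r` -/
def RIso (H : GrOp (CochainComplex 𝒜 ℤ)) (j : ℕ) : Prop :=
  ∀ a i, IsIso (r.map ((H.x j a).f i))

lemma exactAt_map_cone {K L : CochainComplex 𝒜 ℤ} (φ : K ⟶ L)
    (h : QuasiIso ((r.mapHomologicalComplex (ComplexShape.up ℤ)).map φ)) (i : ℤ) :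
    ((r.mapHomologicalComplex (ComplexShape.up ℤ)).obj (mappingCone φ)).ExactAt i :=
  (((quasiIso_iff_cone _).1 h) i).of_iso (mappingCone.mapHomologicalComplexIso φ r).symm

lemma racyc_step_of_racyc (H : GrOp (CochainComplex 𝒜 ℤ)) (h : RAcyc r H) : RAcyc r (step H) := by
  intro a i
  refine exactAt_map_cone r _ ⟨fun k => ?_⟩ i
  exact (quasiIsoAt_iff_exactAt _ k (h a k)).2 (h (a + 1) k)

lemma racyc_step_of_riso (H : GrOp (CochainComplex 𝒜 ℤ)) (h : RIso r H 0) : RAcyc r (step H) := by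
  intro a i
  have : IsIso ((r.mapHomologicalComplex (ComplexShape.up ℤ)).map (H.x 0 a)) := by
    have : ∀ k, IsIso (((r.mapHomologicalComplex (ComplexShape.up ℤ)).map (H.x 0 a)).f k) :=
      fun k => h a k
    exact HomologicalComplex.Hom.isIso_of_components _
  exact exactAt_map_cone r _ inferInstance i

lemma map_f_eq {K₁ L₁ K₂ L₂ : CochainComplex 𝒜 ℤ} (φ₁ : K₁ ⟶ L₁) (φ₂ : K₂ ⟶ L₂)
    (a : K₁ ⟶ K₂) (b : L₁ ⟶ L₂) (comm : φ₁ ≫ b = a ≫ φ₂) (i : ℤ) :
    (mappingCone.map φ₁ φ₂ a b comm).f i =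
      (mappingCone.fst φ₁).1.v i (i + 1) rfl ≫ a.f (i + 1) ≫
          (mappingCone.inl φ₂).v (i + 1) i (by omega) +
        (mappingCone.snd φ₁).v i i (add_zero i) ≫ b.f i ≫ (mappingCone.inr φ₂).f i := by
  rw [mappingCone.ext_from_iff _ (i + 1) i rfl]
  constructor
  · simp [mappingCone.map]
  · simp [mappingCone.map]

lemma isIso_map_cone_map {K₁ L₁ K₂ L₂ : CochainComplex 𝒜 ℤ} (φ₁ : K₁ ⟶ L₁) (φ₂ : K₂ ⟶ L₂)
    (a : K₁ ⟶ K₂) (b : L₁ ⟶ L₂) (comm : φ₁ ≫ b = a ≫ φ₂) (i : ℤ)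
    (ha : IsIso (r.map (a.f (i + 1)))) (hb : IsIso (r.map (b.f i))) :
    IsIso (r.map ((mappingCone.map φ₁ φ₂ a b comm).f i)) := by
  refine isIso_of_decomp
    (r.map ((mappingCone.fst φ₁).1.v i (i + 1) rfl)) (r.map ((mappingCone.snd φ₁).v i i (add_zero i)))
    (r.map ((mappingCone.inl φ₁).v (i + 1) i (by omega))) (r.map ((mappingCone.inr φ₁).f i))
    (r.map ((mappingCone.fst φ₂).1.v i (i + 1) rfl)) (r.map ((mappingCone.snd φ₂).v i i (add_zero i)))
    (r.map ((mappingCone.inl φ₂).v (i + 1) i (by omega))) (r.map ((mappingCone.inr φ₂).f i))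
    ?_ ?_ ?_ ?_ ?_ ?_ ?_ ?_ ?_ ?_ (r.map (a.f (i + 1))) (r.map (b.f i)) _ ?_
  · have := congrArg r.map (mappingCone.id_X φ₁ i (i + 1) rfl)
    simpa only [r.map_add, r.map_comp, r.map_id] using this
  · have := congrArg r.map (mappingCone.id_X φ₂ i (i + 1) rfl)
    simpa only [r.map_add, r.map_comp, r.map_id] using this
  · rw [← r.map_comp, mappingCone.inl_v_fst_v, r.map_id]
  · rw [← r.map_comp, mappingCone.inl_v_snd_v, r.map_zero]
  · rw [← r.map_comp, mappingCone.inr_f_fst_v, r.map_zero]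
  · rw [← r.map_comp, mappingCone.inr_f_snd_v, r.map_id]
  · rw [← r.map_comp, mappingCone.inl_v_fst_v, r.map_id]
  · rw [← r.map_comp, mappingCone.inl_v_snd_v, r.map_zero]
  · rw [← r.map_comp, mappingCone.inr_f_fst_v, r.map_zero]
  · rw [← r.map_comp, mappingCone.inr_f_snd_v, r.map_id]
  · rw [map_f_eq, r.map_add, r.map_comp, r.map_comp, r.map_comp, r.map_comp]

lemma riso_step (H : GrOp (CochainComplex 𝒜 ℤ)) (j : ℕ) (h : RIso r H (j + 1)) :
    RIso r (step H) j := by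
  intro a i
  exact isIso_map_cone_map r _ _ _ _ (H.comm 0 (j + 1) a) i (h a (i + 1)) (h (a + 1) i)

lemma riso_of (G : GrOp 𝒜) (j : ℕ) (h : ∀ d, IsIso (r.map (G.x j d))) : RIso r (of G) j := by
  intro a i
  by_cases hi : i = 0
  · subst hi
    have := h a
    change IsIso (r.map (((HomologicalComplex.single 𝒜 (ComplexShape.up ℤ) 0).map (G.x j a)).f 0))
    rw [HomologicalComplex.single_map_f_self, r.map_comp, r.map_comp]
    infer_instance
  · have h1 : IsZero (r.obj (((of G).M a).X i)) :=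
      r.map_isZero (HomologicalComplex.isZero_single_obj_X (ComplexShape.up ℤ) 0 (G.M a) i hi)
    have h2 : IsZero (r.obj (((of G).M (a + 1)).X i)) :=
      r.map_isZero (HomologicalComplex.isZero_single_obj_X (ComplexShape.up ℤ) 0 (G.M (a + 1)) i hi)
    exact ⟨⟨0, h1.eq_of_src _ _, h2.eq_of_src _ _⟩⟩

theorem racyc_iterate : ∀ (j : ℕ) (H : GrOp (CochainComplex 𝒜 ℤ)), RIso r H j →
    ∀ m : ℕ, j < m → RAcyc r (step^[m] H) := by
  intro j
  induction j with
  | zero =>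
    intro H h m hm
    induction m with
    | zero => omega
    | succ m ih =>
      rw [Function.iterate_succ_apply']
      rcases Nat.eq_zero_or_pos m with rfl | hpos
      · exact racyc_step_of_riso r H h
      · exact racyc_step_of_racyc r _ (ih hpos)
  | succ j ih =>
    intro H h m hm
    obtain ⟨m', rfl⟩ : ∃ m', m = m' + 1 := ⟨m - 1, by omega⟩
    rw [Function.iterate_succ_apply]
    exact ih (step H) (riso_step r H j h) m' (by omega)

/-- if `r` inverts the operator `x j`, `j < m`, the Koszul complexes on `x 0 … x (m-1)` become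
acyclic after `r` -/
theorem kos_racyc (G : GrOp 𝒜) (j m : ℕ) (hjm : j < m) (h : ∀ d, IsIso (r.map (G.x j d))) :
    RAcyc r (kos G m) := by
  rw [kos_eq_iterate]
  exact racyc_iterate r j (of G) (riso_of r G j h) m hjm

end Exact

section Family

variable {𝒜 : Type u} [Category.{v} 𝒜] [Abelian 𝒜]

/-- acyclicity of the Koszul complex from a jointly zero-reflecting family of exact functors, each
inverting one of the operators -/
theorem kos_exactAt_of_family (G : GrOp 𝒜) (m : ℕ) {ℬ : Fin m → Type u'}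
    [∀ l, Category.{v'} (ℬ l)] [∀ l, Abelian (ℬ l)] (r : ∀ l, 𝒜 ⥤ ℬ l) [∀ l, (r l).Additive]
    [∀ l, PreservesFiniteLimits (r l)] [∀ l, PreservesFiniteColimits (r l)]
    (hr : ∀ Z : 𝒜, (∀ l, IsZero ((r l).obj Z)) → IsZero Z)
    (hx : ∀ (l : Fin m) (d : ℤ), IsIso ((r l).map (G.x l d))) (a i : ℤ) :
    ((kos G m).M a).ExactAt i := by
  rw [HomologicalComplex.exactAt_iff, ShortComplex.exact_iff_isZero_homology]
  apply hr
  intro l
  have h := kos_racyc (r l) G l m l.2 (hx l) a i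
  rw [HomologicalComplex.exactAt_iff, ShortComplex.exact_iff_isZero_homology] at h
  exact IsZero.of_iso h ((((kos G m).M a).sc i).mapHomologyIso (r l)).symm

end Family

end Groth.Agent.Lib.helper20.KosCone
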