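import Mathlib
import Groth.Prelude.Def_Twist2
import Groth.Agent.Lib.Helper28.TwistMul

/-!
# Multiplication by a homogeneous element as a morphism `O(a) ⟶ O(b)` on `Proj` (helper20)

For `f ∈ 𝒜 k` and `a + k = b`: `mulSec` (on sections) and `mulHom h f : Twist.twist 𝒜 a ⟶ Twist.twist 𝒜 b`,
with the pointwise formula `mulHom_app_val`.
-/

set_option autoImplicit false
universe u

open CategoryTheory AlgebraicGeometry Opposite TopologicalSpace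

namespace Groth.Agent.Lib.Helper20.ProjMulHom

open Groth.Agent.Lib.helper28.GrFrac Groth.Agent.Lib.helper28.TwistSec
  Groth.Agent.Lib.helper28.TwistFree Groth.Agent.Lib.helper28.TwistMul

variable {R A : Type u} [CommRing R] [CommRing A] [Algebra R A] (𝒜 : ℕ → Submodule R A)
  [GradedAlgebra 𝒜]

/-- transport of sections along an equality of twists -/
def castSec {m b : ℤ} (h : m = b) {W : Opens (ProjectiveSpectrum.top 𝒜)}
    (s : Twist.sectN (𝒜 := 𝒜) m (op W)) : Twist.sectN (𝒜 := 𝒜) b (op W) := h ▸ s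

lemma castSec_val {m b : ℤ} (h : m = b) {W : Opens (ProjectiveSpectrum.top 𝒜)}
    (s : Twist.sectN (𝒜 := 𝒜) m (op W)) (x : W) :
    (((castSec 𝒜 h s).1 x : Twist.twistAt 𝒜 b x.1) : Twist.Loc 𝒜 x.1) =
      ((s.1 x : Twist.twistAt 𝒜 m x.1) : Twist.Loc 𝒜 x.1) := by
  subst h
  rfl

/-- the element `f / 1` of the localization at `x` -/
def mkOne (f : A) (x : ProjectiveSpectrum 𝒜) : Twist.Loc 𝒜 x :=
  Localization.mk f ⟨1, fun h => x.isPrime.ne_top ((Ideal.eq_top_iff_one _).mpr h)⟩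

/-- multiplication of a section of `O(a)` by `f ∈ 𝒜 k`, a section of `O(b)`, `a + k = b` -/
def mulSec {a b : ℤ} {k : ℕ} (h : a + (k : ℤ) = b) (f : 𝒜 k) (W : Opens (ProjectiveSpectrum.top 𝒜))
    (σ : Twist.sectN (𝒜 := 𝒜) a (op W)) : Twist.sectN (𝒜 := 𝒜) b (op W) :=
  castSec 𝒜 h (mulFun 𝒜 a (k : ℤ) W σ
    (Twist.resN (k : ℤ) (homOfLE (le_top : W ≤ ⊤)).op (Twist.globalOf 𝒜 f)))

lemma mulSec_val {a b : ℤ} {k : ℕ} (h : a + (k : ℤ) = b) (f : 𝒜 k)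
    (W : Opens (ProjectiveSpectrum.top 𝒜)) (σ : Twist.sectN (𝒜 := 𝒜) a (op W)) (x : W) :
    (((mulSec 𝒜 h f W σ).1 x : Twist.twistAt 𝒜 b x.1) : Twist.Loc 𝒜 x.1) =
      ((σ.1 x : Twist.twistAt 𝒜 a x.1) : Twist.Loc 𝒜 x.1) * mkOne 𝒜 f.1 x.1 := by
  unfold mulSec
  rw [castSec_val, mulFun_val]
  rfl

lemma mulSec_add {a b : ℤ} {k : ℕ} (h : a + (k : ℤ) = b) (f : 𝒜 k)
    (W : Opens (ProjectiveSpectrum.top 𝒜)) (σ τ : Twist.sectN (𝒜 := 𝒜) a (op W)) :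
    mulSec 𝒜 h f W (σ + τ) = mulSec 𝒜 h f W σ + mulSec 𝒜 h f W τ :=
  sectN_ext' 𝒜 _ _ fun x => by
    have e : ∀ (u v : Twist.sectN (𝒜 := 𝒜) b (op W)),
        (((u + v).1 x : Twist.twistAt 𝒜 b x.1) : Twist.Loc 𝒜 x.1) =
          ((u.1 x : Twist.twistAt 𝒜 b x.1) : Twist.Loc 𝒜 x.1) +
            ((v.1 x : Twist.twistAt 𝒜 b x.1) : Twist.Loc 𝒜 x.1) := fun _ _ => rfl
    have e' : (((σ + τ).1 x : Twist.twistAt 𝒜 a x.1) : Twist.Loc 𝒜 x.1) =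
          ((σ.1 x : Twist.twistAt 𝒜 a x.1) : Twist.Loc 𝒜 x.1) +
            ((τ.1 x : Twist.twistAt 𝒜 a x.1) : Twist.Loc 𝒜 x.1) := rfl
    rw [e, mulSec_val, mulSec_val, mulSec_val, e', add_mul]

lemma mulSec_smul {a b : ℤ} {k : ℕ} (h : a + (k : ℤ) = b) (f : 𝒜 k)
    (W : Opens (ProjectiveSpectrum.top 𝒜)) (c : Twist.O (𝒜 := 𝒜) (op W))
    (σ : Twist.sectN (𝒜 := 𝒜) a (op W)) :
    mulSec 𝒜 h f W (c • σ) = c • mulSec 𝒜 h f W σ :=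
  sectN_ext' 𝒜 _ _ fun x => by
    rw [mulSec_val, smul_val, smul_val, mulSec_val, mul_assoc]

lemma mulSec_res {a b : ℤ} {k : ℕ} (h : a + (k : ℤ) = b) (f : 𝒜 k)
    {W W' : (Opens (ProjectiveSpectrum.top 𝒜))ᵒᵖ} (i : W ⟶ W')
    (σ : Twist.sectN (𝒜 := 𝒜) a W) :
    mulSec 𝒜 h f W'.unop (Twist.resN a i σ) = Twist.resN b i (mulSec 𝒜 h f W.unop σ) :=
  sectN_ext' 𝒜 _ _ fun x => by
    rw [mulSec_val]
    exact (mulSec_val 𝒜 h f W.unop σ (i.unop x)).symm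

/-- the natural transformation of abelian presheaves underlying `mulHom` -/
noncomputable def mulPre {a b : ℤ} {k : ℕ} (h : a + (k : ℤ) = b) (f : 𝒜 k) :
    Twist.twistPre 𝒜 a ⟶ Twist.twistPre 𝒜 b where
  app W := AddCommGrpCat.ofHom
    (AddMonoidHom.mk' (mulSec 𝒜 h f W.unop) (mulSec_add 𝒜 h f W.unop))
  naturality {W W'} i := by
    apply AddCommGrpCat.hom_ext
    apply AddMonoidHom.ext
    intro σ
    exact mulSec_res 𝒜 h f i σ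

/-- multiplication by `f ∈ 𝒜 k` as a morphism `O(a) ⟶ O(b)`, `a + k = b` -/
noncomputable def mulHom {a b : ℤ} {k : ℕ} (h : a + (k : ℤ) = b) (f : 𝒜 k) :
    Twist.twist 𝒜 a ⟶ Twist.twist 𝒜 b :=
  ⟨PresheafOfModules.homMk (M₁ := Twist.twistPMod 𝒜 a) (M₂ := Twist.twistPMod 𝒜 b)
    (mulPre 𝒜 h f) (fun W c σ => mulSec_smul 𝒜 h f W.unop c σ)⟩

lemma mulHom_app {a b : ℤ} {k : ℕ} (h : a + (k : ℤ) = b) (f : 𝒜 k)
    (W : (Opens (ProjectiveSpectrum.top 𝒜))ᵒᵖ) (σ : Twist.sectN (𝒜 := 𝒜) a W) :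
    ((mulHom 𝒜 h f).val.app W).hom σ = mulSec 𝒜 h f W.unop σ := rfl

end Groth.Agent.Lib.Helper20.ProjMulHom
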