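import Mathlib
import Groth.Agent.Lib.Helper20.KosCone
import Groth.Agent.Lib.Helper20.ProjMulHom
import Groth.Agent.Lib.Helper20.ProjTopFin
import Groth.Agent.Lib.Helper12.PullTensor

/-!
# The Koszul complex of a module on projective space (helper20)
-/

set_option autoImplicit false
universe u

open CategoryTheory CategoryTheory.Limits AlgebraicGeometry Opposite TopologicalSpace

namespace Groth.Agent.Lib.helper20.KosPn

open Groth.Agent.Lib.Helper20.ProjMulHom Groth.Agent.Lib.helper20.KosCone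
open Groth.Agent.Lib.helper28.TwistFree Groth.Agent.Lib.helper28.TwistMul
open Groth.Agent.Lib.Lead.ModTensor

noncomputable section

section General

variable {R B : Type u} [CommRing R] [CommRing B] [Algebra R B] (𝒜 : ℕ → Submodule R B)
  [GradedAlgebra 𝒜]

lemma mulSec_comm {a b b' c : ℤ} {k l : ℕ} (h1 : a + (k : ℤ) = b) (h2 : b + (l : ℤ) = c)
    (h1' : a + (l : ℤ) = b') (h2' : b' + (k : ℤ) = c) (f : 𝒜 k) (g : 𝒜 l)
    (W : Opens (ProjectiveSpectrum.top 𝒜)) (σ : Twist.sectN (𝒜 := 𝒜) a (op W)) :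
    mulSec 𝒜 h2 g W (mulSec 𝒜 h1 f W σ) = mulSec 𝒜 h2' f W (mulSec 𝒜 h1' g W σ) := by
  refine sectN_ext' 𝒜 _ _ fun x => ?_
  rw [mulSec_val, mulSec_val, mulSec_val, mulSec_val, mul_assoc, mul_assoc]
  congr 1
  exact mul_comm _ _

/-- the section `1 / f` of `O(-k)` where `f` is invertible -/
def invSec {k : ℕ} (f : 𝒜 k) (W : Opens (ProjectiveSpectrum.top 𝒜))
    (hW : ∀ x : W, f.1 ∉ x.1.asHomogeneousIdeal) : Twist.sectN (𝒜 := 𝒜) (-(k : ℤ)) (op W) :=
  fracSectN 𝒜 (-(k : ℤ)) W (⟨1, SetLike.GradedOne.one_mem⟩ : 𝒜 0) f hW (by push_cast; ring)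

/-- division by `f` -/
def divSec {a b : ℤ} {k : ℕ} (h : a + (k : ℤ) = b) (f : 𝒜 k) (W : Opens (ProjectiveSpectrum.top 𝒜))
    (hW : ∀ x : W, f.1 ∉ x.1.asHomogeneousIdeal) (τ : Twist.sectN (𝒜 := 𝒜) b (op W)) :
    Twist.sectN (𝒜 := 𝒜) a (op W) :=
  castSec 𝒜 (show b + -(k : ℤ) = a by omega) (mulFun 𝒜 b (-(k : ℤ)) W τ (invSec 𝒜 f W hW))

lemma divSec_val {a b : ℤ} {k : ℕ} (h : a + (k : ℤ) = b) (f : 𝒜 k)
    (W : Opens (ProjectiveSpectrum.top 𝒜)) (hW : ∀ x : W, f.1 ∉ x.1.asHomogeneousIdeal)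
    (τ : Twist.sectN (𝒜 := 𝒜) b (op W)) (x : W) :
    (((divSec 𝒜 h f W hW τ).1 x : Twist.twistAt 𝒜 a x.1) : Twist.Loc 𝒜 x.1) =
      ((τ.1 x : Twist.twistAt 𝒜 b x.1) : Twist.Loc 𝒜 x.1) *
        Localization.mk 1 ⟨f.1, hW x⟩ := by
  unfold divSec
  rw [castSec_val, mulFun_val]
  rfl

lemma mkOne_mul_inv {k : ℕ} (f : 𝒜 k) (x : ProjectiveSpectrum 𝒜)
    (hx : f.1 ∉ x.asHomogeneousIdeal) :
    mkOne 𝒜 f.1 x * Localization.mk 1 ⟨f.1, hx⟩ = 1 := by
  unfold mkOne
  rw [Localization.mk_mul]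
  convert Localization.mk_self (⟨f.1, hx⟩ : x.asHomogeneousIdeal.toIdeal.primeCompl) using 2
  · exact mul_one _
  · exact one_mul _

lemma mulSec_bijective {a b : ℤ} {k : ℕ} (h : a + (k : ℤ) = b) (f : 𝒜 k)
    (W : Opens (ProjectiveSpectrum.top 𝒜)) (hW : ∀ x : W, f.1 ∉ x.1.asHomogeneousIdeal) :
    Function.Bijective (mulSec 𝒜 h f W) := by
  refine Function.bijective_iff_has_inverse.mpr ⟨divSec 𝒜 h f W hW, fun σ => ?_, fun τ => ?_⟩
  · refine sectN_ext' 𝒜 _ _ fun x => ?_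
    rw [divSec_val, mulSec_val, mul_assoc]
    exact (congrArg _ (mkOne_mul_inv 𝒜 f x.1 (hW x))).trans (mul_one _)
  · refine sectN_ext' 𝒜 _ _ fun x => ?_
    rw [mulSec_val, divSec_val, mul_assoc]
    refine (congrArg _ ((mul_comm _ _).trans (mkOne_mul_inv 𝒜 f x.1 (hW x)))).trans (mul_one _)

end General

variable (n : ℕ) (A : Type u) [CommRing A]

/-- the coordinate `X_j` in degree one (zero for `j > n`) -/
def coord (j : ℕ) : CohB1.polyGrading n A 1 :=
  if h : j < n + 1 then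
    ⟨MvPolynomial.X ⟨j, h⟩, (MvPolynomial.mem_homogeneousSubmodule _ _).mpr
      (MvPolynomial.isHomogeneous_X _ _)⟩
  else 0

lemma coord_of_lt (j : Fin (n + 1)) : (coord n A j.1).1 = MvPolynomial.X j := by
  unfold coord
  rw [dif_pos j.2]

/-- multiplication by `X_j : O(d) ⟶ O(d+1)` -/
def mulX (j : ℕ) (d : ℤ) : Twist.twistProjSpace n A d ⟶ Twist.twistProjSpace n A (d + 1) :=
  mulHom (CohB1.polyGrading n A) (show d + ((1 : ℕ) : ℤ) = d + 1 by norm_num) (coord n A j)

lemma mulX_comm (i j : ℕ) (d : ℤ) :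
    mulX n A i d ≫ mulX n A j (d + 1) = mulX n A j d ≫ mulX n A i (d + 1) := by
  apply SheafOfModules.hom_ext
  apply PresheafOfModules.hom_ext
  intro W
  apply ModuleCat.hom_ext
  apply LinearMap.ext
  intro σ
  have h1 : d + ((1 : ℕ) : ℤ) = d + 1 := by norm_num
  have h2 : d + 1 + ((1 : ℕ) : ℤ) = d + 1 + 1 := by norm_num
  exact mulSec_comm (CohB1.polyGrading n A) h1 h2 h1 h2 (coord n A i) (coord n A j) W.unop σ

/-- the standard open `D_+(X_l)` -/
def Ub (l : Fin (n + 1)) : (CohB1.ProjSpace n A).Opens :=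
  Proj.basicOpen (CohB1.polyGrading n A) (MvPolynomial.X l)

lemma iSup_Ub : ⨆ l, Ub n A l = ⊤ := by
  refine le_antisymm le_top ?_
  refine (Groth.Agent.Lib.Helper20.ProjTopFin.hcov n A).symm.le.trans ?_
  exact iSup_le fun (k : Groth.Agent.Lib.Helper20.ProjCechO.ι.{u} n) => le_iSup (Ub n A) k.down

open Groth.Agent.Lib.helper11.IsoLocus in
lemma isIso_restrict_mulX (l : Fin (n + 1)) (d : ℤ) :
    IsIso ((Scheme.Modules.restrictFunctor (Ub n A l).ι).map (mulX n A l.1 d)) := by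
  rw [isIso_restrict_iff_app]
  intro V hV
  have hW : ∀ x : V, (coord n A l.1).1 ∉ x.1.asHomogeneousIdeal := by
    intro x
    rw [coord_of_lt]
    exact (ProjectiveSpectrum.mem_basicOpen _ _ _).1 (hV x.2)
  have hb := mulSec_bijective (CohB1.polyGrading n A)
    (show d + ((1 : ℕ) : ℤ) = d + 1 by norm_num) (coord n A l.1) V hW
  exact (ConcreteCategory.isIso_iff_bijective _).2 hb

/-- the twists of `F` with the coordinate multiplications -/
def grOp (F : (CohB1.ProjSpace n A).Modules) : GrOp (CohB1.ProjSpace n A).Modules where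
  M d := CohB1.tensorMod F (Twist.twistProjSpace n A d)
  x j d := tensorMap (𝟙 F) (mulX n A j d)
  comm i j d := by
    rw [← tensorMap_comp, ← tensorMap_comp, mulX_comm]

open Groth.Agent.Lib.helper11.IsoLocus Groth.Agent.Lib.helper12.PullTensor in
lemma isIso_restrict_grOp_x (F : (CohB1.ProjSpace n A).Modules) (l : Fin (n + 1)) (d : ℤ) :
    IsIso ((Scheme.Modules.restrictFunctor (Ub n A l).ι).map ((grOp n A F).x l.1 d)) := by
  rw [← le_isoLocus_iff]
  refine le_trans ?_ (isoLocus_inf_le_tensorMap (𝟙 F) (mulX n A l.1 d))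
  rw [isoLocus_id, top_inf_eq, le_isoLocus_iff]
  exact isIso_restrict_mulX n A l d

section Restrict

variable {X Y : Scheme.{u}}

/-- restriction to an open preserves limits (computed sectionwise); copied from S16954 -/
instance preservesLimits_restrictFunctor (j : X ⟶ Y) [IsOpenImmersion j] :
    PreservesLimitsOfSize.{u, u} (Scheme.Modules.restrictFunctor j) := by
  have : ReflectsLimitsOfSize.{u, u} (Scheme.Modules.toPresheaf X) :=
    reflectsLimits_of_reflectsIsomorphisms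
  have h1 : PreservesLimitsOfSize.{u, u} (Scheme.Modules.toPresheaf Y) := inferInstance
  have h2 : PreservesLimitsOfSize.{u, u}
      ((Functor.whiskeringLeft (Opens ↥X)ᵒᵖ (Opens ↥Y)ᵒᵖ Ab.{u}).obj j.opensFunctor.op) :=
    whiskeringLeft_preservesLimits _
  have h3 : PreservesLimitsOfSize.{u, u} (Scheme.Modules.toPresheaf Y ⋙
      (Functor.whiskeringLeft (Opens ↥X)ᵒᵖ (Opens ↥Y)ᵒᵖ Ab.{u}).obj j.opensFunctor.op) :=
    @comp_preservesLimits _ _ _ _ _ _ _ _ h1 h2
  have : PreservesLimitsOfSize.{u, u}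
      (Scheme.Modules.restrictFunctor j ⋙ Scheme.Modules.toPresheaf X) :=
    preservesLimits_of_natIso (Iso.refl _ : Scheme.Modules.toPresheaf Y ⋙
      (Functor.whiskeringLeft _ _ _).obj j.opensFunctor.op ≅
        Scheme.Modules.restrictFunctor j ⋙ Scheme.Modules.toPresheaf X)
  exact preservesLimits_of_reflects_of_preserves _ (Scheme.Modules.toPresheaf X)

instance (j : X ⟶ Y) [IsOpenImmersion j] :
    PreservesFiniteLimits (Scheme.Modules.restrictFunctor j) :=
  (PreservesLimitsOfSize.preservesFiniteLimits.{u, u} (Scheme.Modules.restrictFunctor j) :)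

open Groth.Agent.Lib.helper11.IsoLocus in
/-- a module vanishing on an open cover vanishes -/
lemma isZero_of_cover {ι : Type*} (U : ι → X.Opens) (hU : ⨆ i, U i = ⊤) (Z : X.Modules)
    (h : ∀ i, IsZero ((Scheme.Modules.restrictFunctor (U i).ι).obj Z)) : IsZero Z := by
  have hiso : IsIso (0 : Z ⟶ Z) := by
    apply isIso_of_forall_restrict
    intro x
    have hx : x ∈ (⨆ i, U i : X.Opens) := by rw [hU]; trivial
    obtain ⟨i, hi⟩ := Opens.mem_iSup.mp hx
    refine ⟨U i, hi, ?_⟩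
    exact ⟨⟨0, (h i).eq_of_src _ _, (h i).eq_of_src _ _⟩⟩
  rw [IsZero.iff_id_eq_zero]
  have := IsIso.hom_inv_id (0 : Z ⟶ Z)
  rw [zero_comp] at this
  exact this.symm

end Restrict

/-- **The Koszul complex of `F` on `P^n_A` is exact.** -/
theorem kos_exactAt (F : (CohB1.ProjSpace n A).Modules) (a i : ℤ) :
    ((kos (grOp n A F) (n + 1)).M a).ExactAt i := by
  refine kos_exactAt_of_family (grOp n A F) (n + 1)
    (ℬ := fun l => (Ub n A l).toScheme.Modules)
    (fun l => Scheme.Modules.restrictFunctor (Ub n A l).ι) ?_ ?_ a i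
  · intro Z hZ
    exact isZero_of_cover (Ub n A) (iSup_Ub n A) Z hZ
  · intro l d
    exact isIso_restrict_grOp_x n A F l d

/-- the twists `O(d)` with the coordinate multiplications -/
def grOpO : GrOp (CohB1.ProjSpace n A).Modules where
  M d := Twist.twistProjSpace n A d
  x j d := mulX n A j d
  comm := mulX_comm n A

/-- **The Koszul complex of twists on `P^n_A` is exact.** -/
theorem kosO_exactAt (a i : ℤ) : ((kos (grOpO n A) (n + 1)).M a).ExactAt i := by
  refine kos_exactAt_of_family (grOpO n A) (n + 1)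
    (ℬ := fun l => (Ub n A l).toScheme.Modules)
    (fun l => Scheme.Modules.restrictFunctor (Ub n A l).ι) ?_ ?_ a i
  · intro Z hZ
    exact isZero_of_cover (Ub n A) (iSup_Ub n A) Z hZ
  · intro l d
    exact isIso_restrict_mulX n A l d

end

end Groth.Agent.Lib.helper20.KosPn
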