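import Mathlib
import Groth.Agent.S0022
import Groth.Agent.Lib.Helper20.KosPn
import Groth.Agent.Lib.Helper20.KosChase
import Groth.Agent.Lib.Helper2.TensorQCoh
import Groth.Agent.Lib.Helper28.TwistPn
import Groth.Agent.Lib.Helper20.TwistEquivPn

/-!
# Castelnuovo–Mumford regularity on `P^n_A` over an arbitrary ring `A` (helper20)

`IsReg n A G m`: `H^i(P^n_A, G(m - i)) = 0` for all `i ≥ 1`.
* `isReg_succ`, `isReg_of_le`: `m`-regular ⇒ `m'`-regular for `m ≤ m'` (Mumford; Koszul proof of S1642).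
* `vanish_of_isReg`: `H^i(G(d)) = 0` for `i ≥ 1`, `d ≥ m - i`.
-/

set_option autoImplicit false
universe u
open CategoryTheory CategoryTheory.Limits AlgebraicGeometry

namespace Groth.Agent.Lib.Helper20.RegRing

open Groth.Agent.Lib.helper20.KosCone Groth.Agent.Lib.helper20.KosPn
  Groth.Agent.Lib.helper20.KosChase

variable (n : ℕ) (A : Type u) [CommRing A]

/-- `G` is `m`-regular on `P^n_A`: `H^i(G(m - i)) = 0` for all `i ≥ 1` -/
def IsReg (G : (CohB1.ProjSpace n A).Modules) (m : ℤ) : Prop :=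
  ∀ i : ℕ, 1 ≤ i → Subsingleton (Coh.HH (CohB1.ProjSpace n A)
    (CohB1.tensorMod G (Twist.twistProjSpace n A (m - i))) i)

variable {n A}

theorem isReg_succ {G : (CohB1.ProjSpace n A).Modules} (hq : Coh.IsQCoh G) {m : ℤ}
    (h : IsReg n A G m) : IsReg n A G (m + 1) := by
  intro i hi1
  let a : ℤ := m + 1 - i - ((n + 1 : ℕ) : ℤ)
  let K := (kos (grOp n A G) (n + 1)).M a
  have hex : ∀ q, K.ExactAt q := fun q => kos_exactAt n A G a q
  have hN : ∀ q : ℤ, q < -((n + 1 : ℕ) : ℤ) → IsZero (K.X q) := fun q hq' =>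
    kos_isZero (grOp n A G) (n + 1) a q (Or.inr (by omega))
  have h1 : IsZero (K.X 1) := kos_isZero (grOp n A G) (n + 1) a 1 (Or.inl (by norm_num))
  have hlast := subsingleton_HH_last K hex _ hN h1 i (fun r p hr hp => by
    have hp1 : 1 ≤ p := by omega
    refine kos_prop (grOp n A G) (fun Y => Subsingleton (Coh.HH (CohB1.ProjSpace n A) Y p))
      (fun e hX => subsingleton_HH_of_iso e p hX)
      (fun Y hY => subsingleton_HH_of_isZero hY p)
      (fun Y Z hY hZ => subsingleton_HH_biprod Y Z p hY hZ) (n + 1) a r (m - p) ?_ (h p hp1)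
    simp only [a]
    push_cast
    omega)
  obtain ⟨e⟩ := kos_X_zero_iso (grOp n A G) (n + 1) a (m + 1 - i) (by simp only [a]; push_cast; ring)
  exact subsingleton_HH_of_iso e i hlast

theorem isReg_of_le {G : (CohB1.ProjSpace n A).Modules} (hq : Coh.IsQCoh G) {m : ℤ}
    (h : IsReg n A G m) : ∀ m' : ℤ, m ≤ m' → IsReg n A G m' := by
  have key : ∀ t : ℕ, IsReg n A G (m + t) := by
    intro t
    induction t with
    | zero => simpa using h
    | succ t ih =>
      have := isReg_succ hq ih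
      have e : m + (t : ℤ) + 1 = m + ((t + 1 : ℕ) : ℤ) := by push_cast; ring
      rw [e] at this
      exact this
  intro m' hm'
  have e : m' = m + ((m' - m).toNat : ℤ) := by omega
  rw [e]
  exact key _

/-- `H^i(G(d)) = 0` for `i ≥ 1` and `d ≥ m - i`, `G` `m`-regular -/
theorem vanish_of_isReg {G : (CohB1.ProjSpace n A).Modules} (hq : Coh.IsQCoh G) {m : ℤ}
    (h : IsReg n A G m) (i : ℕ) (hi : 1 ≤ i) (d : ℤ) (hd : m - i ≤ d) :
    Subsingleton (Coh.HH (CohB1.ProjSpace n A)
      (CohB1.tensorMod G (Twist.twistProjSpace n A d)) i) := by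
  have := isReg_of_le hq h (d + i) (by omega) i hi
  have e : d + (i : ℤ) - i = d := by ring
  rwa [e] at this

end Groth.Agent.Lib.Helper20.RegRing
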