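import Mathlib
import Groth.Prelude.Def_KRR
import Groth.Agent.Lib.Helper20.RegRing
import Groth.Agent.Lib.Helper21.GCBase
import Groth.Agent.Lib.Helper21.ModGroth
import Groth.Agent.Lib.Helper11.RpushAbBridge
import Groth.Agent.Lib.Helper11.S0002T3
import Groth.Agent.Lib.Helper11.PnOverBridge
import Groth.Agent.Lib.Helper11.GCLocGeo
import Groth.Agent.Lib.Helper12.TensorRestrict
import Groth.Agent.Lib.Lead.ProjectiveVan
import Groth.Agent.Lib.Helper18.HHPush
import Groth.Agent.Lib.Helper19.ProjSpaceProper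

/-!
# Castelnuovo–Mumford regularity relative to `p : P^n_Y ⟶ Y` (helper20)

Bridge between `KRR.IsRegSheaf n Y F` (vanishing of `R^i p_* F(-i)`) and regularity of the
transports `G_V F = θ_*(F|_{p⁻¹V})` on `P^n_{Γ(Y,V)}` for the affine opens `V` of `Y`
(`RegRing.IsReg`).

* `subsingleton_HH_restrict_of_isZero_rpushAb`, `isZero_rpushAb_of_forall_affine`.
* `GV`, `nonempty_GV_twF_iso : G_V (F(d)) ≅ (G_V F)(d)`.
* `isRegSheaf_iff`, `isZero_rpushAb_twF_iff`.
-/

set_option autoImplicit false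
universe u
open CategoryTheory CategoryTheory.Limits AlgebraicGeometry Opposite TopologicalSpace

namespace Groth.Agent.Lib.Helper20.RelReg

open Groth.Agent.Lib.Helper20.RegRing Groth.Agent.Lib.helper12.PnLocal
  Groth.Agent.Lib.Lead.ModTensor Groth.Agent.Lib.Helper20.TwistEquivPn

noncomputable instance (X : Scheme.{u}) : EnoughInjectives X.Modules :=
  Groth.Agent.Lib.Helper21.ModGroth.enoughInjectives_mod X.ringCatSheaf

section General

variable {X Y : Scheme.{u}} (f : X ⟶ Y) [QuasiCompact f] [QuasiSeparated f]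
  (M : X.Modules) [M.IsQuasicoherent] (i : ℕ)

/-- `R^i f_* M = 0` implies `H^i(f⁻¹V, M) = 0` for every affine open `V` -/
theorem subsingleton_HH_restrict_of_isZero_rpushAb
    (h : IsZero ((Coh.RpushAb f i).obj (Coh.toAb M))) {V : Y.Opens} (hV : IsAffineOpen V) :
    Subsingleton (Coh.HH (↑(f ⁻¹ᵁ V) : Scheme.{u}) (M.restrict (f ⁻¹ᵁ V).ι) i) := by
  have h1 : IsZero ((Coh.Rpush f i).obj M) :=
    Groth.Agent.Lib.helper11.RpushAbBridge.isZero_rpush_of_isZero_rpushAb f i M h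
  have h2 : Subsingleton Γ((Coh.Rpush f i).obj M, V) :=
    Groth.Agent.Lib.helper11.GCLoc.subsingleton_sections_of_isZero _ h1 V
  obtain ⟨e⟩ := Groth.Agent.Lib.helper21.GCBase.nonempty_sections_rpush_equiv f hV M i
  exact e.symm.toEquiv.subsingleton

/-- `H^i(f⁻¹V, M) = 0` on an affine cover implies `R^i f_* M = 0` (`i ≥ 1`, `f` separated) -/
theorem isZero_rpushAb_of_forall_affine [IsSeparated f] (hi : 0 < i)
    (h : ∀ V : Y.Opens, IsAffineOpen V →
      Subsingleton (Coh.HH (↑(f ⁻¹ᵁ V) : Scheme.{u}) (M.restrict (f ⁻¹ᵁ V).ι) i)) :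
    IsZero ((Coh.RpushAb f i).obj (Coh.toAb M)) := by
  refine Groth.Agent.Lib.helper11.S0002T3.isZero_RpushAb_of_affine_cover f M i hi fun z => ?_
  obtain ⟨V, hV, hzV, -⟩ := (Opens.isBasis_iff_nbhd.1 Y.isBasis_affineOpens)
    (show z ∈ (⊤ : Y.Opens) from trivial)
  exact ⟨V, hV, hzV, h V hV⟩

end General

section Pn

variable (n : ℕ) {Y : Scheme.{u}} (V : Y.Opens) (hV : IsAffineOpen V)

/-- the transport of `F|_{p⁻¹ V}` to `P^n_{Γ(Y,V)}` along helper12's chart `θ` -/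
noncomputable def GV (F : (KRR.PY n Y).Modules) : (CohB1.ProjSpace n Γ(Y, V)).Modules :=
  (Scheme.Modules.pushforward (theta n V hV).hom).obj (F.restrict (KRR.pr n Y ⁻¹ᵁ V).ι)

theorem isQuasicoherent_GV (F : (KRR.PY n Y).Modules) [F.IsQuasicoherent] :
    (GV n V hV F).IsQuasicoherent := by
  unfold GV
  haveI : (F.restrict (KRR.pr n Y ⁻¹ᵁ V).ι).IsQuasicoherent := inferInstance
  exact Groth.Agent.Lib.helper16.QCohAffinePush.isQuasicoherent_push _ _

/-- `H^i(p⁻¹V, F) = 0 ↔ H^i(P^n_A, G_V F) = 0` -/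
theorem subsingleton_HH_restrict_iff (F : (KRR.PY n Y).Modules) [F.IsQuasicoherent] (i : ℕ) :
    Subsingleton (Coh.HH (↑(KRR.pr n Y ⁻¹ᵁ V) : Scheme.{u}) (F.restrict (KRR.pr n Y ⁻¹ᵁ V).ι) i) ↔
      Subsingleton (Coh.HH (CohB1.ProjSpace n Γ(Y, V)) (GV n V hV F) i) := by
  haveI : (F.restrict (KRR.pr n Y ⁻¹ᵁ V).ι).IsQuasicoherent := inferInstance
  exact Groth.Agent.Lib.Helper18.HH.subsingleton_iff_push (theta n V hV).hom _ i

/-- `G_V (O(d) ⊗ F) ≅ (G_V F) ⊗ O(d)` -/
theorem nonempty_GV_twF_iso (F : (KRR.PY n Y).Modules) (d : ℤ) :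
    Nonempty (GV n V hV (KRR.twF n Y d F) ≅
      CohB1.tensorMod (GV n V hV F) (Twist.twistProjSpace n Γ(Y, V) d)) := by
  obtain ⟨e4⟩ := Groth.Agent.Lib.Lead.ProjectiveVan.nonempty_pushTwistIso (theta n V hV).hom
    (F.restrict (KRR.pr n Y ⁻¹ᵁ V).ι) d
  let e1 : (KRR.twF n Y d F).restrict (KRR.pr n Y ⁻¹ᵁ V).ι ≅
      CohB1.tensorMod ((Twist.twistOver n Y d).restrict (KRR.pr n Y ⁻¹ᵁ V).ι)
        (F.restrict (KRR.pr n Y ⁻¹ᵁ V).ι) :=
    Groth.Agent.Lib.helper12.TensorRestrict.restrictTensorIso (KRR.pr n Y ⁻¹ᵁ V).ι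
      (Twist.twistOver n Y d) F
  let e2 := Groth.Agent.Lib.helper11.PnOverBridge.restrictTwistOverIso n V hV d
  let e3 : (KRR.twF n Y d F).restrict (KRR.pr n Y ⁻¹ᵁ V).ι ≅
      CohB1.tensorMod (F.restrict (KRR.pr n Y ⁻¹ᵁ V).ι)
        ((Scheme.Modules.pullback (theta n V hV).hom).obj (Twist.twistProjSpace n Γ(Y, V) d)) :=
    e1 ≪≫ tensorIso e2 (Iso.refl _) ≪≫ braid _ _
  exact ⟨(Scheme.Modules.pushforward (theta n V hV).hom).mapIso e3 ≪≫ e4.symm⟩

end Pn

section Reg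

variable {n : ℕ} {A : Type u} [CommRing A]

theorem isReg_of_iso {G G' : (CohB1.ProjSpace n A).Modules} (e : G ≅ G') {m : ℤ}
    (h : IsReg n A G m) : IsReg n A G' m :=
  fun i hi => subsingleton_of_iso (tensorIso e (Iso.refl _)) i (h i hi)

theorem isReg_twist_iff (G : (CohB1.ProjSpace n A).Modules) (d m : ℤ) :
    IsReg n A (CohB1.tensorMod G (Twist.twistProjSpace n A d)) m ↔ IsReg n A G (d + m) := by
  constructor
  · intro h i hi
    have := subsingleton_of_iso (twistTwistIso n A G d (m - i)) i (h i hi)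
    have e : d + (m - (i : ℤ)) = d + m - i := by ring
    rwa [e] at this
  · intro h i hi
    have := h i hi
    have e : d + m - (i : ℤ) = d + (m - i) := by ring
    rw [e] at this
    exact subsingleton_of_iso (twistTwistIso n A G d (m - i)).symm i this

end Reg

section Main

variable (n : ℕ) (Y : Scheme.{u})

theorem isQuasicoherent_twistOver (d : ℤ) : (Twist.twistOver n Y d).IsQuasicoherent := by
  unfold Twist.twistOver
  haveI : (Twist.twistProjSpace n (ULift.{u} ℤ) d).IsQuasicoherent :=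
    Groth.Agent.Lib.helper28.TwistPn.isQuasicoherent n (ULift.{u} ℤ) d
  exact Groth.Agent.Lib.helper16.QCohPullback.isQuasicoherent_pullback _ _

theorem isQuasicoherent_twF (F : (KRR.PY n Y).Modules) [F.IsQuasicoherent] (d : ℤ) :
    (KRR.twF n Y d F).IsQuasicoherent := by
  haveI := isQuasicoherent_twistOver n Y d
  exact Groth.Agent.Lib.helper2.TensorQCoh.isQuasicoherent_tensorMod _ _

/-- `R^i p_* F = 0 ↔ H^i(P^n_A, G_V F) = 0` for all affine opens `V` (`i ≥ 1`) -/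
theorem isZero_rpushAb_iff (F : (KRR.PY n Y).Modules) [F.IsQuasicoherent] (i : ℕ) (hi : 1 ≤ i) :
    IsZero ((Coh.RpushAb (KRR.pr n Y) i).obj (Coh.toAb F)) ↔
      ∀ (V : Y.Opens) (hV : IsAffineOpen V),
        Subsingleton (Coh.HH (CohB1.ProjSpace n Γ(Y, V)) (GV n V hV F) i) := by
  haveI : IsProper (KRR.pr n Y) := Groth.Agent.Lib.helper19.ProjSpaceProper.proper_toBase n Y
  constructor
  · intro h V hV
    exact (subsingleton_HH_restrict_iff n V hV F i).1
      (subsingleton_HH_restrict_of_isZero_rpushAb (KRR.pr n Y) F i h hV)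
  · intro h
    exact isZero_rpushAb_of_forall_affine (KRR.pr n Y) F i hi fun V hV =>
      (subsingleton_HH_restrict_iff n V hV F i).2 (h V hV)

/-- `R^i p_*(F(d)) = 0 ↔ H^i(P^n_A, (G_V F)(d)) = 0` for all affine opens `V` (`i ≥ 1`) -/
theorem isZero_rpushAb_twF_iff (F : (KRR.PY n Y).Modules) [F.IsQuasicoherent] (d : ℤ) (i : ℕ)
    (hi : 1 ≤ i) :
    IsZero ((Coh.RpushAb (KRR.pr n Y) i).obj (Coh.toAb (KRR.twF n Y d F))) ↔
      ∀ (V : Y.Opens) (hV : IsAffineOpen V), Subsingleton (Coh.HH (CohB1.ProjSpace n Γ(Y, V))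
        (CohB1.tensorMod (GV n V hV F) (Twist.twistProjSpace n Γ(Y, V) d)) i) := by
  haveI : IsProper (KRR.pr n Y) := Groth.Agent.Lib.helper19.ProjSpaceProper.proper_toBase n Y
  haveI hq : (KRR.twF n Y d F).IsQuasicoherent := isQuasicoherent_twF n Y F d
  constructor
  · intro h V hV
    have h1 := subsingleton_HH_restrict_of_isZero_rpushAb (KRR.pr n Y) (KRR.twF n Y d F) i h hV
    have h2 := (subsingleton_HH_restrict_iff n V hV (KRR.twF n Y d F) i).1 h1
    obtain ⟨e⟩ := nonempty_GV_twF_iso n V hV F d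
    exact subsingleton_of_iso e i h2
  · intro h
    refine isZero_rpushAb_of_forall_affine (KRR.pr n Y) (KRR.twF n Y d F) i hi fun V hV => ?_
    obtain ⟨e⟩ := nonempty_GV_twF_iso n V hV F d
    exact (subsingleton_HH_restrict_iff n V hV (KRR.twF n Y d F) i).2
      (subsingleton_of_iso e.symm i (h V hV))

/-- `F` is regular relative to `p` iff all its transports `G_V F` are `0`-regular -/
theorem isRegSheaf_iff (F : (KRR.PY n Y).Modules) [F.IsQuasicoherent] :
    KRR.IsRegSheaf n Y F ↔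
      ∀ (V : Y.Opens) (hV : IsAffineOpen V), IsReg n Γ(Y, V) (GV n V hV F) 0 := by
  constructor
  · intro h V hV i hi
    have := (isZero_rpushAb_twF_iff n Y F (-(i : ℤ)) i hi).1 (h i hi) V hV
    have e : (0 : ℤ) - i = -(i : ℤ) := by ring
    rwa [e]
  · intro h i hi
    refine (isZero_rpushAb_twF_iff n Y F (-(i : ℤ)) i hi).2 fun V hV => ?_
    have := h V hV i hi
    have e : (0 : ℤ) - i = -(i : ℤ) := by ring
    rwa [e] at this

end Main

end Groth.Agent.Lib.Helper20.RelReg
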