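import Mathlib
import Groth.Prelude.Def_KRR
import Groth.Prelude.Def_ega3
import Groth.Agent.Lib.Helper20.RelReg
import Groth.Agent.Lib.Helper12.PullTensor
import Groth.Agent.Lib.Helper11.InvMod
import Groth.Agent.Lib.Helper28.TwistPn
import Groth.Agent.Lib.Helper16.QCohPullback

/-!
# Fibres of `P^n_S ⟶ S` and regularity (helper20)

* `isPullback_projSpaceMap`: `P^n_T = P^n_S ×_S T` for `φ : T ⟶ S`.
* `pullTwistOverIso`: `ψ^* O_{P^n_S}(d) ≅ O_{P^n_T}(d)`; `isInvertible_twistOver`; `twistOverTensorIso`.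
* `fibIso`: the fibre of `P^n_S ⟶ S` at `s` is `P^n_{Spec κ(s)}`.
* `subsingleton_fiberH_iff`, `subsingleton_HH_top_iff`, `fibre_vanish`.
-/

set_option autoImplicit false
universe u
open CategoryTheory CategoryTheory.Limits AlgebraicGeometry Opposite TopologicalSpace

namespace Groth.Agent.Lib.Helper20.FibreReg

open Groth.Agent.Lib.Helper20.RegRing Groth.Agent.Lib.Helper20.RelReg
  Groth.Agent.Lib.Helper20.TwistEquivPn

section Map

variable (n : ℕ) {T S : Scheme.{u}} (φ : T ⟶ S)

theorem projSpaceMap_fst :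
    KRR.projSpaceMap n φ ≫ pullback.fst (CohB1.ProjSpace.toSpec n (ULift.{u} ℤ))
        (specULiftZIsTerminal.from S) =
      pullback.fst (CohB1.ProjSpace.toSpec n (ULift.{u} ℤ)) (specULiftZIsTerminal.from T) := by
  unfold KRR.projSpaceMap pullback.map
  exact (pullback.lift_fst _ _ _).trans (Category.comp_id _)

theorem projSpaceMap_pr : KRR.projSpaceMap n φ ≫ KRR.pr n S = KRR.pr n T ≫ φ := by
  unfold KRR.projSpaceMap KRR.pr CohB1.ProjSpaceOver.toBase pullback.map
  exact pullback.lift_snd _ _ _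

theorem isPullback_projSpaceMap :
    IsPullback (KRR.projSpaceMap n φ) (KRR.pr n T) (KRR.pr n S) φ := by
  have hR : IsPullback (pullback.fst (CohB1.ProjSpace.toSpec n (ULift.{u} ℤ))
      (specULiftZIsTerminal.from S)) (KRR.pr n S) (CohB1.ProjSpace.toSpec n (ULift.{u} ℤ))
      (specULiftZIsTerminal.from S) := IsPullback.of_hasPullback _ _
  have hB : IsPullback (pullback.fst (CohB1.ProjSpace.toSpec n (ULift.{u} ℤ))
      (specULiftZIsTerminal.from T)) (KRR.pr n T) (CohB1.ProjSpace.toSpec n (ULift.{u} ℤ))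
      (specULiftZIsTerminal.from T) := IsPullback.of_hasPullback _ _
  refine IsPullback.of_right ?_ (projSpaceMap_pr n φ) hR
  rw [projSpaceMap_fst, show φ ≫ specULiftZIsTerminal.from S = specULiftZIsTerminal.from T from
    specULiftZIsTerminal.hom_ext _ _]
  exact hB

/-- `ψ^* O_{P^n_S}(d) ≅ O_{P^n_T}(d)` -/
noncomputable def pullTwistOverIso (d : ℤ) :
    (Scheme.Modules.pullback (KRR.projSpaceMap n φ)).obj (Twist.twistOver n S d) ≅
      Twist.twistOver n T d :=
  (Scheme.Modules.pullbackComp (KRR.projSpaceMap n φ) (pullback.fst _ _)).app _ ≪≫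
    (Scheme.Modules.pullbackCongr (projSpaceMap_fst n φ)).app _

theorem isInvertible_twistOver (d : ℤ) : PicF.IsInvertible (Twist.twistOver n S d) :=
  Groth.Agent.Lib.helper11.InvMod.isInvertible_pullback _
    (Groth.Agent.Lib.helper28.TwistPn.isInvertible n (ULift.{u} ℤ) d)

/-- `O(a) ⊗ O(b) ≅ O(a + b)` on `P^n_S` -/
noncomputable def twistOverTensorIso (a b : ℤ) :
    CohB1.tensorMod (Twist.twistOver n S a) (Twist.twistOver n S b) ≅ Twist.twistOver n S (a + b) :=
  (Groth.Agent.Lib.helper12.PullTensor.pullTensorIso _ _ _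
    (Groth.Agent.Lib.helper28.TwistPn.isInvertible n (ULift.{u} ℤ) b)).symm ≪≫
    (Scheme.Modules.pullback _).mapIso (Groth.Agent.Lib.helper28.TwistPn.tensorIso n (ULift.{u} ℤ) a b)

/-- `ψ^*(F ⊗ O(d)) ≅ ψ^*F ⊗ O(d)` -/
noncomputable def pullTwIso (F : (KRR.PY n S).Modules) (d : ℤ) :
    (Scheme.Modules.pullback (KRR.projSpaceMap n φ)).obj
        (CohB1.tensorMod F (Twist.twistOver n S d)) ≅
      CohB1.tensorMod ((Scheme.Modules.pullback (KRR.projSpaceMap n φ)).obj F)
        (Twist.twistOver n T d) :=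
  Groth.Agent.Lib.helper12.PullTensor.pullTensorIso _ _ _ (isInvertible_twistOver n d) ≪≫
    Groth.Agent.Lib.Lead.ModTensor.tensorIso (Iso.refl _) (pullTwistOverIso n φ d)

end Map

section Transport

open Groth.Agent.Lib.helper11.PnOverBridge Groth.Agent.Lib.helper16.QCohPullback

/-- cohomology vanishing is invariant under pullback along an isomorphism of schemes -/
theorem subsingleton_HH_pullback_iso_iff {W P : Scheme.{u}} (θ : W ⟶ P) [IsIso θ]
    (N : P.Modules) [N.IsQuasicoherent] (q : ℕ) :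
    Subsingleton (Coh.HH W ((Scheme.Modules.pullback θ).obj N) q) ↔
      Subsingleton (Coh.HH P N q) := by
  constructor
  · intro h
    haveI : ((Scheme.Modules.pullback θ).obj N).IsQuasicoherent := isQuasicoherent_pullback θ N
    refine subsingleton_HH_of_iso_pullback (inv θ) _ N ?_ q h
    exact ((Scheme.Modules.pullbackId P).app N).symm ≪≫
      (Scheme.Modules.pullbackCongr (IsIso.inv_hom_id θ).symm).app N ≪≫
      ((Scheme.Modules.pullbackComp (inv θ) θ).app N).symm
  · intro h
    exact subsingleton_HH_of_iso_pullback θ N _ (Iso.refl _) q h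

end Transport

section Fibre

open Groth.Agent.Lib.helper11.PnOverBridge Groth.Agent.Lib.helper16.QCohPullback

variable (n : ℕ) (S : Scheme.{u}) (s : S)

/-- the fibre of `P^n_S ⟶ S` at `s` is `P^n` over `Spec κ(s)` -/
noncomputable def fibIso : KRR.PY n (Spec (S.residueField s)) ≅ (KRR.pr n S).fiber s :=
  (isPullback_projSpaceMap n (S.fromSpecResidueField s)).isoPullback

theorem fibIso_hom_ι : (fibIso n S s).hom ≫ (KRR.pr n S).fiberι s =
    KRR.projSpaceMap n (S.fromSpecResidueField s) :=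
  IsPullback.isoPullback_hom_fst _

/-- `H^i` of the fibre of `F` at `s`, computed on `P^n_{Spec κ(s)}` -/
theorem subsingleton_fiberH_iff (F : (KRR.PY n S).Modules) [F.IsQuasicoherent] (i : ℕ) :
    Subsingleton (CohIII.fiberH (KRR.pr n S) F s i) ↔
      Subsingleton (Coh.HH (KRR.PY n (Spec (S.residueField s)))
        ((Scheme.Modules.pullback (KRR.projSpaceMap n (S.fromSpecResidueField s))).obj F) i) := by
  haveI : ((Scheme.Modules.pullback ((KRR.pr n S).fiberι s)).obj F).IsQuasicoherent :=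
    isQuasicoherent_pullback _ F
  rw [← subsingleton_HH_pullback_iso_iff (fibIso n S s).hom
    ((Scheme.Modules.pullback ((KRR.pr n S).fiberι s)).obj F) i]
  let e : (Scheme.Modules.pullback (KRR.projSpaceMap n (S.fromSpecResidueField s))).obj F ≅
      (Scheme.Modules.pullback (fibIso n S s).hom).obj
        ((Scheme.Modules.pullback ((KRR.pr n S).fiberι s)).obj F) :=
    (Scheme.Modules.pullbackCongr (fibIso_hom_ι n S s).symm).app F ≪≫
      ((Scheme.Modules.pullbackComp (fibIso n S s).hom ((KRR.pr n S).fiberι s)).app F).symm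
  exact ⟨fun h => subsingleton_of_iso e.symm i h, fun h => subsingleton_of_iso e i h⟩

end Fibre

section Top

open Groth.Agent.Lib.Lead.ModTensor

variable (n : ℕ) {Y : Scheme.{u}} [IsAffine Y]

/-- on `P^n` over an affine scheme `Y`, cohomology is computed on `P^n_{Γ(Y, ⊤)}` -/
theorem subsingleton_HH_top_iff (M : (KRR.PY n Y).Modules) [M.IsQuasicoherent] (i : ℕ) :
    Subsingleton (Coh.HH (KRR.PY n Y) M i) ↔
      Subsingleton (Coh.HH (CohB1.ProjSpace n Γ(Y, ⊤))
        (GV n (⊤ : Y.Opens) (isAffineOpen_top Y) M) i) := by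
  rw [← subsingleton_HH_restrict_iff n (⊤ : Y.Opens) (isAffineOpen_top Y) M i]
  haveI : IsIso (KRR.pr n Y ⁻¹ᵁ ⊤).ι := by
    rw [show KRR.pr n Y ⁻¹ᵁ ⊤ = ⊤ from rfl]
    exact (Scheme.topIso (KRR.PY n Y)).isIso_hom
  rw [← subsingleton_HH_pullback_iso_iff (KRR.pr n Y ⁻¹ᵁ ⊤).ι M i]
  exact ⟨fun h => subsingleton_of_iso
      ((Scheme.Modules.restrictFunctorIsoPullback (KRR.pr n Y ⁻¹ᵁ ⊤).ι).app M).symm i h,
    fun h => subsingleton_of_iso
      ((Scheme.Modules.restrictFunctorIsoPullback (KRR.pr n Y ⁻¹ᵁ ⊤).ι).app M) i h⟩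

/-- `H^i(P^n_Y, M ⊗ O(r))` computed on `P^n_{Γ(Y, ⊤)}` -/
theorem subsingleton_HH_tw_top_iff (M : (KRR.PY n Y).Modules) [M.IsQuasicoherent] (r : ℤ) (i : ℕ) :
    Subsingleton (Coh.HH (KRR.PY n Y) (CohB1.tensorMod M (Twist.twistOver n Y r)) i) ↔
      Subsingleton (Coh.HH (CohB1.ProjSpace n Γ(Y, ⊤))
        (CohB1.tensorMod (GV n (⊤ : Y.Opens) (isAffineOpen_top Y) M)
          (Twist.twistProjSpace n Γ(Y, ⊤) r)) i) := by
  haveI := isQuasicoherent_twF n Y M r
  obtain ⟨e⟩ := nonempty_GV_twF_iso n (⊤ : Y.Opens) (isAffineOpen_top Y) M r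
  let b : CohB1.tensorMod M (Twist.twistOver n Y r) ≅ KRR.twF n Y r M := braid _ _
  constructor
  · intro h
    exact subsingleton_of_iso e i
      ((subsingleton_HH_top_iff n (KRR.twF n Y r M) i).1 (subsingleton_of_iso b i h))
  · intro h
    exact subsingleton_of_iso b.symm i
      ((subsingleton_HH_top_iff n (KRR.twF n Y r M) i).2 (subsingleton_of_iso e.symm i h))

end Top

section Main

open Groth.Agent.Lib.helper16.QCohPullback

variable (n : ℕ) (S : Scheme.{u}) (s : S)

/-- the fibrewise cohomology of a twist, computed on `P^n` over the ring `Γ(Spec κ(s), ⊤)` -/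
theorem subsingleton_fiberH_tw_iff (Q : (KRR.PY n S).Modules) [Q.IsQuasicoherent] (r : ℤ) (i : ℕ) :
    Subsingleton (CohIII.fiberH (KRR.pr n S) (CohB1.tensorMod Q (Twist.twistOver n S r)) s i) ↔
      Subsingleton (Coh.HH (CohB1.ProjSpace n Γ(Spec (S.residueField s), ⊤))
        (CohB1.tensorMod (GV n (⊤ : (Spec (S.residueField s)).Opens) (isAffineOpen_top _)
          ((Scheme.Modules.pullback (KRR.projSpaceMap n (S.fromSpecResidueField s))).obj Q))
          (Twist.twistProjSpace n Γ(Spec (S.residueField s), ⊤) r)) i) := by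
  haveI : (CohB1.tensorMod Q (Twist.twistOver n S r)).IsQuasicoherent := by
    haveI := isQuasicoherent_twistOver n S r
    exact Groth.Agent.Lib.helper2.TensorQCoh.isQuasicoherent_tensorMod _ _
  haveI : ((Scheme.Modules.pullback (KRR.projSpaceMap n (S.fromSpecResidueField s))).obj
      Q).IsQuasicoherent := isQuasicoherent_pullback _ Q
  rw [subsingleton_fiberH_iff, ← subsingleton_HH_tw_top_iff]
  exact ⟨fun h => subsingleton_of_iso (pullTwIso n (S.fromSpecResidueField s) Q r) i h,
    fun h => subsingleton_of_iso (pullTwIso n (S.fromSpecResidueField s) Q r).symm i h⟩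

/-- **fibrewise `m`-regularity propagates**: if `H^i(X_s, Q_s(m - i)) = 0` for all `i ≥ 1`, then
`H^i(X_s, Q_s(r)) = 0` for all `i ≥ 1`, `r ≥ m - i`. -/
theorem fibre_vanish (Q : (KRR.PY n S).Modules) [Q.IsQuasicoherent] (m : ℤ)
    (hreg : ∀ i : ℕ, 1 ≤ i → Subsingleton (CohIII.fiberH (KRR.pr n S)
      (CohB1.tensorMod Q (Twist.twistOver n S (m - i))) s i))
    (i : ℕ) (hi : 1 ≤ i) (r : ℤ) (hr : m - i ≤ r) :
    Subsingleton (CohIII.fiberH (KRR.pr n S)
      (CohB1.tensorMod Q (Twist.twistOver n S r)) s i) := by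
  haveI : ((Scheme.Modules.pullback (KRR.projSpaceMap n (S.fromSpecResidueField s))).obj
      Q).IsQuasicoherent := isQuasicoherent_pullback _ Q
  have hq := isQuasicoherent_GV n (⊤ : (Spec (S.residueField s)).Opens) (isAffineOpen_top _)
    ((Scheme.Modules.pullback (KRR.projSpaceMap n (S.fromSpecResidueField s))).obj Q)
  have hR : IsReg n Γ(Spec (S.residueField s), ⊤)
      (GV n (⊤ : (Spec (S.residueField s)).Opens) (isAffineOpen_top _)
        ((Scheme.Modules.pullback (KRR.projSpaceMap n (S.fromSpecResidueField s))).obj Q)) m :=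
    fun j hj => (subsingleton_fiberH_tw_iff n S s Q (m - j) j).1 (hreg j hj)
  exact (subsingleton_fiberH_tw_iff n S s Q r i).2 (vanish_of_isReg hq hR i hi r hr)

end Main

end Groth.Agent.Lib.Helper20.FibreReg
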