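import Mathlib
import Groth.Prelude.Def_KRR
import Groth.Agent.S0843
import Groth.Agent.S0844
import Groth.Agent.Lib.Helper18.HHZero
import Groth.Agent.Lib.Helper20.TwistEquivPn
import Groth.Agent.Lib.Helper28.TwistPn
import Groth.Agent.Lib.Helper11.PullUnit
import Groth.Agent.Lib.Helper8.ClosedImmUnit
import Groth.Agent.Lib.Helper12.PnLocal1
import Groth.Agent.Lib.Helper20.RelReg

/-!
# `p_* O_P = O_Y` for `p : P^n_Y ⟶ Y`, and `O_P` is regular (helper20)

* `bijective_of_linearEquiv`: a ring map `φ : A → M` such that a free `M`-module of rank one is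
  free of rank one over `A` (through `φ`) is bijective.
* `bijective_toGlobal`, `isIso_appTop_toSpec`: `R → Γ(P^n_R, O)` is bijective.
* `isIso_app_pr`: `Γ(Y, V) → Γ(P^n_Y, p⁻¹ V)` is an isomorphism for `V` affine.
* `nonempty_push_structureModule_iso : p_* O_P ≅ O_Y`.
* `isRegSheaf_structureModule`: `O_P` is regular relative to `p`.
-/

set_option autoImplicit false
universe u
open CategoryTheory CategoryTheory.Limits AlgebraicGeometry Opposite TopologicalSpace

namespace Groth.Agent.Lib.Helper20.PushOPn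

section Alg

theorem bijective_of_linearEquiv {A M N : Type*} [CommRing A] [Ring M] [AddCommGroup N]
    [Module M N] (hc : ∀ x y : M, x * y = y * x) (φ : A →+* M) (u : N ≃ₗ[M] M)
    (e : letI := Module.compHom N φ; N ≃ₗ[A] A) : Function.Bijective φ := by
  letI := Module.compHom N φ
  have hs : ∀ (a : A) (x : N), a • x = φ a • x := fun a x => rfl
  have hgen : ∀ x : N, x = φ (e x) • e.symm 1 := by
    intro x
    have h1 : e.symm (e x • (1 : A)) = e x • e.symm 1 := e.symm.map_smul _ _
    rw [smul_eq_mul, mul_one, e.symm_apply_apply] at h1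
    rw [← hs]; exact h1
  have hM : ∀ m : M, m = φ (e (u.symm m)) * u (e.symm 1) := by
    intro m
    have := congrArg u (hgen (u.symm m))
    rw [u.apply_symm_apply, u.map_smul, smul_eq_mul] at this
    exact this
  have h1 := hM 1
  have h2 := hM (u (e.symm 1) * u (e.symm 1))
  generalize hγ : u (e.symm 1) = γ at *
  generalize ha : e (u.symm 1) = a at *
  generalize hb : e (u.symm (γ * γ)) = b at *
  have h3 : γ = φ (a * b) * γ := by
    rw [map_mul]
    calc γ = γ * 1 := (mul_one γ).symm
      _ = γ * (φ a * γ) := by rw [← h1]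
      _ = (γ * φ a) * γ := (mul_assoc _ _ _).symm
      _ = (φ a * γ) * γ := by rw [hc γ (φ a)]
      _ = φ a * (γ * γ) := mul_assoc _ _ _
      _ = φ a * (φ b * γ) := by rw [← h2]
      _ = φ a * φ b * γ := (mul_assoc _ _ _).symm
  have h4 : a * b = 1 := by
    have h5 : e.symm 1 = (a * b) • e.symm 1 := by
      apply u.injective
      rw [hs, u.map_smul, smul_eq_mul, hγ]
      exact h3
    have h6 := congrArg e h5
    rw [e.map_smul, e.apply_symm_apply, smul_eq_mul, mul_one] at h6
    exact h6.symm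
  have h7 : γ = φ b := by
    calc γ = φ b * (φ a * γ) := by
          rw [← mul_assoc, ← map_mul, mul_comm b a, h4, map_one, one_mul]
      _ = φ b := by rw [← h1, mul_one]
  constructor
  · rw [injective_iff_map_eq_zero]
    intro c hc'
    have h8 : c • e.symm 1 = 0 := by rw [hs, hc', zero_smul]
    have h9 := congrArg e h8
    rw [e.map_smul, e.apply_symm_apply, smul_eq_mul, mul_one, map_zero] at h9
    exact h9
  · intro m
    refine ⟨e (u.symm m) * b, ?_⟩
    rw [map_mul, ← h7]
    exact (hM m).symm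

end Alg

section Ring

variable (n : ℕ) (R : Type u) [CommRing R]

/-- the homogeneous polynomials of degree `0` are the constants -/
noncomputable def degZeroEquiv :
    R ≃ₗ[R] ↥(MvPolynomial.homogeneousSubmodule (Fin (n + 1)) R 0) :=
  LinearEquiv.ofBijective
    (LinearMap.codRestrict (MvPolynomial.homogeneousSubmodule (Fin (n + 1)) R 0)
      (Algebra.linearMap R (MvPolynomial (Fin (n + 1)) R))
      (fun r => MvPolynomial.isHomogeneous_C _ r))
    ⟨fun a b h => MvPolynomial.C_injective (Fin (n + 1)) R (congrArg Subtype.val h), by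
      rintro ⟨p, hp⟩
      rw [MvPolynomial.homogeneousSubmodule_zero, Submodule.mem_one] at hp
      obtain ⟨r, rfl⟩ := hp
      exact ⟨r, Subtype.ext rfl⟩⟩

theorem bijective_toGlobal :
    Function.Bijective (Coh.toGlobal (CohB1.ProjSpace.toSpec n R)) := by
  obtain ⟨e1⟩ := Groth.Agent.S0843.result R n 0
  rw [Nat.cast_zero] at e1
  let e0 : Coh.HH (CohB1.ProjSpace n R) (Coh.structureModule (CohB1.ProjSpace n R)) 0 ≃ₗ[R]
      Coh.HH (CohB1.ProjSpace n R) (Twist.twistProjSpace n R 0) 0 :=
    { (Groth.Agent.Lib.Helper20.TwistEquivPn.hhEquiv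
        (Groth.Agent.Lib.helper28.TwistPn.zeroIso n R) 0).toAddEquiv with
      map_smul' := fun a x => (Groth.Agent.Lib.Helper20.TwistEquivPn.hhEquiv
        (Groth.Agent.Lib.helper28.TwistPn.zeroIso n R) 0).map_smul
          (Coh.toGlobal (CohB1.ProjSpace.toSpec n R) a) x }
  exact bijective_of_linearEquiv
    (fun x y => mul_comm (G := Γ(CohB1.ProjSpace n R, ⊤)) x y)
    (Coh.toGlobal (CohB1.ProjSpace.toSpec n R))
    (Groth.Agent.Lib.Helper18.HH.equiv₀ (Coh.structureModule (CohB1.ProjSpace n R)))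
    (e0 ≪≫ₗ e1 ≪≫ₗ (degZeroEquiv n R).symm)

theorem isIso_appTop_toSpec : IsIso (CohB1.ProjSpace.toSpec n R).appTop := by
  have h1 := bijective_toGlobal n R
  have h2 : Function.Bijective (Scheme.ΓSpecIso (CommRingCat.of R)).hom.hom :=
    (ConcreteCategory.isIso_iff_bijective _).mp inferInstance
  have h4 : ∀ x, (CohB1.ProjSpace.toSpec n R).appTop.hom x =
      Coh.toGlobal (CohB1.ProjSpace.toSpec n R) ((Scheme.ΓSpecIso (CommRingCat.of R)).hom.hom x) := by
    intro x
    change _ = (CohB1.ProjSpace.toSpec n R).appTop.hom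
      ((Scheme.ΓSpecIso (CommRingCat.of R)).inv.hom
        ((Scheme.ΓSpecIso (CommRingCat.of R)).hom.hom x))
    congr 1
    exact (congrArg (fun k => k.hom x) (Scheme.ΓSpecIso (CommRingCat.of R)).hom_inv_id).symm
  refine (ConcreteCategory.isIso_iff_bijective _).mpr ⟨fun x y hxy => ?_, fun z => ?_⟩
  · exact h2.1 (h1.1 ((h4 x).symm.trans (hxy.trans (h4 y))))
  · obtain ⟨w, hw⟩ := h1.2 z
    obtain ⟨x, hx⟩ := h2.2 w
    exact ⟨x, (h4 x).trans (by rw [hx]; exact hw)⟩

end Ring

section Base

open Groth.Agent.Lib.helper12.PnLocal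

variable (n : ℕ) (Y : Scheme.{u})

theorem isIso_app_pr (V : Y.Opens) (hV : IsAffineOpen V) : IsIso ((KRR.pr n Y).app V) := by
  have h := congrArg Scheme.Hom.appTop (theta_hom_toSpec n V hV)
  rw [Scheme.Hom.comp_appTop, Scheme.Hom.comp_appTop] at h
  haveI i1 : IsIso (toSpecP n Γ(Y, V)).appTop := isIso_appTop_toSpec n Γ(Y, V)
  haveI i2 : IsIso (theta n V hV).hom.appTop :=
    inferInstanceAs (IsIso ((theta n V hV).hom.app ⊤))
  haveI i3 : IsIso hV.isoSpec.hom.appTop :=
    inferInstanceAs (IsIso (hV.isoSpec.hom.app ⊤))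
  haveI h1 : IsIso (hV.isoSpec.hom.appTop ≫ (pr2 n Y ∣_ V).appTop) := by
    rw [← h]; exact IsIso.comp_isIso
  have h2 : IsIso (pr2 n Y ∣_ V).appTop := IsIso.of_isIso_comp_left hV.isoSpec.hom.appTop _
  haveI h2' : IsIso ((pr2 n Y).app (V.ι ''ᵁ ⊤) ≫ (CohB1.ProjSpaceOver n Y).presheaf.map
      (eqToHom (image_morphismRestrict_preimage (pr2 n Y) V ⊤)).op) := by
    rw [← morphismRestrict_appTop]; exact h2
  have h3 : IsIso ((pr2 n Y).app (V.ι ''ᵁ ⊤)) := IsIso.of_isIso_comp_right _
    ((CohB1.ProjSpaceOver n Y).presheaf.map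
      (eqToHom (image_morphismRestrict_preimage (pr2 n Y) V ⊤)).op)
  have key : ∀ W : Y.Opens, W = V → IsIso ((pr2 n Y).app W) → IsIso ((pr2 n Y).app V) := by
    rintro W rfl hW; exact hW
  exact key _ (by simp) h3

/-- `p_* O_P ≅ O_Y` -/
theorem isIso_unitToPush_pr :
    IsIso (Groth.Agent.Lib.helper11.InvPullback.unitToPush (KRR.pr n Y)) := by
  rw [Groth.Agent.Lib.helper8.ClosedImmUnit.isIso_iff_bijective_app_affine]
  intro V hV
  haveI := isIso_app_pr n Y V hV
  exact (ConcreteCategory.isIso_iff_bijective ((KRR.pr n Y).app V)).mp inferInstance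

theorem nonempty_push_structureModule_iso :
    Nonempty ((Scheme.Modules.pushforward (KRR.pr n Y)).obj (Coh.structureModule (KRR.PY n Y)) ≅
      Coh.structureModule Y) := by
  haveI := isIso_unitToPush_pr n Y
  exact ⟨(asIso (Groth.Agent.Lib.helper11.InvPullback.unitToPush (KRR.pr n Y))).symm⟩

open Groth.Agent.Lib.Helper20.RelReg Groth.Agent.Lib.Helper20.RegRing in
/-- `O_P` is regular relative to `p : P^n_Y ⟶ Y` -/
theorem isRegSheaf_structureModule :
    KRR.IsRegSheaf n Y (Coh.structureModule (KRR.PY n Y)) := by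
  haveI : (Coh.structureModule (KRR.PY n Y)).IsQuasicoherent := inferInstance
  refine (isRegSheaf_iff n Y _).2 fun V hV => ?_
  haveI : IsIso (Groth.Agent.Lib.helper11.InvPullback.unitToPush (theta n V hV).hom) :=
    Groth.Agent.Lib.helper11.PullUnit.isIso_unitToPush (theta n V hV).hom (fun U => by
      haveI : IsIso ((theta n V hV).hom.app U) := inferInstance
      exact (ConcreteCategory.isIso_iff_bijective ((theta n V hV).hom.app U)).mp inferInstance)
  let e : GV n V hV (Coh.structureModule (KRR.PY n Y)) ≅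
      Coh.structureModule (CohB1.ProjSpace n Γ(Y, V)) :=
    (Scheme.Modules.pushforward (theta n V hV).hom).mapIso
        (Scheme.Modules.restrictUnitIso (KRR.pr n Y ⁻¹ᵁ V).ι) ≪≫
      (asIso (Groth.Agent.Lib.helper11.InvPullback.unitToPush (theta n V hV).hom)).symm
  refine isReg_of_iso e.symm ?_
  intro i hi
  have h1 := Groth.Agent.S0844.result Γ(Y, V) n ((0 : ℤ) - i) i (by omega) (by omega)
  exact Groth.Agent.Lib.Helper20.TwistEquivPn.subsingleton_of_iso
    (Groth.Agent.Lib.Lead.ModTensor.leftUnitor _).symm i h1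

end Base

end Groth.Agent.Lib.Helper20.PushOPn
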