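import Mathlib
import Groth.Agent.Lib.Helper20.KosCone

/-!
# The last differential of the Koszul complex (helper20)

`ZeroData G m H`: identification of the degree-zero terms of `H = kos G m` with `G.M (a + m)`,
compatible with the remaining operators, and a factorisation of the last differential
`d^{-1,0}` as `∑ j < m, π j ≫ G.x j b`.
-/

set_option autoImplicit false
universe v u

open CategoryTheory CategoryTheory.Limits CochainComplex

namespace Groth.Agent.Lib.helper20.KosCone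

noncomputable section

variable {𝒜 : Type u} [Category.{v} 𝒜] [Preadditive 𝒜] [HasBinaryBiproducts 𝒜]
  [HasZeroObject 𝒜]

lemma x_eqToHom (G : GrOp 𝒜) {j j' : ℕ} {a c : ℤ} (hj : j = j') (hac : a = c) :
    G.x j a ≫ eqToHom (by rw [hac]) = eqToHom (by rw [hac]) ≫ G.x j' c := by
  subst hj hac
  simp

structure ZeroData (G : GrOp 𝒜) (m : ℕ) (H : GrOp (CochainComplex 𝒜 ℤ)) where
  θ : ∀ a c : ℤ, c = a + m → ((H.M a).X 0 ≅ G.M c)
  compat : ∀ (j j' : ℕ) (a c : ℤ) (_ : j' = j + m) (hc : c = a + m),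
    (H.x j a).f 0 ≫ (θ (a + 1) (c + 1) (by omega)).hom = (θ a c hc).hom ≫ G.x j' c
  posZero : ∀ (a i : ℤ), 0 < i → IsZero ((H.M a).X i)
  π : ∀ (a b : ℤ), b + 1 = a + m → Fin m → ((H.M a).X (-1) ⟶ G.M b)
  dπ : ∀ (a b : ℤ) (h : b + 1 = a + m),
    (H.M a).d (-1) 0 ≫ (θ a (b + 1) h).hom = ∑ j : Fin m, π a b h j ≫ G.x j b

/-- the degree-zero term of a complex concentrated in degree zero -/
def ofXIso (G : GrOp 𝒜) (a c : ℤ) (hc : c = a + ((0 : ℕ) : ℤ)) : ((of G).M a).X 0 ≅ G.M c :=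
  HomologicalComplex.singleObjXSelf (ComplexShape.up ℤ) 0 (G.M a) ≪≫
    eqToIso (by rw [hc]; simp)

lemma ofXIso_compat (G : GrOp 𝒜) (j j' : ℕ) (a c : ℤ) (hj : j' = j + 0)
    (hc : c = a + ((0 : ℕ) : ℤ)) :
    ((of G).x j a).f 0 ≫ (ofXIso G (a + 1) (c + 1) (by omega)).hom =
      (ofXIso G a c hc).hom ≫ G.x j' c := by
  have hj' : j = j' := by omega
  have hac : a = c := by rw [hc]; simp
  have h1 : ((of G).x j a).f 0 =
      (HomologicalComplex.singleObjXSelf (ComplexShape.up ℤ) 0 (G.M a)).hom ≫ G.x j a ≫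
        (HomologicalComplex.singleObjXSelf (ComplexShape.up ℤ) 0 (G.M (a + 1))).inv :=
    HomologicalComplex.single_map_f_self _ _ _
  change _ ≫ ((HomologicalComplex.singleObjXSelf (ComplexShape.up ℤ) 0 (G.M (a + 1))).hom ≫
      eqToHom (by rw [hac])) =
    ((HomologicalComplex.singleObjXSelf (ComplexShape.up ℤ) 0 (G.M a)).hom ≫
      eqToHom (by rw [hac])) ≫ G.x j' c
  rw [h1]
  simp only [Category.assoc, Iso.inv_hom_id_assoc]
  congr 1
  exact x_eqToHom G hj' hac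

/-- base case -/
def zeroDataOf (G : GrOp 𝒜) : ZeroData G 0 (of G) where
  θ a c hc := ofXIso G a c hc
  compat j j' a c hj hc := ofXIso_compat G j j' a c hj hc
  posZero a i hi :=
    HomologicalComplex.isZero_single_obj_X (ComplexShape.up ℤ) 0 (G.M a) i (by omega)
  π a b h j := j.elim0
  dπ a b h := by
    have hz : IsZero (((of G).M a).X (-1)) :=
      HomologicalComplex.isZero_single_obj_X (ComplexShape.up ℤ) 0 (G.M a) (-1) (by omega)
    rw [Finset.univ_eq_empty, Finset.sum_empty]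
    exact hz.eq_of_src _ _

variable {G : GrOp 𝒜} {m : ℕ} {H : GrOp (CochainComplex 𝒜 ℤ)}

/-- the second projection is an isomorphism in degree zero -/
def sndIso (Z : ZeroData G m H) (a : ℤ) :
    ((step H).M a).X 0 ≅ (H.M (a + 1)).X 0 where
  hom := (mappingCone.snd (H.x 0 a)).v 0 0 (add_zero 0)
  inv := (mappingCone.inr (H.x 0 a)).f 0
  hom_inv_id := by
    have h := mappingCone.id_X (H.x 0 a) 0 1 rfl
    have hz : (mappingCone.fst (H.x 0 a)).1.v 0 1 rfl = 0 :=
      (Z.posZero a 1 (by norm_num)).eq_of_tgt _ _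
    rw [hz, zero_comp, zero_add] at h
    exact h
  inv_hom_id := mappingCone.inr_f_snd_v _ _

lemma map_f_snd {K₁ L₁ K₂ L₂ : CochainComplex 𝒜 ℤ} (φ₁ : K₁ ⟶ L₁) (φ₂ : K₂ ⟶ L₂)
    (a : K₁ ⟶ K₂) (b : L₁ ⟶ L₂) (comm : φ₁ ≫ b = a ≫ φ₂) (i : ℤ) :
    (mappingCone.map φ₁ φ₂ a b comm).f i ≫ (mappingCone.snd φ₂).v i i (add_zero i) =
      (mappingCone.snd φ₁).v i i (add_zero i) ≫ b.f i := by
  rw [mappingCone.ext_from_iff _ (i + 1) i rfl]
  constructor
  · simp [mappingCone.map]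
  · simp [mappingCone.map]

/-- the identification in the inductive step -/
def stepθ (Z : ZeroData G m H) (a c : ℤ) (hc : c = a + ((m + 1 : ℕ) : ℤ)) :
    ((step H).M a).X 0 ≅ G.M c :=
  sndIso Z a ≪≫ Z.θ (a + 1) c (by omega)

/-- the components in the inductive step -/
def stepπ (Z : ZeroData G m H) (a b : ℤ) (h : b + 1 = a + ((m + 1 : ℕ) : ℤ)) :
    Fin (m + 1) → (((step H).M a).X (-1) ⟶ G.M b) :=
  Fin.lastCases
    ((mappingCone.fst (H.x 0 a)).1.v (-1) 0 (by norm_num) ≫ (Z.θ a b (by omega)).hom)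
    (fun j => (mappingCone.snd (H.x 0 a)).v (-1) (-1) (add_zero _) ≫
      Z.π (a + 1) b (by omega) j)

lemma stepθ_compat (Z : ZeroData G m H) (j j' : ℕ) (a c : ℤ) (hj : j' = j + (m + 1))
    (hc : c = a + ((m + 1 : ℕ) : ℤ)) :
    ((step H).x j a).f 0 ≫ (stepθ Z (a + 1) (c + 1) (by omega)).hom =
      (stepθ Z a c hc).hom ≫ G.x j' c := by
  change (mappingCone.map (H.x 0 a) (H.x 0 (a + 1)) (H.x (j + 1) a) (H.x (j + 1) (a + 1))
    (H.comm 0 (j + 1) a)).f 0 ≫ (mappingCone.snd (H.x 0 (a + 1))).v 0 0 (add_zero 0) ≫ _ =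
    ((mappingCone.snd (H.x 0 a)).v 0 0 (add_zero 0) ≫ _) ≫ _
  rw [← Category.assoc, map_f_snd, Category.assoc, Category.assoc]
  congr 1
  exact Z.compat (j + 1) j' (a + 1) c (by omega) (by omega)

lemma stepθ_dπ (Z : ZeroData G m H) (a b : ℤ) (h : b + 1 = a + ((m + 1 : ℕ) : ℤ)) :
    ((step H).M a).d (-1) 0 ≫ (stepθ Z a (b + 1) h).hom =
      ∑ j : Fin (m + 1), stepπ Z a b h j ≫ G.x j b := by
  change (mappingCone (H.x 0 a)).d (-1) 0 ≫
    (mappingCone.snd (H.x 0 a)).v 0 0 (add_zero 0) ≫ _ = _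
  rw [← Category.assoc, mappingCone.d_snd_v _ (-1) 0 (by norm_num), Preadditive.add_comp,
    Category.assoc, Category.assoc]
  rw [Z.compat 0 m a b (by omega) (by omega), Z.dπ (a + 1) b (by omega)]
  refine Eq.trans ?_ (Fin.sum_univ_castSucc _).symm
  refine (add_comm _ _).trans ?_
  congr 1
  · rw [Preadditive.comp_sum]
    refine Finset.sum_congr rfl fun j _ => ?_
    unfold stepπ
    rw [Fin.lastCases_castSucc]
    exact (Category.assoc _ _ _).symm
  · unfold stepπ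
    rw [Fin.lastCases_last]
    exact (Category.assoc _ _ _).symm

/-- inductive step -/
def zeroDataStep (Z : ZeroData G m H) : ZeroData G (m + 1) (step H) where
  θ := stepθ Z
  compat := stepθ_compat Z
  posZero a i hi := by
    refine IsZero.of_iso ?_ (stepXIso H a i)
    rw [biprod_isZero_iff]
    exact ⟨Z.posZero a (i + 1) (by omega), Z.posZero (a + 1) i hi⟩
  π := stepπ Z
  dπ := stepθ_dπ Z

/-- the data for the Koszul complexes -/
def zeroDataKos (G : GrOp 𝒜) : ∀ m : ℕ, ZeroData G m (kos G m)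
  | 0 => zeroDataOf G
  | m + 1 => zeroDataStep (zeroDataKos G m)

end

end Groth.Agent.Lib.helper20.KosCone
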