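import Mathlib
import Groth.Agent.Lib.Helper20.KosPn
import Groth.Agent.Lib.Helper20.KosChase
import Groth.Agent.Lib.Helper20.KosLast
import Groth.Agent.Lib.Helper18.HHZero
import Groth.Agent.Lib.Helper20.TwistEquivPn

/-!
# Surjectivity of the multiplication maps from the Koszul complex (helper20)

`exists_sum_x`: if `H^p(F ⊗ O(b - p)) = 0` for all `p ≥ 1`, every global section of `F ⊗ O(b+1)` is
`∑ j, x_j · u_j` with `u_j` global sections of `F ⊗ O(b)`.
-/

set_option autoImplicit false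
universe u

open CategoryTheory CategoryTheory.Limits AlgebraicGeometry Opposite TopologicalSpace

namespace Groth.Agent.Lib.helper20.KosSurj

open Groth.Agent.Lib.helper20.KosCone Groth.Agent.Lib.helper20.KosPn
  Groth.Agent.Lib.helper20.KosChase Groth.Agent.Lib.Helper18.HH

noncomputable section

variable (n : ℕ) (k : Type u) [CommRing k]

theorem exists_sum_x (F : (CohB1.ProjSpace n k).Modules) (b : ℤ)
    (hv : ∀ p : ℕ, 1 ≤ p → Subsingleton (Coh.HH (CohB1.ProjSpace n k)
      (CohB1.tensorMod F (Twist.twistProjSpace n k (b - p))) p))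
    (τ : (CohB1.tensorMod F (Twist.twistProjSpace n k (b + 1))).val.obj (op ⊤)) :
    ∃ u : Fin (n + 1) → (CohB1.tensorMod F (Twist.twistProjSpace n k b)).val.obj (op ⊤),
      τ = ∑ j : Fin (n + 1), (((grOp n k F).x j b).val.app (op ⊤)).hom (u j) := by
  let G := grOp n k F
  let a : ℤ := b + 1 - ((n + 1 : ℕ) : ℤ)
  have ha : b + 1 = a + ((n + 1 : ℕ) : ℤ) := by simp only [a]; ring
  let K := (kos G (n + 1)).M a
  let Z := zeroDataKos G (n + 1)
  have hex : ∀ q, K.ExactAt q := fun q => kos_exactAt n k F a q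
  have hN : ∀ q : ℤ, q < -((n + 1 : ℕ) : ℤ) → IsZero (K.X q) := fun q hq' =>
    kos_isZero G (n + 1) a q (Or.inr (by omega))
  have h1 : IsZero (K.X 1) := kos_isZero G (n + 1) a 1 (Or.inl (by norm_num))
  have hsurj := surjective_HH_d K hex _ hN h1 (fun r p hr hp => by
    have hp1 : 1 ≤ p := by omega
    refine kos_prop G (fun Y => Subsingleton (Coh.HH (CohB1.ProjSpace n k) Y p))
      (fun e hX => subsingleton_HH_of_iso e p hX)
      (fun Y hY => subsingleton_HH_of_isZero hY p)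
      (fun Y Z hY hZ => subsingleton_HH_biprod Y Z p hY hZ) (n + 1) a r (b - p) ?_ (hv p hp1)
    simp only [a]
    push_cast
    omega)
  -- the section as a cohomology class
  let θ := Z.θ a (b + 1) ha
  let y : Coh.HH (CohB1.ProjSpace n k) (K.X 0) 0 :=
    Groth.Agent.Lib.Helper18.HH.map θ.inv 0 ((equiv₀ (G.M (b + 1))).symm τ)
  obtain ⟨w, hw⟩ := hsurj y
  refine ⟨fun j => equiv₀ (G.M b) (Groth.Agent.Lib.Helper18.HH.map (Z.π a b ha j) 0 w), ?_⟩
  have h2 : Groth.Agent.Lib.Helper18.HH.map (K.d (-1) 0 ≫ θ.hom) 0 w =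
      (equiv₀ (G.M (b + 1))).symm τ := by
    rw [map_comp_apply, hw]
    simp only [y]
    rw [← map_comp_apply, Iso.inv_hom_id, Groth.Agent.Lib.Helper18.HH.map_id]
    rfl
  have h3 : K.d (-1) 0 ≫ θ.hom = ∑ j : Fin (n + 1), Z.π a b ha j ≫ G.x j b := Z.dπ a b ha
  rw [h3, map_sum, LinearMap.sum_apply] at h2
  have h4 : τ = equiv₀ (G.M (b + 1))
      (∑ d, (Groth.Agent.Lib.Helper18.HH.map (Z.π a b ha d ≫ G.x (↑d) b) 0) w) := by
    rw [h2]
    exact (LinearEquiv.apply_symm_apply _ τ).symm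
  rw [h4, _root_.map_sum]
  refine Finset.sum_congr rfl fun j _ => ?_
  rw [map_comp_apply, equiv₀_naturality]

section Range

open Groth.Agent.Lib.helper12.TensorRestrict Groth.Agent.Lib.helper12.TensorSec
  Groth.Agent.Lib.helper12.PullTensor Groth.Agent.Lib.Lead.ModTensor MonoidalCategory

variable {X : Scheme.{u}}

/-- the canonical map from the sections of the sectionwise tensor product to those of the tensor
product -/
def T (A B : X.Modules) :
    (CohB1.tensorPre A B : X.PresheafOfModules).obj (op ⊤) →+ (CohB1.tensorMod A B).val.obj (op ⊤) :=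
  ((toSheafify (CohB1.tensorPre A B : X.PresheafOfModules)).app (op ⊤)).hom.toAddMonoidHom

lemma tmul_mem_range (A B : X.Modules) (s : A.val.obj (op ⊤)) (t : B.val.obj (op ⊤)) :
    SecTwist.tmul A B ⊤ s t ∈ (T A B).range :=
  ⟨(s ⊗ₜ t : ↥((CohB1.tensorPre A B).obj (op ⊤))), rfl⟩

lemma tensorMap_mem_range {A A' B B' : X.Modules} (f : A ⟶ A') (g : B ⟶ B')
    (τ : (CohB1.tensorMod A B).val.obj (op ⊤)) (h : τ ∈ (T A B).range) :
    ((tensorMap f g).val.app (op ⊤)).hom τ ∈ (T A' B').range := by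
  obtain ⟨z, rfl⟩ := h
  refine ⟨((((V X).map f ⊗ₘ (V X).map g) : (CohB1.tensorPre A B : X.PresheafOfModules) ⟶
    (CohB1.tensorPre A' B' : X.PresheafOfModules)).app (op ⊤)).hom z, ?_⟩
  exact (sheafifyMap_toSheafify_apply _ ⊤ z).symm

end Range

section Pn

open Groth.Agent.Lib.helper12.TensorRestrict Groth.Agent.Lib.helper12.TensorSec
  Groth.Agent.Lib.helper12.PullTensor Groth.Agent.Lib.Lead.ModTensor
  Groth.Agent.Lib.helper28

/-- the case `e = 0`: every section of `F ⊗ O(0)` is a pure tensor -/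
lemma mem_range_T_zero (F : (CohB1.ProjSpace n k).Modules)
    (τ : (CohB1.tensorMod F (Twist.twistProjSpace n k 0)).val.obj (op ⊤)) :
    τ ∈ (T F (Twist.twistProjSpace n k 0)).range := by
  let e₀ : F ≅ CohB1.tensorMod F (Twist.twistProjSpace n k 0) :=
    (SecTwist.unitorR F).symm ≪≫ tensorIso (Iso.refl F) (TwistPn.zeroIso n k)
  have h1 : τ = (e₀.hom.val.app (op ⊤)).hom ((e₀.inv.val.app (op ⊤)).hom τ) :=
    (iso_hom_inv_apply e₀ ⊤ τ).symm
  rw [h1]
  set s := (e₀.inv.val.app (op ⊤)).hom τ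
  have h2 : (e₀.hom.val.app (op ⊤)).hom s =
      ((tensorMap (𝟙 F) (TwistPn.zeroIso n k).hom).val.app (op ⊤)).hom
        (((SecTwist.unitorR F).inv.val.app (op ⊤)).hom s) := rfl
  rw [h2, unitorR_inv_apply]
  exact tensorMap_mem_range _ _ _ (tmul_mem_range _ _ _ _)

/-- every global section of `F ⊗ O(e)` comes from `Γ(F) ⊗ Γ(O(e))`, given the regularity
vanishing -/
theorem mem_range_T (F : (CohB1.ProjSpace n k).Modules) :
    ∀ (e : ℕ), (∀ e' : ℕ, e' < e → ∀ p : ℕ, 1 ≤ p → Subsingleton (Coh.HH (CohB1.ProjSpace n k)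
      (CohB1.tensorMod F (Twist.twistProjSpace n k ((e' : ℤ) - p))) p)) →
    ∀ τ : (CohB1.tensorMod F (Twist.twistProjSpace n k (e : ℤ))).val.obj (op ⊤),
      τ ∈ (T F (Twist.twistProjSpace n k (e : ℤ))).range := by
  intro e
  induction e with
  | zero =>
    intro _ τ
    exact mem_range_T_zero n k F τ
  | succ e ih =>
    intro hv τ
    obtain ⟨u, hu⟩ := exists_sum_x n k F (e : ℤ) (hv e (Nat.lt_succ_self e)) τ
    have hu' : τ = ∑ j : Fin (n + 1),
        ((tensorMap (𝟙 F) (mulX n k j (e : ℤ))).val.app (op ⊤)).hom (u j) := hu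
    rw [hu']
    refine AddSubgroup.sum_mem _ fun j _ => ?_
    exact tensorMap_mem_range (𝟙 F) (mulX n k j (e : ℤ)) (u j)
      (ih (fun e' he' => hv e' (Nat.lt_succ_of_lt he')) (u j))

end Pn

end

end Groth.Agent.Lib.helper20.KosSurj
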