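import Mathlib
import Groth.Agent.Lib.Helper20.KosSurj
import Groth.Agent.Lib.Helper20.SplitH1
import Groth.Agent.Lib.Helper11.SerreGG
import Groth.Agent.Lib.Helper12.AmpleQAff

/-!
# Descent of global generation along a twist (helper20)

If every global section of `M ⊗ L` comes from `Γ(M) ⊗ Γ(L)` (`L` invertible) and `M ⊗ L` is globally
generated, then `M` is globally generated.
-/

set_option autoImplicit false
universe u

open CategoryTheory CategoryTheory.Limits AlgebraicGeometry Opposite TopologicalSpace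

namespace Groth.Agent.Lib.helper20.GGDescent

open Groth.Agent.Lib.helper20.KosSurj Groth.Agent.Lib.Helper20.SplitH1
  Groth.Agent.Lib.helper11.SerreGG Groth.Agent.Lib.Lead.ModTensor
  Groth.Agent.Lib.Helper20.TensorEquiv Groth.Agent.Lib.helper12.TwistExtend
  Groth.Agent.Lib.helper12.AmpleBasis MonoidalCategory

variable {X : Scheme.{u}}

/-- the evaluation map from the free module on all global sections -/
noncomputable def ev (M : X.Modules) : (SheafOfModules.free (M.val.obj (op ⊤)) : X.Modules) ⟶ M :=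
  canonBy M (fun s : M.val.obj (op ⊤) => s)

/-- a global section is in the image of the evaluation map -/
lemma app_cokernel_ev (M : X.Modules) (s : M.val.obj (op ⊤)) :
    ((cokernel.π (ev M)).val.app (op ⊤)).hom s = 0 := by
  have hcond : ev M ≫ cokernel.π (ev M) = 0 := cokernel.condition _
  have h2 : SecTwist.val (homOfSec M s) ⊤ = s := by
    rw [val_homOfSec]
    exact Groth.Agent.Lib.helper12.AmpleQAff.res_self M ⊤ s
  have h1 : SheafOfModules.ιFree s ≫ ev M = homOfSec M s :=
    ιFree_canonBy M (fun s : M.val.obj (op ⊤) => s) s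
  have key : (homOfSec M s ≫ cokernel.π (ev M) :
      (Coh.structureModule X : X.Modules) ⟶ cokernel (ev M)) = 0 :=
    (congrArg (· ≫ cokernel.π (ev M)) h1.symm).trans ((Category.assoc _ _ _).trans
      ((congrArg (SheafOfModules.ιFree s ≫ ·) hcond).trans comp_zero))
  have h3 := congrArg (fun φ : (Coh.structureModule X : X.Modules) ⟶ cokernel (ev M) =>
    (φ.val.app (op ⊤)).hom (1 : X.ringCatSheaf.obj.obj (op ⊤))) key
  have h4 : ((cokernel.π (ev M)).val.app (op ⊤)).hom (SecTwist.val (homOfSec M s) ⊤) = 0 := h3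
  rw [h2] at h4
  exact h4

open Groth.Agent.Lib.helper12.TensorSec Groth.Agent.Lib.helper12.TensorRestrict in
/-- tensoring the projection to the cokernel of `ev` kills the image of `Γ(M) ⊗ Γ(L)` -/
lemma tensorMap_cokernel_T (M L : X.Modules) (τ : (CohB1.tensorMod M L).val.obj (op ⊤))
    (h : τ ∈ (T M L).range) :
    ((tensorMap (cokernel.π (ev M)) (𝟙 L)).val.app (op ⊤)).hom τ = 0 := by
  obtain ⟨z, rfl⟩ := h
  have h1 : ((tensorMap (cokernel.π (ev M)) (𝟙 L)).val.app (op ⊤)).hom (T M L z) =
      T (cokernel (ev M)) L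
        (((((V X).map (cokernel.π (ev M)) ⊗ₘ (V X).map (𝟙 L)) :
          (CohB1.tensorPre M L : X.PresheafOfModules) ⟶
            (CohB1.tensorPre (cokernel (ev M)) L : X.PresheafOfModules)).app (op ⊤)).hom z) :=
    sheafifyMap_toSheafify_apply _ ⊤ z
  rw [h1]
  have h2 : ((((V X).map (cokernel.π (ev M)) ⊗ₘ (V X).map (𝟙 L)) :
      (CohB1.tensorPre M L : X.PresheafOfModules) ⟶
        (CohB1.tensorPre (cokernel (ev M)) L : X.PresheafOfModules)).app (op ⊤)).hom = 0 := by
    apply TensorProduct.ext'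
    intro s ξ
    have hz : ((cokernel.π (ev M)).val.app (op ⊤)).hom s = 0 := app_cokernel_ev M s
    have h3 : (((((V X).map (cokernel.π (ev M)) ⊗ₘ (V X).map (𝟙 L)) :
        (CohB1.tensorPre M L : X.PresheafOfModules) ⟶
          (CohB1.tensorPre (cokernel (ev M)) L : X.PresheafOfModules)).app (op ⊤)).hom
        (s ⊗ₜ ξ) : ↥((CohB1.tensorPre (cokernel (ev M)) L).obj (op ⊤))) =
      ((((cokernel.π (ev M)).val.app (op ⊤)).hom s) ⊗ₜ ((((𝟙 L : L ⟶ L)).val.app (op ⊤)).hom ξ) :
        ↥((CohB1.tensorPre (cokernel (ev M)) L).obj (op ⊤))) := rfl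
    refine h3.trans ?_
    rw [hz]
    exact TensorProduct.zero_tmul _ _
  rw [h2]
  exact map_zero _

/-- an epimorphism killing a generating family of sections has zero target -/
lemma isZero_of_epi_of_gen {Fr N : X.Modules} (q : Fr ⟶ N) [Epi q] {ι' : Type*}
    (gen : ι' → ((Coh.structureModule X : X.Modules) ⟶ Fr))
    (hgen : ∀ a b : Fr ⟶ N, (∀ i, gen i ≫ a = gen i ≫ b) → a = b)
    (h : ∀ i, ((gen i ≫ q).val.app (op ⊤)).hom (1 : X.ringCatSheaf.obj.obj (op ⊤)) = 0) :
    IsZero N := by
  have hzero : q = 0 := by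
    apply hgen
    intro i
    apply hom_ext_top
    rw [h i, comp_zero]
    rfl
  exact IsZero.of_epi_eq_zero _ hzero

lemma free_hom_ext {N : X.Modules} {ι' : Type u}
    (a b : (SheafOfModules.free ι' : X.Modules) ⟶ N)
    (h : ∀ i, SheafOfModules.ιFree i ≫ a = SheafOfModules.ιFree i ≫ b) : a = b := by
  apply N.freeHomEquiv.injective
  funext i
  apply N.unitHomEquiv.symm.injective
  refine (SheafOfModules.unitHomEquiv_symm_freeHomEquiv_apply _ i).trans ?_
  exact (h i).trans (SheafOfModules.unitHomEquiv_symm_freeHomEquiv_apply _ i).symm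

/-- **Descent of global generation**: if `M ⊗ L` is globally generated, `L` is invertible and every
global section of `M ⊗ L` comes from `Γ(M) ⊗ Γ(L)`, then `M` is globally generated. -/
theorem gg_of_gg_twist (M L L' : X.Modules)
    (e : CohB1.tensorMod L L' ≅ Coh.structureModule X)
    (hT : ∀ τ : (CohB1.tensorMod M L).val.obj (op ⊤), τ ∈ (T M L).range)
    (hgg : Curv2.IsGloballyGenerated (CohB1.tensorMod M L)) : Curv2.IsGloballyGenerated M := by
  obtain ⟨ι', p', hp'⟩ := hgg
  refine ⟨M.val.obj (op ⊤), ev M, ?_⟩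
  have hπ : Epi (cokernel.π (ev M)) := coequalizer.π_epi
  have hepi1 : Epi (tensorMap (cokernel.π (ev M)) (𝟙 L)) :=
    @epi_tensorMap X L L' e _ _ (cokernel.π (ev M)) hπ
  have hepi : Epi (p' ≫ tensorMap (cokernel.π (ev M)) (𝟙 L)) :=
    @epi_comp _ _ _ _ _ p' hp' _ hepi1
  have hz : IsZero (CohB1.tensorMod (cokernel (ev M)) L) :=
    @isZero_of_epi_of_gen X _ _ (p' ≫ tensorMap (cokernel.π (ev M)) (𝟙 L)) hepi ι'
      (fun i => SheafOfModules.ιFree i) (fun a b h => free_hom_ext a b h) (fun i =>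
        tensorMap_cokernel_T M L
          (((SheafOfModules.ιFree i ≫ p' : (Coh.structureModule X : X.Modules) ⟶ _).val.app
            (op ⊤)).hom (1 : X.ringCatSheaf.obj.obj (op ⊤))) (hT _))
  have hequiv := isEquivalence_tensorRight e
  have hQ : IsZero (cokernel (ev M)) :=
    IsZero.of_full_of_faithful_of_isZero (tensorRight L) _ hz
  exact Abelian.epi_of_cokernel_π_eq_zero _ (hQ.eq_of_tgt _ _)

end Groth.Agent.Lib.helper20.GGDescent
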