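import Mathlib
import Groth.Agent.Lib.Helper18.ProjChart
import Groth.Agent.Lib.Helper21.UfdPic2
import Groth.Agent.Lib.Helper28.RestrictCover
import Groth.Agent.Lib.Helper28.TwistPn

/-!
# Invertible modules on `P^n_R`, `R` a UFD, are trivial on the standard charts (helper20)

`isTrivOn_chart`: for `R` a unique factorisation domain and `L` invertible on `P^n_R`, `L` is trivial on `D₊(X i)`
(the chart is `Spec` of a polynomial ring over `R`, a UFD; helper21's `UfdPic.picTrivial`).
-/

set_option autoImplicit false
universe u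
open AlgebraicGeometry CategoryTheory Opposite TopologicalSpace MvPolynomial

namespace Groth.Agent.Lib.helper20.PicPnChart

open Groth.Agent.Lib.helper11.InvMod

variable (n : ℕ) (R : Type u) [CommRing R] [IsDomain R] [UniqueFactorizationMonoid R]

theorem isTrivOn_chart (L : (CohB1.ProjSpace n R).Modules) (hL : PicF.IsInvertible L)
    (i : Fin (n + 1)) :
    IsTrivOn L (Proj.basicOpen (CohB1.polyGrading n R) (X i)) := by
  let B := HomogeneousLocalization.Away (CohB1.polyGrading n R)
    (X i : MvPolynomial (Fin (n + 1)) R)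
  let e : MvPolynomial (Groth.Agent.Lib.Helper18.ProjChart.Idx n i) R ≃+* B :=
    Groth.Agent.Lib.Helper18.ProjChart.chartEquiv n R i
  haveI : IsDomain B := e.symm.toMulEquiv.isDomain _
  haveI : UniqueFactorizationMonoid B := e.toMulEquiv.uniqueFactorizationMonoid inferInstance
  let j : Spec (CommRingCat.of B) ⟶ CohB1.ProjSpace n R :=
    Proj.awayι (CohB1.polyGrading n R) (X i) (Groth.Agent.Lib.Helper18.ProjChart.X_mem n R i)
      Nat.one_pos
  haveI : IsOpenImmersion j :=
    (inferInstance : IsOpenImmersion (Proj.awayι (CohB1.polyGrading n R) (X i)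
      (Groth.Agent.Lib.Helper18.ProjChart.X_mem n R i) Nat.one_pos))
  have h1 : PicF.IsInvertible (L.restrict j) := isInvertible_restrict j hL
  have h2 : PicF.IsInvertible ((L.restrict j).restrict (⊤ : (Spec (CommRingCat.of B)).Opens).ι) :=
    isInvertible_restrict _ h1
  have h3 := Groth.Agent.Lib.helper21.UfdPic.picTrivial B ⊤ _ h2
  have h4 : IsTrivOn (L.restrict j) ⊤ := h3
  obtain ⟨e'⟩ := isTrivOn_top_iff.mp h4
  refine Groth.Agent.Lib.helper28.RestrictCover.isTrivOn_of_restrict_iso j L e' _ ?_
  have := Proj.opensRange_awayι (CohB1.polyGrading n R) (X i)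
    (Groth.Agent.Lib.Helper18.ProjChart.X_mem n R i) Nat.one_pos
  exact congrArg (fun W : (CohB1.ProjSpace n R).Opens => (W : Set (CohB1.ProjSpace n R))) this

end Groth.Agent.Lib.helper20.PicPnChart
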