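import Mathlib

/-!
# Algebra for `Pic(P^n)`: divisors of monomials and Laurent monomials in the fraction field (helper20)

* `eq_unit_mul_pow_mul_pow`: in a cancellative commutative monoid with zero, a divisor of `p ^ m * q ^ m'`
  (`p`, `q` prime) is a unit times `p ^ s * q ^ t`.
* `exists_monomial_of_mul_eq`: in `R[X_σ]`, `R` a domain: `a * b = X i ^ m * X j ^ m'` gives
  `a = C c * X i ^ s * X j ^ t` with `c` a unit.
* `exps_eq_of_eq`: `C c * X i ^ a * X j ^ b * X k ^ d = C c' * X i ^ a' * X j ^ b' * X k ^ d'` (`i, j, k` distinct,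
  `c, c' ≠ 0`) forces equal exponents.
* `K σ R`, `ξ`, `κ`; `zpow_eq_zero_of_monomial_eq`: `κ c * ξ i ^ a * ξ j ^ b * ξ k ^ d = κ c'` (integer exponents)
  forces `a = b = d = 0`.
-/

set_option autoImplicit false
universe u
open MvPolynomial

namespace Groth.Agent.Lib.helper20.PicPnAlg

theorem eq_unit_mul_pow_mul_pow {α : Type*} [CommMonoidWithZero α] [IsCancelMulZero α] {p q : α} (hp : Prime p)
    (hq : Prime q) : ∀ (m m' : ℕ) (a b : α), a * b = p ^ m * q ^ m' →
      ∃ (u : αˣ) (s t : ℕ), a = u * p ^ s * q ^ t := by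
  intro m
  induction m with
  | zero =>
    intro m' a b hab
    rw [pow_zero, one_mul] at hab
    have hdvd : a ∣ q ^ m' := ⟨b, hab.symm⟩
    obtain ⟨t, -, hassoc⟩ := (dvd_prime_pow hq m').mp hdvd
    obtain ⟨u, hu⟩ := hassoc.symm
    exact ⟨u, 0, t, by rw [pow_zero, mul_one, ← hu, mul_comm]⟩
  | succ m ih =>
    intro m' a b hab
    have hpd : p ∣ a * b := ⟨p ^ m * q ^ m', by rw [hab, pow_succ', mul_assoc]⟩
    rcases hp.dvd_or_dvd hpd with ⟨a', rfl⟩ | ⟨b', rfl⟩
    · have h2 : a' * b = p ^ m * q ^ m' := by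
        apply mul_left_cancel₀ hp.ne_zero
        rw [← mul_assoc, hab, pow_succ', mul_assoc]
      obtain ⟨u, s, t, rfl⟩ := ih m' a' b h2
      exact ⟨u, s + 1, t, by rw [pow_succ']; ac_rfl⟩
    · have h2 : a * b' = p ^ m * q ^ m' := by
        apply mul_left_cancel₀ hp.ne_zero
        rw [mul_left_comm, hab, pow_succ', mul_assoc]
      exact ih m' a b' h2

variable {σ : Type*} {R : Type u} [CommRing R] [IsDomain R]

theorem exists_monomial_of_mul_eq (i j : σ) (m m' : ℕ) (a b : MvPolynomial σ R)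
    (hab : a * b = X i ^ m * X j ^ m') :
    ∃ (c : Rˣ) (s t : ℕ), a = C (c : R) * X i ^ s * X j ^ t := by
  obtain ⟨u, s, t, h⟩ := eq_unit_mul_pow_mul_pow (X_prime (R := R) (i := i))
    (X_prime (R := R) (i := j)) m m' a b hab
  obtain ⟨r, hr, hur⟩ := (isUnit_iff_eq_C_of_isReduced).mp u.isUnit
  exact ⟨hr.unit, s, t, by rw [h, hur]; rfl⟩

section theta

variable [DecidableEq σ]

/-- `X i ↦ T`, the other variables `↦ 1` -/
noncomputable def θ (i : σ) : MvPolynomial σ R →ₐ[R] Polynomial R :=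
  aeval (fun l => if l = i then Polynomial.X else 1)

lemma θ_X_self (i : σ) : θ (R := R) i (X i) = Polynomial.X := by simp [θ]

lemma θ_X_ne {i j : σ} (h : j ≠ i) : θ (R := R) i (X j) = 1 := by simp [θ, h]

lemma θ_C (i : σ) (c : R) : θ (R := R) i (C c) = Polynomial.C c := by simp [θ]

theorem exp_eq_of_eq {i j k : σ} (hij : i ≠ j) (hik : i ≠ k) {c c' : R} (hc : c ≠ 0)
    (hc' : c' ≠ 0) {a b d a' b' d' : ℕ}
    (h : C c * X i ^ a * X j ^ b * X k ^ d =
      (C c' * X i ^ a' * X j ^ b' * X k ^ d' : MvPolynomial σ R)) : a = a' := by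
  have h2 := congrArg (θ (R := R) i) h
  simp only [map_mul, map_pow, θ_X_self, θ_X_ne hij.symm, θ_X_ne hik.symm, θ_C, one_pow,
    mul_one] at h2
  have h3 := congrArg Polynomial.natDegree h2
  rwa [Polynomial.natDegree_C_mul_X_pow a c hc, Polynomial.natDegree_C_mul_X_pow a' c' hc'] at h3

end theta

variable (σ R) in
/-- the fraction field of the polynomial ring -/
abbrev K : Type _ := FractionRing (MvPolynomial σ R)

/-- the variables in `K` -/
noncomputable def ξ (i : σ) : K σ R := algebraMap (MvPolynomial σ R) (K σ R) (X i)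

/-- the constants in `K` -/
noncomputable def κ (c : R) : K σ R := algebraMap (MvPolynomial σ R) (K σ R) (C c)

lemma ξ_ne_zero (i : σ) : ξ (R := R) i ≠ 0 := by
  intro h
  have : (X i : MvPolynomial σ R) = 0 :=
    IsFractionRing.injective (MvPolynomial σ R) (K σ R) (h.trans (map_zero _).symm)
  exact X_ne_zero i this

lemma κ_ne_zero {c : R} (hc : c ≠ 0) : κ (σ := σ) c ≠ 0 := by
  intro h
  have : (C c : MvPolynomial σ R) = 0 :=
    IsFractionRing.injective (MvPolynomial σ R) (K σ R) (h.trans (map_zero _).symm)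
  exact hc (C_eq_zero.mp this)

lemma κ_mul (c c' : R) : κ (σ := σ) (c * c') = κ c * κ c' := by
  unfold κ
  rw [C_mul, map_mul]

lemma κ_one : κ (σ := σ) (1 : R) = 1 := by
  unfold κ
  rw [C_1, map_one]

lemma κ_unit_inv (c : Rˣ) : κ (σ := σ) ((c⁻¹ : Rˣ) : R) = (κ (c : R))⁻¹ := by
  have h : κ (σ := σ) ((c⁻¹ : Rˣ) : R) * κ (c : R) = 1 := by
    rw [← κ_mul, Units.inv_mul, κ_one]
  exact eq_inv_of_mul_eq_one_left h

lemma zpow_split (x : K σ R) (hx : x ≠ 0) (a : ℤ) : x ^ a = x ^ a.toNat / x ^ (-a).toNat := by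
  have h : a = (a.toNat : ℤ) - ((-a).toNat : ℤ) := (Int.toNat_sub_toNat_neg a).symm
  conv_lhs => rw [h]
  rw [zpow_sub₀ hx, zpow_natCast, zpow_natCast]

theorem zpow_eq_zero_of_monomial_eq [DecidableEq σ] {i j k : σ} (hij : i ≠ j) (hik : i ≠ k)
    {c c' : R} (hc : c ≠ 0) (hc' : c' ≠ 0) {a b d : ℤ}
    (h : κ c * ξ i ^ a * ξ j ^ b * ξ k ^ d = (κ c' : K σ R)) : a = 0 := by
  rw [zpow_split _ (ξ_ne_zero i) a, zpow_split _ (ξ_ne_zero j) b, zpow_split _ (ξ_ne_zero k) d] at h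
  have hi := pow_ne_zero (-a).toNat (ξ_ne_zero (R := R) i)
  have hj := pow_ne_zero (-b).toNat (ξ_ne_zero (R := R) j)
  have hk := pow_ne_zero (-d).toNat (ξ_ne_zero (R := R) k)
  have h2 : κ c * ξ i ^ a.toNat * ξ j ^ b.toNat * ξ k ^ d.toNat =
      (κ c' * ξ i ^ (-a).toNat * ξ j ^ (-b).toNat * ξ k ^ (-d).toNat : K σ R) := by
    field_simp at h
    linear_combination h
  have h3 : C c * X i ^ a.toNat * X j ^ b.toNat * X k ^ d.toNat =
      (C c' * X i ^ (-a).toNat * X j ^ (-b).toNat * X k ^ (-d).toNat : MvPolynomial σ R) := by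
    apply IsFractionRing.injective (MvPolynomial σ R) (K σ R)
    simp only [map_mul, map_pow]
    exact h2
  have h4 := exp_eq_of_eq hij hik hc hc' h3
  omega

end Groth.Agent.Lib.helper20.PicPnAlg
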