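import Mathlib
import Groth.Agent.Lib.Helper20.PicPnAlg
import Groth.Agent.Lib.Helper28.TwistFree
import Groth.Agent.Lib.Helper18.ProjChart

/-!
# Sections of `O` on `P^n_R` inside the fraction field of `R[X_0..X_n]` (helper20)

`R` a domain, `P = Proj R[X_0..X_n]`.  `η₀` is the generic point (the zero ideal), `γ V hV : Γ(P, V) →+* K` evaluates
a section at `η₀` (`K` the fraction field of the polynomial ring).
* `η₀_mem`: every nonempty open contains `η₀`; `γ_res`, `γ_injective`, `γ_fracSectO`, `γ_awayToSection`.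
* `γ_unit`: a unit of `Γ(P, D₊(X i X j))` has `γ = κ c * (ξ i / ξ j) ^ e`, `c` a unit of `R`.
-/

set_option autoImplicit false
set_option backward.isDefEq.respectTransparency false
set_option backward.isDefEq.respectTransparency.types false
universe u
open AlgebraicGeometry CategoryTheory Opposite TopologicalSpace MvPolynomial

namespace Groth.Agent.Lib.helper20.PicPnGamma

open Groth.Agent.Lib.helper20.PicPnAlg Groth.Agent.Lib.helper28.TwistFree

variable (n : ℕ) (R : Type u) [CommRing R] [IsDomain R]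

/-- the polynomial ring -/
abbrev S : Type u := MvPolynomial (Fin (n + 1)) R

/-- its fraction field -/
abbrev KK : Type u := K (Fin (n + 1)) R

/-- projective space as `Proj` -/
noncomputable abbrev P : Scheme.{u} := Proj (CohB1.polyGrading n R)

/-- homogeneous fractions with denominators in `T` inside the fraction field -/
noncomputable def toK (T : Submonoid (S n R)) (hT : T ≤ nonZeroDivisors (S n R)) :
    HomogeneousLocalization (CohB1.polyGrading n R) T →+* KK n R :=
  (IsLocalization.map (KK n R) (RingHom.id (S n R)) (M := T) (T := nonZeroDivisors (S n R))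
    (fun _ hx => hT hx)).comp
    (algebraMap (HomogeneousLocalization (CohB1.polyGrading n R) T) (Localization T))

lemma toK_mk (T : Submonoid (S n R)) (hT : T ≤ nonZeroDivisors (S n R))
    (x : HomogeneousLocalization.NumDenSameDeg (CohB1.polyGrading n R) T) :
    toK n R T hT (HomogeneousLocalization.mk x) =
      algebraMap (S n R) (KK n R) x.num / algebraMap (S n R) (KK n R) x.den := by
  unfold toK
  rw [RingHom.comp_apply, HomogeneousLocalization.algebraMap_apply, HomogeneousLocalization.val_mk,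
    Localization.mk_eq_mk', IsLocalization.map_mk', IsFractionRing.mk'_eq_div]
  rfl

/-- the generic point of `P^n_R` -/
noncomputable def η₀ : ProjectiveSpectrum (CohB1.polyGrading n R) where
  asHomogeneousIdeal := ⊥
  isPrime := by
    rw [HomogeneousIdeal.toIdeal_bot]
    exact Ideal.isPrime_bot
  not_irrelevant_le := by
    intro h
    have h0 : (X 0 : S n R) ∈ (HomogeneousIdeal.irrelevant (CohB1.polyGrading n R)).toIdeal :=
      HomogeneousIdeal.mem_irrelevant_of_mem _ one_pos (isHomogeneous_X R 0)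
    have h1 : (X 0 : S n R) ∈ ((⊥ : HomogeneousIdeal (CohB1.polyGrading n R))).toIdeal := h h0
    rw [HomogeneousIdeal.toIdeal_bot, Ideal.mem_bot] at h1
    exact X_ne_zero 0 h1

lemma notMem_η₀ {f : S n R} (hf : f ≠ 0) : f ∉ (η₀ n R).asHomogeneousIdeal := by
  intro h
  have h1 : f ∈ ((⊥ : HomogeneousIdeal (CohB1.polyGrading n R))).toIdeal := h
  rw [HomogeneousIdeal.toIdeal_bot, Ideal.mem_bot] at h1
  exact hf h1

lemma primeCompl_le : (η₀ n R).asHomogeneousIdeal.toIdeal.primeCompl ≤ nonZeroDivisors (S n R) := by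
  intro f hf
  apply mem_nonZeroDivisors_of_ne_zero
  rintro rfl
  exact hf (zero_mem _)

/-- every nonempty open contains the generic point -/
lemma η₀_mem {V : Opens (ProjectiveSpectrum.top (CohB1.polyGrading n R))}
    {x : ProjectiveSpectrum.top (CohB1.polyGrading n R)} (hx : x ∈ V) : η₀ n R ∈ V := by
  obtain ⟨_, ⟨r, rfl⟩, hxr, hrV⟩ :=
    (ProjectiveSpectrum.isTopologicalBasis_basic_opens (CohB1.polyGrading n R)).exists_subset_of_mem_open
      hx V.isOpen
  apply hrV
  have hr : r ∉ x.asHomogeneousIdeal := hxr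
  have hr0 : r ≠ 0 := by
    rintro rfl
    exact hr (zero_mem _)
  exact notMem_η₀ n R hr0

lemma η₀_mem_basicOpen {f : S n R} (hf : f ≠ 0) :
    η₀ n R ∈ ProjectiveSpectrum.basicOpen (CohB1.polyGrading n R) f :=
  notMem_η₀ n R hf

/-- evaluation of a section at the generic point -/
noncomputable def γ (V : Opens (ProjectiveSpectrum.top (CohB1.polyGrading n R)))
    (hV : η₀ n R ∈ V) : Twist.O (𝒜 := CohB1.polyGrading n R) (op V) →+* KK n R :=
  (toK n R _ (primeCompl_le n R)).comp
    { toFun := fun s => s.1 ⟨η₀ n R, hV⟩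
      map_one' := rfl
      map_mul' := fun _ _ => rfl
      map_zero' := rfl
      map_add' := fun _ _ => rfl }

lemma γ_apply (V : Opens (ProjectiveSpectrum.top (CohB1.polyGrading n R)))
    (hV : η₀ n R ∈ V) (c : Twist.O (𝒜 := CohB1.polyGrading n R) (op V)) :
    γ n R V hV c = toK n R _ (primeCompl_le n R) (c.1 ⟨η₀ n R, hV⟩) := rfl

lemma γ_fracSectO (V : Opens (ProjectiveSpectrum.top (CohB1.polyGrading n R)))
    (hV : η₀ n R ∈ V) {i : ℕ} (a b : CohB1.polyGrading n R i)
    (hW : ∀ x : V, b.1 ∉ x.1.asHomogeneousIdeal) :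
    γ n R V hV (fracSectO (CohB1.polyGrading n R) V a b hW) =
      algebraMap (S n R) (KK n R) a.1 / algebraMap (S n R) (KK n R) b.1 := by
  rw [γ_apply]
  exact toK_mk n R _ _ _

theorem γ_injective (V : Opens (ProjectiveSpectrum.top (CohB1.polyGrading n R)))
    (hV : η₀ n R ∈ V) : Function.Injective (γ n R V hV) := by
  rw [injective_iff_map_eq_zero]
  intro c hc
  refine O_ext' (CohB1.polyGrading n R) c 0 fun x => ?_
  obtain ⟨W, hxW, i, d, a, b, hb, hab⟩ := c.2 x
  have hηW : η₀ n R ∈ W := η₀_mem n R hxW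
  have h1 : c.1 ⟨η₀ n R, hV⟩ = HomogeneousLocalization.mk ⟨d, a, b, hb ⟨η₀ n R, hηW⟩⟩ :=
    hab ⟨η₀ n R, hηW⟩
  rw [γ_apply, h1, toK_mk] at hc
  have hb0 : algebraMap (S n R) (KK n R) b.1 ≠ 0 := by
    intro h0
    have : (b.1 : S n R) = 0 :=
      IsFractionRing.injective (S n R) (KK n R) (h0.trans (map_zero _).symm)
    exact hb ⟨η₀ n R, hηW⟩ (this ▸ zero_mem _)
  have ha0 : (a.1 : S n R) = 0 := by
    rcases div_eq_zero_iff.mp hc with h | h
    · exact IsFractionRing.injective (S n R) (KK n R) (h.trans (map_zero _).symm)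
    · exact (hb0 h).elim
  have h2 : c.1 x = HomogeneousLocalization.mk ⟨d, a, b, hb ⟨x.1, hxW⟩⟩ := hab ⟨x.1, hxW⟩
  have hz : ((0 : Twist.O (𝒜 := CohB1.polyGrading n R) (op V)).1 x) = 0 := rfl
  rw [h2, hz, HomogeneousLocalization.val_mk, HomogeneousLocalization.val_zero]
  simp only [ha0, Localization.mk_zero]

/-- `γ` on sections of the scheme `P` -/
noncomputable def γ' (V : (P n R).Opens) (hV : η₀ n R ∈ V) : Γ(P n R, V) →+* KK n R :=
  γ n R V hV

lemma γ'_injective (V : (P n R).Opens) (hV : η₀ n R ∈ V) : Function.Injective (γ' n R V hV) :=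
  γ_injective n R V hV

lemma γ'_res {V W : (P n R).Opens} (h : W ≤ V) (hW : η₀ n R ∈ W) (c : Γ(P n R, V)) :
    γ' n R W hW ((P n R).presheaf.map (homOfLE h).op c) = γ' n R V (h hW) c := rfl

lemma γ'_fracSectO (V : (P n R).Opens) (hV : η₀ n R ∈ V) {i : ℕ} (a b : CohB1.polyGrading n R i)
    (hW : ∀ x : V, b.1 ∉ x.1.asHomogeneousIdeal) :
    γ' n R V hV (show Γ(P n R, V) from fracSectO (CohB1.polyGrading n R) V a b hW) =
      algebraMap (S n R) (KK n R) a.1 / algebraMap (S n R) (KK n R) b.1 :=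
  γ_fracSectO n R V hV a b hW

lemma powers_le {f : S n R} (hf : f ≠ 0) : Submonoid.powers f ≤ nonZeroDivisors (S n R) := by
  rintro _ ⟨k, rfl⟩
  exact mem_nonZeroDivisors_of_ne_zero (pow_ne_zero k hf)

lemma γ'_awayToSection {f : S n R} (hf : f ≠ 0)
    (x : HomogeneousLocalization.Away (CohB1.polyGrading n R) f) :
    γ' n R (Proj.basicOpen (CohB1.polyGrading n R) f) (η₀_mem_basicOpen n R hf)
      ((Proj.awayToSection (CohB1.polyGrading n R) f).hom x) =
      toK n R (Submonoid.powers f) (powers_le n R hf) x := by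
  obtain ⟨y, rfl⟩ := HomogeneousLocalization.mk_surjective x
  rw [toK_mk]
  have hle : Submonoid.powers f ≤ (η₀ n R).asHomogeneousIdeal.toIdeal.primeCompl :=
    Submonoid.powers_le.mpr (notMem_η₀ n R hf)
  change toK n R _ (primeCompl_le n R) (HomogeneousLocalization.mapId (CohB1.polyGrading n R)
    hle (HomogeneousLocalization.mk y)) = _
  rw [HomogeneousLocalization.mapId, HomogeneousLocalization.map_mk, toK_mk]
  rfl

lemma XX_ne_zero (i j : Fin (n + 1)) : (X i * X j : S n R) ≠ 0 :=
  mul_ne_zero (X_ne_zero i) (X_ne_zero j)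

lemma XX_mem (i j : Fin (n + 1)) : (X i * X j : S n R) ∈ CohB1.polyGrading n R 2 :=
  (isHomogeneous_X R i).mul (isHomogeneous_X R j)

/-- units of `A_(X i X j)` are constants times powers of `X i / X j` -/
theorem toK_unit (i j : Fin (n + 1))
    (x x' : HomogeneousLocalization.Away (CohB1.polyGrading n R) (X i * X j : S n R))
    (hxx' : x * x' = 1) :
    ∃ (c : Rˣ) (e : ℤ), toK n R (Submonoid.powers (X i * X j : S n R))
      (powers_le n R (XX_ne_zero n R i j)) x = κ (c : R) * (ξ i / ξ j) ^ e := by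
  obtain ⟨k, a, ha, rfl⟩ := HomogeneousLocalization.Away.mk_surjective (CohB1.polyGrading n R)
    (XX_mem n R i j) x
  obtain ⟨l, b, hb, rfl⟩ := HomogeneousLocalization.Away.mk_surjective (CohB1.polyGrading n R)
    (XX_mem n R i j) x'
  -- `a * b = (X i X j)^(k+l)`
  have h1 := congrArg HomogeneousLocalization.val hxx'
  rw [HomogeneousLocalization.val_mul, HomogeneousLocalization.val_one,
    HomogeneousLocalization.Away.val_mk, HomogeneousLocalization.Away.val_mk,
    Localization.mk_mul, ← Localization.mk_one, Localization.mk_eq_mk_iff,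
    Localization.r_iff_exists] at h1
  obtain ⟨t, ht⟩ := h1
  have ht0 : (t : S n R) ≠ 0 := by
    obtain ⟨m, hm⟩ := t.2
    rw [← hm]
    exact pow_ne_zero m (XX_ne_zero n R i j)
  have hab : a * b = X i ^ (k + l) * X j ^ (k + l) := by
    have h2 := mul_left_cancel₀ ht0 ht
    simp only [OneMemClass.coe_one, one_mul, Submonoid.coe_mul, mul_one] at h2
    rw [h2, ← pow_add, mul_pow]
  obtain ⟨c, s, t', hact⟩ := exists_monomial_of_mul_eq i j (k + l) (k + l) a b hab
  have hc0 : ((c : R)) ≠ 0 := c.ne_zero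
  have ha0 : a ≠ 0 := by
    rw [hact]
    exact mul_ne_zero (mul_ne_zero (by simpa using hc0) (pow_ne_zero s (X_ne_zero i)))
      (pow_ne_zero t' (X_ne_zero j))
  have hdeg : k • 2 = 0 + s + t' := by
    have hh : IsHomogeneous (C (c : R) * X i ^ s * X j ^ t' : S n R) (0 + s + t') :=
      ((isHomogeneous_C _ (c : R)).mul (isHomogeneous_X_pow i s)).mul (isHomogeneous_X_pow j t')
    rw [← hact] at hh
    exact IsHomogeneous.inj_right ha hh ha0
  refine ⟨c, (s : ℤ) - k, ?_⟩
  have hval : toK n R (Submonoid.powers (X i * X j : S n R)) (powers_le n R (XX_ne_zero n R i j))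
      (HomogeneousLocalization.Away.mk (CohB1.polyGrading n R) (XX_mem n R i j) k a ha) =
      algebraMap (S n R) (KK n R) a / algebraMap (S n R) (KK n R) ((X i * X j) ^ k) :=
    toK_mk n R _ _ _
  rw [hval, hact]
  have hi := ξ_ne_zero (R := R) i
  have hj := ξ_ne_zero (R := R) j
  have hij : ξ (R := R) i / ξ j ≠ 0 := div_ne_zero hi hj
  have hpow : ξ (R := R) j ^ t' * ξ j ^ s = ξ j ^ k * ξ j ^ k := by
    rw [← pow_add, ← pow_add]
    congr 1
    simp only [smul_eq_mul] at hdeg
    omega
  simp only [map_mul, map_pow]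
  change κ (c : R) * ξ i ^ s * ξ j ^ t' / ((ξ i * ξ j) ^ k) = _
  rw [zpow_sub₀ hij, zpow_natCast, zpow_natCast, div_pow, div_pow, mul_pow]
  have hik := pow_ne_zero k hi
  have hjk := pow_ne_zero k hj
  have hjs := pow_ne_zero s hj
  field_simp
  linear_combination (κ (c : R)) * hpow

/-- units of `Γ(P, D₊(X i X j))` -/
theorem γ'_unit (i j : Fin (n + 1)) (V : (P n R).Opens)
    (hV : V = Proj.basicOpen (CohB1.polyGrading n R) (X i * X j : S n R)) (hη : η₀ n R ∈ V)
    (u u' : Γ(P n R, V)) (huu' : u * u' = 1) :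
    ∃ (c : Rˣ) (e : ℤ), γ' n R V hη u = κ (c : R) * (ξ i / ξ j) ^ e := by
  subst hV
  let iso := Proj.basicOpenIsoAway (CohB1.polyGrading n R) (X i * X j : S n R) (XX_mem n R i j)
    two_pos
  let x := iso.inv.hom u
  let x' := iso.inv.hom u'
  have hxx' : x * x' = 1 := by
    change iso.inv.hom u * iso.inv.hom u' = 1
    rw [← map_mul, huu', map_one]
  have hu : (Proj.awayToSection (CohB1.polyGrading n R) (X i * X j : S n R)).hom x = u := by
    change (iso.inv ≫ iso.hom).hom u = u
    rw [iso.inv_hom_id]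
    rfl
  obtain ⟨c, e, hce⟩ := toK_unit n R i j x x' hxx'
  refine ⟨c, e, ?_⟩
  rw [← hce, ← γ'_awayToSection n R (XX_ne_zero n R i j) x, hu]

end Groth.Agent.Lib.helper20.PicPnGamma
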