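import Mathlib
import Groth.Agent.Lib.Helper20.PicPnGamma
import Groth.Agent.Lib.Helper20.GlueIso
import Groth.Agent.Lib.Helper21.UfdPic2
import Groth.Agent.Lib.Helper28.TwistPn

/-!
# Standard generators of `O(e)` on the charts of `P^n_R` and their transition functions (helper20)
-/

set_option autoImplicit false
set_option backward.isDefEq.respectTransparency false
set_option backward.isDefEq.respectTransparency.types false
universe u
open AlgebraicGeometry CategoryTheory Opposite TopologicalSpace MvPolynomial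

namespace Groth.Agent.Lib.helper20.PicPnGen

open Groth.Agent.Lib.helper20.PicPnAlg Groth.Agent.Lib.helper20.PicPnGamma
  Groth.Agent.Lib.helper20.GlueIso Groth.Agent.Lib.helper28.TwistFree

variable (n : ℕ) (R : Type u) [CommRing R] [IsDomain R]

/-- the standard chart `D₊(X i)` -/
noncomputable abbrev UU (i : Fin (n + 1)) : (P n R).Opens :=
  Proj.basicOpen (CohB1.polyGrading n R) (X i : S n R)

lemma X_notMem {i : Fin (n + 1)} {V : (P n R).Opens} (hV : V ≤ UU n R i) (x : V) :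
    (X i : S n R) ∉ x.1.asHomogeneousIdeal :=
  (Proj.mem_basicOpen (CohB1.polyGrading n R) (X i : S n R) x.1).mp (hV x.2)

lemma X_pow_notMem {i : Fin (n + 1)} {V : (P n R).Opens} (hV : V ≤ UU n R i) (k : ℕ) (x : V) :
    (X i ^ k : S n R) ∉ x.1.asHomogeneousIdeal := fun h =>
  X_notMem n R hV x (x.1.isPrime.mem_of_pow_mem k h)

lemma one_notMem {V : (P n R).Opens} (x : V) : (1 : S n R) ∉ x.1.asHomogeneousIdeal := fun h =>
  x.1.isPrime.ne_top ((Ideal.eq_top_iff_one _).mpr h)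

lemma η₀_mem_UU (i : Fin (n + 1)) : η₀ n R ∈ UU n R i :=
  η₀_mem_basicOpen n R (X_ne_zero i)

lemma η₀_mem_inf (i j : Fin (n + 1)) : η₀ n R ∈ UU n R i ⊓ UU n R j :=
  ⟨η₀_mem_UU n R i, η₀_mem_UU n R j⟩

/-- constant sections -/
noncomputable def constSec (c : R) (V : (P n R).Opens) : Γ(P n R, V) :=
  fracSectO (CohB1.polyGrading n R) V ⟨C c, isHomogeneous_C _ c⟩ ⟨1, isHomogeneous_one _ _⟩
    (fun x => one_notMem n R x)

lemma γ'_constSec (c : R) (V : (P n R).Opens) (hV : η₀ n R ∈ V) :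
    γ' n R V hV (constSec n R c V) = κ c := by
  unfold constSec
  rw [γ'_fracSectO]
  simp only [map_one, div_one]
  rfl

lemma rr_constSec (c : R) {V W : (P n R).Opens} (h : W ≤ V) :
    rr h (constSec n R c V) = constSec n R c W := rfl

lemma constSec_mul_inv (c : Rˣ) (V : (P n R).Opens) (hV : η₀ n R ∈ V) :
    constSec n R (c : R) V * constSec n R ((c⁻¹ : Rˣ) : R) V = 1 := by
  apply γ'_injective n R V hV
  rw [map_mul, γ'_constSec, γ'_constSec, map_one, ← κ_mul, Units.mul_inv, κ_one]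

/-- constant unit sections -/
noncomputable def constUnit (c : Rˣ) (V : (P n R).Opens) (hV : η₀ n R ∈ V) : (Γ(P n R, V))ˣ :=
  Units.mkOfMulEqOne _ _ (constSec_mul_inv n R c V hV)

lemma constUnit_val (c : Rˣ) (V : (P n R).Opens) (hV : η₀ n R ∈ V) :
    ((constUnit n R c V hV : (Γ(P n R, V))ˣ) : Γ(P n R, V)) = constSec n R (c : R) V := rfl

/-- the twisting sheaf -/
noncomputable abbrev OO (e : ℤ) : (P n R).Modules := Twist.twist (CohB1.polyGrading n R) e

lemma hdeg (e : ℤ) : ((e.toNat : ℕ) : ℤ) = ((-e).toNat : ℕ) + e := by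
  have := Int.toNat_sub_toNat_neg e
  omega

/-- the standard generator `X i ^ e` of `O(e)` on an open inside `D₊(X i)` -/
noncomputable def tSec (e : ℤ) (i : Fin (n + 1)) (V : (P n R).Opens) (hV : V ≤ UU n R i) :
    Γ(OO n R e, V) :=
  fracSectN (CohB1.polyGrading n R) e V
    ⟨X i ^ e.toNat, isHomogeneous_X_pow i e.toNat⟩ ⟨X i ^ (-e).toNat, isHomogeneous_X_pow i (-e).toNat⟩
    (fun x => X_pow_notMem n R hV _ x) (hdeg e)

lemma ρ_tSec (e : ℤ) (i : Fin (n + 1)) {V W : (P n R).Opens} (hV : V ≤ UU n R i) (h : W ≤ V) :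
    ρ (OO n R e) h (tSec n R e i V hV) = tSec n R e i W (h.trans hV) := rfl

theorem isGenOn_tSec (e : ℤ) (i : Fin (n + 1)) :
    IsGenOn (OO n R e) (UU n R i) (tSec n R e i (UU n R i) le_rfl) := by
  obtain ⟨g, hg⟩ := Groth.Agent.Lib.helper21.UfdPic.exists_generator_of_isTrivOn (OO n R e) (UU n R i)
    (Groth.Agent.Lib.helper28.TwistPn.isTrivOn n R e i)
  have hg' : IsGenOn (OO n R e) (UU n R i) g := hg
  have hb : Function.Bijective (fun c : Γ(P n R, UU n R i) => c • tSec n R e i (UU n R i) le_rfl) :=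
    bijective_smul_fracSectN (CohB1.polyGrading n R) e one_pos
      (Groth.Agent.Lib.helper28.TwistPn.X_mem n R i) (UU n R i) rfl
      ⟨X i ^ e.toNat, isHomogeneous_X_pow i e.toNat⟩ ⟨X i ^ (-e).toNat, isHomogeneous_X_pow i (-e).toNat⟩
      (fun x => X_pow_notMem n R le_rfl _ x) (fun x => X_pow_notMem n R le_rfl _ x) (hdeg e)
  obtain ⟨a, ha⟩ := (hg' (UU n R i) le_rfl).2 (tSec n R e i (UU n R i) le_rfl)
  have ha : a • ρ (OO n R e) le_rfl g = tSec n R e i (UU n R i) le_rfl := ha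
  rw [ρ_self] at ha
  obtain ⟨b, hb'⟩ := hb.2 g
  have hb' : b • tSec n R e i (UU n R i) le_rfl = g := hb'
  have hba : b * a = 1 := by
    apply (hg' (UU n R i) le_rfl).1
    change (b * a) • ρ (OO n R e) le_rfl g = (1 : Γ(P n R, UU n R i)) • ρ (OO n R e) le_rfl g
    rw [ρ_self, mul_smul, ha, hb', one_smul]
  have := hg'.unit_smul (Units.mkOfMulEqOne a b (by rw [mul_comm]; exact hba))
  rw [← ha]
  exact this

/-- the transition function `(X i / X j) ^ e` -/
noncomputable def ηSec (e : ℤ) (i j : Fin (n + 1)) : Γ(P n R, UU n R i ⊓ UU n R j) :=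
  fracSectO (CohB1.polyGrading n R) (UU n R i ⊓ UU n R j)
    ⟨X i ^ e.toNat * X j ^ (-e).toNat,
      (isHomogeneous_X_pow i e.toNat).mul (isHomogeneous_X_pow j (-e).toNat)⟩
    ⟨X j ^ e.toNat * X i ^ (-e).toNat,
      (isHomogeneous_X_pow j e.toNat).mul (isHomogeneous_X_pow i (-e).toNat)⟩
    (fun x h => (x.1.isPrime.mem_or_mem h).elim (X_pow_notMem n R inf_le_right _ x)
      (X_pow_notMem n R inf_le_left _ x))

lemma γ'_ηSec (e : ℤ) (i j : Fin (n + 1)) :
    γ' n R (UU n R i ⊓ UU n R j) (η₀_mem_inf n R i j) (ηSec n R e i j) = (ξ i / ξ j) ^ e := by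
  unfold ηSec
  rw [γ'_fracSectO]
  have hi := ξ_ne_zero (R := R) i
  have hj := ξ_ne_zero (R := R) j
  rw [div_zpow, zpow_split _ hi e, zpow_split _ hj e]
  simp only [map_mul, map_pow]
  change ξ i ^ e.toNat * ξ j ^ (-e).toNat / (ξ j ^ e.toNat * ξ i ^ (-e).toNat) = _
  have h1 := pow_ne_zero e.toNat hj
  have h2 := pow_ne_zero (-e).toNat hi
  have h3 := pow_ne_zero (-e).toNat hj
  field_simp

lemma tSec_trans (e : ℤ) (i j : Fin (n + 1)) :
    ρ (OO n R e) (inf_le_left : UU n R i ⊓ UU n R j ≤ UU n R i) (tSec n R e i (UU n R i) le_rfl) =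
      ηSec n R e i j •
        ρ (OO n R e) (inf_le_right : UU n R i ⊓ UU n R j ≤ UU n R j) (tSec n R e j (UU n R j) le_rfl) := by
  rw [ρ_tSec, ρ_tSec]
  refine sectN_ext' (CohB1.polyGrading n R) _ _ fun x => ?_
  have h := smul_val (CohB1.polyGrading n R) (n := e) (W := UU n R i ⊓ UU n R j)
    (ηSec n R e i j) (tSec n R e j _ (inf_le_right.trans le_rfl)) x
  refine Eq.trans ?_ h.symm
  unfold tSec ηSec
  rw [fracSectN_val, fracSectN_val, fracSectO_val, Localization.mk_mul,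
    Groth.Agent.Lib.helper28.TwistSec.mk_eq_mk_iff']
  refine ⟨1, ?_⟩
  simp only [OneMemClass.coe_one, one_mul, Submonoid.coe_mul]
  ring

end Groth.Agent.Lib.helper20.PicPnGen
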