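import Mathlib
import Groth.Agent.Lib.Helper20.PicPnGen
import Groth.Agent.Lib.Helper20.PicPnChart

/-!
# `Pic(P^n_R) = ℤ` for `R` a unique factorisation domain (helper20)

`exists_iso_twist`: every invertible module on `P^n_R` is isomorphic to some `O(e)`.
-/

set_option autoImplicit false
set_option backward.isDefEq.respectTransparency false
set_option backward.isDefEq.respectTransparency.types false
universe u
open AlgebraicGeometry CategoryTheory Opposite TopologicalSpace MvPolynomial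

namespace Groth.Agent.Lib.helper20.PicPnMain

open Groth.Agent.Lib.helper20.PicPnAlg Groth.Agent.Lib.helper20.PicPnGamma
  Groth.Agent.Lib.helper20.GlueIso Groth.Agent.Lib.helper20.PicPnGen

section Field

variable {σ : Type*} {R : Type u} [CommRing R] [IsDomain R]

lemma div_self_zpow (i : σ) (e : ℤ) : (ξ (R := R) i / ξ i) ^ e = 1 := by
  rw [div_self (ξ_ne_zero i), one_zpow]

theorem exp_consistency [DecidableEq σ] {i j o : σ} (hoi : o ≠ i) (hoj : o ≠ j) {c1 c2 c3 : R}
    (h1 : c1 ≠ 0) (h2 : c2 ≠ 0) (h3 : c3 ≠ 0) {e1 e2 e3 : ℤ}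
    (h : κ c1 * (ξ i / ξ j) ^ e1 * (κ c2 * (ξ j / ξ o) ^ e2) = (κ c3 * (ξ i / ξ o) ^ e3 : K σ R)) :
    e2 = e3 := by
  have key : κ (c1 * c2) * ξ o ^ (e3 - e2) * ξ i ^ (e1 - e3) * ξ j ^ (e2 - e1) = (κ c3 : K σ R) := by
    rw [κ_mul, zpow_sub₀ (ξ_ne_zero o), zpow_sub₀ (ξ_ne_zero i), zpow_sub₀ (ξ_ne_zero j)]
    rw [div_zpow, div_zpow, div_zpow] at h
    have a1 := zpow_ne_zero e1 (ξ_ne_zero (R := R) i)
    have a3 := zpow_ne_zero e3 (ξ_ne_zero (R := R) i)
    have b1 := zpow_ne_zero e1 (ξ_ne_zero (R := R) j)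
    have b2 := zpow_ne_zero e2 (ξ_ne_zero (R := R) j)
    have o2 := zpow_ne_zero e2 (ξ_ne_zero (R := R) o)
    have o3 := zpow_ne_zero e3 (ξ_ne_zero (R := R) o)
    generalize ξ (R := R) i ^ e1 = A1 at *
    generalize ξ (R := R) i ^ e3 = A3 at *
    generalize ξ (R := R) j ^ e1 = B1 at *
    generalize ξ (R := R) j ^ e2 = B2 at *
    generalize ξ (R := R) o ^ e2 = O2 at *
    generalize ξ (R := R) o ^ e3 = O3 at *
    field_simp at h ⊢
    linear_combination h
  have := zpow_eq_zero_of_monomial_eq hoi hoj (mul_ne_zero h1 h2) h3 key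
  omega

end Field

variable (n : ℕ) (R : Type u) [CommRing R] [IsDomain R] [UniqueFactorizationMonoid R]

theorem exists_iso_twist (L : (P n R).Modules) (hL : PicF.IsInvertible L) :
    ∃ e : ℤ, Nonempty (L ≅ OO n R e) := by
  classical
  -- generators
  have hgen : ∀ i, ∃ s : Γ(L, UU n R i), IsGenOn L (UU n R i) s := fun i =>
    Groth.Agent.Lib.helper21.UfdPic.exists_generator_of_isTrivOn L (UU n R i)
      (Groth.Agent.Lib.helper20.PicPnChart.isTrivOn_chart n R L hL i)
  choose s hs using hgen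
  -- transition functions
  have hη : ∀ i j, ∃ η : Γ(P n R, UU n R i ⊓ UU n R j),
      ρ L (inf_le_left : UU n R i ⊓ UU n R j ≤ UU n R i) (s i) =
        η • ρ L (inf_le_right : UU n R i ⊓ UU n R j ≤ UU n R j) (s j) := fun i j => by
    obtain ⟨η, h⟩ := (hs j _ inf_le_right).2 (ρ L inf_le_left (s i))
    exact ⟨η, h.symm⟩
  choose η hη using hη
  let g : Fin (n + 1) → Fin (n + 1) → KK n R := fun i j =>
    γ' n R (UU n R i ⊓ UU n R j) (η₀_mem_inf n R i j) (η i j)
  -- cocycle
  have hcoc : ∀ i j k, g i j * g j k = g i k := by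
    intro i j k
    let W : (P n R).Opens := UU n R i ⊓ UU n R j ⊓ UU n R k
    have hW : η₀ n R ∈ W := ⟨⟨η₀_mem_UU n R i, η₀_mem_UU n R j⟩, η₀_mem_UU n R k⟩
    have hWi : W ≤ UU n R i := inf_le_left.trans inf_le_left
    have hWj : W ≤ UU n R j := inf_le_left.trans inf_le_right
    have hWk : W ≤ UU n R k := inf_le_right
    have hWij : W ≤ UU n R i ⊓ UU n R j := inf_le_left
    have hWjk : W ≤ UU n R j ⊓ UU n R k := le_inf hWj hWk
    have hWik : W ≤ UU n R i ⊓ UU n R k := le_inf hWi hWk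
    have e1 : ρ L hWi (s i) = rr hWij (η i j) • ρ L hWj (s j) := by
      have := congrArg (ρ L hWij) (hη i j)
      rw [ρ_ρ, ρ_smul, ρ_ρ] at this
      exact this
    have e2 : ρ L hWj (s j) = rr hWjk (η j k) • ρ L hWk (s k) := by
      have := congrArg (ρ L hWjk) (hη j k)
      rw [ρ_ρ, ρ_smul, ρ_ρ] at this
      exact this
    have e3 : ρ L hWi (s i) = rr hWik (η i k) • ρ L hWk (s k) := by
      have := congrArg (ρ L hWik) (hη i k)
      rw [ρ_ρ, ρ_smul, ρ_ρ] at this
      exact this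
    have hm : rr hWij (η i j) * rr hWjk (η j k) = rr hWik (η i k) := by
      apply (hs k W hWk).1
      change (rr hWij (η i j) * rr hWjk (η j k)) • ρ L hWk (s k) = rr hWik (η i k) • ρ L hWk (s k)
      rw [mul_smul, ← e2, ← e1, e3]
    have := congrArg (γ' n R W hW) hm
    rw [map_mul] at this
    exact this
  have hgii : ∀ i, g i i = 1 := by
    intro i
    have h := hcoc i i i
    have h0 : g i i ≠ 0 := by
      intro h0
      have : η i i = 0 := γ'_injective n R _ (η₀_mem_inf n R i i) (h0.trans (map_zero _).symm)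
      have h2 := hη i i
      rw [this, zero_smul] at h2
      have h3 : (1 : Γ(P n R, UU n R i ⊓ UU n R i)) = 0 := by
        apply (hs i _ inf_le_left).1
        change (1 : Γ(P n R, UU n R i ⊓ UU n R i)) • ρ L inf_le_left (s i) =
          (0 : Γ(P n R, UU n R i ⊓ UU n R i)) • ρ L inf_le_left (s i)
        rw [one_smul, zero_smul, h2]
      have h4 := congrArg (γ' n R _ (η₀_mem_inf n R i i)) h3
      rw [map_one, map_zero] at h4
      exact one_ne_zero h4
    exact mul_left_cancel₀ h0 (h.trans (mul_one _).symm)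
  -- units
  have hunit : ∀ i j, ∃ (c : Rˣ) (e : ℤ), g i j = κ (c : R) * (ξ i / ξ j) ^ e := by
    intro i j
    have hle : UU n R i ⊓ UU n R j ≤ UU n R j ⊓ UU n R i := le_inf inf_le_right inf_le_left
    refine γ'_unit n R i j (UU n R i ⊓ UU n R j) (Proj.basicOpen_mul _ _ _).symm (η₀_mem_inf n R i j)
      (η i j) (rr hle (η j i)) ?_
    apply γ'_injective n R _ (η₀_mem_inf n R i j)
    rw [map_mul, map_one]
    have := hcoc i j i
    rw [hgii] at this
    exact this
  choose c e hce using hunit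
  -- common exponent
  let e₀ : ℤ := e (Fin.last n) 0
  have hi0 : ∀ i, g i 0 = κ (c i 0 : R) * (ξ i / ξ 0) ^ e₀ := by
    intro i
    by_cases hi : i = 0
    · subst hi
      rw [hce, div_self_zpow, div_self_zpow]
    · have hl : Fin.last n ≠ 0 := by
        intro hl
        apply hi
        have := Fin.le_last i
        rw [hl] at this
        exact Fin.le_zero_iff.mp this
      have h1 := hcoc i (Fin.last n) 0
      rw [hce i (Fin.last n), hce (Fin.last n) 0, hce i 0] at h1
      have := exp_consistency (Ne.symm hi) (Ne.symm hl) (c i (Fin.last n)).ne_zero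
        (c (Fin.last n) 0).ne_zero (c i 0).ne_zero h1
      rw [hce i 0, ← this]
  have hij : ∀ i j, g i j = κ (c i 0 : R) * (κ (c j 0 : R))⁻¹ * (ξ i / ξ j) ^ e₀ := by
    intro i j
    have h1 := hcoc i 0 j
    have h2 := hcoc 0 j 0
    rw [hgii] at h2
    have hj0 : g j 0 ≠ 0 := right_ne_zero_of_mul_eq_one h2
    have h3 : g 0 j = (g j 0)⁻¹ := eq_inv_of_mul_eq_one_left h2
    rw [← h1, h3, hi0 i, hi0 j, mul_inv, ← inv_zpow, inv_div, mul_mul_mul_comm, ← mul_zpow]
    congr 2
    have hi := ξ_ne_zero (R := R) i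
    have hj := ξ_ne_zero (R := R) j
    have h0 := ξ_ne_zero (R := R) (0 : Fin (n + 1))
    field_simp
  refine ⟨e₀, ?_⟩
  have hcov : ∀ x : (P n R), ∃ i, x ∈ UU n R i := by
    intro x
    obtain ⟨i, hi⟩ := Groth.Agent.Lib.helper28.TwistPn.exists_X_notMem n R x
    exact ⟨i, (Proj.mem_basicOpen (CohB1.polyGrading n R) (X i : S n R) x).mpr hi⟩
  refine nonempty_iso_of_units hcov s (fun i => tSec n R e₀ i (UU n R i) le_rfl) hs
    (fun i => isGenOn_tSec n R e₀ i) η (fun i j => ηSec n R e₀ i j) hη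
    (fun i j => tSec_trans n R e₀ i j)
    (fun i => constUnit n R (c i 0) (UU n R i) (η₀_mem_UU n R i)) ?_
  intro i j
  apply γ'_injective n R _ (η₀_mem_inf n R i j)
  rw [map_mul, map_mul, γ'_ηSec, constUnit_val, constUnit_val, rr_constSec, rr_constSec,
    γ'_constSec, γ'_constSec]
  change _ = _ * g i j
  rw [hij i j]
  have hc : κ (σ := Fin (n + 1)) ((c j 0 : Rˣ) : R) ≠ 0 := κ_ne_zero (c j 0).ne_zero
  field_simp

end Groth.Agent.Lib.helper20.PicPnMain
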