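import Mathlib
import Groth.Prelude.Def_Coh
import Groth.Agent.Lib.Helper18.HHSum
import Groth.Agent.Lib.Helper18.HHConseq

/-!
# Dévissage for duality statements `Hom(F, ω) ≃ H^N(F)^∨` (helper20)

For a linear form `t` on `H^N(X, ω)`: `Φ A t F : Hom(F, ω) → (H^N(F) →ₗ A)`, `φ ↦ t ∘ H^N(φ)`.
`good_of_presentation`: bijectivity passes from a presentation `E₁ → E₀ → F → 0` to `F` when
`H^N(E₀) → H^N(F)` is surjective; `good_sigma`: finite coproducts.
-/

set_option autoImplicit false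

universe u

open CategoryTheory Limits AlgebraicGeometry Opposite TopologicalSpace

namespace Groth.Agent.Lib.Helper20.DualDev

open Groth.Agent.Lib.Helper18.HH

variable {X : Scheme.{u}} (A : Type u) [CommRing A] [X.Over (Spec (CommRingCat.of A))]
  {ω : X.Modules} {N : ℕ} (t : Coh.HH X ω N →ₗ[A] A)

/-- the duality map `φ ↦ t ∘ H^N(φ)` -/
noncomputable def Φ (F : X.Modules) (φ : F ⟶ ω) : Coh.HH X F N →ₗ[A] A :=
  t ∘ₗ mapOver A φ N

lemma Φ_apply (F : X.Modules) (φ : F ⟶ ω) (x : Coh.HH X F N) :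
    Φ A t F φ x = t (Sheaf.H.map ((SheafOfModules.toSheaf X.ringCatSheaf).map φ) N x) := rfl

lemma Φ_comp {E F : X.Modules} (π : E ⟶ F) (φ : F ⟶ ω) :
    Φ A t E (π ≫ φ) = (Φ A t F φ) ∘ₗ mapOver A π N := by
  ext x
  simp only [Φ, LinearMap.comp_apply]
  exact congrArg t (map_comp_apply π φ N x)

lemma Φ_zero (F : X.Modules) : Φ A t F (0 : F ⟶ ω) = 0 := by
  ext x
  simp only [Φ, LinearMap.comp_apply, LinearMap.zero_apply]
  have h : mapOver A (0 : F ⟶ ω) N x = 0 := by
    change map (0 : F ⟶ ω) N x = 0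
    rw [map_zero]
    rfl
  rw [h, _root_.map_zero]

/-- `F` satisfies duality for `t` -/
def Good (F : X.Modules) : Prop := Function.Bijective (Φ A t F)

lemma good_iff (F : X.Modules) :
    Good A t F ↔ ∀ ψ : Coh.HH X F N →ₗ[A] A, ∃! φ : F ⟶ ω, ∀ x : Coh.HH X F N,
      ψ x = t (Sheaf.H.map ((SheafOfModules.toSheaf X.ringCatSheaf).map φ) N x) := by
  rw [Good, Function.bijective_iff_existsUnique]
  refine forall_congr' (fun ψ => ?_)
  refine existsUnique_congr (fun φ => ?_)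
  constructor
  · intro h x
    rw [← h]
    rfl
  · intro h
    ext x
    exact (h x).symm

/-- dévissage along a presentation -/
theorem good_of_presentation {E₁ E₀ F : X.Modules} (π : E₀ ⟶ F) [Epi π] (π₁ : E₁ ⟶ kernel π)
    [Epi π₁] (hsurj : Function.Surjective (mapOver A π N)) (h₀ : Good A t E₀)
    (h₁ : Function.Injective (Φ A t E₁)) : Good A t F := by
  constructor
  · intro φ₁ φ₂ h
    have h2 : Φ A t E₀ (π ≫ φ₁) = Φ A t E₀ (π ≫ φ₂) := by
      rw [Φ_comp, Φ_comp, h]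
    exact (cancel_epi π).mp (h₀.1 h2)
  · intro ψ
    obtain ⟨φ₀, hφ₀⟩ := h₀.2 (ψ ∘ₗ mapOver A π N)
    have hd : (π₁ ≫ kernel.ι π) ≫ φ₀ = 0 := by
      apply h₁
      rw [Φ_comp, hφ₀, Φ_zero]
      ext x
      simp only [LinearMap.comp_apply, LinearMap.zero_apply]
      have h3 : mapOver A π N (mapOver A (π₁ ≫ kernel.ι π) N x) = 0 := by
        change map π N (map (π₁ ≫ kernel.ι π) N x) = 0
        rw [← map_comp_apply, Category.assoc, kernel.condition, comp_zero, map_zero]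
        rfl
      rw [h3, _root_.map_zero]
    have hk : kernel.ι π ≫ φ₀ = 0 := by
      rw [Category.assoc] at hd
      exact (cancel_epi π₁).mp (hd.trans comp_zero.symm)
    let hc := Abelian.epiIsCokernelOfKernel (KernelFork.ofι (kernel.ι π) (kernel.condition π))
      (kernelIsKernel π)
    let φ : F ⟶ ω := hc.desc (CokernelCofork.ofπ φ₀ hk)
    have hφ : π ≫ φ = φ₀ := hc.fac (CokernelCofork.ofπ φ₀ hk) WalkingParallelPair.one
    refine ⟨φ, ?_⟩
    ext y
    obtain ⟨x, rfl⟩ := hsurj y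
    have h4 := LinearMap.congr_fun hφ₀ x
    rw [← hφ, Φ_comp] at h4
    exact h4

/-- finite coproducts -/
theorem good_sigma {m : ℕ} (L : Fin m → X.Modules) (h : ∀ i, Good A t (L i)) :
    Good A t (∐ L) := by
  constructor
  · intro φ₁ φ₂ h12
    apply Sigma.hom_ext
    intro i
    apply (h i).1
    rw [Φ_comp, Φ_comp, h12]
  · intro ψ
    choose φi hφi using fun i => (h i).2 (ψ ∘ₗ mapOver A (Sigma.ι L i) N)
    refine ⟨Sigma.desc φi, ?_⟩
    ext x
    obtain ⟨y, rfl⟩ := (sigmaEquivOver A L N).symm.surjective x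
    have hy : (sigmaEquivOver A L N).symm y = ∑ i, mapOver A (Sigma.ι L i) N (y i) := rfl
    rw [hy, _root_.map_sum, _root_.map_sum]
    refine Finset.sum_congr rfl (fun i _ => ?_)
    have h5 := LinearMap.congr_fun (hφi i) (y i)
    rw [← Sigma.ι_desc φi i, Φ_comp] at h5
    exact h5

/-- transport along an isomorphism -/
theorem good_of_iso {F G : X.Modules} (e : F ≅ G) (h : Good A t F) : Good A t G := by
  constructor
  · intro φ₁ φ₂ h12
    have h2 : Φ A t F (e.hom ≫ φ₁) = Φ A t F (e.hom ≫ φ₂) := by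
      rw [Φ_comp, Φ_comp, h12]
    exact (cancel_epi e.hom).mp (h.1 h2)
  · intro ψ
    obtain ⟨φ, hφ⟩ := h.2 (ψ ∘ₗ mapOver A e.hom N)
    refine ⟨e.inv ≫ φ, ?_⟩
    rw [Φ_comp, hφ]
    ext x
    simp only [LinearMap.comp_apply]
    congr 1
    change Groth.Agent.Lib.Helper18.HH.map e.hom N (Groth.Agent.Lib.Helper18.HH.map e.inv N x) = x
    rw [← map_comp_apply, e.inv_hom_id, map_id]
    rfl

end Groth.Agent.Lib.Helper20.DualDev
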