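import Groth.Agent.Lib.Helper20.ExtFilt3

/-!
# The filtration of an exterior power attached to a split short exact sequence, IV (helper20)

* `Θ_injective`: injectivity of `Θ` for finite projective `M'`, `M''`.
* `mem_range_W_succ_iff`, `W_zero_eq_zero_iff`, `range_W_succ_le`: for a short exact sequence
  `0 → M' → M → M'' → 0` of finite projective modules (split by `s`), and
  `α ∈ ⋀^i M' ⊗ ⋀^(k+1) M`: `W α ∈ range W_{i+1,k} ↔ (id ⊗ ⋀^(k+1) b) α = 0`.
-/

set_option autoImplicit false
universe u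
open ExteriorAlgebra TensorProduct

namespace Groth.Agent.Lib.Helper20.ExtFilt

variable {R : Type u} [CommRing R]
variable {M' M M'' : Type u} [AddCommGroup M'] [AddCommGroup M] [AddCommGroup M'']
  [Module R M'] [Module R M] [Module R M'']

section Naturality

variable {F' F F'' : Type u} [AddCommGroup F'] [AddCommGroup F] [AddCommGroup F'']
  [Module R F'] [Module R F] [Module R F'']
variable (a : M' →ₗ[R] M) (s : M'' →ₗ[R] M) (aF : F' →ₗ[R] F) (sF : F'' →ₗ[R] F)
  (g' : M' →ₗ[R] F') (g'' : M'' →ₗ[R] F'') (g : M →ₗ[R] F)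

lemma map_Ψ (ha : g ∘ₗ a = aF ∘ₗ g') (hs : g ∘ₗ s = sF ∘ₗ g'') (j l : ℕ)
    (t : (⋀[R]^j M') ⊗[R] (⋀[R]^l M'')) :
    ExteriorAlgebra.map g (Ψ a s j l t) =
      Ψ aF sF j l (TensorProduct.map (exteriorPower.map j g') (exteriorPower.map l g'') t) := by
  induction t using TensorProduct.induction_on with
  | zero => simp
  | tmul x y =>
    rw [Ψ_tmul, map_mul, incl_comp, incl_comp, TensorProduct.map_tmul, Ψ_tmul, incl_map, incl_map,
      ha, hs]
  | add x y hx hy => simp only [map_add, hx, hy]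

lemma map_Θ (ha : g ∘ₗ a = aF ∘ₗ g') (hs : g ∘ₗ s = sF ∘ₗ g'') (n : ℕ)
    (v : ∀ p : Idx n, G R M' M'' p.1) :
    ExteriorAlgebra.map g (Θ a s n v) =
      Θ aF sF n (fun p => TensorProduct.map (exteriorPower.map p.1.1 g')
        (exteriorPower.map p.1.2 g'') (v p)) := by
  rw [Θ_apply, Θ_apply, map_sum]
  exact Finset.sum_congr rfl (fun p _ => map_Ψ a s aF sF g' g'' g ha hs _ _ _)

end Naturality

/-- a finite projective module is a retract of a finite free module -/
lemma exists_retract (N : Type u) [AddCommGroup N] [Module R N] [Module.Finite R N]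
    [Module.Projective R N] :
    ∃ (n : ℕ) (g : N →ₗ[R] (Fin n → R)) (f : (Fin n → R) →ₗ[R] N), f ∘ₗ g = LinearMap.id := by
  obtain ⟨n, f, hf⟩ := Module.Finite.exists_fin' R N
  obtain ⟨g, hg⟩ := Module.projective_lifting_property f LinearMap.id hf
  exact ⟨n, g, f, hg⟩

/-- **`Θ` is injective** in the finite projective case. -/
theorem Θ_injective [Module.Finite R M'] [Module.Projective R M'] [Module.Finite R M'']
    [Module.Projective R M''] (a : M' →ₗ[R] M) (s : M'' →ₗ[R] M)
    (hbij : Function.Bijective (a.coprod s)) (n : ℕ) : Function.Injective (Θ a s n) := by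
  obtain ⟨n', g', f', h'⟩ := exists_retract (R := R) M'
  obtain ⟨n'', g'', f'', h''⟩ := exists_retract (R := R) M''
  let e : (M' × M'') ≃ₗ[R] M := LinearEquiv.ofBijective (a.coprod s) hbij
  let g : M →ₗ[R] (Fin n' → R) × (Fin n'' → R) := (g'.prodMap g'') ∘ₗ e.symm.toLinearMap
  have hea : ∀ x, e.symm (a x) = (x, 0) := fun x => by
    rw [LinearEquiv.symm_apply_eq]
    simp [e]
  have hes : ∀ y, e.symm (s y) = (0, y) := fun y => by
    rw [LinearEquiv.symm_apply_eq]
    simp [e]
  have ha : g ∘ₗ a = (LinearMap.inl R _ _) ∘ₗ g' := by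
    ext x : 1
    simp [g, hea]
  have hs : g ∘ₗ s = (LinearMap.inr R _ _) ∘ₗ g'' := by
    ext y : 1
    simp [g, hes]
  have hF : Function.Injective (Θ (LinearMap.inl R (Fin n' → R) (Fin n'' → R))
      (LinearMap.inr R (Fin n' → R) (Fin n'' → R)) n) := by
    refine Θ_injective_of_free _ _ n ?_
    rw [LinearMap.coprod_inl_inr]
    exact Function.bijective_id
  intro v₁ v₂ hvw
  have hv : Θ a s n (v₁ - v₂) = 0 := by
    have h0 := (Θ a s n).map_sub v₁ v₂
    rw [hvw, sub_self] at h0
    exact h0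
  suffices h : v₁ - v₂ = 0 from sub_eq_zero.mp h
  generalize v₁ - v₂ = v at hv ⊢
  have h1 := map_Θ a s _ _ g' g'' g ha hs n v
  rw [hv, map_zero] at h1
  have h2 := hF (h1.symm.trans (map_zero _).symm)
  funext p
  have h3 := congrFun h2 p
  have h4 := congrArg (TensorProduct.map (exteriorPower.map p.1.1 f') (exteriorPower.map p.1.2 f'')) h3
  simp only [Pi.zero_apply, map_zero] at h4
  rw [← LinearMap.comp_apply, ← TensorProduct.map_comp, ← exteriorPower.map_comp,
    ← exteriorPower.map_comp, h', h'', exteriorPower.map_id, exteriorPower.map_id,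
    TensorProduct.map_id] at h4
  exact h4

section Main

variable [Module.Finite R M'] [Module.Projective R M'] [Module.Finite R M'']
  [Module.Projective R M'']
variable (a : M' →ₗ[R] M) (b : M →ₗ[R] M'') (s : M'' →ₗ[R] M)

omit [Module.Finite R M'] [Module.Projective R M'] [Module.Finite R M''] [Module.Projective R M''] in
include b in
lemma bijective_coprod (hbs : b ∘ₗ s = LinearMap.id) (hba : b ∘ₗ a = 0)
    (ha : Function.Injective a) (hex : ∀ m : M, m - s (b m) ∈ LinearMap.range a) :
    Function.Bijective (a.coprod s) := by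
  constructor
  · refine (injective_iff_map_eq_zero (a.coprod s)).mpr ?_
    rintro ⟨x, y⟩ h
    rw [LinearMap.coprod_apply] at h
    have h1 := congrArg b h
    rw [map_add, map_zero, ← LinearMap.comp_apply, ← LinearMap.comp_apply, hbs, hba] at h1
    simp only [LinearMap.zero_apply, LinearMap.id_coe, id_eq, zero_add] at h1
    subst h1
    rw [map_zero, add_zero] at h
    have h2 : x = 0 := ha (h.trans (map_zero a).symm)
    rw [h2]
    rfl
  · intro m
    obtain ⟨x, hx⟩ := hex m
    refine ⟨(x, b m), ?_⟩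
    rw [LinearMap.coprod_apply, hx]
    abel

/-- directness: `Ψ_{(i,k+1)} g ∈ 𝔞^(i+1) 𝔪^k` forces `g = 0`. -/
theorem eq_zero_of_Ψ_mem (hbij : Function.Bijective (a.coprod s)) (i k : ℕ)
    (g : G R M' M'' (i, k + 1)) (hg : Ψ a s i (k + 1) g ∈ im a ^ (i + 1) * mm R M ^ k) :
    g = 0 := by
  classical
  let n := i + (k + 1)
  let p₀ : Idx n := Idx.mk' i (k + 1) n rfl
  have hle : im a ^ (i + 1) * mm R M ^ k ≤
      (LinearMap.ker (LinearMap.proj p₀ : (∀ p : Idx n, G R M' M'' p.1) →ₗ[R] _)).map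
        (Θ a s n) := by
    refine (mul_le_mul' le_rfl
      (pow_le_iSup a s (mm_le_of_surjective a s hbij.2) k)).trans ?_
    rw [Submodule.mul_iSup]
    refine iSup_le fun q => ?_
    rw [Submodule.mul_iSup]
    refine iSup_le fun hq => ?_
    have hq' : q.1 + q.2 = k := Finset.HasAntidiagonal.mem_antidiagonal.mp hq
    rw [← mul_assoc, ← pow_add, ← range_Ψ]
    rintro _ ⟨t, rfl⟩
    let p : Idx n := Idx.mk' (i + 1 + q.1) q.2 n (by simp only [n]; omega)
    have hp : p ≠ p₀ := by
      intro h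
      have := congrArg (fun r : Idx n => r.1.1) h
      simp only [p, p₀] at this
      omega
    refine ⟨Pi.single p t, LinearMap.mem_ker.mpr ?_, Θ_single a s n p t⟩
    rw [LinearMap.proj_apply, Pi.single_eq_of_ne hp.symm]
  obtain ⟨v, hv, hv'⟩ := hle hg
  have h1 : Θ a s n v = Θ a s n (Pi.single p₀ g) := by
    rw [hv']
    exact (Θ_single a s n p₀ g).symm
  have h2 := Θ_injective a s hbij n h1
  have h3 := congrFun h2 p₀
  rw [Pi.single_eq_same] at h3
  rw [← h3]
  exact hv

variable (hbs : b ∘ₗ s = LinearMap.id) (hba : b ∘ₗ a = 0) (ha : Function.Injective a)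
  (hex : ∀ m : M, m - s (b m) ∈ LinearMap.range a)

include hbs hba ha hex in
/-- **The graded pieces of the filtration**: `W α` lies in the next step iff `(id ⊗ ⋀b) α = 0`. -/
theorem mem_range_W_succ_iff (i k : ℕ) (α : (⋀[R]^i M') ⊗[R] (⋀[R]^(k + 1) M)) :
    W a i (k + 1) α ∈ LinearMap.range (W a (i + 1) k) ↔ P b i (k + 1) α = 0 := by
  have hbij := bijective_coprod a b s hbs hba ha hex
  have hmem := W_sub_Ψ_mem a b s hex i k α
  rw [range_W]
  constructor
  · intro h
    have h1 : Ψ a s i (k + 1) (P b i (k + 1) α) ∈ im a ^ (i + 1) * mm R M ^ k := by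
      have := sub_mem h hmem
      rwa [sub_sub_cancel] at this
    exact eq_zero_of_Ψ_mem a s hbij i k _ h1
  · intro h
    rw [h, map_zero, sub_zero] at hmem
    exact hmem

include hbs hba ha hex in
/-- In top degree: `W α = 0` iff `(id ⊗ ⋀^0 b) α = 0`. -/
theorem W_zero_eq_zero_iff (i : ℕ) (α : (⋀[R]^i M') ⊗[R] (⋀[R]^0 M)) :
    W a i 0 α = 0 ↔ P b i 0 α = 0 := by
  have hbij := bijective_coprod a b s hbs hba ha hex
  rw [W_eq_Ψ_zero a b s i α]
  constructor
  · intro h
    let p₀ : Idx (i + 0) := Idx.mk' i 0 (i + 0) rfl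
    have h1 : Θ a s (i + 0) (Pi.single p₀ (P b i 0 α)) = Θ a s (i + 0) 0 := by
      rw [Θ_single, map_zero]
      exact h
    have h2 := congrFun (Θ_injective a s hbij (i + 0) h1) p₀
    rw [Pi.single_eq_same] at h2
    exact h2
  · intro h
    rw [h, map_zero]

end Main

end Groth.Agent.Lib.Helper20.ExtFilt
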