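import Mathlib
import Groth.Agent.Lib.Helper20.ExtFilt4

/-!
# The determinant of a stably free module is trivial (helper20)

`B` a commutative ring, `0 → M' → M → M'' → 0` split exact (`a.coprod s` bijective) with `M'`
finite free of rank `r`, `M` finite free of rank `n`, `M''` finite projective. Then
`⋀^l M'' = 0` for `l > n - r` (`subsingleton_extPow_of_gt`) and `⋀^(n-r) M'' ≃ B`
(`nonempty_extPow_equiv`).  Also: `⋀^m` of a finite free module vanishes above the rank and is free
of rank one in top degree.
-/

set_option autoImplicit false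
universe u
open TensorProduct

namespace Groth.Agent.Lib.Helper20.DetStab

open Groth.Agent.Lib.Helper20.ExtFilt

variable {B : Type u} [CommRing B]

/-- exterior powers of a finite free module above the rank vanish -/
lemma subsingleton_extPow_of_lt (M : Type u) [AddCommGroup M] [Module B M] [Module.Free B M]
    [Module.Finite B M] (m : ℕ) (h : Module.finrank B M < m) : Subsingleton (⋀[B]^m M) := by
  rcases subsingleton_or_nontrivial B with hB | hB
  · exact Module.subsingleton B _
  · have h1 : Module.finrank B (⋀[B]^m M) = 0 := by
      rw [exteriorPower.finrank_eq, Nat.choose_eq_zero_of_lt h]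
    exact (Module.finrank_eq_zero_iff_of_free B _).mp h1

/-- the top exterior power of a finite free module is free of rank one -/
lemma nonempty_extPow_top_equiv (M : Type u) [AddCommGroup M] [Module B M] [Module.Free B M]
    [Module.Finite B M] (m : ℕ) (h : Module.finrank B M = m) : Nonempty (⋀[B]^m M ≃ₗ[B] B) := by
  rcases subsingleton_or_nontrivial B with hB | hB
  · haveI : Subsingleton (⋀[B]^m M) := Module.subsingleton B _
    exact ⟨LinearEquiv.ofSubsingleton _ _⟩
  · have h1 : Module.finrank B (⋀[B]^m M) = 1 := by
      rw [exteriorPower.finrank_eq, h, Nat.choose_self]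
    obtain ⟨e⟩ := Module.nonempty_linearEquiv_iff_finrank_eq_one.mpr h1
    exact ⟨e.symm⟩

variable {M' M M'' : Type u} [AddCommGroup M'] [AddCommGroup M] [AddCommGroup M'']
  [Module B M'] [Module B M] [Module B M'']
  [Module.Free B M'] [Module.Finite B M'] [Module.Free B M] [Module.Finite B M]
  [Module.Finite B M''] [Module.Projective B M'']

/-- all graded pieces vanish above the rank of the middle term -/
lemma subsingleton_G (a : M' →ₗ[B] M) (s : M'' →ₗ[B] M)
    (hbij : Function.Bijective (a.coprod s)) (m : ℕ) (hm : Module.finrank B M < m)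
    (p : Idx m) : Subsingleton (G B M' M'' p.1) := by
  haveI := subsingleton_extPow_of_lt (B := B) M m hm
  have hinj : Function.Injective (Θ' a s m) :=
    (Θ_injective_iff a s m).mp (Θ_injective a s hbij m)
  refine ⟨fun x y => ?_⟩
  classical
  have h1 : (Pi.single p x : ∀ q : Idx m, G B M' M'' q.1) = Pi.single p y :=
    hinj (Subsingleton.elim _ _)
  have h2 := congrFun h1 p
  rwa [Pi.single_eq_same, Pi.single_eq_same] at h2

/-- exterior powers of the quotient vanish above the expected rank -/
theorem subsingleton_extPow_of_gt (a : M' →ₗ[B] M) (s : M'' →ₗ[B] M)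
    (hbij : Function.Bijective (a.coprod s)) (l : ℕ)
    (hl : Module.finrank B M < Module.finrank B M' + l) : Subsingleton (⋀[B]^l M'') := by
  obtain ⟨e⟩ := nonempty_extPow_top_equiv (B := B) M' (Module.finrank B M') rfl
  haveI := subsingleton_G a s hbij (Module.finrank B M' + l) hl
    (Idx.mk' (Module.finrank B M') l _ rfl)
  let e2 : (⋀[B]^(Module.finrank B M') M') ⊗[B] (⋀[B]^l M'') ≃ₗ[B] ⋀[B]^l M'' :=
    (TensorProduct.congr e (LinearEquiv.refl B _)).trans (TensorProduct.lid B _)
  exact e2.symm.injective.subsingleton

/-- **the determinant of a stably free module is trivial** -/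
theorem nonempty_extPow_equiv (a : M' →ₗ[B] M) (s : M'' →ₗ[B] M)
    (hbij : Function.Bijective (a.coprod s)) (r n : ℕ) (hr : Module.finrank B M' = r)
    (hn : Module.finrank B M = n) (hrn : r ≤ n) : Nonempty (⋀[B]^(n - r) M'' ≃ₗ[B] B) := by
  classical
  obtain ⟨e'⟩ := nonempty_extPow_top_equiv (B := B) M' r hr
  obtain ⟨eM⟩ := nonempty_extPow_top_equiv (B := B) M n hn
  have hinj : Function.Injective (Θ' a s n) :=
    (Θ_injective_iff a s n).mp (Θ_injective a s hbij n)
  have hsurj : Function.Surjective (Θ' a s n) :=
    Θ'_surjective a s n (mm_le_of_surjective a s hbij.2)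
  let eΘ : (∀ p : Idx n, G B M' M'' p.1) ≃ₗ[B] ⋀[B]^n M :=
    LinearEquiv.ofBijective (Θ' a s n) ⟨hinj, hsurj⟩
  let p0 : Idx n := Idx.mk' r (n - r) n (by omega)
  have hsub : ∀ p : Idx n, p ≠ p0 → Subsingleton (G B M' M'' p.1) := by
    intro p hp
    have hadd := p.add_eq
    rcases lt_trichotomy p.1.1 r with h | h | h
    · haveI : Subsingleton (⋀[B]^p.1.2 M'') :=
        subsingleton_extPow_of_gt a s hbij p.1.2 (by omega)
      exact ⟨fun x y => by
        have hz : ∀ z : G B M' M'' p.1, z = 0 := by
          intro z
          induction z using TensorProduct.induction_on with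
          | zero => rfl
          | tmul x2 y2 => rw [Subsingleton.elim y2 0, TensorProduct.tmul_zero]
          | add x2 y2 hx hy => rw [hx, hy, add_zero]
        rw [hz x, hz y]⟩
    · exfalso
      apply hp
      apply Subtype.ext
      apply Prod.ext
      · exact h
      · change p.1.2 = n - r
        omega
    · haveI : Subsingleton (⋀[B]^p.1.1 M') :=
        subsingleton_extPow_of_lt (B := B) M' p.1.1 (by omega)
      exact ⟨fun x y => by
        have hz : ∀ z : G B M' M'' p.1, z = 0 := by
          intro z
          induction z using TensorProduct.induction_on with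
          | zero => rfl
          | tmul x2 y2 => rw [Subsingleton.elim x2 0, TensorProduct.zero_tmul]
          | add x2 y2 hx hy => rw [hx, hy, add_zero]
        rw [hz x, hz y]⟩
  let eP : (∀ p : Idx n, G B M' M'' p.1) ≃ₗ[B] G B M' M'' p0.1 :=
    LinearEquiv.ofBijective (LinearMap.proj p0) (by
      constructor
      · intro v w hvw
        funext p
        by_cases hp : p = p0
        · subst hp
          exact hvw
        · haveI := hsub p hp
          exact Subsingleton.elim _ _
      · intro g
        exact ⟨Pi.single p0 g, by simp⟩)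
  let e2 : G B M' M'' p0.1 ≃ₗ[B] ⋀[B]^(n - r) M'' :=
    (TensorProduct.congr e' (LinearEquiv.refl B _)).trans (TensorProduct.lid B _)
  exact ⟨e2.symm.trans (eP.symm.trans (eΘ.trans eM))⟩

end Groth.Agent.Lib.Helper20.DetStab
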