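import Mathlib
import Groth.Agent.Lib.Helper20.DetStab
import Groth.Agent.Lib.Helper1.ExtPowBC

/-!
# Exterior powers of finite projective modules: rank, vanishing, determinant (helper20)

`B` a commutative ring, `M` a finite projective `B`-module.

* `projective_extPow`: `⋀^m M` is projective.
* `rankAtStalk_extPow`: `rank_q ⋀^m M = (rank_q M).choose m`.
* `subsingleton_extPow_of_rank_lt`: `⋀^m M = 0` if all ranks are `< m`.
* `nonempty_G_equiv`: for a split exact `0 → M' → M → M'' → 0` (finite projective) with
  `⋀^j M' = 0` for `j > r` and `⋀^l M'' = 0` for `l > n - r`: `⋀^r M' ⊗ ⋀^(n-r) M'' ≃ ⋀^n M`.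
* `invertible_extPow_top`: if `M` has constant rank `d` then `⋀^d M` is invertible.
* `nonempty_det_equiv`: `M'` free of rank `r`, `M` of constant rank `n ≥ r`: `⋀^(n-r) M'' ≃ ⋀^n M`.
-/

set_option autoImplicit false
universe u
open TensorProduct

namespace Groth.Agent.Lib.Helper20.ExtPowRank

open Groth.Agent.Lib.Helper20.ExtFilt Groth.Agent.Lib.Helper20.DetStab Groth.Agent.H1.ExtPowBC

variable {B : Type u} [CommRing B]

section Single

variable (M : Type u) [AddCommGroup M] [Module B M] [Module.Finite B M] [Module.Projective B M]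

/-- exterior powers of finite projective modules are projective -/
theorem projective_extPow (m : ℕ) : Module.Projective B (⋀[B]^m M) := by
  obtain ⟨k, g, f, hfg⟩ := exists_retract (R := B) M
  refine Module.Projective.of_split (M := ⋀[B]^m (Fin k → B)) (exteriorPower.map m g)
    (exteriorPower.map m f) ?_
  rw [← exteriorPower.map_comp, hfg, exteriorPower.map_id]

/-- the rank of an exterior power -/
theorem rankAtStalk_extPow (m : ℕ) (q : PrimeSpectrum B) :
    Module.rankAtStalk (⋀[B]^m M) q = (Module.rankAtStalk M q).choose m := by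
  rw [Module.rankAtStalk_eq_finrank_tensorProduct, Module.rankAtStalk_eq_finrank_tensorProduct]
  let Bq := Localization.AtPrime q.asIdeal
  let e : Bq ⊗[B] (⋀[B]^m M) ≃ₗ[Bq] ⋀[Bq]^m (Bq ⊗[B] M) :=
    LinearEquiv.ofBijective (L B Bq M m) ⟨L_injective B Bq M m, L_surjective B Bq M m⟩
  haveI : Module.Free Bq (Bq ⊗[B] M) := Module.free_of_flat_of_isLocalRing
  rw [e.finrank_eq, exteriorPower.finrank_eq]

/-- exterior powers above the rank vanish -/
theorem subsingleton_extPow_of_rank_lt (m : ℕ)
    (h : ∀ q : PrimeSpectrum B, Module.rankAtStalk M q < m) : Subsingleton (⋀[B]^m M) := by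
  haveI := projective_extPow (B := B) M m
  rw [← Module.rankAtStalk_eq_zero_iff_subsingleton (R := B)]
  funext q
  rw [rankAtStalk_extPow, Nat.choose_eq_zero_of_lt (h q)]
  rfl

end Single

section Split

variable {M' M M'' : Type u} [AddCommGroup M'] [AddCommGroup M] [AddCommGroup M'']
  [Module B M'] [Module B M] [Module B M'']
  [Module.Finite B M'] [Module.Projective B M'] [Module.Finite B M''] [Module.Projective B M'']

lemma subsingleton_tensor_left (X Y : Type u) [AddCommGroup X] [AddCommGroup Y] [Module B X]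
    [Module B Y] [Subsingleton X] : Subsingleton (X ⊗[B] Y) :=
  ⟨fun x y => by
    have hz : ∀ z : X ⊗[B] Y, z = 0 := by
      intro z
      induction z using TensorProduct.induction_on with
      | zero => rfl
      | tmul x2 y2 => rw [Subsingleton.elim x2 0, TensorProduct.zero_tmul]
      | add x2 y2 hx hy => rw [hx, hy, add_zero]
    rw [hz x, hz y]⟩

lemma subsingleton_tensor_right (X Y : Type u) [AddCommGroup X] [AddCommGroup Y] [Module B X]
    [Module B Y] [Subsingleton Y] : Subsingleton (X ⊗[B] Y) :=
  ⟨fun x y => by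
    have hz : ∀ z : X ⊗[B] Y, z = 0 := by
      intro z
      induction z using TensorProduct.induction_on with
      | zero => rfl
      | tmul x2 y2 => rw [Subsingleton.elim y2 0, TensorProduct.tmul_zero]
      | add x2 y2 hx hy => rw [hx, hy, add_zero]
    rw [hz x, hz y]⟩

/-- if `⋀^m M = 0` then all graded pieces of degree `m` vanish -/
lemma subsingleton_G_of_subsingleton (a : M' →ₗ[B] M) (s : M'' →ₗ[B] M)
    (hbij : Function.Bijective (a.coprod s)) (m : ℕ) (hm : Subsingleton (⋀[B]^m M))
    (p : Idx m) : Subsingleton (G B M' M'' p.1) := by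
  have hinj : Function.Injective (Θ' a s m) :=
    (Θ_injective_iff a s m).mp (Θ_injective a s hbij m)
  refine ⟨fun x y => ?_⟩
  classical
  have h1 : (Pi.single p x : ∀ q : Idx m, G B M' M'' q.1) = Pi.single p y :=
    hinj (Subsingleton.elim _ _)
  have h2 := congrFun h1 p
  rwa [Pi.single_eq_same, Pi.single_eq_same] at h2

/-- the surviving graded piece -/
theorem nonempty_G_equiv (a : M' →ₗ[B] M) (s : M'' →ₗ[B] M)
    (hbij : Function.Bijective (a.coprod s)) (r n : ℕ) (hrn : r ≤ n)
    (h' : ∀ j, r < j → Subsingleton (⋀[B]^j M'))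
    (h'' : ∀ l, n - r < l → Subsingleton (⋀[B]^l M'')) :
    Nonempty ((⋀[B]^r M') ⊗[B] (⋀[B]^(n - r) M'') ≃ₗ[B] ⋀[B]^n M) := by
  classical
  have hinj : Function.Injective (Θ' a s n) :=
    (Θ_injective_iff a s n).mp (Θ_injective a s hbij n)
  have hsurj : Function.Surjective (Θ' a s n) :=
    Θ'_surjective a s n (mm_le_of_surjective a s hbij.2)
  let eΘ : (∀ p : Idx n, G B M' M'' p.1) ≃ₗ[B] ⋀[B]^n M :=
    LinearEquiv.ofBijective (Θ' a s n) ⟨hinj, hsurj⟩
  let p0 : Idx n := Idx.mk' r (n - r) n (by omega)
  have hsub : ∀ p : Idx n, p ≠ p0 → Subsingleton (G B M' M'' p.1) := by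
    intro p hp
    have hadd := p.add_eq
    rcases lt_trichotomy p.1.1 r with h | h | h
    · haveI : Subsingleton (⋀[B]^p.1.2 M'') := h'' p.1.2 (by omega)
      exact subsingleton_tensor_right _ _
    · exfalso
      apply hp
      apply Subtype.ext
      apply Prod.ext
      · exact h
      · change p.1.2 = n - r
        omega
    · haveI : Subsingleton (⋀[B]^p.1.1 M') := h' p.1.1 h
      exact subsingleton_tensor_left _ _
  let eP : (∀ p : Idx n, G B M' M'' p.1) ≃ₗ[B] G B M' M'' p0.1 :=
    LinearEquiv.ofBijective (LinearMap.proj p0) (by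
      constructor
      · intro v w hvw
        funext p
        by_cases hp : p = p0
        · subst hp
          exact hvw
        · haveI := hsub p hp
          exact Subsingleton.elim _ _
      · intro g
        exact ⟨Pi.single p0 g, by simp⟩)
  exact ⟨eP.symm.trans eΘ⟩

end Split

section Inv

variable (M : Type u) [AddCommGroup M] [Module B M] [Module.Finite B M] [Module.Projective B M]

/-- **the top exterior power of a finite projective module of constant rank is invertible** -/
theorem invertible_extPow_top (d : ℕ) (hd : ∀ q : PrimeSpectrum B, Module.rankAtStalk M q = d) :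
    Module.Invertible B (⋀[B]^d M) := by
  classical
  rcases subsingleton_or_nontrivial B with hB | hB
  · haveI : Subsingleton ((⋀[B]^d M) ⊗[B] (⋀[B]^d M)) := Module.subsingleton B _
    exact Module.Invertible.right (LinearEquiv.ofSubsingleton ((⋀[B]^d M) ⊗[B] (⋀[B]^d M)) B)
  obtain ⟨k, g, f, hfg⟩ := exists_retract (R := B) M
  let Q : Submodule B (Fin k → B) := LinearMap.ker f
  let ψ : (Fin k → B) →ₗ[B] (Fin k → B) := LinearMap.id - g ∘ₗ f
  have hψ : ∀ x, ψ x = x - g (f x) := fun x => rfl
  let pr : (Fin k → B) →ₗ[B] Q :=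
    LinearMap.codRestrict Q ψ (fun x => by
      change f (ψ x) = 0
      rw [hψ, map_sub, ← LinearMap.comp_apply f g, hfg, LinearMap.id_apply, sub_self])
  have hpr : pr ∘ₗ Q.subtype = LinearMap.id := by
    apply LinearMap.ext
    intro x
    apply Subtype.ext
    change ψ (x : Fin k → B) = x
    rw [hψ, (LinearMap.mem_ker.mp x.2 : f x = 0), map_zero, sub_zero]
  have : Module.Projective B Q := Module.Projective.of_split Q.subtype pr hpr
  have : Module.Finite B Q := Module.Finite.of_surjective pr (fun x => ⟨x, by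
    have := LinearMap.congr_fun hpr x
    exact this⟩)
  have hbij : Function.Bijective (Q.subtype.coprod g) := by
    refine bijective_coprod Q.subtype f g hfg ?_ Q.injective_subtype ?_
    · apply LinearMap.ext
      intro x
      exact LinearMap.mem_ker.mp x.2
    · intro m
      exact ⟨pr m, by
        change ((pr m : Q) : Fin k → B) = m - g (f m)
        rfl⟩
  -- ranks
  let e0 : (Q × M) ≃ₗ[B] (Fin k → B) := LinearEquiv.ofBijective (Q.subtype.coprod g) hbij
  have hrank : ∀ q : PrimeSpectrum B, Module.rankAtStalk Q q + d = k := by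
    intro q
    have h1 := congrFun (Module.rankAtStalk_eq_of_equiv e0) q
    have h2 : Module.rankAtStalk (Fin k → B) q = k := by
      have h3 := congrFun (Module.rankAtStalk_eq_finrank_of_free (R := B) (M := Fin k → B)) q
      rw [h3, Module.finrank_fin_fun]
      rfl
    rw [Module.rankAtStalk_prod, Pi.add_apply, hd q, h2] at h1
    exact h1
  obtain ⟨q0⟩ : Nonempty (PrimeSpectrum B) := inferInstance
  have hdk : k - d ≤ k := Nat.sub_le k d
  have hkd : k - (k - d) = d := by have := hrank q0; omega
  have hQ : ∀ j, k - d < j → Subsingleton (⋀[B]^j Q) := fun j hj =>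
    subsingleton_extPow_of_rank_lt (B := B) Q j (fun q => by have := hrank q; omega)
  have hM : ∀ l, k - (k - d) < l → Subsingleton (⋀[B]^l M) := fun l hl =>
    subsingleton_extPow_of_rank_lt (B := B) M l (fun q => by rw [hd q]; omega)
  obtain ⟨e1⟩ := nonempty_G_equiv Q.subtype g hbij (k - d) k hdk hQ hM
  obtain ⟨e2⟩ := nonempty_extPow_top_equiv (B := B) (Fin k → B) k (Module.finrank_fin_fun B)
  rw [hkd] at e1
  exact Module.Invertible.right (e1.trans e2)

end Inv

section Det

variable {M' M M'' : Type u} [AddCommGroup M'] [AddCommGroup M] [AddCommGroup M'']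
  [Module B M'] [Module B M] [Module B M'']
  [Module.Free B M'] [Module.Finite B M'] [Module.Finite B M] [Module.Projective B M]
  [Module.Finite B M''] [Module.Projective B M'']

/-- **determinant of a split sequence with free kernel** -/
theorem nonempty_det_equiv (a : M' →ₗ[B] M) (s : M'' →ₗ[B] M)
    (hbij : Function.Bijective (a.coprod s)) (r n : ℕ) (hr : Module.finrank B M' = r)
    (hn : ∀ q : PrimeSpectrum B, Module.rankAtStalk M q = n) (hrn : r ≤ n) :
    Nonempty (⋀[B]^(n - r) M'' ≃ₗ[B] ⋀[B]^n M) := by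
  obtain ⟨e'⟩ := nonempty_extPow_top_equiv (B := B) M' r hr
  have h' : ∀ j, r < j → Subsingleton (⋀[B]^j M') := fun j hj =>
    subsingleton_extPow_of_lt (B := B) M' j (by omega)
  have h'' : ∀ l, n - r < l → Subsingleton (⋀[B]^l M'') := by
    intro l hl
    have hM : Subsingleton (⋀[B]^(r + l) M) :=
      subsingleton_extPow_of_rank_lt (B := B) M (r + l) (fun q => by rw [hn q]; omega)
    haveI := subsingleton_G_of_subsingleton a s hbij (r + l) hM (Idx.mk' r l _ rfl)
    let e2 : (⋀[B]^r M') ⊗[B] (⋀[B]^l M'') ≃ₗ[B] ⋀[B]^l M'' :=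
      (TensorProduct.congr e' (LinearEquiv.refl B _)).trans (TensorProduct.lid B _)
    exact e2.symm.injective.subsingleton
  obtain ⟨e1⟩ := nonempty_G_equiv a s hbij r n hrn h' h''
  let e2 : (⋀[B]^r M') ⊗[B] (⋀[B]^(n - r) M'') ≃ₗ[B] ⋀[B]^(n - r) M'' :=
    (TensorProduct.congr e' (LinearEquiv.refl B _)).trans (TensorProduct.lid B _)
  exact ⟨e2.symm.trans e1⟩

end Det

end Groth.Agent.Lib.Helper20.ExtPowRank
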