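import Mathlib
import Groth.Agent.Lib.Helper20.ExtPowRank
import Groth.Agent.Lib.Helper11.QuasiRegCot

/-!
# The conormal sequence of a smooth quotient by a quasi-regular family splits (helper20)

`P` formally smooth over `A`, `I = (F_1, …, F_r)` quasi-regular with `P ⧸ I` formally smooth over
`A`: the sequence `0 → (P/I)^r → (P/I) ⊗_P Ω[P⁄A] → Ω[(P/I)⁄A] → 0` is split exact
(`exists_conormal_split`); if `Ω[P⁄A]` is finite of constant rank `n ≥ r` then
`⋀^(n-r) Ω[(P/I)⁄A] ≃ ⋀^n ((P/I) ⊗_P Ω[P⁄A]) ≃ (P/I) ⊗_P ⋀^n Ω[P⁄A]` and these are invertible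
(`nonempty_top_equiv`, `invertible_top`).
-/

set_option autoImplicit false
universe u
open TensorProduct

namespace Groth.Agent.Lib.Helper20.DetKaehler

open Groth.Agent.Lib.Helper20.DetStab Groth.Agent.Lib.Helper20.ExtFilt
  Groth.Agent.Lib.helper11.QuasiReg Groth.Agent.Lib.Helper20.ExtPowRank
  Groth.Agent.H1.ExtPowBC

variable {A P : Type u} [CommRing A] [CommRing P] [Algebra A P] [Algebra.FormallySmooth A P]

theorem exists_conormal_split (I : Ideal P) [Algebra.FormallySmooth A (P ⧸ I)] {r : ℕ}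
    (F : Fin r → P) (hq : QR F) (hspan : Ideal.span (Set.range F) = I) :
    ∃ (a : (Fin r → P ⧸ I) →ₗ[P ⧸ I] (P ⧸ I) ⊗[P] Ω[P⁄A])
      (s : Ω[(P ⧸ I)⁄A] →ₗ[P ⧸ I] (P ⧸ I) ⊗[P] Ω[P⁄A]),
      Function.Bijective (a.coprod s) := by
  classical
  have hf : Function.Surjective (algebraMap P (P ⧸ I)) := Ideal.Quotient.mk_surjective
  let b : (P ⧸ I) ⊗[P] Ω[P⁄A] →ₗ[P ⧸ I] Ω[(P ⧸ I)⁄A] :=
    KaehlerDifferential.mapBaseChange A P (P ⧸ I)
  have hb : Function.Surjective b := KaehlerDifferential.mapBaseChange_surjective A P (P ⧸ I) hf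
  obtain ⟨s, hs⟩ := Module.projective_lifting_property b LinearMap.id hb
  have hJ : RingHom.ker (algebraMap P (P ⧸ I)) = I := by
    rw [Ideal.Quotient.algebraMap_eq]; exact Ideal.mk_ker
  have hFJ : ∀ i, F i ∈ RingHom.ker (algebraMap P (P ⧸ I)) := fun i => by
    rw [hJ, ← hspan]; exact Ideal.subset_span ⟨i, rfl⟩
  let f : Fin r → RingHom.ker (algebraMap P (P ⧸ I)) := fun i => ⟨F i, hFJ i⟩
  have hspanJ : Ideal.span (Set.range fun i => (f i : P)) = RingHom.ker (algebraMap P (P ⧸ I)) :=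
    hspan.trans hJ.symm
  let κ := KaehlerDifferential.kerCotangentToTensor A P (P ⧸ I)
  let v : Fin r → (P ⧸ I) ⊗[P] Ω[P⁄A] := fun i =>
    κ ((RingHom.ker (algebraMap P (P ⧸ I))).toCotangent (f i))
  have hκinj : Function.Injective κ :=
    (Algebra.FormallySmooth.kerCotangentToTensor_injective_iff hf).mpr inferInstance
  have hex : Function.Exact κ b :=
    KaehlerDifferential.exact_kerCotangentToTensor_mapBaseChange A P (P ⧸ I) hf
  let a : (Fin r → P ⧸ I) →ₗ[P ⧸ I] (P ⧸ I) ⊗[P] Ω[P⁄A] := Fintype.linearCombination (P ⧸ I) v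
  have hbv : ∀ i, b (v i) = 0 := fun i => hex.apply_apply_eq_zero _
  have hba : b ∘ₗ a = 0 := by
    apply LinearMap.ext
    intro c
    rw [LinearMap.comp_apply, Fintype.linearCombination_apply, map_sum]
    refine Finset.sum_eq_zero (fun i _ => ?_)
    rw [map_smul, hbv, smul_zero]
  have hcomb : ∀ c : Fin r → P, ∑ i, (algebraMap P (P ⧸ I) (c i)) • v i =
      κ ((RingHom.ker (algebraMap P (P ⧸ I))).toCotangent (∑ i, c i • f i)) := by
    intro c
    rw [map_sum, map_sum]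
    refine Finset.sum_congr rfl (fun i _ => ?_)
    rw [map_smul, map_smul, algebraMap_smul]
  have ha : Function.Injective a := by
    rw [← linearIndependent_iff_injective_fintypeLinearCombination, Fintype.linearIndependent_iff]
    intro cbar hc i
    choose c hcc using fun i => hf (cbar i)
    have h1 : ∑ i, cbar i • v i = ∑ i, (algebraMap P (P ⧸ I) (c i)) • v i :=
      Finset.sum_congr rfl (fun i _ => by rw [hcc])
    rw [h1, hcomb c] at hc
    have h2 := hκinj (hc.trans (map_zero κ).symm)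
    have hli := cot_li_of_QR (RingHom.ker (algebraMap P (P ⧸ I))) f hq hspanJ
    rw [Fintype.linearIndependent_iff] at hli
    have h3 := hli (fun i => Ideal.Quotient.mk _ (c i)) (by
      rw [toCotangent_sum_smul]; exact h2) i
    rw [Ideal.Quotient.eq_zero_iff_mem, hJ] at h3
    rw [← hcc i, Ideal.Quotient.algebraMap_eq]
    exact Ideal.Quotient.eq_zero_iff_mem.mpr h3
  have hrange : ∀ m, b m = 0 → m ∈ LinearMap.range a := by
    intro m hm
    obtain ⟨y, rfl⟩ := (hex m).mp hm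
    obtain ⟨y, rfl⟩ := Ideal.toCotangent_surjective _ y
    have hy : (y : P) ∈ Ideal.span (Set.range fun i => (f i : P)) := by rw [hspanJ]; exact y.2
    obtain ⟨c, hc⟩ := (Ideal.mem_span_range_iff_exists_fun).1 hy
    have hy' : y = ∑ i, c i • f i := by
      ext
      rw [← hc, Submodule.coe_sum]
      exact Finset.sum_congr rfl (fun i _ => rfl)
    refine ⟨fun i => algebraMap P (P ⧸ I) (c i), ?_⟩
    rw [Fintype.linearCombination_apply, hcomb c, hy']
  have hexs : ∀ m, m - s (b m) ∈ LinearMap.range a := by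
    intro m
    apply hrange
    rw [map_sub, ← LinearMap.comp_apply b s, hs, LinearMap.id_apply, sub_self]
  exact ⟨a, s, bijective_coprod a b s hs hba ha hexs⟩

section Rank

variable [Module.Finite P (Ω[P⁄A])] (I : Ideal P) [Algebra.FormallySmooth A (P ⧸ I)] {r : ℕ}
  (F : Fin r → P) (hq : QR F) (hspan : Ideal.span (Set.range F) = I) (n : ℕ)
  (hn : ∀ q : PrimeSpectrum P, Module.rankAtStalk (Ω[P⁄A]) q = n) (hrn : r ≤ n)

include hn in
omit [Algebra.FormallySmooth A (P ⧸ I)] in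
lemma rankAtStalk_baseChange_kaehler (q : PrimeSpectrum (P ⧸ I)) :
    Module.rankAtStalk ((P ⧸ I) ⊗[P] Ω[P⁄A]) q = n := by
  rw [Module.rankAtStalk_baseChange, hn]

include hq hspan hn hrn in
theorem nonempty_top_equiv :
    Nonempty (⋀[P ⧸ I]^(n - r) (Ω[(P ⧸ I)⁄A]) ≃ₗ[P ⧸ I] (P ⧸ I) ⊗[P] (⋀[P]^n (Ω[P⁄A]))) := by
  obtain ⟨a, s, hbij⟩ := exists_conormal_split (A := A) I F hq hspan
  have hf : Function.Surjective (algebraMap P (P ⧸ I)) := Ideal.Quotient.mk_surjective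
  haveI : Module.Finite (P ⧸ I) (Ω[(P ⧸ I)⁄A]) :=
    Module.Finite.of_surjective (KaehlerDifferential.mapBaseChange A P (P ⧸ I))
      (KaehlerDifferential.mapBaseChange_surjective A P (P ⧸ I) hf)
  let eL : (P ⧸ I) ⊗[P] (⋀[P]^n (Ω[P⁄A])) ≃ₗ[P ⧸ I] ⋀[P ⧸ I]^n ((P ⧸ I) ⊗[P] Ω[P⁄A]) :=
    LinearEquiv.ofBijective (L P (P ⧸ I) (Ω[P⁄A]) n)
      ⟨L_injective P (P ⧸ I) _ n, L_surjective P (P ⧸ I) _ n⟩
  rcases subsingleton_or_nontrivial (P ⧸ I) with hB | hB
  · haveI : Subsingleton (⋀[P ⧸ I]^(n - r) (Ω[(P ⧸ I)⁄A])) := Module.subsingleton (P ⧸ I) _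
    haveI : Subsingleton ((P ⧸ I) ⊗[P] (⋀[P]^n (Ω[P⁄A]))) := Module.subsingleton (P ⧸ I) _
    exact ⟨LinearEquiv.ofSubsingleton _ _⟩
  obtain ⟨e⟩ := nonempty_det_equiv a s hbij r n (Module.finrank_fin_fun (P ⧸ I))
    (rankAtStalk_baseChange_kaehler I n hn) hrn
  exact ⟨e.trans eL.symm⟩

include hn in
omit [Algebra.FormallySmooth A (P ⧸ I)] in
theorem invertible_top :
    Module.Invertible (P ⧸ I) ((P ⧸ I) ⊗[P] (⋀[P]^n (Ω[P⁄A]))) := by
  let eL : (P ⧸ I) ⊗[P] (⋀[P]^n (Ω[P⁄A])) ≃ₗ[P ⧸ I] ⋀[P ⧸ I]^n ((P ⧸ I) ⊗[P] Ω[P⁄A]) :=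
    LinearEquiv.ofBijective (L P (P ⧸ I) (Ω[P⁄A]) n)
      ⟨L_injective P (P ⧸ I) _ n, L_surjective P (P ⧸ I) _ n⟩
  haveI := invertible_extPow_top (B := P ⧸ I) ((P ⧸ I) ⊗[P] Ω[P⁄A]) n
    (rankAtStalk_baseChange_kaehler I n hn)
  exact Module.Invertible.congr eL.symm

end Rank

end Groth.Agent.Lib.Helper20.DetKaehler
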