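import Mathlib

/-!
# Injective maps of finite free modules over a local ring of depth zero are split (helper20)

If `(A, 𝔪)` is local and some `x ≠ 0` is killed by `𝔪`, then every injective linear map `φ : F' → F` of finite
free modules has a finite free cokernel, of rank `rank F - rank F'`.
-/

set_option autoImplicit false
universe u

open IsLocalRing TensorProduct

namespace Groth.Agent.Lib.helper20.DepthZeroSplit

variable {A : Type u} [CommRing A] [IsLocalRing A]

/-- an element of a free module killed by `x ≠ 0`, `𝔪 x = 0`, lies in `𝔪 F` -/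
lemma mem_smul_top_of_smul_eq_zero {x : A} (hx : x ≠ 0)
    {F : Type u} [AddCommGroup F] [Module A F] [Module.Free A F] (v : F) (hv : x • v = 0) :
    v ∈ maximalIdeal A • (⊤ : Submodule A F) := by
  let b := Module.Free.chooseBasis A F
  have hc : ∀ i, b.repr v i ∈ maximalIdeal A := by
    intro i
    have h1 : x * b.repr v i = 0 := by
      have := congrArg (fun w => b.repr w i) hv
      simpa using this
    rw [IsLocalRing.mem_maximalIdeal, mem_nonunits_iff]
    intro hu
    apply hx
    have := congrArg (· * hu.unit⁻¹.1) h1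
    simpa [mul_assoc] using this
  rw [← b.linearCombination_repr v, Finsupp.linearCombination_apply]
  refine Submodule.sum_mem _ fun i _ => ?_
  exact Submodule.smul_mem_smul (hc i) trivial

/-- `x` kills `𝔪 F` -/
lemma smul_eq_zero_of_mem_smul_top {x : A} (hmx : ∀ a ∈ maximalIdeal A, a * x = 0)
    {F : Type u} [AddCommGroup F] [Module A F] (w : F)
    (hw : w ∈ maximalIdeal A • (⊤ : Submodule A F)) : x • w = 0 := by
  refine Submodule.smul_induction_on hw (fun a ha f _ => ?_) (fun f g hf hg => ?_)
  · rw [smul_smul, mul_comm, hmx a ha, zero_smul]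
  · rw [smul_add, hf, hg, add_zero]

variable {x : A} (hx : x ≠ 0) (hmx : ∀ a ∈ maximalIdeal A, a * x = 0)
  {F' F : Type u} [AddCommGroup F'] [Module A F'] [Module.Finite A F'] [Module.Free A F']
  [AddCommGroup F] [Module A F] [Module.Finite A F] [Module.Free A F]
  (φ : F' →ₗ[A] F) (hφ : Function.Injective φ)

include hx hmx hφ in
lemma lTensor_injective : Function.Injective (φ.lTensor (ResidueField A)) := by
  rw [injective_iff_map_eq_zero]
  intro z hz
  obtain ⟨v, rfl⟩ := TensorProduct.mk_surjective A F' (ResidueField A)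
    Ideal.Quotient.mk_surjective z
  have h1 : (1 : ResidueField A) ⊗ₜ[A] φ v = 0 := hz
  have h2 : φ v ∈ maximalIdeal A • (⊤ : Submodule A F) := by
    have e := quotTensorEquivQuotSMul_mk_one_tmul (M := F) (maximalIdeal A) (φ v)
    have h0 : quotTensorEquivQuotSMul F (maximalIdeal A) ((1 : ResidueField A) ⊗ₜ[A] φ v) = 0 :=
      (congrArg (quotTensorEquivQuotSMul F (maximalIdeal A)) h1).trans (map_zero _)
    exact (Submodule.Quotient.mk_eq_zero _).mp (e.symm.trans h0)
  have h3 : φ (x • v) = 0 := by
    rw [map_smul]
    exact smul_eq_zero_of_mem_smul_top hmx _ h2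
  have h4 : x • v = 0 := hφ (h3.trans (map_zero φ).symm)
  have h5 := mem_smul_top_of_smul_eq_zero hx v h4
  have h6 : quotTensorEquivQuotSMul F' (maximalIdeal A) ((1 : ResidueField A) ⊗ₜ[A] v) = 0 := by
    have e := quotTensorEquivQuotSMul_mk_one_tmul (M := F') (maximalIdeal A) v
    exact e.trans ((Submodule.Quotient.mk_eq_zero _).mpr h5)
  exact (LinearEquiv.map_eq_zero_iff _).mp h6

include hx hmx hφ in
/-- the cokernel is free -/
theorem free_coker : Module.Free A (F ⧸ LinearMap.range φ) :=
  Module.free_of_lTensor_residueField_injective φ (LinearMap.range φ).mkQ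
    (Submodule.mkQ_surjective _) φ.exact_map_mkQ_range (lTensor_injective hx hmx φ hφ)

include hx hmx hφ in
/-- the rank of the cokernel -/
theorem finrank_coker :
    Module.finrank A F = Module.finrank A F' + Module.finrank A (F ⧸ LinearMap.range φ) := by
  have hfree := free_coker hx hmx φ hφ
  obtain ⟨s, hs⟩ := Module.projective_lifting_property (LinearMap.range φ).mkQ LinearMap.id
    (Submodule.mkQ_surjective _)
  have e := (Function.Exact.splitSurjectiveEquiv φ.exact_map_mkQ_range hφ ⟨s, hs⟩).1
  rw [e.finrank_eq, Module.finrank_prod]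

end Groth.Agent.Lib.helper20.DepthZeroSplit
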