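import Mathlib
import Groth.Agent.Lib.Helper20.DepthZeroSplit

/-!
# Finite free resolutions over a local ring of depth zero (helper20)

Over a local ring `(A, 𝔪)` with some `x ≠ 0` killed by `𝔪`, the cokernel of the first map of a finite free
resolution (given by matrices) is free, of rank the alternating sum of the ranks.
-/

set_option autoImplicit false
universe u

open IsLocalRing

namespace Groth.Agent.Lib.helper20.DepthZeroRes

open Groth.Agent.Lib.helper20.DepthZeroSplit

/-- the alternating sum `n 0 - n 1 + ⋯ ± n e` -/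
def altSum : (ℕ → ℕ) → ℕ → ℤ
  | n, 0 => n 0
  | n, e + 1 => n 0 - altSum (fun i => n (i + 1)) e

variable {A : Type u} [CommRing A] [IsLocalRing A]

theorem free_quot_range {x : A} (hx : x ≠ 0) (hmx : ∀ a ∈ maximalIdeal A, a * x = 0) :
    ∀ (e : ℕ) (n : ℕ → ℕ) (B : (i : ℕ) → Matrix (Fin (n i)) (Fin (n (i + 1))) A),
      (∀ i, i + 2 ≤ e + 1 →
        LinearMap.ker (B i).mulVecLin = LinearMap.range (B (i + 1)).mulVecLin) →
      LinearMap.ker (B e).mulVecLin = ⊥ →
      Module.Free A ((Fin (n 0) → A) ⧸ LinearMap.range (B 0).mulVecLin) ∧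
        (Module.finrank A ((Fin (n 0) → A) ⧸ LinearMap.range (B 0).mulVecLin) : ℤ) =
          altSum n (e + 1) := by
  intro e
  induction e with
  | zero =>
    intro n B _ hlast
    have hinj : Function.Injective (B 0).mulVecLin := LinearMap.ker_eq_bot.mp hlast
    refine ⟨free_coker hx hmx _ hinj, ?_⟩
    have h := finrank_coker hx hmx _ hinj
    rw [Module.finrank_fin_fun, Module.finrank_fin_fun] at h
    simp only [altSum]
    omega
  | succ e ih =>
    intro n B hex hlast
    obtain ⟨hfree, hrank⟩ := ih (fun i => n (i + 1)) (fun i => B (i + 1))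
      (fun i hi => hex (i + 1) (by omega)) hlast
    have h0 : LinearMap.ker (B 0).mulVecLin = LinearMap.range (B 1).mulVecLin :=
      hex 0 (by omega)
    let φ : ((Fin (n 1) → A) ⧸ LinearMap.range (B 1).mulVecLin) →ₗ[A] (Fin (n 0) → A) :=
      (LinearMap.range (B 1).mulVecLin).liftQ (B 0).mulVecLin (le_of_eq h0.symm)
    have hφ : Function.Injective φ := by
      rw [← LinearMap.ker_eq_bot]
      exact Submodule.ker_liftQ_eq_bot _ _ _ (le_of_eq h0)
    have hrange : LinearMap.range φ = LinearMap.range (B 0).mulVecLin :=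
      Submodule.range_liftQ _ _ _
    have h1 := free_coker hx hmx φ hφ
    have h2 := finrank_coker hx hmx φ hφ
    rw [hrange] at h1 h2
    refine ⟨h1, ?_⟩
    rw [Module.finrank_fin_fun] at h2
    have e1 : altSum n (e + 1 + 1) = n 0 - altSum (fun i => n (i + 1)) (e + 1) := rfl
    rw [e1, ← hrank]
    push_cast at h2 ⊢
    have h3 : (n 0 : ℤ) = (Module.finrank A ((Fin (n 1) → A) ⧸ LinearMap.range (B 1).mulVecLin) : ℤ) +
        (Module.finrank A ((Fin (n 0) → A) ⧸ LinearMap.range (B 0).mulVecLin) : ℤ) := by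
      exact_mod_cast h2
    linarith

end Groth.Agent.Lib.helper20.DepthZeroRes
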