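import Mathlib

/-!
# Exactness of matrices is preserved by localization (helper20)
-/

set_option autoImplicit false
universe u

namespace Groth.Agent.Lib.helper20.MatLoc

variable {R : Type u} [CommRing R] (S : Submonoid R) (A' : Type u) [CommRing A'] [Algebra R A']
  [IsLocalization S A']

/-- `range N ≤ ker M` means `M * N = 0` -/
lemma mul_eq_zero_of_range_le_ker {m n p : ℕ} (M : Matrix (Fin m) (Fin n) R)
    (N : Matrix (Fin n) (Fin p) R)
    (h : LinearMap.range N.mulVecLin ≤ LinearMap.ker M.mulVecLin) : M * N = 0 := by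
  rw [Matrix.ext_iff_mulVec]
  intro v
  rw [Matrix.zero_mulVec, ← Matrix.mulVec_mulVec]
  exact h ⟨v, rfl⟩

include S in
theorem ker_map_eq_range_map {m n p : ℕ} (M : Matrix (Fin m) (Fin n) R)
    (N : Matrix (Fin n) (Fin p) R)
    (h : LinearMap.ker M.mulVecLin = LinearMap.range N.mulVecLin) :
    LinearMap.ker (M.map (algebraMap R A')).mulVecLin =
      LinearMap.range (N.map (algebraMap R A')).mulVecLin := by
  classical
  apply le_antisymm
  · intro v hv
    have hv' : (M.map (algebraMap R A')).mulVec v = 0 := hv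
    obtain ⟨b, hb⟩ := IsLocalization.exist_integer_multiples_of_finite S v
    choose w hw using hb
    -- `M w` maps to zero
    have h1 : ∀ i, algebraMap R A' ((M.mulVec w) i) = 0 := by
      intro i
      rw [RingHom.map_mulVec]
      have e : (⇑(algebraMap R A') ∘ w) = (b : R) • v := by
        funext j
        exact hw j
      rw [e, Matrix.mulVec_smul, hv', smul_zero]
      rfl
    have h2 : ∀ i, ∃ t : S, (t : R) * (M.mulVec w) i = 0 := fun i =>
      (IsLocalization.map_eq_zero_iff S A' _).mp (h1 i)
    choose t ht using h2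
    let T : S := ∏ i, t i
    have hT : ∀ i, (T : R) * (M.mulVec w) i = 0 := by
      intro i
      have hd : (t i : R) ∣ (T : R) := by
        have : (T : R) = ∏ j, (t j : R) := by
          simp [T]
        rw [this]
        exact Finset.dvd_prod_of_mem _ (Finset.mem_univ i)
      obtain ⟨c, hc⟩ := hd
      rw [hc, mul_comm (t i : R) c, mul_assoc, ht i, mul_zero]
    have h3 : (T : R) • w ∈ LinearMap.ker M.mulVecLin := by
      rw [LinearMap.mem_ker, Matrix.mulVecLin_apply, Matrix.mulVec_smul]
      funext i
      exact hT i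
    rw [h] at h3
    obtain ⟨u, hu⟩ := h3
    have hu' : N.mulVec u = (T : R) • w := hu
    refine ⟨fun l => IsLocalization.mk' A' (u l) (T * b), ?_⟩
    funext j
    have hunit : IsUnit (algebraMap R A' ((T * b : S) : R)) := IsLocalization.map_units A' (T * b)
    apply hunit.mul_left_cancel
    rw [Matrix.mulVecLin_apply]
    simp only [Matrix.mulVec, dotProduct, Matrix.map_apply]
    rw [Finset.mul_sum]
    have h4 : ∀ l, algebraMap R A' ((T * b : S) : R) *
        (algebraMap R A' (N j l) * IsLocalization.mk' A' (u l) (T * b)) =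
        algebraMap R A' (N j l * u l) := by
      intro l
      rw [mul_left_comm, IsLocalization.mk'_spec', map_mul]
    rw [Finset.sum_congr rfl (fun l _ => h4 l), ← map_sum]
    have h5 : ∑ l, N j l * u l = (T : R) * w j := by
      have := congrFun hu' j
      simpa [Matrix.mulVec, dotProduct] using this
    rw [h5, map_mul, hw j]
    simp only [Submonoid.coe_mul, map_mul, Algebra.smul_def]
    ring
  · rintro _ ⟨u, rfl⟩
    rw [LinearMap.mem_ker, Matrix.mulVecLin_apply, Matrix.mulVecLin_apply, Matrix.mulVec_mulVec,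
      ← Matrix.map_mul, mul_eq_zero_of_range_le_ker M N (le_of_eq h.symm)]
    simp

include S in
/-- injectivity is preserved -/
theorem ker_map_eq_bot {m n : ℕ} (M : Matrix (Fin m) (Fin n) R)
    (h : LinearMap.ker M.mulVecLin = ⊥) :
    LinearMap.ker (M.map (algebraMap R A')).mulVecLin = ⊥ := by
  have h0 : LinearMap.range (0 : Matrix (Fin n) (Fin 0) R).mulVecLin = ⊥ := by
    rw [eq_bot_iff]
    rintro _ ⟨u, rfl⟩
    simp
  have h1 := ker_map_eq_range_map S A' M (0 : Matrix (Fin n) (Fin 0) R) (h.trans h0.symm)
  rw [h1, eq_bot_iff]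
  rintro _ ⟨u, rfl⟩
  simp

end Groth.Agent.Lib.helper20.MatLoc
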