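import Mathlib
import Groth.Agent.Lib.Helper20.DepthZeroRes
import Groth.Agent.Lib.Helper20.MatLoc

/-!
# A finite free resolution of an ideal, localized at an associated prime (helper20)
-/

set_option autoImplicit false
universe u

open IsLocalRing

namespace Groth.Agent.Lib.helper20.FFRLocal

open Groth.Agent.Lib.helper20.DepthZeroRes Groth.Agent.Lib.helper20.MatLoc

variable {R : Type u} [CommRing R] [IsNoetherianRing R]

/-- depth-zero witness in the localization at an associated prime -/
lemma exists_depth_zero_witness (Q : Ideal R) [Q.IsPrime] (hQ : Q ∈ associatedPrimes R R) :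
    ∃ x' : Localization.AtPrime Q, x' ≠ 0 ∧
      ∀ a ∈ maximalIdeal (Localization.AtPrime Q), a * x' = 0 := by
  obtain ⟨_, y, hy⟩ := (isAssociatedPrime_iff).mp hQ
  have hQy : ∀ r : R, r ∈ Q ↔ r * y = 0 := by
    intro r
    have h1 : r ∈ Q ↔ r ∈ (⊥ : Submodule R R).colon {y} := by
      constructor
      · intro h
        exact hy ▸ h
      · intro h
        exact hy.symm ▸ h
    rw [h1, Submodule.mem_colon_singleton, Submodule.mem_bot]
    rfl
  refine ⟨algebraMap R _ y, ?_, ?_⟩
  · intro h0
    obtain ⟨s, hs⟩ := (IsLocalization.map_eq_zero_iff Q.primeCompl _ y).mp h0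
    exact s.2 ((hQy s).mpr hs)
  · intro a ha
    obtain ⟨q, s, rfl⟩ := IsLocalization.exists_mk'_eq Q.primeCompl a
    have hq : q ∈ Q :=
      (IsLocalization.AtPrime.mk'_mem_maximal_iff (Localization.AtPrime Q) Q q s).mp ha
    have hqy : q * y = 0 := (hQy q).mp hq
    rw [mul_comm, IsLocalization.mul_mk'_eq_mk'_of_mul, mul_comm, hqy, IsLocalization.mk'_zero]

/-- the one-row matrix with entries `c j` -/
def rowMat {m : ℕ} (c : Fin m → R) : Matrix (Fin 1) (Fin m) R := Matrix.of fun _ j => c j

theorem local_main (e' : ℕ) (n : ℕ → ℕ) (A : (i : ℕ) → Matrix (Fin (n i)) (Fin (n (i + 1))) R)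
    (c : Fin (n 0) → R)
    (h0 : LinearMap.ker (rowMat c).mulVecLin = LinearMap.range (A 0).mulVecLin)
    (hA : ∀ i, i + 2 ≤ e' + 1 →
      LinearMap.ker (A i).mulVecLin = LinearMap.range (A (i + 1)).mulVecLin)
    (hlast : LinearMap.ker (A e').mulVecLin = ⊥)
    (Q : Ideal R) [Q.IsPrime] (hQ : Q ∈ associatedPrimes R R) :
    ((∀ j, c j ∈ Q) → altSum n (e' + 1) = 0) ∧
      (altSum n (e' + 1) = 0 → ∀ j, algebraMap R (Localization.AtPrime Q) (c j) = 0) := by
  classical
  obtain ⟨x', hx', hmx'⟩ := exists_depth_zero_witness Q hQ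
  let f := algebraMap R (Localization.AtPrime Q)
  let B : (i : ℕ) → Matrix (Fin (n i)) (Fin (n (i + 1))) (Localization.AtPrime Q) :=
    fun i => (A i).map f
  have hB : ∀ i, i + 2 ≤ e' + 1 →
      LinearMap.ker (B i).mulVecLin = LinearMap.range (B (i + 1)).mulVecLin := fun i hi =>
    ker_map_eq_range_map Q.primeCompl (Localization.AtPrime Q) _ _ (hA i hi)
  have hBlast : LinearMap.ker (B e').mulVecLin = ⊥ :=
    ker_map_eq_bot Q.primeCompl (Localization.AtPrime Q) _ hlast
  obtain ⟨hfree, hrank⟩ := free_quot_range hx' hmx' e' n B hB hBlast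
  have hP : LinearMap.ker ((rowMat c).map f).mulVecLin = LinearMap.range (B 0).mulVecLin :=
    ker_map_eq_range_map Q.primeCompl (Localization.AtPrime Q) _ _ h0
  have hrow : ∀ (v : Fin (n 0) → Localization.AtPrime Q) (i : Fin 1),
      ((rowMat c).map f).mulVec v i = ∑ j, f (c j) * v j := by
    intro v i
    simp [Matrix.mulVec, dotProduct, rowMat]
  constructor
  · intro hc
    have hfc : ∀ j, f (c j) * x' = 0 := by
      intro j
      apply hmx'
      have := (IsLocalization.AtPrime.mk'_mem_maximal_iff (Localization.AtPrime Q) Q (c j) 1).mpr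
        (hc j)
      rwa [IsLocalization.mk'_one] at this
    have hkill : ∀ q : (Fin (n 0) → Localization.AtPrime Q) ⧸ LinearMap.range (B 0).mulVecLin,
        x' • q = 0 := by
      intro q
      obtain ⟨v, rfl⟩ := Submodule.Quotient.mk_surjective _ q
      rw [← Submodule.Quotient.mk_smul, Submodule.Quotient.mk_eq_zero, ← hP, LinearMap.mem_ker,
        Matrix.mulVecLin_apply]
      funext i
      rw [hrow]
      refine Finset.sum_eq_zero fun j _ => ?_
      have : f (c j) * (x' • v) j = (f (c j) * x') * v j := by
        simp only [Pi.smul_apply, smul_eq_mul]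
        ring
      rw [this, hfc j, zero_mul]
    have hsub : Subsingleton
        ((Fin (n 0) → Localization.AtPrime Q) ⧸ LinearMap.range (B 0).mulVecLin) := by
      by_contra hns
      rw [not_subsingleton_iff_nontrivial] at hns
      let b := Module.Free.chooseBasis (Localization.AtPrime Q)
        ((Fin (n 0) → Localization.AtPrime Q) ⧸ LinearMap.range (B 0).mulVecLin)
      have hne : Nonempty (Module.Free.ChooseBasisIndex (Localization.AtPrime Q)
          ((Fin (n 0) → Localization.AtPrime Q) ⧸ LinearMap.range (B 0).mulVecLin)) := by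
        by_contra hemp
        rw [not_nonempty_iff] at hemp
        have := b.repr.toEquiv.subsingleton
        exact not_subsingleton _ this
      obtain ⟨i⟩ := hne
      have h1 := congrArg (fun w => b.repr w i) (hkill (b i))
      simp at h1
      exact hx' h1
    have hfr : Module.finrank (Localization.AtPrime Q)
        ((Fin (n 0) → Localization.AtPrime Q) ⧸ LinearMap.range (B 0).mulVecLin) = 0 :=
      Module.finrank_zero_of_subsingleton
    rw [← hrank, hfr]
    rfl
  · intro hzero j
    have hfr : Module.finrank (Localization.AtPrime Q)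
        ((Fin (n 0) → Localization.AtPrime Q) ⧸ LinearMap.range (B 0).mulVecLin) = 0 := by
      exact_mod_cast hrank.trans hzero
    have hsub : Subsingleton
        ((Fin (n 0) → Localization.AtPrime Q) ⧸ LinearMap.range (B 0).mulVecLin) :=
      (Module.finrank_eq_zero_iff_of_free _ _).mp hfr
    have h1 : (Submodule.Quotient.mk (Pi.single j 1) :
        (Fin (n 0) → Localization.AtPrime Q) ⧸ LinearMap.range (B 0).mulVecLin) = 0 :=
      Subsingleton.elim _ _
    rw [Submodule.Quotient.mk_eq_zero, ← hP, LinearMap.mem_ker, Matrix.mulVecLin_apply] at h1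
    have h2 := congrFun h1 0
    rw [hrow] at h2
    simpa [Pi.single_apply] using h2

end Groth.Agent.Lib.helper20.FFRLocal
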