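import Mathlib
import Groth.Agent.S12909

/-!
# helper20: ingredients for Vasconcelos' theorem, part 1

* `davis`: coset prime avoidance (Davis' lemma).
* `hasMatFFR_of_pd`: over a Noetherian local ring a finite module of finite projective dimension
  has a finite free resolution by matrices.
* `exists_nonZeroDivisor_of_pd`: a nonzero ideal of finite projective dimension in a Noetherian
  local ring contains a nonzerodivisor.
* `exists_nzd_coset`: ... and every coset `y + I^2` (`y ∈ I`) contains a nonzerodivisor.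
-/

set_option autoImplicit false
universe u
open CategoryTheory

namespace Groth.Agent.Lib.helper20.Vasc1

/-- Davis' coset prime avoidance. -/
theorem davis {R : Type*} [CommRing R] (J : Ideal R) (s : Finset (Ideal R)) :
    (∀ p ∈ s, p.IsPrime) → ∀ y : R, (∀ p ∈ s, ¬ (y ∈ p ∧ J ≤ p)) →
      ∃ z ∈ J, ∀ p ∈ s, y + z ∉ p := by
  classical
  induction s using Finset.strongInduction with
  | H s ih =>
  intro hprime y hy
  rcases s.eq_empty_or_nonempty with rfl | hne
  · exact ⟨0, J.zero_mem, by simp⟩
  obtain ⟨q, hqmin⟩ := Finset.exists_minimal hne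
  have hq : q ∈ s := hqmin.prop
  have hlt : s.erase q ⊂ s := Finset.erase_ssubset hq
  obtain ⟨z, hzJ, hz⟩ := ih (s.erase q) hlt
    (fun p hp => hprime p (Finset.mem_of_mem_erase hp)) y
    (fun p hp => hy p (Finset.mem_of_mem_erase hp))
  by_cases hyz : y + z ∈ q
  swap
  · refine ⟨z, hzJ, fun p hp => ?_⟩
    by_cases hpq : p = q
    · subst hpq; exact hyz
    · exact hz p (Finset.mem_erase.mpr ⟨hpq, hp⟩)
  have hJq : ¬ J ≤ q := by
    intro hJq
    apply hy q hq
    refine ⟨?_, hJq⟩
    have : y = (y + z) - z := by ring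
    rw [this]; exact q.sub_mem hyz (hJq hzJ)
  obtain ⟨a, haJ, haq⟩ := SetLike.not_le_iff_exists.mp hJq
  have hb : ∃ b, (∀ p ∈ s.erase q, b ∈ p) ∧ b ∉ q := by
    have hex : ∀ p ∈ s.erase q, ∃ c, c ∈ p ∧ c ∉ q := by
      intro p hp
      have hp' := Finset.mem_erase.mp hp
      have hpq : ¬ p ≤ q := by
        intro hle
        exact hp'.1 (le_antisymm hle (hqmin.le_of_le hp'.2 hle))
      exact SetLike.not_le_iff_exists.mp hpq
    choose! c hc using hex
    refine ⟨∏ p ∈ s.erase q, c p, fun p hp => ?_, ?_⟩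
    · obtain ⟨w, hw⟩ := Finset.dvd_prod_of_mem c hp
      rw [hw]
      exact p.mul_mem_right _ (hc p hp).1
    · intro hmem
      obtain ⟨p, hp, hcp⟩ := (hprime q hq).prod_mem_iff.mp hmem
      exact (hc p hp).2 hcp
  obtain ⟨b, hb1, hb2⟩ := hb
  refine ⟨z + a * b, J.add_mem hzJ (J.mul_mem_right _ haJ), fun p hp => ?_⟩
  by_cases hpq : p = q
  · subst hpq
    intro hmem
    have h1 : a * b ∈ p := by
      have : a * b = (y + (z + a * b)) - (y + z) := by ring
      rw [this]; exact p.sub_mem hmem hyz
    rcases (hprime p hp).mem_or_mem h1 with h | h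
    · exact haq h
    · exact hb2 h
  · have hp' := Finset.mem_erase.mpr ⟨hpq, hp⟩
    intro hmem
    apply hz p hp'
    have : y + z = (y + (z + a * b)) - a * b := by ring
    rw [this]; exact p.sub_mem hmem (p.mul_mem_left _ (hb1 p hp'))

/-- kernel of a surjection from a projective module: projective dimension drops by one -/
lemma pd_ker {B : Type u} [CommRing B] {F Q : Type u} [AddCommGroup F] [Module B F]
    [AddCommGroup Q] [Module B Q] [Module.Projective B F] (g : F →ₗ[B] Q)
    (hg : Function.Surjective g) (n : ℕ)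
    (h : HasProjectiveDimensionLE (ModuleCat.of B Q) (n + 1)) :
    HasProjectiveDimensionLE (ModuleCat.of B (LinearMap.ker g)) n := by
  let T := g.shortComplexKer
  have T_exact := LinearMap.shortExact_shortComplexKer hg
  have proj : Projective T.X₂ := by
    show Projective (ModuleCat.of B F)
    rw [← IsProjective.iff_projective]
    infer_instance
  exact (T_exact.hasProjectiveDimensionLT_X₃_iff n proj).mp h

/-- prepend a rank -/
def consN (m : ℕ) (n' : ℕ → ℕ) : ℕ → ℕ
  | 0 => m
  | i + 1 => n' i

/-- prepend a matrix -/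
def consA {R : Type*} (m : ℕ) (n' : ℕ → ℕ) (A0 : Matrix (Fin m) (Fin (n' 0)) R)
    (A' : (i : ℕ) → Matrix (Fin (n' i)) (Fin (n' (i + 1))) R) :
    (i : ℕ) → Matrix (Fin (consN m n' i)) (Fin (consN m n' (i + 1))) R
  | 0 => A0
  | i + 1 => A' i

/-- a finite free resolution of length `e` by matrices -/
def HasMatFFR (R : Type u) [CommRing R] (M : Type u) [AddCommGroup M] [Module R M] (e : ℕ) :
    Prop :=
  ∃ (n : ℕ → ℕ) (A : (i : ℕ) → Matrix (Fin (n i)) (Fin (n (i + 1))) R)
    (π : (Fin (n 0) → R) →ₗ[R] M), Function.Surjective π ∧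
    LinearMap.ker π = LinearMap.range (A 0).mulVecLin ∧
    (∀ i, i + 2 ≤ e → LinearMap.ker (A i).mulVecLin = LinearMap.range (A (i + 1)).mulVecLin) ∧
    LinearMap.ker (A (e - 1)).mulVecLin = ⊥

variable {R : Type u} [CommRing R] [IsNoetherianRing R] [IsLocalRing R]

theorem hasMatFFR_of_pd (k : ℕ) (M : Type u) [AddCommGroup M] [Module R M] [Module.Finite R M]
    (h : HasProjectiveDimensionLE (ModuleCat.of R M) k) : HasMatFFR R M (k + 1) := by
  induction k generalizing M with
  | zero =>
    simp only [HasProjectiveDimensionLE, zero_add] at h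
    rw [← projective_iff_hasProjectiveDimensionLT_one, ← IsProjective.iff_projective] at h
    have hproj : Module.Projective R M := h
    have hflat : Module.Flat R M := Module.Flat.of_projective
    have hfree : Module.Free R M := Module.free_of_flat_of_isLocalRing
    let b := Module.finBasis R M
    let m := Module.finrank R M
    refine ⟨consN m (fun _ => 0), fun _ => 0, (b.equivFun.symm : (Fin m → R) →ₗ[R] M),
      b.equivFun.symm.surjective, ?_, ?_, ?_⟩
    · have h1 : LinearMap.ker (b.equivFun.symm : (Fin m → R) →ₗ[R] M) = ⊥ := LinearEquiv.ker _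
      have h2 : LinearMap.range (0 : Matrix (Fin m) (Fin 0) R).mulVecLin = ⊥ := by
        rw [Matrix.mulVecLin_zero, LinearMap.range_zero]
      exact h1.trans h2.symm
    · intro i hi
      omega
    · have hempty : IsEmpty (Fin (consN m (fun _ => 0) (0 + 1 - 1 + 1))) :=
        (inferInstance : IsEmpty (Fin 0))
      rw [Submodule.eq_bot_iff]
      intro x _
      funext j
      exact hempty.elim j
  | succ k ih =>
    obtain ⟨m, f, hf⟩ := Module.Finite.exists_fin' R M
    have hK := pd_ker f hf k h
    obtain ⟨n', A', π', hπ', h0', hA', hlast'⟩ := ih (LinearMap.ker f) hK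
    let g : (Fin (n' 0) → R) →ₗ[R] (Fin m → R) := (LinearMap.ker f).subtype ∘ₗ π'
    let A0 : Matrix (Fin m) (Fin (n' 0)) R := LinearMap.toMatrix' g
    have hA0 : A0.mulVecLin = g := Matrix.toLin'_toMatrix' g
    have hgrange : LinearMap.range g = LinearMap.ker f := by
      rw [LinearMap.range_comp, LinearMap.range_eq_top.mpr hπ', Submodule.map_top,
        Submodule.range_subtype]
    have hgker : LinearMap.ker g = LinearMap.ker π' := by
      rw [LinearMap.ker_comp, Submodule.ker_subtype, Submodule.comap_bot]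
    refine ⟨consN m n', consA m n' A0 A', f, hf, ?_, ?_, ?_⟩
    · show LinearMap.ker f = LinearMap.range A0.mulVecLin
      rw [hA0, hgrange]
    · intro i hi
      cases i with
      | zero =>
        show LinearMap.ker A0.mulVecLin = LinearMap.range (A' 0).mulVecLin
        rw [hA0, hgker, h0']
      | succ i =>
        show LinearMap.ker (A' i).mulVecLin = LinearMap.range (A' (i + 1)).mulVecLin
        exact hA' i (by omega)
    · show LinearMap.ker (consA m n' A0 A' (k + 1)).mulVecLin = ⊥
      show LinearMap.ker (A' k).mulVecLin = ⊥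
      exact hlast'

/-- a nonzero ideal of finite projective dimension in a Noetherian local ring contains a
nonzerodivisor -/
theorem exists_nonZeroDivisor_of_pd (I : Ideal R) (hI : I ≠ ⊥) (n : ℕ)
    (hpd : HasProjectiveDimensionLT (ModuleCat.of R I) n) :
    ∃ x ∈ I, x ∈ nonZeroDivisors R := by
  have hpd' : HasProjectiveDimensionLE (ModuleCat.of R I) n :=
    hasProjectiveDimensionLT_of_ge _ n (n + 1) (Nat.le_succ n)
  obtain ⟨ns, A, π, hπ, h0, hA, hlast⟩ := hasMatFFR_of_pd n I hpd'
  have hrange : LinearMap.range (I.subtype ∘ₗ π) = I := by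
    rw [LinearMap.range_comp, LinearMap.range_eq_top.mpr hπ, Submodule.map_top,
      Submodule.range_subtype]
  have hker : LinearMap.ker (I.subtype ∘ₗ π) = LinearMap.ker π := by
    rw [LinearMap.ker_comp, Submodule.ker_subtype, Submodule.comap_bot]
  obtain ⟨x, hx, hx'⟩ := Groth.Agent.S12909.result (n + 1) (Nat.le_add_left 1 n) ns A
    (I.subtype ∘ₗ π) (by rw [hrange]; exact hI) (by rw [hker]; exact h0) hA hlast
  rw [hrange] at hx
  exact ⟨x, hx, hx'⟩

/-- every coset `y + I^2` of an ideal of finite projective dimension containing a nonzerodivisor…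
contains a nonzerodivisor -/
theorem exists_nzd_coset (I : Ideal R) (hI : I ≠ ⊥) (n : ℕ)
    (hpd : HasProjectiveDimensionLT (ModuleCat.of R I) n) (y : R) :
    ∃ z ∈ I ^ 2, y + z ∈ nonZeroDivisors R := by
  classical
  obtain ⟨x₀, hx₀I, hx₀⟩ := exists_nonZeroDivisor_of_pd I hI n hpd
  have hfin : (associatedPrimes R R).Finite := associatedPrimes.finite R R
  have hnzd : ∀ w : R, (∀ p ∈ hfin.toFinset, w ∉ p) → w ∈ nonZeroDivisors R := by
    intro w hw
    by_contra hcon
    have hw' : w ∈ (nonZeroDivisors R : Set R)ᶜ := hcon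
    rw [← biUnion_associatedPrimes_eq_compl_nonZeroDivisors R] at hw'
    simp only [Set.mem_iUnion] at hw'
    obtain ⟨p, hp, hwp⟩ := hw'
    exact hw p (hfin.mem_toFinset.mpr hp) hwp
  have hmem : ∀ p ∈ hfin.toFinset, ∀ w ∈ p, w ∉ nonZeroDivisors R := by
    intro p hp w hwp hw
    have hw' : w ∈ (nonZeroDivisors R : Set R)ᶜ := by
      rw [← biUnion_associatedPrimes_eq_compl_nonZeroDivisors R]
      simp only [Set.mem_iUnion]
      exact ⟨p, hfin.mem_toFinset.mp hp, hwp⟩
    exact hw' hw
  obtain ⟨z, hz, hzp⟩ := davis (I ^ 2) hfin.toFinset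
    (fun p hp => (hfin.mem_toFinset.mp hp).isPrime) y (by
      intro p hp ⟨_, hle⟩
      have hpp : p.IsPrime := (hfin.mem_toFinset.mp hp).isPrime
      have hIp : I ≤ p := hpp.le_of_pow_le hle
      exact hmem p hp x₀ (hIp hx₀I) hx₀)
  exact ⟨z, hz, hnzd _ hzp⟩

end Groth.Agent.Lib.helper20.Vasc1
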