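import Mathlib
import Groth.Agent.Lib.Helper20.Vasc1
import Groth.Agent.Lib.Helper26.ProjDimRegular

/-!
# helper20: ingredients for Vasconcelos' theorem, part 2: passing to `R/(x)`
-/

set_option autoImplicit false
universe u
open CategoryTheory Pointwise

namespace Groth.Agent.Lib.helper20.Vasc2

section descend

variable {R M N P : Type*} [CommRing R] [AddCommGroup M] [AddCommGroup N] [AddCommGroup P]
  [Module R M] [Module R N] [Module R P]

/-- descend a linear map along a surjection -/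
noncomputable def descend (q : M →ₗ[R] N) (hq : Function.Surjective q) (ψ : M →ₗ[R] P)
    (h : LinearMap.ker q ≤ LinearMap.ker ψ) : N →ₗ[R] P :=
  (LinearMap.ker q).liftQ ψ h ∘ₗ (q.quotKerEquivOfSurjective hq).symm.toLinearMap

lemma descend_apply (q : M →ₗ[R] N) (hq : Function.Surjective q) (ψ : M →ₗ[R] P)
    (h : LinearMap.ker q ≤ LinearMap.ker ψ) (a : M) : descend q hq ψ h (q a) = ψ a := by
  unfold descend
  have h1 : (q.quotKerEquivOfSurjective hq).symm (q a) = Submodule.Quotient.mk a := by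
    rw [LinearEquiv.symm_apply_eq]
    rfl
  rw [LinearMap.comp_apply, LinearEquiv.coe_coe, h1, Submodule.liftQ_apply]

end descend

variable {R : Type u} [CommRing R] (I : Ideal R) (x : R) (hxI : x ∈ I)

/-- a linear map `I → R/I` kills `I^2` -/
lemma lam_sq (l : I →ₗ[R] R ⧸ I) (z : R) (hz : z ∈ I ^ 2) (hzI : z ∈ I) : l ⟨z, hzI⟩ = 0 := by
  have h1 : (⟨z, hzI⟩ : I) ∈ I • (⊤ : Submodule R I) := by
    rw [Submodule.mem_smul_top_iff]
    rw [pow_two] at hz
    exact hz
  refine Submodule.smul_induction_on h1 ?_ ?_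
  · intro r hr w _
    rw [map_smul, Algebra.smul_def, Ideal.Quotient.algebraMap_eq,
      Ideal.Quotient.eq_zero_iff_mem.mpr hr, zero_mul]
  · intro a b ha hb
    rw [map_add, ha, hb, add_zero]

/-- `R' = R/(x)` -/
abbrev R' : Type u := R ⧸ Ideal.span {x}

/-- `I' = I R'` -/
abbrev I' : Ideal (R' x) := I.map (algebraMap R (R' x))

/-- the quotient map `I → I'` -/
noncomputable abbrev q : I →ₗ[R] I' I x := Algebra.idealMap (R' x) I

lemma q_coe (a : I) : ((q I x a : I' I x) : R' x) = algebraMap R (R' x) a := rfl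

lemma q_surjective : Function.Surjective (q I x) := by
  rintro ⟨b, hb⟩
  obtain ⟨a, ha, rfl⟩ := (Ideal.mem_map_iff_of_surjective (algebraMap R (R' x))
    Ideal.Quotient.mk_surjective).mp hb
  exact ⟨⟨a, ha⟩, Subtype.ext rfl⟩

include hxI in
lemma mem_ker_q (a : I) (ha : q I x a = 0) : ∃ c : R, a = c • (⟨x, hxI⟩ : I) := by
  have h1 : algebraMap R (R' x) a = 0 := by
    have := congrArg Subtype.val ha
    exact this
  rw [Ideal.Quotient.algebraMap_eq, Ideal.Quotient.eq_zero_iff_mem,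
    Ideal.mem_span_singleton'] at h1
  obtain ⟨c, hc⟩ := h1
  exact ⟨c, Subtype.ext hc.symm⟩

lemma x_smul_I' (w : I' I x) : x • w = 0 := by
  rw [← algebraMap_smul (R' x) x w, Ideal.Quotient.algebraMap_eq,
    Ideal.Quotient.eq_zero_iff_mem.mpr (Ideal.mem_span_singleton_self x), zero_smul]

/-- `ψ : R/I → I/xI`, `c ↦ c • [x]` -/
noncomputable def psi : (R ⧸ I) →ₗ[R] QuotSMulTop x I :=
  Submodule.liftQ I (LinearMap.toSpanSingleton R (QuotSMulTop x I)
    (Submodule.Quotient.mk ⟨x, hxI⟩)) (by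
    intro c hc
    rw [LinearMap.mem_ker, LinearMap.toSpanSingleton_apply, ← Submodule.Quotient.mk_smul,
      Submodule.Quotient.mk_eq_zero]
    refine (Submodule.mem_smul_pointwise_iff_exists _ _ _).mpr ⟨⟨c, hc⟩, Submodule.mem_top, ?_⟩
    ext
    simp [mul_comm])

lemma psi_mk (c : R) : psi I x hxI (Ideal.Quotient.mk I c) =
    c • (Submodule.Quotient.mk ⟨x, hxI⟩ : QuotSMulTop x I) := by
  unfold psi
  exact Submodule.liftQ_apply _ _ _

/-- the projection `I/xI → I'` -/
noncomputable def prR : QuotSMulTop x I →ₗ[R] I' I x :=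
  Submodule.liftQ _ (q I x) (by
    intro a ha
    obtain ⟨b, -, rfl⟩ := (Submodule.mem_smul_pointwise_iff_exists _ _ _).mp ha
    rw [LinearMap.mem_ker, map_smul, x_smul_I'])

lemma prR_mk (a : I) : prR I x (Submodule.Quotient.mk a) = q I x a := by
  unfold prR
  exact Submodule.liftQ_apply _ _ _

include hxI in
lemma q_x : q I x ⟨x, hxI⟩ = 0 := by
  apply Subtype.ext
  rw [q_coe]
  show algebraMap R (R' x) x = 0
  rw [Ideal.Quotient.algebraMap_eq]
  exact Ideal.Quotient.eq_zero_iff_mem.mpr (Ideal.mem_span_singleton_self x)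

lemma prR_psi (u : R ⧸ I) : prR I x (psi I x hxI u) = 0 := by
  obtain ⟨c, rfl⟩ := Ideal.Quotient.mk_surjective u
  rw [psi_mk, map_smul, prR_mk, q_x I x hxI, smul_zero]

/-- the section, before descending -/
noncomputable def tR (l : I →ₗ[R] R ⧸ I) : I →ₗ[R] QuotSMulTop x I :=
  (x • (⊤ : Submodule R I)).mkQ - psi I x hxI ∘ₗ l

lemma tR_apply (l : I →ₗ[R] R ⧸ I) (a : I) :
    tR I x hxI l a = Submodule.Quotient.mk a - psi I x hxI (l a) := rfl

lemma ker_q_le (l : I →ₗ[R] R ⧸ I) (hl : l ⟨x, hxI⟩ = 1) :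
    LinearMap.ker (q I x) ≤ LinearMap.ker (tR I x hxI l) := by
  intro a ha
  obtain ⟨c, rfl⟩ := mem_ker_q I x hxI a ha
  rw [LinearMap.mem_ker, map_smul, tR_apply, hl]
  have : psi I x hxI 1 = Submodule.Quotient.mk ⟨x, hxI⟩ := by
    have := psi_mk I x hxI 1
    rwa [map_one, one_smul] at this
  rw [this, sub_self, smul_zero]

/-- the section `I' → I/xI` -/
noncomputable def sR (l : I →ₗ[R] R ⧸ I) (hl : l ⟨x, hxI⟩ = 1) : I' I x →ₗ[R] QuotSMulTop x I :=
  descend (q I x) (q_surjective I x) (tR I x hxI l) (ker_q_le I x hxI l hl)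

lemma prR_sR (l : I →ₗ[R] R ⧸ I) (hl : l ⟨x, hxI⟩ = 1) (w : I' I x) :
    prR I x (sR I x hxI l hl w) = w := by
  obtain ⟨a, rfl⟩ := q_surjective I x w
  unfold sR
  rw [descend_apply, tR_apply, map_sub, prR_mk, prR_psi, sub_zero]

/-- `I'` is a retract of `I/xI` over `R/(x)` -/
noncomputable def retr (l : I →ₗ[R] R ⧸ I) (hl : l ⟨x, hxI⟩ = 1) :
    Retract (ModuleCat.of (R' x) (I' I x)) (ModuleCat.of (R' x) (QuotSMulTop x I)) where
  i := ModuleCat.ofHom (LinearMap.extendScalarsOfSurjective (R := R) (S := R' x)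
    Ideal.Quotient.mk_surjective (sR I x hxI l hl))
  r := ModuleCat.ofHom (LinearMap.extendScalarsOfSurjective (R := R) (S := R' x)
    Ideal.Quotient.mk_surjective (prR I x))
  retract := by
    ext w
    exact congrArg Subtype.val (prR_sR I x hxI l hl w)

/-- finite projective dimension passes to `I' ⊆ R/(x)` -/
theorem pd_I' (hR : IsSMulRegular R x) (l : I →ₗ[R] R ⧸ I) (hl : l ⟨x, hxI⟩ = 1) (n : ℕ)
    (h : HasProjectiveDimensionLE (ModuleCat.of R I) n) :
    HasProjectiveDimensionLE (ModuleCat.of (R' x) (I' I x)) n := by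
  have reg : IsSMulRegular I x := hR.submodule _ _
  have h1 := Groth.Agent.Lib.helper26.PDReg.hasProjectiveDimensionLE_quot x hR n I reg h
  exact (retr I x hxI l hl).hasProjectiveDimensionLT (n + 1)

/-- the natural map `R/I → R'/I'` -/
noncomputable def phi : (R ⧸ I) →ₗ[R] (R' x ⧸ I' I x) :=
  Submodule.liftQ I (Algebra.linearMap R (R' x ⧸ I' I x)) (by
    intro a ha
    rw [LinearMap.mem_ker, Algebra.linearMap_apply,
      IsScalarTower.algebraMap_apply R (R' x) (R' x ⧸ I' I x), Ideal.Quotient.algebraMap_eq (I' I x)]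
    exact Ideal.Quotient.eq_zero_iff_mem.mpr (Ideal.mem_map_of_mem _ ha))

lemma phi_mk (c : R) : phi I x (Ideal.Quotient.mk I c) = algebraMap R (R' x ⧸ I' I x) c := by
  unfold phi
  exact Submodule.liftQ_apply _ _ _

lemma phi_one : phi I x 1 = 1 := by
  have h := phi_mk I x 1
  rw [(Ideal.Quotient.mk I).map_one, (algebraMap R (R' x ⧸ I' I x)).map_one] at h
  exact h

/-- descending a functional killing `x` -/
theorem exists_descend (l : I →ₗ[R] R ⧸ I) (hl : l ⟨x, hxI⟩ = 0) :
    ∃ l' : I' I x →ₗ[R' x] (R' x ⧸ I' I x), ∀ a : I, l' (q I x a) = phi I x (l a) := by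
  have hker : LinearMap.ker (q I x) ≤ LinearMap.ker (phi I x ∘ₗ l) := by
    intro a ha
    obtain ⟨c, rfl⟩ := mem_ker_q I x hxI a ha
    rw [LinearMap.mem_ker, map_smul, LinearMap.comp_apply, hl, map_zero, smul_zero]
  let d : I' I x →ₗ[R] (R' x ⧸ I' I x) :=
    descend (q I x) (q_surjective I x) (phi I x ∘ₗ l) hker
  have hd : ∀ a : I, d (q I x a) = phi I x (l a) := fun a =>
    descend_apply (q I x) (q_surjective I x) (phi I x ∘ₗ l) hker a
  have hsurj : Function.Surjective (algebraMap R (R' x)) := Ideal.Quotient.mk_surjective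
  let d' : I' I x →ₗ[R' x] (R' x ⧸ I' I x) :=
    LinearMap.extendScalarsOfSurjective (R := R) (S := R' x) hsurj d
  exact ⟨d', hd⟩

/-- regular sequences: from `R/(x)` back to `R` -/
theorem isRegular_cons (hR : IsSMulRegular R x) (rs : List R)
    (h : RingTheory.Sequence.IsRegular (R' x) (rs.map (Ideal.Quotient.mk (Ideal.span {x})))) :
    RingTheory.Sequence.IsRegular R (x :: rs) := by
  rw [RingTheory.Sequence.isRegular_cons_iff']
  refine ⟨hR, ?_⟩
  have heq : x • (⊤ : Submodule R R) = Ideal.span {x} := by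
    rw [← Submodule.ideal_span_singleton_smul, smul_eq_mul, Ideal.mul_top]
  let e0 : QuotSMulTop x R ≃ₗ[R] R' x := Submodule.quotEquivOfEq _ _ heq
  let e1 : QuotSMulTop x R ≃ₗ[R' x] R' x :=
    e0.extendScalarsOfSurjective Ideal.Quotient.mk_surjective
  exact (e1.isRegular_congr _).mpr h

include hxI in
lemma I'_ne_top (hI : I ≠ ⊤) : I' I x ≠ ⊤ := by
  intro h
  apply hI
  have h1 : (1 : R' x) ∈ I' I x := h ▸ Submodule.mem_top
  obtain ⟨a, ha, ha1⟩ := (Ideal.mem_map_iff_of_surjective (algebraMap R (R' x))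
    Ideal.Quotient.mk_surjective).mp h1
  rw [Ideal.eq_top_iff_one]
  have h2 : a - 1 ∈ Ideal.span {x} := by
    rw [← Ideal.Quotient.eq_zero_iff_mem, map_sub, map_one]
    rw [Ideal.Quotient.algebraMap_eq] at ha1
    rw [ha1, sub_self]
  have h3 : a - 1 ∈ I := (Ideal.span_singleton_le_iff_mem _).mpr hxI h2
  have : (1 : R) = a - (a - 1) := by ring
  rw [this]
  exact I.sub_mem ha h3

lemma exists_lift_sq (w : R' x) (hw : w ∈ (I' I x) ^ 2) :
    ∃ z ∈ I ^ 2, algebraMap R (R' x) z = w := by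
  rw [← Ideal.map_pow] at hw
  exact (Ideal.mem_map_iff_of_surjective (algebraMap R (R' x))
    Ideal.Quotient.mk_surjective).mp hw

end Groth.Agent.Lib.helper20.Vasc2
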