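import Mathlib
import Groth.Agent.Lib.Helper20.Vasc2

/-!
# helper20: Vasconcelos' theorem, elementary form

`regseq_of_functionals`: `R` Noetherian local, `I` a proper ideal of finite projective dimension,
`y_1, …, y_r ∈ I` and functionals `λ_i : I → R/I` with `λ_i (y_j) = δ_ij`.  Then there is a regular
sequence `x_1, …, x_r` with `x_i ≡ y_i mod I^2`.
-/

set_option autoImplicit false
universe u
open CategoryTheory

namespace Groth.Agent.Lib.helper20.Vasc3

open Groth.Agent.Lib.helper20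

theorem regseq_of_functionals (r : ℕ) :
    ∀ (R : Type u) [CommRing R] [IsNoetherianRing R] [IsLocalRing R]
    (I : Ideal R) (_ : I ≠ ⊤) (n : ℕ)
    (_ : HasProjectiveDimensionLT (ModuleCat.of R I) n)
    (y : Fin r → R) (hy : ∀ i, y i ∈ I)
    (lam : Fin r → (I →ₗ[R] R ⧸ I))
    (_ : ∀ i j, lam i ⟨y j, hy j⟩ = if i = j then 1 else 0),
    ∃ x : Fin r → R, (∀ i, x i - y i ∈ I ^ 2) ∧
      RingTheory.Sequence.IsRegular R (List.ofFn x) := by
  induction r with
  | zero =>
    intro R _ _ _ I hI n hpd y hy lam hlam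
    refine ⟨y, fun i => i.elim0, ?_⟩
    rw [List.ofFn_zero]
    exact RingTheory.Sequence.IsRegular.nil R R
  | succ r ih =>
    intro R _ _ _ I hI n hpd y hy lam hlam
    have hnt : Nontrivial (R ⧸ I) := Ideal.Quotient.nontrivial_iff.mpr hI
    have hI0 : I ≠ ⊥ := by
      intro h0
      have h1 := hlam 0 0
      rw [if_pos rfl] at h1
      have h2 : (⟨y 0, hy 0⟩ : I) = 0 := Subtype.ext (by
        have h3 := hy 0
        rw [h0] at h3
        exact Ideal.mem_bot.mp h3)
      rw [h2, map_zero] at h1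
      exact zero_ne_one h1
    obtain ⟨z, hz, hnzd⟩ := Vasc1.exists_nzd_coset I hI0 n hpd (y 0)
    have hzI : z ∈ I := Ideal.pow_le_self two_ne_zero hz
    obtain ⟨x0, hx0⟩ : ∃ x0, x0 = y 0 + z := ⟨_, rfl⟩
    have hx0I : x0 ∈ I := hx0 ▸ I.add_mem (hy 0) hzI
    have hlamx0 : ∀ i, lam i ⟨x0, hx0I⟩ = if i = 0 then 1 else 0 := by
      intro i
      have h1 : (⟨x0, hx0I⟩ : I) = ⟨y 0, hy 0⟩ + ⟨z, hzI⟩ := Subtype.ext hx0
      rw [h1, map_add, hlam, Vasc2.lam_sq I (lam i) z hz hzI, add_zero]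
    have hreg : IsSMulRegular R x0 := by
      rw [hx0]
      exact (isRegular_iff_mem_nonZeroDivisors.mpr hnzd).left.isSMulRegular
    have hx0m : x0 ∈ IsLocalRing.maximalIdeal R := IsLocalRing.le_maximalIdeal hI hx0I
    have hloc : IsLocalRing (Vasc2.R' x0) :=
      Groth.Agent.Lib.helper26.PDReg.isLocalRing_quot x0 hx0m
    have hpd' : HasProjectiveDimensionLE (ModuleCat.of R I) n :=
      hasProjectiveDimensionLT_of_ge _ n (n + 1) (Nat.le_succ n)
    have hpdI' := Vasc2.pd_I' I x0 hx0I hreg (lam 0) (by rw [hlamx0, if_pos rfl]) n hpd'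
    have hdesc : ∀ i : Fin r, ∃ l' : Vasc2.I' I x0 →ₗ[Vasc2.R' x0] (Vasc2.R' x0 ⧸ Vasc2.I' I x0),
        ∀ a : I, l' (Vasc2.q I x0 a) = Vasc2.phi I x0 (lam i.succ a) := fun i =>
      Vasc2.exists_descend I x0 hx0I (lam i.succ) (by
        rw [hlamx0, if_neg (Fin.succ_ne_zero i)])
    choose lam' hlam' using hdesc
    let y' : Fin r → Vasc2.R' x0 := fun i => algebraMap R _ (y i.succ)
    have hy' : ∀ i, y' i ∈ Vasc2.I' I x0 := fun i => Ideal.mem_map_of_mem _ (hy i.succ)
    obtain ⟨x', hx'sq, hx'reg⟩ := ih (Vasc2.R' x0) (Vasc2.I' I x0)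
      (Vasc2.I'_ne_top I x0 hx0I hI) (n + 1) hpdI' y' hy' lam' (by
        intro i j
        have h1 : (⟨y' j, hy' j⟩ : Vasc2.I' I x0) = Vasc2.q I x0 ⟨y j.succ, hy j.succ⟩ := rfl
        rw [h1, hlam', hlam]
        by_cases hij : i = j
        · rw [if_pos hij, if_pos (by rw [hij]), Vasc2.phi_one]
        · rw [if_neg hij, if_neg (by rwa [Fin.succ_inj]), map_zero])
    have hlift : ∀ i : Fin r, ∃ w ∈ I ^ 2, algebraMap R (Vasc2.R' x0) w = x' i - y' i :=
      fun i => Vasc2.exists_lift_sq I x0 _ (hx'sq i)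
    choose w hw hw' using hlift
    refine ⟨Fin.cons x0 (fun i => y i.succ + w i), ?_, ?_⟩
    · intro i
      refine Fin.cases ?_ ?_ i
      · show x0 - y 0 ∈ I ^ 2
        rw [hx0, add_sub_cancel_left]
        exact hz
      · intro j
        show (y j.succ + w j) - y j.succ ∈ I ^ 2
        rw [add_sub_cancel_left]
        exact hw j
    · rw [List.ofFn_succ]
      show RingTheory.Sequence.IsRegular R (x0 :: List.ofFn fun i => y i.succ + w i)
      apply Vasc2.isRegular_cons x0 hreg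
      rw [List.map_ofFn]
      have h2 : (⇑(Ideal.Quotient.mk (Ideal.span {x0})) ∘ fun i => y i.succ + w i) = x' := by
        funext i
        show algebraMap R (Vasc2.R' x0) (y i.succ + w i) = x' i
        rw [map_add, hw' i]
        show y' i + (x' i - y' i) = x' i
        ring
      rw [h2]
      exact hx'reg

end Groth.Agent.Lib.helper20.Vasc3
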