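import Mathlib
import Groth.Agent.Lib.Helper20.Vasc3
import Groth.Agent.Lib.Helper26.ProjDimBaseChange

/-!
# helper20: Vasconcelos' theorem: local form and localization

* `exists_regular_of_projective_cotangent`: `R` Noetherian local, `I` proper of finite projective
  dimension with `I/I^2` projective over `R/I` ⇒ `I` is generated by a regular sequence.
* `pd_map_localization`, `projective_cotangent_map`: the hypotheses localize.
-/

set_option autoImplicit false
universe u
open CategoryTheory TensorProduct

namespace Groth.Agent.Lib.helper20.Vasc4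

open Groth.Agent.Lib.helper20

section local_form

variable {R : Type u} [CommRing R] [IsNoetherianRing R] [IsLocalRing R]

theorem exists_regular_of_projective_cotangent (I : Ideal R) (hI : I ≠ ⊤) (n : ℕ)
    (hpd : HasProjectiveDimensionLT (ModuleCat.of R I) n)
    [Module.Projective (R ⧸ I) I.Cotangent] :
    ∃ rs : List R, RingTheory.Sequence.IsRegular R rs ∧ Ideal.ofList rs = I := by
  classical
  have hnt : Nontrivial (R ⧸ I) := Ideal.Quotient.nontrivial_iff.mpr hI
  have hloc : IsLocalRing (R ⧸ I) :=
    IsLocalRing.of_surjective' (Ideal.Quotient.mk I) Ideal.Quotient.mk_surjective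
  have hfinR : Module.Finite R I.Cotangent :=
    Module.Finite.of_surjective I.toCotangent I.toCotangent_surjective
  have hfin : Module.Finite (R ⧸ I) I.Cotangent := Module.Finite.of_restrictScalars_finite R _ _
  have hflat : Module.Flat (R ⧸ I) I.Cotangent := Module.Flat.of_projective
  have hfree : Module.Free (R ⧸ I) I.Cotangent := Module.free_of_flat_of_isLocalRing
  let b := Module.finBasis (R ⧸ I) I.Cotangent
  let r := Module.finrank (R ⧸ I) I.Cotangent
  have hlift : ∀ i : Fin r, ∃ a : I, I.toCotangent a = b i :=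
    fun i => Ideal.toCotangent_surjective I (b i)
  choose a ha using hlift
  let y : Fin r → R := fun i => (a i : R)
  have hy : ∀ i, y i ∈ I := fun i => (a i).2
  let lam : Fin r → (I →ₗ[R] R ⧸ I) := fun i => ((b.coord i).restrictScalars R) ∘ₗ I.toCotangent
  have hlam : ∀ i j, lam i ⟨y j, hy j⟩ = if i = j then 1 else 0 := by
    intro i j
    have h1 : (⟨y j, hy j⟩ : I) = a j := rfl
    show b.coord i (I.toCotangent ⟨y j, hy j⟩) = _
    rw [h1, ha j, Module.Basis.coord_apply, Module.Basis.repr_self, Finsupp.single_apply]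
    by_cases hij : i = j
    · rw [if_pos hij, if_pos hij.symm]
    · rw [if_neg hij, if_neg (Ne.symm hij)]
  obtain ⟨x, hxy, hreg⟩ := Vasc3.regseq_of_functionals r R I hI n hpd y hy lam hlam
  have hxI : ∀ i, x i ∈ I := by
    intro i
    have h1 : x i = (x i - y i) + y i := by ring
    rw [h1]
    exact I.add_mem (Ideal.pow_le_self two_ne_zero (hxy i)) (hy i)
  have hcot : ∀ i, I.toCotangent ⟨x i, hxI i⟩ = b i := by
    intro i
    rw [← ha i, Ideal.toCotangent_eq]
    exact hxy i
  refine ⟨List.ofFn x, hreg, ?_⟩
  have hset : {t | t ∈ List.ofFn x} = Set.range x := by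
    ext t
    simp [List.mem_ofFn]
  rw [Ideal.ofList, hset]
  apply le_antisymm
  · rw [Ideal.span_le]
    rintro _ ⟨i, rfl⟩
    exact hxI i
  · have hjac : I ≤ (⊥ : Ideal R).jacobson := by
      rw [IsLocalRing.jacobson_eq_maximalIdeal ⊥ bot_ne_top]
      exact IsLocalRing.le_maximalIdeal hI
    refine Submodule.le_of_le_smul_of_le_jacobson_bot (IsNoetherian.noetherian I) hjac ?_
    intro t ht
    -- coordinates of the class of `t`
    have hc : ∀ i, ∃ c : R, Ideal.Quotient.mk I c = b.repr (I.toCotangent ⟨t, ht⟩) i :=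
      fun i => Ideal.Quotient.mk_surjective _
    choose c hc using hc
    have h1 : I.toCotangent ⟨t, ht⟩ = I.toCotangent (∑ i, c i • (⟨x i, hxI i⟩ : I)) := by
      rw [map_sum]
      conv_lhs => rw [← b.sum_repr (I.toCotangent ⟨t, ht⟩)]
      refine Finset.sum_congr rfl fun i _ => ?_
      rw [map_smul, hcot i, ← hc i, ← Ideal.Quotient.algebraMap_eq, algebraMap_smul]
    rw [Ideal.toCotangent_eq] at h1
    have h2 : t = ∑ i, c i * x i + (t - ∑ i, c i * x i) := by ring
    rw [h2]
    refine Submodule.add_mem_sup ?_ ?_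
    · refine Submodule.sum_mem _ fun i _ => ?_
      exact Ideal.mul_mem_left _ _ (Ideal.subset_span ⟨i, rfl⟩)
    · rw [smul_eq_mul, ← pow_two]
      convert h1 using 2
      simp

end local_form

section loc

variable {R : Type u} [CommRing R] (I : Ideal R) (S : Submonoid R) (R' : Type u) [CommRing R']
  [Algebra R R'] [IsLocalization S R']

include S in
theorem pd_map_localization (n : ℕ) (h : HasProjectiveDimensionLE (ModuleCat.of R I) n) :
    HasProjectiveDimensionLE (ModuleCat.of R' (I.map (algebraMap R R'))) n := by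
  have hflat : Module.Flat R R' := IsLocalization.flat R' S
  have h1 := Groth.Agent.Lib.helper26.PDBC.hasProjectiveDimensionLE_baseChange R R' n I h
  have hbc : IsBaseChange R' (Algebra.idealMap R' I) := IsLocalizedModule.isBaseChange S R' _
  exact ModuleCat.hasProjectiveDimensionLE_of_linearEquiv
    (M := ModuleCat.of R' (R' ⊗[R] I)) (N := ModuleCat.of R' (I.map (algebraMap R R')))
    hbc.equiv n

/-- the natural map `R/I → R'/IR'` -/
noncomputable def iota : (R ⧸ I) →ₗ[R] (R' ⧸ I.map (algebraMap R R')) :=
  Submodule.liftQ I (Algebra.linearMap R (R' ⧸ I.map (algebraMap R R'))) (by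
    intro a ha
    rw [LinearMap.mem_ker, Algebra.linearMap_apply,
      IsScalarTower.algebraMap_apply R R' (R' ⧸ I.map (algebraMap R R')),
      Ideal.Quotient.algebraMap_eq]
    exact Ideal.Quotient.eq_zero_iff_mem.mpr (Ideal.mem_map_of_mem _ ha))

lemma iota_mk (c : R) : iota I R' (Ideal.Quotient.mk I c) =
    algebraMap R (R' ⧸ I.map (algebraMap R R')) c := by
  unfold iota
  exact Submodule.liftQ_apply _ _ _

include S in
theorem projective_cotangent_map [Module.Finite (R ⧸ I) I.Cotangent]
    [Module.Projective (R ⧸ I) I.Cotangent] :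
    Module.Projective (R' ⧸ I.map (algebraMap R R')) (I.map (algebraMap R R')).Cotangent := by
  classical
  obtain ⟨J, hJ⟩ : ∃ J : Ideal R', J = I.map (algebraMap R R') := ⟨_, rfl⟩
  have hbc : IsBaseChange R' (Algebra.idealMap R' I) := IsLocalizedModule.isBaseChange S R' _
  obtain ⟨m, f, g, -, -, hfg⟩ := Module.Finite.exists_comp_eq_id_of_projective (R ⧸ I) I.Cotangent
  have hl : ∀ j : Fin m, ∃ a : I, I.toCotangent a = f (fun k => if j = k then 1 else 0) :=
    fun j => Ideal.toCotangent_surjective _ _
  choose a ha using hl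
  let φ : Fin m → (I →ₗ[R] R ⧸ I) := fun j =>
    ((LinearMap.proj j ∘ₗ g).restrictScalars R) ∘ₗ I.toCotangent
  have hφ : ∀ j (b : I), φ j b = g (I.toCotangent b) j := fun j b => rfl
  have hid : ∀ b : I, I.toCotangent b = ∑ j, φ j b • I.toCotangent (a j) := by
    intro b
    have h1 : f (g (I.toCotangent b)) = I.toCotangent b := LinearMap.congr_fun hfg _
    calc I.toCotangent b = f (g (I.toCotangent b)) := h1.symm
      _ = ∑ j, (g (I.toCotangent b)) j • f (fun k => if j = k then 1 else 0) :=
        LinearMap.pi_apply_eq_sum_univ f _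
      _ = ∑ j, φ j b • I.toCotangent (a j) :=
        Finset.sum_congr rfl fun j _ => by rw [ha j, hφ]
  subst hJ
  -- functionals on `J`
  let φ' : Fin m → (I.map (algebraMap R R') →ₗ[R'] R' ⧸ I.map (algebraMap R R')) :=
    fun j => hbc.lift (iota I R' ∘ₗ φ j)
  have hφ' : ∀ j (b : I), φ' j (Algebra.idealMap R' I b) = iota I R' (φ j b) :=
    fun j b => hbc.lift_eq _ b
  let w : Fin m → I.map (algebraMap R R') := fun j => Algebra.idealMap R' I (a j)
  let L2 : I.map (algebraMap R R') →ₗ[R'] (I.map (algebraMap R R')).Cotangent :=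
    ∑ j, (φ' j).smulRight ((I.map (algebraMap R R')).toCotangent (w j))
  have hL : (I.map (algebraMap R R')).toCotangent = L2 := by
    apply hbc.algHom_ext
    intro b
    show _ = (∑ j, (φ' j).smulRight ((I.map (algebraMap R R')).toCotangent (w j)))
      (Algebra.idealMap R' I b)
    rw [LinearMap.sum_apply]
    simp only [LinearMap.smulRight_apply, hφ']
    have hc : ∀ j, ∃ c : R, Ideal.Quotient.mk I c = φ j b := fun j => Ideal.Quotient.mk_surjective _
    choose c hc using hc
    have h2 : I.toCotangent b = I.toCotangent (∑ j, c j • a j) := by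
      rw [map_sum, hid b]
      refine Finset.sum_congr rfl fun j _ => ?_
      rw [map_smul, ← hc j, ← Ideal.Quotient.algebraMap_eq, algebraMap_smul]
    rw [Ideal.toCotangent_eq] at h2
    have h3 : algebraMap R R' ((b : R) - ((∑ j, c j • a j : I) : R)) ∈
        (I.map (algebraMap R R')) ^ 2 := by
      rw [← Ideal.map_pow]
      exact Ideal.mem_map_of_mem _ h2
    have h4 : (I.map (algebraMap R R')).toCotangent (Algebra.idealMap R' I b) =
        (I.map (algebraMap R R')).toCotangent (Algebra.idealMap R' I (∑ j, c j • a j)) := by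
      rw [Ideal.toCotangent_eq]
      have : ((Algebra.idealMap R' I b : I.map (algebraMap R R')) : R') -
          ((Algebra.idealMap R' I (∑ j, c j • a j) : I.map (algebraMap R R')) : R') =
          algebraMap R R' ((b : R) - ((∑ j, c j • a j : I) : R)) := by
        rw [map_sub]
        rfl
      rw [this]
      exact h3
    rw [h4, map_sum, map_sum]
    refine Finset.sum_congr rfl fun j _ => ?_
    rw [map_smul (Algebra.idealMap R' I), ← hc j, iota_mk,
      IsScalarTower.algebraMap_apply R R' (R' ⧸ I.map (algebraMap R R')), algebraMap_smul,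
      algebraMap_smul]
    exact (I.map (algebraMap R R')).toCotangent.map_smul_of_tower (c j) _
  have hid' : ∀ v : I.map (algebraMap R R'), (I.map (algebraMap R R')).toCotangent v =
      ∑ j, φ' j v • (I.map (algebraMap R R')).toCotangent (w j) := by
    intro v
    have := LinearMap.congr_fun hL v
    rw [this]
    show (∑ j, (φ' j).smulRight ((I.map (algebraMap R R')).toCotangent (w j))) v = _
    rw [LinearMap.sum_apply]
    rfl
  let f' : (Fin m → R' ⧸ I.map (algebraMap R R')) →ₗ[R' ⧸ I.map (algebraMap R R')]
      (I.map (algebraMap R R')).Cotangent :=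
    Fintype.linearCombination (R' ⧸ I.map (algebraMap R R'))
      (fun j => (I.map (algebraMap R R')).toCotangent (w j))
  let G0 : I.map (algebraMap R R') →ₗ[R'] (Fin m → R' ⧸ I.map (algebraMap R R')) :=
    LinearMap.pi φ'
  have hG0 : ∀ x y : I.map (algebraMap R R'), G0 (x * y) = 0 := by
    intro x y
    funext j
    show φ' j (x * y) = 0
    have h1 : x * y = (x : R') • y := Subtype.ext rfl
    rw [h1, map_smul, Algebra.smul_def, Ideal.Quotient.algebraMap_eq,
      Ideal.Quotient.eq_zero_iff_mem.mpr x.2, zero_mul]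
  let G1 : (I.map (algebraMap R R')).Cotangent →ₗ[R'] (Fin m → R' ⧸ I.map (algebraMap R R')) :=
    Ideal.Cotangent.lift G0 hG0
  let g' : (I.map (algebraMap R R')).Cotangent →ₗ[R' ⧸ I.map (algebraMap R R')]
      (Fin m → R' ⧸ I.map (algebraMap R R')) :=
    LinearMap.extendScalarsOfSurjective (R := R') Ideal.Quotient.mk_surjective G1
  have hcomp : f' ∘ₗ g' = LinearMap.id := by
    ext v
    obtain ⟨v, rfl⟩ := (I.map (algebraMap R R')).toCotangent_surjective v
    show f' (G1 ((I.map (algebraMap R R')).toCotangent v)) = _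
    rw [Ideal.Cotangent.lift_toCotangent, Fintype.linearCombination_apply, hid' v]
    rfl
  exact Module.Projective.of_split g' f' hcomp

end loc

end Groth.Agent.Lib.helper20.Vasc4
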