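import Mathlib
import Groth.Prelude.Def_Coh
import Groth.Prelude.Def_CohTop
import Groth.Agent.Lib.Helper18.HHPush
import Groth.Agent.Lib.Helper23.ClosedEmb

/-!
# Cohomology and closed immersions, for arbitrary modules (helper20)

`pushEquivAddClosed ι M p : H^p(S, ι_* M) ≃+ H^p(X, M)` for a closed immersion `ι : X ⟶ S` and ANY
`O_X`-module `M` (no quasi-coherence), `subsingleton_iff_push_closed`.
-/

set_option autoImplicit false

universe u

open CategoryTheory Limits AlgebraicGeometry Opposite TopologicalSpace Abelian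

namespace Groth.Agent.Lib.Helper20.ClosedImmHH

open Groth.Agent.Lib.helper27 Groth.Agent.Lib.Helper18.HH

variable {X S : Scheme.{u}} (ι : X ⟶ S) [IsClosedImmersion ι] (M : X.Modules)

lemma acyclic_push_closed (i : ℕ) (hi : 0 < i) :
    IsZero (((CohTop.push ι.base).rightDerived i).obj (Coh.toAb M)) := by
  obtain ⟨j, rfl⟩ : ∃ j, i = j + 1 := ⟨i - 1, by omega⟩
  exact Groth.Agent.Lib.helper23.ClosedEmb.isZero_Rpush_succ ι.base
    ι.isClosedEmbedding (Coh.toAb M) j

/-- `H^p(S, ι_* M) ≃+ H^p(X, M)` for a closed immersion `ι` and any module `M` -/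
noncomputable def pushEquivAddClosed (p : ℕ) : Coh.HH S ((Coh.push ι).obj M) p ≃+ Coh.HH X M p :=
  (ExtAdj.extAddEquiv.{u, u} (PullConst.pbAdj ι.base) (ZZ' S) (Coh.toAb M)
      (acyclic_push_closed ι M) p).trans
    (ExtAdj.extIsoLeft.{u} ((PullConst.pullConstIso ι.base).app (AddCommGrpCat.of (ULift ℤ)))
      (Coh.toAb M) p)

lemma subsingleton_iff_push_closed (p : ℕ) :
    Subsingleton (Coh.HH X M p) ↔ Subsingleton (Coh.HH S ((Coh.push ι).obj M) p) :=
  (pushEquivAddClosed ι M p).symm.toEquiv.subsingleton_congr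

end Groth.Agent.Lib.Helper20.ClosedImmHH
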