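import Mathlib
import Groth.Agent.Lib.Helper8.SchemeSupport
import Groth.Agent.Lib.Helper8.DimLt
import Groth.Agent.Lib.Helper3.ProperIsolDim
import Groth.Agent.Lib.Lead.GrothVanish
import Groth.Agent.Lib.Helper20.ClosedImmHH
import Groth.Agent.Lib.Helper25.StalkExact
import Groth.Agent.Lib.Helper7.CohKer
import Groth.Agent.Lib.Helper21.ExtStalk
import Groth.Agent.Lib.Helper20.TwistEquivPn
import Groth.Agent.Lib.Helper20.DualDev

/-!
# Vanishing of cohomology above the dimension of the support; maps vanishing near generic points (helper20)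

* `dim_lt_of_no_generic`: in a quasi-sober space whose irreducible components have dimension `≤ r`, a closed
  subset containing no generic point of an irreducible component has dimension `< r`.
* `subsingleton_HH_of_dim_support_le`: `H^i(X, E) = 0` for `E` coherent with `dim Supp E ≤ d < i`.
-/

set_option autoImplicit false

universe u

open CategoryTheory Limits AlgebraicGeometry TopologicalSpace

namespace Groth.Agent.Lib.Helper20.GenericZero

section Top

lemma le_of_add_one_le_succ {a : WithBot ℕ∞} {r : ℕ}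
    (h : a + 1 ≤ ((r + 1 : ℕ) : WithBot ℕ∞)) : a ≤ (r : WithBot ℕ∞) := by
  induction a using WithBot.recBotCoe with
  | bot => exact bot_le
  | coe y =>
    induction y using ENat.recTopCoe with
    | top =>
      exfalso
      have h1 : ((⊤ : ℕ∞) : WithBot ℕ∞) + 1 = ((⊤ : ℕ∞) : WithBot ℕ∞) := by
        rw [← WithBot.coe_one, ← WithBot.coe_add, top_add]
      rw [h1] at h
      have h2 : ((⊤ : ℕ∞) : WithBot ℕ∞) ≤ (((r + 1 : ℕ) : ℕ∞) : WithBot ℕ∞) := by exact_mod_cast h
      rw [WithBot.coe_le_coe] at h2
      exact absurd h2 (by simp)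
    | coe n =>
      have h2 : ((n + 1 : ℕ) : WithBot ℕ∞) ≤ ((r + 1 : ℕ) : WithBot ℕ∞) := by exact_mod_cast h
      have h3 : n + 1 ≤ r + 1 := by exact_mod_cast h2
      exact_mod_cast (show n ≤ r by omega)

lemma eq_bot_of_add_one_le_zero {a : WithBot ℕ∞}
    (h : a + 1 ≤ ((0 : ℕ) : WithBot ℕ∞)) : a = ⊥ := by
  induction a using WithBot.recBotCoe with
  | bot => rfl
  | coe y =>
    exfalso
    have h1 : ((y + 1 : ℕ∞) : WithBot ℕ∞) ≤ ((0 : ℕ∞) : WithBot ℕ∞) := by exact_mod_cast h
    rw [WithBot.coe_le_coe] at h1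
    simp at h1

/-- the irreducible components of a closed subset containing no generic point of an irreducible
component have smaller dimension -/
theorem dim_component_add_one_le_of_no_generic {T : Type u} [TopologicalSpace T] [QuasiSober T]
    (r : ℕ)
    (heq : ∀ C ∈ irreducibleComponents T, topologicalKrullDim ↥C ≤ (r : WithBot ℕ∞))
    (Z : Set T) (hZ : IsClosed Z)
    (hgen : ∀ x : T, closure ({x} : Set T) ∈ irreducibleComponents T → x ∉ Z) :
    ∀ W ∈ irreducibleComponents ↥Z, topologicalKrullDim ↥W + 1 ≤ (r : WithBot ℕ∞) := by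
  intro W hW
  have hWirr : IsIrreducible W := hW.1
  have hWcl : IsClosed W := isClosed_of_mem_irreducibleComponents W hW
  let W' : Set T := Subtype.val '' W
  have hW'irr : IsIrreducible W' := hWirr.image _ continuous_subtype_val.continuousOn
  have hW'cl : IsClosed W' := (hZ.isClosedEmbedding_subtypeVal.isClosedMap) W hWcl
  have hW'Z : W' ⊆ Z := by
    rintro _ ⟨w, -, rfl⟩
    exact w.2
  obtain ⟨C, hC, hWC, hmax⟩ := exists_preirreducible W' hW'irr.isPreirreducible
  obtain ⟨z, hz⟩ := hW'irr.nonempty
  have hCirr : IsIrreducible C := ⟨⟨z, hWC hz⟩, hC⟩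
  have hCmem : C ∈ irreducibleComponents T := by
    rw [irreducibleComponents, Set.mem_ofPred_eq]
    exact ⟨hCirr, fun u hu hCu => (hmax u hu.isPreirreducible hCu).le⟩
  have hCcl : IsClosed C := isClosed_of_mem_irreducibleComponents C hCmem
  obtain ⟨ξ, hξ⟩ := QuasiSober.sober hCirr hCcl
  have hξC : closure ({ξ} : Set T) = C := hξ
  have hξZ : ξ ∉ Z := hgen ξ (by rw [hξC]; exact hCmem)
  have hne : W' ≠ C := by
    intro h
    apply hξZ
    apply hW'Z
    rw [h, ← hξC]
    exact subset_closure rfl
  have h1 := Groth.Agent.Lib.helper8.DimLt.topologicalKrullDim_add_one_le hWC hW'cl hCirr hne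
  have h2 : topologicalKrullDim ↥W ≤ topologicalKrullDim ↥W' := by
    let g : ↥W → ↥W' := fun w => ⟨w.1.1, ⟨w.1, w.2, rfl⟩⟩
    have hg : Topology.IsInducing g := by
      have h3 : Topology.IsInducing (fun w : ↥W => (w.1.1 : T)) :=
        Topology.IsInducing.subtypeVal.comp Topology.IsInducing.subtypeVal
      have hgc : Continuous g :=
        (continuous_subtype_val.comp continuous_subtype_val).subtype_mk _
      exact Topology.IsInducing.of_comp (f := g) (g := Subtype.val) hgc
        continuous_subtype_val h3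
    exact hg.topologicalKrullDim_le
  exact (add_le_add_left h2 1).trans (h1.trans (heq C hCmem))

theorem dim_le_bot_of_no_generic_zero {T : Type u} [TopologicalSpace T] [QuasiSober T]
    (heq : ∀ C ∈ irreducibleComponents T, topologicalKrullDim ↥C ≤ ((0 : ℕ) : WithBot ℕ∞))
    (Z : Set T) (hZ : IsClosed Z)
    (hgen : ∀ x : T, closure ({x} : Set T) ∈ irreducibleComponents T → x ∉ Z) :
    topologicalKrullDim ↥Z ≤ ⊥ :=
  Groth.Agent.Lib.helper3.ProperIsolDim.dim_le_of_irreducibleComponents ⊥
    (fun W hW => (eq_bot_of_add_one_le_zero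
      (dim_component_add_one_le_of_no_generic 0 heq Z hZ hgen W hW)).le)

theorem dim_le_of_no_generic_succ {T : Type u} [TopologicalSpace T] [QuasiSober T] (r' : ℕ)
    (heq : ∀ C ∈ irreducibleComponents T, topologicalKrullDim ↥C ≤ ((r' + 1 : ℕ) : WithBot ℕ∞))
    (Z : Set T) (hZ : IsClosed Z)
    (hgen : ∀ x : T, closure ({x} : Set T) ∈ irreducibleComponents T → x ∉ Z) :
    topologicalKrullDim ↥Z ≤ (r' : WithBot ℕ∞) :=
  Groth.Agent.Lib.helper3.ProperIsolDim.dim_le_of_irreducibleComponents _
    (fun W hW => le_of_add_one_le_succ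
      (dim_component_add_one_le_of_no_generic (r' + 1) heq Z hZ hgen W hW))

/-- a closed subset containing no generic point of an irreducible component has smaller dimension -/
theorem dim_lt_of_no_generic {T : Type u} [TopologicalSpace T] [QuasiSober T] (r : ℕ)
    (heq : ∀ C ∈ irreducibleComponents T, topologicalKrullDim ↥C ≤ (r : WithBot ℕ∞))
    (Z : Set T) (hZ : IsClosed Z)
    (hgen : ∀ x : T, closure ({x} : Set T) ∈ irreducibleComponents T → x ∉ Z) :
    topologicalKrullDim ↥Z < (r : WithBot ℕ∞) := by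
  cases r with
  | zero =>
    exact lt_of_le_of_lt (dim_le_bot_of_no_generic_zero heq Z hZ hgen) (WithBot.bot_lt_coe _)
  | succ r' =>
    refine lt_of_le_of_lt (dim_le_of_no_generic_succ r' heq Z hZ hgen) ?_
    exact_mod_cast Nat.lt_succ_self r'

lemma isEmpty_of_topologicalKrullDim_le_bot {T : Type u} [TopologicalSpace T]
    (h : topologicalKrullDim T ≤ ⊥) : IsEmpty T := by
  by_contra hne
  rw [not_isEmpty_iff] at hne
  obtain ⟨x⟩ := hne
  have : Nonempty (IrreducibleCloseds T) :=
    ⟨⟨closure {x}, isIrreducible_singleton.closure, isClosed_closure⟩⟩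
  have h1 := Order.krullDim_nonneg (α := IrreducibleCloseds T)
  unfold topologicalKrullDim at h
  exact absurd (h1.trans h) (by simp)

end Top

section Support

open Groth.Agent.Lib.helper8.SchemeSupport

/-- `H^i(X, E) = 0` for a coherent module `E` whose support lies in a subset of dimension `< i` -/
theorem subsingleton_HH_of_dim_support_le {X : Scheme.{u}} [CompactSpace X] [QuasiSeparatedSpace X]
    (E : X.Modules) (hE : Coh.IsCoh E) (Z : Set X) (hZ : CohB1.support E ⊆ Z) (d : ℕ)
    (hd : topologicalKrullDim ↥Z ≤ (d : WithBot ℕ∞)) (i : ℕ) (hi : d < i) :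
    Subsingleton (Coh.HH X E i) := by
  have : E.IsQuasicoherent := hE.1
  let J := annIdeal E hE.2
  let j := J.subschemeι
  have := isIso_unit_annIdeal E hE.2
  let e : E ≅ (Scheme.Modules.pushforward j).obj ((Scheme.Modules.pullback j).obj E) :=
    asIso ((Scheme.Modules.pullbackPushforwardAdjunction j).unit.app E)
  have : CompactSpace J.subscheme := QuasiCompact.compactSpace_of_compactSpace j
  have : QuasiSeparatedSpace J.subscheme := quasiSeparatedSpace_of_quasiSeparated j
  have hdim : topologicalKrullDim J.subscheme ≤ (d : WithBot ℕ∞) := by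
    have hrange : ∀ y : J.subscheme, j y ∈ Z := by
      intro y
      apply hZ
      have h1 : j y ∈ Set.range j := ⟨y, rfl⟩
      rw [Scheme.IdealSheafData.range_subschemeι, annIdeal_support] at h1
      exact h1
    let g : J.subscheme → ↥Z := fun y => ⟨j y, hrange y⟩
    have hjind : Topology.IsInducing j := j.isEmbedding.isInducing
    have hgc : Continuous g := j.continuous.subtype_mk _
    have hg : Topology.IsInducing g :=
      Topology.IsInducing.of_comp (f := g) (g := Subtype.val) hgc continuous_subtype_val hjind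
    exact hg.topologicalKrullDim_le.trans hd
  have h1 : Subsingleton (Coh.HH J.subscheme ((Scheme.Modules.pullback j).obj E) i) :=
    Groth.Agent.Lib.Lead.GrothVanish.subsingleton_HH_of_dim_le J.subscheme d hdim _ i hi
  have h2 : Subsingleton (Coh.HH X ((Coh.push j).obj ((Scheme.Modules.pullback j).obj E)) i) :=
    (Groth.Agent.Lib.Helper20.ClosedImmHH.subsingleton_iff_push_closed j _ i).mp h1
  exact Groth.Agent.Lib.Helper20.TwistEquivPn.subsingleton_of_iso e.symm i h2

end Support

section Stalk

open Groth.Agent.Lib.Helper25.StalkExact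

/-- a morphism vanishing on an open `U` has zero stalk maps at the points of `U` -/
lemma stalk_map_eq_zero_of_restrict {X : Scheme.{u}} {F G : X.Modules} (φ : F ⟶ G) (U : X.Opens)
    (h : (Scheme.Modules.restrictFunctor U.ι).map φ = 0) (y : X) (hy : y ∈ U) :
    (DerSch.stalkFunctor X y).map φ = 0 := by
  ext m
  obtain ⟨V, hyV, s, rfl⟩ := F.presheaf.exists_germ_eq (x := y) m
  let W : X.Opens := U.ι ''ᵁ (U.ι ⁻¹ᵁ V)
  have hWV : W ≤ V := by
    rintro _ ⟨z, hz, rfl⟩
    exact hz
  have hyW : y ∈ W := ⟨⟨y, hy⟩, hyV, rfl⟩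
  have h1 : F.presheaf.germ V y hyV s =
      F.presheaf.germ W y hyW (F.presheaf.map (homOfLE hWV).op s) :=
    (TopCat.Presheaf.germ_res_apply F.presheaf (homOfLE hWV) y hyW s).symm
  have h2 : φ.app W = 0 := by
    have h3 : ((Scheme.Modules.restrictFunctor U.ι).map φ).app (U.ι ⁻¹ᵁ V) = φ.app W := rfl
    rw [← h3, h]
    rfl
  rw [h1]
  change (DerSch.stalkFunctor X y).map φ (F.presheaf.germ W y hyW _) = 0
  rw [DerSch.stalkFunctor_map_germ, h2]
  exact map_zero _

end Stalk

section Image

open Groth.Agent.Lib.Helper25.StalkExact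

/-- if the stalk map of `φ` at `y` vanishes, then `y` is not in the support of the image of `φ` -/
lemma subsingleton_stalk_image {X : Scheme.{u}} {F G : X.Modules} (φ : F ⟶ G) (y : X)
    (h : (DerSch.stalkFunctor X y).map φ = 0) :
    Subsingleton ((Abelian.image φ).presheaf.stalk y) := by
  have h1 : (DerSch.stalkFunctor X y).map (Abelian.factorThruImage φ) ≫
      (DerSch.stalkFunctor X y).map (Abelian.image.ι φ) = 0 := by
    rw [← Functor.map_comp, Abelian.image.fac, h]
  have h2 : (DerSch.stalkFunctor X y).map (Abelian.factorThruImage φ) = 0 := by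
    rw [← cancel_mono ((DerSch.stalkFunctor X y).map (Abelian.image.ι φ)), h1, zero_comp]
  have h3 : IsZero ((DerSch.stalkFunctor X y).obj (Abelian.image φ)) :=
    IsZero.of_epi_eq_zero _ h2
  exact ModuleCat.subsingleton_of_isZero h3

lemma isCoh_image {X : Scheme.{u}} {F G : X.Modules} (hF : Coh.IsCoh F) (hG : G.IsQuasicoherent)
    (φ : F ⟶ G) : Coh.IsCoh (Abelian.image φ) := by
  have : F.IsQuasicoherent := hF.1
  have : (cokernel φ).IsQuasicoherent :=
    Groth.Agent.Lib.helper7.CohKer.isQuasicoherent_cokernel φ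
  exact ⟨Groth.Agent.Lib.helper7.CohKer.isQuasicoherent_kernel (cokernel.π φ),
    Groth.Agent.Lib.helper7.CohKer.isFiniteType_of_epi (Abelian.factorThruImage φ) hF.2⟩

end Image

section Main

open Groth.Agent.Lib.helper8.SchemeSupport Groth.Agent.Lib.Helper20.DualDev
  Groth.Agent.Lib.Helper18.HH

/-- a map to a dualizing module whose stalk maps at the generic points vanish is zero -/
theorem eq_zero_of_stalk_zero_at_generic (k : Type u) [Field k] {X : Scheme.{u}}
    [X.Over (Spec (CommRingCat.of k))] [CompactSpace X] [QuasiSeparatedSpace X] (r : ℕ)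
    (heq : ∀ C ∈ irreducibleComponents X, topologicalKrullDim ↥C ≤ (r : WithBot ℕ∞))
    (ω : X.Modules) (hω : ω.IsQuasicoherent) (t : Coh.HH X ω r →ₗ[k] k)
    (F : X.Modules) (hF : Coh.IsCoh F) (hinj : Function.Injective (Φ k t F)) (φ : F ⟶ ω)
    (hφ : ∀ x : X, closure ({x} : Set X) ∈ irreducibleComponents X →
      (DerSch.stalkFunctor X x).map φ = 0) : φ = 0 := by
  have hE : Coh.IsCoh (Abelian.image φ) := isCoh_image hF hω φ
  have : (Abelian.image φ).IsQuasicoherent := hE.1
  have hZcl : IsClosed (CohB1.support (Abelian.image φ)) := by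
    have h1 := annIdeal_support (Abelian.image φ) hE.2
    have h2 : CohB1.support (Abelian.image φ) = ((annIdeal (Abelian.image φ) hE.2).support : Set X) :=
      h1.symm
    rw [h2]
    exact (annIdeal (Abelian.image φ) hE.2).support.isClosed
  have hgen : ∀ x : X, closure ({x} : Set X) ∈ irreducibleComponents X →
      x ∉ CohB1.support (Abelian.image φ) := by
    intro x hx hmem
    exact hmem (subsingleton_stalk_image φ x (hφ x hx))
  have hfac : Abelian.factorThruImage φ ≫ Abelian.image.ι φ = φ := Abelian.image.fac φ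
  cases r with
  | zero =>
    have h1 := dim_le_bot_of_no_generic_zero heq _ hZcl hgen
    have h2 := isEmpty_of_topologicalKrullDim_le_bot h1
    have h3 : IsZero (Abelian.image φ) := by
      rw [Groth.Agent.Lib.helper21.ExtStalk.isZero_iff_forall_subsingleton_stalk]
      intro x
      by_contra hx
      exact h2.false ⟨x, hx⟩
    rw [← hfac, h3.eq_of_tgt (Abelian.factorThruImage φ) 0, zero_comp]
  | succ r' =>
    have h1 := dim_le_of_no_generic_succ r' heq _ hZcl hgen
    have h2 : Subsingleton (Coh.HH X (Abelian.image φ) (r' + 1)) :=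
      subsingleton_HH_of_dim_support_le _ hE _ (le_refl _) r' h1 (r' + 1) (Nat.lt_succ_self r')
    apply hinj
    rw [Φ_zero, ← hfac, Φ_comp]
    ext x
    simp only [LinearMap.comp_apply, LinearMap.zero_apply]
    rw [Subsingleton.elim (mapOver k (Abelian.factorThruImage φ) (r' + 1) x) 0, _root_.map_zero]

/-- **a map to a dualizing module vanishing near the generic points is zero** -/
theorem eq_zero_of_zero_near_generic (k : Type u) [Field k] {X : Scheme.{u}}
    [X.Over (Spec (CommRingCat.of k))] [CompactSpace X] [QuasiSeparatedSpace X] (r : ℕ)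
    (heq : ∀ C ∈ irreducibleComponents X, topologicalKrullDim ↥C ≤ (r : WithBot ℕ∞))
    (ω : X.Modules) (hω : ω.IsQuasicoherent) (t : Coh.HH X ω r →ₗ[k] k)
    (F : X.Modules) (hF : Coh.IsCoh F) (hinj : Function.Injective (Φ k t F)) (φ : F ⟶ ω)
    (hφ : ∀ x : X, closure ({x} : Set X) ∈ irreducibleComponents X →
      ∃ U : X.Opens, x ∈ U ∧ (Scheme.Modules.restrictFunctor U.ι).map φ = 0) : φ = 0 := by
  refine eq_zero_of_stalk_zero_at_generic k r heq ω hω t F hF hinj φ (fun x hx => ?_)
  obtain ⟨U, hxU, hU⟩ := hφ x hx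
  exact stalk_map_eq_zero_of_restrict φ U hU x hxU

end Main

end Groth.Agent.Lib.Helper20.GenericZero
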