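import Mathlib
import Groth.Prelude.Def_ModSite2
import Groth.Agent.Lib.Lead.ModTensor
import Groth.Agent.Lib.Helper25.PushProj
import Groth.Agent.Lib.Helper12.TensorInvLocal
import Groth.Agent.Lib.Helper16.PushColim3
import Groth.Agent.Lib.Helper8.RpushClosed

/-!
# `ℋom(ι_* O_X, -) ≅ ι_* ι^!` for a closed immersion `ι : X ⟶ P` (helper20)

* `tensorPushIso ι : (- ⊗ ι_* O_X) ≅ ι^* ⋙ ι_*` (from helper25's projection formula for arbitrary
  modules);
* `shriek ι`, `shriekAdj ι : ι_* ⊣ ι^!` (the abstract right adjoint of `ι_*`);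
* `sheafHomPushIso ι : ℋom(ι_* O_X, -) ≅ ι^! ⋙ ι_*`.
-/

set_option autoImplicit false
set_option backward.isDefEq.respectTransparency false
set_option linter.unusedSectionVars false

universe u

open CategoryTheory Limits AlgebraicGeometry Opposite MonoidalCategory

namespace Groth.Agent.Lib.Helper20.ClosedImmAdj

open Groth.Agent.Lib.Lead.ModTensor Groth.Agent.Lib.helper12.PullTensor
  Groth.Agent.Lib.helper12.TensorInvLocal Groth.Agent.Lib.Helper25.PushProj

section Tensor

variable {X : Scheme.{u}}

/-- naturality of the symmetry -/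
lemma braid_naturality {A A' B B' : X.Modules} (a : A ⟶ A') (b : B ⟶ B') :
    tensorMap a b ≫ (braid A' B').hom = (braid A B).hom ≫ tensorMap b a := by
  apply tensorMod_hom_ext
  intro U x y
  change ((braid A' B').hom.val.app (op U)).hom (((tensorMap a b).val.app (op U)).hom _) =
    ((tensorMap b a).val.app (op U)).hom (((braid A B).hom.val.app (op U)).hom _)
  rw [tensorMap_tmul, braid_tmul, braid_tmul, tensorMap_tmul]

/-- naturality of the left unitor -/
lemma leftUnitor_naturality {M M' : X.Modules} (g : M ⟶ M') :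
    tensorMap (𝟙 (Coh.structureModule X)) g ≫ (Lead.ModTensor.leftUnitor M').hom =
      (Lead.ModTensor.leftUnitor M).hom ≫ g := by
  have h1 : ((V X).map (𝟙 (Coh.structureModule X)) ⊗ₘ (V X).map g) ≫ (λ_ (CohB1.toPMod M')).hom =
      (λ_ (CohB1.toPMod M)).hom ≫ (V X).map g := by
    rw [(V X).map_id, MonoidalCategory.id_tensorHom]
    exact MonoidalCategory.leftUnitor_naturality ((V X).map g)
  have h2 : (L X).map ((V X).map g) ≫ (counitIso M').hom = (counitIso M).hom ≫ g :=
    (adj X).counit.naturality g
  show (L X).map ((V X).map (𝟙 (Coh.structureModule X)) ⊗ₘ (V X).map g) ≫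
      ((L X).map (λ_ (CohB1.toPMod M')).hom ≫ (counitIso M').hom) =
    ((L X).map (λ_ (CohB1.toPMod M)).hom ≫ (counitIso M).hom) ≫ g
  rw [← Category.assoc, ← (L X).map_comp, h1, (L X).map_comp, Category.assoc, h2, Category.assoc]

end Tensor

variable {X P : Scheme.{u}} (ι : X ⟶ P) [IsClosedImmersion ι]

/-- the components of `tensorPushIso` -/
noncomputable def tensorPushApp (N : P.Modules) :
    CohB1.tensorMod N ((Scheme.Modules.pushforward ι).obj (Coh.structureModule X)) ≅
      (Scheme.Modules.pushforward ι).obj ((Scheme.Modules.pullback ι).obj N) :=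
  haveI := isIso_projHom ι (Coh.structureModule X) N
  braid N ((Scheme.Modules.pushforward ι).obj (Coh.structureModule X)) ≪≫
    asIso (projHom ι (Coh.structureModule X) N) ≪≫
    (Scheme.Modules.pushforward ι).mapIso
      (Lead.ModTensor.leftUnitor ((Scheme.Modules.pullback ι).obj N))

lemma tensorPushApp_hom (N : P.Modules) :
    (tensorPushApp ι N).hom =
      (braid N ((Scheme.Modules.pushforward ι).obj (Coh.structureModule X))).hom ≫
        projHom ι (Coh.structureModule X) N ≫
        (Scheme.Modules.pushforward ι).map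
          (Lead.ModTensor.leftUnitor ((Scheme.Modules.pullback ι).obj N)).hom := rfl

lemma tensorPushApp_naturality {N N' : P.Modules} (b : N ⟶ N') :
    tensorMap b (𝟙 ((Scheme.Modules.pushforward ι).obj (Coh.structureModule X))) ≫
        (tensorPushApp ι N').hom =
      (tensorPushApp ι N).hom ≫
        (Scheme.Modules.pushforward ι).map ((Scheme.Modules.pullback ι).map b) := by
  rw [tensorPushApp_hom, tensorPushApp_hom, ← Category.assoc, braid_naturality, Category.assoc]
  have h1 := projHom_naturality ι (𝟙 (Coh.structureModule X)) b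
  rw [(Scheme.Modules.pushforward ι).map_id] at h1
  rw [← Category.assoc (tensorMap _ _), h1]
  simp only [Category.assoc]
  rw [← (Scheme.Modules.pushforward ι).map_comp, ← (Scheme.Modules.pushforward ι).map_comp,
    leftUnitor_naturality]

/-- the components of `tensorPushIso`, with the functorial types -/
noncomputable def tensorPushApp' (N : P.Modules) :
    ((ModSite.tensorBi P.sheaf).flip.obj
        ((Scheme.Modules.pushforward ι).obj (Coh.structureModule X))).obj N ≅
      (Scheme.Modules.pullback ι ⋙ Scheme.Modules.pushforward ι).obj N :=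
  tensorPushApp ι N

lemma tensorPushApp'_naturality {N N' : P.Modules} (b : N ⟶ N') :
    ((ModSite.tensorBi P.sheaf).flip.obj
        ((Scheme.Modules.pushforward ι).obj (Coh.structureModule X))).map b ≫
        (tensorPushApp' ι N').hom =
      (tensorPushApp' ι N).hom ≫
        (Scheme.Modules.pullback ι ⋙ Scheme.Modules.pushforward ι).map b :=
  tensorPushApp_naturality ι b

/-- `N ⊗ ι_* O_X ≅ ι_* ι^* N`, naturally in `N` -/
noncomputable def tensorPushIso :
    (ModSite.tensorBi P.sheaf).flip.obj
        ((Scheme.Modules.pushforward ι).obj (Coh.structureModule X)) ≅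
      Scheme.Modules.pullback ι ⋙ Scheme.Modules.pushforward ι :=
  NatIso.ofComponents (fun N => tensorPushApp' ι N)
    (fun {N N'} b => tensorPushApp'_naturality ι b)

/-- `ι_*` is a left adjoint -/
instance isLeftAdjoint_pushforward : (Scheme.Modules.pushforward ι).IsLeftAdjoint :=
  Groth.Agent.Lib.helper16.PushColim.isLeftAdjoint_pushforward ι

/-- `ι^!`, the right adjoint of `ι_*` -/
noncomputable def shriek : P.Modules ⥤ X.Modules := (Scheme.Modules.pushforward ι).rightAdjoint

/-- the adjunction `ι_* ⊣ ι^!` -/
noncomputable def shriekAdj : Scheme.Modules.pushforward ι ⊣ shriek ι :=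
  Adjunction.ofIsLeftAdjoint _

/-- `ℋom(ι_* O_X, -) ≅ ι^! ⋙ ι_*` -/
noncomputable def sheafHomPushIso
    [ModSite.HasSheafHom (O := P.sheaf)
      ((Scheme.Modules.pushforward ι).obj (Coh.structureModule X))] :
    ModSite.sheafHom (O := P.sheaf) ((Scheme.Modules.pushforward ι).obj (Coh.structureModule X)) ≅
      shriek ι ⋙ Scheme.Modules.pushforward ι :=
  conjugateIsoEquiv (ModSite.sheafHomAdj (O := P.sheaf) _)
    ((Scheme.Modules.pullbackPushforwardAdjunction ι).comp (shriekAdj ι)) (tensorPushIso ι).symm

end Groth.Agent.Lib.Helper20.ClosedImmAdj
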