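import Mathlib
import Groth.Agent.Lib.Helper20.CechFin

set_option autoImplicit false
set_option linter.unusedVariables false
set_option linter.unusedSectionVars false

/-!
# The Čech description of `H^{n+1}` as an explicit map, with naturality (helper20)

`ΨH U hcov F hF n θ hθd : H^{n+1}(F) →+ L` for a map `θ` on Čech `(n+1)`-cochains killing coboundaries;
`ΨH_bijective`; `ΨH_natural` for a morphism of sheaves `φ : F ⟶ G`.
-/

namespace Groth.Agent.Lib.Helper20

open CategoryTheory Limits Opposite Abelian TopologicalSpace Groth.Agent.Lib.helper27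

universe u

namespace CechFin

section complex

variable {K K' : CochainComplex AddCommGrpCat.{u} ℕ} (n : ℕ) {L L' : AddCommGrpCat.{u}}
  (θ : K.X (n + 1) ⟶ L) (hθd : K.d n (n + 1) ≫ θ = 0)
  (θ' : K'.X (n + 1) ⟶ L') (hθd' : K'.d n (n + 1) ≫ θ' = 0)

lemma homologyMap_Θ' (μ : K ⟶ K') (m : L ⟶ L') (h : μ.f (n + 1) ≫ θ' = θ ≫ m) :
    HomologicalComplex.homologyMap μ (n + 1) ≫ Θ K' n θ' hθd' = Θ K n θ hθd ≫ m := by
  have h1 : HomologicalComplex.opcyclesMap μ (n + 1) ≫ K'.descOpcycles θ' n (by simp) hθd' =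
      K.descOpcycles θ n (by simp) hθd ≫ m := by
    rw [← cancel_epi (K.pOpcycles (n + 1)), ← Category.assoc, HomologicalComplex.p_opcyclesMap,
      Category.assoc, HomologicalComplex.p_descOpcycles, ← Category.assoc,
      HomologicalComplex.p_descOpcycles, h]
  rw [Θ, ← Category.assoc, HomologicalComplex.homologyι_naturality, Category.assoc, h1, Θ,
    Category.assoc]

end complex

section top

variable {X : TopCat.{u}} {ι : Type u} (U : ι → Opens X)

open CechNatTop

variable (hcov : iSup U = ⊤) (F : CohTop.Ab X) (hF : IsAcyc U F) (n : ℕ)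
  {L : Type u} [AddCommGroup L]
  (θ : ((Č U).obj F).X (n + 1) →+ L)
  (hθd : ∀ y, θ (((Č U).obj F).d n (n + 1) y) = 0)

include hθd in
lemma hθd_cat : ((Č U).obj F).d n (n + 1) ≫ AddCommGrpCat.ofHom θ = 0 := by
  apply AddCommGrpCat.hom_ext
  apply AddMonoidHom.ext
  intro y
  exact hθd y

/-- the map `H^{n+1}(F) → L` induced by a map `θ` on Čech cochains killing coboundaries -/
noncomputable def ΨH : Sheaf.H.{u} F (n + 1) →+ L :=
  ((Θ ((Č U).obj F) n (AddCommGrpCat.ofHom θ) (hθd_cat U F n θ hθd)).hom).comp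
    ((cechIso U hcov (n + 1) F hF).inv.hom)

lemma ΨH_apply (x : Sheaf.H.{u} F (n + 1)) :
    ΨH U hcov F hF n θ hθd x =
      (Θ ((Č U).obj F) n (AddCommGrpCat.ofHom θ) (hθd_cat U F n θ hθd))
        ((cechIso U hcov (n + 1) F hF).inv x) := rfl

lemma ΨH_bijective
    (hθi : ∀ z : ((Č U).obj F).X (n + 1), ((Č U).obj F).d (n + 1) (n + 2) z = 0 → θ z = 0 →
      ∃ y, ((Č U).obj F).d n (n + 1) y = z)
    (hθsurj : ∀ g : L, ∃ z : ((Č U).obj F).X (n + 1),
      ((Č U).obj F).d (n + 1) (n + 2) z = 0 ∧ θ z = g) :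
    Function.Bijective (ΨH U hcov F hF n θ hθd) := by
  constructor
  · intro x y hxy
    have h1 := Θ_injective ((Č U).obj F) n (AddCommGrpCat.ofHom θ) (hθd_cat U F n θ hθd) hθi hxy
    have h2 : Function.Injective (cechIso U hcov (n + 1) F hF).inv :=
      (AddCommGrpCat.mono_iff_injective _).1 inferInstance
    exact h2 h1
  · intro g
    obtain ⟨w, hw⟩ := Θ_surjective ((Č U).obj F) n (AddCommGrpCat.ofHom θ)
      (hθd_cat U F n θ hθd) hθsurj g
    have h2 : Function.Surjective (cechIso U hcov (n + 1) F hF).inv :=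
      (AddCommGrpCat.epi_iff_surjective _).1 inferInstance
    obtain ⟨x, rfl⟩ := h2 w
    exact ⟨x, hw⟩

variable (G : CohTop.Ab X) (hG : IsAcyc U G) {L' : Type u} [AddCommGroup L']
  (θ' : ((Č U).obj G).X (n + 1) →+ L')
  (hθd' : ∀ y, θ' (((Č U).obj G).d n (n + 1) y) = 0)

/-- naturality of `ΨH` in the sheaf -/
lemma ΨH_natural (φ : F ⟶ G) (m : L →+ L')
    (h : ∀ c : ((Č U).obj F).X (n + 1), θ' (((Č U).map φ).f (n + 1) c) = m (θ c))
    (x : Sheaf.H.{u} F (n + 1)) :
    ΨH U hcov G hG n θ' hθd' (Sheaf.H.map φ (n + 1) x) = m (ΨH U hcov F hF n θ hθd x) := by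
  let εF := cechIso U hcov (n + 1) F hF
  let εG := cechIso U hcov (n + 1) G hG
  have nat := cechIso_natural U hcov (n + 1) F G hF hG φ
  have nat' : AddCommGrpCat.ofHom (Sheaf.H.map φ (n + 1)) ≫ εG.inv =
      εF.inv ≫ HomologicalComplex.homologyMap ((Č U).map φ) (n + 1) := by
    rw [← cancel_mono εG.hom, Category.assoc, Category.assoc, nat, εG.inv_hom_id,
      Category.comp_id, εF.inv_hom_id_assoc]
  have hm := homologyMap_Θ' n (AddCommGrpCat.ofHom θ) (hθd_cat U F n θ hθd)
    (AddCommGrpCat.ofHom θ') (hθd_cat U G n θ' hθd') ((Č U).map φ) (AddCommGrpCat.ofHom m) (by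
      apply AddCommGrpCat.hom_ext
      apply AddMonoidHom.ext
      intro c
      exact h c)
  have e1 := ConcreteCategory.congr_hom nat' x
  rw [ConcreteCategory.comp_apply, ConcreteCategory.comp_apply] at e1
  have e2 := ConcreteCategory.congr_hom hm (εF.inv x)
  rw [ConcreteCategory.comp_apply, ConcreteCategory.comp_apply] at e2
  rw [ΨH_apply, ΨH_apply]
  have e1' : εG.inv (Sheaf.H.map φ (n + 1) x) =
      HomologicalComplex.homologyMap ((Č U).map φ) (n + 1) (εF.inv x) := e1
  rw [e1']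
  exact e2

end top

end CechFin

end Groth.Agent.Lib.Helper20
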