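import Mathlib

/-!
# The rank of the module of homogeneous polynomials (helper20)
-/

set_option autoImplicit false

namespace Groth.Agent.Lib.Helper20.HomogRank

open MvPolynomial

variable (K : Type*) [CommRing K] [Nontrivial K] (r m : ℕ)

/-- the exponent vectors of degree `m` -/
noncomputable instance fintypeMon :
    Fintype ↥({s : Fin (r + 1) →₀ ℕ | s.degree = m} : Set (Fin (r + 1) →₀ ℕ)) :=
  Fintype.ofFinset ((Finset.univ : Finset (Fin (r + 1))).finsuppAntidiag m) (by
    intro s
    rw [Finset.mem_finsuppAntidiag, Set.mem_setOf_eq, Finsupp.degree_eq_sum]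
    constructor
    · rintro ⟨h, -⟩
      exact h
    · intro h
      exact ⟨h, Finset.subset_univ _⟩)

lemma card_mon :
    Fintype.card ↥({s : Fin (r + 1) →₀ ℕ | s.degree = m} : Set (Fin (r + 1) →₀ ℕ)) =
      Nat.choose (m + r) r := by
  rw [Fintype.card_ofFinset, Finset.card_finsuppAntidiag_nat_eq_choose, Finset.card_univ,
    Fintype.card_fin]
  have h1 : r + 1 + m - 1 = m + r := by omega
  rw [h1, ← Nat.choose_symm_add]

theorem finrank_homogeneousSubmodule :
    Module.finrank K ↥(homogeneousSubmodule (Fin (r + 1)) K m) = Nat.choose (m + r) r := by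
  let e : ↥(homogeneousSubmodule (Fin (r + 1)) K m) ≃ₗ[K]
      (↥({s : Fin (r + 1) →₀ ℕ | s.degree = m} : Set (Fin (r + 1) →₀ ℕ)) →₀ K) :=
    (LinearEquiv.ofEq _ _ (homogeneousSubmodule_eq_finsupp_supported (Fin (r + 1)) K m)).trans
      (AddMonoidAlgebra.supportedEquivFinsupp _)
  rw [e.finrank_eq, Module.finrank_finsupp_self, card_mon]

end Groth.Agent.Lib.Helper20.HomogRank
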