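import Mathlib
import Groth.Agent.Lib.Helper20.ProjCechTw
import Groth.Agent.Lib.Helper20.ProjMulHom
import Groth.Agent.Lib.Helper20.ProjH0

/-!
# Fractions with monomial denominators and their Laurent polynomials (helper20)

`IsFracOn' σ u m`: the section `σ` of `O(d)` over `W` equals `m / x^u` everywhere on `W`;
`ρd_eq'` : its Laurent polynomial is `φ m * T^{-u}`.  Scalar multiplication by a fraction of `O` and
multiplication by a homogeneous polynomial in these terms.
-/

set_option autoImplicit false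
set_option linter.unusedVariables false
set_option linter.unusedSectionVars false

universe u

open CategoryTheory Limits Opposite TopologicalSpace AlgebraicGeometry MvPolynomial

namespace Groth.Agent.Lib.Helper20.ProjDual

open Groth.Agent.Lib.helper27 Groth.Agent.Lib.Helper20.ProjLaurent Groth.Agent.Lib.Helper20.CechPoU
  Groth.Agent.Lib.Helper20.ProjCechO Groth.Agent.Lib.Helper20.ProjCechTw
  Groth.Agent.Lib.helper28.GrFrac
  Groth.Agent.Lib.helper28.TwistSec Groth.Agent.Lib.helper28.TwistFree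
  Groth.Agent.Lib.Helper20.ProjMulHom Groth.Agent.Lib.helper28.TwistMul

variable {n : ℕ} {R : Type u} [CommRing R] {d : ℤ}

/-- `σ` is given on all of `W` by the fraction `m / x^u`. -/
def IsFracOn' {W : (PX n R).Opens} (σ : Sec n R d W) (u : Fin (n + 1) →₀ ℕ)
    (m : MvPolynomial (Fin (n + 1)) R) : Prop :=
  ∀ x : W, ∃ hx : (monomial u (1 : R)) ∉ x.1.asHomogeneousIdeal,
    ((σ.1 x : Twist.twistAt (CohB1.polyGrading n R) d x.1) : Twist.Loc (CohB1.polyGrading n R) x.1) =
      Localization.mk m ⟨monomial u (1 : R), hx⟩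

lemma monomial_pow' (s : Fin (n + 1) →₀ ℕ) (K : ℕ) :
    (monomial s (1 : R)) ^ K = monomial (K • s) 1 := by
  rw [monomial_pow, one_pow]

lemma isFracOn_of' {W : (PX n R).Opens} (σ : Sec n R d W) (u s : Fin (n + 1) →₀ ℕ) (K : ℕ)
    (hW : W = Dp n R s) (hle : u ≤ K • s) {m : MvPolynomial (Fin (n + 1)) R}
    (h : IsFracOn' σ u m) : IsFracOn σ s K (m * monomial (K • s - u) 1) := by
  intro x
  obtain ⟨hx, e⟩ := h x
  refine ⟨pow_notMem_of_eq s hW K x, ?_⟩
  rw [e, mk_eq_mk_iff']
  refine ⟨1, ?_⟩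
  simp only [OneMemClass.coe_one, one_mul]
  rw [monomial_pow']
  have h1 : (monomial u (1 : R)) * monomial (K • s - u) 1 = monomial (K • s) 1 := by
    rw [monomial_mul, one_mul]
    exact congrArg (fun v => monomial v (1 : R)) (add_tsub_cancel_of_le hle)
  rw [← h1]
  ring

/-- the Laurent monomial `T^e` -/
noncomputable abbrev T (e : Fin (n + 1) → ℤ) : Lau n R := AddMonoidAlgebra.single e 1

lemma ρd_eq' {W : (PX n R).Opens} (s : Fin (n + 1) →₀ ℕ) (hs : 0 < s.degree)
    (hW : W = Dp n R s) (σ : Sec n R d W) (u : Fin (n + 1) →₀ ℕ) (K : ℕ) (hle : u ≤ K • s)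
    {i : ℕ} {m : MvPolynomial (Fin (n + 1)) R}
    (hm : m ∈ CohB1.polyGrading n R i) (hi : (i : ℤ) = u.degree + d)
    (h : IsFracOn' σ u m) : ρd s hs hW σ = φ n R m * T (-(expHom n u)) := by
  have hdeg : (K • s - u).degree + u.degree = K * s.degree := by
    have := congrArg Finsupp.degree (tsub_add_cancel_of_le hle)
    rw [map_add, map_nsmul, smul_eq_mul] at this
    exact this
  have hmem : m * monomial (K • s - u) 1 ∈ CohB1.polyGrading n R (i + (K • s - u).degree) :=
    SetLike.mul_mem_graded hm (monomial_mem (R := R) (K • s - u))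
  rw [ρd_eq s hs hW σ hmem (by push_cast; rw [hi]; have := congrArg (Nat.cast (R := ℤ)) hdeg; push_cast at this; linarith)
    (isFracOn_of' σ u s K hW hle h)]
  rw [ProjLaurent.val, map_mul, φ_monomial, mul_assoc, T_mul_T]
  congr 2
  have h1 : expHom n (K • s - u) + expHom n u = K • expHom n s := by
    rw [← map_add, tsub_add_cancel_of_le hle, map_nsmul]
  rw [← h1]
  abel

lemma isFracOn'_of_isFracOn {W : (PX n R).Opens} {σ : Sec n R d W} {s : Fin (n + 1) →₀ ℕ} {K : ℕ}
    {m : MvPolynomial (Fin (n + 1)) R} (h : IsFracOn σ s K m) : IsFracOn' σ (K • s) m := by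
  intro x
  obtain ⟨hx, e⟩ := h x
  have hx' : monomial (K • s) (1 : R) ∉ x.1.asHomogeneousIdeal := by
    rw [← monomial_pow']
    exact hx
  refine ⟨hx', e.trans ?_⟩
  congr 1
  exact Subtype.ext (monomial_pow' s K)

lemma isFracOn'_res {W W' : (PX n R).Opens} (i : W' ⟶ W) (σ : Sec n R d W)
    {u : Fin (n + 1) →₀ ℕ} {m : MvPolynomial (Fin (n + 1)) R} (h : IsFracOn' σ u m) :
    IsFracOn' (Twist.resN d i.op σ) u m := fun x => h (i x)

/-- multiplicativity of the Laurent polynomial of sections -/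
lemma ρd_mulFun {a b : ℤ} {W : (PX n R).Opens} (s : Fin (n + 1) →₀ ℕ) (hs : 0 < s.degree)
    (hW : W = Dp n R s) (σ : Sec n R a W) (τ : Sec n R b W) :
    ρd (d := a + b) s hs hW (mulFun (CohB1.polyGrading n R) a b W σ τ) =
      ρd s hs hW σ * ρd s hs hW τ := by
  obtain ⟨k, i, m, hm, hi, h⟩ := exists_rep s hs hW σ
  obtain ⟨k', i', m', hm', hi', h'⟩ := exists_rep s hs hW τ
  have hfrac : IsFracOn (mulFun (CohB1.polyGrading n R) a b W σ τ) s (k + k') (m * m') := by
    intro x
    obtain ⟨hx, e1⟩ := h x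
    obtain ⟨hx', e2⟩ := h' x
    refine ⟨pow_notMem_of_eq s hW (k + k') x, ?_⟩
    refine (mulFun_val (CohB1.polyGrading n R) a b W σ τ x).trans ?_
    rw [e1, e2, Localization.mk_mul, mk_eq_mk_iff']
    refine ⟨1, ?_⟩
    simp only [OneMemClass.coe_one, one_mul, Submonoid.coe_mul]
    rw [pow_add]
  rw [ρd_eq s hs hW σ hm hi h, ρd_eq s hs hW τ hm' hi' h',
    ρd_eq s hs hW _ (SetLike.mul_mem_graded hm hm') (by push_cast; rw [hi, hi']; ring) hfrac]
  simp only [ProjLaurent.val, map_mul]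
  rw [mul_mul_mul_comm, T_mul_T]
  congr 2
  rw [add_smul]
  abel

/-- scalar multiplication of sections of `O(d)` by sections of the structure sheaf -/
noncomputable def smulS {W : (PX n R).Opens} (c : Twist.O (𝒜 := CohB1.polyGrading n R) (op W))
    (σ : Sec n R d W) : Sec n R d W :=
  (sectNSMul (CohB1.polyGrading n R) d W).smul c σ

lemma smulS_val {W : (PX n R).Opens} (c : Twist.O (𝒜 := CohB1.polyGrading n R) (op W))
    (σ : Sec n R d W) (x : W) :
    ((((smulS c σ).1 x : Twist.twistAt (CohB1.polyGrading n R) d x.1)) :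
      Twist.Loc (CohB1.polyGrading n R) x.1) =
      (c.1 x).val * ((σ.1 x : Twist.twistAt (CohB1.polyGrading n R) d x.1) :
        Twist.Loc (CohB1.polyGrading n R) x.1) :=
  smul_val (CohB1.polyGrading n R) c σ x

/-- the exchange rule for scalars -/
lemma ρd_smul_swap {a b : ℤ} {W : (PX n R).Opens} (s : Fin (n + 1) →₀ ℕ) (hs : 0 < s.degree)
    (hW : W = Dp n R s) (c : Twist.O (𝒜 := CohB1.polyGrading n R) (op W)) (g : Sec n R a W)
    (τ : Sec n R b W) :
    ρd s hs hW g * ρd s hs hW (smulS c τ) = ρd s hs hW (smulS c g) * ρd s hs hW τ := by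
  rw [← ρd_mulFun, ← ρd_mulFun]
  congr 1
  exact (mulFun_smul_right (CohB1.polyGrading n R) a b W c g τ).trans
    (mulFun_smul_left (CohB1.polyGrading n R) a b W c g τ).symm

lemma notMem_of_le {W : (PX n R).Opens} {s u : Fin (n + 1) →₀ ℕ} {K : ℕ}
    (hW : W ≤ Dp n R s) (hle : u ≤ K • s) (x : W) :
    monomial u (1 : R) ∉ x.1.asHomogeneousIdeal := by
  intro hmem
  have hy : x.1 ∈ Dp n R s := hW x.2
  have h1 : monomial u (1 : R) * monomial (K • s - u) 1 = (monomial s 1) ^ K := by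
    rw [monomial_pow', monomial_mul, one_mul, add_tsub_cancel_of_le hle]
  have h2 : (monomial s (1 : R)) ^ K ∈ x.1.asHomogeneousIdeal := by
    rw [← h1]
    exact Ideal.mul_mem_right _ _ hmem
  exact (ProjectiveSpectrum.mem_basicOpen _ _ x.1).mp hy (x.1.isPrime.mem_of_pow_mem K h2)

/-- the exponent vector `k e_i` -/
noncomputable abbrev ei (i : Fin (n + 1)) (k : ℕ) : Fin (n + 1) →₀ ℕ := Finsupp.single i k

lemma ei_le (i : Fin (n + 1)) (k : ℕ) : ei i k ≤ k • ei (n := n) i 1 := by
  rw [Finsupp.smul_single, smul_eq_mul, mul_one]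

lemma toNat_eq (i : Fin (n + 1)) (a : ℤ) : (((ei (n := n) i a.toNat).degree : ℕ) : ℤ) =
    ((ei (n := n) i (-a).toNat).degree : ℕ) + a := by
  rw [Finsupp.degree_single, Finsupp.degree_single]
  omega

/-- the generator `x_i^a` of `O(a)` over an open on which `x_i` is invertible -/
noncomputable def gen (a : ℤ) (i : Fin (n + 1)) (W : (PX n R).Opens)
    (hW : W ≤ Dp n R (ei i 1)) : Sec n R a W :=
  fracSectN (CohB1.polyGrading n R) a W
    ⟨monomial (ei i a.toNat) 1, monomial_mem (R := R) _⟩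
    ⟨monomial (ei i (-a).toNat) 1, monomial_mem (R := R) _⟩
    (notMem_of_le hW (ei_le i _)) (toNat_eq i a)

lemma gen_res (a : ℤ) (i : Fin (n + 1)) {W W' : (PX n R).Opens} (hW : W ≤ Dp n R (ei i 1))
    (j : W' ⟶ W) :
    Twist.resN a j.op (gen a i W hW) = gen a i W' ((leOfHom j).trans hW) :=
  sectN_ext' (CohB1.polyGrading n R) _ _ fun x => rfl

lemma isFracOn'_gen (a : ℤ) (i : Fin (n + 1)) (W : (PX n R).Opens)
    (hW : W ≤ Dp n R (ei i 1)) :
    IsFracOn' (gen a i W hW) (ei i (-a).toNat) (monomial (ei i a.toNat) 1) :=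
  fun x => ⟨notMem_of_le hW (ei_le i _) x, rfl⟩

lemma ρd_gen (a : ℤ) (i : Fin (n + 1)) {W : (PX n R).Opens} (s : Fin (n + 1) →₀ ℕ)
    (hs : 0 < s.degree) (hW : W = Dp n R s) (hi : s i ≠ 0)
    (hW' : W ≤ Dp n R (ei i 1)) :
    ρd s hs hW (gen a i W hW') = T (Pi.single i a) := by
  have hle : ei i (-a).toNat ≤ (-a).toNat • s := by
    intro j
    rw [Finsupp.smul_apply, smul_eq_mul, Finsupp.single_apply]
    split_ifs with h
    · subst h
      exact Nat.le_mul_of_pos_right _ (Nat.pos_of_ne_zero hi)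
    · exact Nat.zero_le _
  rw [ρd_eq' s hs hW _ _ _ hle (monomial_mem (R := R) _) (toNat_eq i a) (isFracOn'_gen a i W hW'),
    φ_monomial, T_mul_T]
  congr 1
  funext j
  simp only [Pi.add_apply, Pi.neg_apply, expHom_apply, Finsupp.single_apply, Pi.single_apply]
  split_ifs with h1 h2 h2
  · omega
  · exact absurd h1.symm h2
  · exact absurd h2.symm h1
  · simp

/-- every section over a basic open on which `x_i` is invertible is a multiple of the generator -/
lemma exists_smul_gen (a : ℤ) (i : Fin (n + 1)) {e : ℕ} (he : 0 < e)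
    {F : MvPolynomial (Fin (n + 1)) R} (hF : F ∈ CohB1.polyGrading n R e)
    (W : (PX n R).Opens) (hW : W = ProjectiveSpectrum.basicOpen (CohB1.polyGrading n R) F)
    (hW' : W ≤ Dp n R (ei i 1)) (σ : Sec n R a W) :
    ∃ c : Twist.O (𝒜 := CohB1.polyGrading n R) (op W), smulS c (gen a i W hW') = σ :=
  (bijective_smul_fracSectN (CohB1.polyGrading n R) a he hF W hW
    ⟨monomial (ei i a.toNat) 1, monomial_mem (R := R) _⟩
    ⟨monomial (ei i (-a).toNat) 1, monomial_mem (R := R) _⟩
    (notMem_of_le hW' (ei_le i _)) (notMem_of_le hW' (ei_le i _)) (toNat_eq i a)).2 σ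

end Groth.Agent.Lib.Helper20.ProjDual
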