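import Mathlib
import Groth.Agent.Lib.Helper20.ProjDual1
import Groth.Agent.Lib.Helper28.GrTildeSec

/-!
# Morphisms `O(a) → O(b)` on projective space are multiplications by Laurent polynomials (helper20)

`TwHom`: section-level data of a morphism; `GW D`: the Laurent polynomial by which `D` multiplies
(`ρd_app`), its support (`GW_mem`), and `app_eq_of_GW_eq`; `ofHom`, `hom_ext_basic`.
-/

set_option autoImplicit false
set_option linter.unusedVariables false
set_option linter.unusedSectionVars false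

universe u

open CategoryTheory Limits Opposite TopologicalSpace AlgebraicGeometry MvPolynomial

namespace Groth.Agent.Lib.Helper20.ProjDual

open Groth.Agent.Lib.helper27 Groth.Agent.Lib.Helper20.ProjLaurent Groth.Agent.Lib.Helper20.CechPoU
  Groth.Agent.Lib.Helper20.ProjCechO Groth.Agent.Lib.Helper20.ProjCechTw
  Groth.Agent.Lib.helper28.GrFrac
  Groth.Agent.Lib.helper28.TwistSec Groth.Agent.Lib.helper28.TwistFree
  Groth.Agent.Lib.Helper20.ProjMulHom Groth.Agent.Lib.helper28.TwistMul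

variable {n : ℕ} {R : Type u} [CommRing R] {a b : ℤ}

/-- section-level data of a morphism `O(a) → O(b)` -/
structure TwHom (n : ℕ) (R : Type u) [CommRing R] (a b : ℤ) where
  /-- the maps on sections -/
  app : ∀ W : (PX n R).Opens, Sec n R a W →+ Sec n R b W
  map_smul : ∀ (W : (PX n R).Opens) (c : Twist.O (𝒜 := CohB1.polyGrading n R) (op W))
    (σ : Sec n R a W), app W (smulS c σ) = smulS c (app W σ)
  map_res : ∀ {W W' : (PX n R).Opens} (i : W' ⟶ W) (σ : Sec n R a W),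
    app W' (Twist.resN a i.op σ) = Twist.resN b i.op (app W σ)

lemma Dp_le_of_ne {s : Fin (n + 1) →₀ ℕ} {i : Fin (n + 1)} (hi : s i ≠ 0) :
    Dp n R s ≤ Dp n R (ei i 1) := by
  have h1 : ei i 1 ≤ s := by
    intro j
    rw [Finsupp.single_apply]
    split_ifs with h
    · subst h
      exact Nat.one_le_iff_ne_zero.mpr hi
    · exact Nat.zero_le _
  have h2 : s = ei i 1 + (s - ei i 1) := (add_tsub_cancel_of_le h1).symm
  rw [h2, Dp_add]
  exact inf_le_left

lemma T_neg_mul_T (i : Fin (n + 1)) (a : ℤ) :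
    (T (Pi.single i (-a)) : Lau n R) * T (Pi.single i a) = 1 := by
  rw [T_mul_T, ← Pi.single_add, neg_add_cancel, Pi.single_zero]
  rfl

lemma ρd_app_eq (D : TwHom n R a b) {W : (PX n R).Opens} (s : Fin (n + 1) →₀ ℕ)
    (hs : 0 < s.degree) (hW : W = Dp n R s) (i : Fin (n + 1)) (hi : s i ≠ 0)
    (hW' : W ≤ Dp n R (ei i 1)) (σ : Sec n R a W) :
    ρd s hs hW (D.app W σ) = ρd s hs hW σ *
      (T (Pi.single i (-a)) * ρd s hs hW (D.app W (gen a i W hW'))) := by
  obtain ⟨c, rfl⟩ := exists_smul_gen a i hs (monomial_mem (R := R) s) W hW hW' σ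
  rw [D.map_smul]
  have h1 := ρd_smul_swap s hs hW c (gen a i W hW') (D.app W (gen a i W hW'))
  rw [ρd_gen a i s hs hW hi hW'] at h1
  calc ρd s hs hW (smulS c (D.app W (gen a i W hW')))
      = (T (Pi.single i (-a)) * T (Pi.single i a)) *
          ρd s hs hW (smulS c (D.app W (gen a i W hW'))) := by rw [T_neg_mul_T, one_mul]
    _ = T (Pi.single i (-a)) * (ρd s hs hW (smulS c (gen a i W hW')) *
          ρd s hs hW (D.app W (gen a i W hW'))) := by rw [mul_assoc, h1]
    _ = _ := by ring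

lemma ρd_app_gen_res (D : TwHom n R a b) {W W' : (PX n R).Opens} (s s' t : Fin (n + 1) →₀ ℕ)
    (hst : s' = s + t) (hs : 0 < s.degree) (hs' : 0 < s'.degree) (hW : W = Dp n R s)
    (hW' : W' = Dp n R s') (i : Fin (n + 1)) (h1 : W ≤ Dp n R (ei i 1))
    (h1' : W' ≤ Dp n R (ei i 1)) :
    ρd s' hs' hW' (D.app W' (gen a i W' h1')) = ρd s hs hW (D.app W (gen a i W h1)) := by
  have hle : W' ≤ W := by
    rw [hW, hW', hst, Dp_add]
    exact inf_le_left
  have e1 : gen a i W' h1' = Twist.resN a (homOfLE hle).op (gen a i W h1) :=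
    (gen_res a i h1 (homOfLE hle)).symm
  rw [e1]
  exact (congrArg (ρd s' hs' hW') (D.map_res (homOfLE hle) (gen a i W h1))).trans
    (ρd_res s s' t hst hs hs' hW hW' (homOfLE hle) _)

/-- the Laurent polynomial of `D`, computed on `W = D₊(x^s)` with all `s j ≠ 0` -/
noncomputable def GW (D : TwHom n R a b) {W : (PX n R).Opens} (s : Fin (n + 1) →₀ ℕ)
    (hs : 0 < s.degree) (hW : W = Dp n R s) (h0 : s 0 ≠ 0) : Lau n R :=
  T (Pi.single 0 (-a)) * ρd s hs hW (D.app W (gen a 0 W (hW ▸ Dp_le_of_ne h0)))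

lemma ρd_app (D : TwHom n R a b) {W : (PX n R).Opens} (s : Fin (n + 1) →₀ ℕ)
    (hs : 0 < s.degree) (hW : W = Dp n R s) (h0 : s 0 ≠ 0) (σ : Sec n R a W) :
    ρd s hs hW (D.app W σ) = ρd s hs hW σ * GW D s hs hW h0 :=
  ρd_app_eq D s hs hW 0 h0 _ σ

lemma GW_eq (D : TwHom n R a b) {W : (PX n R).Opens} (s : Fin (n + 1) →₀ ℕ)
    (hs : 0 < s.degree) (hW : W = Dp n R s) (h0 : s 0 ≠ 0) (i : Fin (n + 1)) (hi : s i ≠ 0)
    (hWi : Dp n R (ei i 1) ≤ Dp n R (ei i 1)) :
    GW D s hs hW h0 = T (Pi.single i (-a)) *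
      ρd (ei i 1) (ProjH0.degree_single_pos n i) rfl
        (D.app (Dp n R (ei i 1)) (gen a i (Dp n R (ei i 1)) hWi)) := by
  have hW' : W ≤ Dp n R (ei i 1) := hW ▸ Dp_le_of_ne hi
  have h1 := ρd_app D s hs hW h0 (gen a i W hW')
  rw [ρd_gen a i s hs hW hi hW'] at h1
  have hsi : s = ei i 1 + (s - ei i 1) := by
    refine (add_tsub_cancel_of_le ?_).symm
    intro j
    rw [Finsupp.single_apply]
    split_ifs with h
    · subst h
      exact Nat.one_le_iff_ne_zero.mpr hi
    · exact Nat.zero_le _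
  have h2 := ρd_app_gen_res D (ei i 1) s (s - ei i 1) hsi (ProjH0.degree_single_pos n i) hs rfl hW i
    hWi hW'
  rw [← h2, h1, ← mul_assoc, T_neg_mul_T, one_mul]

lemma GW_mem (hn : 1 ≤ n) (D : TwHom n R a b) {W : (PX n R).Opens} (s : Fin (n + 1) →₀ ℕ)
    (hs : 0 < s.degree) (hW : W = Dp n R s) (hall : ∀ j, s j ≠ 0)
    (e : Fin (n + 1) → ℤ) (he : (GW D s hs hW (hall 0)).coeff e ≠ 0) :
    (∑ j, e j = b - a) ∧ ∀ j, 0 ≤ e j := by
  have key : ∀ i : Fin (n + 1), (∑ j, e j = b - a) ∧ ∀ j, j ≠ i → 0 ≤ e j := by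
    intro i
    have h1 := GW_eq D s hs hW (hall 0) i (hall i) le_rfl
    rw [h1, AddMonoidAlgebra.coeff_single_mul_apply, one_mul] at he
    have hmem : ρd (ei i 1) (ProjH0.degree_single_pos n i) rfl
        (D.app (Dp n R (ei i 1)) (gen a i (Dp n R (ei i 1)) le_rfl)) ∈ Supd R b (ei i 1) := by
      rw [← range_ρd (d := b) (ei i 1) (ProjH0.degree_single_pos n i) rfl]
      exact ⟨_, rfl⟩
    have h2 := hmem _ (Finsupp.mem_support_iff.mpr he)
    obtain ⟨h3, h4⟩ := h2
    constructor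
    · have : ∑ j, ((-Pi.single i (-a) + e : Fin (n + 1) → ℤ)) j = a + ∑ j, e j := by
        simp only [Pi.add_apply, Pi.neg_apply, Finset.sum_add_distrib, Finset.sum_neg_distrib,
          Finset.sum_pi_single', Finset.mem_univ, if_true, neg_neg]
      rw [this] at h3
      omega
    · intro j hj
      have h5 := h4 j (by rw [Finsupp.single_apply, if_neg (Ne.symm hj)])
      simp only [Pi.add_apply, Pi.neg_apply, Pi.single_apply, if_neg hj, neg_zero, zero_add] at h5
      exact h5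
  refine ⟨(key 0).1, fun j => ?_⟩
  obtain ⟨l, hl⟩ : ∃ l : Fin (n + 1), j ≠ l := by
    by_cases hj : j = 0
    · refine ⟨Fin.last n, ?_⟩
      rw [hj]
      intro h0
      have := congrArg Fin.val h0
      simp at this
      omega
    · exact ⟨0, hj⟩
  exact (key l).2 j hl

lemma app_eq_of_GW_eq (D₁ D₂ : TwHom n R a b) {W : (PX n R).Opens} (s : Fin (n + 1) →₀ ℕ)
    (hs : 0 < s.degree) (hW : W = Dp n R s) (hall : ∀ j, s j ≠ 0)
    (hG : GW D₁ s hs hW (hall 0) = GW D₂ s hs hW (hall 0))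
    (i : Fin (n + 1)) {e : ℕ} (he : 0 < e)
    {F : MvPolynomial (Fin (n + 1)) R} (hF : F ∈ CohB1.polyGrading n R e)
    (W' : (PX n R).Opens) (hW' : W' = ProjectiveSpectrum.basicOpen (CohB1.polyGrading n R) F)
    (hW'' : W' ≤ Dp n R (ei i 1)) (σ : Sec n R a W') :
    D₁.app W' σ = D₂.app W' σ := by
  have h1 := GW_eq D₁ s hs hW (hall 0) i (hall i) le_rfl
  have h2 := GW_eq D₂ s hs hW (hall 0) i (hall i) le_rfl
  rw [h1, h2] at hG
  have h3 := (isUnit_T (R := R) (Pi.single i (-a))).mul_left_cancel hG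
  have h4 := ρd_injective (ei i 1) (ProjH0.degree_single_pos n i) rfl _ _ h3
  obtain ⟨c, rfl⟩ := exists_smul_gen a i he hF W' hW' hW'' σ
  rw [D₁.map_smul, D₂.map_smul]
  have e1 : gen a i W' hW'' = Twist.resN a (homOfLE hW'').op (gen a i (Dp n R (ei i 1)) le_rfl) :=
    (gen_res a i le_rfl (homOfLE hW'')).symm
  rw [e1]
  exact congrArg (smulS c) (((D₁.map_res (homOfLE hW'') _).trans
    (congrArg (Twist.resN b (homOfLE hW'').op) h4)).trans (D₂.map_res (homOfLE hW'') _).symm)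


end Groth.Agent.Lib.Helper20.ProjDual
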