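import Mathlib
import Groth.Agent.Lib.Helper20.ProjDual2

/-!
# Morphisms `O(a) → O(b)` on projective space: from module morphisms to section data (helper20)
-/

set_option autoImplicit false
set_option linter.unusedVariables false
set_option linter.unusedSectionVars false

universe u

open CategoryTheory Limits Opposite TopologicalSpace AlgebraicGeometry MvPolynomial

namespace Groth.Agent.Lib.Helper20.ProjDual

open Groth.Agent.Lib.helper27 Groth.Agent.Lib.Helper20.ProjLaurent Groth.Agent.Lib.Helper20.CechPoU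
  Groth.Agent.Lib.Helper20.ProjCechO Groth.Agent.Lib.Helper20.ProjCechTw
  Groth.Agent.Lib.helper28.GrFrac
  Groth.Agent.Lib.helper28.TwistSec Groth.Agent.Lib.helper28.TwistFree
  Groth.Agent.Lib.Helper20.ProjMulHom Groth.Agent.Lib.helper28.TwistMul

variable {n : ℕ} {R : Type u} [CommRing R] {a b : ℤ}

set_option maxHeartbeats 3200000 in
/-- section data agreeing on the homogeneous basic opens inside the charts agree everywhere -/
lemma app_eq_of_basic (D₁ D₂ : TwHom n R a b)
    (h : ∀ (i : Fin (n + 1)) (e : ℕ) (he : 0 < e) (F : MvPolynomial (Fin (n + 1)) R)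
      (hF : F ∈ CohB1.polyGrading n R e) (W : (PX n R).Opens)
      (hW : W = ProjectiveSpectrum.basicOpen (CohB1.polyGrading n R) F)
      (hW' : W ≤ Dp n R (ei i 1)) (σ : Sec n R a W), D₁.app W σ = D₂.app W σ)
    (V : (PX n R).Opens) (σ : Sec n R a V) : D₁.app V σ = D₂.app V σ := by
  refine sectN_ext' (CohB1.polyGrading n R) _ _ fun x => ?_
  let y : ProjectiveSpectrum (CohB1.polyGrading n R) := x.1
  have hyV : y ∈ V := x.2
  obtain ⟨i, hxi⟩ := ProjH0.exists_mem_basicOpen n R y
  have hxi' : y ∈ Dp n R (ei i 1) := hxi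
  obtain ⟨k, f, hf, hfx, hsub⟩ :=
    Groth.Agent.Lib.helper28.GrTildeSec.exists_homogeneous_basicOpen
      (𝒜 := CohB1.polyGrading n R) V y hyV
  have hF : f * X i ∈ CohB1.polyGrading n R (k + 1) :=
    SetLike.mul_mem_graded hf (ProjGamma.X_mem n R i)
  obtain ⟨F, hFdef⟩ : ∃ F : MvPolynomial (Fin (n + 1)) R, F = f * X i := ⟨_, rfl⟩
  rw [← hFdef] at hF
  let W : (PX n R).Opens := ProjectiveSpectrum.basicOpen (CohB1.polyGrading n R) F
  have hWV : W ≤ V := by
    intro z hz
    apply hsub z
    intro hmem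
    refine (ProjectiveSpectrum.mem_basicOpen _ _ z).mp hz ?_
    rw [hFdef]
    exact Ideal.mul_mem_right _ _ hmem
  have hWi : W ≤ Dp n R (ei i 1) := by
    intro z hz
    refine (ProjectiveSpectrum.mem_basicOpen _ _ z).mpr ?_
    intro hmem
    refine (ProjectiveSpectrum.mem_basicOpen _ _ z).mp hz ?_
    rw [hFdef]
    exact Ideal.mul_mem_left _ _ hmem
  have hxW : y ∈ W := by
    refine (ProjectiveSpectrum.mem_basicOpen _ _ y).mpr ?_
    intro hmem
    rw [hFdef] at hmem
    rcases y.isPrime.mem_or_mem hmem with h1 | h1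
    · exact hfx h1
    · exact (ProjectiveSpectrum.mem_basicOpen _ _ y).mp hxi h1
  have h1 := h i (k + 1) (Nat.succ_pos k) F hF W rfl hWi (Twist.resN a (homOfLE hWV).op σ)
  have h1' : Twist.resN b (homOfLE hWV).op (D₁.app V σ) =
      Twist.resN b (homOfLE hWV).op (D₂.app V σ) :=
    ((D₁.map_res (homOfLE hWV) σ).symm.trans h1).trans (D₂.map_res (homOfLE hWV) σ)
  have h2 := congrArg (fun τ : Sec n R b W =>
    ((τ.1 ⟨y, hxW⟩ : Twist.twistAt (CohB1.polyGrading n R) b y) :
      Twist.Loc (CohB1.polyGrading n R) y)) h1'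
  exact h2

/-- the maps on sections of a morphism of modules -/
noncomputable def appOf (δ : Twist.twistProjSpace n R a ⟶ Twist.twistProjSpace n R b)
    (W : (PX n R).Opens) : Sec n R a W →+ Sec n R b W :=
  AddMonoidHom.mk' (fun σ => (δ.val.app (op W)).hom σ)
    (fun σ τ => (δ.val.app (op W)).hom.map_add σ τ)

lemma appOf_smul (δ : Twist.twistProjSpace n R a ⟶ Twist.twistProjSpace n R b)
    (W : (PX n R).Opens) (c : Twist.O (𝒜 := CohB1.polyGrading n R) (op W))
    (σ : Sec n R a W) : appOf δ W (smulS c σ) = smulS c (appOf δ W σ) :=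
  (δ.val.app (op W)).hom.map_smul c σ

set_option maxHeartbeats 800000 in
lemma appOf_res (δ : Twist.twistProjSpace n R a ⟶ Twist.twistProjSpace n R b)
    {W W' : (PX n R).Opens} (i : W' ⟶ W) (σ : Sec n R a W) :
    appOf δ W' (Twist.resN a i.op σ) = Twist.resN b i.op (appOf δ W σ) :=
  PresheafOfModules.naturality_apply δ.val i.op σ

/-- the section-level data of a morphism of modules -/
noncomputable def ofHom (δ : Twist.twistProjSpace n R a ⟶ Twist.twistProjSpace n R b) :
    TwHom n R a b where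
  app W := appOf δ W
  map_smul W c σ := appOf_smul δ W c σ
  map_res i σ := appOf_res δ i σ

lemma ofHom_app (δ : Twist.twistProjSpace n R a ⟶ Twist.twistProjSpace n R b)
    (W : (PX n R).Opens) (σ : Sec n R a W) :
    (ofHom δ).app W σ = (δ.val.app (op W)).hom σ := rfl

/-- morphisms `O(a) → O(b)` agreeing on the homogeneous basic opens inside the charts agree -/
lemma hom_ext_basic (δ₁ δ₂ : Twist.twistProjSpace n R a ⟶ Twist.twistProjSpace n R b)
    (h : ∀ (i : Fin (n + 1)) (e : ℕ) (he : 0 < e) (F : MvPolynomial (Fin (n + 1)) R)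
      (hF : F ∈ CohB1.polyGrading n R e) (W : (PX n R).Opens)
      (hW : W = ProjectiveSpectrum.basicOpen (CohB1.polyGrading n R) F)
      (hW' : W ≤ Dp n R (ei i 1)) (σ : Sec n R a W),
      (ofHom δ₁).app W σ = (ofHom δ₂).app W σ) : δ₁ = δ₂ := by
  have key := app_eq_of_basic (ofHom δ₁) (ofHom δ₂) h
  apply SheafOfModules.Hom.ext
  apply PresheafOfModules.hom_ext
  intro V
  apply ModuleCat.hom_ext
  apply LinearMap.ext
  intro σ
  exact key V.unop σ

end Groth.Agent.Lib.Helper20.ProjDual
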