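import Mathlib
import Groth.Agent.Lib.Helper20.CechPoU

/-!
# Combinatorics of alternating cochains on tuples (helper20)

* `eq_zero_of_cocycle`: a cocycle on `(p+2)`-tuples of `p+2` indices which vanishes on
  non-surjective tuples and on the identity tuple vanishes identically.
* `detsgn`: the signature of a tuple, defined as a determinant; `sum_detsgn_eq_zero` (the cocycle
  identity, Laplace expansion).
-/

set_option autoImplicit false
set_option linter.unusedVariables false
set_option linter.unusedSectionVars false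

universe u

namespace Groth.Agent.Lib.Helper20.TupleComb

open Groth.Agent.Lib.helper27 Groth.Agent.Lib.Helper20.CechPoU Equiv

section alt

variable {p : ℕ} {A : Type*} [AddCommGroup A]

/-- index type -/
abbrev I (p : ℕ) : Type u := ULift.{u} (Fin (p + 2))

variable (f : (Fin (p + 2) → I.{u} p) → A)

lemma not_injective_of_not_surjective (a : Fin (p + 2) → I.{u} p) (h : ¬ Function.Surjective a) :
    ¬ Function.Injective a := by
  intro hinj
  apply h
  have hcard : Fintype.card (Fin (p + 2)) = Fintype.card (I.{u} p) := by simp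
  exact ((Fintype.bijective_iff_injective_and_card a).2 ⟨hinj, hcard⟩).2

lemma not_surjective_of_not_injective (a : Fin (p + 2) → I.{u} p) (h : ¬ Function.Injective a) :
    ¬ Function.Surjective a := by
  intro hsurj
  apply h
  have hcard : Fintype.card (Fin (p + 2)) = Fintype.card (I.{u} p) := by simp
  exact ((Fintype.bijective_iff_surjective_and_card a).2 ⟨hsurj, hcard⟩).1

lemma cons_eq_comp_cycleRange (a : Fin (p + 2) → I.{u} p) (x : Fin (p + 2)) :
    (Fin.cons (a x) (a ∘ Fin.succAbove x) : Fin (p + 2) → I.{u} p) =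
      a ∘ (Fin.cycleRange x).symm := by
  funext j
  refine Fin.cases ?_ (fun j => ?_) j
  · simp
  · simp

variable (hF1 : ∀ a, ¬ Function.Surjective a → f a = 0)
  (hF2 : ∀ b : Fin (p + 3) → I.{u} p,
    ∑ i : Fin (p + 3), (-1 : ℤ) ^ (i : ℕ) • f (b ∘ Fin.succAbove i) = 0)

include hF1 hF2 in
lemma cycle_step (a : Fin (p + 2) → I.{u} p) (x : Fin (p + 2)) :
    f a + (-1 : ℤ) ^ ((x : ℕ) + 1) • f (a ∘ (Fin.cycleRange x).symm) = 0 := by
  have h := hF2 (Fin.cons (a x) a)
  rw [Fin.sum_univ_succ] at h
  simp only [Cech.cons_comp_succAbove_zero, Cech.cons_comp_succAbove_succ, Fin.val_zero,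
    pow_zero, one_smul, Fin.val_succ] at h
  rw [Finset.sum_eq_single x] at h
  · rw [cons_eq_comp_cycleRange] at h
    exact h
  · intro l _ hl
    have hni : ¬ Function.Injective (Fin.cons (a x) (a ∘ Fin.succAbove l) : Fin (p + 2) → I.{u} p) := by
      intro hinj
      obtain ⟨y, hy⟩ := Fin.exists_succAbove_eq (Ne.symm hl)
      have h1 : (Fin.cons (a x) (a ∘ Fin.succAbove l) : Fin (p + 2) → I.{u} p) 0 =
          (Fin.cons (a x) (a ∘ Fin.succAbove l) : Fin (p + 2) → I.{u} p) y.succ := by
        simp [hy]
      exact (Fin.succ_ne_zero y) (hinj h1).symm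
    rw [hF1 _ (not_surjective_of_not_injective _ hni), smul_zero]
  · intro h'
    exact (h' (Finset.mem_univ x)).elim

include hF1 hF2 in
lemma cycle_iff (a : Fin (p + 2) → I.{u} p) (x : Fin (p + 2)) :
    f (a ∘ (Fin.cycleRange x).symm) = 0 ↔ f a = 0 := by
  have h := cycle_step f hF1 hF2 a x
  constructor
  · intro h0
    rw [h0, smul_zero, add_zero] at h
    exact h
  · intro h0
    rw [h0, zero_add] at h
    have hu : IsUnit ((-1 : ℤ) ^ ((x : ℕ) + 1)) := (isUnit_one.neg).pow _
    obtain ⟨v, hv⟩ := hu
    have := congrArg (fun t => (v⁻¹ : ℤˣ).val • t) h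
    simp only [smul_zero] at this
    rw [← hv, smul_smul, Units.inv_mul, one_smul] at this
    exact this

/-- the property propagated along the symmetric group -/
def Good (σ : Perm (Fin (p + 2))) : Prop := ∀ a : Fin (p + 2) → I.{u} p, f (a ∘ σ) = 0 ↔ f a = 0

lemma good_one : Good f 1 := fun a => Iff.rfl

lemma good_mul {σ τ : Perm (Fin (p + 2))} (hσ : Good f σ) (hτ : Good f τ) : Good f (σ * τ) := by
  intro a
  have h1 : a ∘ (σ * τ) = (a ∘ σ) ∘ τ := rfl
  rw [h1, hτ, hσ]

lemma good_inv {σ : Perm (Fin (p + 2))} (hσ : Good f σ) : Good f σ⁻¹ := by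
  intro a
  have h1 : (a ∘ σ.symm) ∘ σ = a := by
    funext l
    simp
  have := hσ (a ∘ σ.symm)
  rw [h1] at this
  exact this.symm

include hF1 hF2 in
lemma good_all (σ : Perm (Fin (p + 2))) : Good f σ := by
  have hgen : Subgroup.closure ({finRotate (p + 2), swap (0 : Fin (p + 2)) (finRotate (p + 2) 0)} :
      Set (Perm (Fin (p + 2)))) = ⊤ :=
    Equiv.Perm.closure_cycle_adjacent_swap isCycle_finRotate support_finRotate 0
  have hσ : σ ∈ Subgroup.closure ({finRotate (p + 2), swap (0 : Fin (p + 2)) (finRotate (p + 2) 0)} :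
      Set (Perm (Fin (p + 2)))) := by
    rw [hgen]
    trivial
  induction hσ using Subgroup.closure_induction with
  | mem τ hτ =>
    rcases hτ with rfl | hτ
    · -- the rotation
      have h1 : finRotate (p + 2) = ((Fin.cycleRange (Fin.last (p + 1))).symm)⁻¹ := by
        rw [← Fin.cycleRange_last]
        rfl
      rw [h1]
      exact good_inv f (fun a => cycle_iff f hF1 hF2 a (Fin.last (p + 1)))
    · rw [Set.mem_singleton_iff] at hτ
      have h3 : finRotate (p + 2) 0 = 1 := by simp
      have h1 : τ = (Fin.cycleRange (1 : Fin (p + 2))).symm := by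
        rw [hτ, h3]
        apply Equiv.ext
        intro j
        refine Fin.cases ?_ (fun j => ?_) j
        · rw [swap_apply_left, Fin.cycleRange_symm_zero]
        · rw [Fin.cycleRange_symm_succ]
          refine Fin.cases ?_ (fun j => ?_) j
          · rw [Fin.succ_zero_eq_one, swap_apply_right]
            rfl
          · rw [swap_apply_of_ne_of_ne (Fin.succ_ne_zero _)]
            · rw [Fin.succAbove_of_le_castSucc]
              rw [Fin.le_castSucc_iff]
              show (1 : Fin (p + 2)) < j.succ.succ
              rw [← Fin.succ_zero_eq_one]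
              exact Fin.succ_lt_succ_iff.2 (Fin.succ_pos j)
            · intro h4
              have := congrArg Fin.val h4
              simp at this
      rw [h1]
      exact fun a => cycle_iff f hF1 hF2 a 1
  | one => exact good_one f
  | mul σ τ _ _ hσ hτ => exact good_mul f hσ hτ
  | inv σ _ hσ => exact good_inv f hσ

include hF1 hF2 in
/-- **Rigidity of top-degree cocycles**. -/
theorem eq_zero_of_cocycle (h0 : f (fun l => ULift.up l) = 0) (a : Fin (p + 2) → I.{u} p) :
    f a = 0 := by
  by_cases hs : Function.Surjective a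
  · have hbij : Function.Bijective (fun l => (a l).down) := by
      have hi : Function.Injective a := by
        by_contra hni
        exact not_surjective_of_not_injective a hni hs
      refine ⟨fun x y hxy => hi (ULift.ext _ _ hxy), fun y => ?_⟩
      obtain ⟨x, hx⟩ := hs (ULift.up y)
      exact ⟨x, by show (a x).down = y; rw [hx]⟩
    have ha : a = (fun l => ULift.up l) ∘ (Equiv.ofBijective _ hbij) := by
      funext l
      rfl
    rw [ha]
    exact (good_all f hF1 hF2 (Equiv.ofBijective _ hbij) _).2 h0
  · exact hF1 a hs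

end alt

section det

variable {p : ℕ}

/-- the signature of a tuple, as a determinant -/
noncomputable def detsgn (a : Fin (p + 2) → I.{u} p) : ℤ :=
  Matrix.det (Matrix.of fun k l : Fin (p + 2) => if (a k).down = l then (1 : ℤ) else 0)

lemma detsgn_id : detsgn (p := p) (fun l => ULift.up.{u} l) = 1 := by
  have : (Matrix.of fun k l : Fin (p + 2) => if k = l then (1 : ℤ) else 0) = 1 := by
    ext k l
    rw [Matrix.of_apply, Matrix.one_apply]
  rw [detsgn]
  simp only
  rw [this, Matrix.det_one]

lemma detsgn_eq_zero_of_not_injective (a : Fin (p + 2) → I.{u} p) (h : ¬ Function.Injective a) :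
    detsgn a = 0 := by
  rw [Function.Injective] at h
  push Not at h
  obtain ⟨x, y, hxy, hne⟩ := h
  apply Matrix.det_zero_of_row_eq hne
  funext l
  simp only [Matrix.of_apply, hxy]

lemma sum_detsgn_eq_zero (b : Fin (p + 3) → I.{u} p) :
    ∑ i : Fin (p + 3), (-1 : ℤ) ^ (i : ℕ) * detsgn (b ∘ Fin.succAbove i) = 0 := by
  let B : Matrix (Fin (p + 3)) (Fin (p + 3)) ℤ :=
    Matrix.of fun k l => Fin.cases (1 : ℤ) (fun l' => if (b k).down = l' then (1 : ℤ) else 0) l
  have h1 : B.det = ∑ i : Fin (p + 3), (-1 : ℤ) ^ (i : ℕ) * detsgn (b ∘ Fin.succAbove i) := by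
    rw [Matrix.det_succ_column_zero]
    refine Finset.sum_congr rfl (fun i _ => ?_)
    have h2 : B i 0 = 1 := rfl
    rw [h2, mul_one]
    rfl
  rw [← h1]
  obtain ⟨x, y, hne, hxy⟩ := Fintype.exists_ne_map_eq_of_card_lt b (by simp)
  apply Matrix.det_zero_of_row_eq hne
  funext l
  simp only [B, Matrix.of_apply, hxy]

end det

end Groth.Agent.Lib.Helper20.TupleComb
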