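import Mathlib
import Groth.Agent.Lib.Helper20.ProjTopFin
import Groth.Agent.Lib.Helper20.TupleComb
import Groth.Agent.Lib.Helper28.TwistQCoh

/-!
# The top cohomology of `O(d)` on projective space (helper20)
-/

set_option autoImplicit false
set_option linter.unusedVariables false
set_option linter.unusedSectionVars false

universe u

open CategoryTheory Limits Opposite TopologicalSpace AlgebraicGeometry MvPolynomial
  HomogeneousLocalization

namespace Groth.Agent.Lib.Helper20.ProjTopCoh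

open Groth.Agent.Lib.helper27 Groth.Agent.Lib.Helper20.CechPoU
  Groth.Agent.Lib.Helper20.ProjLaurent Groth.Agent.Lib.Helper20.ProjCechO
  Groth.Agent.Lib.Helper20.ProjCechTw Groth.Agent.Lib.Helper20.ProjGamma
  Groth.Agent.Lib.Helper20.ProjH0 Groth.Agent.Lib.Helper20.ProjTopFin
  Groth.Agent.Lib.Helper20.TupleComb

variable (p : ℕ) (R : Type u) [CommRing R] (k : ℕ)

/-- exponent vectors of monomials of degree `k` -/
abbrev Mon : Type := ↥({s : Fin (p + 1 + 1) →₀ ℕ | s.degree = k} : Set (Fin (p + 1 + 1) →₀ ℕ))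

/-- the entirely negative exponent vector attached to a monomial -/
def negExp (s : Fin (p + 1 + 1) →₀ ℕ) : Fin (p + 1 + 1) → ℤ := fun j => -1 - (s j : ℤ)

lemma negExp_injective : Function.Injective (negExp p) := by
  intro s t h
  ext j
  have := congrFun h j
  simp only [negExp] at this
  omega

lemma negExp_neg (s : Fin (p + 1 + 1) →₀ ℕ) (j : Fin (p + 1 + 1)) : negExp p s j < 0 := by
  simp only [negExp]
  omega

/-- the degree of the twist -/
def dk : ℤ := -(((p + 1 : ℕ) : ℤ) + 1 + k)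

lemma sum_negExp (s : Mon p k) : ∑ j, negExp p s.1 j = dk p k := by
  have hs : s.1.degree = k := s.2
  rw [Finsupp.degree_eq_sum] at hs
  simp only [negExp, Finset.sum_sub_distrib, Finset.sum_const, Finset.card_univ, Fintype.card_fin,
    smul_eq_mul, dk]
  have : (∑ j, (s.1 j : ℤ)) = k := by
    have h2 : ((∑ i, s.1 i : ℕ) : ℤ) = (k : ℤ) := by exact_mod_cast hs
    push_cast at h2
    exact h2
  rw [this]
  push_cast
  ring

lemma exists_mon_of_neg (e : Fin (p + 1 + 1) → ℤ) (hneg : ∀ j, e j < 0)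
    (hsum : ∑ j, e j = dk p k) : ∃ s : Mon p k, negExp p s.1 = e := by
  let s : Fin (p + 1 + 1) →₀ ℕ := Finsupp.equivFunOnFinite.symm (fun j => (-1 - e j).toNat)
  have hs : ∀ j, (s j : ℤ) = -1 - e j := by
    intro j
    show (((-1 - e j).toNat : ℕ) : ℤ) = _
    have := hneg j
    omega
  have hdeg : s.degree = k := by
    rw [Finsupp.degree_eq_sum]
    have h1 : ((∑ j, s j : ℕ) : ℤ) = k := by
      push_cast
      simp only [hs, Finset.sum_sub_distrib, Finset.sum_const, Finset.card_univ, Fintype.card_fin,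
        smul_eq_mul, hsum, dk]
      push_cast
      ring
    exact_mod_cast h1
  refine ⟨⟨s, hdeg⟩, ?_⟩
  funext j
  simp only [negExp, hs]
  ring

/-- the identity tuple -/
def a₀ : Fin (p + 1 + 1) → ι.{u} (p + 1) := fun l => ULift.up l

/-- the detecting map: coefficients of the identity component at the negative monomials -/
noncomputable def θ₀ :
    (∏ᶜ Cech.Z (U (p + 1) R) (Fd (p + 1) R (dk p k)) (p + 1) : AddCommGrpCat.{u}) →+
      (Mon p k →₀ R) :=
  (Finsupp.comapDomain.addMonoidHom (M := R)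
    (f := fun s : Mon p k => negExp p s.1)
    (fun s t h => Subtype.ext (negExp_injective p h))).comp
  ((AddMonoidAlgebra.coeffAddEquiv.toAddMonoidHom.comp
    (ρtd (p + 1) R (dk p k) (p + 1) (a₀ p))).comp
      (Pi.π (Cech.Z (U (p + 1) R) (Fd (p + 1) R (dk p k)) (p + 1)) (a₀ p)).hom)

lemma θ₀_apply (c : (∏ᶜ Cech.Z (U (p + 1) R) (Fd (p + 1) R (dk p k)) (p + 1) : AddCommGrpCat.{u}))
    (s : Mon p k) :
    θ₀ p R k c s =
      (r (U (p + 1) R) (Fd (p + 1) R (dk p k)) (ρtd (p + 1) R (dk p k)) (p + 1) c (a₀ p)).coeff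
        (negExp p s.1) := rfl

lemma θ₀_d' (y : (∏ᶜ Cech.Z (U (p + 1) R) (Fd (p + 1) R (dk p k)) p : AddCommGrpCat.{u})) :
    θ₀ p R k (Cech.d' (U (p + 1) R) (Fd (p + 1) R (dk p k)) p y) = 0 := by
  ext s
  rw [θ₀_apply, r_d' (U (p + 1) R) (Fd (p + 1) R (dk p k)) (ρtd (p + 1) R (dk p k))
    (ρtd_face (p + 1) R (dk p k))]
  simp only [dFun]
  rw [AddMonoidAlgebra.coeff_sum, Finsupp.finsetSum_apply]
  apply Finset.sum_eq_zero
  intro i _
  rw [AddMonoidAlgebra.coeff_smul, Finsupp.smul_apply]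
  have hmem : r (U (p + 1) R) (Fd (p + 1) R (dk p k)) (ρtd (p + 1) R (dk p k)) p y
      (a₀ p ∘ Fin.succAbove i) ∈ Supd R (dk p k) (mult (a₀ p ∘ Fin.succAbove i)) := by
    rw [← range_ρtd]
    exact ⟨_, rfl⟩
  obtain ⟨j, hj⟩ := exists_mult_eq_zero (a₀ p ∘ Fin.succAbove i) (le_refl _)
  rw [coeff_eq_zero_of_mem_Supd p R (dk p k) hmem j hj _ (negExp_neg p s.1 j), smul_zero]

lemma θ₀_smul (t : R)
    (c : (∏ᶜ Cech.Z (U (p + 1) R) (Fd (p + 1) R (dk p k)) (p + 1) : AddCommGrpCat.{u})) :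
    θ₀ p R k (((cechComplexFunctor (U (p + 1) R)).map (act p R (dk p k) t).hom).f (p + 1) c) =
      t • θ₀ p R k c := by
  ext s
  rw [Finsupp.smul_apply, θ₀_apply, θ₀_apply, smul_eq_mul]
  have h1 : Pi.π (Cech.Z (U (p + 1) R) (Fd (p + 1) R (dk p k)) (p + 1)) (a₀ p)
      (((cechComplexFunctor (U (p + 1) R)).map (act p R (dk p k) t).hom).f (p + 1) c) =
      smulSec (p + 1) R (dk p k) t (∏ᶜ (U (p + 1) R ∘ a₀ p))
        (Pi.π (Cech.Z (U (p + 1) R) (Fd (p + 1) R (dk p k)) (p + 1)) (a₀ p) c) :=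
    CechLeray.π_map_apply _ _ (fun a : Fin (p + 1 + 1) → ι (p + 1) =>
      (act p R (dk p k) t).hom.app (op (∏ᶜ (U (p + 1) R ∘ a)))) (a₀ p) c
  refine (congrArg (fun σ => ((ρtd (p + 1) R (dk p k) (p + 1) (a₀ p)) σ).coeff
    (negExp p s.1)) h1).trans ?_
  exact coeff_ρd_smulSec (p + 1) R (dk p k) t (mult (a₀ p)) (deg_pos (p + 1) (a₀ p))
    (Dp_mult R (a₀ p)).symm _ _

lemma exists_mult_eq_zero_of_not_surjective (a : Fin (p + 1 + 1) → ι.{u} (p + 1))
    (h : ¬ Function.Surjective a) : ∃ j, mult a j = 0 := by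
  rw [Function.Surjective] at h
  push Not at h
  obtain ⟨b, hb⟩ := h
  refine ⟨b.down, ?_⟩
  rw [mult_apply]
  apply Finset.sum_eq_zero
  intro i _
  rw [if_neg]
  intro hi
  exact hb i (ULift.ext _ _ hi)

/-- A cocycle whose identity component has no negative monomials has no negative monomials at
all. -/
lemma θ_eq_zero_of_θ₀_eq_zero
    (z : (∏ᶜ Cech.Z (U (p + 1) R) (Fd (p + 1) R (dk p k)) (p + 1) : AddCommGrpCat.{u}))
    (hdz : Cech.d' (U (p + 1) R) (Fd (p + 1) R (dk p k)) (p + 1) z = 0)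
    (hz : θ₀ p R k z = 0) : θ p R (dk p k) z = 0 := by
  funext s
  rw [θ_apply]
  set e := expo p (dk p k) s with he
  have hmemS : ∀ a, r (U (p + 1) R) (Fd (p + 1) R (dk p k)) (ρtd (p + 1) R (dk p k)) (p + 1) z a ∈
      Supd R (dk p k) (mult a) := by
    intro a
    rw [← range_ρtd]
    exact ⟨_, rfl⟩
  by_cases hsum : ∑ j, e j = dk p k
  · obtain ⟨s', hs'⟩ := exists_mon_of_neg p k e (expo_neg p (dk p k) s) hsum
    let f : (Fin (p + 2) → TupleComb.I.{u} p) → R := fun a =>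
      (r (U (p + 1) R) (Fd (p + 1) R (dk p k)) (ρtd (p + 1) R (dk p k)) (p + 1) z a).coeff e
    have hF1 : ∀ a, ¬ Function.Surjective a → f a = 0 := by
      intro a ha
      obtain ⟨j, hj⟩ := exists_mult_eq_zero_of_not_surjective p a ha
      exact coeff_eq_zero_of_mem_Supd p R (dk p k) (hmemS a) j hj e (expo_neg p (dk p k) s j)
    have hF2 : ∀ b : Fin (p + 3) → TupleComb.I.{u} p,
        ∑ i : Fin (p + 3), (-1 : ℤ) ^ (i : ℕ) • f (b ∘ Fin.succAbove i) = 0 := by
      intro b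
      have h1 : dFun (p + 1) (r (U (p + 1) R) (Fd (p + 1) R (dk p k))
          (ρtd (p + 1) R (dk p k)) (p + 1) z) = 0 := by
        rw [← r_d' (U (p + 1) R) (Fd (p + 1) R (dk p k)) (ρtd (p + 1) R (dk p k))
          (ρtd_face (p + 1) R (dk p k)), hdz, r_zero]
      have h2 := congrArg (fun x : Lau (p + 1) R => x.coeff e) (congrFun h1 b)
      simp only [dFun, Pi.zero_apply] at h2
      rw [AddMonoidAlgebra.coeff_sum, Finsupp.finsetSum_apply] at h2
      simp only [AddMonoidAlgebra.coeff_smul, Finsupp.smul_apply] at h2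
      exact h2
    have h0 : f (fun l => ULift.up l) = 0 := by
      have h3 := DFunLike.congr_fun hz s'
      rw [θ₀_apply, hs'] at h3
      exact h3
    exact TupleComb.eq_zero_of_cocycle f hF1 hF2 h0 s.2
  · by_contra hne
    exact hsum ((hmemS s.2) e (Finsupp.mem_support_iff.mpr hne)).1

lemma exists_of_θ₀_eq_zero
    (z : (∏ᶜ Cech.Z (U (p + 1) R) (Fd (p + 1) R (dk p k)) (p + 1) : AddCommGrpCat.{u}))
    (hdz : Cech.d' (U (p + 1) R) (Fd (p + 1) R (dk p k)) (p + 1) z = 0)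
    (hz : θ₀ p R k z = 0) :
    ∃ y : (∏ᶜ Cech.Z (U (p + 1) R) (Fd (p + 1) R (dk p k)) p : AddCommGrpCat.{u}),
      Cech.d' (U (p + 1) R) (Fd (p + 1) R (dk p k)) p y = z :=
  exists_of_θ_eq_zero p R (dk p k) z hdz (θ_eq_zero_of_θ₀_eq_zero p R k z hdz hz)

/-- the Laurent polynomial of a coefficient vector -/
noncomputable def yg (g : Mon p k →₀ R) : Lau (p + 1) R :=
  AddMonoidAlgebra.ofCoeff (Finsupp.mapDomain (fun s : Mon p k => negExp p s.1) g)

lemma coeff_yg (g : Mon p k →₀ R) (s : Mon p k) : (yg p R k g).coeff (negExp p s.1) = g s :=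
  Finsupp.mapDomain_apply (fun s t h => Subtype.ext (negExp_injective p h)) g s

lemma mult_ne_zero_of_surjective (a : Fin (p + 1 + 1) → ι.{u} (p + 1))
    (h : Function.Surjective a) (j : Fin (p + 1 + 1)) : mult a j ≠ 0 := by
  obtain ⟨i, hi⟩ := h (ULift.up j)
  rw [mult_apply]
  intro h0
  have h1 := (Finset.sum_eq_zero_iff.1 h0) i (Finset.mem_univ i)
  rw [if_pos (by rw [hi])] at h1
  exact one_ne_zero h1

lemma yg_mem (g : Mon p k →₀ R) (a : Fin (p + 1 + 1) → ι.{u} (p + 1))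
    (h : Function.Surjective a) : yg p R k g ∈ Supd R (dk p k) (mult a) := by
  intro e he
  have he' : e ∈ (Finsupp.mapDomain (fun s : Mon p k => negExp p s.1) g).support := he
  obtain ⟨s, -, rfl⟩ := Finset.mem_image.1 (Finsupp.mapDomain_support he')
  exact ⟨sum_negExp p k s, fun j hj => (mult_ne_zero_of_surjective p a h j hj).elim⟩

lemma exists_ρtd_eq_yg (g : Mon p k →₀ R) (a : Fin (p + 1 + 1) → ι.{u} (p + 1))
    (h : Function.Surjective a) :
    ∃ σ : Cech.Z (U (p + 1) R) (Fd (p + 1) R (dk p k)) (p + 1) a,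
      ρtd (p + 1) R (dk p k) (p + 1) a σ = yg p R k g := by
  have := yg_mem p R k g a h
  rw [← range_ρtd] at this
  exact this

open Classical in
/-- the components of the explicit cocycle -/
noncomputable def zcomp (g : Mon p k →₀ R) (a : Fin (p + 1 + 1) → ι.{u} (p + 1)) :
    Cech.Z (U (p + 1) R) (Fd (p + 1) R (dk p k)) (p + 1) a :=
  if hs : Function.Surjective a then
    (detsgn (p := p) a) • (exists_ρtd_eq_yg p R k g a hs).choose
  else 0

lemma ρtd_zcomp (g : Mon p k →₀ R) (a : Fin (p + 1 + 1) → ι.{u} (p + 1)) :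
    ρtd (p + 1) R (dk p k) (p + 1) a (zcomp p R k g a) = (detsgn (p := p) a) • yg p R k g := by
  by_cases hs : Function.Surjective a
  · rw [zcomp, dif_pos hs, map_zsmul, (exists_ρtd_eq_yg p R k g a hs).choose_spec]
  · rw [zcomp, dif_neg hs, map_zero,
      detsgn_eq_zero_of_not_injective a (not_injective_of_not_surjective a hs), zero_smul]

/-- the explicit cocycle -/
noncomputable def zg (g : Mon p k →₀ R) :
    (∏ᶜ Cech.Z (U (p + 1) R) (Fd (p + 1) R (dk p k)) (p + 1) : AddCommGrpCat.{u}) :=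
  (Concrete.productEquiv (Cech.Z (U (p + 1) R) (Fd (p + 1) R (dk p k)) (p + 1))).symm
    (zcomp p R k g)

lemma r_zg (g : Mon p k →₀ R) :
    r (U (p + 1) R) (Fd (p + 1) R (dk p k)) (ρtd (p + 1) R (dk p k)) (p + 1) (zg p R k g) =
      fun a => (detsgn (p := p) a) • yg p R k g := by
  funext a
  simp only [r, zg]
  rw [Concrete.productEquiv_symm_apply_π]
  exact ρtd_zcomp p R k g a

lemma d'_zg (g : Mon p k →₀ R) :
    Cech.d' (U (p + 1) R) (Fd (p + 1) R (dk p k)) (p + 1) (zg p R k g) = 0 := by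
  apply r_injective (U (p + 1) R) (Fd (p + 1) R (dk p k)) (ρtd (p + 1) R (dk p k)) (p + 2)
    (fun b => ρtd_injective (p + 1) R (dk p k) (p + 2) b)
  rw [r_d' (U (p + 1) R) (Fd (p + 1) R (dk p k)) (ρtd (p + 1) R (dk p k))
    (ρtd_face (p + 1) R (dk p k)), r_zero, r_zg]
  funext b
  simp only [dFun, Pi.zero_apply, smul_smul]
  rw [← Finset.sum_smul, sum_detsgn_eq_zero, zero_smul]

lemma θ₀_zg (g : Mon p k →₀ R) : θ₀ p R k (zg p R k g) = g := by
  ext s
  rw [θ₀_apply, r_zg]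
  show ((detsgn (p := p) (a₀ p)) • yg p R k g).coeff (negExp p s.1) = g s
  have h1 : detsgn (p := p) (a₀.{u} p) = 1 := detsgn_id
  rw [h1, one_smul, coeff_yg]

/-- **Top cohomology of `O(-(n+1+k))` on `ℙⁿ_R`, `n = p + 1 ≥ 1`.** -/
theorem exists_linearEquiv_top :
    Nonempty (Coh.HH (CohB1.ProjSpace (p + 1) R) (Twist.twistProjSpace (p + 1) R (dk p k)) (p + 1)
      ≃ₗ[R] ↥(MvPolynomial.homogeneousSubmodule (Fin (p + 1 + 1)) R k)) := by
  haveI hqc : Coh.IsQCoh (Twist.twistProjSpace (p + 1) R (dk p k)) :=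
    Groth.Agent.Lib.helper28.TwistQCoh.twist_isQuasicoherent (CohB1.polyGrading (p + 1) R) (dk p k)
  have h2 := isAcyc_of_affine (CohB1.ProjSpace (p + 1) R) (U (p + 1) R) (ProjTopFin.hU (p + 1) R)
    (Twist.twistProjSpace (p + 1) R (dk p k))
  obtain ⟨Ψ, hΨ⟩ := CechFin.exists_addEquiv_of_cech (U (p + 1) R) (ProjTopFin.hcov (p + 1) R)
    (Coh.toAb (Twist.twistProjSpace (p + 1) R (dk p k))) h2 p (act p R (dk p k))
    (θ₀ p R k) (θ₀_d' p R k) (θ₀_smul p R k)
    (fun z hdz hz => exists_of_θ₀_eq_zero p R k z hdz hz)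
    (fun g => ⟨zg p R k g, d'_zg p R k g, θ₀_zg p R k g⟩)
  let e1 : Coh.HH (CohB1.ProjSpace (p + 1) R) (Twist.twistProjSpace (p + 1) R (dk p k)) (p + 1)
      ≃ₗ[R] (Mon p k →₀ R) :=
    { Ψ with
      map_smul' := fun t x => hΨ t x }
  let e2 : ↥(MvPolynomial.homogeneousSubmodule (Fin (p + 1 + 1)) R k) ≃ₗ[R] (Mon p k →₀ R) :=
    (LinearEquiv.ofEq _ _ (MvPolynomial.homogeneousSubmodule_eq_finsupp_supported
      (Fin (p + 1 + 1)) R k)).trans (AddMonoidAlgebra.supportedEquivFinsupp _)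
  exact ⟨e1.trans e2.symm⟩

end Groth.Agent.Lib.Helper20.ProjTopCoh
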