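import Mathlib
import Groth.Agent.Lib.Helper20.ProjDual2b
import Groth.Agent.Lib.Helper20.ProjTopCoh
import Groth.Agent.Lib.Helper20.CechFin2
import Groth.Agent.Lib.Helper20.HomogRank

/-!
# The duality pairing on the top cohomology of `O(d)` on projective space (helper20)
-/

set_option autoImplicit false
set_option linter.unusedVariables false
set_option linter.unusedSectionVars false

universe u

open CategoryTheory Limits Opposite TopologicalSpace AlgebraicGeometry MvPolynomial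

namespace Groth.Agent.Lib.Helper20.ProjDual

open Groth.Agent.Lib.helper27 Groth.Agent.Lib.Helper20.ProjLaurent Groth.Agent.Lib.Helper20.CechPoU
  Groth.Agent.Lib.Helper20.ProjCechO Groth.Agent.Lib.Helper20.ProjCechTw
  Groth.Agent.Lib.helper28.GrFrac
  Groth.Agent.Lib.helper28.TwistSec Groth.Agent.Lib.helper28.TwistFree
  Groth.Agent.Lib.Helper20.ProjMulHom Groth.Agent.Lib.helper28.TwistMul
  Groth.Agent.Lib.Helper20.ProjTopCoh Groth.Agent.Lib.Helper20.ProjTopFin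
  Groth.Agent.Lib.Helper20.HomogRank

section laurent

variable (p : ℕ) (R : Type u) [CommRing R] (k : ℕ)

/-- the Laurent polynomial with prescribed coefficients at the monomials of degree `k` -/
noncomputable def polyG (γ : Mon p k → R) : Lau (p + 1) R :=
  ∑ s : Mon p k, AddMonoidAlgebra.single (expHom (p + 1) s.1) (γ s)

lemma negExp_zero_sub (s : Fin (p + 1 + 1) →₀ ℕ) :
    negExp p 0 + -(expHom (p + 1) s) = negExp p s := by
  funext j
  simp only [negExp, Pi.add_apply, Pi.neg_apply, expHom_apply, Finsupp.coe_zero, Pi.zero_apply,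
    Nat.cast_zero]
  ring

lemma coeff_mul_polyG (Y : Lau (p + 1) R) (γ : Mon p k → R) :
    (Y * polyG p R k γ).coeff (negExp p 0) = ∑ s : Mon p k, Y.coeff (negExp p s.1) * γ s := by
  rw [polyG, Finset.mul_sum, AddMonoidAlgebra.coeff_sum, Finsupp.finsetSum_apply]
  refine Finset.sum_congr rfl (fun s _ => ?_)
  rw [AddMonoidAlgebra.coeff_mul_single_apply, negExp_zero_sub]

lemma coeff_polyG (γ : Mon p k → R) (s : Mon p k) :
    (polyG p R k γ).coeff (expHom (p + 1) s.1) = γ s := by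
  classical
  rw [polyG, AddMonoidAlgebra.coeff_sum, Finsupp.finsetSum_apply]
  rw [Finset.sum_eq_single s]
  · rw [AddMonoidAlgebra.coeff_single, Finsupp.single_eq_same]
  · intro s' _ hne
    rw [AddMonoidAlgebra.coeff_single, Finsupp.single_eq_of_ne]
    intro h
    exact hne (Subtype.ext (expHom_injective (p + 1) h)).symm
  · intro h
    exact absurd (Finset.mem_univ s) h

lemma coeff_polyG_of_notMem (γ : Mon p k → R) (e : Fin (p + 1 + 1) → ℤ)
    (he : ∀ s : Mon p k, expHom (p + 1) s.1 ≠ e) : (polyG p R k γ).coeff e = 0 := by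
  classical
  rw [polyG, AddMonoidAlgebra.coeff_sum, Finsupp.finsetSum_apply]
  apply Finset.sum_eq_zero
  intro s _
  rw [AddMonoidAlgebra.coeff_single, Finsupp.single_eq_of_ne]
  exact fun h => he s h.symm

lemma eq_polyG (G : Lau (p + 1) R)
    (h : ∀ e, G.coeff e ≠ 0 → (∑ j, e j = (k : ℤ)) ∧ ∀ j, 0 ≤ e j) :
    G = polyG p R k (fun s => G.coeff (expHom (p + 1) s.1)) := by
  apply AddMonoidAlgebra.ext
  apply Finsupp.ext
  intro e
  by_cases hex : ∃ s : Mon p k, expHom (p + 1) s.1 = e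
  · obtain ⟨s, rfl⟩ := hex
    rw [coeff_polyG]
  · push Not at hex
    rw [coeff_polyG_of_notMem p R k _ e hex]
    by_contra hne
    obtain ⟨h1, h2⟩ := h e hne
    let s : Fin (p + 1 + 1) →₀ ℕ := Finsupp.equivFunOnFinite.symm (fun j => (e j).toNat)
    have hs : ∀ j, (s j : ℤ) = e j := fun j => Int.toNat_of_nonneg (h2 j)
    have hdeg : s.degree = k := by
      rw [Finsupp.degree_eq_sum]
      have h3 : ((∑ j, s j : ℕ) : ℤ) = k := by
        push_cast
        simp only [hs]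
        exact h1
      exact_mod_cast h3
    exact hex ⟨s, hdeg⟩ (funext fun j => hs j)

end laurent

section mul

variable {n : ℕ} {R : Type u} [CommRing R]

lemma isFracOn'_mulSec {a b : ℤ} {k : ℕ} (h : a + (k : ℤ) = b) (f : CohB1.polyGrading n R k)
    {W : (PX n R).Opens} (σ : Sec n R a W) {u : Fin (n + 1) →₀ ℕ}
    {m : MvPolynomial (Fin (n + 1)) R} (hσ : IsFracOn' σ u m) :
    IsFracOn' (mulSec (CohB1.polyGrading n R) h f W σ) u (m * f.1) := by
  intro x
  obtain ⟨hx, e⟩ := hσ x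
  refine ⟨hx, ?_⟩
  refine (mulSec_val (CohB1.polyGrading n R) h f W σ x).trans ?_
  rw [e]
  unfold mkOne
  rw [Localization.mk_mul, mk_eq_mk_iff']
  exact ⟨1, by simp⟩

lemma ρd_mulSec {a b : ℤ} {k : ℕ} (h : a + (k : ℤ) = b) (f : CohB1.polyGrading n R k)
    {W : (PX n R).Opens} (s : Fin (n + 1) →₀ ℕ) (hs : 0 < s.degree) (hW : W = Dp n R s)
    (σ : Sec n R a W) :
    ρd s hs hW (mulSec (CohB1.polyGrading n R) h f W σ) = ρd s hs hW σ * φ n R f.1 := by
  obtain ⟨K, i, m, hm, hi, hσ⟩ := exists_rep s hs hW σ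
  have hσ' := isFracOn'_of_isFracOn hσ
  have hdeg : (((K • s).degree : ℕ) : ℤ) = K * s.degree := by
    rw [map_nsmul, smul_eq_mul]
    push_cast
    ring
  rw [ρd_eq' s hs hW σ (K • s) K le_rfl hm (by rw [hi, hdeg]) hσ',
    ρd_eq' s hs hW _ (K • s) K le_rfl (SetLike.mul_mem_graded hm f.2)
      (by push_cast; rw [hi, hdeg]; linarith) (isFracOn'_mulSec h f σ hσ'), map_mul]
  ring

end mul

section coh

variable (p : ℕ) (R : Type u) [CommRing R] (k : ℕ)

open Groth.Agent.Lib.Helper20.CechNatTop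

lemma hAcyc (d : ℤ) :
    IsAcyc (U (p + 1) R) (Coh.toAb (Twist.twistProjSpace (p + 1) R d)) := by
  have hqc : Coh.IsQCoh (Twist.twistProjSpace (p + 1) R d) :=
    Groth.Agent.Lib.helper28.TwistQCoh.twist_isQuasicoherent (CohB1.polyGrading (p + 1) R) d
  exact isAcyc_of_affine (CohB1.ProjSpace (p + 1) R) (U (p + 1) R) (ProjTopFin.hU (p + 1) R)
    (Twist.twistProjSpace (p + 1) R d)

/-- the coordinates of the top cohomology of `O(-(n+1+k))` -/
noncomputable def Ψk :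
    Coh.HH (CohB1.ProjSpace (p + 1) R) (Twist.twistProjSpace (p + 1) R (dk p k)) (p + 1) →+
      (Mon p k →₀ R) :=
  CechFin.ΨH (U (p + 1) R) (ProjTopFin.hcov (p + 1) R)
    (Coh.toAb (Twist.twistProjSpace (p + 1) R (dk p k))) (hAcyc p R (dk p k)) p
    (θ₀ p R k) (θ₀_d' p R k)

lemma Ψk_bijective : Function.Bijective (Ψk p R k) :=
  CechFin.ΨH_bijective (U (p + 1) R) (ProjTopFin.hcov (p + 1) R)
    (Coh.toAb (Twist.twistProjSpace (p + 1) R (dk p k))) (hAcyc p R (dk p k)) p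
    (θ₀ p R k) (θ₀_d' p R k)
    (fun z hdz hz => exists_of_θ₀_eq_zero p R k z hdz hz)
    (fun g => ⟨zg p R k g, d'_zg p R k g, θ₀_zg p R k g⟩)

lemma Ψk_smul (t : R)
    (x : Coh.HH (CohB1.ProjSpace (p + 1) R) (Twist.twistProjSpace (p + 1) R (dk p k)) (p + 1)) :
    Ψk p R k (t • x) = t • Ψk p R k x :=
  CechFin.ΨH_natural (U (p + 1) R) (ProjTopFin.hcov (p + 1) R)
    (Coh.toAb (Twist.twistProjSpace (p + 1) R (dk p k))) (hAcyc p R (dk p k)) p
    (θ₀ p R k) (θ₀_d' p R k)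
    (Coh.toAb (Twist.twistProjSpace (p + 1) R (dk p k))) (hAcyc p R (dk p k))
    (θ₀ p R k) (θ₀_d' p R k) (act p R (dk p k) t)
    (DistribSMul.toAddMonoidHom (Mon p k →₀ R) t) (θ₀_smul p R k t) x

/-- the coordinates of the top cohomology, as a linear equivalence -/
noncomputable def ΨkL :
    Coh.HH (CohB1.ProjSpace (p + 1) R) (Twist.twistProjSpace (p + 1) R (dk p k)) (p + 1) ≃ₗ[R]
      (Mon p k →₀ R) :=
  { AddEquiv.ofBijective (Ψk p R k) (Ψk_bijective p R k) with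
    map_smul' := fun t x => Ψk_smul p R k t x }

lemma ΨkL_apply
    (x : Coh.HH (CohB1.ProjSpace (p + 1) R) (Twist.twistProjSpace (p + 1) R (dk p k)) (p + 1)) :
    ΨkL p R k x = Ψk p R k x := rfl

/-- the monomial `1` -/
def s₀ : Mon p 0 := ⟨0, map_zero _⟩

lemma mon_zero_eq (s : Mon p 0) : s = s₀ p := by
  apply Subtype.ext
  have h : s.1.degree = 0 := s.2
  exact (Finsupp.degree_eq_zero_iff _).mp h

/-- the detecting functional on top cochains of `O(-(n+1))` -/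
noncomputable def θt :
    (∏ᶜ Cech.Z (U (p + 1) R) (Fd (p + 1) R (dk p 0)) (p + 1) : AddCommGrpCat.{u}) →+ R :=
  (Finsupp.applyAddHom (s₀ p)).comp (θ₀ p R 0)

lemma θt_apply (c : (∏ᶜ Cech.Z (U (p + 1) R) (Fd (p + 1) R (dk p 0)) (p + 1) : AddCommGrpCat.{u})) :
    θt p R c = θ₀ p R 0 c (s₀ p) := rfl

lemma θt_d' (y : (∏ᶜ Cech.Z (U (p + 1) R) (Fd (p + 1) R (dk p 0)) p : AddCommGrpCat.{u})) :
    θt p R (Cech.d' (U (p + 1) R) (Fd (p + 1) R (dk p 0)) p y) = 0 := by
  rw [θt_apply, θ₀_d']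
  rfl

/-- the trace `H^n(ℙⁿ, O(-(n+1))) → R` -/
noncomputable def tAdd :
    Coh.HH (CohB1.ProjSpace (p + 1) R) (Twist.twistProjSpace (p + 1) R (dk p 0)) (p + 1) →+ R :=
  CechFin.ΨH (U (p + 1) R) (ProjTopFin.hcov (p + 1) R)
    (Coh.toAb (Twist.twistProjSpace (p + 1) R (dk p 0))) (hAcyc p R (dk p 0)) p
    (θt p R) (θt_d' p R)

lemma tAdd_bijective : Function.Bijective (tAdd p R) :=
  CechFin.ΨH_bijective (U (p + 1) R) (ProjTopFin.hcov (p + 1) R)
    (Coh.toAb (Twist.twistProjSpace (p + 1) R (dk p 0))) (hAcyc p R (dk p 0)) p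
    (θt p R) (θt_d' p R)
    (fun z hdz hz => exists_of_θ₀_eq_zero p R 0 z hdz (by
      ext s
      rw [mon_zero_eq p s]
      exact hz))
    (fun g => ⟨zg p R 0 (Finsupp.single (s₀ p) g), d'_zg p R 0 _,
      (θt_apply p R _).trans (by rw [θ₀_zg, Finsupp.single_eq_same])⟩)

lemma tAdd_smul (t : R)
    (x : Coh.HH (CohB1.ProjSpace (p + 1) R) (Twist.twistProjSpace (p + 1) R (dk p 0)) (p + 1)) :
    tAdd p R (t • x) = t • tAdd p R x :=
  CechFin.ΨH_natural (U (p + 1) R) (ProjTopFin.hcov (p + 1) R)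
    (Coh.toAb (Twist.twistProjSpace (p + 1) R (dk p 0))) (hAcyc p R (dk p 0)) p
    (θt p R) (θt_d' p R)
    (Coh.toAb (Twist.twistProjSpace (p + 1) R (dk p 0))) (hAcyc p R (dk p 0))
    (θt p R) (θt_d' p R) (act p R (dk p 0) t)
    (DistribSMul.toAddMonoidHom R t)
    (fun c => DFunLike.congr_fun (θ₀_smul p R 0 t c) (s₀ p)) x

/-- the trace, as a linear equivalence -/
noncomputable def tL :
    Coh.HH (CohB1.ProjSpace (p + 1) R) (Twist.twistProjSpace (p + 1) R (dk p 0)) (p + 1) ≃ₗ[R] R :=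
  { AddEquiv.ofBijective (tAdd p R) (tAdd_bijective p R) with
    map_smul' := fun t x => tAdd_smul p R t x }

lemma tL_apply
    (x : Coh.HH (CohB1.ProjSpace (p + 1) R) (Twist.twistProjSpace (p + 1) R (dk p 0)) (p + 1)) :
    tL p R x = tAdd p R x := rfl

end coh

section pairing

variable (p : ℕ) (R : Type u) [CommRing R] (k : ℕ)

open Groth.Agent.Lib.Helper20.CechNatTop

lemma a₀_surjective : Function.Surjective (a₀.{u} p) := fun b => ⟨b.down, rfl⟩

lemma mult_a₀_ne (j : Fin (p + 1 + 1)) : mult (a₀.{u} p) j ≠ 0 :=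
  mult_ne_zero_of_surjective p (a₀ p) (a₀_surjective p) j

/-- the pairing formula on cohomology for a morphism multiplying by `polyG γ` -/
lemma pairing
    (δ : Twist.twistProjSpace (p + 1) R (dk p k) ⟶ Twist.twistProjSpace (p + 1) R (dk p 0))
    (γ : Mon p k → R)
    (hδ : ∀ σ : Sec (p + 1) R (dk p k) (∏ᶜ (U (p + 1) R ∘ a₀ p)),
      ρtd (p + 1) R (dk p 0) (p + 1) (a₀ p) (appOf δ (∏ᶜ (U (p + 1) R ∘ a₀ p)) σ) =
        ρtd (p + 1) R (dk p k) (p + 1) (a₀ p) σ * polyG p R k γ)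
    (x : Coh.HH (CohB1.ProjSpace (p + 1) R) (Twist.twistProjSpace (p + 1) R (dk p k)) (p + 1)) :
    tAdd p R (Sheaf.H.map
      ((SheafOfModules.toSheaf (CohB1.ProjSpace (p + 1) R).ringCatSheaf).map δ) (p + 1) x) =
      Finsupp.linearCombination R γ (Ψk p R k x) := by
  refine CechFin.ΨH_natural (U (p + 1) R) (ProjTopFin.hcov (p + 1) R)
    (Coh.toAb (Twist.twistProjSpace (p + 1) R (dk p k))) (hAcyc p R (dk p k)) p
    (θ₀ p R k) (θ₀_d' p R k)
    (Coh.toAb (Twist.twistProjSpace (p + 1) R (dk p 0))) (hAcyc p R (dk p 0))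
    (θt p R) (θt_d' p R)
    ((SheafOfModules.toSheaf (CohB1.ProjSpace (p + 1) R).ringCatSheaf).map δ)
    (Finsupp.linearCombination R γ).toAddMonoidHom (fun c => ?_) x
  have h1 : Pi.π (Cech.Z (U (p + 1) R) (Fd (p + 1) R (dk p 0)) (p + 1)) (a₀ p)
      (((cechComplexFunctor (U (p + 1) R)).map
        ((SheafOfModules.toSheaf (CohB1.ProjSpace (p + 1) R).ringCatSheaf).map δ).hom).f
          (p + 1) c) =
      appOf δ (∏ᶜ (U (p + 1) R ∘ a₀ p))
        (Pi.π (Cech.Z (U (p + 1) R) (Fd (p + 1) R (dk p k)) (p + 1)) (a₀ p) c) :=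
    CechLeray.π_map_apply _ _ (fun a : Fin (p + 1 + 1) → ι (p + 1) =>
      ((SheafOfModules.toSheaf (CohB1.ProjSpace (p + 1) R).ringCatSheaf).map δ).hom.app
        (op (∏ᶜ (U (p + 1) R ∘ a)))) (a₀ p) c
  refine (congrArg (fun σ => ((ρtd (p + 1) R (dk p 0) (p + 1) (a₀ p)) σ).coeff
    (negExp p (s₀ p).1)) h1).trans ?_
  show ((ρtd (p + 1) R (dk p 0) (p + 1) (a₀ p)) (appOf δ (∏ᶜ (U (p + 1) R ∘ a₀ p))
    (Pi.π (Cech.Z (U (p + 1) R) (Fd (p + 1) R (dk p k)) (p + 1)) (a₀ p) c))).coeff (negExp p 0) =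
    Finsupp.linearCombination R γ (θ₀ p R k c)
  refine (congrArg (fun Y : Lau (p + 1) R => Y.coeff (negExp p 0)) (hδ _)).trans ?_
  show (ρtd (p + 1) R (dk p k) (p + 1) (a₀ p)
    (Pi.π (Cech.Z (U (p + 1) R) (Fd (p + 1) R (dk p k)) (p + 1)) (a₀ p) c) *
      polyG p R k γ).coeff (negExp p 0) = _
  rw [coeff_mul_polyG, Finsupp.linearCombination_apply, Finsupp.sum_fintype]
  · exact Finset.sum_congr rfl (fun s _ => rfl)
  · intro s
    exact zero_smul _ _

end pairing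

end Groth.Agent.Lib.Helper20.ProjDual
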