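import Mathlib
import Groth.Agent.Lib.Helper20.ProjDual3
import Groth.Agent.S0844

/-!
# Serre duality for line bundles on projective space over a ring (helper20)

`core`: the trace `t : H^n(ℙⁿ_R, O(-(n+1))) ≃ R` and the bijection
`Hom(O(a), O(-(n+1))) ≃ Hom_R(H^n(O(a)), R)`.
-/

set_option autoImplicit false
set_option linter.unusedVariables false
set_option linter.unusedSectionVars false

universe u

open CategoryTheory Limits Opposite TopologicalSpace AlgebraicGeometry MvPolynomial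

namespace Groth.Agent.Lib.Helper20.ProjDual

open Groth.Agent.Lib.helper27 Groth.Agent.Lib.Helper20.ProjLaurent Groth.Agent.Lib.Helper20.CechPoU
  Groth.Agent.Lib.Helper20.ProjCechO Groth.Agent.Lib.Helper20.ProjCechTw
  Groth.Agent.Lib.helper28.GrFrac
  Groth.Agent.Lib.helper28.TwistSec Groth.Agent.Lib.helper28.TwistFree
  Groth.Agent.Lib.Helper20.ProjMulHom Groth.Agent.Lib.helper28.TwistMul
  Groth.Agent.Lib.Helper20.ProjTopCoh Groth.Agent.Lib.Helper20.ProjTopFin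
  Groth.Agent.Lib.Helper20.HomogRank

variable (p : ℕ) (R : Type u) [CommRing R] (k : ℕ)

lemma dk_add : dk p k + (k : ℤ) = dk p 0 := by
  unfold dk
  push_cast
  ring

lemma dk_sub : dk p 0 - dk p k = (k : ℤ) := by
  unfold dk
  push_cast
  ring

/-- the homogeneous polynomial with prescribed coefficients -/
noncomputable def polyF (γ : Mon p k → R) : CohB1.polyGrading (p + 1) R k :=
  ⟨∑ s : Mon p k, monomial s.1 (γ s), Submodule.sum_mem _ (fun s _ =>
    (mem_homogeneousSubmodule _ _).mpr (isHomogeneous_monomial _ s.2))⟩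

lemma φ_polyF (γ : Mon p k → R) : φ (p + 1) R (polyF p R k γ).1 = polyG p R k γ := by
  simp only [polyF, polyG, map_sum, φ_monomial]

lemma exists_hom
    (ψ : Coh.HH (CohB1.ProjSpace (p + 1) R) (Twist.twistProjSpace (p + 1) R (dk p k)) (p + 1)
      →ₗ[R] R) :
    ∃ δ : Twist.twistProjSpace (p + 1) R (dk p k) ⟶ Twist.twistProjSpace (p + 1) R (dk p 0),
      ∀ x, ψ x = tL p R (Sheaf.H.map
        ((SheafOfModules.toSheaf (CohB1.ProjSpace (p + 1) R).ringCatSheaf).map δ) (p + 1) x) := by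
  let γ : Mon p k → R := fun s => ψ ((ΨkL p R k).symm (Finsupp.single s 1))
  refine ⟨mulHom (CohB1.polyGrading (p + 1) R) (dk_add p k) (polyF p R k γ), fun x => ?_⟩
  have h0 := pairing p R k
    (mulHom (CohB1.polyGrading (p + 1) R) (dk_add p k) (polyF p R k γ)) γ (fun σ => by
      rw [← φ_polyF]
      exact ρd_mulSec (dk_add p k) (polyF p R k γ) (mult (a₀ p)) (deg_pos _ _)
        (Dp_mult R (a₀ p)).symm σ) x
  rw [tL_apply, h0]
  have h1 : ψ ∘ₗ (ΨkL p R k).symm.toLinearMap = Finsupp.linearCombination R γ := by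
    apply Finsupp.lhom_ext
    intro s r
    rw [Finsupp.linearCombination_single, LinearMap.comp_apply, LinearEquiv.coe_coe]
    have h2 : (Finsupp.single s r : Mon p k →₀ R) = r • Finsupp.single s 1 := by
      rw [Finsupp.smul_single, smul_eq_mul, mul_one]
    rw [h2, map_smul, map_smul]
  have h3 := LinearMap.congr_fun h1 (ΨkL p R k x)
  rw [LinearMap.comp_apply, LinearEquiv.coe_coe, LinearEquiv.symm_apply_apply] at h3
  exact h3

lemma GW_support (D : TwHom (p + 1) R (dk p k) (dk p 0)) (e : Fin (p + 1 + 1) → ℤ)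
    (he : (GW D (mult (a₀.{u} p)) (deg_pos (p + 1) (a₀ p)) (Dp_mult R (a₀ p)).symm
      (mult_a₀_ne p 0)).coeff e ≠ 0) :
    (∑ j, e j = (k : ℤ)) ∧ ∀ j, 0 ≤ e j := by
  have h := GW_mem (Nat.le_add_left 1 p) D (mult (a₀.{u} p)) (deg_pos (p + 1) (a₀ p))
    (Dp_mult R (a₀ p)).symm (mult_a₀_ne p) e he
  rwa [dk_sub] at h

lemma hom_unique
    (δ₁ δ₂ : Twist.twistProjSpace (p + 1) R (dk p k) ⟶ Twist.twistProjSpace (p + 1) R (dk p 0))
    (h : ∀ x, tL p R (Sheaf.H.map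
        ((SheafOfModules.toSheaf (CohB1.ProjSpace (p + 1) R).ringCatSheaf).map δ₁) (p + 1) x) =
      tL p R (Sheaf.H.map
        ((SheafOfModules.toSheaf (CohB1.ProjSpace (p + 1) R).ringCatSheaf).map δ₂) (p + 1) x)) :
    δ₁ = δ₂ := by
  obtain ⟨G₁, hG₁⟩ : ∃ G, G = GW (ofHom δ₁) (mult (a₀.{u} p)) (deg_pos (p + 1) (a₀ p))
    (Dp_mult R (a₀ p)).symm (mult_a₀_ne p 0) := ⟨_, rfl⟩
  obtain ⟨G₂, hG₂⟩ : ∃ G, G = GW (ofHom δ₂) (mult (a₀.{u} p)) (deg_pos (p + 1) (a₀ p))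
    (Dp_mult R (a₀ p)).symm (mult_a₀_ne p 0) := ⟨_, rfl⟩
  have e₁ := eq_polyG p R k G₁ (by rw [hG₁]; exact GW_support p R k (ofHom δ₁))
  have e₂ := eq_polyG p R k G₂ (by rw [hG₂]; exact GW_support p R k (ofHom δ₂))
  have p₁ := pairing p R k δ₁ (fun s => G₁.coeff (expHom (p + 1) s.1)) (fun σ => by
    rw [← e₁, hG₁]
    exact ρd_app (ofHom δ₁) (mult (a₀.{u} p)) (deg_pos (p + 1) (a₀ p))
      (Dp_mult R (a₀ p)).symm (mult_a₀_ne p 0) σ)
  have p₂ := pairing p R k δ₂ (fun s => G₂.coeff (expHom (p + 1) s.1)) (fun σ => by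
    rw [← e₂, hG₂]
    exact ρd_app (ofHom δ₂) (mult (a₀.{u} p)) (deg_pos (p + 1) (a₀ p))
      (Dp_mult R (a₀ p)).symm (mult_a₀_ne p 0) σ)
  have hγ : (fun s : Mon p k => G₁.coeff (expHom (p + 1) s.1)) =
      (fun s : Mon p k => G₂.coeff (expHom (p + 1) s.1)) := by
    funext s
    have h4 := h ((ΨkL p R k).symm (Finsupp.single s 1))
    rw [tL_apply, tL_apply, p₁, p₂, ← ΨkL_apply, LinearEquiv.apply_symm_apply,
      Finsupp.linearCombination_single, Finsupp.linearCombination_single, one_smul, one_smul] at h4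
    exact h4
  have hG : G₁ = G₂ := by
    rw [e₁, e₂, hγ]
  rw [hG₁, hG₂] at hG
  exact hom_ext_basic δ₁ δ₂ (fun i e he F hF W' hW' hW'' σ =>
    app_eq_of_GW_eq (ofHom δ₁) (ofHom δ₂) (mult (a₀.{u} p)) (deg_pos (p + 1) (a₀ p))
      (Dp_mult R (a₀ p)).symm (mult_a₀_ne p) hG i he hF W' hW' hW'' σ)

theorem main_k
    (ψ : Coh.HH (CohB1.ProjSpace (p + 1) R) (Twist.twistProjSpace (p + 1) R (dk p k)) (p + 1)
      →ₗ[R] R) :
    ∃! δ : Twist.twistProjSpace (p + 1) R (dk p k) ⟶ Twist.twistProjSpace (p + 1) R (dk p 0),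
      ∀ x, ψ x = tL p R (Sheaf.H.map
        ((SheafOfModules.toSheaf (CohB1.ProjSpace (p + 1) R).ringCatSheaf).map δ) (p + 1) x) := by
  obtain ⟨δ, hδ⟩ := exists_hom p R k ψ
  exact ⟨δ, hδ, fun δ' hδ' => hom_unique p R k δ' δ (fun x => (hδ' x).symm.trans (hδ x))⟩

theorem main_pos (a : ℤ) (ha : dk p 0 < a)
    (ψ : Coh.HH (CohB1.ProjSpace (p + 1) R) (Twist.twistProjSpace (p + 1) R a) (p + 1) →ₗ[R] R) :
    ∃! δ : Twist.twistProjSpace (p + 1) R a ⟶ Twist.twistProjSpace (p + 1) R (dk p 0),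
      ∀ x, ψ x = tL p R (Sheaf.H.map
        ((SheafOfModules.toSheaf (CohB1.ProjSpace (p + 1) R).ringCatSheaf).map δ) (p + 1) x) := by
  have hsub : Subsingleton
      (Coh.HH (CohB1.ProjSpace (p + 1) R) (Twist.twistProjSpace (p + 1) R a) (p + 1)) :=
    Groth.Agent.S0844.result R (p + 1) a (p + 1) (by omega) (by
      unfold dk at ha
      push_cast at ha ⊢
      omega)
  have hG0 : ∀ D : TwHom (p + 1) R a (dk p 0),
      GW D (mult (a₀.{u} p)) (deg_pos (p + 1) (a₀ p)) (Dp_mult R (a₀ p)).symm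
        (mult_a₀_ne p 0) = 0 := by
    intro D
    apply AddMonoidAlgebra.ext
    apply Finsupp.ext
    intro e
    by_contra hne
    obtain ⟨h1, h2⟩ := GW_mem (Nat.le_add_left 1 p) D (mult (a₀.{u} p)) (deg_pos (p + 1) (a₀ p))
      (Dp_mult R (a₀ p)).symm (mult_a₀_ne p) e hne
    have h3 : 0 ≤ ∑ j, e j := Finset.sum_nonneg (fun j _ => h2 j)
    omega
  have huniq : ∀ δ₁ δ₂ : Twist.twistProjSpace (p + 1) R a ⟶
      Twist.twistProjSpace (p + 1) R (dk p 0), δ₁ = δ₂ := by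
    intro δ₁ δ₂
    exact hom_ext_basic δ₁ δ₂ (fun i e he F hF W' hW' hW'' σ =>
      app_eq_of_GW_eq (ofHom δ₁) (ofHom δ₂) (mult (a₀.{u} p)) (deg_pos (p + 1) (a₀ p))
        (Dp_mult R (a₀ p)).symm (mult_a₀_ne p) ((hG0 _).trans (hG0 _).symm) i he hF W' hW' hW'' σ)
  refine ⟨0, fun x => ?_, fun δ' _ => huniq _ _⟩
  rw [Subsingleton.elim x 0, map_zero, map_zero, map_zero]

/-- **Serre duality for line bundles on `ℙⁿ_R`, `n = p + 1`.** -/
theorem core (b : ℤ) (hb : b = dk p 0) :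
    ∃ t : Coh.HH (CohB1.ProjSpace (p + 1) R) (Twist.twistProjSpace (p + 1) R b) (p + 1) ≃ₗ[R] R,
      ∀ (a : ℤ) (ψ : Coh.HH (CohB1.ProjSpace (p + 1) R) (Twist.twistProjSpace (p + 1) R a) (p + 1)
          →ₗ[R] R),
        ∃! δ : Twist.twistProjSpace (p + 1) R a ⟶ Twist.twistProjSpace (p + 1) R b,
          ∀ x, ψ x = t (Sheaf.H.map
            ((SheafOfModules.toSheaf (CohB1.ProjSpace (p + 1) R).ringCatSheaf).map δ)
              (p + 1) x) := by
  subst hb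
  refine ⟨tL p R, fun a ψ => ?_⟩
  by_cases h : dk p 0 < a
  · exact main_pos p R a h ψ
  · obtain ⟨k, rfl⟩ : ∃ k : ℕ, a = dk p k := by
      refine ⟨(dk p 0 - a).toNat, ?_⟩
      unfold dk at h ⊢
      push_cast at h ⊢
      omega
    exact main_k p R k ψ

end Groth.Agent.Lib.Helper20.ProjDual
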