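import Mathlib
import Groth.Agent.Lib.Helper20.ProjDual4
import Groth.Agent.Lib.Helper20.DualDev
import Groth.Agent.Lib.Lead.SerreFin2
import Groth.Agent.Lib.Helper11.SerrePn
import Groth.Agent.S0022

/-!
# Duality `Hom(F, ω) ≃ H^n(F)^∨` for coherent `F` on `ℙⁿ_R`, `n ≥ 1` (helper20)
-/

set_option autoImplicit false
set_option linter.unusedVariables false
set_option linter.unusedSectionVars false

universe u

open CategoryTheory Limits Opposite TopologicalSpace AlgebraicGeometry MvPolynomial

namespace Groth.Agent.Lib.Helper20.ProjDual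

open Groth.Agent.Lib.Helper20.ProjTopCoh Groth.Agent.Lib.Helper20.DualDev
  Groth.Agent.Lib.Helper18.HH

section dev

variable (n : ℕ) (R : Type u) [CommRing R] [IsNoetherianRing R]
  {ω : (CohB1.ProjSpace n R).Modules} (t : Coh.HH (CohB1.ProjSpace n R) ω n →ₗ[R] R)

/-- dévissage on projective space: duality for all twists implies duality for all coherent
modules -/
theorem good_of_twists (hL : ∀ d : ℤ, Good R t (Twist.twistProjSpace n R d))
    (F : (CohB1.ProjSpace n R).Modules) (hF : Coh.IsCoh F) : Good R t F := by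
  have hE : ∀ (m : ℕ) (d : ℤ), Good R t (∐ fun _ : Fin m => Twist.twistProjSpace n R d) :=
    fun m d => good_sigma R t _ (fun _ => hL d)
  have hEcoh : ∀ (m : ℕ) (d : ℤ), Coh.IsCoh (∐ fun _ : Fin m => Twist.twistProjSpace n R d) :=
    fun m d => Groth.Agent.Lib.Lead.SerreFin.isCoh_of_isFinLocFree
      (Groth.Agent.Lib.Lead.SerreFin.isFinLocFree_sigma _ fun _ =>
        Groth.Agent.Lib.helper16.FLF.isFinLocFree_of_isInvertible
          (Groth.Agent.Lib.helper28.TwistPn.isInvertible n R d))
  obtain ⟨m, d, π, hπ⟩ := Groth.Agent.Lib.helper11.SerrePn.exists_epi_twist n R F hF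
  have hK : Coh.IsCoh (kernel π) :=
    Groth.Agent.Lib.helper7.CohKer.isCoh_kernel (hEcoh m d) hF π
  obtain ⟨m', d', π₁, hπ₁⟩ := Groth.Agent.Lib.helper11.SerrePn.exists_epi_twist n R (kernel π) hK
  let S : ShortComplex (CohB1.ProjSpace n R).Modules :=
    ShortComplex.mk (kernel.ι π) π (kernel.condition π)
  have hS : S.ShortExact :=
    { exact := ShortComplex.exact_of_f_is_kernel S (kernelIsKernel π)
      mono_f := inferInstanceAs (Mono (kernel.ι π))
      epi_g := hπ }
  have hKq : Coh.IsQCoh (kernel π) := hK.1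
  have hvan : Subsingleton (Coh.HH (CohB1.ProjSpace n R) (kernel π) (n + 1)) :=
    Groth.Agent.S0022.result n R (kernel π) (n + 1) (Nat.lt_succ_self n)
  have hsurj : Function.Surjective (mapOver R π n) := surjective_map_g hS n hvan
  exact good_of_presentation R t π π₁ hsurj (hE m d) (hE m' d').1

end dev

section succ

variable (p : ℕ) (R : Type u) [CommRing R]

/-- duality for the twists on `ℙ^{p+1}_R` -/
theorem good_twist (d : ℤ) :
    Good R (tL p R).toLinearMap (Twist.twistProjSpace (p + 1) R d) := by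
  rw [good_iff]
  intro ψ
  by_cases h : dk p 0 < d
  · exact main_pos p R d h ψ
  · obtain ⟨k, rfl⟩ : ∃ k : ℕ, d = dk p k := by
      refine ⟨(dk p 0 - d).toNat, ?_⟩
      unfold dk at h ⊢
      push_cast at h ⊢
      omega
    exact main_k p R k ψ

/-- duality for coherent modules on `ℙ^{p+1}_R` -/
theorem good_coh [IsNoetherianRing R] (F : (CohB1.ProjSpace (p + 1) R).Modules)
    (hF : Coh.IsCoh F) : Good R (tL p R).toLinearMap F :=
  good_of_twists (p + 1) R _ (good_twist p R) F hF

end succ

end Groth.Agent.Lib.Helper20.ProjDual
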