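import Mathlib
import Groth.Agent.Lib.Helper20.ProjTopFin

/-!
# `H⁰(ℙ⁰_R, O(d))` for all `d` (helper20): the case `n = 0` of the top cohomology computation
-/

set_option autoImplicit false
set_option linter.unusedVariables false
set_option linter.unusedSectionVars false

universe u

open CategoryTheory Limits Opposite TopologicalSpace AlgebraicGeometry MvPolynomial
  HomogeneousLocalization

namespace Groth.Agent.Lib.Helper20.ProjTopCoh0

open Groth.Agent.Lib.helper27 Groth.Agent.Lib.Helper20.ProjLaurent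
  Groth.Agent.Lib.Helper20.ProjCechO Groth.Agent.Lib.Helper20.ProjCechTw
  Groth.Agent.Lib.Helper20.ProjGamma Groth.Agent.Lib.Helper20.ProjH0
  Groth.Agent.Lib.Helper20.ProjTopFin

variable (R : Type u) [CommRing R] (d : ℤ)

lemma fin01 (j : Fin (0 + 1)) : j = 0 := by
  apply Fin.ext
  have := j.isLt
  show j.val = 0
  omega

lemma Uk_eq_top : Uk 0 R 0 = ⊤ := by
  apply top_le_iff.1
  intro x _
  obtain ⟨k, hk⟩ := exists_mem_basicOpen 0 R x
  have hk0 : k = 0 := fin01 k
  subst hk0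
  show x ∈ Proj.basicOpen _ (monomial (Finsupp.single 0 1) (1 : R))
  exact hk

/-- the exponent vector `(d)` -/
def ed : Fin (0 + 1) → ℤ := fun _ => d

lemma eq_ed_of_sum (e : Fin (0 + 1) → ℤ) (h : ∑ i, e i = d) : e = ed d := by
  funext j
  have hj : j = 0 := fin01 j
  subst hj
  show e 0 = d
  simpa using h

lemma ed_mem : ed d ∈ Ed d (Finsupp.single (0 : Fin (0 + 1)) 1) := by
  refine ⟨by simp [ed], fun j hj => ?_⟩
  have hj0 : j = 0 := fin01 j
  subst hj0
  simp at hj

/-- the coefficient of a global section of `O(d)` on `ℙ⁰` -/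
noncomputable def ψ : Sec 0 R d ⊤ →+ R :=
  ((Finsupp.applyAddHom (ed d)).comp AddMonoidAlgebra.coeffAddEquiv.toAddMonoidHom).comp
    (Φ 0 R d 0)

lemma ψ_apply (σ : Sec 0 R d ⊤) : ψ R d σ = (Φ 0 R d 0 σ).coeff (ed d) := rfl

lemma ψ_injective : Function.Injective (ψ R d) := by
  rw [injective_iff_map_eq_zero]
  intro σ hσ
  apply Φ_injective 0 R d 0
  rw [map_zero]
  apply AddMonoidAlgebra.ext
  ext e
  by_cases he : e = ed d
  · rw [he]
    exact hσ
  · by_contra hne
    have hmem := Φ_mem 0 R d 0 σ e (Finsupp.mem_support_iff.mpr hne)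
    exact he (eq_ed_of_sum d e hmem.1)

lemma ψ_surjective : Function.Surjective (ψ R d) := by
  intro t
  have hmem : (AddMonoidAlgebra.single (ed d) t : Lau 0 R) ∈
      Supd R d (Finsupp.single (0 : Fin (0 + 1)) 1) :=
    single_mem_Supd d _ _ t (ed_mem d)
  rw [← range_ρd (d := d) (W := Uk 0 R 0) (Finsupp.single 0 1) (degree_single_pos 0 0) rfl]
    at hmem
  obtain ⟨τ, hτ⟩ := hmem
  have hle : (⊤ : (PX 0 R).Opens) ≤ Uk 0 R 0 := (Uk_eq_top R).ge
  refine ⟨(Fd 0 R d).map (homOfLE hle).op τ, ?_⟩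
  rw [ψ_apply]
  have h1 : Φ 0 R d 0 ((Fd 0 R d).map (homOfLE hle).op τ) =
      ρd (d := d) (W := Uk 0 R 0) (Finsupp.single 0 1) (degree_single_pos 0 0) rfl τ := by
    show ρd (d := d) (W := Uk 0 R 0) (Finsupp.single 0 1) (degree_single_pos 0 0) rfl
      ((Fd 0 R d).map (homOfLE (le_top : Uk 0 R 0 ≤ ⊤)).op
        ((Fd 0 R d).map (homOfLE hle).op τ)) = _
    rw [← ConcreteCategory.comp_apply, ← (Fd 0 R d).map_comp]
    have h2 : (homOfLE hle).op ≫ (homOfLE (le_top : Uk 0 R 0 ≤ ⊤)).op = 𝟙 _ :=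
      Subsingleton.elim _ _
    rw [h2, (Fd 0 R d).map_id]
    rfl
  rw [h1, hτ, AddMonoidAlgebra.coeff_single, Finsupp.single_eq_same]

lemma ψ_smul (t : R) (σ : Sec 0 R d ⊤) :
    ψ R d (smulSec 0 R d t ⊤ σ) = t * ψ R d σ := by
  rw [ψ_apply, ψ_apply, Φ_apply, Φ_apply]
  have h1 : Twist.resN d (homOfLE (le_top : Uk 0 R 0 ≤ ⊤)).op (smulSec 0 R d t ⊤ σ) =
      smulSec 0 R d t (Uk 0 R 0) (Twist.resN d (homOfLE (le_top : Uk 0 R 0 ≤ ⊤)).op σ) := by
    have := ConcreteCategory.congr_hom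
      ((Coh.smulAb (Twist.twistProjSpace 0 R d) (glr 0 R t)).hom.naturality
        (homOfLE (le_top : Uk 0 R 0 ≤ ⊤)).op) σ
    exact this
  refine (congrArg (fun τ => ((ρd (d := d) (W := Uk 0 R 0) (Finsupp.single 0 1)
    (degree_single_pos 0 0) rfl) τ).coeff (ed d)) h1).trans ?_
  exact coeff_ρd_smulSec 0 R d t (Finsupp.single 0 1) (degree_single_pos 0 0) rfl _ _

/-- `ψ`, typed on the global sections of the underlying abelian sheaf. -/
noncomputable def ψAb :
    ((Coh.toAb (Twist.twistProjSpace 0 R d)).obj.obj (op (⊤ : (CohB1.ProjSpace 0 R).Opens))) →+ R :=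
  ψ R d

lemma ψAb_injective : Function.Injective (ψAb R d) := ψ_injective R d

lemma ψAb_surjective : Function.Surjective (ψAb R d) := ψ_surjective R d

lemma ψAb_smul (t : R)
    (m : (Coh.toAb (Twist.twistProjSpace 0 R d)).obj.obj (op (⊤ : (CohB1.ProjSpace 0 R).Opens))) :
    ψAb R d ((Coh.smulAb (Twist.twistProjSpace 0 R d) (glr 0 R t)).hom.app (op ⊤) m) =
      t * ψAb R d m :=
  ψ_smul R d t m

/-- `H⁰(ℙ⁰_R, O(d)) ≃ R`. -/
noncomputable def h0LinearEquiv :
    Coh.HH (CohB1.ProjSpace 0 R) (Twist.twistProjSpace 0 R d) 0 ≃ₗ[R] R where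
  toFun x := ψAb R d (h0Equiv (CohB1.ProjSpace 0 R) (Twist.twistProjSpace 0 R d) x)
  map_add' x y := by rw [map_add, map_add]
  map_smul' t x := by
    rw [RingHom.id_apply, smul_eq_mul]
    obtain ⟨m, rfl⟩ := (h0Equiv (CohB1.ProjSpace 0 R) (Twist.twistProjSpace 0 R d)).symm.surjective x
    have h1 : t • (h0Equiv (CohB1.ProjSpace 0 R) (Twist.twistProjSpace 0 R d)).symm m =
        (h0Equiv (CohB1.ProjSpace 0 R) (Twist.twistProjSpace 0 R d)).symm
          ((Coh.smulAb (Twist.twistProjSpace 0 R d) (glr 0 R t)).hom.app (op ⊤) m) :=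
      smul_h0Equiv_symm (CohB1.ProjSpace 0 R) (Twist.twistProjSpace 0 R d) (glr 0 R t) m
    rw [h1, AddEquiv.apply_symm_apply, AddEquiv.apply_symm_apply]
    exact ψAb_smul R d t m
  invFun t := (h0Equiv (CohB1.ProjSpace 0 R) (Twist.twistProjSpace 0 R d)).symm
    (Function.surjInv (ψAb_surjective R d) t)
  left_inv x := by
    apply (h0Equiv (CohB1.ProjSpace 0 R) (Twist.twistProjSpace 0 R d)).injective
    rw [AddEquiv.apply_symm_apply]
    apply ψAb_injective R d
    exact Function.surjInv_eq (ψAb_surjective R d) _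
  right_inv t := by
    show ψAb R d (h0Equiv _ _ ((h0Equiv _ _).symm _)) = t
    rw [AddEquiv.apply_symm_apply]
    exact Function.surjInv_eq (ψAb_surjective R d) t

/-- there is only one monomial of degree `k` in one variable -/
noncomputable instance uniqueMon (k : ℕ) :
    Unique ↥({s : Fin (0 + 1) →₀ ℕ | s.degree = k} : Set (Fin (0 + 1) →₀ ℕ)) where
  default := ⟨Finsupp.single 0 k, by simp⟩
  uniq s := by
    apply Subtype.ext
    ext j
    have hj : j = 0 := fin01 j
    subst hj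
    have hs : s.1.degree = k := s.2
    rw [Finsupp.degree_eq_sum] at hs
    simp at hs
    simp [hs]

theorem exists_linearEquiv (k : ℕ) :
    Nonempty (Coh.HH (CohB1.ProjSpace 0 R) (Twist.twistProjSpace 0 R d) 0 ≃ₗ[R]
      ↥(MvPolynomial.homogeneousSubmodule (Fin (0 + 1)) R k)) := by
  let e2 : ↥(MvPolynomial.homogeneousSubmodule (Fin (0 + 1)) R k) ≃ₗ[R] R :=
    ((LinearEquiv.ofEq _ _ (MvPolynomial.homogeneousSubmodule_eq_finsupp_supported
      (Fin (0 + 1)) R k)).trans (AddMonoidAlgebra.supportedEquivFinsupp _)).trans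
      (Finsupp.LinearEquiv.finsuppUnique R R _)
  exact ⟨(h0LinearEquiv R d).trans e2.symm⟩

end Groth.Agent.Lib.Helper20.ProjTopCoh0
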