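import Mathlib
import Groth.Agent.Lib.Helper20.ProjDual5
import Groth.Agent.Lib.Helper20.ProjTopCoh0

/-!
# Duality `Hom(F, ω) ≃ H^0(F)^∨` on `ℙ⁰_R` (helper20)
-/

set_option autoImplicit false
set_option linter.unusedVariables false
set_option linter.unusedSectionVars false

universe u

open CategoryTheory Limits Opposite TopologicalSpace AlgebraicGeometry MvPolynomial

namespace Groth.Agent.Lib.Helper20.ProjDual

open Groth.Agent.Lib.helper27 Groth.Agent.Lib.Helper20.ProjLaurent Groth.Agent.Lib.Helper20.CechPoU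
  Groth.Agent.Lib.Helper20.ProjCechO Groth.Agent.Lib.Helper20.ProjCechTw
  Groth.Agent.Lib.helper28.GrFrac
  Groth.Agent.Lib.helper28.TwistSec Groth.Agent.Lib.helper28.TwistFree
  Groth.Agent.Lib.Helper20.ProjMulHom Groth.Agent.Lib.helper28.TwistMul
  Groth.Agent.Lib.Helper20.ProjTopCoh0 Groth.Agent.Lib.Helper20.ProjH0
  Groth.Agent.Lib.Helper20.DualDev Groth.Agent.Lib.Helper18.HH

variable (R : Type u) [CommRing R]

lemma ed_sub (a b c : ℤ) (hc : c = b - a) : ed b + -(ed c) = ed a := by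
  funext j
  simp only [ed, Pi.add_apply, Pi.neg_apply]
  omega

lemma single01_ne (j : Fin (0 + 1)) : (Finsupp.single (0 : Fin (0 + 1)) 1 : Fin (0 + 1) →₀ ℕ) j ≠ 0 := by
  rw [fin01 j]
  simp

/-- the pairing formula on `ℙ⁰` -/
lemma pairing0 {a b c : ℤ} (hc : c = b - a)
    (δ : Twist.twistProjSpace 0 R a ⟶ Twist.twistProjSpace 0 R b) (g : R)
    (hδ : ∀ σ : Sec 0 R a (Uk 0 R 0),
      ρd (d := b) (W := Uk 0 R 0) (Finsupp.single 0 1) (degree_single_pos 0 0) rfl
        (appOf δ (Uk 0 R 0) σ) =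
      ρd (d := a) (W := Uk 0 R 0) (Finsupp.single 0 1) (degree_single_pos 0 0) rfl σ *
        AddMonoidAlgebra.single (ed c) g)
    (x : Coh.HH (CohB1.ProjSpace 0 R) (Twist.twistProjSpace 0 R a) 0) :
    h0LinearEquiv R b (Sheaf.H.map
      ((SheafOfModules.toSheaf (CohB1.ProjSpace 0 R).ringCatSheaf).map δ) 0 x) =
      h0LinearEquiv R a x * g := by
  have h1 : h0Equiv (CohB1.ProjSpace 0 R) (Twist.twistProjSpace 0 R b) (Sheaf.H.map
      ((SheafOfModules.toSheaf (CohB1.ProjSpace 0 R).ringCatSheaf).map δ) 0 x) =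
      appOf δ ⊤ (h0Equiv (CohB1.ProjSpace 0 R) (Twist.twistProjSpace 0 R a) x) :=
    (Sheaf.H.equiv₀_naturality (hT := Limits.isTerminalTop)
      ((SheafOfModules.toSheaf (CohB1.ProjSpace 0 R).ringCatSheaf).map δ) x).symm
  show (Φ 0 R b 0 (h0Equiv (CohB1.ProjSpace 0 R) (Twist.twistProjSpace 0 R b) (Sheaf.H.map
      ((SheafOfModules.toSheaf (CohB1.ProjSpace 0 R).ringCatSheaf).map δ) 0 x))).coeff (ed b) =
    (Φ 0 R a 0 (h0Equiv (CohB1.ProjSpace 0 R) (Twist.twistProjSpace 0 R a) x)).coeff (ed a) * g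
  rw [h1]
  have h2 := appOf_res δ (homOfLE (le_top : Uk 0 R 0 ≤ ⊤))
    (h0Equiv (CohB1.ProjSpace 0 R) (Twist.twistProjSpace 0 R a) x)
  have h3 : ProjH0.Φ 0 R b 0 (appOf δ ⊤
      (h0Equiv (CohB1.ProjSpace 0 R) (Twist.twistProjSpace 0 R a) x)) =
      ProjH0.Φ 0 R a 0 (h0Equiv (CohB1.ProjSpace 0 R) (Twist.twistProjSpace 0 R a) x) *
        AddMonoidAlgebra.single (ed c) g :=
    (congrArg (ρd (d := b) (W := Uk 0 R 0) (Finsupp.single 0 1) (degree_single_pos 0 0) rfl)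
      h2.symm).trans (hδ _)
  rw [h3, AddMonoidAlgebra.coeff_mul_single_apply, ed_sub a b c hc]

/-- on `ℙ⁰` the Laurent polynomial of a morphism is a monomial -/
lemma GW0_eq {a b c : ℤ} (hc : c = b - a) (D : TwHom 0 R a b) :
    GW D (Finsupp.single (0 : Fin (0 + 1)) 1) (degree_single_pos 0 0)
      (rfl : Uk 0 R 0 = Dp 0 R (Finsupp.single 0 1)) (single01_ne 0) =
    AddMonoidAlgebra.single (ed c)
      ((GW D (Finsupp.single (0 : Fin (0 + 1)) 1) (degree_single_pos 0 0)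
        (rfl : Uk 0 R 0 = Dp 0 R (Finsupp.single 0 1)) (single01_ne 0)).coeff (ed c)) := by
  apply AddMonoidAlgebra.ext
  apply Finsupp.ext
  intro e
  by_cases he : e = ed c
  · rw [he, AddMonoidAlgebra.coeff_single, Finsupp.single_eq_same]
  · rw [AddMonoidAlgebra.coeff_single, Finsupp.single_eq_of_ne he]
    by_contra hne
    apply he
    unfold GW at hne
    rw [AddMonoidAlgebra.coeff_single_mul_apply, one_mul] at hne
    have hmem : ρd (d := b) (W := Uk 0 R 0) (Finsupp.single 0 1) (degree_single_pos 0 0) rfl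
        (D.app (Uk 0 R 0) (gen a 0 (Uk 0 R 0) (Dp_le_of_ne (single01_ne 0)))) ∈
          Supd R b (Finsupp.single 0 1) := by
      rw [← range_ρd (d := b) (W := Uk 0 R 0) (Finsupp.single 0 1) (degree_single_pos 0 0) rfl]
      exact ⟨_, rfl⟩
    have h2 := (hmem _ (Finsupp.mem_support_iff.mpr hne)).1
    have h3 : (∑ j : Fin (0 + 1), ((-Pi.single (0 : Fin (0 + 1)) (-a) + e : Fin (0 + 1) → ℤ)) j) =
        ((-Pi.single (0 : Fin (0 + 1)) (-a) + e : Fin (0 + 1) → ℤ)) 0 := Fin.sum_univ_one _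
    rw [h3] at h2
    simp only [Pi.add_apply, Pi.neg_apply, Pi.single_eq_same, neg_neg] at h2
    funext j
    rw [fin01 j]
    simp only [ed]
    omega

/-- the trace on `ℙ⁰` -/
noncomputable abbrev t0 :
    Coh.HH (CohB1.ProjSpace 0 R) (Twist.twistProjSpace 0 R (-1)) 0 ≃ₗ[R] R :=
  h0LinearEquiv R (-1)

theorem good_twist0 :
    Good R (t0 R).toLinearMap (Twist.twistProjSpace 0 R (-1)) := by
  have hc : (0 : ℤ) = -1 - -1 := by norm_num
  have key : ∀ (δ : Twist.twistProjSpace 0 R (-1) ⟶ Twist.twistProjSpace 0 R (-1))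
      (x : Coh.HH (CohB1.ProjSpace 0 R) (Twist.twistProjSpace 0 R (-1)) 0),
      t0 R (Sheaf.H.map ((SheafOfModules.toSheaf (CohB1.ProjSpace 0 R).ringCatSheaf).map δ) 0 x) =
        t0 R x * (GW (ofHom δ) (Finsupp.single (0 : Fin (0 + 1)) 1) (degree_single_pos 0 0)
          (rfl : Uk 0 R 0 = Dp 0 R (Finsupp.single 0 1)) (single01_ne 0)).coeff (ed 0) := by
    intro δ x
    refine pairing0 R hc δ _ (fun σ => ?_) x
    rw [← GW0_eq R hc (ofHom δ)]
    exact ρd_app (ofHom δ) (Finsupp.single 0 1) (degree_single_pos 0 0) rfl (single01_ne 0) σ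
  constructor
  · intro δ₁ δ₂ h
    have h1 := LinearMap.congr_fun h ((t0 R).symm 1)
    rw [DualDev.Φ_apply, DualDev.Φ_apply] at h1
    have h2 := key δ₁ ((t0 R).symm 1)
    have h3 := key δ₂ ((t0 R).symm 1)
    rw [LinearEquiv.apply_symm_apply, one_mul] at h2 h3
    have h4 : (GW (ofHom δ₁) (Finsupp.single (0 : Fin (0 + 1)) 1) (degree_single_pos 0 0)
          (rfl : Uk 0 R 0 = Dp 0 R (Finsupp.single 0 1)) (single01_ne 0)).coeff (ed 0) =
        (GW (ofHom δ₂) (Finsupp.single (0 : Fin (0 + 1)) 1) (degree_single_pos 0 0)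
          (rfl : Uk 0 R 0 = Dp 0 R (Finsupp.single 0 1)) (single01_ne 0)).coeff (ed 0) :=
      h2.symm.trans (h1.trans h3)
    have hG : GW (ofHom δ₁) (Finsupp.single (0 : Fin (0 + 1)) 1) (degree_single_pos 0 0)
          (rfl : Uk 0 R 0 = Dp 0 R (Finsupp.single 0 1)) (single01_ne 0) =
        GW (ofHom δ₂) (Finsupp.single (0 : Fin (0 + 1)) 1) (degree_single_pos 0 0)
          (rfl : Uk 0 R 0 = Dp 0 R (Finsupp.single 0 1)) (single01_ne 0) := by
      rw [GW0_eq R hc (ofHom δ₁), GW0_eq R hc (ofHom δ₂), h4]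
    exact hom_ext_basic δ₁ δ₂ (fun i e he F hF W' hW' hW'' σ =>
      app_eq_of_GW_eq (ofHom δ₁) (ofHom δ₂) (Finsupp.single 0 1) (degree_single_pos 0 0)
        (rfl : Uk 0 R 0 = Dp 0 R (Finsupp.single 0 1)) single01_ne hG i he hF W' hW' hW'' σ)
  · intro ψ
    let lam : R := ψ ((t0 R).symm 1)
    have hmem : (C lam : MvPolynomial (Fin (0 + 1)) R) ∈ CohB1.polyGrading 0 R 0 :=
      (mem_homogeneousSubmodule _ _).mpr (isHomogeneous_C _ lam)
    have hadd : (-1 : ℤ) + ((0 : ℕ) : ℤ) = -1 := by norm_num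
    let δ₀ : Twist.twistProjSpace 0 R (-1) ⟶ Twist.twistProjSpace 0 R (-1) :=
      mulHom (CohB1.polyGrading 0 R) hadd ⟨C lam, hmem⟩
    refine ⟨δ₀, ?_⟩
    ext x
    refine (DualDev.Φ_apply R _ _ δ₀ x).trans ?_
    have h5 := pairing0 R hc δ₀ lam (fun σ => by
      have h6 := ρd_mulSec hadd ⟨C lam, hmem⟩ (Finsupp.single 0 1) (degree_single_pos 0 0)
        (rfl : Uk 0 R 0 = Dp 0 R (Finsupp.single 0 1)) σ
      refine h6.trans ?_
      congr 1
      show φ 0 R (C lam) = _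
      rw [C_apply, φ_monomial, _root_.map_zero]
      rfl) x
    refine h5.trans ?_
    have h7 : x = (t0 R x) • (t0 R).symm 1 := by
      apply (t0 R).injective
      rw [map_smul, LinearEquiv.apply_symm_apply, smul_eq_mul, mul_one]
    conv_rhs => rw [h7, map_smul, smul_eq_mul]

/-- duality for all twists on `ℙ⁰_R` -/
theorem good_twist0' [IsNoetherianRing R] (d : ℤ) :
    Good R (t0 R).toLinearMap (Twist.twistProjSpace 0 R d) := by
  obtain ⟨e1⟩ := Groth.Agent.Lib.Lead.SerreFin.nonempty_iso_twist_zero R (-1)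
  obtain ⟨e2⟩ := Groth.Agent.Lib.Lead.SerreFin.nonempty_iso_twist_zero R d
  exact good_of_iso R _ (e1 ≪≫ e2.symm) (good_twist0 R)

/-- duality for coherent modules on `ℙ⁰_R` -/
theorem good_coh0 [IsNoetherianRing R] (F : (CohB1.ProjSpace 0 R).Modules)
    (hF : Coh.IsCoh F) : Good R (t0 R).toLinearMap F :=
  good_of_twists 0 R _ (good_twist0' R) F hF

end Groth.Agent.Lib.Helper20.ProjDual
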