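import Mathlib
import Groth.Agent.Lib.Helper20.ProjDual0

/-!
# Duality `Hom(F, ω) ≃ H^n(F)^∨` for coherent `F` on `ℙⁿ_R`, all `n` (helper20)
-/

set_option autoImplicit false

universe u

open CategoryTheory Limits Opposite TopologicalSpace AlgebraicGeometry

namespace Groth.Agent.Lib.Helper20.ProjDual

open Groth.Agent.Lib.Helper20.ProjTopCoh Groth.Agent.Lib.Helper20.DualDev

/-- **Duality for coherent modules on `ℙⁿ_R`** (`R` Noetherian): there is a linear form `t` on
`H^n(ω)`, `ω = O(-(n+1))` (a linear equivalence, in fact), such that `φ ↦ t ∘ H^n(φ)` is a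
bijection `Hom(F, ω) ≃ H^n(F)^∨` for every coherent `F`. -/
theorem exists_trace (n : ℕ) (R : Type u) [CommRing R] [IsNoetherianRing R] (b : ℤ)
    (hb : b = -((n : ℤ) + 1)) :
    ∃ t : Coh.HH (CohB1.ProjSpace n R) (Twist.twistProjSpace n R b) n ≃ₗ[R] R,
      ∀ F : (CohB1.ProjSpace n R).Modules, Coh.IsCoh F → Good R t.toLinearMap F := by
  cases n with
  | zero =>
    have hb' : b = -1 := by rw [hb]; norm_num
    subst hb'
    exact ⟨t0 R, fun F hF => good_coh0 R F hF⟩
  | succ p =>
    have hb' : b = dk p 0 := by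
      rw [hb]
      unfold dk
      push_cast
      ring
    subst hb'
    exact ⟨tL p R, fun F hF => good_coh p R F hF⟩

end Groth.Agent.Lib.Helper20.ProjDual
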