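import Mathlib
import Groth.Prelude.Def_KLin
import Groth.Agent.Lib.Helper20.ExtDim
import Groth.Agent.Lib.Helper20.ProjDual6
import Groth.Agent.Lib.Helper20.TwistEquivPn
import Groth.Agent.Lib.Helper21.InjAcyc3
import Groth.Agent.S0844
import Groth.Agent.S0038

/-!
# `Ext^i(F, ω) ≃ H^{n-i}(F)^∨` on `ℙⁿ_k` by dimension counting (helper20)
-/

set_option autoImplicit false
set_option linter.unusedVariables false
set_option linter.unusedSectionVars false

universe u

open CategoryTheory Limits Opposite TopologicalSpace AlgebraicGeometry Abelian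

namespace Groth.Agent.Lib.Helper20.ExtDual

open Groth.Agent.Lib.Helper20.ExtDim Groth.Agent.Lib.Helper20.DualDev
  Groth.Agent.Lib.Helper18.HH Groth.Agent.Lib.Helper20.TensorEquiv
  Groth.Agent.Lib.Helper20.TwistEquivPn Groth.Agent.Lib.helper28

section Unit

variable {X : Scheme.{u}} [HasExt.{u} X.Modules]

lemma subsingleton_ext_unit (M : X.Modules) (i : ℕ) (h : Subsingleton (Coh.HH X M i)) :
    Subsingleton (Ext.{u} (Coh.structureModule X) M i) := by
  have hX : HasExt.{u} (SheafOfModules.{u} X.ringCatSheaf) := inferInstanceAs (HasExt.{u} X.Modules)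
  obtain ⟨e⟩ := Groth.Agent.Lib.helper21.InjAcyc.ext_unit_equiv_H X.ringCatSheaf M i
  exact (EquivLike.injective e).subsingleton

end Unit

section Twist

variable (n : ℕ) (R : Type u) [CommRing R] [HasExt.{u} (CohB1.ProjSpace n R).Modules]

/-- `Ext^i(O(-q), O(-(n+1))) = 0` for `q ≥ 1`, `i ≥ 1` -/
lemma ext_twist_vanish (q : ℕ) (hq : 1 ≤ q) (i : ℕ) (hi : 1 ≤ i) :
    Subsingleton (Ext.{u} (Twist.twistProjSpace n R (-(q : ℤ)))
      (Twist.twistProjSpace n R (-((n : ℤ) + 1))) i) := by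
  have : EnoughInjectives (CohB1.ProjSpace n R).Modules :=
    Groth.Agent.Lib.Helper21.ModGroth.enoughInjectives_mod (CohB1.ProjSpace n R).ringCatSheaf
  have hE : (tensorRight (Twist.twistProjSpace n R (q : ℤ))).IsEquivalence :=
    isEquivalence_tensorRight (invIso n R (q : ℤ))
  let e1 : (tensorRight (Twist.twistProjSpace n R (q : ℤ))).obj (Twist.twistProjSpace n R (-(q : ℤ))) ≅
      Coh.structureModule (CohB1.ProjSpace n R) :=
    TwistPn.tensorIso n R (-(q : ℤ)) (q : ℤ) ≪≫ twistCongr n R (neg_add_cancel (q : ℤ)) ≪≫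
      (TwistPn.zeroIso n R).symm
  let e2 : (tensorRight (Twist.twistProjSpace n R (q : ℤ))).obj
      (Twist.twistProjSpace n R (-((n : ℤ) + 1))) ≅
      Twist.twistProjSpace n R (-((n : ℤ) + 1) + (q : ℤ)) :=
    TwistPn.tensorIso n R (-((n : ℤ) + 1)) (q : ℤ)
  refine subsingleton_ext_of_equivalence _ e1 e2 i (subsingleton_ext_unit _ i ?_)
  refine Groth.Agent.S0844.result R n _ i ?_ ?_
  · rintro ⟨h0, -⟩
    omega
  · rintro ⟨-, h2⟩
    have : (1 : ℤ) ≤ (q : ℤ) := by exact_mod_cast hq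
    omega

/-- `Ext^i(O(-q)^m, O(-(n+1))) = 0` for `q ≥ 1`, `i ≥ 1` -/
lemma ext_sigma_twist_vanish (q : ℕ) (hq : 1 ≤ q) (m : ℕ) (i : ℕ) (hi : 1 ≤ i) :
    Subsingleton (Ext.{u} (∐ fun _ : Fin m => Twist.twistProjSpace n R (-(q : ℤ)))
      (Twist.twistProjSpace n R (-((n : ℤ) + 1))) i) :=
  subsingleton_ext_sigma _ _ i (fun _ => ext_twist_vanish n R q hq i hi)

omit [HasExt.{u} (CohB1.ProjSpace n R).Modules] in
/-- `H^j(O(-q)^m) = 0` for `q ≥ 1`, `j < n` -/
lemma hh_sigma_twist_vanish (q : ℕ) (hq : 1 ≤ q) (m : ℕ) (j : ℕ) (hj : j < n) :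
    Subsingleton (Coh.HH (CohB1.ProjSpace n R)
      (∐ fun _ : Fin m => Twist.twistProjSpace n R (-(q : ℤ))) j) := by
  have h1 : Subsingleton (Coh.HH (CohB1.ProjSpace n R) (Twist.twistProjSpace n R (-(q : ℤ))) j) := by
    refine Groth.Agent.S0844.result R n _ j ?_ ?_
    · rintro ⟨-, h2⟩
      have : (1 : ℤ) ≤ (q : ℤ) := by exact_mod_cast hq
      omega
    · rintro ⟨h0, -⟩
      omega
  have : ∀ _ : Fin m, Subsingleton (Coh.HH (CohB1.ProjSpace n R)
      (Twist.twistProjSpace n R (-(q : ℤ))) j) := fun _ => h1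
  exact (sigmaEquivOver R (fun _ : Fin m => Twist.twistProjSpace n R (-(q : ℤ))) j).toEquiv.subsingleton

end Twist

section Deg0

variable {X : Scheme.{u}} (A : Type u) [CommRing A] [X.Over (Spec (CommRingCat.of A))]
  {ω : X.Modules} {N : ℕ} (t : Coh.HH X ω N →ₗ[A] A)

lemma mapOver_smulMod (F : X.Modules) (a : A) (x : Coh.HH X F N) :
    mapOver A (Formal.smulMod A F a) N x = a • x := rfl

/-- the duality map is `A`-linear -/
noncomputable def ΦLin (F : X.Modules) : (F ⟶ ω) →ₗ[A] (Coh.HH X F N →ₗ[A] A) where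
  toFun := Φ A t F
  map_add' φ ψ := by
    ext x
    simp only [Φ, LinearMap.comp_apply, LinearMap.add_apply]
    have h : mapOver A (φ + ψ) N x = mapOver A φ N x + mapOver A ψ N x := by
      change Groth.Agent.Lib.Helper18.HH.map (φ + ψ) N x = _
      rw [Groth.Agent.Lib.Helper18.HH.map_add]
      rfl
    rw [h, _root_.map_add]
  map_smul' a φ := by
    ext x
    rw [KLin.smul_def, Φ_comp]
    simp only [LinearMap.comp_apply, RingHom.id_apply, LinearMap.smul_apply]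
    rw [mapOver_smulMod, _root_.map_smul]

end Deg0

section HHDim

variable {X : Scheme.{u}} (A : Type u) [Field A] [X.Over (Spec (CommRingCat.of A))]
  {S : ShortComplex X.Modules} (hS : S.ShortExact)

open Module

include hS in
/-- `0 → H^p(X₃) → H^{p+1}(X₁) → H^{p+1}(X₂) → H^{p+1}(X₃) → 0` -/
lemma hh_dim_succ (p : ℕ) (h2 : Subsingleton (Coh.HH X S.X₂ p))
    (h1 : Subsingleton (Coh.HH X S.X₁ (p + 2)))
    [Module.Finite A (Coh.HH X S.X₁ (p + 1))] [Module.Finite A (Coh.HH X S.X₂ (p + 1))] :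
    finrank A (Coh.HH X S.X₃ (p + 1)) + finrank A (Coh.HH X S.X₁ (p + 1)) =
      finrank A (Coh.HH X S.X₂ (p + 1)) + finrank A (Coh.HH X S.X₃ p) :=
  (LA.four_term (δOver hS A p) (mapOver A S.f (p + 1)) (mapOver A S.g (p + 1))
    (injective_δ hS p h2) (exactOver₁ hS A p) (exactOver₂ hS A (p + 1))
    (surjective_map_g hS (p + 1) h1)).2

include hS in
/-- `0 → H^0(X₁) → H^0(X₂) → H^0(X₃) → 0` -/
lemma hh_dim_zero (h1 : Subsingleton (Coh.HH X S.X₁ 1))
    [Module.Finite A (Coh.HH X S.X₂ 0)] [Module.Finite A (Coh.HH X S.X₃ 0)] :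
    finrank A (Coh.HH X S.X₂ 0) = finrank A (Coh.HH X S.X₃ 0) + finrank A (Coh.HH X S.X₁ 0) := by
  have h := (LA.four_term (mapOver A S.f 0) (mapOver A S.g 0) (δOver hS A 0)
    (injective_mapOver_f_zero hS A) (exactOver₂ hS A 0) (exactOver₃ hS A 0)
    (fun x => ⟨0, Subsingleton.elim _ _⟩)).2
  rw [finrank_zero_of_subsingleton, zero_add] at h
  exact h

end HHDim

section Main

variable (k : Type u) [Field k] (n : ℕ) [HasExt.{u} (CohB1.ProjSpace n k).Modules]

open Module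

/-- the expected dimension of `Ext^i(F, ω)` -/
noncomputable def hdim (F : (CohB1.ProjSpace n k).Modules) (i : ℕ) : ℕ :=
  if i ≤ n then finrank k (Coh.HH (CohB1.ProjSpace n k) F (n - i)) else 0

omit [HasExt.{u} (CohB1.ProjSpace n k).Modules] in
lemma hdim_of_le (F : (CohB1.ProjSpace n k).Modules) {i : ℕ} (h : i ≤ n) :
    hdim k n F i = finrank k (Coh.HH (CohB1.ProjSpace n k) F (n - i)) := if_pos h

omit [HasExt.{u} (CohB1.ProjSpace n k).Modules] in
lemma hdim_of_lt (F : (CohB1.ProjSpace n k).Modules) {i : ℕ} (h : n < i) :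
    hdim k n F i = 0 := if_neg (by omega)

/-- the statement in degree `i` -/
def PP (i : ℕ) : Prop :=
  ∀ F : (CohB1.ProjSpace n k).Modules, Coh.IsCoh F →
    Module.Finite k (Ext.{u} F (Twist.twistProjSpace n k (-((n : ℤ) + 1))) i) ∧
      finrank k (Ext.{u} F (Twist.twistProjSpace n k (-((n : ℤ) + 1))) i) = hdim k n F i

lemma pp_zero : PP k n 0 := by
  intro F hF
  obtain ⟨t, ht⟩ := Groth.Agent.Lib.Helper20.ProjDual.exists_trace n k (-((n : ℤ) + 1)) rfl
  have hfin : Module.Finite k (Coh.HH (CohB1.ProjSpace n k) F n) :=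
    Groth.Agent.S0038.result n k F hF n
  let e : Ext.{u} F (Twist.twistProjSpace n k (-((n : ℤ) + 1))) 0 ≃ₗ[k]
      Module.Dual k (Coh.HH (CohB1.ProjSpace n k) F n) :=
    Ext.linearEquiv₀.trans (LinearEquiv.ofBijective (ΦLin k t.toLinearMap F) (ht F hF))
  refine ⟨Module.Finite.equiv e.symm, ?_⟩
  rw [hdim_of_le k n F (Nat.zero_le n), Nat.sub_zero]
  exact e.finrank_eq.trans Subspace.dual_finrank_eq

variable {S : ShortComplex (CohB1.ProjSpace n k).Modules} (hS : S.ShortExact)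

include hS in
/-- degree one -/
lemma step_one (h₁ : Coh.IsCoh S.X₁) (h₂ : Coh.IsCoh S.X₂) (h₃ : Coh.IsCoh S.X₃)
    (hExt : Subsingleton (Ext.{u} S.X₂ (Twist.twistProjSpace n k (-((n : ℤ) + 1))) 1))
    (hHH : ∀ j, j < n → Subsingleton (Coh.HH (CohB1.ProjSpace n k) S.X₂ j))
    (ih : PP k n 0) :
    Module.Finite k (Ext.{u} S.X₃ (Twist.twistProjSpace n k (-((n : ℤ) + 1))) 1) ∧
      finrank k (Ext.{u} S.X₃ (Twist.twistProjSpace n k (-((n : ℤ) + 1))) 1) = hdim k n S.X₃ 1 := by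
  obtain ⟨hf1, hd1⟩ := ih S.X₁ h₁
  obtain ⟨hf2, hd2⟩ := ih S.X₂ h₂
  obtain ⟨hf3, hd3⟩ := ih S.X₃ h₃
  obtain ⟨hfin, hd⟩ := ext_one_dim k hS (Twist.twistProjSpace n k (-((n : ℤ) + 1))) hExt
  refine ⟨hfin, ?_⟩
  rw [hd1, hd2, hd3, hdim_of_le k n _ (Nat.zero_le n), hdim_of_le k n _ (Nat.zero_le n),
    hdim_of_le k n _ (Nat.zero_le n), Nat.sub_zero] at hd
  have hq1 : Coh.IsQCoh S.X₁ := h₁.1
  have hfin1 : ∀ j, Module.Finite k (Coh.HH (CohB1.ProjSpace n k) S.X₁ j) :=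
    fun j => Groth.Agent.S0038.result n k S.X₁ h₁ j
  have hfin2 : ∀ j, Module.Finite k (Coh.HH (CohB1.ProjSpace n k) S.X₂ j) :=
    fun j => Groth.Agent.S0038.result n k S.X₂ h₂ j
  have hfin3 : ∀ j, Module.Finite k (Coh.HH (CohB1.ProjSpace n k) S.X₃ j) :=
    fun j => Groth.Agent.S0038.result n k S.X₃ h₃ j
  by_cases hn : n = 0
  · subst hn
    rw [hdim_of_lt k 0 _ Nat.zero_lt_one]
    have hv : Subsingleton (Coh.HH (CohB1.ProjSpace 0 k) S.X₁ 1) :=
      Groth.Agent.S0022.result 0 k S.X₁ 1 Nat.zero_lt_one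
    have h0 := hh_dim_zero k hS hv
    omega
  · obtain ⟨p, hp⟩ : ∃ p, n = p + 1 := ⟨n - 1, by omega⟩
    subst hp
    rw [hdim_of_le k (p + 1) _ (Nat.le_add_left 1 p), Nat.add_sub_cancel]
    have hv : Subsingleton (Coh.HH (CohB1.ProjSpace (p + 1) k) S.X₁ (p + 2)) :=
      Groth.Agent.S0022.result (p + 1) k S.X₁ (p + 2) (Nat.lt_succ_self _)
    have h0 := hh_dim_succ k hS p (hHH p (Nat.lt_succ_self p)) hv
    omega

include hS in
/-- degree `j + 2` -/
lemma step_succ (j : ℕ) (h₁ : Coh.IsCoh S.X₁)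
    (hExt1 : Subsingleton (Ext.{u} S.X₂ (Twist.twistProjSpace n k (-((n : ℤ) + 1))) (j + 1)))
    (hExt2 : Subsingleton (Ext.{u} S.X₂ (Twist.twistProjSpace n k (-((n : ℤ) + 1))) (j + 2)))
    (hHH : ∀ j, j < n → Subsingleton (Coh.HH (CohB1.ProjSpace n k) S.X₂ j))
    (ih : PP k n (j + 1)) :
    Module.Finite k (Ext.{u} S.X₃ (Twist.twistProjSpace n k (-((n : ℤ) + 1))) (j + 2)) ∧
      finrank k (Ext.{u} S.X₃ (Twist.twistProjSpace n k (-((n : ℤ) + 1))) (j + 2)) =
        hdim k n S.X₃ (j + 2) := by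
  obtain ⟨hf1, hd1⟩ := ih S.X₁ h₁
  obtain ⟨e⟩ := ext_succ_equiv k hS (Twist.twistProjSpace n k (-((n : ℤ) + 1))) j hExt1 hExt2
  refine ⟨Module.Finite.equiv e, ?_⟩
  rw [← e.finrank_eq, hd1]
  rcases Nat.lt_trichotomy (j + 1) n with hlt | heq | hgt
  · -- `j + 2 ≤ n`
    rw [hdim_of_le k n _ (le_of_lt hlt), hdim_of_le k n _ hlt]
    have hidx : n - (j + 1) = (n - (j + 2)) + 1 := by omega
    rw [hidx]
    exact (overEquiv k (δEquiv hS (n - (j + 2)) (hHH _ (by omega)) (hHH _ (by omega)))).finrank_eq.symm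
  · -- `j + 1 = n`
    rw [hdim_of_le k n _ (le_of_eq heq), hdim_of_lt k n _ (by omega)]
    have hidx : n - (j + 1) = 0 := by omega
    rw [hidx]
    have : Subsingleton (Coh.HH (CohB1.ProjSpace n k) S.X₁ 0) :=
      subsingleton_X₁_zero hS (hHH 0 (by omega))
    exact finrank_zero_of_subsingleton
  · rw [hdim_of_lt k n _ hgt, hdim_of_lt k n _ (by omega)]

theorem pp_all (i : ℕ) : PP k n i := by
  induction i with
  | zero => exact pp_zero k n
  | succ i ih =>
    intro F hF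
    obtain ⟨N₀, hN⟩ := Groth.Agent.Lib.helper11.SerrePn.exists_epi_twist_le n k F hF
    obtain ⟨m, π, hπ⟩ := hN (max N₀ 1) (le_max_left _ _)
    have hq : 1 ≤ max N₀ 1 := le_max_right _ _
    have hEcoh : Coh.IsCoh (∐ fun _ : Fin m => Twist.twistProjSpace n k (-((max N₀ 1 : ℕ) : ℤ))) :=
      Groth.Agent.Lib.Lead.SerreFin.isCoh_of_isFinLocFree
        (Groth.Agent.Lib.Lead.SerreFin.isFinLocFree_sigma _ fun _ =>
          Groth.Agent.Lib.helper16.FLF.isFinLocFree_of_isInvertible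
            (Groth.Agent.Lib.helper28.TwistPn.isInvertible n k _))
    have hK : Coh.IsCoh (kernel π) :=
      Groth.Agent.Lib.helper7.CohKer.isCoh_kernel hEcoh hF π
    have hS : (ShortComplex.mk (kernel.ι π) π (kernel.condition π)).ShortExact :=
      { exact := ShortComplex.exact_of_f_is_kernel _ (kernelIsKernel π)
        mono_f := inferInstanceAs (Mono (kernel.ι π))
        epi_g := hπ }
    have hHH := fun j hj => hh_sigma_twist_vanish n k (max N₀ 1) hq m j hj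
    cases i with
    | zero =>
      exact step_one k n hS hK hEcoh hF
        (ext_sigma_twist_vanish n k (max N₀ 1) hq m 1 le_rfl) hHH ih
    | succ j =>
      exact step_succ k n hS j hK
        (ext_sigma_twist_vanish n k (max N₀ 1) hq m (j + 1) (Nat.le_add_left 1 j))
        (ext_sigma_twist_vanish n k (max N₀ 1) hq m (j + 2) (Nat.le_add_left 1 (j + 1))) hHH ih

end Main

end Groth.Agent.Lib.Helper20.ExtDual
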