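import Mathlib
import Groth.Agent.S1642
import Groth.Agent.Lib.Helper20.KosSurj

/-!
# Castelnuovo–Mumford regularity on `P^n_k`: consequences of Mumford's theorem (helper20)
-/

set_option autoImplicit false
universe u

open CategoryTheory CategoryTheory.Limits AlgebraicGeometry Opposite TopologicalSpace

namespace Groth.Agent.Lib.helper20.CMReg

open Groth.Agent.Lib.helper20.KosSurj Groth.Agent.Lib.helper20.KosChase
  Groth.Agent.Lib.Helper20.TwistEquivPn

variable {k : Type u} [Field k] {n : ℕ}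

/-- `m`-regular implies `m'`-regular for `m ≤ m'` -/
theorem regular_of_le {F : (CohB1.ProjSpace n k).Modules} (hF : Coh.IsCoh F) {m : ℤ}
    (h : Curv2.IsMRegular k n F m) : ∀ m' : ℤ, m ≤ m' → Curv2.IsMRegular k n F m' := by
  have key : ∀ t : ℕ, Curv2.IsMRegular k n F (m + t) := by
    intro t
    induction t with
    | zero => simpa using h
    | succ t ih =>
      have := Groth.Agent.S1642.result k n F hF (m + t) ih
      have e : m + (t : ℤ) + 1 = m + ((t + 1 : ℕ) : ℤ) := by push_cast; ring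
      rw [e] at this
      exact this
  intro m' hm'
  have e : m' = m + ((m' - m).toNat : ℤ) := by omega
  rw [e]
  exact key _

/-- the vanishing `H^p(F(m' - p)) = 0` for all `p ≥ 1`, `m' ≥ m` -/
theorem vanish_of_regular {F : (CohB1.ProjSpace n k).Modules} (hF : Coh.IsCoh F) {m : ℤ}
    (h : Curv2.IsMRegular k n F m) (m' : ℤ) (hm' : m ≤ m') (p : ℕ) (hp : 1 ≤ p) :
    Subsingleton (Coh.HH (CohB1.ProjSpace n k)
      (CohB1.tensorMod F (Twist.twistProjSpace n k (m' - p))) p) := by
  by_cases hpn : p ≤ n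
  · exact regular_of_le hF h m' hm' p hp hpn
  · have hq : Coh.IsQCoh F := hF.1
    have : Coh.IsQCoh (CohB1.tensorMod F (Twist.twistProjSpace n k (m' - (p : ℤ)))) :=
      Groth.Agent.Lib.helper2.TensorQCoh.isQuasicoherent_tensorMod _ _
    exact Groth.Agent.S0022.result n k _ p (by omega)

/-- every global section of `F(d) ⊗ O(e)` comes from `Γ(F(d)) ⊗ Γ(O(e))`, `d ≥ m`, `F` `m`-regular -/
theorem mem_range_T_of_regular {F : (CohB1.ProjSpace n k).Modules} (hF : Coh.IsCoh F) {m : ℤ}
    (h : Curv2.IsMRegular k n F m) (d : ℤ) (hd : m ≤ d) (e : ℕ)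
    (τ : (CohB1.tensorMod (CohB1.tensorMod F (Twist.twistProjSpace n k d))
      (Twist.twistProjSpace n k (e : ℤ))).val.obj (op ⊤)) :
    τ ∈ (T (CohB1.tensorMod F (Twist.twistProjSpace n k d))
      (Twist.twistProjSpace n k (e : ℤ))).range := by
  refine mem_range_T n k _ e (fun e' _ p hp => ?_) τ
  have hv := vanish_of_regular hF h (d + e') (by omega) p hp
  have e1 : CohB1.tensorMod F (Twist.twistProjSpace n k (d + (e' : ℤ) - p)) ≅
      CohB1.tensorMod F (Twist.twistProjSpace n k (d + ((e' : ℤ) - p))) :=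
    eqToIso (by congr 2; ring)
  exact subsingleton_HH_of_iso (e1 ≪≫ (twistTwistIso n k F d ((e' : ℤ) - p)).symm) p hv

end Groth.Agent.Lib.helper20.CMReg
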