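import Mathlib
import Groth.Agent.Lib.Helper20.CMReg
import Groth.Agent.Lib.Helper20.GGDescent

/-!
# Global generation of `F(m)` for an `m`-regular module on `P^n_k` (helper20)
-/

set_option autoImplicit false
universe u

open CategoryTheory CategoryTheory.Limits AlgebraicGeometry Opposite TopologicalSpace

namespace Groth.Agent.Lib.helper20.CMGG

open Groth.Agent.Lib.helper20.KosSurj Groth.Agent.Lib.helper20.KosChase
  Groth.Agent.Lib.Helper20.TwistEquivPn Groth.Agent.Lib.helper20.CMReg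
  Groth.Agent.Lib.helper20.GGDescent Groth.Agent.Lib.helper28

variable {k : Type u} [Field k] {n : ℕ}

/-- coherence of a twist -/
theorem isCoh_twist {F : (CohB1.ProjSpace n k).Modules} (hF : Coh.IsCoh F) (d : ℤ) :
    Coh.IsCoh (CohB1.tensorMod F (Twist.twistProjSpace n k d)) := by
  have hq : F.IsQuasicoherent := hF.1
  have hft : CohB1.IsFT (Twist.twistProjSpace n k d) :=
    Groth.Agent.Lib.helper16.FLF.isFiniteType_of_isFinLocFree _
      (Groth.Agent.Lib.helper16.FLF.isFinLocFree_of_isInvertible (TwistPn.isInvertible n k d))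
  exact ⟨Groth.Agent.Lib.helper2.TensorQCoh.isQuasicoherent_tensorMod _ _,
    Groth.Agent.Lib.helper2.TensorQCoh.isFiniteType_tensorMod _ _ hF.2 hft⟩

/-- if `F` is `m`-regular, `F(m)` is `0`-regular -/
theorem regular_twist {F : (CohB1.ProjSpace n k).Modules} {m : ℤ}
    (h : Curv2.IsMRegular k n F m) :
    Curv2.IsMRegular k n (CohB1.tensorMod F (Twist.twistProjSpace n k m)) 0 := by
  intro i hi1 hin
  have e1 : CohB1.tensorMod F (Twist.twistProjSpace n k (m - i)) ≅
      CohB1.tensorMod F (Twist.twistProjSpace n k (m + (0 - (i : ℤ)))) :=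
    eqToIso (by congr 2; ring)
  exact subsingleton_HH_of_iso (e1 ≪≫ (twistTwistIso n k F m (0 - (i : ℤ))).symm) i (h i hi1 hin)

lemma gg_of_iso {X : Scheme.{u}} {M M' : X.Modules} (e : M ≅ M')
    (h : Curv2.IsGloballyGenerated M) : Curv2.IsGloballyGenerated M' := by
  obtain ⟨ι, p, hp⟩ := h
  have he : Epi e.hom := ⟨fun g h w => by
    have := congrArg (e.inv ≫ ·) w
    simpa using this⟩
  exact ⟨ι, p ≫ e.hom, @epi_comp _ _ _ _ _ p hp e.hom he⟩

/-- descent step -/
theorem gg_step {F : (CohB1.ProjSpace n k).Modules} (hF : Coh.IsCoh F)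
    (h : Curv2.IsMRegular k n F 0) (e : ℕ)
    (hgg : Curv2.IsGloballyGenerated
      (CohB1.tensorMod F (Twist.twistProjSpace n k ((e + 1 : ℕ) : ℤ)))) :
    Curv2.IsGloballyGenerated (CohB1.tensorMod F (Twist.twistProjSpace n k (e : ℤ))) := by
  refine gg_of_gg_twist _ (Twist.twistProjSpace n k ((1 : ℕ) : ℤ))
    (Twist.twistProjSpace n k (-((1 : ℕ) : ℤ))) (invIso n k _)
    (fun τ => mem_range_T_of_regular hF h (e : ℤ) (by omega) 1 τ) ?_
  exact gg_of_iso (twistTwistIso n k F (e : ℤ) ((1 : ℕ) : ℤ)).symm hgg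

/-- **`F(m)` is globally generated for `F` `m`-regular.** -/
theorem gg_of_regular {F : (CohB1.ProjSpace n k).Modules} (hF : Coh.IsCoh F) {m : ℤ}
    (h : Curv2.IsMRegular k n F m) :
    Curv2.IsGloballyGenerated (CohB1.tensorMod F (Twist.twistProjSpace n k m)) := by
  set F' := CohB1.tensorMod F (Twist.twistProjSpace n k m) with hF'
  have hcoh : Coh.IsCoh F' := isCoh_twist hF m
  have hreg : Curv2.IsMRegular k n F' 0 := regular_twist h
  have hqs : QuasiSeparatedSpace (CohB1.ProjSpace n k) :=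
    inferInstanceAs (QuasiSeparatedSpace (Proj (CohB1.polyGrading n k)))
  obtain ⟨n₀, hn₀⟩ := Groth.Agent.Lib.helper11.SerreGG.exists_isGloballyGenerated_twist
    (TwistPn.isAmple n k 1 Nat.one_pos) F' hcoh
  have hN : Curv2.IsGloballyGenerated (CohB1.tensorMod F' (Twist.twistProjSpace n k (n₀ : ℤ))) :=
    gg_of_iso (Groth.Agent.Lib.Lead.ModTensor.tensorIso (Iso.refl F') (TwistPn.powIso n k n₀).symm)
      (hn₀ n₀ le_rfl)
  have hall : ∀ t : ℕ, t ≤ n₀ →
      Curv2.IsGloballyGenerated (CohB1.tensorMod F' (Twist.twistProjSpace n k ((n₀ - t : ℕ) : ℤ))) := by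
    intro t
    induction t with
    | zero => intro _; simpa using hN
    | succ t ih =>
      intro ht
      have h1 := ih (by omega)
      have e1 : n₀ - t = (n₀ - (t + 1)) + 1 := by omega
      rw [e1] at h1
      exact gg_step hcoh hreg _ h1
  have h0 := hall n₀ le_rfl
  rw [Nat.sub_self] at h0
  exact gg_of_iso (twistZeroIso n k F') h0

end Groth.Agent.Lib.helper20.CMGG
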