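import Mathlib
import Groth.Agent.Lib.Helper20.CMGG
import Groth.Agent.Lib.Helper18.HHSum
import Groth.Agent.Lib.Helper7.CohKer
import Groth.Agent.S0038
import Groth.Agent.S0844

/-!
# Linear resolutions and Castelnuovo–Mumford regularity (helper20)

`F` on `P^n_k` is `m`-regular iff there is an epimorphism `O(-m)^b ⟶ F` with `(m+1)`-regular kernel.
-/

set_option autoImplicit false
universe u

open CategoryTheory CategoryTheory.Limits AlgebraicGeometry Opposite TopologicalSpace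

namespace Groth.Agent.Lib.helper20.LinRes

open Groth.Agent.Lib.Helper20.SplitH1 Groth.Agent.Lib.helper20.GGDescent
  Groth.Agent.Lib.Helper18.HH

noncomputable section

section General

variable {X : Scheme.{u}}

/-- the map `O^b ⟶ M` given by `b` global sections -/
def ψ (M : X.Modules) {b : ℕ} (s : Fin b → M.val.obj (op ⊤)) :
    (∐ fun _ : Fin b => Coh.structureModule X) ⟶ M :=
  Sigma.desc (fun j => homOfGlobal M (s j))

/-- the `j`-th basis section of `O^b` -/
def basisSec (b : ℕ) (j : Fin b) :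
    (∐ fun _ : Fin b => Coh.structureModule X).val.obj (op ⊤) :=
  ((Sigma.ι (fun _ : Fin b => Coh.structureModule X) j).val.app (op ⊤)).hom
    (1 : X.ringCatSheaf.obj.obj (op ⊤))

lemma ψ_basisSec (M : X.Modules) {b : ℕ} (s : Fin b → M.val.obj (op ⊤)) (j : Fin b) :
    ((ψ M s).val.app (op ⊤)).hom (basisSec b j) = s j := by
  have h1 : Sigma.ι (fun _ : Fin b => Coh.structureModule X) j ≫ ψ M s = homOfGlobal M (s j) :=
    Sigma.ι_desc _ _
  have h2 := homOfGlobal_top M (s j)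
  rw [← h1] at h2
  exact h2

/-- a morphism kills every global section if it kills a spanning family -/
lemma app_eq_zero_of_span {M N : X.Modules} (π : M ⟶ N) {b : ℕ} (s : Fin b → M.val.obj (op ⊤))
    (hspan : ∀ t : M.val.obj (op ⊤), ∃ c : Fin b → Coh.Γtop X, t = ∑ j, c j • s j)
    (h : ∀ j, (π.val.app (op ⊤)).hom (s j) = 0) (t : M.val.obj (op ⊤)) :
    (π.val.app (op ⊤)).hom t = 0 := by
  obtain ⟨c, rfl⟩ := hspan t
  rw [_root_.map_sum]
  refine Finset.sum_eq_zero fun j _ => ?_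
  rw [_root_.map_smul, h j, smul_zero]

/-- `O^b ⟶ M` is an epimorphism when `M` is globally generated and the sections span -/
lemma epi_ψ {M : X.Modules} (hgg : Curv2.IsGloballyGenerated M) {b : ℕ}
    (s : Fin b → M.val.obj (op ⊤))
    (hspan : ∀ t : M.val.obj (op ⊤), ∃ c : Fin b → Coh.Γtop X, t = ∑ j, c j • s j) :
    Epi (ψ M s) := by
  obtain ⟨ι', p, hp⟩ := hgg
  have hπ : Epi (cokernel.π (ψ M s)) := coequalizer.π_epi
  have hkill : ∀ t : M.val.obj (op ⊤), ((cokernel.π (ψ M s)).val.app (op ⊤)).hom t = 0 := by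
    refine app_eq_zero_of_span _ s hspan (fun j => ?_)
    rw [← ψ_basisSec M s j]
    have hcond : ψ M s ≫ cokernel.π (ψ M s) = 0 := cokernel.condition _
    have h0 : ((ψ M s ≫ cokernel.π (ψ M s)).val.app (op ⊤)).hom (basisSec b j) = 0 := by
      rw [hcond]; rfl
    exact h0
  have hepi : Epi (p ≫ cokernel.π (ψ M s)) := @epi_comp _ _ _ _ _ p hp _ hπ
  have hz : IsZero (cokernel (ψ M s)) :=
    @isZero_of_epi_of_gen X _ _ (p ≫ cokernel.π (ψ M s)) hepi ι'
      (fun i => SheafOfModules.ιFree i) (fun a b h => free_hom_ext a b h) (fun i => hkill _)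
  exact Abelian.epi_of_cokernel_π_eq_zero _ (hz.eq_of_tgt _ _)

/-- `O^b ⟶ M` is surjective on global sections when the sections span -/
lemma surj_ψ (M : X.Modules) {b : ℕ} (s : Fin b → M.val.obj (op ⊤))
    (hspan : ∀ t : M.val.obj (op ⊤), ∃ c : Fin b → Coh.Γtop X, t = ∑ j, c j • s j) :
    Function.Surjective (Groth.Agent.Lib.Helper18.HH.map (ψ M s) 0) := by
  intro y
  obtain ⟨c, hc⟩ := hspan (equiv₀ M y)
  refine ⟨(equiv₀ _).symm (∑ j, c j • basisSec b j), ?_⟩
  rw [equiv₀_symm_naturality]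
  apply (equiv₀ M).injective
  rw [LinearEquiv.apply_symm_apply, hc, _root_.map_sum]
  refine Finset.sum_congr rfl fun j _ => ?_
  rw [_root_.map_smul, ψ_basisSec]

/-- conjugating by isomorphisms preserves surjectivity on `H^0` -/
lemma surjective_map_conj {A A' B B' : X.Modules} (u : A' ≅ A) (v : B ≅ B') (f : A ⟶ B)
    (hf : Function.Surjective (Groth.Agent.Lib.Helper18.HH.map f 0)) :
    Function.Surjective (Groth.Agent.Lib.Helper18.HH.map (u.hom ≫ f ≫ v.hom) 0) := by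
  intro y
  obtain ⟨x, hx⟩ := hf (Groth.Agent.Lib.Helper18.HH.map v.inv 0 y)
  refine ⟨Groth.Agent.Lib.Helper18.HH.map u.inv 0 x, ?_⟩
  rw [← map_comp_apply]
  have h1 : u.inv ≫ u.hom ≫ f ≫ v.hom = f ≫ v.hom := by simp
  rw [h1, map_comp_apply, hx, ← map_comp_apply, v.inv_hom_id, map_id]
  rfl

lemma surj_iso_comp {A A' B : X.Modules} (u : A' ≅ A) (g : A ⟶ B)
    (hg : Function.Surjective (Groth.Agent.Lib.Helper18.HH.map g 0)) :
    Function.Surjective (Groth.Agent.Lib.Helper18.HH.map (u.hom ≫ g) 0) := by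
  intro y
  obtain ⟨x, hx⟩ := hg y
  refine ⟨Groth.Agent.Lib.Helper18.HH.map u.inv 0 x, ?_⟩
  rw [← map_comp_apply, Iso.inv_hom_id_assoc, hx]

lemma surj_comp_iso {A B B' : X.Modules} (g : A ⟶ B) (v : B ≅ B')
    (hg : Function.Surjective (Groth.Agent.Lib.Helper18.HH.map g 0)) :
    Function.Surjective (Groth.Agent.Lib.Helper18.HH.map (g ≫ v.hom) 0) := by
  intro y
  obtain ⟨x, hx⟩ := hg (Groth.Agent.Lib.Helper18.HH.map v.inv 0 y)
  refine ⟨x, ?_⟩
  rw [map_comp_apply, hx, ← map_comp_apply, v.inv_hom_id, map_id]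
  rfl

lemma surj_of_factor {A₀ A₁ A₂ B₂ B₁ B₀ : X.Modules} (a : A₀ ≅ A₁) (c₁ : A₁ ≅ A₂)
    (g : A₂ ⟶ B₂) (c₂ : B₂ ≅ B₁) (b : B₁ ≅ B₀) (f : A₀ ⟶ B₀)
    (hf : f = a.hom ≫ (c₁.hom ≫ g ≫ c₂.hom) ≫ b.hom)
    (hg : Function.Surjective (Groth.Agent.Lib.Helper18.HH.map g 0)) :
    Function.Surjective (Groth.Agent.Lib.Helper18.HH.map f 0) := by
  rw [hf]
  exact surj_iso_comp a _ (surj_comp_iso _ b (surj_iso_comp c₁ _ (surj_comp_iso _ c₂ hg)))

lemma surj_of_factor' {A₀ A₁ A₂ B₂ B₁ B₀ : X.Modules} (a : A₀ ⟶ A₁) (c₁ : A₁ ⟶ A₂)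
    (g : A₂ ⟶ B₂) (c₂ : B₂ ⟶ B₁) (b : B₁ ⟶ B₀) (ha : IsIso a) (hc₁ : IsIso c₁) (hc₂ : IsIso c₂)
    (hb : IsIso b) (f : A₀ ⟶ B₀)
    (hf : f = a ≫ (c₁ ≫ g ≫ c₂) ≫ b)
    (hg : Function.Surjective (Groth.Agent.Lib.Helper18.HH.map g 0)) :
    Function.Surjective (Groth.Agent.Lib.Helper18.HH.map f 0) :=
  surj_of_factor (asIso a) (asIso c₁) g (asIso c₂) (asIso b) f hf hg

/-- a finite spanning family of global sections, from finiteness of `H^0` over `A` -/
lemma exists_span (A : Type u) [CommRing A] [X.Over (Spec (CommRingCat.of A))] (M : X.Modules)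
    [Module.Finite A (Coh.HH X M 0)] :
    ∃ (b : ℕ) (s : Fin b → M.val.obj (op ⊤)),
      ∀ t : M.val.obj (op ⊤), ∃ c : Fin b → Coh.Γtop X, t = ∑ j, c j • s j := by
  obtain ⟨b, s₀, hs₀⟩ := Module.Finite.exists_fin (R := A) (M := Coh.HH X M 0)
  refine ⟨b, fun j => equiv₀ M (s₀ j), fun t => ?_⟩
  have hx : (equiv₀ M).symm t ∈ Submodule.span A (Set.range s₀) := by rw [hs₀]; trivial
  obtain ⟨c₀, hc₀⟩ := (Submodule.mem_span_range_iff_exists_fun A).1 hx
  refine ⟨fun j => Coh.toGlobal (X ↘ Spec (CommRingCat.of A)) (c₀ j), ?_⟩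
  have h1 : t = equiv₀ M (∑ j, c₀ j • s₀ j) := by
    rw [hc₀, LinearEquiv.apply_symm_apply]
  rw [h1, _root_.map_sum]
  refine Finset.sum_congr rfl fun j _ => ?_
  rw [smul_over_def, _root_.map_smul]

end General

section Pn

open Groth.Agent.Lib.Helper20.TwistEquivPn Groth.Agent.Lib.Helper20.TensorEquiv
  Groth.Agent.Lib.Lead.ModTensor Groth.Agent.Lib.helper28 Groth.Agent.Lib.helper20.CMReg
  Groth.Agent.Lib.helper20.CMGG

variable {k : Type u} [Field k] {n : ℕ}

/-- `(∐ O(c)) ⊗ O(d) ≅ ∐ O(c + d)` -/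
def sigmaTwistIso (b : ℕ) (c d : ℤ) :
    CohB1.tensorMod (∐ fun _ : Fin b => Twist.twistProjSpace n k c) (Twist.twistProjSpace n k d) ≅
      ∐ fun _ : Fin b => Twist.twistProjSpace n k (c + d) := by
  have := isEquivalence_tensorRight (invIso n k d)
  exact (PreservesCoproduct.iso (tensorRight (Twist.twistProjSpace n k d))
    (fun _ : Fin b => Twist.twistProjSpace n k c)) ≪≫
      Sigma.mapIso (fun _ => TwistPn.tensorIso n k c d)

/-- (L1) cohomology of a twist of `O(c)^b` -/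
lemma subsingleton_HH_sigma_twist (b : ℕ) (c d : ℤ) (q : ℕ)
    (h : Subsingleton (Coh.HH (CohB1.ProjSpace n k) (Twist.twistProjSpace n k (c + d)) q)) :
    Subsingleton (Coh.HH (CohB1.ProjSpace n k)
      (CohB1.tensorMod (∐ fun _ : Fin b => Twist.twistProjSpace n k c)
        (Twist.twistProjSpace n k d)) q) := by
  refine subsingleton_of_iso (sigmaTwistIso b c d).symm q ?_
  exact (sigmaEquiv (fun _ : Fin b => Twist.twistProjSpace n k (c + d)) q).toEquiv.subsingleton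

lemma isCoh_sigma (b : ℕ) (d : ℤ) :
    Coh.IsCoh (∐ fun _ : Fin b => Twist.twistProjSpace n k d) :=
  Groth.Agent.Lib.Lead.SerreFin.isCoh_of_isFinLocFree
    (Groth.Agent.Lib.Lead.SerreFin.isFinLocFree_sigma _ fun _ =>
      Groth.Agent.Lib.helper16.FLF.isFinLocFree_of_isInvertible
        (TwistPn.isInvertible n k d))

lemma isCoh_kernel {F : (CohB1.ProjSpace n k).Modules} (hF : Coh.IsCoh F) {b : ℕ} {d : ℤ}
    (φ : (∐ fun _ : Fin b => Twist.twistProjSpace n k d) ⟶ F) : Coh.IsCoh (kernel φ) := by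
  have : IsLocallyNoetherian (CohB1.ProjSpace n k) :=
    Groth.Agent.Lib.Lead.SerreFin.isLocallyNoetherian_projSpace n k
  exact Groth.Agent.Lib.helper7.CohKer.isCoh_kernel (isCoh_sigma b d) hF φ

/-- the short exact sequence `0 → ker φ → O(-m)^b → F → 0` -/
lemma shortExact_kernel {E F : (CohB1.ProjSpace n k).Modules} (φ : E ⟶ F) [Epi φ] :
    (ShortComplex.mk (kernel.ι φ) φ (kernel.condition φ)).ShortExact :=
  { exact := ShortComplex.exact_of_f_is_kernel _ (kernelIsKernel φ)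
    mono_f := inferInstanceAs (Mono (kernel.ι φ))
    epi_g := inferInstanceAs (Epi φ) }

/-- (⇐) -/
theorem regular_of_res {F : (CohB1.ProjSpace n k).Modules} (hF : Coh.IsCoh F) (m : ℤ) (b : ℕ)
    (φ : (∐ fun _ : Fin b => Twist.twistProjSpace n k (-m)) ⟶ F) [Epi φ]
    (hK : Curv2.IsMRegular k n (kernel φ) (m + 1)) : Curv2.IsMRegular k n F m := by
  intro i hi1 hin
  have hT := shortExact_twistSC n k (m - i) (shortExact_kernel φ)
  refine subsingleton_X₃ hT i ?_ ?_
  · exact subsingleton_HH_sigma_twist b (-m) (m - i) i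
      (Groth.Agent.S0844.result k n (-m + (m - i)) i (by omega) (by omega))
  · have hKc := isCoh_kernel hF φ
    have h := vanish_of_regular hKc hK (m + 1) le_rfl (i + 1) (by omega)
    have e : m + 1 - ((i + 1 : ℕ) : ℤ) = m - i := by push_cast; ring
    rw [e] at h
    exact h

section Forward

/-- `∐ O(-m) ≅ (∐ O) ⊗ O(-m)` -/
def αIso (b : ℕ) (m : ℤ) : (∐ fun _ : Fin b => Twist.twistProjSpace n k (-m)) ≅
    CohB1.tensorMod (∐ fun _ : Fin b => Coh.structureModule (CohB1.ProjSpace n k))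
      (Twist.twistProjSpace n k (-m)) := by
  have := isEquivalence_tensorRight (invIso n k (-m))
  exact Sigma.mapIso (fun _ => (leftUnitor (Twist.twistProjSpace n k (-m))).symm) ≪≫
    (PreservesCoproduct.iso (tensorRight (Twist.twistProjSpace n k (-m)))
      (fun _ : Fin b => Coh.structureModule (CohB1.ProjSpace n k))).symm

/-- `F(m)(-m) ≅ F` -/
def βIso (F : (CohB1.ProjSpace n k).Modules) (m : ℤ) :
    CohB1.tensorMod (CohB1.tensorMod F (Twist.twistProjSpace n k m))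
      (Twist.twistProjSpace n k (-m)) ≅ F :=
  (compIso (invIso n k m)).app F

variable {F : (CohB1.ProjSpace n k).Modules} (m : ℤ) {b : ℕ}
  (ψ₀ : (∐ fun _ : Fin b => Coh.structureModule (CohB1.ProjSpace n k)) ⟶
    CohB1.tensorMod F (Twist.twistProjSpace n k m))

/-- the map `O(-m)^b ⟶ F` obtained from `O^b ⟶ F(m)` by twisting back -/
def φOf : (∐ fun _ : Fin b => Twist.twistProjSpace n k (-m)) ⟶ F :=
  (αIso b m).hom ≫ tensorMap ψ₀ (𝟙 (Twist.twistProjSpace n k (-m))) ≫ (βIso F m).hom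

lemma epi_φOf [Epi ψ₀] : Epi (φOf m ψ₀) := by
  have h1 : Epi (tensorMap ψ₀ (𝟙 (Twist.twistProjSpace n k (-m)))) :=
    epi_tensorMap (invIso n k (-m)) ψ₀
  have h2 : Epi (tensorMap ψ₀ (𝟙 (Twist.twistProjSpace n k (-m))) ≫ (βIso F m).hom) :=
    @epi_comp _ _ _ _ _ _ h1 _ inferInstance
  unfold φOf
  exact @epi_comp _ _ _ _ _ _ inferInstance _ h2

omit [Field k] in
/-- twisting by `L` and then by `L'` with `L ⊗ L' ≅ O` is conjugate to the identity -/
lemma twist_back {Y : Scheme.{u}} {L L' : Y.Modules}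
    (e' : CohB1.tensorMod L L' ≅ Coh.structureModule Y) {A B : Y.Modules} (f : A ⟶ B) :
    tensorMap (tensorMap f (𝟙 L)) (𝟙 L') =
      (compIso e').hom.app A ≫ f ≫ (compIso e').inv.app B :=
  (NatIso.naturality_2 (compIso e') f).symm

lemma tensorMap_φOf :
    tensorMap (φOf m ψ₀) (𝟙 (Twist.twistProjSpace n k m)) =
      tensorMap (αIso b m).hom (𝟙 (Twist.twistProjSpace n k m)) ≫
        tensorMap (tensorMap ψ₀ (𝟙 (Twist.twistProjSpace n k (-m))))
          (𝟙 (Twist.twistProjSpace n k m)) ≫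
        tensorMap (βIso F m).hom (𝟙 (Twist.twistProjSpace n k m)) :=
  ((tensorRight (Twist.twistProjSpace n k m)).map_comp (αIso b m).hom
      (tensorMap ψ₀ (𝟙 (Twist.twistProjSpace n k (-m))) ≫ (βIso F m).hom)).trans
    (congrArg (tensorMap (αIso b m).hom (𝟙 (Twist.twistProjSpace n k m)) ≫ ·)
      ((tensorRight (Twist.twistProjSpace n k m)).map_comp
        (tensorMap ψ₀ (𝟙 (Twist.twistProjSpace n k (-m)))) (βIso F m).hom))

/-- `(A ⊗ L) ⊗ L' ≅ A` with objects in `tensorMod` form -/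
def cHom {Y : Scheme.{u}} {L L' : Y.Modules}
    (e' : CohB1.tensorMod L L' ≅ Coh.structureModule Y) (A : Y.Modules) :
    CohB1.tensorMod (CohB1.tensorMod A L) L' ≅ A := (compIso e').app A

omit [Field k] in
lemma twist_back2 {Y : Scheme.{u}} {L L' : Y.Modules}
    (e' : CohB1.tensorMod L L' ≅ Coh.structureModule Y) {A B : Y.Modules} (f : A ⟶ B) :
    tensorMap (tensorMap f (𝟙 L)) (𝟙 L') =
      (cHom e' A).hom ≫ f ≫ (cHom e' B).inv :=
  (NatIso.naturality_2 (compIso e') f).symm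

lemma t1 : tensorMap (tensorMap ψ₀ (𝟙 (Twist.twistProjSpace n k (-m))))
      (𝟙 (Twist.twistProjSpace n k m)) =
    (cHom (braid (Twist.twistProjSpace n k (-m)) (Twist.twistProjSpace n k m) ≪≫
      invIso n k m) _).hom ≫ ψ₀ ≫
    (cHom (braid (Twist.twistProjSpace n k (-m)) (Twist.twistProjSpace n k m) ≪≫
      invIso n k m) _).inv := twist_back2 _ ψ₀

lemma t2 :
    tensorMap (φOf m ψ₀) (𝟙 (Twist.twistProjSpace n k m)) =
      tensorMap (αIso b m).hom (𝟙 (Twist.twistProjSpace n k m)) ≫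
        ((cHom (braid (Twist.twistProjSpace n k (-m)) (Twist.twistProjSpace n k m) ≪≫
            invIso n k m) _).hom ≫ ψ₀ ≫
          (cHom (braid (Twist.twistProjSpace n k (-m)) (Twist.twistProjSpace n k m) ≪≫
            invIso n k m) _).inv) ≫
        tensorMap (βIso F m).hom (𝟙 (Twist.twistProjSpace n k m)) :=
  (tensorMap_φOf m ψ₀).trans
    (congrArg (fun z => tensorMap (αIso b m).hom (𝟙 (Twist.twistProjSpace n k m)) ≫ z ≫
      tensorMap (βIso F m).hom (𝟙 (Twist.twistProjSpace n k m))) (t1 m ψ₀))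

lemma t3 :
    tensorMap (φOf m ψ₀) (𝟙 (Twist.twistProjSpace n k m)) =
      (tensorIso (αIso b m) (Iso.refl (Twist.twistProjSpace n k m))).hom ≫
        ((cHom (braid (Twist.twistProjSpace n k (-m)) (Twist.twistProjSpace n k m) ≪≫
            invIso n k m) _).hom ≫ ψ₀ ≫
          (cHom (braid (Twist.twistProjSpace n k (-m)) (Twist.twistProjSpace n k m) ≪≫
            invIso n k m) _).symm.hom) ≫
        (tensorIso (βIso F m) (Iso.refl (Twist.twistProjSpace n k m))).hom :=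
  t2 m ψ₀

lemma surj_twist_φOf (hψ : Function.Surjective (Groth.Agent.Lib.Helper18.HH.map ψ₀ 0)) :
    Function.Surjective (Groth.Agent.Lib.Helper18.HH.map
      (tensorMap (φOf m ψ₀) (𝟙 (Twist.twistProjSpace n k m))) 0) :=
  surj_of_factor _ _ ψ₀ _ _ _ (t3 m ψ₀) hψ

/-- `H^1(K(m)) = 0` for the kernel `K` of `φ : O(-m)^b ⟶ F` when `H^0(φ(m))` is surjective -/
lemma h1_kernel_vanish {F : (CohB1.ProjSpace n k).Modules} (m : ℤ) {b : ℕ}
    (φ : (∐ fun _ : Fin b => Twist.twistProjSpace n k (-m)) ⟶ F) [Epi φ]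
    (hsurj : Function.Surjective (Groth.Agent.Lib.Helper18.HH.map
      (tensorMap φ (𝟙 (Twist.twistProjSpace n k m))) 0)) :
    Subsingleton (Coh.HH (CohB1.ProjSpace n k)
      (CohB1.tensorMod (kernel φ) (Twist.twistProjSpace n k m)) 1) := by
  have hT := shortExact_twistSC n k m (shortExact_kernel φ)
  have hE : Subsingleton (Coh.HH (CohB1.ProjSpace n k)
      (CohB1.tensorMod (∐ fun _ : Fin b => Twist.twistProjSpace n k (-m))
        (Twist.twistProjSpace n k m)) 1) :=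
    subsingleton_HH_sigma_twist b (-m) m 1
      (Groth.Agent.S0844.result k n (-m + m) 1 (by omega) (by omega))
  have key : ∀ x : Coh.HH (CohB1.ProjSpace n k)
      (CohB1.tensorMod (kernel φ) (Twist.twistProjSpace n k m)) 1, x = 0 := by
    intro x
    have hx : Groth.Agent.Lib.Helper18.HH.map (twistSC n k m
        (ShortComplex.mk (kernel.ι φ) φ (kernel.condition φ))).f 1 x = 0 :=
      @Subsingleton.elim _ hE _ _
    obtain ⟨y, rfl⟩ := (exact₁ hT 0 x).1 hx
    obtain ⟨z, rfl⟩ := hsurj y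
    exact (exact₃ hT 0 _).2 ⟨z, rfl⟩
  exact ⟨fun x y => (key x).trans (key y).symm⟩

/-- (⇒) -/
theorem exists_res {F : (CohB1.ProjSpace n k).Modules} (hF : Coh.IsCoh F) (m : ℤ)
    (h : Curv2.IsMRegular k n F m) :
    ∃ (b : ℕ) (φ : (∐ fun _ : Fin b => Twist.twistProjSpace n k (-m)) ⟶ F),
      Epi φ ∧ Curv2.IsMRegular k n (kernel φ) (m + 1) := by
  have hMcoh := isCoh_twist hF m
  have hgg := gg_of_regular hF h
  have hfin : Module.Finite k (Coh.HH (CohB1.ProjSpace n k)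
      (CohB1.tensorMod F (Twist.twistProjSpace n k m)) 0) :=
    Groth.Agent.S0038.result n k _ hMcoh 0
  obtain ⟨b, s, hspan⟩ := exists_span k (CohB1.tensorMod F (Twist.twistProjSpace n k m))
  have hepiψ := epi_ψ hgg s hspan
  have hsurjψ := surj_ψ _ s hspan
  have hepiφ : Epi (φOf m (ψ _ s)) := epi_φOf m _
  refine ⟨b, φOf m (ψ _ s), hepiφ, ?_⟩
  intro i hi1 hin
  rcases Nat.lt_or_ge i 2 with h2 | h2
  · obtain rfl : i = 1 := by omega
    have e : m + 1 - ((1 : ℕ) : ℤ) = m := by push_cast; ring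
    rw [e]
    exact h1_kernel_vanish m _ (surj_twist_φOf m _ hsurjψ)
  · obtain ⟨q, rfl⟩ : ∃ q, i = q + 1 := ⟨i - 1, by omega⟩
    have hT := shortExact_twistSC n k (m + 1 - ((q + 1 : ℕ) : ℤ))
      (shortExact_kernel (φOf m (ψ _ s)))
    refine subsingleton_X₁_succ hT q ?_ ?_
    · show Subsingleton (Coh.HH _ (CohB1.tensorMod F
        (Twist.twistProjSpace n k (m + 1 - ((q + 1 : ℕ) : ℤ)))) q)
      have e : m + 1 - ((q + 1 : ℕ) : ℤ) = m - q := by push_cast; ring
      rw [e]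
      exact vanish_of_regular hF h m le_rfl q (by omega)
    · exact subsingleton_HH_sigma_twist b (-m) _ (q + 1)
        (Groth.Agent.S0844.result k n (-m + (m + 1 - ((q + 1 : ℕ) : ℤ))) (q + 1) (by omega)
          (by push_cast; omega))

end Forward

end Pn

end

end Groth.Agent.Lib.helper20.LinRes
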