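import Mathlib
import Groth.Agent.Lib.Helper20.LinRes
import Groth.Agent.Lib.Helper20.ProjGamma
import Groth.Agent.S11314
import Groth.Agent.S0843
import Groth.Agent.Lib.Lead.SerreVan

/-!
# Horrocks' splitting criterion on `P^n_k` (helper20)

A coherent module `F` on `P^n_k` (`n ≥ 1`) with `H^0(F(m)) = 0` for `m ≪ 0` and `H^i(F(m)) = 0` for
`0 < i < n` and all `m` is a finite direct sum of twisting sheaves.  The proof is by
Castelnuovo–Mumford regularity and Serre duality.
-/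

set_option autoImplicit false
universe u

open CategoryTheory CategoryTheory.Limits AlgebraicGeometry Opposite TopologicalSpace

namespace Groth.Agent.Lib.helper20.Horrocks

open Groth.Agent.Lib.Helper20.SplitH1 Groth.Agent.Lib.helper20.GGDescent
  Groth.Agent.Lib.Helper18.HH Groth.Agent.Lib.helper20.LinRes

noncomputable section

section General

variable {X : Scheme.{u}}

/-- a globally generated module without global sections is zero -/
lemma isZero_of_gg_of_subsingleton {M : X.Modules} (hgg : Curv2.IsGloballyGenerated M)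
    (h0 : Subsingleton (Coh.HH X M 0)) : IsZero M := by
  obtain ⟨ι', p, hp⟩ := hgg
  have hs : Subsingleton (M.val.obj (op ⊤)) := (equiv₀ M).symm.toEquiv.subsingleton
  exact @isZero_of_epi_of_gen X _ _ p hp ι' (fun i => SheafOfModules.ιFree i)
    (fun a b h => free_hom_ext a b h) (fun i => Subsingleton.elim _ _)

/-- a nonzero endomorphism of `O_X` has a right inverse when nonzero global functions are units -/
lemma exists_rightInverse_of_ne_zero (hfield : ∀ c : Coh.Γtop X, c ≠ 0 → IsUnit c)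
    (f : Coh.structureModule X ⟶ Coh.structureModule X) (hf : f ≠ 0) :
    ∃ g : Coh.structureModule X ⟶ Coh.structureModule X, f ≫ g = 𝟙 _ := by
  set c : Coh.Γtop X := (f.val.app (op ⊤)).hom (1 : X.ringCatSheaf.obj.obj (op ⊤)) with hc
  have hc0 : c ≠ 0 := by
    intro h0
    apply hf
    apply hom_ext_top
    rw [← hc, h0]
    rfl
  obtain ⟨u, hu⟩ := hfield c hc0
  refine ⟨homOfGlobal (Coh.structureModule X) ((↑u⁻¹ : Coh.Γtop X)), ?_⟩
  apply hom_ext_top
  show ((homOfGlobal (Coh.structureModule X) ((↑u⁻¹ : Coh.Γtop X))).val.app (op ⊤)).hom c = _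
  have h1 : c = c • (1 : X.ringCatSheaf.obj.obj (op ⊤)) := (mul_one c).symm
  have h2 := ((homOfGlobal (Coh.structureModule X) ((↑u⁻¹ : Coh.Γtop X))).val.app
    (op ⊤)).hom.map_smul c (1 : X.ringCatSheaf.obj.obj (op ⊤))
  have h3 := homOfGlobal_top (Coh.structureModule X) ((↑u⁻¹ : Coh.Γtop X))
  refine Eq.trans (congrArg _ h1) (h2.trans ((congrArg (c • ·) h3).trans ?_))
  show c * ↑u⁻¹ = 1
  rw [← hu]
  exact u.mul_inv

lemma comp_ne_zero_of_epi {Fr M N : X.Modules} (p : Fr ⟶ M) (hp : Epi p) (φ : M ⟶ N)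
    (hφ : φ ≠ 0) : p ≫ φ ≠ 0 := fun h => hφ (zero_of_epi_comp p h)

lemma exists_gen_comp_ne_zero {Fr N : X.Modules} {ι' : Type*}
    (gen : ι' → ((Coh.structureModule X : X.Modules) ⟶ Fr))
    (hgen : ∀ a b : Fr ⟶ N, (∀ i, gen i ≫ a = gen i ≫ b) → a = b)
    (q : Fr ⟶ N) (hq : q ≠ 0) : ∃ i : ι', gen i ≫ q ≠ 0 := by
  by_contra hcon
  push Not at hcon
  apply hq
  apply hgen
  intro i
  exact (hcon i).trans comp_zero.symm

lemma exists_split_aux (hfield : ∀ c : Coh.Γtop X, c ≠ 0 → IsUnit c) {Fr M : X.Modules}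
    {ι' : Type*} (gen : ι' → ((Coh.structureModule X : X.Modules) ⟶ Fr))
    (hgen : ∀ a b : Fr ⟶ Coh.structureModule X, (∀ i, gen i ≫ a = gen i ≫ b) → a = b)
    (p : Fr ⟶ M) (hp : Epi p) (φ : M ⟶ Coh.structureModule X) (hφ : φ ≠ 0) :
    ∃ (σ : Coh.structureModule X ⟶ M) (ρ : M ⟶ Coh.structureModule X), σ ≫ ρ = 𝟙 _ := by
  have h1 := comp_ne_zero_of_epi p hp φ hφ
  obtain ⟨i, hi⟩ := exists_gen_comp_ne_zero gen hgen (p ≫ φ) h1
  obtain ⟨g, hg⟩ := exists_rightInverse_of_ne_zero hfield _ hi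
  refine ⟨gen i ≫ p, φ ≫ g, ?_⟩
  refine Eq.trans ?_ hg
  simp only [Category.assoc]

/-- a globally generated module with a nonzero map to `O_X` has `O_X` as a direct summand -/
lemma exists_split_of_gg (hfield : ∀ c : Coh.Γtop X, c ≠ 0 → IsUnit c) {M : X.Modules}
    (hgg : Curv2.IsGloballyGenerated M) (φ : M ⟶ Coh.structureModule X) (hφ : φ ≠ 0) :
    ∃ (σ : Coh.structureModule X ⟶ M) (ρ : M ⟶ Coh.structureModule X), σ ≫ ρ = 𝟙 _ := by
  obtain ⟨ι', p, hp⟩ := hgg
  exact exists_split_aux hfield (fun i => SheafOfModules.ιFree i)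
    (fun a b h => free_hom_ext a b h) p hp φ hφ

/-- a retract has smaller cohomology -/
lemma subsingleton_of_retract {M N : X.Modules} (ι : M ⟶ N) (π : N ⟶ M) (h : ι ≫ π = 𝟙 M) (q : ℕ)
    (hN : Subsingleton (Coh.HH X N q)) : Subsingleton (Coh.HH X M q) := by
  have hinj : Function.Injective (Groth.Agent.Lib.Helper18.HH.map ι q) := by
    intro x y hxy
    have := congrArg (Groth.Agent.Lib.Helper18.HH.map π q) hxy
    rw [← map_comp_apply, ← map_comp_apply, h, map_id] at this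
    exact this
  exact hinj.subsingleton

end General

section Abelian

variable {C : Type*} [Category C] [Abelian C]

/-- a split epimorphism `ρ : B ⟶ A` (with section `σ`) decomposes `B` as `ker ρ ⊞ A`, and
`ker ρ` is a retract of `B` -/
lemma exists_biprod_of_section {A B : C} (σ : A ⟶ B) (ρ : B ⟶ A) (h : σ ≫ ρ = 𝟙 A) :
    ∃ (π : B ⟶ kernel ρ), kernel.ι ρ ≫ π = 𝟙 _ ∧ Nonempty (B ≅ kernel ρ ⊞ A) := by
  have hepi : Epi ρ := (IsSplitEpi.mk' ⟨σ, h⟩ : IsSplitEpi ρ).epi
  let S : ShortComplex C := ShortComplex.mk (kernel.ι ρ) ρ (kernel.condition ρ)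
  have hS : S.Exact := ShortComplex.exact_of_f_is_kernel S (kernelIsKernel ρ)
  let sp := ShortComplex.Splitting.ofExactOfSection S hS σ h (inferInstanceAs (Mono (kernel.ι ρ)))
  exact ⟨sp.r, sp.f_r, ⟨sp.isoBinaryBiproduct⟩⟩

end Abelian

section Pn

open Groth.Agent.Lib.Helper20.TwistEquivPn Groth.Agent.Lib.Helper20.TensorEquiv
  Groth.Agent.Lib.Lead.ModTensor Groth.Agent.Lib.helper28 Groth.Agent.Lib.helper20.CMReg
  Groth.Agent.Lib.helper20.CMGG

variable {k : Type u} [Field k] {n : ℕ}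

/-- nonzero global functions on `P^n_k` are units -/
lemma isUnit_of_ne_zero (c : Coh.Γtop (CohB1.ProjSpace n k)) (hc : c ≠ 0) : IsUnit c := by
  have hiso := Groth.Agent.Lib.Helper20.ProjGamma.isIso_appTop n k
  have hbij : Function.Bijective (Coh.toGlobal (CohB1.ProjSpace.toSpec n k)) := by
    unfold Coh.toGlobal
    have h1 : Function.Bijective (CohB1.ProjSpace.toSpec n k).appTop.hom :=
      (ConcreteCategory.isIso_iff_bijective _).1 hiso
    have h2 : Function.Bijective (Scheme.ΓSpecIso (CommRingCat.of k)).inv.hom :=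
      (ConcreteCategory.isIso_iff_bijective _).1 inferInstance
    exact h1.comp h2
  obtain ⟨a, rfl⟩ := hbij.2 c
  have ha : a ≠ 0 := by
    rintro rfl
    exact hc (map_zero _)
  exact (isUnit_iff_ne_zero.2 ha).map _

/-- hypotheses of Horrocks' criterion -/
structure Hyp (F : (CohB1.ProjSpace n k).Modules) : Prop where
  coh : Coh.IsCoh F
  h0 : ∃ m₀ : ℤ, ∀ m : ℤ, m ≤ m₀ → Subsingleton (Coh.HH (CohB1.ProjSpace n k)
    (CohB1.tensorMod F (Twist.twistProjSpace n k m)) 0)
  hmid : ∀ (m : ℤ) (i : ℕ), 0 < i → i < n → Subsingleton (Coh.HH (CohB1.ProjSpace n k)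
    (CohB1.tensorMod F (Twist.twistProjSpace n k m)) i)

/-- cohomology of twists of a retract -/
lemma subsingleton_twist_of_retract {F F' : (CohB1.ProjSpace n k).Modules} (ι : F' ⟶ F)
    (π : F ⟶ F') (h : ι ≫ π = 𝟙 F') (d : ℤ) (q : ℕ)
    (hF : Subsingleton (Coh.HH (CohB1.ProjSpace n k)
      (CohB1.tensorMod F (Twist.twistProjSpace n k d)) q)) :
    Subsingleton (Coh.HH (CohB1.ProjSpace n k)
      (CohB1.tensorMod F' (Twist.twistProjSpace n k d)) q) := by
  refine subsingleton_of_retract (tensorMap ι (𝟙 (Twist.twistProjSpace n k d)))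
    (tensorMap π (𝟙 (Twist.twistProjSpace n k d))) ?_ q hF
  rw [← tensorMap_comp, h, Category.comp_id, tensorMap_id]

lemma hyp_of_retract {F F' : (CohB1.ProjSpace n k).Modules} (ι : F' ⟶ F)
    (π : F ⟶ F') (h : ι ≫ π = 𝟙 F') (hcoh : Coh.IsCoh F') (H : Hyp F) : Hyp F' := by
  obtain ⟨m₀, hm₀⟩ := H.h0
  exact ⟨hcoh, ⟨m₀, fun m hm => subsingleton_twist_of_retract ι π h m 0 (hm₀ m hm)⟩,
    fun m i hi hin => subsingleton_twist_of_retract ι π h m i (H.hmid m i hi hin)⟩

lemma regular_of_retract {F F' : (CohB1.ProjSpace n k).Modules} (ι : F' ⟶ F)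
    (π : F ⟶ F') (h : ι ≫ π = 𝟙 F') {t : ℤ} (hreg : Curv2.IsMRegular k n F t) :
    Curv2.IsMRegular k n F' t :=
  fun i hi hin => subsingleton_twist_of_retract ι π h _ i (hreg i hi hin)

lemma isZero_of_isZero_twist (F : (CohB1.ProjSpace n k).Modules) (d : ℤ)
    (hz : IsZero (CohB1.tensorMod F (Twist.twistProjSpace n k d))) : IsZero F := by
  have := isEquivalence_tensorRight (invIso n k d)
  exact IsZero.of_full_of_faithful_of_isZero (tensorRight (Twist.twistProjSpace n k d)) _ hz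

/-- the minimal regularity -/
lemma exists_min_regular {F : (CohB1.ProjSpace n k).Modules} (H : Hyp F) (hF0 : ¬ IsZero F)
    (t₀ : ℤ) (hreg : Curv2.IsMRegular k n F t₀) :
    ∃ t : ℤ, t ≤ t₀ ∧ Curv2.IsMRegular k n F t ∧ ¬ Curv2.IsMRegular k n F (t - 1) := by
  obtain ⟨m₀, hm₀⟩ := H.h0
  have hbdd : ∃ b : ℤ, ∀ z : ℤ, Curv2.IsMRegular k n F z → b ≤ z := by
    refine ⟨m₀ + 1, fun z hz => ?_⟩
    by_contra hlt
    push Not at hlt
    apply hF0
    refine isZero_of_isZero_twist F z ?_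
    exact isZero_of_gg_of_subsingleton (gg_of_regular H.coh hz) (hm₀ z (by omega))
  obtain ⟨t, ht, hmin⟩ := Int.exists_least_of_bdd hbdd ⟨t₀, hreg⟩
  refine ⟨t, hmin t₀ hreg, ht, fun h => ?_⟩
  have := hmin (t - 1) h
  omega

/-- by Serre duality, failure of `(t-1)`-regularity gives a nonzero map `F(t) ⟶ O` -/
lemma exists_nonzero_map (hn : 1 ≤ n) {F : (CohB1.ProjSpace n k).Modules} (H : Hyp F) (t : ℤ)
    (hnot : ¬ Curv2.IsMRegular k n F (t - 1)) :
    ∃ φ : CohB1.tensorMod F (Twist.twistProjSpace n k t) ⟶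
      Coh.structureModule (CohB1.ProjSpace n k), φ ≠ 0 := by
  have hnt : ¬ Subsingleton (Coh.HH (CohB1.ProjSpace n k)
      (CohB1.tensorMod F (Twist.twistProjSpace n k (t - 1 - n))) n) := by
    intro hs
    apply hnot
    intro i hi hin
    rcases Nat.lt_or_ge i n with h | h
    · exact H.hmid _ i (by omega) h
    · obtain rfl : i = n := by omega
      exact hs
  have hGcoh : Coh.IsCoh (CohB1.tensorMod F (Twist.twistProjSpace n k (t - 1 - n))) :=
    isCoh_twist H.coh _
  obtain ⟨tr, htr⟩ := Groth.Agent.S11314.result k n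
  rw [not_subsingleton_iff_nontrivial] at hnt
  obtain ⟨x, hx⟩ := exists_ne (0 : Coh.HH (CohB1.ProjSpace n k)
      (CohB1.tensorMod F (Twist.twistProjSpace n k (t - 1 - n))) n)
  obtain ⟨ψ, hψ⟩ : ∃ ψ : Coh.HH (CohB1.ProjSpace n k)
      (CohB1.tensorMod F (Twist.twistProjSpace n k (t - 1 - n))) n →ₗ[k] k, ψ x ≠ 0 := by
    by_contra hcon
    push Not at hcon
    exact hx ((Module.forall_dual_apply_eq_zero_iff k x).1 hcon)
  obtain ⟨φ₀, hφ₀, -⟩ := htr _ hGcoh ψ
  have hφ₀ne : φ₀ ≠ 0 := by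
    rintro rfl
    apply hψ
    rw [hφ₀ x]
    have h0 : Groth.Agent.Lib.Helper18.HH.map (0 : CohB1.tensorMod F
        (Twist.twistProjSpace n k (t - 1 - n)) ⟶ Twist.twistProjSpace n k (-((n : ℤ) + 1))) n x = 0 := by
      rw [Groth.Agent.Lib.Helper18.HH.map_zero]; rfl
    exact (congrArg tr h0).trans (map_zero tr)
  let e₁ : CohB1.tensorMod F (Twist.twistProjSpace n k t) ≅
      CohB1.tensorMod (CohB1.tensorMod F (Twist.twistProjSpace n k (t - 1 - n)))
        (Twist.twistProjSpace n k ((n : ℤ) + 1)) :=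
    (eqToIso (by congr 2; ring) : CohB1.tensorMod F (Twist.twistProjSpace n k t) ≅
      CohB1.tensorMod F (Twist.twistProjSpace n k ((t - 1 - n) + ((n : ℤ) + 1)))) ≪≫
      (twistTwistIso n k F (t - 1 - n) ((n : ℤ) + 1)).symm
  let e₂ : CohB1.tensorMod (Twist.twistProjSpace n k (-((n : ℤ) + 1)))
      (Twist.twistProjSpace n k ((n : ℤ) + 1)) ≅ Coh.structureModule (CohB1.ProjSpace n k) :=
    braid _ _ ≪≫ invIso n k ((n : ℤ) + 1)
  refine ⟨e₁.hom ≫ tensorMap φ₀ (𝟙 (Twist.twistProjSpace n k ((n : ℤ) + 1))) ≫ e₂.hom, ?_⟩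
  intro h
  apply hφ₀ne
  have h1 : tensorMap φ₀ (𝟙 (Twist.twistProjSpace n k ((n : ℤ) + 1))) = 0 := by
    have h2 := congrArg (fun z => e₁.inv ≫ z ≫ e₂.inv) h
    simpa using h2
  have := isEquivalence_tensorRight (invIso n k ((n : ℤ) + 1))
  apply (tensorRight (Twist.twistProjSpace n k ((n : ℤ) + 1))).map_injective
  exact h1.trans (tensorMap_zero (invIso n k ((n : ℤ) + 1)) _ _).symm

/-- a nonzero module satisfying Horrocks' hypotheses has a twisting sheaf as a direct summand -/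
lemma exists_summand (hn : 1 ≤ n) {F : (CohB1.ProjSpace n k).Modules} (H : Hyp F)
    (hF0 : ¬ IsZero F) (t₀ : ℤ) (hreg : Curv2.IsMRegular k n F t₀) :
    ∃ t : ℤ, t ≤ t₀ ∧ ∃ (σ : Twist.twistProjSpace n k (-t) ⟶ F)
      (ρ : F ⟶ Twist.twistProjSpace n k (-t)), σ ≫ ρ = 𝟙 _ := by
  obtain ⟨t, ht, hregt, hnot⟩ := exists_min_regular H hF0 t₀ hreg
  obtain ⟨φ, hφ⟩ := exists_nonzero_map hn H t hnot
  obtain ⟨σ, ρ, hσρ⟩ := exists_split_of_gg isUnit_of_ne_zero (gg_of_regular H.coh hregt) φ hφ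
  refine ⟨t, ht, ?_⟩
  let u : Twist.twistProjSpace n k (-t) ≅
      CohB1.tensorMod (Coh.structureModule (CohB1.ProjSpace n k)) (Twist.twistProjSpace n k (-t)) :=
    (leftUnitor (Twist.twistProjSpace n k (-t))).symm
  refine ⟨u.hom ≫ tensorMap σ (𝟙 (Twist.twistProjSpace n k (-t))) ≫ (βIso F t).hom,
    (βIso F t).inv ≫ tensorMap ρ (𝟙 (Twist.twistProjSpace n k (-t))) ≫ u.inv, ?_⟩
  have h1 : tensorMap σ (𝟙 (Twist.twistProjSpace n k (-t))) ≫
      tensorMap ρ (𝟙 (Twist.twistProjSpace n k (-t))) = 𝟙 _ := by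
    rw [← tensorMap_comp, hσρ, Category.comp_id, tensorMap_id]
  have h2 : (u.hom ≫ tensorMap σ (𝟙 (Twist.twistProjSpace n k (-t))) ≫ (βIso F t).hom) ≫
      ((βIso F t).inv ≫ tensorMap ρ (𝟙 (Twist.twistProjSpace n k (-t))) ≫ u.inv) =
      u.hom ≫ (tensorMap σ (𝟙 (Twist.twistProjSpace n k (-t))) ≫
        tensorMap ρ (𝟙 (Twist.twistProjSpace n k (-t)))) ≫ u.inv := by
    simp only [Category.assoc, Iso.hom_inv_id_assoc]
  rw [h2, h1, Category.id_comp, Iso.hom_inv_id]

lemma isCoh_O (d : ℤ) : Coh.IsCoh (Twist.twistProjSpace n k d) := by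
  have hft : CohB1.IsFT (Twist.twistProjSpace n k d) :=
    Groth.Agent.Lib.helper16.FLF.isFiniteType_of_isFinLocFree _
      (Groth.Agent.Lib.helper16.FLF.isFinLocFree_of_isInvertible
        (TwistPn.isInvertible n k d))
  exact ⟨inferInstance, hft⟩

/-- `H^0(O(d)) ≠ 0` for `d ≥ 0` -/
lemma finrank_H0_twist_pos (d : ℤ) (hd : 0 ≤ d) :
    0 < Module.finrank k (Coh.HH (CohB1.ProjSpace n k) (Twist.twistProjSpace n k d) 0) := by
  obtain ⟨e, rfl⟩ : ∃ e : ℕ, d = (e : ℤ) := ⟨d.toNat, by omega⟩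
  obtain ⟨E⟩ := Groth.Agent.S0843.result k n e
  rw [E.finrank_eq]
  have hnt : Nontrivial ↥(MvPolynomial.homogeneousSubmodule (Fin (n + 1)) k e) := by
    refine ⟨⟨⟨(MvPolynomial.X 0) ^ e, ?_⟩, 0, ?_⟩⟩
    · have := (MvPolynomial.isHomogeneous_X k (0 : Fin (n + 1))).pow e
      rw [one_mul] at this
      exact this
    · intro h
      have h' := congrArg Subtype.val h
      exact pow_ne_zero e (MvPolynomial.X_ne_zero (0 : Fin (n + 1))) h'
  have hfin : Module.Finite k ↥(MvPolynomial.homogeneousSubmodule (Fin (n + 1)) k e) := by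
    have h1 : Module.Finite k (Coh.HH (CohB1.ProjSpace n k)
        (Twist.twistProjSpace n k (e : ℤ)) 0) :=
      Groth.Agent.S0038.result n k _ (isCoh_O (e : ℤ)) 0
    exact Module.Finite.equiv E
  exact Module.finrank_pos

/-- additivity of `h^0` on a short exact sequence with `H^0`-surjective epimorphism -/
lemma finrank_eq_add {X : Scheme.{u}} [X.Over (Spec (CommRingCat.of k))]
    {T : ShortComplex X.Modules} (hT : T.ShortExact)
    (hsurj : Function.Surjective (Groth.Agent.Lib.Helper18.HH.map T.g 0))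
    (hfin : Module.Finite k (Coh.HH X T.X₂ 0)) :
    Module.finrank k (Coh.HH X T.X₂ 0) =
      Module.finrank k (Coh.HH X T.X₁ 0) + Module.finrank k (Coh.HH X T.X₃ 0) := by
  have hinj := injective_mapOver_f_zero hT k
  have hex := exactOver₂ hT k 0
  have hsurj' : Function.Surjective (mapOver k T.g 0) := hsurj
  have hrn := LinearMap.finrank_range_add_finrank_ker (mapOver k T.g 0)
  have h1 : Module.finrank k (LinearMap.range (mapOver k T.g 0)) =
      Module.finrank k (Coh.HH X T.X₃ 0) := by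
    rw [LinearMap.range_eq_top.2 hsurj', finrank_top]
  have h2 : Module.finrank k (LinearMap.ker (mapOver k T.g 0)) =
      Module.finrank k (Coh.HH X T.X₁ 0) := by
    rw [LinearMap.exact_iff.1 hex]
    exact LinearMap.finrank_range_of_inj hinj
  omega

/-- splitting off `O(-t)` with `t ≤ t₀` strictly decreases `h^0(F(t₀))` -/
lemma finrank_kernel_lt {F : (CohB1.ProjSpace n k).Modules} (hF : Coh.IsCoh F) (t t₀ : ℤ)
    (ht : t ≤ t₀) (σ : Twist.twistProjSpace n k (-t) ⟶ F) (ρ : F ⟶ Twist.twistProjSpace n k (-t))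
    (h : σ ≫ ρ = 𝟙 _) :
    Module.finrank k (Coh.HH (CohB1.ProjSpace n k)
        (CohB1.tensorMod (kernel ρ) (Twist.twistProjSpace n k t₀)) 0) <
      Module.finrank k (Coh.HH (CohB1.ProjSpace n k)
        (CohB1.tensorMod F (Twist.twistProjSpace n k t₀)) 0) := by
  have hepi : Epi ρ := (IsSplitEpi.mk' ⟨σ, h⟩ : IsSplitEpi ρ).epi
  have hT := shortExact_twistSC n k t₀ (shortExact_kernel ρ)
  have hsurj : Function.Surjective (Groth.Agent.Lib.Helper18.HH.map (twistSC n k t₀
      (ShortComplex.mk (kernel.ι ρ) ρ (kernel.condition ρ))).g 0) := by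
    intro y
    refine ⟨Groth.Agent.Lib.Helper18.HH.map
      (tensorMap σ (𝟙 (Twist.twistProjSpace n k t₀))) 0 y, ?_⟩
    have hc : tensorMap σ (𝟙 (Twist.twistProjSpace n k t₀)) ≫
        tensorMap ρ (𝟙 (Twist.twistProjSpace n k t₀)) = 𝟙 _ := by
      rw [← tensorMap_comp, h, Category.comp_id, tensorMap_id]
    refine (map_comp_apply (tensorMap σ (𝟙 (Twist.twistProjSpace n k t₀)))
      (tensorMap ρ (𝟙 (Twist.twistProjSpace n k t₀))) 0 y).symm.trans ?_
    rw [hc, map_id]
    rfl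
  have hfin : Module.Finite k (Coh.HH (CohB1.ProjSpace n k)
      (CohB1.tensorMod F (Twist.twistProjSpace n k t₀)) 0) :=
    Groth.Agent.S0038.result n k _ (isCoh_twist hF t₀) 0
  have hadd := finrank_eq_add hT hsurj hfin
  have h3 : 0 < Module.finrank k (Coh.HH (CohB1.ProjSpace n k) (CohB1.tensorMod
      (Twist.twistProjSpace n k (-t)) (Twist.twistProjSpace n k t₀)) 0) := by
    rw [(isoEquivOver k (TwistPn.tensorIso n k (-t) t₀) 0).finrank_eq]
    exact finrank_H0_twist_pos _ (by omega)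
  have hadd' : Module.finrank k (Coh.HH (CohB1.ProjSpace n k)
        (CohB1.tensorMod F (Twist.twistProjSpace n k t₀)) 0) =
      Module.finrank k (Coh.HH (CohB1.ProjSpace n k)
        (CohB1.tensorMod (kernel ρ) (Twist.twistProjSpace n k t₀)) 0) +
      Module.finrank k (Coh.HH (CohB1.ProjSpace n k) (CohB1.tensorMod
      (Twist.twistProjSpace n k (-t)) (Twist.twistProjSpace n k t₀)) 0) := hadd
  omega

/-- `F` is a finite direct sum of twisting sheaves -/
def Splits (F : (CohB1.ProjSpace n k).Modules) : Prop :=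
  ∃ (r : ℕ) (a : Fin r → ℤ), Nonempty (F ≅ ∐ fun j => Twist.twistProjSpace n k (a j))

lemma splits_of_isZero {F : (CohB1.ProjSpace n k).Modules} (hz : IsZero F) : Splits (k := k) F := by
  refine ⟨0, Fin.elim0, ⟨hz.iso ?_⟩⟩
  rw [IsZero.iff_id_eq_zero]
  exact Sigma.hom_ext _ _ (fun j => j.elim0)

lemma splits_of_biprod {F F' : (CohB1.ProjSpace n k).Modules} (c : ℤ)
    (e : F ≅ F' ⊞ Twist.twistProjSpace n k c) (h : Splits (k := k) F') : Splits (k := k) F := by
  obtain ⟨r, a, ⟨e'⟩⟩ := h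
  let f₁ : Fin r → (CohB1.ProjSpace n k).Modules := fun j => Twist.twistProjSpace n k (a j)
  let f₂ : Fin 1 → (CohB1.ProjSpace n k).Modules := fun _ => Twist.twistProjSpace n k c
  let c₁ : Cofan f₁ := Cofan.mk F' (fun j => Sigma.ι f₁ j ≫ e'.inv)
  have h₁ : IsColimit c₁ :=
    IsColimit.ofIsoColimit (coproductIsCoproduct f₁) (Cofan.ext e'.symm (fun j => rfl))
  let c₂ : Cofan f₂ := Cofan.mk (Twist.twistProjSpace n k c) (fun _ => 𝟙 _)
  have h₂ : IsColimit c₂ :=
    Cofan.IsColimit.mk c₂ (fun s => s.inj 0)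
      (by
        intro s j
        obtain rfl : j = 0 := Subsingleton.elim _ _
        exact Category.id_comp _)
      (by
        intro s m hm
        exact (Category.id_comp m).symm.trans (hm 0))
  let bc : BinaryCofan c₁.pt c₂.pt :=
    (BinaryBiproduct.bicone F' (Twist.twistProjSpace n k c)).toCocone
  have hbc : IsColimit bc := BinaryBiproduct.isColimit F' (Twist.twistProjSpace n k c)
  have hcomb := Cofan.combPairIsColimit h₁ h₂ hbc
  let e₃ : F' ⊞ Twist.twistProjSpace n k c ≅ ∐ (Sum.elim f₁ f₂) :=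
    IsColimit.coconePointUniqueUpToIso hcomb (coproductIsCoproduct (Sum.elim f₁ f₂))
  let a' : Fin (r + 1) → ℤ := fun j => Sum.elim a (fun _ : Fin 1 => c) (finSumFinEquiv.symm j)
  let e₄ : ∐ (Sum.elim f₁ f₂) ≅ ∐ fun j => Twist.twistProjSpace n k (a' j) :=
    Sigma.whiskerEquiv finSumFinEquiv (fun s => eqToIso (by
      simp only [a', Equiv.symm_apply_apply]
      cases s <;> rfl))
  exact ⟨r + 1, a', ⟨e ≪≫ e₃ ≪≫ e₄⟩⟩

/-- cohomology of a twist of `⊕ O(a_j)` -/
lemma subsingleton_HH_sigma_twist' (r : ℕ) (a : Fin r → ℤ) (d : ℤ) (q : ℕ)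
    (h : ∀ j, Subsingleton (Coh.HH (CohB1.ProjSpace n k)
      (Twist.twistProjSpace n k (a j + d)) q)) :
    Subsingleton (Coh.HH (CohB1.ProjSpace n k)
      (CohB1.tensorMod (∐ fun j : Fin r => Twist.twistProjSpace n k (a j))
        (Twist.twistProjSpace n k d)) q) := by
  have := isEquivalence_tensorRight (invIso n k d)
  let e : CohB1.tensorMod (∐ fun j : Fin r => Twist.twistProjSpace n k (a j))
      (Twist.twistProjSpace n k d) ≅ ∐ fun j : Fin r => Twist.twistProjSpace n k (a j + d) :=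
    (PreservesCoproduct.iso (tensorRight (Twist.twistProjSpace n k d))
      (fun j : Fin r => Twist.twistProjSpace n k (a j))) ≪≫
      Sigma.mapIso (fun j => TwistPn.tensorIso n k (a j) d)
  refine subsingleton_of_iso e.symm q ?_
  exact (sigmaEquiv (fun j : Fin r => Twist.twistProjSpace n k (a j + d)) q).toEquiv.subsingleton

/-- the easy direction of Horrocks' criterion -/
theorem hyp_of_splits (hn : 1 ≤ n) {F : (CohB1.ProjSpace n k).Modules} (hF : Coh.IsCoh F)
    (h : Splits (k := k) F) : Hyp F := by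
  obtain ⟨r, a, ⟨e⟩⟩ := h
  have key : ∀ (d : ℤ) (q : ℕ), (∀ j, Subsingleton (Coh.HH (CohB1.ProjSpace n k)
      (Twist.twistProjSpace n k (a j + d)) q)) →
      Subsingleton (Coh.HH (CohB1.ProjSpace n k)
        (CohB1.tensorMod F (Twist.twistProjSpace n k d)) q) := fun d q hj =>
    subsingleton_of_iso (tensorIso e (Iso.refl (Twist.twistProjSpace n k d))).symm q
      (subsingleton_HH_sigma_twist' r a d q hj)
  refine ⟨hF, ⟨-1 - ∑ j, |a j|, fun m hm => key m 0 (fun j => ?_)⟩,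
    fun m i hi hin => key m i (fun j => ?_)⟩
  · have h1 : |a j| ≤ ∑ j, |a j| :=
      Finset.single_le_sum (f := fun j => |a j|) (fun i _ => abs_nonneg (a i)) (Finset.mem_univ j)
    have h2 : a j ≤ |a j| := le_abs_self _
    exact Groth.Agent.S0844.result k n (a j + m) 0 (by omega) (by omega)
  · exact Groth.Agent.S0844.result k n (a j + m) i (by omega) (by omega)

theorem splits_aux (hn : 1 ≤ n) (t₀ : ℤ) : ∀ N : ℕ, ∀ F : (CohB1.ProjSpace n k).Modules,
    Hyp F → Curv2.IsMRegular k n F t₀ →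
    Module.finrank k (Coh.HH (CohB1.ProjSpace n k)
      (CohB1.tensorMod F (Twist.twistProjSpace n k t₀)) 0) ≤ N → Splits (k := k) F := by
  have hLN : IsLocallyNoetherian (CohB1.ProjSpace n k) :=
    Groth.Agent.Lib.Lead.SerreFin.isLocallyNoetherian_projSpace n k
  intro N
  induction N with
  | zero =>
    intro F H hreg hN
    by_cases hz : IsZero F
    · exact splits_of_isZero hz
    · exfalso
      obtain ⟨t, ht, σ, ρ, hσρ⟩ := exists_summand hn H hz t₀ hreg
      have := finrank_kernel_lt H.coh t t₀ ht σ ρ hσρ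
      omega
  | succ N ih =>
    intro F H hreg hN
    by_cases hz : IsZero F
    · exact splits_of_isZero hz
    · obtain ⟨t, ht, σ, ρ, hσρ⟩ := exists_summand hn H hz t₀ hreg
      have hlt := finrank_kernel_lt H.coh t t₀ ht σ ρ hσρ
      obtain ⟨π, hπ, ⟨e⟩⟩ := exists_biprod_of_section σ ρ hσρ
      have hcoh' : Coh.IsCoh (kernel ρ) :=
        Groth.Agent.Lib.helper7.CohKer.isCoh_kernel H.coh (isCoh_O (-t)) ρ
      have H' := hyp_of_retract (kernel.ι ρ) π hπ hcoh' H
      have hreg' := regular_of_retract (kernel.ι ρ) π hπ hreg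
      exact splits_of_biprod (-t) e (ih (kernel ρ) H' hreg' (by omega))

/-- **Horrocks' criterion**, the nontrivial direction -/
theorem splits_of_hyp (hn : 1 ≤ n) {F : (CohB1.ProjSpace n k).Modules} (H : Hyp F) :
    Splits (k := k) F := by
  obtain ⟨d₀, hd₀⟩ := Groth.Agent.Lib.Lead.SerreVan.serre_vanishing n k F H.coh
  have hreg : Curv2.IsMRegular k n F (d₀ + n) :=
    fun i hi hin => hd₀ (d₀ + n - i) (by omega) i hi
  exact splits_aux hn (d₀ + n) _ F H hreg le_rfl

end Pn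

end

end Groth.Agent.Lib.helper20.Horrocks
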