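import Mathlib
import Groth.Prelude.Def_CohB1
import Groth.Agent.S0020
import Groth.Agent.Lib.Helper25.StalkExact

/-!
# A finite type module vanishing at all closed points is zero (helper20)
-/

set_option autoImplicit false

universe u

open CategoryTheory Limits AlgebraicGeometry

namespace Groth.Agent.Lib.Helper20.ClosedPtZero

/-- a finite type module on a quasi-compact scheme whose stalks at closed points vanish is zero -/
theorem isZero_of_closed_points {X : Scheme.{u}} [CompactSpace X] (E : X.Modules)
    (hE : CohB1.IsFT E)
    (h : ∀ x : X, IsClosed ({x} : Set X) → Subsingleton (E.presheaf.stalk x)) : IsZero E := by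
  have hcl : IsClosed (CohB1.support E) := Groth.Agent.S0020.result X E hE
  have hempty : CohB1.support E = ∅ := by
    by_contra hne
    obtain ⟨x, hx, hxc⟩ := hcl.exists_closed_singleton (Set.nonempty_iff_ne_empty.mpr hne)
    exact hx (h x hxc)
  refine Groth.Agent.Lib.Helper25.StalkExact.isZero_of_forall_stalk E (fun x => ?_)
  have hx : x ∉ CohB1.support E := by rw [hempty]; exact Set.notMem_empty x
  have : Subsingleton ((DerSch.stalkFunctor X x).obj E) :=
    (not_not.mp hx : Subsingleton (E.presheaf.stalk x))
  exact ModuleCat.isZero_of_subsingleton _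

/-- the stalks of a zero module vanish -/
theorem subsingleton_stalk_of_isZero {X : Scheme.{u}} {E : X.Modules} (hE : IsZero E) (x : X) :
    Subsingleton (E.presheaf.stalk x) :=
  ModuleCat.subsingleton_of_isZero
    (Functor.map_isZero (DerSch.stalkFunctor X x) hE)

end Groth.Agent.Lib.Helper20.ClosedPtZero
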