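import Mathlib
import Groth.Prelude.Def_Twist2
import Groth.Agent.Lib.Helper21.FLFDualExt
import Groth.Agent.Lib.Helper21.ShHomCoh3
import Groth.Agent.Lib.Helper21.HomAcyc2
import Groth.Agent.Lib.Helper21.SSDegen
import Groth.Agent.Lib.Helper12.InvDual2
import Groth.Agent.Lib.Lead.ModTensor
import Groth.Agent.Lib.Lead.SerreVan
import Groth.Agent.Lib.Lead.SerreFin
import Groth.Agent.Lib.Helper28.TwistPn
import Groth.Agent.Lib.Helper11.SerrePn
import Groth.Agent.Lib.Helper20.TwistEquivPn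
import Groth.Agent.Lib.Helper20.SheafHomExt
import Groth.Agent.Lib.Helper21.InjAcyc3

/-!
# Large twists on `P^n_R`: `Ext^j(F(-m), G)` for `m ≫ 0` versus the sheaf `ℰxt^j(F, G)` (helper20)

For coherent `F`, `G` on `P = P^n_R` (`R` Noetherian):

* `nonempty_extSh_twist_iso`: `ℰxt^q(F ⊗ O(-m), G) ≅ ℰxt^q(F, G) ⊗ O(m)`.
* `exists_ext_twist_addEquiv`: for `m ≫ 0`, `Ext^j(F ⊗ O(-m), G) ≃+ H^0(P, ℰxt^j(F, G) ⊗ O(m))`.
* `isZero_iff_subsingleton_HH_zero_twist`: a coherent `E` is zero iff `H^0(E(m)) = 0` for `m ≫ 0`.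
* `exists_subsingleton_ext_twist_iff`: `(∃ m₀, ∀ m ≥ m₀, Ext^j(F ⊗ O(-m), G) = 0) ↔ ℰxt^j(F, G) = 0`.
-/

set_option autoImplicit false

universe u

open CategoryTheory Limits Opposite TopologicalSpace AlgebraicGeometry Abelian

namespace Groth.Agent.Lib.Helper20.LargeTwist

open Groth.Agent.Lib.helper21 Groth.Agent.Lib.helper28 Groth.Agent.Lib.helper12.InvDual

variable (n : ℕ) (R : Type u) [CommRing R]

/-- `dualMod (O(-m)) ≅ O(m)` -/
lemma nonempty_dualMod_twist_iso (m : ℤ) :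
    Nonempty (dualMod (Twist.twistProjSpace n R (-m)) ≅ Twist.twistProjSpace n R m) := by
  have h1 : ClSub.IsInverseOf (Twist.twistProjSpace n R (-m))
      (dualMod (Twist.twistProjSpace n R (-m))) :=
    isInverseOf_dualMod' (TwistPn.isInvertible n R (-m))
  have h2 : ClSub.IsInverseOf (Twist.twistProjSpace n R (-m)) (Twist.twistProjSpace n R m) :=
    ⟨TwistPn.tensorIso n R (-m) m ≪≫
      Groth.Agent.Lib.Helper20.TwistEquivPn.twistCongr n R (neg_add_cancel m) ≪≫
      (TwistPn.zeroIso n R).symm⟩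
  exact Groth.Agent.Lib.Lead.ModTensor.isInverseOf_unique h1 h2

attribute [local instance] Groth.Agent.Lib.helper21.ShHomCoh.hasInjRes

lemma hasSheafHom' {X : Scheme.{u}} (F : X.Modules) : ModSite.HasSheafHom (O := X.sheaf) F :=
  Groth.Agent.Lib.helper21.ExtShDelta.hasSheafHom X.sheaf F

attribute [local instance] hasSheafHom'

/-- `ℰxt^q(F ⊗ O(-m), G) ≅ ℰxt^q(F, G) ⊗ O(m)` -/
lemma nonempty_extSh_twist_iso (F G : (CohB1.ProjSpace n R).Modules) (m : ℤ) (q : ℕ) :
    Nonempty ((ModSite.extSh (O := (CohB1.ProjSpace n R).sheaf)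
        (CohB1.tensorMod F (Twist.twistProjSpace n R (-m))) q).obj G ≅
      CohB1.tensorMod ((ModSite.extSh (O := (CohB1.ProjSpace n R).sheaf) F q).obj G)
        (Twist.twistProjSpace n R m)) := by
  obtain ⟨e1⟩ := FLFDual.nonempty_extSh_tensor_iso F G (Twist.twistProjSpace n R (-m))
    (Groth.Agent.Lib.helper16.FLF.isFinLocFree_of_isInvertible (TwistPn.isInvertible n R (-m))) q
  obtain ⟨e2⟩ := nonempty_dualMod_twist_iso n R m
  exact ⟨e1 ≪≫ Groth.Agent.Lib.Lead.ModTensor.tensorIso (Iso.refl _) e2⟩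

/-- cohomology is invariant under isomorphism (additive version) -/
noncomputable def hhAddEquiv {X : Scheme.{u}} {M N : X.Modules} (e : M ≅ N) (q : ℕ) :
    Coh.HH X M q ≃+ Coh.HH X N q :=
  (Groth.Agent.Lib.Helper20.TwistEquivPn.hhEquiv e q).toAddEquiv

/-- the cohomology of a zero module vanishes -/
lemma subsingleton_HH_of_isZero {X : Scheme.{u}} {M : X.Modules} (hM : IsZero M) (q : ℕ) :
    Subsingleton (Coh.HH X M q) := by
  refine subsingleton_of_forall_eq 0 (fun x => ?_)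
  have h1 : Groth.Agent.Lib.Helper18.HH.map (𝟙 M) q x = x := by
    rw [Groth.Agent.Lib.Helper18.HH.map_id]; rfl
  rw [← h1, hM.eq_of_src (𝟙 M) 0, Groth.Agent.Lib.Helper18.HH.map_zero]
  rfl

/-- degenerate local-to-global spectral sequence: if `H^a(X, ℰxt^b(M, N)) = 0` for `a > 0`, `b ≤ j`
then `Ext^j(M, N) ≅ H^0(X, ℰxt^j(M, N))` (as abelian groups) -/
theorem nonempty_ext_addEquiv_HH_zero {X : Scheme.{u}} [HasExt.{u} X.Modules] (M N : X.Modules)
    (j : ℕ)
    (hvan : ∀ a b : ℕ, 0 < a → b ≤ j →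
      Subsingleton (Coh.HH X ((ModSite.extSh (O := X.sheaf) M b).obj N) a)) :
    Nonempty (Abelian.Ext.{u} M N j ≃+
      Coh.HH X ((ModSite.extSh (O := X.sheaf) M j).obj N) 0) := by
  have hX : HasExt.{u} (ModSite.Mod X.sheaf) := ‹HasExt.{u} X.Modules›
  obtain ⟨E, ab, hfin, -, hE2⟩ := HomAcyc.local_to_global_ext_ss (O := X.sheaf) M N
  have hzero : ∀ a b : ℤ, (¬ (0 ≤ a ∧ 0 ≤ b) ∨ (0 < a ∧ b ≤ j)) →
      IsZero ((E.page 2 le_rfl).X (a, b)) := by
    intro a b h
    obtain ⟨i⟩ := hE2 a b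
    refine IsZero.of_iso ?_ i
    split_ifs with hab
    · rcases h with h | ⟨h1, h2⟩
      · exact absurd hab h
      · have := hvan a.toNat b.toNat (by omega) (by omega)
        exact AddCommGrpCat.isZero_of_subsingleton _
    · exact AddCommGrpCat.isZero_of_subsingleton _
  obtain ⟨i1⟩ := SSDegen.nonempty_abutment_iso E ab (j : ℤ) 0 (hfin _)
    (fun p' hp' => hzero _ _ (by
      by_cases h : 0 ≤ p'
      · exact Or.inr ⟨by omega, by omega⟩
      · exact Or.inl (fun h' => h h'.1)))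
    (fun r hr => hzero _ _ (Or.inl (fun h' => by
      have := h'.1
      simp at this
      omega)))
    (fun r hr => hzero _ _ (Or.inr ⟨by simp; omega, by simp; omega⟩))
  obtain ⟨i2⟩ := hE2 0 ((j : ℤ) - 0)
  rw [if_pos (Int.natCast_nonneg j), Int.toNat_natCast] at i1
  rw [if_pos ⟨le_rfl, by omega⟩] at i2
  have e0 : ((j : ℤ) - 0).toNat = j := by simp
  rw [e0, Int.toNat_zero] at i2
  exact ⟨(i1 ≪≫ i2).addCommGroupIsoToAddEquiv⟩

section Noeth

variable [IsNoetherianRing R]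

lemma isNoetherian_projSpace : IsNoetherian (CohB1.ProjSpace n R) := by
  have : IsLocallyNoetherian (CohB1.ProjSpace n R) :=
    Groth.Agent.Lib.Lead.SerreFin.isLocallyNoetherian_projSpace n R
  exact {}

variable [HasExt.{u} (CohB1.ProjSpace n R).Modules]

/-- for `m ≫ 0`, `Ext^j(F ⊗ O(-m), G) ≃+ H^0(P, ℰxt^j(F, G) ⊗ O(m))` -/
theorem exists_ext_twist_addEquiv (F G : (CohB1.ProjSpace n R).Modules) (hF : Coh.IsCoh F)
    (hG : Coh.IsCoh G) (j : ℕ) :
    ∃ m₀ : ℤ, ∀ m : ℤ, m₀ ≤ m →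
      Nonempty (Abelian.Ext.{u} (CohB1.tensorMod F (Twist.twistProjSpace n R (-m))) G j ≃+
        Coh.HH (CohB1.ProjSpace n R)
          (CohB1.tensorMod ((ModSite.extSh (O := (CohB1.ProjSpace n R).sheaf) F j).obj G)
            (Twist.twistProjSpace n R m)) 0) := by
  have := isNoetherian_projSpace n R
  have hC : ∀ b : ℕ, Coh.IsCoh ((ModSite.extSh (O := (CohB1.ProjSpace n R).sheaf) F b).obj G) :=
    fun b => ShHomCoh.isCoh_T b _ F G hF hG
  have hex := fun b => Groth.Agent.Lib.Lead.SerreVan.serre_vanishing n R _ (hC b)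
  choose d hd using hex
  obtain ⟨m₀, hm₀⟩ := ((Finset.range (j + 1)).image d).exists_le
  refine ⟨m₀, fun m hm => ?_⟩
  obtain ⟨e⟩ := nonempty_ext_addEquiv_HH_zero
    (CohB1.tensorMod F (Twist.twistProjSpace n R (-m))) G j (fun a b ha hb => by
      obtain ⟨i⟩ := nonempty_extSh_twist_iso n R F G m b
      have h1 := hd b m ((hm₀ _ (Finset.mem_image_of_mem d
        (Finset.mem_range.mpr (by omega)))).trans hm) a ha
      exact Groth.Agent.Lib.Helper20.TwistEquivPn.subsingleton_of_iso i.symm a h1)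
  obtain ⟨i⟩ := nonempty_extSh_twist_iso n R F G m j
  exact ⟨e.trans (hhAddEquiv i 0)⟩

omit [HasExt.{u} (CohB1.ProjSpace n R).Modules] [IsNoetherianRing R] in
/-- morphisms `O(-N) ⟶ E` vanish if `H^0(E(N)) = 0` -/
lemma hom_twist_eq_zero (E : (CohB1.ProjSpace n R).Modules) (N : ℤ)
    (h : Subsingleton (Coh.HH (CohB1.ProjSpace n R)
      (CohB1.tensorMod E (Twist.twistProjSpace n R N)) 0))
    (φ : Twist.twistProjSpace n R (-N) ⟶ E) : φ = 0 := by
  have : EnoughInjectives (CohB1.ProjSpace n R).Modules :=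
    Groth.Agent.Lib.Helper21.ModGroth.enoughInjectives_mod (CohB1.ProjSpace n R).ringCatSheaf
  have : HasExt.{u} (CohB1.ProjSpace n R).Modules := hasExt_of_enoughInjectives _
  have hE : (Groth.Agent.Lib.Helper20.TensorEquiv.tensorRight
      (Twist.twistProjSpace n R N)).IsEquivalence :=
    Groth.Agent.Lib.Helper20.TensorEquiv.isEquivalence_tensorRight
      (Groth.Agent.Lib.Helper20.TwistEquivPn.invIso n R N)
  let e1 : (Groth.Agent.Lib.Helper20.TensorEquiv.tensorRight (Twist.twistProjSpace n R N)).obj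
      (Twist.twistProjSpace n R (-N)) ≅ Coh.structureModule (CohB1.ProjSpace n R) :=
    TwistPn.tensorIso n R (-N) N ≪≫
      Groth.Agent.Lib.Helper20.TwistEquivPn.twistCongr n R (neg_add_cancel N) ≪≫
      (TwistPn.zeroIso n R).symm
  have h0 : Subsingleton (Abelian.Ext.{u} (Coh.structureModule (CohB1.ProjSpace n R))
      (CohB1.tensorMod E (Twist.twistProjSpace n R N)) 0) := by
    have hX : HasExt.{u} (SheafOfModules.{u} (CohB1.ProjSpace n R).ringCatSheaf) :=
      inferInstanceAs (HasExt.{u} (CohB1.ProjSpace n R).Modules)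
    obtain ⟨e⟩ := Groth.Agent.Lib.helper21.InjAcyc.ext_unit_equiv_H
      (CohB1.ProjSpace n R).ringCatSheaf (CohB1.tensorMod E (Twist.twistProjSpace n R N)) 0
    exact (EquivLike.injective e).subsingleton
  have h1 : Subsingleton (Coh.structureModule (CohB1.ProjSpace n R) ⟶
      CohB1.tensorMod E (Twist.twistProjSpace n R N)) :=
    Ext.homEquiv₀.symm.injective.subsingleton
  have h2 : e1.inv ≫ (Groth.Agent.Lib.Helper20.TensorEquiv.tensorRight
      (Twist.twistProjSpace n R N)).map φ = 0 := h1.elim _ _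
  have h3 : (Groth.Agent.Lib.Helper20.TensorEquiv.tensorRight
      (Twist.twistProjSpace n R N)).map φ = 0 := by
    rw [← cancel_epi e1.inv, h2, comp_zero]
  exact (Groth.Agent.Lib.Helper20.TensorEquiv.tensorRight
    (Twist.twistProjSpace n R N)).map_injective (h3.trans (Functor.map_zero _ _ _).symm)

omit [HasExt.{u} (CohB1.ProjSpace n R).Modules] [IsNoetherianRing R] in
/-- a coherent module `E` on `P^n_R` with `H^0(E(m)) = 0` for all `m ≫ 0` is zero -/
theorem isZero_of_subsingleton_HH_zero_twist (E : (CohB1.ProjSpace n R).Modules)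
    (hE : Coh.IsCoh E)
    (h : ∃ m₀ : ℤ, ∀ m : ℤ, m₀ ≤ m → Subsingleton (Coh.HH (CohB1.ProjSpace n R)
      (CohB1.tensorMod E (Twist.twistProjSpace n R m)) 0)) : IsZero E := by
  obtain ⟨m₀, hm₀⟩ := h
  obtain ⟨N₀, hN⟩ := Groth.Agent.Lib.helper11.SerrePn.exists_epi_twist_le n R E hE
  obtain ⟨m, π, hπ⟩ := hN (max N₀ m₀.toNat) (le_max_left _ _)
  have hle : m₀ ≤ ((max N₀ m₀.toNat : ℕ) : ℤ) := by
    have := le_max_right N₀ m₀.toNat
    omega
  have hπ0 : π = 0 := by
    refine Sigma.hom_ext _ _ (fun i => ?_)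
    rw [comp_zero]
    exact hom_twist_eq_zero n R E _ (hm₀ _ hle) _
  rw [IsZero.iff_id_eq_zero, ← cancel_epi π, hπ0, zero_comp, zero_comp]

/-- **large twists detect the vanishing of `ℰxt`**: for coherent `F`, `G` on `P^n_R`,
`Ext^j(F ⊗ O(-m), G) = 0` for all `m ≫ 0` iff `ℰxt^j(F, G) = 0` -/
theorem exists_subsingleton_ext_twist_iff (F G : (CohB1.ProjSpace n R).Modules)
    (hF : Coh.IsCoh F) (hG : Coh.IsCoh G) (j : ℕ) :
    (∃ m₀ : ℤ, ∀ m : ℤ, m₀ ≤ m →
      Subsingleton (Abelian.Ext.{u} (CohB1.tensorMod F (Twist.twistProjSpace n R (-m))) G j)) ↔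
    IsZero ((ModSite.extSh (O := (CohB1.ProjSpace n R).sheaf) F j).obj G) := by
  have := isNoetherian_projSpace n R
  obtain ⟨m₁, hm₁⟩ := exists_ext_twist_addEquiv n R F G hF hG j
  constructor
  · rintro ⟨m₀, hm₀⟩
    refine isZero_of_subsingleton_HH_zero_twist n R _ (ShHomCoh.isCoh_T j _ F G hF hG)
      ⟨max m₀ m₁, fun m hm => ?_⟩
    obtain ⟨e⟩ := hm₁ m ((le_max_right _ _).trans hm)
    have := hm₀ m ((le_max_left _ _).trans hm)
    exact e.symm.toEquiv.subsingleton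
  · intro hz
    refine ⟨m₁, fun m hm => ?_⟩
    obtain ⟨e⟩ := hm₁ m hm
    have hpz := Groth.Agent.Lib.Helper20.TensorEquiv.preservesZeroMorphisms_tensorRight
      (Groth.Agent.Lib.Helper20.TwistEquivPn.invIso n R m)
    have hz' : IsZero (CohB1.tensorMod
        ((ModSite.extSh (O := (CohB1.ProjSpace n R).sheaf) F j).obj G)
        (Twist.twistProjSpace n R m)) :=
      (Groth.Agent.Lib.Helper20.TensorEquiv.tensorRight (Twist.twistProjSpace n R m)).map_isZero hz
    have := subsingleton_HH_of_isZero hz' 0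
    exact e.toEquiv.subsingleton

end Noeth

end Groth.Agent.Lib.Helper20.LargeTwist
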