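import Mathlib
import Groth.Agent.Lib.Helper20.LargeTwist1
import Groth.Agent.Lib.Helper20.ExtDual

/-!
# Vanishing of `H^i(P^r_k, F(-m))` for `m ≫ 0` versus the sheaf `ℰxt^{r-i}(F, O)` (helper20)

`exists_subsingleton_HH_twist_iff`: for coherent `F` on `P = P^r_k` and `i + j = r`,
`H^i(P, F ⊗ O(-m)) = 0` for all `m ≫ 0` iff `ℰxt^j(F, O_P) = 0`.
-/

set_option autoImplicit false

universe u

open CategoryTheory Limits Opposite TopologicalSpace AlgebraicGeometry Abelian

namespace Groth.Agent.Lib.Helper20.LargeTwist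

open Groth.Agent.Lib.helper21 Groth.Agent.Lib.helper28 Groth.Agent.Lib.Helper20.TensorEquiv
  Groth.Agent.Lib.Helper20.TwistEquivPn Groth.Agent.Lib.Helper20.ExtDim

attribute [local instance] Groth.Agent.Lib.helper21.ShHomCoh.hasInjRes hasSheafHom'

lemma hasExt_modules (X : Scheme.{u}) : HasExt.{u} X.Modules := by
  have : EnoughInjectives X.Modules :=
    Groth.Agent.Lib.Helper21.ModGroth.enoughInjectives_mod X.ringCatSheaf
  exact hasExt_of_enoughInjectives _

variable (k : Type u) [Field k] (r : ℕ) [HasExt.{u} (CohB1.ProjSpace r k).Modules]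

/-- Serre duality on `P^r_k`, vanishing form -/
lemma subsingleton_HH_iff_ext (M : (CohB1.ProjSpace r k).Modules) (hM : Coh.IsCoh M) (i j : ℕ)
    (hij : i + j = r) :
    Subsingleton (Coh.HH (CohB1.ProjSpace r k) M i) ↔
      Subsingleton (Ext.{u} M (Twist.twistProjSpace r k (-((r : ℤ) + 1))) j) := by
  obtain ⟨hfin, hrank⟩ := Groth.Agent.Lib.Helper20.ExtDual.pp_all k r j M hM
  have hfin' : Module.Finite k (Coh.HH (CohB1.ProjSpace r k) M i) :=
    Groth.Agent.S0038.result r k M hM i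
  rw [Groth.Agent.Lib.Helper20.ExtDual.hdim_of_le k r M (by omega : j ≤ r),
    show r - j = i by omega] at hrank
  rw [← Module.finrank_zero_iff (R := k), ← Module.finrank_zero_iff (R := k), hrank]

/-- `Ext^j(M ⊗ O(a), ω) = 0 ↔ Ext^j(M ⊗ O(a + (r+1)), O) = 0` -/
lemma subsingleton_ext_omega_iff (M : (CohB1.ProjSpace r k).Modules) (a : ℤ) (j : ℕ) :
    Subsingleton (Ext.{u} (CohB1.tensorMod M (Twist.twistProjSpace r k a))
      (Twist.twistProjSpace r k (-((r : ℤ) + 1))) j) ↔
    Subsingleton (Ext.{u} (CohB1.tensorMod M (Twist.twistProjSpace r k (a + ((r : ℤ) + 1))))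
      (Coh.structureModule (CohB1.ProjSpace r k)) j) := by
  have : EnoughInjectives (CohB1.ProjSpace r k).Modules :=
    Groth.Agent.Lib.Helper21.ModGroth.enoughInjectives_mod (CohB1.ProjSpace r k).ringCatSheaf
  constructor
  · intro h
    have hE : (tensorRight (Twist.twistProjSpace r k (-((r : ℤ) + 1)))).IsEquivalence :=
      isEquivalence_tensorRight (invIso r k (-((r : ℤ) + 1)))
    let e1 : (tensorRight (Twist.twistProjSpace r k (-((r : ℤ) + 1)))).obj
        (CohB1.tensorMod M (Twist.twistProjSpace r k (a + ((r : ℤ) + 1)))) ≅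
        CohB1.tensorMod M (Twist.twistProjSpace r k a) :=
      twistTwistIso r k M _ _ ≪≫ Groth.Agent.Lib.Lead.ModTensor.tensorIso (Iso.refl M)
        (twistCongr r k (by ring))
    let e2 : (tensorRight (Twist.twistProjSpace r k (-((r : ℤ) + 1)))).obj
        (Coh.structureModule (CohB1.ProjSpace r k)) ≅
        Twist.twistProjSpace r k (-((r : ℤ) + 1)) :=
      Groth.Agent.Lib.Lead.ModTensor.leftUnitor _
    exact subsingleton_ext_of_equivalence _ e1 e2 j h
  · intro h
    have hE : (tensorRight (Twist.twistProjSpace r k ((r : ℤ) + 1))).IsEquivalence :=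
      isEquivalence_tensorRight (invIso r k ((r : ℤ) + 1))
    let e1 : (tensorRight (Twist.twistProjSpace r k ((r : ℤ) + 1))).obj
        (CohB1.tensorMod M (Twist.twistProjSpace r k a)) ≅
        CohB1.tensorMod M (Twist.twistProjSpace r k (a + ((r : ℤ) + 1))) :=
      twistTwistIso r k M _ _
    let e2 : (tensorRight (Twist.twistProjSpace r k ((r : ℤ) + 1))).obj
        (Twist.twistProjSpace r k (-((r : ℤ) + 1))) ≅
        Coh.structureModule (CohB1.ProjSpace r k) :=
      TwistPn.tensorIso r k (-((r : ℤ) + 1)) ((r : ℤ) + 1) ≪≫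
        twistCongr r k (neg_add_cancel ((r : ℤ) + 1)) ≪≫ (TwistPn.zeroIso r k).symm
    exact subsingleton_ext_of_equivalence _ e1 e2 j h

/-- **vanishing of `H^i(F(-m))` for `m ≫ 0` is the vanishing of `ℰxt^{r-i}(F, O)`** on `P^r_k` -/
theorem exists_subsingleton_HH_twist_iff (F : (CohB1.ProjSpace r k).Modules) (hF : Coh.IsCoh F)
    (i j : ℕ) (hij : i + j = r) :
    (∃ m₀ : ℤ, ∀ m : ℤ, m₀ ≤ m → Subsingleton (Coh.HH (CohB1.ProjSpace r k)
      (CohB1.tensorMod F (Twist.twistProjSpace r k (-m))) i)) ↔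
    IsZero ((ModSite.extSh (O := (CohB1.ProjSpace r k).sheaf) F j).obj
      (Coh.structureModule (CohB1.ProjSpace r k))) := by
  have hO : Coh.IsCoh (Coh.structureModule (CohB1.ProjSpace r k)) :=
    Groth.Agent.Lib.Lead.SerreFin.isCoh_of_isFinLocFree
      (Groth.Agent.Lib.helper16.FLF.isFinLocFree_of_iso (TwistPn.zeroIso r k).symm
        (Groth.Agent.Lib.helper16.FLF.isFinLocFree_of_isInvertible
          (TwistPn.isInvertible r k 0)))
  rw [← exists_subsingleton_ext_twist_iff r k F _ hF hO j]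
  have key : ∀ m : ℤ, Subsingleton (Coh.HH (CohB1.ProjSpace r k)
      (CohB1.tensorMod F (Twist.twistProjSpace r k (-m))) i) ↔
      Subsingleton (Ext.{u} (CohB1.tensorMod F
        (Twist.twistProjSpace r k (-(m - ((r : ℤ) + 1)))))
        (Coh.structureModule (CohB1.ProjSpace r k)) j) := by
    intro m
    rw [subsingleton_HH_iff_ext k r _ (Groth.Agent.Lib.Lead.SerreVan.isCoh_twist r k hF (-m)) i j hij,
      subsingleton_ext_omega_iff k r F (-m) j,
      show -(m - ((r : ℤ) + 1)) = -m + ((r : ℤ) + 1) by ring]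
  constructor
  · rintro ⟨m₀, h⟩
    refine ⟨m₀ - ((r : ℤ) + 1), fun m hm => ?_⟩
    have := (key (m + ((r : ℤ) + 1))).mp (h _ (by omega))
    rwa [show m + ((r : ℤ) + 1) - ((r : ℤ) + 1) = m by ring] at this
  · rintro ⟨m₀, h⟩
    exact ⟨m₀ + ((r : ℤ) + 1), fun m hm => (key m).mpr (h _ (by omega))⟩

end Groth.Agent.Lib.Helper20.LargeTwist
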