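import Mathlib
import Groth.Prelude.Def_CohB1
import Groth.Agent.Lib.Helper18.ProjChart
import Groth.Agent.Lib.Helper28.TwistPn
import Groth.Agent.Lib.Helper26.PolyMax
import Groth.Agent.Lib.Helper3.DimIneqSch

/-!
# Local rings of `P^n_k` (helper20)

* `sectionsEquiv n k i : Γ(P^n_k, D₊(X i)) ≃+* MvPolynomial (Fin n) k`.
* `isRegularLocalRing_stalk`: every local ring of `P^n_k` (`k` a field) is a regular local ring.
* `ringKrullDim_stalk_of_isClosed`: the local ring at a closed point has Krull dimension `n`.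
-/

set_option autoImplicit false

universe u

open CategoryTheory AlgebraicGeometry MvPolynomial

namespace Groth.Agent.Lib.Helper20.PnLocalRing

variable (n : ℕ) (k : Type u) [Field k]

/-- the standard chart `D₊(X i)` -/
noncomputable abbrev Dp (i : Fin (n + 1)) : (CohB1.ProjSpace n k).Opens :=
  Proj.basicOpen (CohB1.polyGrading n k) (X i : MvPolynomial (Fin (n + 1)) k)

lemma isAffineOpen_Dp (i : Fin (n + 1)) : IsAffineOpen (Dp n k i) :=
  Proj.isAffineOpen_basicOpen (CohB1.polyGrading n k) _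
    (Groth.Agent.Lib.helper28.TwistPn.X_mem n k i) one_pos

lemma exists_mem_Dp (x : CohB1.ProjSpace n k) : ∃ i : Fin (n + 1), x ∈ Dp n k i := by
  obtain ⟨i, hi⟩ := Groth.Agent.Lib.helper28.TwistPn.exists_X_notMem n k x
  exact ⟨i, (ProjectiveSpectrum.mem_basicOpen (CohB1.polyGrading n k) _ x).mpr hi⟩

/-- `Γ(P^n_k, D₊(X i)) ≃+* k[y_1, …, y_n]` -/
noncomputable def sectionsEquiv (i : Fin (n + 1)) :
    Γ(CohB1.ProjSpace n k, Dp n k i) ≃+* MvPolynomial (Fin n) k :=
  ((Proj.basicOpenIsoAway (CohB1.polyGrading n k) (X i : MvPolynomial (Fin (n + 1)) k)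
      (Groth.Agent.Lib.helper28.TwistPn.X_mem n k i) one_pos).symm.commRingCatIsoToRingEquiv.trans
    (Groth.Agent.Lib.Helper18.ProjChart.chartEquiv n k i).symm).trans
    (MvPolynomial.renameEquiv k (finSuccAboveEquiv i).symm).toRingEquiv

instance : IsRegularRing k := inferInstance

/-- every local ring of `P^n_k` is regular -/
theorem isRegularLocalRing_stalk (x : CohB1.ProjSpace n k) :
    IsRegularLocalRing ((CohB1.ProjSpace n k).presheaf.stalk x) := by
  obtain ⟨i, hi⟩ := exists_mem_Dp n k x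
  have hU := isAffineOpen_Dp n k i
  let : Algebra Γ(CohB1.ProjSpace n k, Dp n k i) ((CohB1.ProjSpace n k).presheaf.stalk x) :=
    TopCat.Presheaf.algebra_section_stalk (CohB1.ProjSpace n k).presheaf ⟨x, hi⟩
  have := hU.isLocalization_stalk ⟨x, hi⟩
  have : IsRegularRing Γ(CohB1.ProjSpace n k, Dp n k i) :=
    IsRegularRing.of_ringEquiv (sectionsEquiv n k i).symm
  exact IsRegularLocalRing.of_ringEquiv
    (IsLocalization.algEquiv (hU.primeIdealOf ⟨x, hi⟩).asIdeal.primeCompl
      (Localization.AtPrime (hU.primeIdealOf ⟨x, hi⟩).asIdeal)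
      ((CohB1.ProjSpace n k).presheaf.stalk x)).toRingEquiv

/-- the local ring of `P^n_k` at a closed point has dimension `n` -/
theorem ringKrullDim_stalk_of_isClosed (x : CohB1.ProjSpace n k)
    (hx : IsClosed ({x} : Set (CohB1.ProjSpace n k))) :
    ringKrullDim ((CohB1.ProjSpace n k).presheaf.stalk x) = n := by
  obtain ⟨i, hi⟩ := exists_mem_Dp n k x
  have hU := isAffineOpen_Dp n k i
  rw [Groth.Agent.Lib.helper3.DimIneq.ringKrullDim_stalk_eq_height hU x hi]
  have hmax := hU.primeIdealOf_isMaximal_of_isClosed ⟨x, hi⟩ hx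
  have h1 : ((hU.primeIdealOf ⟨x, hi⟩).asIdeal.map (sectionsEquiv n k i)).IsMaximal :=
    Ideal.map_isMaximal_of_equiv (sectionsEquiv n k i)
  have h2 := Groth.Agent.Lib.helper26.PolyMax.height_eq_of_isMaximal k n _ h1
  rw [RingEquiv.height_map] at h2
  rw [h2]
  rfl

end Groth.Agent.Lib.Helper20.PnLocalRing
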