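import Mathlib
import Groth.Prelude.Def_Wider
import Groth.Agent.Lib.Helper20.LargeTwist2
import Groth.Agent.Lib.Helper20.PnLocalRing
import Groth.Agent.Lib.Helper20.ClosedPtZero
import Groth.Agent.Lib.Helper16.CohStalk
import Groth.Agent.Lib.Helper16.FLF5
import Groth.Agent.Lib.Helper19.RegDual
import Groth.Agent.Lib.Helper2.DepthLC
import Groth.Agent.S0022

/-!
# Vanishing of `H^i(P^r_k, F(-m))`, `m ≫ 0`, in terms of the stalks of `F` (helper20)

Everything is conditional on the pointwise stalk criterion `StalkCrit` for `ℰxt^j(F, O)`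
(the stalk of `ℰxt^j(F, G)` at `x` vanishes iff `Ext^j_{O_x}(F_x, G_x)` does), which is supplied
separately.
-/

set_option autoImplicit false

universe u

open CategoryTheory Limits Opposite TopologicalSpace AlgebraicGeometry Abelian

namespace Groth.Agent.Lib.Helper20.LargeTwist

attribute [local instance] Groth.Agent.Lib.helper21.ShHomCoh.hasInjRes hasSheafHom'

/-- the pointwise stalk criterion for `ℰxt^j(F, G)` -/
def StalkCrit (X : Scheme.{u}) (F G : X.Modules) (j : ℕ) : Prop :=
  ∀ x : X, Subsingleton ((Scheme.Modules.presheaf (X := X)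
      ((ModSite.extSh (O := X.sheaf) F j).obj G)).stalk x) ↔
    Subsingleton (Abelian.Ext.{u} (ModuleCat.of (X.presheaf.stalk x) (F.presheaf.stalk x))
      (ModuleCat.of (X.presheaf.stalk x) (G.presheaf.stalk x)) j)

/-- the stalk of an invertible module is free of rank one -/
lemma nonempty_stalk_linearEquiv {X : Scheme.{u}} (L : X.Modules) (hL : PicF.IsInvertible L)
    (x : X) : Nonempty (L.presheaf.stalk x ≃ₗ[X.presheaf.stalk x] X.presheaf.stalk x) := by
  have h1 := (Groth.Agent.Lib.helper16.FLF.isInvertible_iff_isFinLocFreeOfRank_one L).mp hL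
  obtain ⟨hfree, hfin⟩ := Groth.Agent.Lib.helper16.FLF.free_stalk_of_isFinLocFree L
    (Groth.Agent.Lib.helper16.FLF.isFinLocFree_of_isFinLocFreeOfRank h1) x
  have hrk := Groth.Agent.Lib.helper16.FLF.finrank_stalk_of_isFinLocFreeOfRank L h1 x
  obtain ⟨e⟩ := Module.nonempty_linearEquiv_of_finrank_eq_one hrk
  exact ⟨e.symm⟩

/-- `Ext^j(M, L_x) = 0 ↔ Ext^j(M, O_x) = 0` for `L` invertible -/
lemma subsingleton_ext_stalk_iff {X : Scheme.{u}} (L : X.Modules) (hL : PicF.IsInvertible L)
    (x : X) (M : ModuleCat.{u} (X.presheaf.stalk x)) (j : ℕ) :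
    Subsingleton (Abelian.Ext.{u} M (ModuleCat.of (X.presheaf.stalk x) (L.presheaf.stalk x)) j) ↔
      Subsingleton (Abelian.Ext.{u} M
        (ModuleCat.of (X.presheaf.stalk x) (X.presheaf.stalk x)) j) := by
  obtain ⟨e⟩ := nonempty_stalk_linearEquiv L hL x
  exact ⟨Groth.Agent.Lib.Helper20.ExtDim.subsingleton_ext_of_iso (Iso.refl M) e.toModuleIso j,
    Groth.Agent.Lib.Helper20.ExtDim.subsingleton_ext_of_iso (Iso.refl M) e.toModuleIso.symm j⟩

lemma isInvertible_structureModule (X : Scheme.{u}) :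
    PicF.IsInvertible (Coh.structureModule X) :=
  (Groth.Agent.Lib.helper16.FLF.isInvertible_iff_isFinLocFreeOfRank_one _).mpr
    (Groth.Agent.Lib.helper16.FLF.isFinLocFreeOfRank_structureModule X)

variable (k : Type u) [Field k] (r : ℕ)

/-- `ℰxt^j(F, O)` on `P^r_k` is coherent -/
lemma isCoh_extSh_structureModule (F : (CohB1.ProjSpace r k).Modules) (hF : Coh.IsCoh F) (j : ℕ) :
    Coh.IsCoh ((ModSite.extSh (O := (CohB1.ProjSpace r k).sheaf) F j).obj
      (Coh.structureModule (CohB1.ProjSpace r k))) := by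
  have := isNoetherian_projSpace r k
  have hO : Coh.IsCoh (Coh.structureModule (CohB1.ProjSpace r k)) :=
    Groth.Agent.Lib.Lead.SerreFin.isCoh_of_isFinLocFree
      (Groth.Agent.Lib.helper16.FLF.isFinLocFree_structureModule _)
  exact Groth.Agent.Lib.helper21.ShHomCoh.isCoh_T j _ F _ hF hO

/-- **all points**: `H^i(F(-m)) = 0` for `m ≫ 0` iff `Ext^j_{O_x}(F_x, O_x) = 0` for all `x` -/
theorem exists_subsingleton_HH_twist_iff_forall_ext (F : (CohB1.ProjSpace r k).Modules)
    (hF : Coh.IsCoh F) (i j : ℕ) (hij : i + j = r)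
    (hcrit : StalkCrit (CohB1.ProjSpace r k) F (Coh.structureModule (CohB1.ProjSpace r k)) j) :
    (∃ m₀ : ℤ, ∀ m : ℤ, m₀ ≤ m → Subsingleton (Coh.HH (CohB1.ProjSpace r k)
      (CohB1.tensorMod F (Twist.twistProjSpace r k (-m))) i)) ↔
    ∀ x : CohB1.ProjSpace r k, Subsingleton (Abelian.Ext.{u}
      (ModuleCat.of ((CohB1.ProjSpace r k).presheaf.stalk x) (F.presheaf.stalk x))
      (ModuleCat.of ((CohB1.ProjSpace r k).presheaf.stalk x)
        ((CohB1.ProjSpace r k).presheaf.stalk x)) j) := by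
  have := hasExt_modules (CohB1.ProjSpace r k)
  rw [exists_subsingleton_HH_twist_iff k r F hF i j hij]
  constructor
  · intro hz x
    exact (subsingleton_ext_stalk_iff _ (isInvertible_structureModule _) x _ j).mp
      ((hcrit x).mp (Groth.Agent.Lib.Helper20.ClosedPtZero.subsingleton_stalk_of_isZero hz x))
  · intro h
    refine Groth.Agent.Lib.Helper25.StalkExact.isZero_of_forall_stalk _ (fun x => ?_)
    have h1 := (hcrit x).mpr
      ((subsingleton_ext_stalk_iff _ (isInvertible_structureModule _) x _ j).mpr (h x))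
    exact @ModuleCat.isZero_of_subsingleton _ _ _ h1

/-- **closed points**: `H^i(F(-m)) = 0` for `m ≫ 0` iff `Ext^j_{O_x}(F_x, O_x) = 0` for all
closed `x` -/
theorem exists_subsingleton_HH_twist_iff_forall_closed_ext (F : (CohB1.ProjSpace r k).Modules)
    (hF : Coh.IsCoh F) (i j : ℕ) (hij : i + j = r)
    (hcrit : StalkCrit (CohB1.ProjSpace r k) F (Coh.structureModule (CohB1.ProjSpace r k)) j) :
    (∃ m₀ : ℤ, ∀ m : ℤ, m₀ ≤ m → Subsingleton (Coh.HH (CohB1.ProjSpace r k)
      (CohB1.tensorMod F (Twist.twistProjSpace r k (-m))) i)) ↔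
    ∀ x : CohB1.ProjSpace r k, IsClosed ({x} : Set (CohB1.ProjSpace r k)) →
      Subsingleton (Abelian.Ext.{u}
        (ModuleCat.of ((CohB1.ProjSpace r k).presheaf.stalk x) (F.presheaf.stalk x))
        (ModuleCat.of ((CohB1.ProjSpace r k).presheaf.stalk x)
          ((CohB1.ProjSpace r k).presheaf.stalk x)) j) := by
  constructor
  · intro h x _
    exact (exists_subsingleton_HH_twist_iff_forall_ext k r F hF i j hij hcrit).mp h x
  · intro h
    have := hasExt_modules (CohB1.ProjSpace r k)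
    rw [exists_subsingleton_HH_twist_iff k r F hF i j hij]
    refine Groth.Agent.Lib.Helper20.ClosedPtZero.isZero_of_closed_points _
      (isCoh_extSh_structureModule k r F hF j).2 (fun x hx => ?_)
    exact (hcrit x).mpr
      ((subsingleton_ext_stalk_iff _ (isInvertible_structureModule _) x _ j).mpr (h x hx))

/-- **local cohomology at closed points**: `H^i(F(-m)) = 0` for `m ≫ 0` iff `H^i_{m_x}(F_x) = 0`
for all closed `x` -/
theorem exists_subsingleton_HH_twist_iff_forall_closed_H (F : (CohB1.ProjSpace r k).Modules)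
    (hF : Coh.IsCoh F) (i : ℕ)
    (hcrit : ∀ j : ℕ, i + j = r →
      StalkCrit (CohB1.ProjSpace r k) F (Coh.structureModule (CohB1.ProjSpace r k)) j) :
    (∃ m₀ : ℤ, ∀ m : ℤ, m₀ ≤ m → Subsingleton (Coh.HH (CohB1.ProjSpace r k)
      (CohB1.tensorMod F (Twist.twistProjSpace r k (-m))) i)) ↔
    ∀ x : CohB1.ProjSpace r k, IsClosed ({x} : Set (CohB1.ProjSpace r k)) →
      Subsingleton (LocCoh.H (IsLocalRing.maximalIdeal ((CohB1.ProjSpace r k).presheaf.stalk x)) i
        (F.presheaf.stalk x)) := by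
  by_cases hi : i ≤ r
  · obtain ⟨j, hj⟩ : ∃ j, i + j = r := ⟨r - i, by omega⟩
    rw [exists_subsingleton_HH_twist_iff_forall_closed_ext k r F hF i j hj (hcrit j hj)]
    refine forall_congr' (fun x => forall_congr' (fun hx => ?_))
    have := Groth.Agent.Lib.Helper20.PnLocalRing.isRegularLocalRing_stalk r k x
    have := Groth.Agent.Lib.helper16.CohStalk.finite_stalk_of_isCoh F hF x
    exact (Groth.Agent.Lib.helper19.RegDual.H_subsingleton_iff _ r
      (Groth.Agent.Lib.Helper20.PnLocalRing.ringKrullDim_stalk_of_isClosed r k x hx)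
      (F.presheaf.stalk x) i j hj).symm
  · rw [not_le] at hi
    constructor
    · intro _ x hx
      have := Groth.Agent.Lib.Helper20.PnLocalRing.isRegularLocalRing_stalk r k x
      exact Groth.Agent.Lib.helper19.RegDual.H_subsingleton_of_gt _ r
        (Groth.Agent.Lib.Helper20.PnLocalRing.ringKrullDim_stalk_of_isClosed r k x hx) _ i hi
    · intro _
      refine ⟨0, fun m _ => ?_⟩
      have : Coh.IsQCoh (CohB1.tensorMod F (Twist.twistProjSpace r k (-m))) :=
        (Groth.Agent.Lib.Lead.SerreVan.isCoh_twist r k hF (-m)).1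
      exact Groth.Agent.S0022.result r k _ i hi

/-- **depth at closed points**: `H^i(F(-m)) = 0` for all `i ≤ n` and `m ≫ 0` iff
`depth F_x > n` for all closed `x` -/
theorem exists_forall_subsingleton_HH_twist_iff_depth (F : (CohB1.ProjSpace r k).Modules)
    (hF : Coh.IsCoh F) (n : ℕ)
    (hcrit : ∀ j : ℕ,
      StalkCrit (CohB1.ProjSpace r k) F (Coh.structureModule (CohB1.ProjSpace r k)) j) :
    (∃ m₀ : ℤ, ∀ m : ℤ, m₀ ≤ m → ∀ i : ℕ, i ≤ n → Subsingleton (Coh.HH (CohB1.ProjSpace r k)
      (CohB1.tensorMod F (Twist.twistProjSpace r k (-m))) i)) ↔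
    ∀ x : CohB1.ProjSpace r k, IsClosed ({x} : Set (CohB1.ProjSpace r k)) →
      (n : ℕ∞) < LocCoh.depth ((CohB1.ProjSpace r k).presheaf.stalk x) (F.presheaf.stalk x) := by
  have key : ∀ x : CohB1.ProjSpace r k,
      ((n : ℕ∞) < LocCoh.depth ((CohB1.ProjSpace r k).presheaf.stalk x) (F.presheaf.stalk x)) ↔
      ∀ i : ℕ, i ≤ n → Subsingleton (LocCoh.H
        (IsLocalRing.maximalIdeal ((CohB1.ProjSpace r k).presheaf.stalk x)) i
        (F.presheaf.stalk x)) := by
    intro x
    have := Groth.Agent.Lib.Helper20.PnLocalRing.isRegularLocalRing_stalk r k x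
    have := Groth.Agent.Lib.helper16.CohStalk.finite_stalk_of_isCoh F hF x
    have h1 := Groth.Agent.Lib.helper2.DepthLC.vanish_iff_le_idealDepth
      (IsLocalRing.maximalIdeal ((CohB1.ProjSpace r k).presheaf.stalk x))
      (F.presheaf.stalk x) (n + 1)
    unfold LocCoh.depth
    rw [← ENat.add_one_le_iff (ENat.coe_ne_top n)]
    have h2 : ((n : ℕ∞) + 1) = ((n + 1 : ℕ) : ℕ∞) := by push_cast; rfl
    rw [h2, ← h1]
    exact ⟨fun h i hi => h i (by omega), fun h i hi => h i (by omega)⟩
  constructor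
  · rintro ⟨m₀, h⟩ x hx
    rw [key x]
    intro i hi
    exact (exists_subsingleton_HH_twist_iff_forall_closed_H k r F hF i
      (fun j _ => hcrit j)).mp ⟨m₀, fun m hm => h m hm i hi⟩ x hx
  · intro h
    have hex : ∀ i : ℕ, i ≤ n → ∃ m₀ : ℤ, ∀ m : ℤ, m₀ ≤ m →
        Subsingleton (Coh.HH (CohB1.ProjSpace r k)
          (CohB1.tensorMod F (Twist.twistProjSpace r k (-m))) i) := by
      intro i hi
      exact (exists_subsingleton_HH_twist_iff_forall_closed_H k r F hF i
        (fun j _ => hcrit j)).mpr (fun x hx => (key x).mp (h x hx) i hi)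
    classical
    let d : ℕ → ℤ := fun i => if hi : i ≤ n then (hex i hi).choose else 0
    obtain ⟨m₀, hm₀⟩ := ((Finset.range (n + 1)).image d).exists_le
    refine ⟨m₀, fun m hm i hi => ?_⟩
    have h1 : d i ≤ m₀ := hm₀ _ (Finset.mem_image_of_mem d (Finset.mem_range.mpr (by omega)))
    have h2 : d i = (hex i hi).choose := dif_pos hi
    exact (hex i hi).choose_spec m (by omega)

end Groth.Agent.Lib.Helper20.LargeTwist
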