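import Mathlib
import Groth.Agent.Lib.Helper20.LargeTwist2
import Groth.Agent.Lib.Lead.ProjFormula
import Groth.Agent.Lib.Lead.ProjectiveCoh
import Groth.Agent.Lib.Helper16.QCohPullback
import Groth.Agent.Lib.Helper16.QCohFibre

/-!
# Vanishing of `H^i(F(-m))`, `m ≫ 0`, versus `ℰxt^{r-i}(F, ω)`; closed subschemes of `P^r_k` (helper20)

* `exists_subsingleton_HH_twist_iff_omega`: for coherent `F` on `P = P^r_k`, `i + j = r`:
  `H^i(P, F ⊗ O(-m)) = 0` for `m ≫ 0` iff `ℰxt^j(F, ω_P) = 0`, `ω_P = O(-r-1)`.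
* `subsingleton_HH_pullback_twist_iff`: for a closed immersion `ι : X ⟶ P`,
  `H^p(X, ι^*L) = 0 ↔ H^p(P, ι_*O_X ⊗ L) = 0` for `L` invertible on `P`.
* `exists_subsingleton_HH_pullback_twist_iff`: `H^p(X, ι^*O(-m)) = 0` for `m ≫ 0` iff
  `ℰxt^{r-p}(ι_*O_X, ω_P) = 0`.
-/

set_option autoImplicit false

universe u

open CategoryTheory Limits Opposite TopologicalSpace AlgebraicGeometry Abelian

namespace Groth.Agent.Lib.Helper20.LargeTwist

open Groth.Agent.Lib.helper21 Groth.Agent.Lib.helper28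

attribute [local instance] Groth.Agent.Lib.helper21.ShHomCoh.hasInjRes hasSheafHom'

variable (k : Type u) [Field k] (r : ℕ)

lemma isCoh_twistProjSpace (d : ℤ) : Coh.IsCoh (Twist.twistProjSpace r k d) :=
  Groth.Agent.Lib.Lead.SerreFin.isCoh_of_isFinLocFree
    (Groth.Agent.Lib.helper16.FLF.isFinLocFree_of_isInvertible (TwistPn.isInvertible r k d))

/-- `H^i(F(-m)) = 0` for `m ≫ 0` iff `ℰxt^{r-i}(F, ω_P) = 0` -/
theorem exists_subsingleton_HH_twist_iff_omega (F : (CohB1.ProjSpace r k).Modules)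
    (hF : Coh.IsCoh F) (i j : ℕ) (hij : i + j = r) :
    (∃ m₀ : ℤ, ∀ m : ℤ, m₀ ≤ m → Subsingleton (Coh.HH (CohB1.ProjSpace r k)
      (CohB1.tensorMod F (Twist.twistProjSpace r k (-m))) i)) ↔
    IsZero ((ModSite.extSh (O := (CohB1.ProjSpace r k).sheaf) F j).obj
      (Twist.twistProjSpace r k (-((r : ℤ) + 1)))) := by
  have := hasExt_modules (CohB1.ProjSpace r k)
  rw [← exists_subsingleton_ext_twist_iff r k F _ hF (isCoh_twistProjSpace k r _) j]
  refine exists_congr (fun m₀ => forall_congr' (fun m => forall_congr' (fun _ => ?_)))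
  exact subsingleton_HH_iff_ext k r _ (Groth.Agent.Lib.Lead.SerreVan.isCoh_twist r k hF (-m)) i j hij

variable {k r}

/-- `H^p(X, ι^*L) = 0 ↔ H^p(P, ι_*O_X ⊗ L) = 0` -/
lemma subsingleton_HH_pullback_iff {X : Scheme.{u}} (ι : X ⟶ CohB1.ProjSpace r k)
    [IsClosedImmersion ι] {L L' : (CohB1.ProjSpace r k).Modules} (hL : PicF.IsInvertible L)
    (hLL' : ClSub.IsInverseOf L L') (p : ℕ) :
    Subsingleton (Coh.HH X ((Scheme.Modules.pullback ι).obj L) p) ↔
      Subsingleton (Coh.HH (CohB1.ProjSpace r k)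
        (CohB1.tensorMod ((Scheme.Modules.pushforward ι).obj (Coh.structureModule X)) L) p) := by
  obtain ⟨b⟩ := Groth.Agent.Lib.Lead.ProjFormula.nonempty_projIso ι hL hLL' (Coh.structureModule X)
  let a : CohB1.tensorMod (Coh.structureModule X) ((Scheme.Modules.pullback ι).obj L) ≅
      (Scheme.Modules.pullback ι).obj L := Groth.Agent.Lib.Lead.ModTensor.leftUnitor _
  have hq : ((Scheme.Modules.pullback ι).obj L).IsQuasicoherent := by
    have : L.IsQuasicoherent :=
      Groth.Agent.Lib.helper12.AmpleBasis.isQuasicoherent_of_isInvertible hL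
    exact Groth.Agent.Lib.helper16.QCohPullback.isQuasicoherent_pullback ι L
  have hq' : (CohB1.tensorMod (Coh.structureModule X)
      ((Scheme.Modules.pullback ι).obj L)).IsQuasicoherent :=
    Groth.Agent.Lib.helper16.QCohFibre.isQuasicoherent_of_iso a.symm
  rw [(hhAddEquiv a.symm p).toEquiv.subsingleton_congr,
    Groth.Agent.Lib.Helper18.HH.subsingleton_iff_push ι _ p]
  exact (hhAddEquiv b.symm p).toEquiv.subsingleton_congr

variable (k r)

/-- `ι_* O_X` is coherent -/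
lemma isCoh_push_structureModule {X : Scheme.{u}} (ι : X ⟶ CohB1.ProjSpace r k)
    [IsClosedImmersion ι] :
    Coh.IsCoh ((Scheme.Modules.pushforward ι).obj (Coh.structureModule X)) :=
  Groth.Agent.Lib.Lead.ProjectiveCoh.isCoh_push ι
    (Groth.Agent.Lib.Lead.SerreFin.isCoh_of_isFinLocFree
      (Groth.Agent.Lib.helper16.FLF.isFinLocFree_structureModule X))

/-- **`H^p(X, O_X(-m)) = 0` for `m ≫ 0` iff `ℰxt^{r-p}_P(ι_* O_X, ω_P) = 0`**, for a closed
subscheme `ι : X ⟶ P^r_k` -/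
theorem exists_subsingleton_HH_pullback_twist_iff {X : Scheme.{u}} (ι : X ⟶ CohB1.ProjSpace r k)
    [IsClosedImmersion ι] (p j : ℕ) (hpj : p + j = r) :
    (∃ m₀ : ℤ, ∀ m : ℤ, m₀ ≤ m → Subsingleton (Coh.HH X
      ((Scheme.Modules.pullback ι).obj (Twist.twistProjSpace r k (-m))) p)) ↔
    IsZero ((ModSite.extSh (O := (CohB1.ProjSpace r k).sheaf)
      ((Scheme.Modules.pushforward ι).obj (Coh.structureModule X)) j).obj
      (Twist.twistProjSpace r k (-((r : ℤ) + 1)))) := by
  rw [← exists_subsingleton_HH_twist_iff_omega k r _ (isCoh_push_structureModule k r ι) p j hpj]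
  refine exists_congr (fun m₀ => forall_congr' (fun m => forall_congr' (fun _ => ?_)))
  refine subsingleton_HH_pullback_iff ι (TwistPn.isInvertible r k (-m))
    (L' := Twist.twistProjSpace r k m) ⟨?_⟩ p
  exact TwistPn.tensorIso r k (-m) m ≪≫
    Groth.Agent.Lib.Helper20.TwistEquivPn.twistCongr r k (neg_add_cancel m) ≪≫
    (TwistPn.zeroIso r k).symm

end Groth.Agent.Lib.Helper20.LargeTwist
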