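import Mathlib
import Groth.Prelude.Def_Wider
import Groth.Prelude.Def_FlatMod2
import Groth.Agent.Lib.Helper18.StalkPushClosed
import Groth.Agent.Lib.Helper26.DepthCR2
import Groth.Agent.Lib.Helper26.Depth1

/-!
# Stalks of `ι_* F` for a closed immersion `ι`, and their depth (helper20)

* `subsingleton_stalk_push_of_notMem_range`: `(ι_* F)_y = 0` for `y ∉ ι(X)`.
* `depth_stalk_push`: `depth_{O_{Y, ι x}} (ι_* F)_{ι x} = depth_{O_{X,x}} F_x` for `F` with finite
  stalk at `x` (`X`, `Y` locally Noetherian).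
-/

set_option autoImplicit false

universe u

open CategoryTheory Limits Opposite TopologicalSpace AlgebraicGeometry

namespace Groth.Agent.Lib.Helper20.PushStalkDepth

open Groth.Agent.Lib.Helper18.StalkPushClosed Scheme.Modules

variable {X Y : Scheme.{u}} (ι : X ⟶ Y) [IsClosedImmersion ι] (F : X.Modules)

/-- `(ι_* F)_y = 0` for `y` outside the image of `ι` -/
lemma subsingleton_stalk_push_of_notMem_range (y : Y) (hy : y ∉ Set.range ι) :
    Subsingleton (((pushforward ι).obj F).presheaf.stalk y) := by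
  refine subsingleton_of_forall_eq 0 (fun m => ?_)
  obtain ⟨U, hyU, s, rfl⟩ := ((pushforward ι).obj F).presheaf.exists_germ_eq m
  have hcl : IsClosed (Set.range ι) := ι.isClosedEmbedding.isClosed_range
  let W : Y.Opens := U ⊓ ⟨(Set.range ι)ᶜ, hcl.isOpen_compl⟩
  have hyW : y ∈ W := ⟨hyU, hy⟩
  have hW : ι ⁻¹ᵁ W = ⊥ := by
    ext z
    simp only [Opens.map_coe, Set.mem_preimage, SetLike.mem_coe, Opens.coe_bot,
      Set.mem_empty_iff_false, iff_false]
    intro hz
    exact hz.2 ⟨z, rfl⟩
  have hsub : Subsingleton (Γ((pushforward ι).obj F, W)) := by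
    change Subsingleton (Γ(F, ι ⁻¹ᵁ W))
    rw [hW]
    have hterm := TopCat.Sheaf.isTerminalOfEqEmpty ⟨F.presheaf, F.isSheaf⟩
      (U := (⊥ : X.Opens)) rfl
    exact AddCommGrpCat.subsingleton_of_isZero (IsZero.of_iso (isZero_zero _)
      (hterm.uniqueUpToIso (IsZero.isTerminal (isZero_zero _))))
  have e1 := TopCat.Presheaf.germ_res_apply ((pushforward ι).obj F).presheaf
    (homOfLE (inf_le_left : W ≤ U)) y hyW s
  rw [← e1, Subsingleton.elim (((pushforward ι).obj F).presheaf.map (homOfLE _).op s) 0, map_zero]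

/-- the stalk `(ι_* F)_{ι x}` is `F_x`, linearly over `O_{Y, ι x}` -/
noncomputable def stalkPushLinearEquiv (x : X) :
    letI : Module (Y.presheaf.stalk (ι x)) (F.presheaf.stalk x) :=
      Module.compHom (F.presheaf.stalk x) (ι.stalkMap x).hom
    ((pushforward ι).obj F).presheaf.stalk (ι x) ≃ₗ[Y.presheaf.stalk (ι x)] F.presheaf.stalk x :=
  letI : Module (Y.presheaf.stalk (ι x)) (F.presheaf.stalk x) :=
    Module.compHom (F.presheaf.stalk x) (ι.stalkMap x).hom
  { AddEquiv.ofBijective (stalkPush ι F x) (stalkPush_bijective ι F x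
      ι.isClosedEmbedding.isClosedMap (fun a ha => ι.isClosedEmbedding.injective ha)) with
    map_smul' := fun r m => stalkPush_smul ι F x r m }

/-- `depth_{O_{Y, ι x}} (ι_* F)_{ι x} = depth_{O_{X,x}} F_x` -/
theorem depth_stalk_push [IsLocallyNoetherian Y] (x : X)
    [Module.Finite (X.presheaf.stalk x) (F.presheaf.stalk x)] :
    LocCoh.depth (Y.presheaf.stalk (ι x)) (((pushforward ι).obj F).presheaf.stalk (ι x)) =
      LocCoh.depth (X.presheaf.stalk x) (F.presheaf.stalk x) := by
  have : IsLocallyNoetherian X := LocallyOfFiniteType.isLocallyNoetherian ι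
  letI : Algebra (Y.presheaf.stalk (ι x)) (X.presheaf.stalk x) := (ι.stalkMap x).hom.toAlgebra
  letI : Module (Y.presheaf.stalk (ι x)) (F.presheaf.stalk x) :=
    Module.compHom (F.presheaf.stalk x) (ι.stalkMap x).hom
  haveI : IsScalarTower (Y.presheaf.stalk (ι x)) (X.presheaf.stalk x) (F.presheaf.stalk x) :=
    ⟨fun a b m => by
      change (algebraMap _ _ a * b) • m = (ι.stalkMap x).hom a • (b • m)
      rw [mul_smul]; rfl⟩
  haveI : IsLocalHom (algebraMap (Y.presheaf.stalk (ι x)) (X.presheaf.stalk x)) :=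
    inferInstanceAs (IsLocalHom (ι.stalkMap x).hom)
  have hsurj : Function.Surjective (algebraMap (Y.presheaf.stalk (ι x)) (X.presheaf.stalk x)) :=
    ι.stalkMap_surjective x
  haveI : Module.Finite (Y.presheaf.stalk (ι x)) (X.presheaf.stalk x) :=
    Module.Finite.of_surjective (Algebra.linearMap _ _) hsurj
  haveI : Module.Finite (Y.presheaf.stalk (ι x)) (F.presheaf.stalk x) :=
    Module.Finite.trans (X.presheaf.stalk x) _
  have h1 : LocCoh.depth (Y.presheaf.stalk (ι x))
      (((pushforward ι).obj F).presheaf.stalk (ι x)) =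
      LocCoh.depth (Y.presheaf.stalk (ι x)) (F.presheaf.stalk x) :=
    Groth.Agent.Lib.helper26.Depth.idealDepth_congr (stalkPushLinearEquiv ι F x)
  rw [h1]
  exact Groth.Agent.Lib.helper26.Depth.depth_eq_of_isLocalHom (F.presheaf.stalk x)

end Groth.Agent.Lib.Helper20.PushStalkDepth
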