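import Mathlib
import Groth.Agent.Lib.Helper20.LargeTwist3
import Groth.Agent.Lib.Helper20.LargeTwist4
import Groth.Agent.Lib.Helper20.ClosedImmHH
import Groth.Agent.Lib.Helper20.PushStalkDepth
import Groth.Agent.Lib.Helper3.DimIneqSch2
import Groth.Agent.Lib.Helper26.Depth6
import Groth.Agent.Lib.Helper26.Depth7

/-!
# Depth at closed points of a closed subscheme of `P^N_k` and vanishing of `H^j(X, F(-q))` (helper20)

Conditional on the stalk criterion `StalkCrit` for `ℰxt^j(G, O_P)` (all coherent `G` on `P`).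
-/

set_option autoImplicit false

universe u

open CategoryTheory Limits Opposite TopologicalSpace AlgebraicGeometry

namespace Groth.Agent.Lib.Helper20.LargeTwist

open Groth.Agent.Lib.helper28 Groth.Agent.Lib.Helper20.PushStalkDepth

variable (k : Type u) [Field k] (N : ℕ)

/-- the stalk criterion for all coherent modules on `P^N_k` -/
def StalkCritAll : Prop :=
  ∀ G : (CohB1.ProjSpace N k).Modules, Coh.IsCoh G → ∀ j : ℕ,
    StalkCrit (CohB1.ProjSpace N k) G (Coh.structureModule (CohB1.ProjSpace N k)) j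

variable {k N} {X : Scheme.{u}} (i : X ⟶ CohB1.ProjSpace N k) [IsClosedImmersion i]

/-- `H^j(X, F ⊗ i^*O(d)) = 0 ↔ H^j(P, i_*F ⊗ O(d)) = 0` -/
lemma subsingleton_HH_tensor_pullback_iff (F : X.Modules) (d : ℤ) (j : ℕ) :
    Subsingleton (Coh.HH X (CohB1.tensorMod F
      ((Scheme.Modules.pullback i).obj (Twist.twistProjSpace N k d))) j) ↔
    Subsingleton (Coh.HH (CohB1.ProjSpace N k)
      (CohB1.tensorMod ((Scheme.Modules.pushforward i).obj F) (Twist.twistProjSpace N k d)) j) := by
  have hinv : ClSub.IsInverseOf (Twist.twistProjSpace N k d) (Twist.twistProjSpace N k (-d)) :=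
    ⟨TwistPn.tensorIso N k d (-d) ≪≫
      Groth.Agent.Lib.Helper20.TwistEquivPn.twistCongr N k (add_neg_cancel d) ≪≫
      (TwistPn.zeroIso N k).symm⟩
  obtain ⟨b⟩ := Groth.Agent.Lib.Lead.ProjFormula.nonempty_projIso i
    (TwistPn.isInvertible N k d) hinv F
  rw [Groth.Agent.Lib.Helper20.ClosedImmHH.subsingleton_iff_push_closed i _ j]
  exact (hhAddEquiv b.symm j).toEquiv.subsingleton_congr

/-- conversion between thresholds in `ℕ` and in `ℤ` -/
lemma exists_nat_threshold_iff (Q : ℤ → Prop) :
    (∃ q₀ : ℕ, ∀ q : ℕ, q₀ ≤ q → Q (q : ℤ)) ↔ ∃ m₀ : ℤ, ∀ m : ℤ, m₀ ≤ m → Q m := by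
  constructor
  · rintro ⟨q₀, h⟩
    refine ⟨q₀, fun m hm => ?_⟩
    have h1 := h m.toNat (by omega)
    rwa [Int.toNat_of_nonneg (by omega)] at h1
  · rintro ⟨m₀, h⟩
    exact ⟨m₀.toNat, fun q hq => h q (by omega)⟩

/-- **depth criterion on a closed subscheme**: for `F` coherent on `X ⊆ P^N_k`,
`H^j(X, F(-q)) = 0` for `j ≤ n'`, `q ≫ 0` iff `depth F_x > n'` at all closed points of `X` -/
theorem exists_forall_subsingleton_HH_iff_depth (hcrit : StalkCritAll k N) (F : X.Modules)
    (hF : Coh.IsCoh F) (n' : ℕ) :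
    (∃ q₀ : ℕ, ∀ q : ℕ, q₀ ≤ q → ∀ j : ℕ, j ≤ n' →
      Subsingleton (Coh.HH X (CohB1.tensorMod F
        ((Scheme.Modules.pullback i).obj (Twist.twistProjSpace N k (-(q : ℤ))))) j)) ↔
    ∀ x : X, IsClosed ({x} : Set X) →
      (n' : ℕ∞) < LocCoh.depth (X.presheaf.stalk x) (F.presheaf.stalk x) := by
  have hP : IsLocallyNoetherian (CohB1.ProjSpace N k) :=
    Groth.Agent.Lib.Lead.SerreFin.isLocallyNoetherian_projSpace N k
  have hiF : Coh.IsCoh ((Scheme.Modules.pushforward i).obj F) :=
    Groth.Agent.Lib.Lead.ProjectiveCoh.isCoh_push i hF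
  rw [exists_nat_threshold_iff (fun m => ∀ j : ℕ, j ≤ n' →
      Subsingleton (Coh.HH X (CohB1.tensorMod F
        ((Scheme.Modules.pullback i).obj (Twist.twistProjSpace N k (-m)))) j))]
  have h1 : (∃ m₀ : ℤ, ∀ m : ℤ, m₀ ≤ m → ∀ j : ℕ, j ≤ n' →
      Subsingleton (Coh.HH X (CohB1.tensorMod F
        ((Scheme.Modules.pullback i).obj (Twist.twistProjSpace N k (-m)))) j)) ↔
      (∃ m₀ : ℤ, ∀ m : ℤ, m₀ ≤ m → ∀ j : ℕ, j ≤ n' →
        Subsingleton (Coh.HH (CohB1.ProjSpace N k)
          (CohB1.tensorMod ((Scheme.Modules.pushforward i).obj F)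
            (Twist.twistProjSpace N k (-m))) j)) :=
    exists_congr (fun m₀ => forall_congr' (fun m => forall_congr' (fun _ =>
      forall_congr' (fun j => forall_congr' (fun _ =>
        subsingleton_HH_tensor_pullback_iff i F (-m) j)))))
  rw [h1, exists_forall_subsingleton_HH_twist_iff_depth k N _ hiF n'
    (fun j => hcrit _ hiF j)]
  constructor
  · intro h x hx
    have hx' : IsClosed ({i x} : Set (CohB1.ProjSpace N k)) := by
      have := i.isClosedEmbedding.isClosedMap _ hx
      rwa [Set.image_singleton] at this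
    have := Groth.Agent.Lib.helper16.CohStalk.finite_stalk_of_isCoh F hF x
    rw [← depth_stalk_push i F x]
    exact h (i x) hx'
  · intro h y hy
    by_cases hyr : y ∈ Set.range i
    · obtain ⟨x, rfl⟩ := hyr
      have hx : IsClosed ({x} : Set X) := by
        have h2 : ({x} : Set X) = i ⁻¹' {i x} := by
          ext z
          simp only [Set.mem_singleton_iff, Set.mem_preimage]
          exact ⟨fun h => by rw [h], fun h => i.isClosedEmbedding.injective h⟩
        rw [h2]
        exact hy.preimage i.continuous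
      have := Groth.Agent.Lib.helper16.CohStalk.finite_stalk_of_isCoh F hF x
      rw [depth_stalk_push i F x]
      exact h x hx
    · have hsub := subsingleton_stalk_push_of_notMem_range i F y hyr
      have htop : LocCoh.depth ((CohB1.ProjSpace N k).presheaf.stalk y)
          (((Scheme.Modules.pushforward i).obj F).presheaf.stalk y) = ⊤ := by
        unfold LocCoh.depth
        exact Groth.Agent.Lib.helper26.Depth.idealDepth_eq_top_of_smul_top_eq_top _ _
          (Subsingleton.elim _ _)
      rw [htop]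
      exact ENat.coe_lt_top n'

/-- the depth of the stalk of the structure module is the depth of the local ring -/
lemma depth_stalk_structureModule [IsLocallyNoetherian X] (x : X) :
    LocCoh.depth (X.presheaf.stalk x) ((Coh.structureModule X).presheaf.stalk x) =
      LocCoh.depth (X.presheaf.stalk x) (X.presheaf.stalk x) := by
  obtain ⟨e⟩ := nonempty_stalk_linearEquiv (Coh.structureModule X)
    (isInvertible_structureModule X) x
  exact Groth.Agent.Lib.helper26.Depth.idealDepth_congr e

/-- vanishing of `H^j(X, O_X(-q))` for `j < n = dim X`, `q ≫ 0`, implies Cohen–Macaulay of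
dimension `n` at all closed points (conditional on the stalk criterion) -/
theorem cm_of_vanishing_structure (hcrit : StalkCritAll k N) (n : ℕ)
    (hn : topologicalKrullDim ↥X = n)
    (h : ∃ q₀ : ℕ, ∀ q : ℕ, q₀ ≤ q → ∀ j : ℕ, j < n →
      Subsingleton (Coh.HH X (CohB1.tensorMod (Coh.structureModule X)
        ((Scheme.Modules.pullback i).obj (Twist.twistProjSpace N k (-(q : ℤ))))) j)) :
    ∀ x : X, IsClosed ({x} : Set ↥X) →
      LocCoh.IsCohenMacaulayLocalRing (X.presheaf.stalk x) ∧
        ringKrullDim (X.presheaf.stalk x) = n := by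
  have hP : IsLocallyNoetherian (CohB1.ProjSpace N k) :=
    Groth.Agent.Lib.Lead.SerreFin.isLocallyNoetherian_projSpace N k
  have hX : IsLocallyNoetherian X := LocallyOfFiniteType.isLocallyNoetherian i
  intro x hx
  have hle : ringKrullDim (X.presheaf.stalk x) ≤ n := by
    rw [← hn]
    exact Groth.Agent.Lib.helper3.DimIneq.stalk_le_dim x
  have hdle := Groth.Agent.Lib.helper26.Depth.depth_self_le_ringKrullDim (X.presheaf.stalk x)
  have hge : ((n : ℕ∞) : WithBot ℕ∞) ≤
      ((LocCoh.depth (X.presheaf.stalk x) (X.presheaf.stalk x) : ℕ∞) : WithBot ℕ∞) := by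
    cases n with
    | zero => exact_mod_cast bot_le
    | succ n' =>
      obtain ⟨q₀, hq₀⟩ := h
      have hOc : Coh.IsCoh (Coh.structureModule X) :=
        Groth.Agent.Lib.Lead.SerreFin.isCoh_of_isFinLocFree
          (Groth.Agent.Lib.helper16.FLF.isFinLocFree_structureModule X)
      have h1 := (exists_forall_subsingleton_HH_iff_depth i hcrit _ hOc n').mp
        ⟨q₀, fun q hq j hj => hq₀ q hq j (by omega)⟩ x hx
      rw [depth_stalk_structureModule] at h1
      have h2 : ((n' + 1 : ℕ) : ℕ∞) ≤ LocCoh.depth (X.presheaf.stalk x)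
          (X.presheaf.stalk x) := by
        have h3 : ((n' : ℕ) : ℕ∞) + 1 ≤ LocCoh.depth (X.presheaf.stalk x)
            (X.presheaf.stalk x) := (ENat.add_one_le_iff (ENat.coe_ne_top n')).mpr h1
        exact_mod_cast h3
      exact_mod_cast h2
  have hdim : ringKrullDim (X.presheaf.stalk x) = n :=
    le_antisymm hle (hge.trans hdle)
  refine ⟨{ supportDim_eq_depth := ?_ }, hdim⟩
  rw [Module.supportDim_self_eq_ringKrullDim]
  exact le_antisymm (hdim.le.trans hge) hdle

/-- **Cohen–Macaulay criterion** (conditional on the stalk criterion) -/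
theorem cm_iff_vanishing (hcrit : StalkCritAll k N) (n : ℕ)
    (hn : topologicalKrullDim ↥X = n) :
    (∀ x : X, IsClosed ({x} : Set ↥X) →
        LocCoh.IsCohenMacaulayLocalRing (X.presheaf.stalk x) ∧
          ringKrullDim (X.presheaf.stalk x) = n) ↔
      ∀ F : X.Modules, FlatMod.IsFinLocFree F → ∃ q₀ : ℕ, ∀ q : ℕ, q₀ ≤ q → ∀ j : ℕ, j < n →
        Subsingleton (Coh.HH X (CohB1.tensorMod F
          ((Scheme.Modules.pullback i).obj (Twist.twistProjSpace N k (-(q : ℤ))))) j) := by
  have hP : IsLocallyNoetherian (CohB1.ProjSpace N k) :=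
    Groth.Agent.Lib.Lead.SerreFin.isLocallyNoetherian_projSpace N k
  have hX : IsLocallyNoetherian X := LocallyOfFiniteType.isLocallyNoetherian i
  constructor
  · intro h F hF
    cases n with
    | zero => exact ⟨0, fun q _ j hj => absurd hj (Nat.not_lt_zero j)⟩
    | succ n' =>
      have hFc : Coh.IsCoh F := Groth.Agent.Lib.Lead.SerreFin.isCoh_of_isFinLocFree hF
      obtain ⟨q₀, hq₀⟩ := (exists_forall_subsingleton_HH_iff_depth i hcrit F hFc n').mpr (by
        intro x hx
        obtain ⟨hcm, hdim⟩ := h x hx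
        obtain ⟨hfree, hfin⟩ := Groth.Agent.Lib.helper16.FLF.free_stalk_of_isFinLocFree F hF x
        by_cases hnt : Nontrivial (F.presheaf.stalk x)
        · rw [Groth.Agent.Lib.helper26.Depth.depth_free]
          have h1 := hcm.supportDim_eq_depth
          rw [Module.supportDim_self_eq_ringKrullDim, hdim] at h1
          have h2 : ((n' + 1 : ℕ) : ℕ∞) = LocCoh.depth (X.presheaf.stalk x)
              (X.presheaf.stalk x) := by exact_mod_cast h1
          rw [← h2]
          exact_mod_cast Nat.lt_succ_self n'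
        · rw [not_nontrivial_iff_subsingleton] at hnt
          have htop : LocCoh.depth (X.presheaf.stalk x) (F.presheaf.stalk x) = ⊤ := by
            unfold LocCoh.depth
            exact Groth.Agent.Lib.helper26.Depth.idealDepth_eq_top_of_smul_top_eq_top _ _
              (Subsingleton.elim _ _)
          rw [htop]
          exact ENat.coe_lt_top n')
      exact ⟨q₀, fun q hq j hj => hq₀ q hq j (by omega)⟩
  · intro h
    exact cm_of_vanishing_structure i hcrit n hn (h (Coh.structureModule X)
      (Groth.Agent.Lib.helper16.FLF.isFinLocFree_structureModule X))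

end Groth.Agent.Lib.Helper20.LargeTwist
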