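import Mathlib

/-!
# An abstract duality lemma for an exact left adjoint (helper20)

`L : 𝒜 ⥤ ℬ` exact with right adjoint `G`, `W : ℬ` with injective resolution `R`, `K = G(R)`.
If `K` is exact in degrees `< c`, then `Hom_𝒜(F, H^c(K)) ≃ Ext^c_ℬ(L F, W)`, via composition with
a fixed class `ξ ∈ Ext^c(L H^c(K), W)` (`exists_ext_class`).
-/

set_option autoImplicit false
set_option linter.unusedSectionVars false

universe w v u v' u'

open CategoryTheory Limits Abelian

namespace Groth.Agent.Lib.Helper20.DualAbs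

section Kernels

variable {A : Type u} [Category.{v} A] [Abelian A] (K : CochainComplex A ℕ)

/-- the short complex `0 → ker d^q → K^q → ker d^{q+1} → 0` -/
noncomputable def scZ (q : ℕ) : ShortComplex A :=
  ShortComplex.mk (kernel.ι (K.d q (q + 1)))
    (kernel.lift (K.d (q + 1) (q + 2)) (K.d q (q + 1)) (K.d_comp_d _ _ _))
    (by rw [← cancel_mono (kernel.ι (K.d (q + 1) (q + 2)))]; simp)

lemma scZ_shortExact (q : ℕ) (h : K.ExactAt (q + 1)) : (scZ K q).ShortExact := by
  have hex : (K.sc' q (q + 1) (q + 2)).Exact :=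
    (K.exactAt_iff' q (q + 1) (q + 2) (by simp) (by simp)).mp h
  have hepi : Epi (scZ K q).g := hex.epi_kernelLift
  have hmono : Mono (scZ K q).f := by dsimp [scZ]; infer_instance
  refine { exact := ShortComplex.exact_of_f_is_kernel _ ?_, mono_f := hmono, epi_g := hepi }
  exact isKernelOfComp (kernel.ι (K.d (q + 1) (q + 2))) (K.d q (q + 1))
    (kernelIsKernel (K.d q (q + 1))) _ (by simp [scZ])

variable [∀ q, Injective (K.X q)]

/-- if `K` (with injective terms) is exact in degrees `< c`, then the kernels of `d^q`, `q < c`, are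
injective -/
lemma injective_kernel (c : ℕ) (h : ∀ q, q < c → K.ExactAt q) :
    ∀ q, q < c → Injective (kernel (K.d q (q + 1))) := by
  intro q
  induction q with
  | zero =>
    intro h0
    have hex : (K.sc' 0 0 1).Exact :=
      (K.exactAt_iff' 0 0 1 (by simp) (by simp)).mp (h 0 h0)
    have hm : Mono (K.d 0 1) := hex.mono_g (K.shape _ _ (by simp))
    have hz : IsZero (kernel (K.d 0 1)) := by
      rw [IsZero.iff_id_eq_zero, ← cancel_mono (kernel.ι (K.d 0 1)), ← cancel_mono (K.d 0 1)]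
      simp
    exact hz.injective
  | succ q ih =>
    intro hq
    have : Injective (kernel (K.d q (q + 1))) := ih (by omega)
    have hS := scZ_shortExact K q (h (q + 1) hq)
    have : Injective (scZ K q).X₁ := ‹Injective (kernel (K.d q (q + 1)))›
    exact Retract.injective (Y := K.X q)
      { i := _, r := _, retract := (hS.splittingOfInjective).s_g }

/-- **splitting off the cohomology**: if `K` (with injective terms) is exact in degrees `< c`,
there is a cocycle-valued section `s : H^c(K) ⟶ K^c` detecting `H^c`. -/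
theorem exists_section (c p : ℕ) (hp : (ComplexShape.up ℕ).prev c = p)
    (hK : ∀ q, q < c → K.ExactAt q) :
    ∃ s : K.homology c ⟶ K.X c, s ≫ K.d c (c + 1) = 0 ∧
      (∀ (F : A) (φ : F ⟶ K.homology c), (∃ h : F ⟶ K.X p, h ≫ K.d p c = φ ≫ s) → φ = 0) ∧
      (∀ (F : A) (g : F ⟶ K.X c), g ≫ K.d c (c + 1) = 0 →
        ∃ (φ : F ⟶ K.homology c) (h : F ⟶ K.X p), h ≫ K.d p c = g - φ ≫ s) := by
  have htπ : K.toCycles p c ≫ K.homologyπ c = 0 := K.toCycles_comp_homologyπ p c
  have hex : (ShortComplex.mk _ _ htπ).Exact :=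
    ShortComplex.exact_of_g_is_cokernel _ (K.homologyIsCokernel p c hp)
  have hepi : Epi (kernel.lift (K.homologyπ c) (K.toCycles p c) htπ) := hex.epi_kernelLift
  have hker : Injective (kernel (K.d p c)) := by
    rcases c with _ | c'
    · have hp0 : p = 0 := by rw [← hp]; exact CochainComplex.prev_nat_zero
      subst hp0
      have h0 : K.d 0 0 = 0 := K.shape _ _ (by simp)
      exact Injective.of_iso (kernelIsoOfEq h0 ≪≫ kernelZeroIsoSource).symm inferInstance
    · have hp0 : p = c' := by rw [← hp]; exact CochainComplex.prev_nat_succ c'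
      subst hp0
      exact injective_kernel K (p + 1) hK p (by omega)
  generalize hπ : K.homologyπ c = π at *
  generalize ht : K.toCycles p c = t at *
  have hti : t ≫ K.iCycles c = K.d p c := by rw [← ht, K.toCycles_i]
  have hπepi : Epi π := by rw [← hπ]; infer_instance
  generalize he : kernel.lift π t htπ = e at *
  have heι : e ≫ kernel.ι π = t := by rw [← he, kernel.lift_ι]
  have hed : e ≫ kernel.ι π ≫ K.iCycles c = K.d p c := by
    rw [reassoc_of% heι, hti]
  have hkere : Injective (kernel e) :=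
    Injective.of_iso (kernelIsoOfEq hed.symm ≪≫ kernelCompMono e (kernel.ι π ≫ K.iCycles c)) hker
  have hS₂ : (ShortComplex.mk (kernel.ι e) e (kernel.condition e)).ShortExact :=
    { exact := ShortComplex.exact_of_f_is_kernel _ (kernelIsKernel e)
      mono_f := inferInstanceAs (Mono (kernel.ι e))
      epi_g := hepi }
  have : Injective (ShortComplex.mk (kernel.ι e) e (kernel.condition e)).X₁ := hkere
  obtain ⟨s₂, hs₂⟩ : ∃ s₂ : kernel π ⟶ K.X p, s₂ ≫ e = 𝟙 _ :=
    ⟨hS₂.splittingOfInjective.s, hS₂.splittingOfInjective.s_g⟩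
  have hkerπ : Injective (kernel π) :=
    Retract.injective (Y := K.X p) { i := s₂, r := e, retract := hs₂ }
  have hS₃ : (ShortComplex.mk (kernel.ι π) π (kernel.condition π)).ShortExact :=
    { exact := ShortComplex.exact_of_f_is_kernel _ (kernelIsKernel π)
      mono_f := inferInstanceAs (Mono (kernel.ι π))
      epi_g := hπepi }
  have : Injective (ShortComplex.mk (kernel.ι π) π (kernel.condition π)).X₁ := hkerπ
  obtain ⟨s, hs⟩ : ∃ s : K.homology c ⟶ K.cycles c, s ≫ π = 𝟙 _ :=
    ⟨hS₃.splittingOfInjective.s, hS₃.splittingOfInjective.s_g⟩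
  refine ⟨s ≫ K.iCycles c, by rw [Category.assoc, K.iCycles_d, comp_zero], ?_, ?_⟩
  · rintro F φ ⟨h, hh⟩
    have h1 : h ≫ t = φ ≫ s := by
      rw [← cancel_mono (K.iCycles c), Category.assoc, Category.assoc, hti]
      exact hh
    have h2 : φ ≫ s ≫ π = 0 := by
      rw [← Category.assoc, ← h1, Category.assoc, htπ, comp_zero]
    rwa [hs, Category.comp_id] at h2
  · intro F g hgd
    obtain ⟨g', hg'⟩ : ∃ g' : F ⟶ K.cycles c, g' ≫ K.iCycles c = g :=
      ⟨K.liftCycles g (c + 1) (by simp) hgd, K.liftCycles_i _ _ _ _⟩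
    have hδ : (g' - (g' ≫ π) ≫ s) ≫ π = 0 := by
      rw [Preadditive.sub_comp, Category.assoc, hs, Category.comp_id, sub_self]
    refine ⟨g' ≫ π, kernel.lift π _ hδ ≫ s₂, ?_⟩
    rw [← hed, Category.assoc, reassoc_of% hs₂, kernel.lift_ι_assoc, Preadditive.sub_comp, hg',
      Category.assoc]

end Kernels


section ExtMkZero

open CochainComplex HomComplex

variable {C : Type u} [Category.{v} C] [Abelian C] [HasExt.{w} C]
  {X Y : C} (R : InjectiveResolution Y)

/-- in degree `0`, `extMk f = 0` iff `f = 0` -/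
lemma extMk_zero_eq_zero_iff (f : X ⟶ R.cocomplex.X 0) (hf : f ≫ R.cocomplex.d 0 1 = 0) :
    R.extMk f 1 rfl hf = 0 ↔ f = 0 := by
  simp only [← R.extEquivCohomologyClass.apply_eq_iff_eq,
    InjectiveResolution.extEquivCohomologyClass_extMk,
    InjectiveResolution.extEquivCohomologyClass_zero, CohomologyClass.mk_eq_zero_iff]
  rw [Cocycle.fromSingleMk_mem_coboundaries_iff _ _ _ _ _ (-1) (by lia)]
  constructor
  · rintro ⟨g, hg⟩
    have hz : IsZero (R.cochainComplex.X (-1)) := R.cochainComplex.isZero_of_isStrictlyGE 0 (-1)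
    rw [hz.eq_of_tgt g 0, zero_comp] at hg
    rw [← cancel_mono (R.cochainComplexXIso 0 0 rfl).inv, zero_comp]
    exact hg.symm
  · rintro rfl
    exact ⟨0, by simp⟩

end ExtMkZero


section Main

variable {A : Type u} [Category.{v} A] [Abelian A]
  {B : Type u'} [Category.{v'} B] [Abelian B] [HasExt.{w} B]
  {L : A ⥤ B} {G : B ⥤ A} (adj : L ⊣ G) [L.Additive] [G.Additive]
  {W : B} (R : InjectiveResolution W)

/-- the complex `G(R)` -/
noncomputable abbrev GK (G : B ⥤ A) [G.Additive] {W : B} (R : InjectiveResolution W) :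
    CochainComplex A ℕ :=
  (G.mapHomologicalComplex (ComplexShape.up ℕ)).obj R.cocomplex

/-- the transpose of a map `F ⟶ G(R^q)` -/
noncomputable def hat {F : A} {q : ℕ} (g : F ⟶ G.obj (R.cocomplex.X q)) :
    L.obj F ⟶ R.cocomplex.X q :=
  L.map g ≫ adj.counit.app _

lemma hat_eq {F : A} {q : ℕ} (g : F ⟶ G.obj (R.cocomplex.X q)) :
    hat adj R g = (adj.homEquiv F (R.cocomplex.X q)).symm g := by
  rw [Adjunction.homEquiv_counit]; rfl

lemma hat_zero {F : A} {q : ℕ} : hat adj R (0 : F ⟶ G.obj (R.cocomplex.X q)) = 0 := by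
  simp [hat]

lemma hat_sub {F : A} {q : ℕ} (g g' : F ⟶ G.obj (R.cocomplex.X q)) :
    hat adj R (g - g') = hat adj R g - hat adj R g' := by
  simp [hat, Functor.map_sub, Preadditive.sub_comp]

lemma hat_comp {F' F : A} {q : ℕ} (a : F' ⟶ F) (g : F ⟶ G.obj (R.cocomplex.X q)) :
    hat adj R (a ≫ g) = L.map a ≫ hat adj R g := by
  simp [hat]

lemma hat_d {F : A} {q : ℕ} (g : F ⟶ G.obj (R.cocomplex.X q)) (q' : ℕ) :
    hat adj R (g ≫ G.map (R.cocomplex.d q q')) = hat adj R g ≫ R.cocomplex.d q q' := by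
  simp only [hat, Functor.map_comp, Category.assoc]
  congr 1
  exact adj.counit.naturality (R.cocomplex.d q q')

lemma hat_injective {F : A} {q : ℕ} : Function.Injective (hat adj R (F := F) (q := q)) := by
  intro g g' h
  rw [hat_eq, hat_eq] at h
  exact (adj.homEquiv F (R.cocomplex.X q)).symm.injective h

lemma hat_surjective {F : A} {q : ℕ} (f : L.obj F ⟶ R.cocomplex.X q) :
    ∃ g : F ⟶ G.obj (R.cocomplex.X q), hat adj R g = f :=
  ⟨adj.homEquiv F (R.cocomplex.X q) f, by rw [hat_eq]; simp⟩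

lemma hat_cocycle {F : A} {q : ℕ} (g : F ⟶ G.obj (R.cocomplex.X q)) (q' : ℕ)
    (hg : g ≫ G.map (R.cocomplex.d q q') = 0) : hat adj R g ≫ R.cocomplex.d q q' = 0 := by
  rw [← hat_d, hg, hat_zero]

omit [L.Additive] [G.Additive] in
lemma extMk_congr {X : B} {n : ℕ} {f f' : X ⟶ R.cocomplex.X n} (h : f = f') (m : ℕ)
    (hm : n + 1 = m) (hf : f ≫ R.cocomplex.d n m = 0) :
    R.extMk f m hm hf = R.extMk f' m hm (by rw [← h]; exact hf) := by
  subst h; rfl

/-- the class of a transposed cocycle vanishes iff the cocycle is a coboundary in `G(R)` -/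
lemma extMk_hat_eq_zero_iff {F : A} (c p : ℕ) (hp : (ComplexShape.up ℕ).prev c = p)
    (g : F ⟶ G.obj (R.cocomplex.X c)) (hg : g ≫ G.map (R.cocomplex.d c (c + 1)) = 0) :
    R.extMk (hat adj R g) (c + 1) rfl (hat_cocycle adj R g _ hg) = 0 ↔
      ∃ h : F ⟶ G.obj (R.cocomplex.X p), h ≫ G.map (R.cocomplex.d p c) = g := by
  rcases c with _ | c'
  · have hp0 : p = 0 := by rw [← hp]; exact CochainComplex.prev_nat_zero
    subst hp0
    rw [extMk_zero_eq_zero_iff]
    have h0 : R.cocomplex.d 0 0 = 0 := R.cocomplex.shape _ _ (by simp)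
    constructor
    · intro h
      refine ⟨0, ?_⟩
      rw [zero_comp]
      exact (hat_injective adj R (h.trans (hat_zero adj R).symm)).symm
    · rintro ⟨h, rfl⟩
      rw [h0, Functor.map_zero, comp_zero, hat_zero]
  · have hp0 : p = c' := by rw [← hp]; exact CochainComplex.prev_nat_succ c'
    subst hp0
    rw [R.extMk_eq_zero_iff _ _ _ _ p rfl]
    constructor
    · rintro ⟨h₀, hh₀⟩
      obtain ⟨h, rfl⟩ := hat_surjective adj R h₀
      refine ⟨h, hat_injective adj R ?_⟩
      rw [hat_d]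
      exact hh₀
    · rintro ⟨h, rfl⟩
      exact ⟨hat adj R h, (hat_d adj R h _).symm⟩

variable [PreservesFiniteLimits L]

include adj in
/-- **abstract duality lemma**: if `G(R)` is exact in degrees `< c`, then composition with a
class `ξ ∈ Ext^c(L H^c(G R), W)` induces bijections `Hom(F, H^c(G R)) ≃ Ext^c(L F, W)`. -/
theorem exists_ext_class (c : ℕ) (hK : ∀ q, q < c → (GK G R).ExactAt q) :
    ∃ ξ : Ext.{w} (L.obj ((GK G R).homology c)) W c, ∀ F : A,
      Function.Bijective (fun φ : F ⟶ (GK G R).homology c =>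
        (Ext.mk₀ (L.map φ)).comp ξ (zero_add c)) := by
  haveI : ∀ q, Injective ((GK G R).X q) := fun q =>
    Injective.injective_of_adjoint adj (R.cocomplex.X q)
  obtain ⟨p, hp⟩ : ∃ p, (ComplexShape.up ℕ).prev c = p := ⟨_, rfl⟩
  obtain ⟨s, hsd, hs1, hs2⟩ : ∃ s : (GK G R).homology c ⟶ G.obj (R.cocomplex.X c),
      s ≫ G.map (R.cocomplex.d c (c + 1)) = 0 ∧
      (∀ (F : A) (φ : F ⟶ (GK G R).homology c),
        (∃ h : F ⟶ G.obj (R.cocomplex.X p), h ≫ G.map (R.cocomplex.d p c) = φ ≫ s) → φ = 0) ∧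
      (∀ (F : A) (g : F ⟶ G.obj (R.cocomplex.X c)), g ≫ G.map (R.cocomplex.d c (c + 1)) = 0 →
        ∃ (φ : F ⟶ (GK G R).homology c) (h : F ⟶ G.obj (R.cocomplex.X p)),
          h ≫ G.map (R.cocomplex.d p c) = g - φ ≫ s) :=
    exists_section (GK G R) c p hp hK
  have hz₀ : ∀ {F : A} (φ : F ⟶ (GK G R).homology c),
      (φ ≫ s) ≫ G.map (R.cocomplex.d c (c + 1)) = 0 := by
    intro F φ
    exact (Category.assoc _ _ _).trans ((congrArg (fun z => φ ≫ z) hsd).trans comp_zero)
  refine ⟨R.extMk (hat adj R s) (c + 1) rfl (hat_cocycle adj R s _ hsd), fun F => ?_⟩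
  have hθ : ∀ φ : F ⟶ (GK G R).homology c,
      (Ext.mk₀ (L.map φ)).comp (R.extMk (hat adj R s) (c + 1) rfl
        (hat_cocycle adj R s _ hsd)) (zero_add c) =
      R.extMk (hat adj R (φ ≫ s)) (c + 1) rfl (hat_cocycle adj R _ _ (hz₀ φ)) := by
    intro φ
    rw [R.mk₀_comp_extMk]
    exact extMk_congr R (hat_comp adj R φ s).symm _ _ _
  constructor
  · intro φ₁ φ₂ h
    simp only [hθ] at h
    rw [← sub_eq_zero, R.sub_extMk] at h
    have h' : R.extMk (hat adj R ((φ₁ - φ₂) ≫ s)) (c + 1) rfl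
        (hat_cocycle adj R _ _ (hz₀ _)) = 0 := by
      rw [← h]
      exact extMk_congr R (by rw [Preadditive.sub_comp, hat_sub]) _ _ _
    obtain ⟨g, hg⟩ := (extMk_hat_eq_zero_iff adj R c p hp _ (hz₀ (φ₁ - φ₂))).mp h'
    exact sub_eq_zero.mp (hs1 F _ ⟨g, hg⟩)
  · intro α
    obtain ⟨f, hf, rfl⟩ := R.extMk_surjective α (c + 1) rfl
    obtain ⟨g, rfl⟩ := hat_surjective adj R f
    have hgd : g ≫ G.map (R.cocomplex.d c (c + 1)) = 0 := by
      apply hat_injective adj R
      rw [hat_zero]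
      exact (hat_d adj R g (c + 1)).trans hf
    obtain ⟨φ, h, hh⟩ := hs2 F g hgd
    have h0 := (extMk_hat_eq_zero_iff adj R c p hp (g - φ ≫ s) (by
      rw [Preadditive.sub_comp, hgd, hz₀, sub_zero])).mpr ⟨h, hh⟩
    refine ⟨φ, ?_⟩
    change (Ext.mk₀ (L.map φ)).comp _ (zero_add c) = _
    rw [hθ]
    symm
    rw [← sub_eq_zero, R.sub_extMk, ← h0]
    exact extMk_congr R (hat_sub adj R _ _).symm _ _ _

end Main

end Groth.Agent.Lib.Helper20.DualAbs
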