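import Mathlib
import Groth.Agent.Lib.Helper20.DualAbs
import Groth.Agent.Lib.Helper20.ExtDim

/-!
# Higher `Ext` in the abstract duality lemma (helper20)

`L : 𝒜 ⥤ ℬ` exact, `k`-linear, with right adjoint `G`; `R` an injective resolution of `W : ℬ`,
`K = G(R)`.  If `K` is exact in degrees `a < q ≤ a + j + 1`, then
`Ext^{j+1}_𝒜(F, ker d^a_K) ≃ₗ[k] Ext^{a+j+1}_ℬ(L F, W)` (`ext_kernel_equiv`).  If moreover `K` is exact in
degrees `< c`, then `Ext^{j+1}_𝒜(F, H^c(K)) ≃ₗ[k] Ext^{c+j+1}_ℬ(L F, W)` (`ext_homology_equiv`).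
-/

set_option autoImplicit false
set_option linter.unusedSectionVars false

universe w w' v u v' u'

open CategoryTheory Limits Abelian

namespace Groth.Agent.Lib.Helper20.DualAbs2

open Groth.Agent.Lib.Helper20.DualAbs

section Shift

variable {k : Type*} [Field k] {A : Type u} [Category.{v} A] [Abelian A] [Linear k A]
  [HasExt.{w} A]

/-- `Ext^{p+1}(F, X₃) ≃ Ext^{p+2}(F, X₁)` for a short exact sequence with injective middle term -/
theorem ext_shift (F : A) {S : ShortComplex A} (hS : S.ShortExact) [Injective S.X₂] (p : ℕ) :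
    Nonempty (Ext.{w} F S.X₃ (p + 1) ≃ₗ[k] Ext.{w} F S.X₁ (p + 2)) := by
  have h1 : Subsingleton (Ext.{w} F S.X₂ (p + 1)) := Ext.subsingleton_of_injective _ _ _
  have h2 : Subsingleton (Ext.{w} F S.X₂ (p + 2)) := Ext.subsingleton_of_injective _ _ _
  have hb : Function.Bijective (hS.extClass.postcompOfLinear k F (rfl : p + 1 + 1 = p + 2)) := by
    refine ExtDim.LA.bijective_of_exact ((Ext.mk₀ S.g).postcompOfLinear k F (add_zero (p + 1)))
      (hS.extClass.postcompOfLinear k F (rfl : p + 1 + 1 = p + 2))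
      ((Ext.mk₀ S.f).postcompOfLinear k F (add_zero (p + 2))) ?_ ?_
    · intro x
      constructor
      · intro hx
        exact Ext.covariant_sequence_exact₃ F hS x rfl hx
      · rintro ⟨y, rfl⟩
        show (y.comp (Ext.mk₀ S.g) (add_zero (p + 1))).comp hS.extClass rfl = 0
        rw [Ext.comp_assoc_of_second_deg_zero, hS.comp_extClass, Ext.comp_zero]
    · intro x
      constructor
      · intro hx
        exact Ext.covariant_sequence_exact₁ F hS x hx rfl
      · rintro ⟨y, rfl⟩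
        show (y.comp hS.extClass rfl).comp (Ext.mk₀ S.f) (add_zero (p + 2)) = 0
        rw [Ext.comp_assoc_of_third_deg_zero, hS.extClass_comp, Ext.comp_zero]
  exact ⟨LinearEquiv.ofBijective _ hb⟩

/-- `Ext^{p+1}(F, X₂) ≃ Ext^{p+1}(F, X₃)` for a short exact sequence with injective kernel -/
theorem ext_quot (F : A) {S : ShortComplex A} (hS : S.ShortExact) [Injective S.X₁] (p : ℕ) :
    Nonempty (Ext.{w} F S.X₂ (p + 1) ≃ₗ[k] Ext.{w} F S.X₃ (p + 1)) := by
  have h1 : Subsingleton (Ext.{w} F S.X₁ (p + 1)) := Ext.subsingleton_of_injective _ _ _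
  have h2 : Subsingleton (Ext.{w} F S.X₁ (p + 2)) := Ext.subsingleton_of_injective _ _ _
  have hb : Function.Bijective ((Ext.mk₀ S.g).postcompOfLinear k F (add_zero (p + 1))) := by
    refine ExtDim.LA.bijective_of_exact ((Ext.mk₀ S.f).postcompOfLinear k F (add_zero (p + 1)))
      ((Ext.mk₀ S.g).postcompOfLinear k F (add_zero (p + 1)))
      (hS.extClass.postcompOfLinear k F (rfl : p + 1 + 1 = p + 2)) ?_ ?_
    · intro x
      constructor
      · intro hx
        exact Ext.covariant_sequence_exact₂ F hS x hx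
      · rintro ⟨y, rfl⟩
        show (y.comp (Ext.mk₀ S.f) (add_zero (p + 1))).comp (Ext.mk₀ S.g) (add_zero (p + 1)) = 0
        rw [Ext.comp_assoc_of_third_deg_zero, Ext.mk₀_comp_mk₀, S.zero, Ext.mk₀_zero, Ext.comp_zero]
    · intro x
      constructor
      · intro hx
        exact Ext.covariant_sequence_exact₃ F hS x rfl hx
      · rintro ⟨y, rfl⟩
        show (y.comp (Ext.mk₀ S.g) (add_zero (p + 1))).comp hS.extClass rfl = 0
        rw [Ext.comp_assoc_of_second_deg_zero, hS.comp_extClass, Ext.comp_zero]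
  exact ⟨LinearEquiv.ofBijective _ hb⟩

/-- the connecting map `Hom(F, X₃) → Ext^1(F, X₁)` of a short exact sequence with injective middle
term is surjective, with kernel the maps factoring through `X₂` -/
theorem ext_one (F : A) {S : ShortComplex A} (hS : S.ShortExact) [Injective S.X₂] :
    ∃ δ : (F ⟶ S.X₃) →ₗ[k] Ext.{w} F S.X₁ 1, Function.Surjective δ ∧
      ∀ g, δ g = 0 ↔ ∃ h : F ⟶ S.X₂, h ≫ S.g = g := by
  have h1 : Subsingleton (Ext.{w} F S.X₂ 1) := Ext.subsingleton_of_injective _ _ _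
  refine ⟨(hS.extClass.postcompOfLinear k F (zero_add 1)) ∘ₗ
    (Ext.linearEquiv₀ (R := k)).symm.toLinearMap, ?_, ?_⟩
  · intro x
    obtain ⟨x₃, hx₃⟩ := Ext.covariant_sequence_exact₁ F hS x (Subsingleton.elim _ _)
      (zero_add 1)
    refine ⟨Ext.linearEquiv₀ (R := k) x₃, ?_⟩
    change ((Ext.linearEquiv₀ (R := k)).symm (Ext.linearEquiv₀ (R := k) x₃)).comp hS.extClass
      (zero_add 1) = x
    rw [LinearEquiv.symm_apply_apply, hx₃]
  · intro g
    change (Ext.mk₀ g).comp hS.extClass (zero_add 1) = 0 ↔ _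
    constructor
    · intro hg
      obtain ⟨x₂, hx₂⟩ := Ext.covariant_sequence_exact₃ F hS (Ext.mk₀ g) (zero_add 1) hg
      obtain ⟨h, rfl⟩ := (Ext.mk₀_bijective F S.X₂).2 x₂
      rw [Ext.mk₀_comp_mk₀] at hx₂
      exact ⟨h, (Ext.mk₀_bijective F S.X₃).1 hx₂⟩
    · rintro ⟨h, rfl⟩
      rw [← Ext.mk₀_comp_mk₀, Ext.comp_assoc_of_second_deg_zero, hS.comp_extClass, Ext.comp_zero]

/-- `Ext^n(F, -)` of an isomorphism -/
noncomputable def extCongrRight (F : A) {Y Y' : A} (e : Y ≅ Y') (n : ℕ) :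
    Ext.{w} F Y n ≃ₗ[k] Ext.{w} F Y' n :=
  LinearEquiv.ofLinear ((Ext.mk₀ e.hom).postcompOfLinear k F (add_zero n))
    ((Ext.mk₀ e.inv).postcompOfLinear k F (add_zero n))
    (by
      ext x
      change (x.comp (Ext.mk₀ e.inv) (add_zero n)).comp (Ext.mk₀ e.hom) (add_zero n) = x
      rw [Ext.comp_assoc_of_third_deg_zero, Ext.mk₀_comp_mk₀, e.inv_hom_id, Ext.comp_mk₀_id])
    (by
      ext x
      change (x.comp (Ext.mk₀ e.hom) (add_zero n)).comp (Ext.mk₀ e.inv) (add_zero n) = x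
      rw [Ext.comp_assoc_of_third_deg_zero, Ext.mk₀_comp_mk₀, e.hom_inv_id, Ext.comp_mk₀_id])

end Shift


section Kernels

variable {A : Type u} [Category.{v} A] [Abelian A] (K : CochainComplex A ℕ)
  [∀ q, Injective (K.X q)]

/-- if `K` (with injective terms) is exact in degrees `< c`, the kernel of `Z^c(K) → H^c(K)` is
injective -/
theorem injective_kernel_homologyπ (c p : ℕ) (hp : (ComplexShape.up ℕ).prev c = p)
    (hK : ∀ q, q < c → K.ExactAt q) : Injective (kernel (K.homologyπ c)) := by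
  have htπ : K.toCycles p c ≫ K.homologyπ c = 0 := K.toCycles_comp_homologyπ p c
  have hex : (ShortComplex.mk _ _ htπ).Exact :=
    ShortComplex.exact_of_g_is_cokernel _ (K.homologyIsCokernel p c hp)
  have hepi : Epi (kernel.lift (K.homologyπ c) (K.toCycles p c) htπ) := hex.epi_kernelLift
  have hker : Injective (kernel (K.d p c)) := by
    rcases c with _ | c'
    · have hp0 : p = 0 := by rw [← hp]; exact CochainComplex.prev_nat_zero
      subst hp0
      have h0 : K.d 0 0 = 0 := K.shape _ _ (by simp)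
      exact Injective.of_iso (kernelIsoOfEq h0 ≪≫ kernelZeroIsoSource).symm inferInstance
    · have hp0 : p = c' := by rw [← hp]; exact CochainComplex.prev_nat_succ c'
      subst hp0
      exact injective_kernel K (p + 1) hK p (by omega)
  generalize hπ : K.homologyπ c = π at *
  generalize ht : K.toCycles p c = t at *
  have hti : t ≫ K.iCycles c = K.d p c := by rw [← ht, K.toCycles_i]
  generalize he : kernel.lift π t htπ = e at *
  have heι : e ≫ kernel.ι π = t := by rw [← he, kernel.lift_ι]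
  have hed : e ≫ kernel.ι π ≫ K.iCycles c = K.d p c := by
    rw [reassoc_of% heι, hti]
  have hkere : Injective (kernel e) :=
    Injective.of_iso (kernelIsoOfEq hed.symm ≪≫ kernelCompMono e (kernel.ι π ≫ K.iCycles c)) hker
  have hS₂ : (ShortComplex.mk (kernel.ι e) e (kernel.condition e)).ShortExact :=
    { exact := ShortComplex.exact_of_f_is_kernel _ (kernelIsKernel e)
      mono_f := inferInstanceAs (Mono (kernel.ι e))
      epi_g := hepi }
  have : Injective (ShortComplex.mk (kernel.ι e) e (kernel.condition e)).X₁ := hkere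
  obtain ⟨s₂, hs₂⟩ : ∃ s₂ : kernel π ⟶ K.X p, s₂ ≫ e = 𝟙 _ :=
    ⟨hS₂.splittingOfInjective.s, hS₂.splittingOfInjective.s_g⟩
  exact Retract.injective (Y := K.X p) { i := s₂, r := e, retract := hs₂ }

/-- the short exact sequence `0 → ker π → Z^c(K) → H^c(K) → 0` -/
lemma shortExact_homologyπ (c : ℕ) :
    (ShortComplex.mk (kernel.ι (K.homologyπ c)) (K.homologyπ c)
      (kernel.condition (K.homologyπ c))).ShortExact :=
  { exact := ShortComplex.exact_of_f_is_kernel _ (kernelIsKernel (K.homologyπ c))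
    mono_f := inferInstanceAs (Mono (kernel.ι (K.homologyπ c)))
    epi_g := inferInstanceAs (Epi (K.homologyπ c)) }

/-- the cycles are the kernel of the differential -/
noncomputable def cyclesIsoKernel (c : ℕ) : K.cycles c ≅ kernel (K.d c (c + 1)) := by
  have h1 := K.cyclesIsKernel c (c + 1) (by simp)
  have h2 := kernelIsKernel (K.d c (c + 1))
  let e := IsLimit.conePointUniqueUpToIso h1 h2
  exact e

end Kernels

section LA

variable {k : Type*} [Field k] {V W1 W2 : Type*} [AddCommGroup V] [Module k V]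
  [AddCommGroup W1] [Module k W1] [AddCommGroup W2] [Module k W2]

/-- two surjections with the same kernel have isomorphic targets -/
theorem equiv_of_surjective_of_ker (a : V →ₗ[k] W1) (b : V →ₗ[k] W2) (ha : Function.Surjective a)
    (hb : Function.Surjective b) (hab : ∀ v, a v = 0 ↔ b v = 0) : Nonempty (W1 ≃ₗ[k] W2) := by
  have hker : LinearMap.ker a = LinearMap.ker b := by
    ext v
    simp only [LinearMap.mem_ker]
    exact hab v
  exact ⟨(a.quotKerEquivOfSurjective ha).symm.trans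
    ((Submodule.quotEquivOfEq _ _ hker).trans (b.quotKerEquivOfSurjective hb))⟩

end LA

section Main

variable {k : Type*} [Field k]
  {A : Type u} [Category.{v} A] [Abelian A] [Linear k A] [HasExt.{w} A]
  {B : Type u'} [Category.{v'} B] [Abelian B] [Linear k B] [HasExt.{w'} B]
  {L : A ⥤ B} {G : B ⥤ A} (adj : L ⊣ G) [L.Additive] [G.Additive] [L.Linear k]
  {W : B} (R : InjectiveResolution W)

lemma hat_smul {F : A} {q : ℕ} (r : k) (g : F ⟶ G.obj (R.cocomplex.X q)) :
    hat adj R (r • g) = r • hat adj R g := by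
  simp [hat, Functor.map_smul, Linear.smul_comp]

lemma hat_add {F : A} {q : ℕ} (g g' : F ⟶ G.obj (R.cocomplex.X q)) :
    hat adj R (g + g') = hat adj R g + hat adj R g' := by
  simp [hat, Functor.map_add, Preadditive.add_comp]

omit [L.Additive] [G.Additive] [L.Linear k] in
lemma smul_extMk {X : B} {n : ℕ} (r : k) (f : X ⟶ R.cocomplex.X n) (m : ℕ) (hm : n + 1 = m)
    (hf : f ≫ R.cocomplex.d n m = 0) :
    r • R.extMk f m hm hf = R.extMk (r • f) m hm (by rw [Linear.smul_comp, hf, smul_zero]) := by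
  have h1 : r • R.extMk f m hm hf =
      (Ext.mk₀ (r • 𝟙 X)).comp (R.extMk f m hm hf) (zero_add n) := by
    rw [Ext.mk₀_smul, Ext.smul_comp, Ext.mk₀_id_comp]
  rw [h1, R.mk₀_comp_extMk]
  exact extMk_congr R (by rw [Linear.smul_comp, Category.id_comp]) _ _ _

include adj in
/-- **the `ℬ`-side**: `Ext^{a+1}(L F, W)` is the quotient of `Hom(F, ker d^{a+1})` by the maps
factoring through `K^a` -/
theorem bside (F : A) (a : ℕ) :
    ∃ β : (F ⟶ (scZ (GK G R) a).X₃) →ₗ[k] Ext.{w'} (L.obj F) W (a + 1),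
      Function.Surjective β ∧
      ∀ g, β g = 0 ↔ ∃ h : F ⟶ (scZ (GK G R) a).X₂, h ≫ (scZ (GK G R) a).g = g := by
  -- the inclusion of the kernel
  obtain ⟨ι, hι, hιd, hlift, hgι⟩ : ∃ ι : (scZ (GK G R) a).X₃ ⟶ G.obj (R.cocomplex.X (a + 1)),
      Mono ι ∧ ι ≫ G.map (R.cocomplex.d (a + 1) (a + 2)) = 0 ∧
      (∀ (F : A) (g : F ⟶ G.obj (R.cocomplex.X (a + 1))),
        g ≫ G.map (R.cocomplex.d (a + 1) (a + 2)) = 0 → ∃ g' : F ⟶ (scZ (GK G R) a).X₃, g' ≫ ι = g) ∧
      (∀ (F : A) (h : F ⟶ (scZ (GK G R) a).X₂),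
        (h ≫ (scZ (GK G R) a).g) ≫ ι = h ≫ G.map (R.cocomplex.d a (a + 1))) := by
    refine ⟨kernel.ι ((GK G R).d (a + 1) (a + 2)),
      (inferInstance : Mono (kernel.ι ((GK G R).d (a + 1) (a + 2)))), kernel.condition _, ?_, ?_⟩
    · intro F g hg
      exact ⟨kernel.lift ((GK G R).d (a + 1) (a + 2)) g hg, kernel.lift_ι _ _ _⟩
    · intro F h
      have : (scZ (GK G R) a).g ≫ kernel.ι ((GK G R).d (a + 1) (a + 2)) = (GK G R).d a (a + 1) :=
        kernel.lift_ι _ _ _
      exact (Category.assoc _ _ _).trans (congrArg (fun z => h ≫ z) this)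
  have hcoc : ∀ g : F ⟶ (scZ (GK G R) a).X₃,
      (g ≫ ι) ≫ G.map (R.cocomplex.d (a + 1) (a + 2)) = 0 := fun g => by
    rw [Category.assoc, hιd, comp_zero]
  let β₀ : (F ⟶ (scZ (GK G R) a).X₃) → Ext.{w'} (L.obj F) W (a + 1) := fun g =>
    R.extMk (hat adj R (g ≫ ι)) (a + 2) rfl (hat_cocycle adj R _ _ (hcoc g))
  have hadd : ∀ g g', β₀ (g + g') = β₀ g + β₀ g' := by
    intro g g'
    change R.extMk _ _ _ _ = R.extMk _ _ _ _ + R.extMk _ _ _ _
    rw [R.add_extMk]
    exact extMk_congr R (by rw [Preadditive.add_comp, hat_add]) _ _ _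
  have hsmul : ∀ (r : k) g, β₀ (r • g) = r • β₀ g := by
    intro r g
    change R.extMk _ _ _ _ = r • R.extMk _ _ _ _
    rw [smul_extMk]
    exact extMk_congr R (by rw [Linear.smul_comp, hat_smul]) _ _ _
  refine ⟨{ toFun := β₀, map_add' := hadd, map_smul' := hsmul }, ?_, ?_⟩
  · intro α
    obtain ⟨f, hf, rfl⟩ := R.extMk_surjective α (a + 2) rfl
    obtain ⟨g, rfl⟩ := hat_surjective adj R f
    have hgd : g ≫ G.map (R.cocomplex.d (a + 1) (a + 2)) = 0 := by
      apply hat_injective adj R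
      rw [hat_zero]
      exact (hat_d adj R g (a + 2)).trans hf
    obtain ⟨g', rfl⟩ := hlift F g hgd
    exact ⟨g', rfl⟩
  · intro g
    change R.extMk (hat adj R (g ≫ ι)) (a + 2) rfl (hat_cocycle adj R _ _ (hcoc g)) = 0 ↔ _
    rw [extMk_hat_eq_zero_iff adj R (a + 1) a (CochainComplex.prev_nat_succ a) (g ≫ ι) (hcoc g)]
    constructor
    · rintro ⟨h, hh⟩
      refine ⟨h, ?_⟩
      rw [← cancel_mono ι]
      exact (hgι F h).trans hh
    · rintro ⟨h, rfl⟩
      exact ⟨h, (hgι F h).symm⟩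

variable [PreservesFiniteLimits L]

include adj in
/-- **higher `Ext` into the kernels of `G(R)`**: if `G(R)` is exact in degrees `a < q ≤ a + j + 1`, then
`Ext^{j+1}(F, ker d^a) ≃ₗ[k] Ext^{a+j+1}(L F, W)` -/
theorem ext_kernel_equiv (F : A) (j : ℕ) : ∀ (a m : ℕ), a + j + 1 = m →
    (∀ q, a < q → q ≤ m → (GK G R).ExactAt q) →
    Nonempty (Ext.{w} F (scZ (GK G R) a).X₁ (j + 1) ≃ₗ[k] Ext.{w'} (L.obj F) W m) := by
  have hinj : ∀ q, Injective ((GK G R).X q) := fun q =>
    Injective.injective_of_adjoint adj (R.cocomplex.X q)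
  induction j with
  | zero =>
    intro a m hm hex
    obtain rfl : m = a + 1 := by omega
    have hS := scZ_shortExact (GK G R) a (hex (a + 1) (by omega) (by omega))
    have : Injective (scZ (GK G R) a).X₂ := hinj a
    obtain ⟨δ, hδ1, hδ2⟩ := ext_one (k := k) F hS
    obtain ⟨β, hβ1, hβ2⟩ := bside (k := k) adj R F a
    exact equiv_of_surjective_of_ker δ β hδ1 hβ1 (fun g => (hδ2 g).trans (hβ2 g).symm)
  | succ j ih =>
    intro a m hm hex
    have hS := scZ_shortExact (GK G R) a (hex (a + 1) (by omega) (by omega))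
    have : Injective (scZ (GK G R) a).X₂ := hinj a
    obtain ⟨e1⟩ := ext_shift (k := k) F hS j
    obtain ⟨e2⟩ := ih (a + 1) m (by omega) (fun q h1 h2 => hex q (by omega) h2)
    exact ⟨e1.symm.trans e2⟩

include adj in
/-- **higher `Ext` into the cohomology of `G(R)`**: if `G(R)` is exact in degrees `< c` and in degrees
`c < q ≤ c + j + 1`, then `Ext^{j+1}(F, H^c(G R)) ≃ₗ[k] Ext^{c+j+1}(L F, W)` -/
theorem ext_homology_equiv (F : A) (c j m : ℕ) (hm : c + j + 1 = m)
    (hlow : ∀ q, q < c → (GK G R).ExactAt q)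
    (hhigh : ∀ q, c < q → q ≤ m → (GK G R).ExactAt q) :
    Nonempty (Ext.{w} F ((GK G R).homology c) (j + 1) ≃ₗ[k] Ext.{w'} (L.obj F) W m) := by
  have hinj : ∀ q, Injective ((GK G R).X q) := fun q =>
    Injective.injective_of_adjoint adj (R.cocomplex.X q)
  obtain ⟨e1⟩ := ext_kernel_equiv (k := k) adj R F j c m hm hhigh
  have hS := shortExact_homologyπ (GK G R) c
  have : Injective (ShortComplex.mk (kernel.ι ((GK G R).homologyπ c)) ((GK G R).homologyπ c)
      (kernel.condition ((GK G R).homologyπ c))).X₁ :=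
    injective_kernel_homologyπ (GK G R) c _ rfl hlow
  obtain ⟨e2⟩ := ext_quot (k := k) F hS j
  exact ⟨e2.symm.trans ((extCongrRight F (cyclesIsoKernel (GK G R) c) (j + 1)).trans e1)⟩

include adj in
/-- degree `0`: `Hom(F, H^c(G R)) ≃ₗ[k] Ext^c(L F, W)` -/
theorem hom_homology_equiv (F : A) (c : ℕ) (hK : ∀ q, q < c → (GK G R).ExactAt q) :
    Nonempty ((F ⟶ (GK G R).homology c) ≃ₗ[k] Ext.{w'} (L.obj F) W c) := by
  obtain ⟨ξ, hξ⟩ := exists_ext_class adj R c hK
  let f : (F ⟶ (GK G R).homology c) →ₗ[k] Ext.{w'} (L.obj F) W c :=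
    (ξ.postcompOfLinear k (L.obj F) (zero_add c)) ∘ₗ
      ((Ext.linearEquiv₀ (R := k)).symm.toLinearMap ∘ₗ (L.mapLinearMap k))
  exact ⟨LinearEquiv.ofBijective f (hξ F)⟩

include adj in
/-- **all degrees**: if `G(R)` is exact in degrees `< c` and `c < q ≤ c + i`, then
`Ext^i(F, H^c(G R)) ≃ₗ[k] Ext^{c+i}(L F, W)` -/
theorem ext_all_equiv (F : A) (c i m : ℕ) (hm : c + i = m)
    (hlow : ∀ q, q < c → (GK G R).ExactAt q)
    (hhigh : ∀ q, c < q → q ≤ m → (GK G R).ExactAt q) :
    Nonempty (Ext.{w} F ((GK G R).homology c) i ≃ₗ[k] Ext.{w'} (L.obj F) W m) := by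
  cases i with
  | zero =>
    have hmc : c = m := by omega
    subst hmc
    obtain ⟨e⟩ := hom_homology_equiv (k := k) adj R F c hlow
    exact ⟨(Ext.linearEquiv₀ (R := k)).trans e⟩
  | succ j => exact ext_homology_equiv adj R F c j m (by omega) hlow hhigh

end Main

end Groth.Agent.Lib.Helper20.DualAbs2
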