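import Mathlib
import Groth.Agent.Lib.Helper20.ClosedImmAdj
import Groth.Agent.Lib.Helper20.DualAbs
import Groth.Agent.Lib.Helper8.ClosedImmUnit

/-!
# `ι_*` for a closed immersion: conservativity, full faithfulness on quasi-coherent modules,
and `ℰxt^q(ι_* O_X, W) ≅ ι_* H^q(ι^! R)` (helper20)
-/

set_option autoImplicit false
set_option backward.isDefEq.respectTransparency false
set_option linter.unusedSectionVars false

universe u

open CategoryTheory Limits AlgebraicGeometry Opposite

namespace Groth.Agent.Lib.Helper20.ClosedImmDual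

open Groth.Agent.Lib.Helper20.ClosedImmAdj Groth.Agent.Lib.Helper20.DualAbs

variable {X P : Scheme.{u}} (ι : X ⟶ P) [IsClosedImmersion ι]

/-- every open of `X` is the preimage of an open of `P` -/
lemma exists_preimage_eq (V : X.Opens) : ∃ U : P.Opens, ι ⁻¹ᵁ U = V := by
  obtain ⟨t, ht, htV⟩ := ι.isClosedEmbedding.isEmbedding.isInducing.isOpen_iff.mp V.2
  exact ⟨⟨t, ht⟩, TopologicalSpace.Opens.ext htV⟩

/-- sections of an isomorphism are bijective -/
lemma bijective_app_of_isIso {Y : Scheme.{u}} {F G : Y.Modules} (u : F ⟶ G) [IsIso u]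
    (U : Y.Opens) : Function.Bijective (u.app U).hom := by
  refine ⟨Function.LeftInverse.injective (g := ((inv u).app U).hom) fun x => ?_,
    Function.RightInverse.surjective (g := ((inv u).app U).hom) fun x => ?_⟩
  · have : (u ≫ inv u).app U = 𝟙 _ := by rw [IsIso.hom_inv_id]; rfl
    exact congr($(this).hom x)
  · have : (inv u ≫ u).app U = 𝟙 _ := by rw [IsIso.inv_hom_id]; rfl
    exact congr($(this).hom x)

/-- `ι_*` reflects isomorphisms -/
theorem isIso_of_isIso_pushforward {F₁ F₂ : X.Modules} (φ : F₁ ⟶ F₂)
    [h : IsIso ((Scheme.Modules.pushforward ι).map φ)] : IsIso φ := by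
  rw [Groth.Agent.Lib.helper8.ClosedImmUnit.isIso_iff_bijective_app_affine]
  intro V _
  obtain ⟨U, rfl⟩ := exists_preimage_eq ι V
  exact bijective_app_of_isIso ((Scheme.Modules.pushforward ι).map φ) U

/-- `ι_*` is faithful -/
instance faithful_pushforward : (Scheme.Modules.pushforward ι).Faithful where
  map_injective {F₁ F₂} φ ψ h := by
    refine Scheme.Modules.hom_ext _ _ fun V => ?_
    obtain ⟨U, rfl⟩ := exists_preimage_eq ι V
    exact congrArg (fun z => Scheme.Modules.Hom.app z U) h

/-- `ι_*` reflects zero objects -/
theorem isZero_of_isZero_pushforward (F : X.Modules)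
    (h : IsZero ((Scheme.Modules.pushforward ι).obj F)) : IsZero F := by
  rw [IsZero.iff_id_eq_zero]
  apply (Scheme.Modules.pushforward ι).map_injective
  rw [CategoryTheory.Functor.map_id, CategoryTheory.Functor.map_zero]
  exact (IsZero.iff_id_eq_zero _).mp h

/-- the counit `ι^* ι_* F ⟶ F` is an isomorphism when `ι_* F` is quasi-coherent -/
theorem isIso_counit (F : X.Modules) [hq : ((Scheme.Modules.pushforward ι).obj F).IsQuasicoherent] :
    IsIso ((Scheme.Modules.pullbackPushforwardAdjunction ι).counit.app F) := by
  have h1 : IsIso ((Scheme.Modules.pullbackPushforwardAdjunction ι).unit.app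
      ((Scheme.Modules.pushforward ι).obj F)) := by
    rw [Groth.Agent.Lib.helper8.ClosedImmUnit.isIso_unit_iff_of_isClosedImmersion]
    intro U a ha s
    rw [Scheme.Hom.ker_apply] at ha
    rw [Groth.Agent.Lib.Helper25.StalkSky.pushforward_smul, (RingHom.mem_ker).mp ha, zero_smul]
  have h2 := (Scheme.Modules.pullbackPushforwardAdjunction ι).right_triangle_components F
  have h3 : IsIso ((Scheme.Modules.pullbackPushforwardAdjunction ι).unit.app
        ((Scheme.Modules.pushforward ι).obj F) ≫
      (Scheme.Modules.pushforward ι).map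
        ((Scheme.Modules.pullbackPushforwardAdjunction ι).counit.app F)) := by
    rw [h2]; infer_instance
  have h4 : IsIso ((Scheme.Modules.pushforward ι).map
      ((Scheme.Modules.pullbackPushforwardAdjunction ι).counit.app F)) :=
    IsIso.of_isIso_comp_left ((Scheme.Modules.pullbackPushforwardAdjunction ι).unit.app
      ((Scheme.Modules.pushforward ι).obj F)) _
  exact isIso_of_isIso_pushforward ι _

/-- `ι_*` is fully faithful on maps out of `F` with `ι_* F` quasi-coherent -/
theorem map_bijective (F F' : X.Modules)
    [hq : ((Scheme.Modules.pushforward ι).obj F).IsQuasicoherent] :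
    Function.Bijective (fun φ : F ⟶ F' => (Scheme.Modules.pushforward ι).map φ) := by
  have := isIso_counit ι F
  have e : (fun φ : F ⟶ F' => (Scheme.Modules.pushforward ι).map φ) =
      (Scheme.Modules.pullbackPushforwardAdjunction ι).homEquiv _ _ ∘
        (fun φ => (Scheme.Modules.pullbackPushforwardAdjunction ι).counit.app F ≫ φ) := by
    funext φ
    simp only [Function.comp, Adjunction.homEquiv_unit, Functor.map_comp]
    rw [← Category.assoc,
      (Scheme.Modules.pullbackPushforwardAdjunction ι).right_triangle_components F,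
      Category.id_comp]
  rw [e]
  refine (Equiv.bijective _).comp ?_
  exact ⟨fun a b h => (cancel_epi _).mp h,
    fun a => ⟨inv ((Scheme.Modules.pullbackPushforwardAdjunction ι).counit.app F) ≫ a, by simp⟩⟩

section Homology

instance additive_shriek : (shriek ι).Additive := (shriekAdj ι).right_adjoint_additive

instance preservesFiniteLimits_pushforward :
    PreservesFiniteLimits (Scheme.Modules.pushforward ι) := by
  have h : PreservesLimitsOfSize.{0, 0} (Scheme.Modules.pushforward ι) :=
    (Scheme.Modules.pullbackPushforwardAdjunction ι).rightAdjoint_preservesLimits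
  exact PreservesLimitsOfSize.preservesFiniteLimits _

instance preservesFiniteColimits_pushforward :
    PreservesFiniteColimits (Scheme.Modules.pushforward ι) :=
  Groth.Agent.Lib.helper8.RpushClosed.preservesFiniteColimits_pushforward ι

instance additive_pushforward : (Scheme.Modules.pushforward ι).Additive :=
  (Scheme.Modules.pullbackPushforwardAdjunction ι).right_adjoint_additive

variable [ModSite.HasSheafHom (O := P.sheaf)
    ((Scheme.Modules.pushforward ι).obj (Coh.structureModule X))]
  [HasInjectiveResolutions (ModSite.Mod P.sheaf)]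

/-- the complex `ι_* ι^! R` computes `ℰxt^q(ι_* O_X, W)` -/
noncomputable def extShIso₁ (W : P.Modules) (R : InjectiveResolution W) (q : ℕ) :
    (ModSite.extSh (O := P.sheaf)
        ((Scheme.Modules.pushforward ι).obj (Coh.structureModule X)) q).obj W ≅
      (HomologicalComplex.homologyFunctor _ _ q).obj
        (((shriek ι ⋙ Scheme.Modules.pushforward ι).mapHomologicalComplex
          (ComplexShape.up ℕ)).obj R.cocomplex) :=
  haveI := ModSite.sheafHom_additive (O := P.sheaf)
    ((Scheme.Modules.pushforward ι).obj (Coh.structureModule X))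
  haveI : (shriek ι ⋙ Scheme.Modules.pushforward ι).Additive := inferInstance
  haveI : (shriek ι ⋙ Scheme.Modules.pushforward ι).PreservesZeroMorphisms :=
    Functor.preservesZeroMorphisms_of_additive _
  R.isoRightDerivedObj (ModSite.sheafHom (O := P.sheaf)
      ((Scheme.Modules.pushforward ι).obj (Coh.structureModule X))) q ≪≫
    (HomologicalComplex.homologyFunctor _ _ q).mapIso
      ((NatIso.mapHomologicalComplex (sheafHomPushIso ι) (ComplexShape.up ℕ)).app R.cocomplex)

/-- `ι_*` commutes with the cohomology of `ι^! R` -/
noncomputable def extShIso₂ (W : P.Modules) (R : InjectiveResolution W) (q : ℕ) :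
    (HomologicalComplex.homologyFunctor _ _ q).obj
        (((shriek ι ⋙ Scheme.Modules.pushforward ι).mapHomologicalComplex
          (ComplexShape.up ℕ)).obj R.cocomplex) ≅
      (Scheme.Modules.pushforward ι).obj ((GK (shriek ι) R).homology q) :=
  ((GK (shriek ι) R).sc q).mapHomologyIso (Scheme.Modules.pushforward ι)

/-- `ℰxt^q(ι_* O_X, W) ≅ ι_* H^q(ι^! R)` for an injective resolution `R` of `W` -/
noncomputable def extShIso (W : P.Modules) (R : InjectiveResolution W) (q : ℕ) :
    (ModSite.extSh (O := P.sheaf)
        ((Scheme.Modules.pushforward ι).obj (Coh.structureModule X)) q).obj W ≅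
      (Scheme.Modules.pushforward ι).obj ((GK (shriek ι) R).homology q) :=
  extShIso₁ ι W R q ≪≫ extShIso₂ ι W R q

end Homology

end Groth.Agent.Lib.Helper20.ClosedImmDual
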