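import Mathlib
import Groth.Prelude.Def_KLin
import Groth.Agent.Lib.Helper20.ClosedImmHH
import Groth.Agent.Lib.Helper18.HHLES

/-!
# `H^p(S, ι_* M) ≃ₗ[k] H^p(X, M)` for a closed immersion over `k`, naturally in `M` (helper20)
-/

set_option autoImplicit false
set_option linter.unusedSectionVars false

universe u

open CategoryTheory Limits AlgebraicGeometry Opposite TopologicalSpace Abelian

namespace Groth.Agent.Lib.Helper20.ClosedImmHH

open Groth.Agent.Lib.helper27 Groth.Agent.Lib.Helper18.HH

variable {X S : Scheme.{u}} (ι : X ⟶ S) [IsClosedImmersion ι]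

lemma pushEquivAddClosed_apply (M : X.Modules) (p : ℕ)
    (x : Coh.HH S ((Scheme.Modules.pushforward ι).obj M) p) :
    pushEquivAddClosed ι M p x =
      (Ext.mk₀ ((PullConst.pullConstIso ι.base).app (AddCommGrpCat.of (ULift ℤ))).inv).comp
        (ExtAdj.Ψ.{u, u} (PullConst.pbAdj ι.base) (ZZ' S) (Coh.toAb M) p x) (zero_add p) := rfl

/-- naturality of `pushEquivAddClosed` -/
theorem pushEquivAddClosed_natural {M M' : X.Modules} (g : M ⟶ M') (p : ℕ)
    (x : Coh.HH S ((Scheme.Modules.pushforward ι).obj M) p) :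
    pushEquivAddClosed ι M' p (map ((Scheme.Modules.pushforward ι).map g) p x) =
      map g p (pushEquivAddClosed ι M p x) := by
  have h1 : ExtAdj.Ψ.{u, u} (PullConst.pbAdj ι.base) (ZZ' S) (Coh.toAb M') p
      (map ((Scheme.Modules.pushforward ι).map g) p x) =
      (ExtAdj.Ψ.{u, u} (PullConst.pbAdj ι.base) (ZZ' S) (Coh.toAb M) p x).comp
        (Ext.mk₀ (abMap g)) (add_zero p) :=
    ExtAdj.Ψ_natural.{u, u} (PullConst.pbAdj ι.base) (ZZ' S) (abMap g) p x
  rw [pushEquivAddClosed_apply, pushEquivAddClosed_apply, h1, map_apply, Sheaf.H.map_apply,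
    Ext.comp_assoc_of_third_deg_zero]

variable (k : Type u) [Field k] [X.Over (Spec (CommRingCat.of k))] [S.Over (Spec (CommRingCat.of k))]
  [ι.IsOver (Spec (CommRingCat.of k))]

/-- `H^p(S, ι_* M) ≃ₗ[k] H^p(X, M)` -/
noncomputable def pushEquivLin (M : X.Modules) (p : ℕ) :
    Coh.HH S ((Scheme.Modules.pushforward ι).obj M) p ≃ₗ[k] Coh.HH X M p :=
  { pushEquivAddClosed ι M p with
    map_smul' := fun c x => by
      have h1 : c • x = map (Formal.smulMod k ((Scheme.Modules.pushforward ι).obj M) c) p x := rfl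
      have h2 : Formal.smulMod k ((Scheme.Modules.pushforward ι).obj M) c =
          (Scheme.Modules.pushforward ι).map (Formal.smulMod k M c) := by
        rw [← KLin.smul_id, ← KLin.smul_id, Functor.map_smul, CategoryTheory.Functor.map_id]
      change pushEquivAddClosed ι M p (c • x) = c • pushEquivAddClosed ι M p x
      rw [h1, h2, pushEquivAddClosed_natural]
      rfl }

lemma pushEquivLin_natural {M M' : X.Modules} (g : M ⟶ M') (p : ℕ)
    (x : Coh.HH S ((Scheme.Modules.pushforward ι).obj M) p) :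
    pushEquivLin ι k M' p (mapOver k ((Scheme.Modules.pushforward ι).map g) p x) =
      mapOver k g p (pushEquivLin ι k M p x) :=
  pushEquivAddClosed_natural ι g p x

end Groth.Agent.Lib.Helper20.ClosedImmHH
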