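import Mathlib
import Groth.Prelude.Def_Coh
import Groth.Prelude.Def_KLin
import Groth.Agent.Lib.Helper18.HHLES

/-!
# The Yoneda pairing `Ext^i(M, W) × H^j(X, M) → H^{i+j}(X, W)` (helper20)

`pair h ξ a = a ∘ toAb(ξ)` (composition in the `Ext` groups of abelian sheaves), its naturality,
its compatibility with connecting homomorphisms (`pair_extClass`), and the `k`-linear duality
map `ΨLin t : Ext^i(M, W) →ₗ[k] (H^j(X, M) →ₗ[k] k)` attached to a linear form `t` on `H^{i+j}(W)`.
-/

set_option autoImplicit false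
set_option linter.unusedSectionVars false

universe u

open CategoryTheory Limits AlgebraicGeometry Abelian

namespace Groth.Agent.Lib.Helper20.YonedaPair

open Groth.Agent.Lib.Helper18.HH

variable {X : Scheme.{u}} [HasExt.{u} X.Modules]

/-- the Yoneda pairing -/
noncomputable def pair {M W : X.Modules} {i j m : ℕ} (h : j + i = m) (ξ : Ext.{u} M W i)
    (a : Coh.HH X M j) : Coh.HH X W m :=
  Ext.comp a (ξ.mapExactFunctor (toAbF X)) h

lemma pair_add_left {M W : X.Modules} {i j m : ℕ} (h : j + i = m) (ξ ξ' : Ext.{u} M W i)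
    (a : Coh.HH X M j) : pair h (ξ + ξ') a = pair h ξ a + pair h ξ' a := by
  unfold pair
  rw [Ext.mapExactFunctor_add, Ext.comp_add]

lemma pair_add_right {M W : X.Modules} {i j m : ℕ} (h : j + i = m) (ξ : Ext.{u} M W i)
    (a a' : Coh.HH X M j) : pair h ξ (a + a') = pair h ξ a + pair h ξ a' := by
  unfold pair
  rw [Ext.add_comp]

/-- in degree zero the pairing is the induced map on cohomology -/
lemma pair_mk₀ {M W : X.Modules} {j : ℕ} (φ : M ⟶ W) (a : Coh.HH X M j) :
    pair (add_zero j) (Ext.mk₀ φ) a = map φ j a := by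
  unfold pair
  rw [Ext.mapExactFunctor_mk₀]
  rfl

/-- naturality in the first variable -/
lemma pair_mk₀_comp {M' M W : X.Modules} {i j m : ℕ} (h : j + i = m) (g : M' ⟶ M)
    (ξ : Ext.{u} M W i) (a : Coh.HH X M' j) :
    pair h ((Ext.mk₀ g).comp ξ (zero_add i)) a = pair h ξ (map g j a) := by
  unfold pair
  rw [Ext.mapExactFunctor_comp, Ext.mapExactFunctor_mk₀, map_apply, Sheaf.H.map_apply]
  exact (Ext.comp_assoc_of_second_deg_zero _ _ _ _).symm

/-- naturality in the second variable -/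
lemma pair_comp_mk₀ {M W W' : X.Modules} {i j m : ℕ} (h : j + i = m) (ξ : Ext.{u} M W i)
    (g : W ⟶ W') (a : Coh.HH X M j) :
    pair h (ξ.comp (Ext.mk₀ g) (add_zero i)) a = map g m (pair h ξ a) := by
  unfold pair
  rw [Ext.mapExactFunctor_comp, Ext.mapExactFunctor_mk₀, map_apply, Sheaf.H.map_apply]
  exact (Ext.comp_assoc_of_third_deg_zero _ _ _ _).symm

/-- compatibility with the connecting homomorphisms -/
lemma pair_extClass {S : ShortComplex X.Modules} (hS : S.ShortExact) {W : X.Modules}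
    {i i' j m : ℕ} (hi : 1 + i = i') (h : j + i' = m) (ξ : Ext.{u} S.X₁ W i)
    (a : Coh.HH X S.X₃ j) :
    pair h (hS.extClass.comp ξ hi) a = pair (show j + 1 + i = m by omega) ξ (δ hS j a) := by
  unfold pair
  rw [Ext.mapExactFunctor_comp, Ext.mapExactFunctor_extClass, δ_apply]
  exact (Ext.comp_assoc _ _ _ rfl hi (by omega)).symm

section Linear

variable (k : Type u) [Field k] [X.Over (Spec (CommRingCat.of k))]

/-- scalar multiplication on cohomology as composition -/
lemma smul_eq_comp {M : X.Modules} {j : ℕ} (c : k) (a : Coh.HH X M j) :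
    c • a = a.comp (Ext.mk₀ ((toAbF X).map (Formal.smulMod k M c))) (add_zero j) := rfl

/-- scalars are central for `Ext` classes -/
lemma smulMod_comp {M W : X.Modules} {i : ℕ} (c : k) (ξ : Ext.{u} M W i) :
    (Ext.mk₀ (Formal.smulMod k M c)).comp ξ (zero_add i) =
      ξ.comp (Ext.mk₀ (Formal.smulMod k W c)) (add_zero i) := by
  rw [← KLin.smul_id, ← KLin.smul_id, Ext.mk₀_smul, Ext.mk₀_smul, Ext.smul_comp, Ext.comp_smul,
    Ext.mk₀_id_comp, Ext.comp_mk₀_id]

lemma pair_smul_right {M W : X.Modules} {i j m : ℕ} (h : j + i = m) (ξ : Ext.{u} M W i)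
    (c : k) (a : Coh.HH X M j) : pair h ξ (c • a) = c • pair h ξ a := by
  have h1 : pair h ξ (c • a) =
      pair h ((Ext.mk₀ (Formal.smulMod k M c)).comp ξ (zero_add i)) a :=
    (pair_mk₀_comp h (Formal.smulMod k M c) ξ a).symm
  rw [h1, smulMod_comp, pair_comp_mk₀]
  rfl

lemma pair_smul_left {M W : X.Modules} {i j m : ℕ} (h : j + i = m) (ξ : Ext.{u} M W i)
    (c : k) (a : Coh.HH X M j) : pair h (c • ξ) a = c • pair h ξ a := by
  rw [Ext.smul_eq_comp_mk₀, KLin.smul_id, pair_comp_mk₀]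
  rfl

/-- the pairing with a fixed class, as a `k`-linear map -/
noncomputable def pairLin {M W : X.Modules} {i j m : ℕ} (h : j + i = m) (ξ : Ext.{u} M W i) :
    Coh.HH X M j →ₗ[k] Coh.HH X W m where
  toFun := pair h ξ
  map_add' := pair_add_right h ξ
  map_smul' c a := pair_smul_right k h ξ c a

variable {k} {W : X.Modules} {m : ℕ} (t : Coh.HH X W m →ₗ[k] k)

/-- the duality map attached to a linear form `t` on `H^m(X, W)` -/
noncomputable def ΨLin (M : X.Modules) {i j : ℕ} (h : j + i = m) :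
    Ext.{u} M W i →ₗ[k] (Coh.HH X M j →ₗ[k] k) where
  toFun ξ := t ∘ₗ pairLin k h ξ
  map_add' ξ ξ' := by
    ext a
    change t (pair h (ξ + ξ') a) = t (pair h ξ a) + t (pair h ξ' a)
    rw [pair_add_left, _root_.map_add]
  map_smul' c ξ := by
    ext a
    change t (pair h (c • ξ) a) = c • t (pair h ξ a)
    rw [pair_smul_left, _root_.map_smul]

lemma ΨLin_apply (M : X.Modules) {i j : ℕ} (h : j + i = m) (ξ : Ext.{u} M W i)
    (a : Coh.HH X M j) : ΨLin t M h ξ a = t (pair h ξ a) := rfl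

/-- naturality of the duality map in the first variable -/
lemma ΨLin_mk₀_comp {M' M : X.Modules} {i j : ℕ} (h : j + i = m) (g : M' ⟶ M)
    (ξ : Ext.{u} M W i) :
    ΨLin t M' h ((Ext.mk₀ g).comp ξ (zero_add i)) = ΨLin t M h ξ ∘ₗ mapOver k g j := by
  ext a
  rw [ΨLin_apply, pair_mk₀_comp]
  rfl

end Linear

end Groth.Agent.Lib.Helper20.YonedaPair
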