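import Mathlib
import Groth.Agent.Lib.Helper20.YonedaPair
import Groth.Agent.Lib.Helper20.ExtDual

/-!
# Perfectness of the Yoneda pairing on `ℙᴺ_k` (helper20)

For `P = ℙᴺ_k`, `ω = O(-N-1)`, `t : H^N(ω) ≃ k` the trace of `ProjDual.exists_trace`, and `M` coherent,
the duality map `Ψ : Ext^i(M, ω) → H^{N-i}(M)^∨` induced by the Yoneda pairing and `t` is bijective.
-/

set_option autoImplicit false
set_option linter.unusedSectionVars false
set_option linter.unusedVariables false

universe u

open CategoryTheory Limits AlgebraicGeometry Abelian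

namespace Groth.Agent.Lib.Helper20.PnPerfect

open Groth.Agent.Lib.Helper18.HH Groth.Agent.Lib.Helper20.YonedaPair
  Groth.Agent.Lib.Helper20.DualDev Groth.Agent.Lib.Helper20.ExtDual

section LA

variable {K V V' : Type*} [Field K] [AddCommGroup V] [Module K V] [AddCommGroup V'] [Module K V']

/-- a linear form vanishing on the kernel of `u` factors through `u` -/
lemma exists_factor (u : V →ₗ[K] V') (ψ : V →ₗ[K] K)
    (h : LinearMap.ker u ≤ LinearMap.ker ψ) : ∃ ψ' : V' →ₗ[K] K, ψ' ∘ₗ u = ψ := by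
  let ψbar : (V ⧸ LinearMap.ker u) →ₗ[K] K := (LinearMap.ker u).liftQ ψ h
  let ψ'' : LinearMap.range u →ₗ[K] K := ψbar ∘ₗ (u.quotKerEquivRange).symm.toLinearMap
  obtain ⟨ψ', hψ'⟩ := LinearMap.exists_extend ψ''
  refine ⟨ψ', ?_⟩
  ext v
  have h1 := congrArg (fun f => f ⟨u v, LinearMap.mem_range_self u v⟩) hψ'
  simp only [LinearMap.comp_apply, Submodule.subtype_apply] at h1
  rw [LinearMap.comp_apply, h1]
  change ψbar ((u.quotKerEquivRange).symm ⟨u v, _⟩) = ψ v
  rw [LinearMap.quotKerEquivRange_symm_apply_image]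
  rfl

end LA

variable (k : Type u) [Field k] (N : ℕ) [HasExt.{u} (CohB1.ProjSpace N k).Modules]


variable (t : Coh.HH (CohB1.ProjSpace N k) (Twist.twistProjSpace N k (-((N : ℤ) + 1))) N →ₗ[k] k)
  (ht : ∀ F : (CohB1.ProjSpace N k).Modules, Coh.IsCoh F → Good k t F)

/-- the resolution step: a coherent `M` is a quotient of `E = ⊕ O(-q)`, `q ≥ 1`, with coherent
kernel -/
lemma exists_ses (M : (CohB1.ProjSpace N k).Modules) (hM : Coh.IsCoh M) :
    ∃ S : ShortComplex (CohB1.ProjSpace N k).Modules, S.ShortExact ∧ S.X₃ = M ∧ Coh.IsCoh S.X₁ ∧ Coh.IsCoh S.X₂ ∧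
      (∀ i, 1 ≤ i → Subsingleton (Ext.{u} S.X₂ (Twist.twistProjSpace N k (-((N : ℤ) + 1))) i)) ∧
      (∀ j, j < N → Subsingleton (Coh.HH (CohB1.ProjSpace N k) S.X₂ j)) := by
  obtain ⟨N₀, hN⟩ := Groth.Agent.Lib.helper11.SerrePn.exists_epi_twist_le N k M hM
  obtain ⟨m, π, hπ⟩ := hN (max N₀ 1) (le_max_left _ _)
  have hq : 1 ≤ max N₀ 1 := le_max_right _ _
  have hEcoh : Coh.IsCoh (∐ fun _ : Fin m => Twist.twistProjSpace N k (-((max N₀ 1 : ℕ) : ℤ))) :=
    Groth.Agent.Lib.Lead.SerreFin.isCoh_of_isFinLocFree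
      (Groth.Agent.Lib.Lead.SerreFin.isFinLocFree_sigma _ fun _ =>
        Groth.Agent.Lib.helper16.FLF.isFinLocFree_of_isInvertible
          (Groth.Agent.Lib.helper28.TwistPn.isInvertible N k _))
  have hK : Coh.IsCoh (kernel π) :=
    Groth.Agent.Lib.helper7.CohKer.isCoh_kernel hEcoh hM π
  have hS : (ShortComplex.mk (kernel.ι π) π (kernel.condition π)).ShortExact :=
    { exact := ShortComplex.exact_of_f_is_kernel _ (kernelIsKernel π)
      mono_f := inferInstanceAs (Mono (kernel.ι π))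
      epi_g := hπ }
  exact ⟨_, hS, rfl, hK, hEcoh,
    fun i hi => ext_sigma_twist_vanish N k (max N₀ 1) hq m i hi,
    fun j hj => hh_sigma_twist_vanish N k (max N₀ 1) hq m j hj⟩

include ht in
/-- injectivity of the duality maps -/
theorem ΨLin_injective : ∀ (i j : ℕ) (h : j + i = N) (M : (CohB1.ProjSpace N k).Modules), Coh.IsCoh M →
    Function.Injective (ΨLin t M h) := by
  intro i
  induction i with
  | zero =>
    intro j h M hM
    have hj : j = N := by omega
    subst hj
    intro ξ ξ' hξ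
    obtain ⟨φ, rfl⟩ := (Ext.mk₀_bijective _ _).2 ξ
    obtain ⟨φ', rfl⟩ := (Ext.mk₀_bijective _ _).2 ξ'
    have hΦ : Φ k t M φ = Φ k t M φ' := by
      ext a
      have := congrArg (fun f => f a) hξ
      simp only [ΨLin_apply, pair_mk₀] at this
      exact this
    rw [(ht M hM).1 hΦ]
  | succ i ih =>
    intro j h M hM
    obtain ⟨S, hS, rfl, hK, hE, hExt, hHH⟩ := exists_ses k N M hM
    rw [injective_iff_map_eq_zero]
    intro ξ hξ
    obtain ⟨ζ, rfl⟩ := Ext.contravariant_sequence_exact₃ hS _ ξ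
      (@Subsingleton.elim _ (hExt (i + 1) (by omega)) _ _) (Nat.add_comm 1 i)
    -- `Ψ ζ` vanishes on the image of `δ`
    have hvan : ∀ a : Coh.HH (CohB1.ProjSpace N k) S.X₃ j, ΨLin t S.X₁ (show j + 1 + i = N by omega) ζ (δ hS j a) = 0 := by
      intro a
      have := congrArg (fun f => f a) hξ
      simp only [ΨLin_apply, LinearMap.zero_apply] at this
      rw [pair_extClass] at this
      exact this
    rcases Nat.eq_zero_or_pos i with hi | hi
    · subst hi
      -- degree one
      have hjN : j + 1 = N := by omega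
      obtain ⟨φ, rfl⟩ := (Ext.mk₀_bijective _ _).2 ζ
      have hker : LinearMap.ker (mapOver k S.f (j + 1)) ≤
          LinearMap.ker (ΨLin t S.X₁ (show j + 1 + 0 = N by omega) (Ext.mk₀ φ)) := by
        intro x hx
        obtain ⟨a, rfl⟩ := (exactOver₁ hS k j x).mp hx
        exact hvan a
      obtain ⟨ψE, hψE⟩ := exists_factor _ _ hker
      subst hjN
      obtain ⟨φE, hφE⟩ := (ht S.X₂ hE).2 ψE
      have h1 : Φ k t S.X₁ (S.f ≫ φE) = Φ k t S.X₁ φ := by
        rw [Φ_comp, hφE, hψE]
        ext a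
        simp only [ΨLin_apply, pair_mk₀]
        rfl
      have h2 : φ = S.f ≫ φE := ((ht S.X₁ hK).1 h1).symm
      rw [h2, ← Ext.mk₀_comp_mk₀, ← Ext.comp_assoc_of_third_deg_zero, hS.extClass_comp,
        Ext.zero_comp]
    · -- higher degrees: `δ` is surjective
      have hsurj : Function.Surjective (δ hS j) := by
        intro x
        have : Subsingleton (Coh.HH (CohB1.ProjSpace N k) S.X₂ (j + 1)) := hHH (j + 1) (by omega)
        exact (exact₁ hS j x).mp (Subsingleton.elim _ _)
      have hζ : ΨLin t S.X₁ (show j + 1 + i = N by omega) ζ = 0 := by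
        ext x
        obtain ⟨a, rfl⟩ := hsurj x
        exact hvan a
      have : ζ = 0 := by
        apply ih (j + 1) (by omega) S.X₁ hK
        rw [hζ, _root_.map_zero]
      rw [this, Ext.comp_zero]

include ht in
/-- **perfectness of the Yoneda pairing on `ℙᴺ_k`** -/
theorem ΨLin_bijective (i j : ℕ) (h : j + i = N) (M : (CohB1.ProjSpace N k).Modules)
    (hM : Coh.IsCoh M) : Function.Bijective (ΨLin t M h) := by
  obtain ⟨hfin, hdim⟩ := pp_all k N i M hM
  have hfinH : Module.Finite k (Coh.HH (CohB1.ProjSpace N k) M j) :=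
    Groth.Agent.S0038.result N k M hM j
  have hi : i ≤ N := by omega
  rw [hdim_of_le k N M hi] at hdim
  have hj : N - i = j := by omega
  rw [hj] at hdim
  have heq : Module.finrank k (Ext.{u} M (Twist.twistProjSpace N k (-((N : ℤ) + 1))) i) =
      Module.finrank k (Coh.HH (CohB1.ProjSpace N k) M j →ₗ[k] k) := by
    rw [hdim]
    exact Subspace.dual_finrank_eq.symm
  have hinj := ΨLin_injective k N t ht i j h M hM
  exact ⟨hinj, (LinearMap.injective_iff_surjective_of_finrank_eq_finrank heq).mp hinj⟩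

end Groth.Agent.Lib.Helper20.PnPerfect
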