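import Mathlib
import Groth.Agent.Lib.Helper20.ClosedImmDual
import Groth.Agent.Lib.Helper20.ClosedImmHHLin
import Groth.Agent.Lib.Helper20.PnPerfect
import Groth.Agent.Lib.Helper20.LargeTwist2
import Groth.Agent.Lib.Lead.ProjectiveCoh

/-!
# The dualizing sheaf of a closed subscheme of `ℙᴺ_k` (helper20)

`exists_dualizing`: `ι : X ⟶ ℙᴺ_k` a closed immersion over `k`, `c = N - n`, `ℰxt^q(ι_* O_X, ω_P) = 0`
for `q < c`, and `ι_* ω ≅ ℰxt^c(ι_* O_X, ω_P)`.  Then `ω` is dualizing in degree `n`: there is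
`t : H^n(X, ω) → k` with `Hom(F, ω) ≃ H^n(X, F)^∨`, `φ ↦ t ∘ H^n(φ)`, for all coherent `F`.
-/

set_option autoImplicit false
set_option linter.unusedSectionVars false
set_option linter.unusedVariables false

universe u

open CategoryTheory Limits AlgebraicGeometry Opposite Abelian

namespace Groth.Agent.Lib.Helper20.DualProj

open Groth.Agent.Lib.Helper20.ClosedImmAdj Groth.Agent.Lib.Helper20.ClosedImmDual
  Groth.Agent.Lib.Helper20.DualAbs Groth.Agent.Lib.Helper20.YonedaPair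
  Groth.Agent.Lib.Helper20.ClosedImmHH Groth.Agent.Lib.Helper20.DualDev
  Groth.Agent.Lib.Helper18.HH

variable (k : Type u) [Field k] (N : ℕ) {X : Scheme.{u}} [X.Over (Spec (CommRingCat.of k))]
  (ι : X ⟶ CohB1.ProjSpace N k) [IsClosedImmersion ι]
  (hι : ι ≫ CohB1.ProjSpace.toSpec N k = X ↘ Spec (CommRingCat.of k))
  [ModSite.HasSheafHom (O := (CohB1.ProjSpace N k).sheaf)
    ((Scheme.Modules.pushforward ι).obj (Coh.structureModule X))]
  [HasInjectiveResolutions (ModSite.Mod (CohB1.ProjSpace N k).sheaf)]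

include hι in
/-- **the dualizing sheaf of a closed subscheme of `ℙᴺ_k`** -/
theorem exists_dualizing (n : ℕ) (hn : n ≤ N)
    (hvan : ∀ q : ℕ, q < N - n → IsZero ((ModSite.extSh (O := (CohB1.ProjSpace N k).sheaf)
      ((Scheme.Modules.pushforward ι).obj (Coh.structureModule X)) q).obj
        (Twist.twistProjSpace N k (-((N : ℤ) + 1)))))
    (ω : X.Modules)
    (hω : Nonempty ((Scheme.Modules.pushforward ι).obj ω ≅
      (ModSite.extSh (O := (CohB1.ProjSpace N k).sheaf)
        ((Scheme.Modules.pushforward ι).obj (Coh.structureModule X)) (N - n)).obj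
          (Twist.twistProjSpace N k (-((N : ℤ) + 1))))) :
    ∃ t : Coh.HH X ω n →ₗ[k] k, ∀ F : X.Modules, Coh.IsCoh F → Good k t F := by
  classical
  have hExtP : HasExt.{u} (CohB1.ProjSpace N k).Modules :=
    Groth.Agent.Lib.Helper20.LargeTwist.hasExt_modules _
  haveI : ι.IsOver (Spec (CommRingCat.of k)) := ⟨hι⟩
  obtain ⟨c, hc⟩ : ∃ c, c = N - n := ⟨_, rfl⟩
  rw [← hc] at hvan hω
  have hnc : n + c = N := by omega
  haveI : HasInjectiveResolution (C := ModSite.Mod (CohB1.ProjSpace N k).sheaf)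
      (Twist.twistProjSpace N k (-((N : ℤ) + 1))) := HasInjectiveResolutions.out _
  let R : InjectiveResolution (C := ModSite.Mod (CohB1.ProjSpace N k).sheaf)
      (Twist.twistProjSpace N k (-((N : ℤ) + 1))) := injectiveResolution _
  have hK : ∀ q, q < c → (GK (shriek ι) R).ExactAt q := fun q hq => by
    rw [HomologicalComplex.exactAt_iff_isZero_homology]
    exact isZero_of_isZero_pushforward ι _ ((hvan q hq).of_iso (extShIso ι _ R q).symm)
  obtain ⟨ξ, hξ⟩ := exists_ext_class (shriekAdj ι) R c hK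
  obtain ⟨e⟩ := hω
  obtain ⟨j, hj⟩ : ∃ j : (Scheme.Modules.pushforward ι).obj ω ≅
      (Scheme.Modules.pushforward ι).obj ((GK (shriek ι) R).homology c), True :=
    ⟨e ≪≫ extShIso ι _ R c, trivial⟩
  obtain ⟨tP, htP⟩ := Groth.Agent.Lib.Helper20.ProjDual.exists_trace N k (-((N : ℤ) + 1)) rfl
  -- the class on `ι_* ω`
  obtain ⟨ξω, hξω⟩ : ∃ ξω : Ext.{u} ((Scheme.Modules.pushforward ι).obj ω)
      (Twist.twistProjSpace N k (-((N : ℤ) + 1))) c, ξω = (Ext.mk₀ j.hom).comp ξ (zero_add c) :=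
    ⟨_, rfl⟩
  -- the comparison maps
  let Θ : ∀ F : X.Modules, (F ⟶ ω) → Ext.{u} ((Scheme.Modules.pushforward ι).obj F)
      (Twist.twistProjSpace N k (-((N : ℤ) + 1))) c := fun F φ =>
    (Ext.mk₀ ((Scheme.Modules.pushforward ι).map φ)).comp ξω (zero_add c)
  let Φ' : ∀ F : X.Modules, (F ⟶ ω) → (Coh.HH X F n →ₗ[k] k) := fun F φ =>
    (ΨLin tP.toLinearMap ((Scheme.Modules.pushforward ι).obj F) hnc (Θ F φ)) ∘ₗ
      (pushEquivLin ι k F n).symm.toLinearMap
  have hΘnat : ∀ {F' F : X.Modules} (g : F' ⟶ F) (φ : F ⟶ ω),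
      Θ F' (g ≫ φ) = (Ext.mk₀ ((Scheme.Modules.pushforward ι).map g)).comp (Θ F φ) (zero_add c) := by
    intro F' F g φ
    change (Ext.mk₀ ((Scheme.Modules.pushforward ι).map (g ≫ φ))).comp ξω (zero_add c) = _
    rw [Functor.map_comp, ← Ext.mk₀_comp_mk₀_assoc]
  have hnat : ∀ {F' F : X.Modules} (g : F' ⟶ F) (φ : F ⟶ ω),
      Φ' F' (g ≫ φ) = Φ' F φ ∘ₗ mapOver k g n := by
    intro F' F g φ
    change (ΨLin tP.toLinearMap _ hnc (Θ F' (g ≫ φ))) ∘ₗ _ = _
    rw [hΘnat, ΨLin_mk₀_comp]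
    ext y
    have hy : mapOver k ((Scheme.Modules.pushforward ι).map g) n
        ((pushEquivLin ι k F' n).symm y) = (pushEquivLin ι k F n).symm (mapOver k g n y) := by
      apply (pushEquivLin ι k F n).injective
      rw [pushEquivLin_natural, LinearEquiv.apply_symm_apply, LinearEquiv.apply_symm_apply]
    exact congrArg (ΨLin tP.toLinearMap _ hnc (Θ F φ)) hy
  have hbij : ∀ F : X.Modules, Coh.IsCoh F → Function.Bijective (Φ' F) := by
    intro F hF
    have hLF : Coh.IsCoh ((Scheme.Modules.pushforward ι).obj F) :=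
      Groth.Agent.Lib.Lead.ProjectiveCoh.isCoh_push ι hF
    haveI : ((Scheme.Modules.pushforward ι).obj F).IsQuasicoherent := hLF.1
    have hΘ : Function.Bijective (Θ F) := by
      have hθ : ∀ φ : F ⟶ ω, ∀ φ' : F ⟶ (GK (shriek ι) R).homology c,
          (Scheme.Modules.pushforward ι).map φ' = (Scheme.Modules.pushforward ι).map φ ≫ j.hom →
          Θ F φ = (Ext.mk₀ ((Scheme.Modules.pushforward ι).map φ')).comp ξ (zero_add c) := by
        intro φ φ' h
        change (Ext.mk₀ _).comp ξω (zero_add c) = _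
        rw [hξω, Ext.mk₀_comp_mk₀_assoc, h]
      constructor
      · intro φ₁ φ₂ h
        obtain ⟨φ₁', h1⟩ := (map_bijective ι F _).2 ((Scheme.Modules.pushforward ι).map φ₁ ≫ j.hom)
        obtain ⟨φ₂', h2⟩ := (map_bijective ι F _).2 ((Scheme.Modules.pushforward ι).map φ₂ ≫ j.hom)
        rw [hθ φ₁ φ₁' h1, hθ φ₂ φ₂' h2] at h
        have h3 : φ₁' = φ₂' := (hξ F).1 h
        rw [h3] at h1
        have h4 := h1.symm.trans h2
        rw [cancel_mono] at h4
        exact (Scheme.Modules.pushforward ι).map_injective h4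
      · intro α
        obtain ⟨φ', rfl⟩ := (hξ F).2 α
        obtain ⟨φ, h1⟩ := (map_bijective ι F _).2 ((Scheme.Modules.pushforward ι).map φ' ≫ j.inv)
        have h1' : (Scheme.Modules.pushforward ι).map φ =
            (Scheme.Modules.pushforward ι).map φ' ≫ j.inv := h1
        refine ⟨φ, hθ φ φ' ?_⟩
        rw [h1', Category.assoc, Iso.inv_hom_id, Category.comp_id]
    have hΨ := Groth.Agent.Lib.Helper20.PnPerfect.ΨLin_bijective k N tP.toLinearMap htP c n hnc
      ((Scheme.Modules.pushforward ι).obj F) hLF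
    constructor
    · intro φ₁ φ₂ h
      apply hΘ.1
      apply hΨ.1
      ext y
      have := congrArg (fun f => f (pushEquivLin ι k F n y)) h
      simpa [Φ'] using this
    · intro ψ
      obtain ⟨α, hα⟩ := hΨ.2 (ψ ∘ₗ (pushEquivLin ι k F n).toLinearMap)
      obtain ⟨φ, rfl⟩ := hΘ.2 α
      refine ⟨φ, ?_⟩
      change (ΨLin tP.toLinearMap _ hnc (Θ F φ)) ∘ₗ _ = ψ
      rw [hα]
      ext y
      simp
  refine ⟨Φ' ω (𝟙 ω), fun F hF => ?_⟩
  have hΦ : Φ k (Φ' ω (𝟙 ω)) F = Φ' F := by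
    funext φ
    have := hnat φ (𝟙 ω)
    rw [Category.comp_id] at this
    rw [this]
    rfl
  unfold Good
  rw [hΦ]
  exact hbij F hF

end Groth.Agent.Lib.Helper20.DualProj
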