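import Mathlib
import Groth.Agent.Lib.Helper20.DualProj
import Groth.Agent.Lib.Helper20.DualAbs2
import Groth.Agent.Lib.Helper20.ExtDual
import Groth.Agent.Lib.Helper20.LargeTwist4
import Groth.Agent.S0038

/-!
# Higher `Ext` duality on a closed subscheme of `ℙᴺ_k` (helper20)

`ι : X ⟶ ℙᴺ_k` a closed immersion over `k`, `ℰ^q = ℰxt^q(ι_* O_X, ω_P)`, `ι_* ω ≅ ℰ^c`, `ℰ^q = 0` for
`q < c` and for `c < q ≤ c + s`.  Then for all `F` and `i ≤ s`:
`Ext^i_X(F, ω) ≃ₗ[k] Ext^{c+i}_P(ι_* F, ω_P)` (`ext_equiv_push`), hence for coherent `F`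
`Ext^i_X(F, ω) ≃ₗ[k] H^{n-i}(X, F)^∨` (`ext_dual`), `n + c = N`.
-/

set_option autoImplicit false
set_option linter.unusedSectionVars false
set_option linter.unusedVariables false

universe u

open CategoryTheory Limits AlgebraicGeometry Opposite Abelian

namespace Groth.Agent.Lib.Helper20.DualProj2

open Groth.Agent.Lib.Helper20.ClosedImmAdj Groth.Agent.Lib.Helper20.ClosedImmDual
  Groth.Agent.Lib.Helper20.DualAbs Groth.Agent.Lib.Helper20.DualAbs2
  Groth.Agent.Lib.Helper20.ClosedImmHH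

section Lift

variable {X P : Scheme.{u}} (ι : X ⟶ P) [IsClosedImmersion ι]

/-- an isomorphism of direct images under a closed immersion lifts, if the source is
quasi-coherent -/
theorem nonempty_iso_of_pushforward_iso (F F' : X.Modules)
    (hq : ((Scheme.Modules.pushforward ι).obj F).IsQuasicoherent)
    (j : (Scheme.Modules.pushforward ι).obj F ≅ (Scheme.Modules.pushforward ι).obj F') :
    Nonempty (F ≅ F') := by
  have := hq
  obtain ⟨φ, hφ⟩ := (map_bijective ι F F').2 j.hom
  have hφ' : (Scheme.Modules.pushforward ι).map φ = j.hom := hφ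
  have : IsIso ((Scheme.Modules.pushforward ι).map φ) := by rw [hφ']; infer_instance
  have := isIso_of_isIso_pushforward ι φ
  exact ⟨asIso φ⟩

end Lift

variable (k : Type u) [Field k] (N : ℕ) {X : Scheme.{u}} [X.Over (Spec (CommRingCat.of k))]
  (ι : X ⟶ CohB1.ProjSpace N k) [IsClosedImmersion ι]
  (hι : ι ≫ CohB1.ProjSpace.toSpec N k = X ↘ Spec (CommRingCat.of k))
  [ModSite.HasSheafHom (O := (CohB1.ProjSpace N k).sheaf)
    ((Scheme.Modules.pushforward ι).obj (Coh.structureModule X))]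
  [HasInjectiveResolutions (ModSite.Mod (CohB1.ProjSpace N k).sheaf)]
  [HasExt.{u} X.Modules] [HasExt.{u} (CohB1.ProjSpace N k).Modules]

include hι in
/-- **`Ext^i_X(F, ω) ≃ₗ[k] Ext^{c+i}_P(ι_* F, ω_P)`** -/
theorem ext_equiv_push (c s : ℕ)
    (hvan : ∀ q : ℕ, q < c → IsZero ((ModSite.extSh (O := (CohB1.ProjSpace N k).sheaf)
      ((Scheme.Modules.pushforward ι).obj (Coh.structureModule X)) q).obj
        (Twist.twistProjSpace N k (-((N : ℤ) + 1)))))
    (hvan2 : ∀ q : ℕ, c < q → q ≤ c + s → IsZero ((ModSite.extSh (O := (CohB1.ProjSpace N k).sheaf)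
      ((Scheme.Modules.pushforward ι).obj (Coh.structureModule X)) q).obj
        (Twist.twistProjSpace N k (-((N : ℤ) + 1)))))
    (ω : X.Modules)
    (hω : Nonempty ((Scheme.Modules.pushforward ι).obj ω ≅
      (ModSite.extSh (O := (CohB1.ProjSpace N k).sheaf)
        ((Scheme.Modules.pushforward ι).obj (Coh.structureModule X)) c).obj
          (Twist.twistProjSpace N k (-((N : ℤ) + 1)))))
    (F : X.Modules) (i : ℕ) (hi : i ≤ s) :
    Nonempty (Ext.{u} F ω i ≃ₗ[k] Ext.{u} ((Scheme.Modules.pushforward ι).obj F)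
      (Twist.twistProjSpace N k (-((N : ℤ) + 1))) (c + i)) := by
  classical
  have : ι.IsOver (Spec (CommRingCat.of k)) := ⟨hι⟩
  have : HasInjectiveResolution (C := ModSite.Mod (CohB1.ProjSpace N k).sheaf)
      (Twist.twistProjSpace N k (-((N : ℤ) + 1))) := HasInjectiveResolutions.out _
  let R : InjectiveResolution (C := ModSite.Mod (CohB1.ProjSpace N k).sheaf)
      (Twist.twistProjSpace N k (-((N : ℤ) + 1))) := injectiveResolution _
  have hlow : ∀ q, q < c → (GK (shriek ι) R).ExactAt q := fun q hq => by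
    rw [HomologicalComplex.exactAt_iff_isZero_homology]
    exact isZero_of_isZero_pushforward ι _ ((hvan q hq).of_iso (extShIso ι _ R q).symm)
  have hhigh : ∀ q, c < q → q ≤ c + i → (GK (shriek ι) R).ExactAt q := fun q hq hq' => by
    rw [HomologicalComplex.exactAt_iff_isZero_homology]
    exact isZero_of_isZero_pushforward ι _
      ((hvan2 q hq (by omega)).of_iso (extShIso ι _ R q).symm)
  obtain ⟨e1⟩ := ext_all_equiv (k := k) (shriekAdj ι) R F c i (c + i) rfl hlow hhigh
  -- `ω ≅ H^c(K)`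
  obtain ⟨e⟩ := hω
  have hP : IsLocallyNoetherian (CohB1.ProjSpace N k) :=
    Groth.Agent.Lib.Lead.SerreFin.isLocallyNoetherian_projSpace N k
  have hcohE : Coh.IsCoh ((ModSite.extSh (O := (CohB1.ProjSpace N k).sheaf)
      ((Scheme.Modules.pushforward ι).obj (Coh.structureModule X)) c).obj
        (Twist.twistProjSpace N k (-((N : ℤ) + 1)))) :=
    Groth.Agent.Lib.helper21.ShHomCoh.isCoh_T c _ _ _
      (Groth.Agent.Lib.Helper20.LargeTwist.isCoh_push_structureModule k N ι)
      (Groth.Agent.Lib.Helper20.LargeTwist.isCoh_twistProjSpace k N _)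
  have hq : ((Scheme.Modules.pushforward ι).obj ω).IsQuasicoherent :=
    (Groth.Agent.Lib.helper21.ShHomCoh.isCoh_of_iso' e.symm hcohE).1
  obtain ⟨j⟩ := nonempty_iso_of_pushforward_iso ι ω ((GK (shriek ι) R).homology c) hq
    (e ≪≫ extShIso ι _ R c)
  exact ⟨(extCongrRight F j i).trans e1⟩

open Module in
include hι in
/-- **higher duality**: `Ext^i_X(F, ω) ≃ₗ[k] H^{n-i}(X, F)^∨` for `i ≤ s`, `i ≤ n`, and
`Ext^i_X(F, ω) = 0` for `n < i ≤ s` -/
theorem ext_dual (n c s : ℕ) (hnc : n + c = N)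
    (hvan : ∀ q : ℕ, q < c → IsZero ((ModSite.extSh (O := (CohB1.ProjSpace N k).sheaf)
      ((Scheme.Modules.pushforward ι).obj (Coh.structureModule X)) q).obj
        (Twist.twistProjSpace N k (-((N : ℤ) + 1)))))
    (hvan2 : ∀ q : ℕ, c < q → q ≤ c + s → IsZero ((ModSite.extSh (O := (CohB1.ProjSpace N k).sheaf)
      ((Scheme.Modules.pushforward ι).obj (Coh.structureModule X)) q).obj
        (Twist.twistProjSpace N k (-((N : ℤ) + 1)))))
    (ω : X.Modules)
    (hω : Nonempty ((Scheme.Modules.pushforward ι).obj ω ≅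
      (ModSite.extSh (O := (CohB1.ProjSpace N k).sheaf)
        ((Scheme.Modules.pushforward ι).obj (Coh.structureModule X)) c).obj
          (Twist.twistProjSpace N k (-((N : ℤ) + 1)))))
    (F : X.Modules) (hF : Coh.IsCoh F) (i : ℕ) (hi : i ≤ s) :
    (i ≤ n → Nonempty (Ext.{u} F ω i ≃ₗ[k] Module.Dual k (Coh.HH X F (n - i)))) ∧
    (n < i → Subsingleton (Ext.{u} F ω i)) := by
  have : ι.IsOver (Spec (CommRingCat.of k)) := ⟨hι⟩
  obtain ⟨e⟩ := ext_equiv_push k N ι hι c s hvan hvan2 ω hω F i hi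
  have hM : Coh.IsCoh ((Scheme.Modules.pushforward ι).obj F) :=
    Groth.Agent.Lib.Lead.ProjectiveCoh.isCoh_push ι hF
  obtain ⟨hfin, hrank⟩ := Groth.Agent.Lib.Helper20.ExtDual.pp_all k N (c + i) _ hM
  have hfin' : Module.Finite k (Ext.{u} F ω i) := Module.Finite.equiv e.symm
  have hrank' : finrank k (Ext.{u} F ω i) =
      Groth.Agent.Lib.Helper20.ExtDual.hdim k N ((Scheme.Modules.pushforward ι).obj F) (c + i) := by
    rw [← hrank]
    exact LinearEquiv.finrank_eq e
  constructor
  · intro hin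
    rw [Groth.Agent.Lib.Helper20.ExtDual.hdim_of_le k N _ (by omega : c + i ≤ N)] at hrank'
    have hidx : N - (c + i) = n - i := by omega
    rw [hidx] at hrank'
    have hfinP : Module.Finite k (Coh.HH (CohB1.ProjSpace N k)
        ((Scheme.Modules.pushforward ι).obj F) (n - i)) :=
      Groth.Agent.S0038.result N k _ hM (n - i)
    have hfinX : Module.Finite k (Coh.HH X F (n - i)) :=
      Module.Finite.equiv (pushEquivLin ι k F (n - i))
    have h2 : finrank k (Ext.{u} F ω i) = finrank k (Module.Dual k (Coh.HH X F (n - i))) := by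
      rw [hrank', LinearEquiv.finrank_eq (pushEquivLin ι k F (n - i)), Subspace.dual_finrank_eq]
    exact FiniteDimensional.nonempty_linearEquiv_of_finrank_eq h2
  · intro hni
    rw [Groth.Agent.Lib.Helper20.ExtDual.hdim_of_lt k N _ (by omega : N < c + i)] at hrank'
    exact Module.finrank_zero_iff.mp hrank'

end Groth.Agent.Lib.Helper20.DualProj2
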