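import Mathlib
import Groth.Agent.Lib.Helper20.LargeTwist4
import Groth.Agent.Lib.Lead.GrothVanish
import Groth.Agent.Lib.Helper3.TopDim
import Groth.Agent.Lib.Helper25.StalkExact

/-!
# `ℰxt^i_P(ι_* O_X, ω_P) = 0` below the codimension (helper20)
-/

set_option autoImplicit false

universe u

open CategoryTheory Limits Opposite TopologicalSpace AlgebraicGeometry Abelian

namespace Groth.Agent.Lib.Helper20.LargeTwist

open Groth.Agent.Lib.helper21 Groth.Agent.Lib.helper28

attribute [local instance] Groth.Agent.Lib.helper21.ShHomCoh.hasInjRes hasSheafHom'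

/-- `Ext` out of a zero object vanishes -/
lemma subsingleton_ext_of_isZero_left {C : Type*} [Category C] [Abelian C] [HasExt.{u} C]
    {X Y : C} (hX : IsZero X) (n : ℕ) : Subsingleton (Ext.{u} X Y n) := by
  refine subsingleton_of_forall_eq 0 (fun x => ?_)
  have h1 : (Ext.mk₀ (𝟙 X)).comp x (zero_add n) = x := Ext.mk₀_id_comp x
  rw [← h1, hX.eq_of_src (𝟙 X) 0, Ext.mk₀_zero, Ext.zero_comp]

/-- on `P^n_R`: `ℰxt^j(F, G) = 0` for `F` a zero object, `G` coherent -/
lemma isZero_extSh_of_isZero (n : ℕ) (R : Type u) [CommRing R] [IsNoetherianRing R]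
    (F G : (CohB1.ProjSpace n R).Modules) (hF : Coh.IsCoh F) (hz : IsZero F) (hG : Coh.IsCoh G)
    (j : ℕ) : IsZero ((ModSite.extSh (O := (CohB1.ProjSpace n R).sheaf) F j).obj G) := by
  have := hasExt_modules (CohB1.ProjSpace n R)
  rw [← exists_subsingleton_ext_twist_iff n R F G hF hG j]
  refine ⟨0, fun m _ => subsingleton_ext_of_isZero_left ?_ j⟩
  have hpz := Groth.Agent.Lib.Helper20.TensorEquiv.preservesZeroMorphisms_tensorRight
    (Groth.Agent.Lib.Helper20.TwistEquivPn.invIso n R (-m))
  exact (Groth.Agent.Lib.Helper20.TensorEquiv.tensorRight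
    (Twist.twistProjSpace n R (-m))).map_isZero hz

variable (k : Type u) [Field k] (N : ℕ)

/-- `ι_* O_X = 0` for `X` empty -/
lemma isZero_push_structureModule_of_isEmpty {X Y : Scheme.{u}} (ι : X ⟶ Y) [IsEmpty X] :
    IsZero ((Scheme.Modules.pushforward ι).obj (Coh.structureModule X)) := by
  have h1 : IsZero (Coh.structureModule X) :=
    Groth.Agent.Lib.Helper25.StalkExact.isZero_of_forall_stalk _ (fun x => isEmptyElim x)
  exact (Scheme.Modules.pushforward ι).map_isZero h1

/-- **`ℰxt^i_P(ι_* O_X, ω_P) = 0` for `i < codim X`** -/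
theorem isZero_extSh_push_of_lt_codim {X : Scheme.{u}} (ι : X ⟶ CohB1.ProjSpace N k)
    [IsClosedImmersion ι] (r : ℕ)
    (hr : topologicalKrullDim ↥X + (r : WithBot ℕ∞) ≤ (N : WithBot ℕ∞)) (i : ℕ) (hi : i < r) :
    IsZero ((ModSite.extSh (O := (CohB1.ProjSpace N k).sheaf)
      ((Scheme.Modules.pushforward ι).obj (Coh.structureModule X)) i).obj
        (Twist.twistProjSpace N k (-((N : ℤ) + 1)))) := by
  by_cases hX : IsEmpty X
  · exact isZero_extSh_of_isZero N k _ _ (isCoh_push_structureModule k N ι)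
      (isZero_push_structureModule_of_isEmpty ι) (isCoh_twistProjSpace k N _) i
  · rw [not_isEmpty_iff] at hX
    have h0 : (0 : WithBot ℕ∞) ≤ topologicalKrullDim X :=
      Groth.Agent.Lib.helper3.TopDim.dim_nonneg
    obtain ⟨d, hd⟩ : ∃ d : ℕ∞, topologicalKrullDim X = (d : WithBot ℕ∞) := by
      cases h : topologicalKrullDim X with
      | bot => rw [h] at h0; exact absurd h0 (by simp)
      | coe d => exact ⟨d, rfl⟩
    rw [hd] at hr
    have hr' : d + (r : ℕ∞) ≤ (N : ℕ∞) := by exact_mod_cast hr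
    have hdN : d ≤ (N : ℕ∞) := le_trans le_self_add hr'
    obtain ⟨d', rfl⟩ : ∃ d' : ℕ, d = (d' : ℕ∞) :=
      ENat.ne_top_iff_exists.mp (ne_top_of_le_ne_top (ENat.coe_ne_top N) hdN) |>.imp
        (fun _ h => h.symm)
    have hr'' : d' + r ≤ N := by exact_mod_cast hr'
    rw [← exists_subsingleton_HH_pullback_twist_iff k N ι (N - i) i (by omega)]
    refine ⟨0, fun m _ => ?_⟩
    have : CompactSpace X := QuasiCompact.compactSpace_of_compactSpace ι
    have : IsNoetherian X := by
      have : IsLocallyNoetherian (CohB1.ProjSpace N k) :=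
        Groth.Agent.Lib.Lead.SerreFin.isLocallyNoetherian_projSpace N k
      have : IsLocallyNoetherian X := LocallyOfFiniteType.isLocallyNoetherian ι
      exact {}
    have : QuasiSeparatedSpace X := inferInstance
    exact Groth.Agent.Lib.Lead.GrothVanish.subsingleton_HH_of_dim_le X d'
      (by rw [hd]; rfl) _ (N - i) (by omega)

end Groth.Agent.Lib.Helper20.LargeTwist
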