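import Mathlib
import Groth.Agent.Lib.Helper20.LargeTwist3
import Groth.Agent.Lib.Helper20.CMVanish
import Groth.Agent.Lib.Helper21.ExtStalk

/-!
# The stalk criterion `StalkCrit` / `StalkCritAll` (helper20), from helper21's `ExtStalk`
-/

set_option autoImplicit false

universe u

open CategoryTheory Limits Opposite TopologicalSpace AlgebraicGeometry Abelian

namespace Groth.Agent.Lib.Helper20.LargeTwist

/-- the stalk criterion for `ℰxt^j(F, G)`: `X` locally Noetherian, `F` coherent, `G` quasi-coherent -/
theorem stalkCrit {X : Scheme.{u}} [IsLocallyNoetherian X] (F G : X.Modules) (hF : Coh.IsCoh F)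
    (hG : G.IsQuasicoherent) (j : ℕ) : StalkCrit X F G j := fun x =>
  Groth.Agent.Lib.helper21.ExtStalk.subsingleton_stalk_extSh_iff F G hF hG j x

/-- the stalk criterion for `ℰxt^j(F, O_X)` -/
theorem stalkCrit_structureModule {X : Scheme.{u}} [IsLocallyNoetherian X] (F : X.Modules)
    (hF : Coh.IsCoh F) (j : ℕ) : StalkCrit X F (Coh.structureModule X) j :=
  stalkCrit F _ hF (Groth.Agent.Lib.helper16.FLF.isQuasicoherent_of_isFinLocFree _
    (Groth.Agent.Lib.helper16.FLF.isFinLocFree_of_isInvertible (isInvertible_structureModule X))) j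

/-- the stalk criterion for all coherent modules on `P^N_k` -/
theorem stalkCritAll (k : Type u) [Field k] (N : ℕ) : StalkCritAll k N := by
  have hP : IsLocallyNoetherian (CohB1.ProjSpace N k) :=
    Groth.Agent.Lib.Lead.SerreFin.isLocallyNoetherian_projSpace N k
  intro G hG j
  exact stalkCrit_structureModule G hG j

end Groth.Agent.Lib.Helper20.LargeTwist
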