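import Mathlib
import Groth.Agent.Lib.Helper20.DualProj2
import Groth.Agent.Lib.Helper20.LargeTwist5
import Groth.Agent.Lib.Helper20.CMVanish
import Groth.Agent.Lib.Helper20.StalkCritProof
import Groth.Agent.Lib.Helper18.ProjBasic
import Groth.Agent.Lib.Helper16.QCohPullback2

/-!
# Serre duality for Cohen–Macaulay closed subschemes of `ℙᴺ_k` (helper20)

* `isZero_extSh_of_gt`: `ℰxt^q(G, ω_P) = 0` for `q > N`, `G` coherent on `ℙᴺ_k`.
* `isZero_extSh_push_of_cm`: `ℰxt^q(ι_* O_X, ω_P) = 0` for `q > N - n` if `X` is CM of pure dimension `n`.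
* `isCoh_of_isCoh_pushforward`: `F` is coherent if `ι_* F` is (`ι` a closed immersion).
* `nonempty_iso_of_good`: uniqueness of dualizing pairs.
* `cm_ext_dual`: for `X` CM of pure dimension `n`, `(ω, t)` dualizing, `F` coherent:
  `Ext^i(F, ω) ≃ₗ[k] H^{n-i}(X, F)^∨` for `i ≤ n`, and `Ext^i(F, ω) = 0` for `i > n`.
-/

set_option autoImplicit false
set_option linter.unusedSectionVars false
set_option linter.unusedVariables false

universe u

open CategoryTheory Limits AlgebraicGeometry Opposite Abelian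

namespace Groth.Agent.Lib.Helper20.DualProjCM

open Groth.Agent.Lib.Helper20.ClosedImmAdj Groth.Agent.Lib.Helper20.ClosedImmDual
  Groth.Agent.Lib.Helper20.DualAbs Groth.Agent.Lib.Helper20.DualAbs2
  Groth.Agent.Lib.Helper20.ClosedImmHH Groth.Agent.Lib.Helper20.LargeTwist
  Groth.Agent.Lib.Helper20.DualDev Groth.Agent.Lib.Helper18.HH

section Coh

variable {X P : Scheme.{u}} (ι : X ⟶ P) [IsClosedImmersion ι]

/-- `F` is coherent if `ι_* F` is -/
theorem isCoh_of_isCoh_pushforward (F : X.Modules)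
    (h : Coh.IsCoh ((Scheme.Modules.pushforward ι).obj F)) : Coh.IsCoh F := by
  have hq : ((Scheme.Modules.pushforward ι).obj F).IsQuasicoherent := h.1
  have := isIso_counit ι F
  have h1 : Coh.IsCoh ((Scheme.Modules.pullback ι).obj ((Scheme.Modules.pushforward ι).obj F)) :=
    ⟨Groth.Agent.Lib.helper16.QCohPullback.isQuasicoherent_pullback ι _,
      Groth.Agent.Lib.helper16.QCohPullback2.isFiniteType_pullback ι _ h.2⟩
  exact Groth.Agent.Lib.helper21.ShHomCoh.isCoh_of_iso'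
    (asIso ((Scheme.Modules.pullbackPushforwardAdjunction ι).counit.app F)) h1

end Coh

section Unique

variable {X : Scheme.{u}} (k : Type u) [Field k] [X.Over (Spec (CommRingCat.of k))] {n : ℕ}

/-- **uniqueness of dualizing pairs** -/
theorem nonempty_iso_of_good {ω ω' : X.Modules} (t : Coh.HH X ω n →ₗ[k] k)
    (t' : Coh.HH X ω' n →ₗ[k] k) (h1 : Good k t ω) (h2 : Good k t ω') (h3 : Good k t' ω)
    (h4 : Good k t' ω') : Nonempty (ω ≅ ω') := by
  obtain ⟨a, ha⟩ := h3.2 t
  obtain ⟨b, hb⟩ := h2.2 t'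
  have hid : ∀ {ω₀ : X.Modules} (t₀ : Coh.HH X ω₀ n →ₗ[k] k), Φ k t₀ ω₀ (𝟙 ω₀) = t₀ := by
    intro ω₀ t₀
    ext x
    simp only [Φ, LinearMap.comp_apply, mapOver_apply, map_id, LinearMap.id_apply]
  have hab : a ≫ b = 𝟙 ω := by
    apply h1.1
    rw [Φ_comp, hb, hid]
    exact ha
  have hba : b ≫ a = 𝟙 ω' := by
    apply h4.1
    rw [Φ_comp, ha, hid]
    exact hb
  exact ⟨⟨a, b, hab, hba⟩⟩

end Unique

attribute [local instance] Groth.Agent.Lib.helper21.ShHomCoh.hasInjRes
  Groth.Agent.Lib.Helper20.LargeTwist.hasSheafHom'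

variable (k : Type u) [Field k] (N : ℕ)

/-- `ℰxt^q(G, ω_P) = 0` for `q > N` -/
theorem isZero_extSh_of_gt (G : (CohB1.ProjSpace N k).Modules) (hG : Coh.IsCoh G) (q : ℕ)
    (hq : N < q) :
    IsZero ((ModSite.extSh (O := (CohB1.ProjSpace N k).sheaf) G q).obj
      (Twist.twistProjSpace N k (-((N : ℤ) + 1)))) := by
  have := hasExt_modules (CohB1.ProjSpace N k)
  rw [← exists_subsingleton_ext_twist_iff N k G _ hG (isCoh_twistProjSpace k N _) q]
  refine ⟨0, fun m _ => ?_⟩
  obtain ⟨hfin, hrank⟩ := Groth.Agent.Lib.Helper20.ExtDual.pp_all k N q _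
    (Groth.Agent.Lib.Lead.SerreVan.isCoh_twist N k hG (-m))
  rw [Groth.Agent.Lib.Helper20.ExtDual.hdim_of_lt k N _ hq] at hrank
  exact Module.finrank_zero_iff.mp hrank

variable {X : Scheme.{u}} (ι : X ⟶ CohB1.ProjSpace N k) [IsClosedImmersion ι]

/-- **`ℰxt^q(ι_* O_X, ω_P) = 0` for `q > N - n`** if `X` is Cohen–Macaulay of pure dimension `n` -/
theorem isZero_extSh_push_of_cm (n : ℕ) (hn : topologicalKrullDim ↥X = n)
    (hCM : ∀ x : X, IsClosed ({x} : Set ↥X) →
      LocCoh.IsCohenMacaulayLocalRing (X.presheaf.stalk x) ∧ ringKrullDim (X.presheaf.stalk x) = n)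
    (q : ℕ) (hq : N - n < q) :
    IsZero ((ModSite.extSh (O := (CohB1.ProjSpace N k).sheaf)
      ((Scheme.Modules.pushforward ι).obj (Coh.structureModule X)) q).obj
        (Twist.twistProjSpace N k (-((N : ℤ) + 1)))) := by
  by_cases hqN : N < q
  · exact isZero_extSh_of_gt k N _ (isCoh_push_structureModule k N ι) q hqN
  · have hp : N - q < n := by omega
    rw [← exists_subsingleton_HH_pullback_twist_iff k N ι (N - q) q (by omega)]
    obtain ⟨q₀, hq₀⟩ := (cm_iff_vanishing ι (stalkCritAll k N) n hn).mp hCM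
      (Coh.structureModule X) (Groth.Agent.Lib.helper16.FLF.isFinLocFree_structureModule X)
    refine ⟨(q₀ : ℤ), fun m hm => ?_⟩
    have h1 := hq₀ m.toNat (by omega) (N - q) hp
    have hm' : ((m.toNat : ℕ) : ℤ) = m := Int.toNat_of_nonneg (by omega)
    rw [hm'] at h1
    exact Groth.Agent.Lib.Helper20.TwistEquivPn.subsingleton_of_iso
      (Groth.Agent.Lib.Lead.ModTensor.leftUnitor _) (N - q) h1

/-- there is a module `ω'` on `X` with `ι_* ω' ≅ ℰxt^c(ι_* O_X, ω_P)` -/
theorem exists_omega (c : ℕ) : ∃ ω' : X.Modules,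
    Nonempty ((Scheme.Modules.pushforward ι).obj ω' ≅
      (ModSite.extSh (O := (CohB1.ProjSpace N k).sheaf)
        ((Scheme.Modules.pushforward ι).obj (Coh.structureModule X)) c).obj
          (Twist.twistProjSpace N k (-((N : ℤ) + 1)))) := by
  have : HasInjectiveResolution (C := ModSite.Mod (CohB1.ProjSpace N k).sheaf)
      (Twist.twistProjSpace N k (-((N : ℤ) + 1))) := HasInjectiveResolutions.out _
  let R : InjectiveResolution (C := ModSite.Mod (CohB1.ProjSpace N k).sheaf)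
      (Twist.twistProjSpace N k (-((N : ℤ) + 1))) := injectiveResolution _
  exact ⟨(GK (shriek ι) R).homology c, ⟨(extShIso ι _ R c).symm⟩⟩

variable [X.Over (Spec (CommRingCat.of k))]
  (hι : ι ≫ CohB1.ProjSpace.toSpec N k = X ↘ Spec (CommRingCat.of k)) [HasExt.{u} X.Modules]

include hι in
/-- **Serre duality for Cohen–Macaulay projective schemes**: `Ext^i(F, ω) ≃ₗ[k] H^{n-i}(X, F)^∨`,
`i ≤ n`, and `Ext^i(F, ω) = 0`, `i > n`, for any dualizing pair `(ω, t)` -/
theorem cm_ext_dual (n : ℕ) (hn : topologicalKrullDim ↥X = n)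
    (hCM : ∀ x : X, IsClosed ({x} : Set ↥X) →
      LocCoh.IsCohenMacaulayLocalRing (X.presheaf.stalk x) ∧ ringKrullDim (X.presheaf.stalk x) = n)
    (ω : X.Modules) (hω : Coh.IsCoh ω) (t : Coh.HH X ω n →ₗ[k] k)
    (hdual : ∀ F : X.Modules, Coh.IsCoh F → Good k t F)
    (F : X.Modules) (hF : Coh.IsCoh F) (i : ℕ) :
    (i ≤ n → Nonempty (Ext.{u} F ω i ≃ₗ[k] Module.Dual k (Coh.HH X F (n - i)))) ∧
    (n < i → Subsingleton (Ext.{u} F ω i)) := by
  have hExtP : HasExt.{u} (CohB1.ProjSpace N k).Modules := hasExt_modules _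
  have hP : IsLocallyNoetherian (CohB1.ProjSpace N k) :=
    Groth.Agent.Lib.Lead.SerreFin.isLocallyNoetherian_projSpace N k
  have hnN : n ≤ N := by
    have h1 : topologicalKrullDim ↥X ≤ topologicalKrullDim ↥(CohB1.ProjSpace N k) :=
      ι.isClosedEmbedding.topologicalKrullDim_le
    rw [hn, Groth.Agent.Lib.Helper18.ProjBasic.topologicalKrullDim_projSpace] at h1
    exact_mod_cast h1
  have hvan : ∀ q : ℕ, q < N - n → IsZero ((ModSite.extSh (O := (CohB1.ProjSpace N k).sheaf)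
      ((Scheme.Modules.pushforward ι).obj (Coh.structureModule X)) q).obj
        (Twist.twistProjSpace N k (-((N : ℤ) + 1)))) := by
    intro q hq
    refine isZero_extSh_push_of_lt_codim k N ι (N - n) ?_ q hq
    rw [hn]
    exact_mod_cast (show n + (N - n) ≤ N by omega)
  have hvan2 : ∀ q : ℕ, N - n < q → q ≤ (N - n) + i →
      IsZero ((ModSite.extSh (O := (CohB1.ProjSpace N k).sheaf)
        ((Scheme.Modules.pushforward ι).obj (Coh.structureModule X)) q).obj
          (Twist.twistProjSpace N k (-((N : ℤ) + 1)))) :=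
    fun q hq _ => isZero_extSh_push_of_cm k N ι n hn hCM q hq
  obtain ⟨ω', ⟨eω'⟩⟩ := exists_omega k N ι (N - n)
  obtain ⟨t', ht'⟩ := Groth.Agent.Lib.Helper20.DualProj.exists_dualizing k N ι hι n hnN hvan ω' ⟨eω'⟩
  have hcohE : Coh.IsCoh ((ModSite.extSh (O := (CohB1.ProjSpace N k).sheaf)
      ((Scheme.Modules.pushforward ι).obj (Coh.structureModule X)) (N - n)).obj
        (Twist.twistProjSpace N k (-((N : ℤ) + 1)))) :=
    Groth.Agent.Lib.helper21.ShHomCoh.isCoh_T (N - n) _ _ _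
      (isCoh_push_structureModule k N ι) (isCoh_twistProjSpace k N _)
  have hω' : Coh.IsCoh ω' := isCoh_of_isCoh_pushforward ι ω'
    (Groth.Agent.Lib.helper21.ShHomCoh.isCoh_of_iso' eω'.symm hcohE)
  obtain ⟨e⟩ := nonempty_iso_of_good k t t' (hdual ω hω) (hdual ω' hω') (ht' ω hω) (ht' ω' hω')
  exact Groth.Agent.Lib.Helper20.DualProj2.ext_dual k N ι hι n (N - n) i (by omega) hvan hvan2 ω
    ⟨(Scheme.Modules.pushforward ι).mapIso e ≪≫ eω'⟩ F hF i le_rfl

end Groth.Agent.Lib.Helper20.DualProjCM
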