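import Mathlib
import Groth.Agent.Lib.Helper3.IrredDim
import Groth.Agent.Lib.Helper3.RelDim
import Groth.Agent.Lib.Helper3.FTField
import Groth.Agent.Lib.Helper19.ProjSpaceProper

/-!
# Local rings at closed points of an equidimensional scheme of finite type over a field (helper20)

`ringKrullDim_stalk_of_isClosed`: `X` locally of finite type over a field `k`, all irreducible
components of dimension `n`, `x` a closed point: `dim O_{X,x} = n`.
`ringKrullDim_stalk_of_isClosed_of_closedImmersion`: the same for a closed subscheme of `ℙᴺ_k`.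
-/

set_option autoImplicit false

universe u

open CategoryTheory AlgebraicGeometry

namespace Groth.Agent.Lib.Helper20.EquidimClosedPt

theorem ringKrullDim_stalk_of_isClosed (k : Type u) [Field k] (X : Scheme.{u})
    [X.Over (Spec (CommRingCat.of k))] [LocallyOfFiniteType (X ↘ Spec (CommRingCat.of k))] (n : ℕ)
    (heq : ∀ Z : Set ↥X, Z ∈ irreducibleComponents ↥X → topologicalKrullDim ↥Z = (n : WithBot ℕ∞))
    (x : X) (hx : IsClosed ({x} : Set ↥X)) : ringKrullDim (X.presheaf.stalk x) = n := by
  obtain ⟨a, b, ha, hb, hl⟩ := Groth.Agent.Lib.helper3.IrredDim.localDim_eq_trdeg_add_stalk k X x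
  have h0 := Groth.Agent.Lib.helper3.FTField.trdeg_residueField_eq_zero_of_isClosed k X x hx
  have hd := Groth.Agent.Lib.helper3.RelDim.localDim_eq_of_forall_irreducibleComponents k X n heq x
  rw [h0] at ha
  have ha0 : a = 0 := by exact_mod_cast ha.symm
  subst ha0
  rw [hd, zero_add] at hl
  have hnb : n = b := by exact_mod_cast hl
  rw [hb, hnb]

theorem ringKrullDim_stalk_of_isClosed_of_closedImmersion (k : Type u) [Field k] (N : ℕ)
    (X : Scheme.{u}) [X.Over (Spec (CommRingCat.of k))] (ι : X ⟶ CohB1.ProjSpace N k)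
    [IsClosedImmersion ι] (hι : ι ≫ CohB1.ProjSpace.toSpec N k = X ↘ Spec (CommRingCat.of k)) (n : ℕ)
    (heq : ∀ Z : Set ↥X, Z ∈ irreducibleComponents ↥X → topologicalKrullDim ↥Z = (n : WithBot ℕ∞))
    (x : X) (hx : IsClosed ({x} : Set ↥X)) : ringKrullDim (X.presheaf.stalk x) = n := by
  have : IsProper (CohB1.ProjSpace.toSpec N k) :=
    Groth.Agent.Lib.helper19.ProjSpaceProper.proper_toSpec N k
  have : LocallyOfFiniteType (X ↘ Spec (CommRingCat.of k)) := by
    rw [← hι]
    infer_instance
  exact ringKrullDim_stalk_of_isClosed k X n heq x hx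

end Groth.Agent.Lib.Helper20.EquidimClosedPt
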