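import Mathlib
import Groth.Prelude.Def_GrSyz

/-!
# The `ℤ`-indexed standard grading of a polynomial ring versus the `ℕ`-indexed one (helper20)
-/

set_option autoImplicit false
universe u

namespace Groth.Agent.Lib.helper20.StdGr

variable {k : Type u} [CommRing k] {σ : Type*}

lemma weight_one_int (d : σ →₀ ℕ) :
    Finsupp.weight (fun _ : σ => (1 : ℤ)) d = ((Finsupp.degree d : ℕ) : ℤ) := by
  rw [Finsupp.weight_apply, Finsupp.sum]
  change _ = ((∑ i ∈ d.support, d i : ℕ) : ℤ)
  push_cast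
  exact Finset.sum_congr rfl fun i _ => by simp

lemma mem_stdGr_natCast_iff {i : ℕ} {p : MvPolynomial σ k} :
    p ∈ GrSyz.stdGr k σ (i : ℤ) ↔ p ∈ MvPolynomial.homogeneousSubmodule σ k i := by
  rw [GrSyz.mem_stdGr_iff, MvPolynomial.mem_homogeneousSubmodule]
  unfold MvPolynomial.IsHomogeneous MvPolynomial.IsWeightedHomogeneous
  constructor
  · intro h d hd
    have := h hd
    rw [weight_one_int] at this
    have e : Finsupp.weight 1 d = Finsupp.degree d := by rw [Finsupp.degree_eq_weight_one]; rfl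
    rw [e]
    exact_mod_cast this
  · intro h d hd
    have := h hd
    rw [weight_one_int]
    have e : Finsupp.weight 1 d = Finsupp.degree d := by rw [Finsupp.degree_eq_weight_one]; rfl
    rw [e] at this
    exact_mod_cast this

lemma eq_zero_of_mem_stdGr_neg {m : ℤ} (hm : m < 0) {p : MvPolynomial σ k}
    (hp : p ∈ GrSyz.stdGr k σ m) : p = 0 := by
  rw [GrSyz.mem_stdGr_iff] at hp
  by_contra hne
  obtain ⟨d, hd⟩ := MvPolynomial.ne_zero_iff.mp hne
  have := hp hd
  rw [weight_one_int] at this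
  omega

/-- membership in `stdGr m` in terms of the `ℕ`-grading -/
lemma mem_stdGr_iff' {m : ℤ} {p : MvPolynomial σ k} :
    p ∈ GrSyz.stdGr k σ m ↔
      (0 ≤ m ∧ p ∈ MvPolynomial.homogeneousSubmodule σ k m.toNat) ∨ (m < 0 ∧ p = 0) := by
  by_cases hm : 0 ≤ m
  · obtain ⟨i, rfl⟩ : ∃ i : ℕ, m = i := ⟨m.toNat, by omega⟩
    rw [mem_stdGr_natCast_iff]
    simp
  · push Not at hm
    constructor
    · intro hp
      exact Or.inr ⟨hm, eq_zero_of_mem_stdGr_neg hm hp⟩
    · rintro (⟨h, _⟩ | ⟨_, rfl⟩)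
      · omega
      · exact Submodule.zero_mem _

end Groth.Agent.Lib.helper20.StdGr
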