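import Mathlib
import Groth.Prelude.Def_KRR
import Groth.Agent.Lib.Helper11.AmpleInv
import Groth.Agent.Lib.Helper8.DevK0b
import Groth.Agent.Lib.Helper25.FLFKernel
import Groth.Agent.Lib.Helper16.FLF7
import Groth.Agent.Lib.Helper16.FLFTensor
import Groth.Agent.Lib.Helper16.FLF5

/-!
# The class of an ample invertible module is an ample line element (helper20)
-/

set_option autoImplicit false
universe v u

open CategoryTheory CategoryTheory.Limits AlgebraicGeometry Opposite TopologicalSpace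

namespace Groth.Agent.Lib.Helper20.AmpleElt

open Groth.Agent.Lib.helper8.Dev KZero

section Abstract

variable {A : Type u} [Category.{v} A] [Abelian A] (Q : ObjectProperty A)
  (hQ0 : ∀ N : A, IsZero N → Q N)

include hQ0 in
/-- the class of a finite coproduct (for a property stable under binary biproducts) -/
theorem clSub_sigma' (hQiso : ∀ M N : A, (M ≅ N) → Q M → Q N)
    (hQbi : ∀ M N : A, Q M → Q N → Q (M ⊞ N)) :
    ∀ (r : ℕ) (f : Fin r → A), (∀ j, Q (f j)) →
      Q (∐ f) ∧ clSub Q (∐ f) = ∑ j, clSub Q (f j) := by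
  intro r
  induction r with
  | zero =>
    intro f _
    have hI : IsInitial (∐ f) := by
      refine IsInitial.ofUniqueHom (fun Z => Sigma.desc fun i => i.elim0) ?_
      intro Z m
      apply Sigma.hom_ext
      intro i
      exact i.elim0
    have hz : IsZero (∐ f) := by
      rw [IsZero.iff_id_eq_zero]
      exact hI.hom_ext _ _
    exact ⟨hQ0 _ hz, by rw [clSub_zero Q hQ0 _ hz, Fin.sum_univ_zero]⟩
  | succ r ih =>
    intro f hf
    let g : Fin r → A := fun i => f i.succ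
    obtain ⟨hg, hgcl⟩ := ih g (fun j => hf j.succ)
    let c₁ : Cofan g := Cofan.mk (∐ g) (Sigma.ι g)
    have hc₁ : IsColimit c₁ := coproductIsCoproduct g
    let c₂ : BinaryCofan (f 0) c₁.pt := (BinaryBiproduct.bicone (f 0) (∐ g)).toCocone
    have hc₂ : IsColimit c₂ := BinaryBiproduct.isColimit (f 0) (∐ g)
    have hcol := CategoryTheory.extendCofanIsColimit f hc₁ hc₂
    let e : ∐ f ≅ f 0 ⊞ ∐ g :=
      IsColimit.coconePointUniqueUpToIso (coproductIsCoproduct f) hcol
    have hS := (ShortComplex.Splitting.ofHasBinaryBiproduct (f 0) (∐ g)).shortExact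
    have hB : Q (f 0 ⊞ ∐ g) := hQbi _ _ (hf 0) hg
    have hrel : clSub Q (f 0 ⊞ ∐ g) = clSub Q (f 0) + clSub Q (∐ g) :=
      clSub_rel Q _ hS (hf 0) hB hg
    refine ⟨hQiso _ _ e.symm hB, ?_⟩
    rw [clSub_iso Q hQ0 hQiso e, hrel, hgcl, Fin.sum_univ_succ]

end Abstract

section Sch

variable {X : Scheme.{u}}

open Groth.Agent.Lib.helper16.FLF

theorem vb_zero (N : X.Modules) (hN : IsZero N) : KRR.vbP X N :=
  Groth.Agent.Lib.helper25.FLFKernel.isFinLocFree_of_isZero hN

theorem vb_iso (M N : X.Modules) (e : M ≅ N) (hM : KRR.vbP X M) : KRR.vbP X N :=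
  isFinLocFree_of_iso e hM

theorem vb_bi (M N : X.Modules) (hM : KRR.vbP X M) (hN : KRR.vbP X N) : KRR.vbP X (M ⊞ N) :=
  isFinLocFree_biprod hM hN

/-- the class of `N^{⊕ m}` -/
theorem cl_sigma_const (N : X.Modules) (hN : FlatMod.IsFinLocFree N) (m : ℕ) :
    FlatMod.IsFinLocFree (∐ fun _ : Fin m => N) ∧
      KRR.cl X (∐ fun _ : Fin m => N) = m • KRR.cl X N := by
  obtain ⟨h1, h2⟩ := clSub_sigma' (KRR.vbP X) vb_zero vb_iso vb_bi m (fun _ => N) (fun _ => hN)
  refine ⟨h1, ?_⟩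
  change KZero.clSub (KRR.vbP X) _ = m • KZero.clSub (KRR.vbP X) N
  rw [h2, Finset.sum_const, Finset.card_univ, Fintype.card_fin]

/-- on a connected scheme a finite locally free module has constant rank -/
theorem exists_rank [ConnectedSpace X] (G : X.Modules) (hG : FlatMod.IsFinLocFree G) :
    ∃ r : ℕ, FlatMod.IsFinLocFreeOfRank r G := by
  have hlc := isLocallyConstant_fibreRank_of_isFinLocFree G hG
  obtain ⟨x0⟩ := (inferInstance : Nonempty X)
  refine ⟨fibreRank G x0, (isFinLocFreeOfRank_iff_finrank_stalk G hG).mpr (fun x => ?_)⟩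
  haveI := (free_stalk_of_isFinLocFree G hG x).1
  rw [← fibreRank_eq_finrank_of_free]
  exact hlc.apply_eq_of_preconnectedSpace x x0

/-- a module locally free of rank zero is zero -/
theorem isZero_of_rank_zero (G : X.Modules) (hG : FlatMod.IsFinLocFreeOfRank 0 G) : IsZero G := by
  have hG' := isFinLocFree_of_isFinLocFreeOfRank hG
  rw [IsZero.iff_id_eq_zero]
  ext U s
  change s = 0
  refine TopCat.Presheaf.section_ext ⟨G.presheaf, G.isSheaf⟩ U s 0 (fun y hy => ?_)
  haveI := (free_stalk_of_isFinLocFree G hG' y).1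
  haveI := (free_stalk_of_isFinLocFree G hG' y).2
  have h0 := finrank_stalk_of_isFinLocFreeOfRank G hG y
  haveI : Subsingleton (G.presheaf.stalk y) := (Module.finrank_eq_zero_iff_of_free _ _).mp h0
  exact Subsingleton.elim _ _

end Sch

section Model

open Groth.Agent.Lib.helper16.FLF

variable {X : Scheme.{u}} {K : Type v} [CommRing K] [LambdaRing.LambdaOps K]
  {P : LambdaRing.PosStructure K} {φ : SGA6.Kvb X →+ K}

/-- `φ [L^{⊗ n}] = φ[L]^n` -/
theorem map_tensorPow (hK : KRR.IsModel X K P φ) (L : X.Modules) (hL : FlatMod.IsFinLocFree L) :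
    ∀ n : ℕ, FlatMod.IsFinLocFree (CohB1.tensorPow L n) ∧
      φ (KRR.cl X (CohB1.tensorPow L n)) = φ (KRR.cl X L) ^ n
  | 0 => ⟨isFinLocFree_structureModule X, by rw [pow_zero]; exact hK.map_one⟩
  | n + 1 => by
    obtain ⟨h1, h2⟩ := map_tensorPow hK L hL n
    refine ⟨Groth.Agent.Lib.helper16.FLFTensor.isFinLocFree_tensor h1 hL, ?_⟩
    have h3 := hK.map_mul _ _ h1 hL
    rw [pow_succ, ← h2, h3]
    rfl

/-- **the class of an ample invertible module is an ample line element** -/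
theorem isAmpleElt [IsNoetherian X] [ConnectedSpace X] (hK : KRR.IsModel X K P φ)
    (L : X.Modules) (hL : CohB1.IsAmple L) : KRR.IsAmpleElt P (φ (KRR.cl X L)) := by
  have hL1 : FlatMod.IsFinLocFreeOfRank 1 L := (isInvertible_iff_isFinLocFreeOfRank_one L).mp hL.1
  have hLf : FlatMod.IsFinLocFree L := isFinLocFree_of_isFinLocFreeOfRank hL1
  have hupos : φ (KRR.cl X L) ∈ P.pos := (hK.mem_pos_iff _).mpr ⟨1, L, le_rfl, hL1, rfl⟩
  have hupow : ∀ n : ℕ, φ (KRR.cl X L) ^ n ∈ P.pos := by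
    intro n
    induction n with
    | zero =>
      rw [pow_zero]
      have h := P.natCast_mem 1 one_pos
      simpa using h
    | succ n ih =>
      rw [pow_succ]
      exact P.mul_mem _ _ ih hupos
  refine ⟨⟨hupos, ?_⟩, fun x => ?_⟩
  · have h := hK.aug_cl 1 L hL1
    simpa using h
  obtain ⟨e₁, f₁, he₁, hf₁, rfl⟩ := P.exists_sub x
  obtain ⟨r, F, hr, hFr, rfl⟩ := (hK.mem_pos_iff f₁).mp hf₁
  have hFf := isFinLocFree_of_isFinLocFreeOfRank hFr
  haveI := isQuasicoherent_of_isFinLocFree F hFf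
  have hFc : Coh.IsCoh F := ⟨inferInstance, isFiniteType_of_isFinLocFree F hFf⟩
  obtain ⟨n₀, h0⟩ := Groth.Agent.Lib.helper11.TensorEpi.exists_epi_sigma_of_isAmple hL F hFc
  obtain ⟨n₁, h1⟩ := Groth.Agent.Lib.helper11.AmpleInv.exists_inverse_tensorPow hL
  refine ⟨max n₀ n₁, fun n hn => ?_⟩
  obtain ⟨N, hN, hinv⟩ := h1 n (le_trans (le_max_right _ _) hn)
  obtain ⟨m, π, hπ⟩ := h0 n (le_trans (le_max_left _ _) hn) N hinv
  have hNf := isFinLocFree_of_isInvertible hN
  obtain ⟨hSf, hScl⟩ := cl_sigma_const N hNf m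
  have hGf := Groth.Agent.Lib.helper25.FLFKernel.isFinLocFree_kernel_of_epi π hSf hFf
  have hSES : (ShortComplex.mk (kernel.ι π) π (kernel.condition π)).ShortExact :=
    ShortComplex.ShortExact.mk' (ShortComplex.exact_kernel π) inferInstance hπ
  have hrel := clSub_rel (KRR.vbP X) _ hSES hGf hSf hFf
  obtain ⟨hLn, hLn'⟩ := map_tensorPow hK L hLf n
  obtain ⟨einv⟩ := hinv
  have hone : φ (KRR.cl X L) ^ n * φ (KRR.cl X N) = 1 := by
    rw [← hLn', hK.map_mul _ _ hLn hNf]
    have h2 : KRR.cl X (((DCoh.tensorBi (X := X)).obj (CohB1.tensorPow L n)).obj N) =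
        KRR.cl X (Coh.structureModule X) :=
      clSub_iso (KRR.vbP X) vb_zero vb_iso einv
    rw [h2, hK.map_one]
  have hsum : (m : K) * φ (KRR.cl X N) = φ (KRR.cl X (kernel π)) + φ (KRR.cl X F) := by
    have h3 : KRR.cl X (∐ fun _ : Fin m => N) = KRR.cl X (kernel π) + KRR.cl X F := hrel
    rw [hScl] at h3
    have h4 := congrArg φ h3
    rw [map_nsmul, map_add, nsmul_eq_mul] at h4
    exact h4
  have hkey : φ (KRR.cl X L) ^ n * (e₁ - φ (KRR.cl X F)) =
      φ (KRR.cl X L) ^ n * e₁ + φ (KRR.cl X L) ^ n * φ (KRR.cl X (kernel π)) - (m : K) := by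
    have h5 : φ (KRR.cl X F) = (m : K) * φ (KRR.cl X N) - φ (KRR.cl X (kernel π)) := by
      rw [hsum]; ring
    rw [h5]
    have h6 : φ (KRR.cl X L) ^ n * ((m : K) * φ (KRR.cl X N)) = (m : K) := by
      rw [mul_left_comm, hone, mul_one]
    linear_combination (-1 : K) * h6
  obtain ⟨rG, hrG⟩ := exists_rank (kernel π) hGf
  rcases Nat.eq_zero_or_pos rG with h0r | hposr
  · subst h0r
    have hz : KRR.cl X (kernel π) = 0 :=
      clSub_zero (KRR.vbP X) vb_zero _ (isZero_of_rank_zero _ hrG)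
    refine ⟨φ (KRR.cl X L) ^ n * e₁, m, P.mul_mem _ _ (hupow n) he₁, ?_⟩
    rw [hkey, hz, map_zero, mul_zero, add_zero]
  · have hgpos : φ (KRR.cl X (kernel π)) ∈ P.pos :=
      (hK.mem_pos_iff _).mpr ⟨rG, kernel π, hposr, hrG, rfl⟩
    exact ⟨_, m, P.add_mem _ _ (P.mul_mem _ _ (hupow n) he₁) (P.mul_mem _ _ (hupow n) hgpos), hkey⟩

end Model

end Groth.Agent.Lib.Helper20.AmpleElt
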