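import Mathlib
import Groth.Agent.Lib.Helper20.AmpleElt

/-!
# The class of an ample invertible module is an ample line element, without Noetherian hypothesis (helper20)
-/

set_option autoImplicit false
universe v u

open CategoryTheory CategoryTheory.Limits AlgebraicGeometry Opposite TopologicalSpace

namespace Groth.Agent.Lib.Helper20.AmpleElt

open Groth.Agent.Lib.helper8.Dev KZero Groth.Agent.Lib.helper16.FLF

variable {X : Scheme.{u}} {K : Type v} [CommRing K] [LambdaRing.LambdaOps K]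
  {P : LambdaRing.PosStructure K} {φ : SGA6.Kvb X →+ K}

/-- **the class of an ample invertible module is an ample line element** -/
theorem isAmpleElt' [ConnectedSpace X] (hK : KRR.IsModel X K P φ)
    (L : X.Modules) (hL : CohB1.IsAmple L) : KRR.IsAmpleElt P (φ (KRR.cl X L)) := by
  haveI : CompactSpace X := hL.2.1
  haveI : QuasiSeparatedSpace X :=
    Groth.Agent.Lib.helper12.AmpleBasis.quasiSeparatedSpace_of_hasAffineCover hL.1 hL.2.2
  have hL1 : FlatMod.IsFinLocFreeOfRank 1 L := (isInvertible_iff_isFinLocFreeOfRank_one L).mp hL.1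
  have hLf : FlatMod.IsFinLocFree L := isFinLocFree_of_isFinLocFreeOfRank hL1
  have hupos : φ (KRR.cl X L) ∈ P.pos := (hK.mem_pos_iff _).mpr ⟨1, L, le_rfl, hL1, rfl⟩
  have hupow : ∀ n : ℕ, φ (KRR.cl X L) ^ n ∈ P.pos := by
    intro n
    induction n with
    | zero =>
      rw [pow_zero]
      have h := P.natCast_mem 1 one_pos
      simpa using h
    | succ n ih =>
      rw [pow_succ]
      exact P.mul_mem _ _ ih hupos
  refine ⟨⟨hupos, ?_⟩, fun x => ?_⟩
  · have h := hK.aug_cl 1 L hL1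
    simpa using h
  obtain ⟨e₁, f₁, he₁, hf₁, rfl⟩ := P.exists_sub x
  obtain ⟨r, F, hr, hFr, rfl⟩ := (hK.mem_pos_iff f₁).mp hf₁
  have hFf := isFinLocFree_of_isFinLocFreeOfRank hFr
  haveI := isQuasicoherent_of_isFinLocFree F hFf
  have hFc : Coh.IsCoh F := ⟨inferInstance, isFiniteType_of_isFinLocFree F hFf⟩
  obtain ⟨n₀, h0⟩ := Groth.Agent.Lib.helper11.TensorEpi.exists_epi_sigma_of_isAmple hL F hFc
  obtain ⟨n₁, h1⟩ := Groth.Agent.Lib.helper11.AmpleInv.exists_inverse_tensorPow hL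
  refine ⟨max n₀ n₁, fun n hn => ?_⟩
  obtain ⟨N, hN, hinv⟩ := h1 n (le_trans (le_max_right _ _) hn)
  obtain ⟨m, π, hπ⟩ := h0 n (le_trans (le_max_left _ _) hn) N hinv
  have hNf := isFinLocFree_of_isInvertible hN
  obtain ⟨hSf, hScl⟩ := cl_sigma_const N hNf m
  have hGf := Groth.Agent.Lib.helper25.FLFKernel.isFinLocFree_kernel_of_epi π hSf hFf
  have hSES : (ShortComplex.mk (kernel.ι π) π (kernel.condition π)).ShortExact :=
    ShortComplex.ShortExact.mk' (ShortComplex.exact_kernel π) inferInstance hπ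
  have hrel := clSub_rel (KRR.vbP X) _ hSES hGf hSf hFf
  obtain ⟨hLn, hLn'⟩ := map_tensorPow hK L hLf n
  obtain ⟨einv⟩ := hinv
  have hone : φ (KRR.cl X L) ^ n * φ (KRR.cl X N) = 1 := by
    rw [← hLn', hK.map_mul _ _ hLn hNf]
    have h2 : KRR.cl X (((DCoh.tensorBi (X := X)).obj (CohB1.tensorPow L n)).obj N) =
        KRR.cl X (Coh.structureModule X) :=
      clSub_iso (KRR.vbP X) vb_zero vb_iso einv
    rw [h2, hK.map_one]
  have hsum : (m : K) * φ (KRR.cl X N) = φ (KRR.cl X (kernel π)) + φ (KRR.cl X F) := by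
    have h3 : KRR.cl X (∐ fun _ : Fin m => N) = KRR.cl X (kernel π) + KRR.cl X F := hrel
    rw [hScl] at h3
    have h4 := congrArg φ h3
    rw [map_nsmul, map_add, nsmul_eq_mul] at h4
    exact h4
  have hkey : φ (KRR.cl X L) ^ n * (e₁ - φ (KRR.cl X F)) =
      φ (KRR.cl X L) ^ n * e₁ + φ (KRR.cl X L) ^ n * φ (KRR.cl X (kernel π)) - (m : K) := by
    have h5 : φ (KRR.cl X F) = (m : K) * φ (KRR.cl X N) - φ (KRR.cl X (kernel π)) := by
      rw [hsum]; ring
    rw [h5]
    have h6 : φ (KRR.cl X L) ^ n * ((m : K) * φ (KRR.cl X N)) = (m : K) := by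
      rw [mul_left_comm, hone, mul_one]
    linear_combination (-1 : K) * h6
  obtain ⟨rG, hrG⟩ := exists_rank (kernel π) hGf
  rcases Nat.eq_zero_or_pos rG with h0r | hposr
  · subst h0r
    have hz : KRR.cl X (kernel π) = 0 :=
      clSub_zero (KRR.vbP X) vb_zero _ (isZero_of_rank_zero _ hrG)
    refine ⟨φ (KRR.cl X L) ^ n * e₁, m, P.mul_mem _ _ (hupow n) he₁, ?_⟩
    rw [hkey, hz, map_zero, mul_zero, add_zero]
  · have hgpos : φ (KRR.cl X (kernel π)) ∈ P.pos :=
      (hK.mem_pos_iff _).mpr ⟨rG, kernel π, hposr, hrG, rfl⟩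
    exact ⟨_, m, P.add_mem _ _ (P.mul_mem _ _ (hupow n) he₁) (P.mul_mem _ _ (hupow n) hgpos), hkey⟩


end Groth.Agent.Lib.Helper20.AmpleElt
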