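import Groth.Agent.Lib.Helper8.PullOnComp
import Groth.Agent.Lib.Helper8.GenBCChart2
import Groth.Agent.Lib.Helper8.FlatBCNat

/-!
# Cohomology and base change in degree zero, on sections (helper20)
-/

set_option autoImplicit false
universe u
open CategoryTheory Opposite TopologicalSpace AlgebraicGeometry
open Scheme.Modules

namespace Groth.Agent.Lib.Helper20.BCH0

open Groth.Agent.Lib.Helper18.ResLE Groth.Agent.Lib.helper8.PullOnComp
  Groth.Agent.Lib.helper8.PullbackUnit Groth.Agent.Lib.helper8.PullModComp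

variable {X Y : Scheme.{u}}

theorem equiv₀_sectH0 (F : X.Modules) (W : X.Opens) (s : F.presheaf.obj (op W)) :
    Sheaf.H.equiv₀ (Coh.toAb (F.restrict W.ι))
        (Limits.isTerminalTop : Limits.IsTerminal (⊤ : (W : Scheme.{u}).Opens))
        (CohPull.sectH0 F W s) =
      (F.presheaf.map (eqToHom W.ι_image_top).op).hom s :=
  AddEquiv.apply_symm_apply _ _

/-- **`pullOn` in degree zero is pullback of sections** -/
theorem pullOn_sectH0 (g : X ⟶ Y) (U : Y.Opens) (U' : X.Opens) (h : U' ≤ g ⁻¹ᵁ U)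
    (F : Y.Modules) (s : Γ(F, U)) :
    CohPull.pullOn g U U' h F 0 (CohPull.sectH0 F U s) =
      CohPull.sectH0 ((Scheme.Modules.pullback g).obj F) U' (ρ g h F s) := by
  apply (Sheaf.H.equiv₀ (Coh.toAb (((Scheme.Modules.pullback g).obj F).restrict U'.ι))
    (Limits.isTerminalTop : Limits.IsTerminal (⊤ : (U' : Scheme.{u}).Opens))).injective
  rw [equiv₀_sectH0]
  have e1 : CohPull.pullOn g U U' h F 0 (CohPull.sectH0 F U s) =
      CohPull.mapH (CohPull.pullOnIso g U U' h F).hom 0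
        (CohPull.pullMod (g.resLE U U' h) (F.restrict U.ι) 0 (CohPull.sectH0 F U s)) := rfl
  rw [e1, CohPull.mapH, ← Sheaf.H.equiv₀_naturality, CohPull.equiv₀_pullMod, equiv₀_sectH0]
  have hle : U'.ι ''ᵁ ((g.resLE U U' h) ⁻¹ᵁ ⊤) ≤ g ⁻¹ᵁ (U.ι ''ᵁ ⊤) := by
    rw [U.ι_image_top]
    exact (Scheme.Hom.image_le_opensRange _ _).trans (by rw [Scheme.Opens.opensRange_ι]; exact h)
  have e2 := θOn_app' g U U' h F ⊤ ((F.presheaf.map (eqToHom U.ι_image_top).op).hom s) hle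
  refine Eq.trans (b := ((θOn g U U' h F).app ⊤).hom
    ((F.presheaf.map (eqToHom U.ι_image_top).op).hom s)) rfl ?_
  rw [e2, ρ_apply]
  have e3 := app_naturality (uP g F) (eqToHom U.ι_image_top : U.ι ''ᵁ ⊤ ⟶ U) s
  rw [e3]
  have hc : U'.ι ''ᵁ ((g.resLE U U' h) ⁻¹ᵁ ⊤) ≤ g ⁻¹ᵁ U :=
    hle.trans (g.preimage_mono (le_of_eq U.ι_image_top))
  refine (map_map_eq ((Scheme.Modules.pullback g).obj F)
    ((Opens.map g.base).map (eqToHom U.ι_image_top)).op (homOfLE hle).op (homOfLE hc).op _).trans ?_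
  exact (map_map_eq ((Scheme.Modules.pullback g).obj F) (homOfLE h).op
    (eqToHom U'.ι_image_top).op (homOfLE hc).op _).symm


section Chart

open Groth.Agent.Lib.helper8.GenBCChart Groth.Agent.Lib.helper21.GCCech
  Groth.Agent.Lib.helper8.EpsAffine Groth.Agent.Lib.helper8.FlatBC
  Groth.Agent.Lib.helper8.FlatHomBC

/-- sections over `U ≤ a⁻¹W` as degree-zero cohomology, `Γ(S, W)`-linearly -/
noncomputable def sectEquiv {X S : Scheme.{u}} (a : X ⟶ S) (M : X.Modules) {W : S.Opens}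
    (hW : IsAffineOpen W) {U : X.Opens} (hUW : U ≤ a ⁻¹ᵁ W) :
    letI := modHH (fU a hW hUW) (M.restrict U.ι) 0
    NW a M W U hUW ≃ₗ[Γ(S, W)] Coh.HHon X M U 0 :=
  letI := modHH (fU a hW hUW) (M.restrict U.ι) 0
  { CohPull.sectH0 M U with
    map_smul' := fun r t => by
      show CohPull.sectH0 M U ((a.appLE W U hUW).hom r • (show Γ(M, U) from t)) =
        Coh.toGlobal (A := Γ(S, W)) (fU a hW hUW) r • CohPull.sectH0 M U t
      rw [toGlobal_fU, sectH0_smul] }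

theorem sectEquiv_apply {X S : Scheme.{u}} (a : X ⟶ S) (M : X.Modules) {W : S.Opens}
    (hW : IsAffineOpen W) {U : X.Opens} (hUW : U ≤ a ⁻¹ᵁ W) (t : Γ(M, U)) :
    sectEquiv a M hW hUW t = CohPull.sectH0 M U t := rfl

theorem isSeparated_fU' {X Y : Scheme.{u}} (f : X ⟶ Y) [IsSeparated f] {V : Y.Opens}
    (hV : IsAffineOpen V) : IsSeparated (fU f hV (le_refl (f ⁻¹ᵁ V))) := by
  unfold fU
  rw [Scheme.Hom.resLE_eq_morphismRestrict]
  haveI : IsSeparated (f ∣_ V) := inferInstance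
  infer_instance

theorem quasiCompact_fU' {X Y : Scheme.{u}} (f : X ⟶ Y) [QuasiCompact f] {V : Y.Opens}
    (hV : IsAffineOpen V) : QuasiCompact (fU f hV (le_refl (f ⁻¹ᵁ V))) := by
  unfold fU
  rw [Scheme.Hom.resLE_eq_morphismRestrict]
  haveI : QuasiCompact (f ∣_ V) := inferInstance
  infer_instance

end Chart

section Main

open Groth.Agent.Lib.helper8.GenBCChart Groth.Agent.Lib.helper21.GCCech
  Groth.Agent.Lib.helper8.EpsAffine Groth.Agent.Lib.helper8.FlatBC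
  Groth.Agent.Lib.helper8.FlatHomBC

variable {X Y X' Y' : Scheme.{u}} (f : X ⟶ Y) [IsSeparated f] [QuasiCompact f]
  (g : Y' ⟶ Y) (g' : X' ⟶ X) (f' : X' ⟶ Y') (h : IsPullback g' f' f g)
  (F : X.Modules) [F.IsQuasicoherent] (hF : FlatMod.IsFlatOver f F)
  {V : Y.Opens} (hV : IsAffineOpen V) {V' : Y'.Opens} (hV' : IsAffineOpen V')
  (e : V' ≤ g ⁻¹ᵁ V)

include h hF hV hV' in
/-- **Cohomology and base change in degree zero, on sections**: if `Γ(F, f⁻¹V)` is flat over `Γ(Y, V)`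
and the higher cohomology of `F` on `f⁻¹V` vanishes, then `Γ(F, f⁻¹V) → Γ(g'^*F, g'⁻¹f⁻¹V ∩ f'⁻¹V')` is
a base change along `Γ(Y, V) → Γ(Y', V')`. -/
theorem isBC_kW (hflat : Module.Flat Γ(Y, V) (NW f F V (f ⁻¹ᵁ V) le_rfl))
    (hvan : ∀ p : ℕ, 1 ≤ p → Subsingleton (Coh.HHon X F (f ⁻¹ᵁ V) p)) :
    IsBC (g.appLE V V' e).hom (kW (g' := g') (f' := f') (V' := V') F (f ⁻¹ᵁ V) le_rfl) := by
  haveI : IsSeparated f' := MorphismProperty.of_isPullback (P := @IsSeparated) h inferInstance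
  haveI : QuasiCompact f' := MorphismProperty.of_isPullback (P := @QuasiCompact) h inferInstance
  haveI : Coh.IsQCoh ((Scheme.Modules.pullback g').obj F) :=
    Groth.Agent.Lib.helper16.QCohPullback.isQuasicoherent_pullback g' F
  letI : Algebra Γ(Y, V) Γ(Y', V') := (g.appLE V V' e).hom.toAlgebra
  have hU'W' : sharp g' f' V' (f ⁻¹ᵁ V) ≤ f' ⁻¹ᵁ V' := inf_le_right
  have h₁ : sharp g' f' V' (f ⁻¹ᵁ V) ≤ g' ⁻¹ᵁ (f ⁻¹ᵁ V) := inf_le_left
  have hpb : IsPullback (g'.resLE (f ⁻¹ᵁ V) (sharp g' f' V' (f ⁻¹ᵁ V)) h₁)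
      (fU f' hV' hU'W') (fU f hV (le_refl (f ⁻¹ᵁ V)))
      (Spec.map (CommRingCat.ofHom (algebraMap Γ(Y, V) Γ(Y', V')))) :=
    isPullback_chart h hV hV' e (le_refl (f ⁻¹ᵁ V)) rfl
  haveI : IsSeparated (fU f hV (le_refl (f ⁻¹ᵁ V))) := isSeparated_fU' f hV
  haveI : QuasiCompact (fU f hV (le_refl (f ⁻¹ᵁ V))) := quasiCompact_fU' f hV
  haveI : (F.restrict (f ⁻¹ᵁ V).ι).IsQuasicoherent :=
    Scheme.Modules.isQuasicoherent_restrictFunctor (f ⁻¹ᵁ V).ι F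
  have hfl := isFlatOver_fU f hV (le_refl (f ⁻¹ᵁ V)) F hF
  have hHflat : ∀ p : ℕ, @Module.Flat Γ(Y, V) (Coh.HH (↑(f ⁻¹ᵁ V) : Scheme.{u})
      (F.restrict (f ⁻¹ᵁ V).ι) p) _ _
      (modHH (fU f hV (le_refl (f ⁻¹ᵁ V))) (F.restrict (f ⁻¹ᵁ V).ι) p) := by
    intro p
    letI := modHH (fU f hV (le_refl (f ⁻¹ᵁ V))) (F.restrict (f ⁻¹ᵁ V).ι) p
    rcases Nat.eq_zero_or_pos p with rfl | hp
    · exact Module.Flat.of_linearEquiv (sectEquiv f F hV (le_refl (f ⁻¹ᵁ V))).symm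
    · haveI := hvan p hp
      haveI := Module.Free.of_subsingleton Γ(Y, V) (Coh.HH (↑(f ⁻¹ᵁ V) : Scheme.{u})
        (F.restrict (f ⁻¹ᵁ V).ι) p)
      infer_instance
  have core := isBC_pullMod (fU f hV (le_refl (f ⁻¹ᵁ V))) (fU f' hV' hU'W')
    (g'.resLE (f ⁻¹ᵁ V) (sharp g' f' V' (f ⁻¹ᵁ V)) h₁) hpb
    (F.restrict (f ⁻¹ᵁ V).ι) hfl hHflat 0
  -- the map `T = pullOn`
  let T : Coh.HHon X F (f ⁻¹ᵁ V) 0 →+
      Coh.HHon X' ((Scheme.Modules.pullback g').obj F) (sharp g' f' V' (f ⁻¹ᵁ V)) 0 :=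
    CohPull.pullOn g' (f ⁻¹ᵁ V) (sharp g' f' V' (f ⁻¹ᵁ V)) h₁ F 0
  have hT : @IsBC Γ(Y, V) Γ(Y', V') _ _ (algebraMap Γ(Y, V) Γ(Y', V')) _ _ _
      (modHH (fU f hV (le_refl (f ⁻¹ᵁ V))) (F.restrict (f ⁻¹ᵁ V).ι) 0) _
      (modHH (fU f' hV' hU'W')
        (((Scheme.Modules.pullback g').obj F).restrict (sharp g' f' V' (f ⁻¹ᵁ V)).ι) 0) T := by
    letI := modHH (fU f hV (le_refl (f ⁻¹ᵁ V))) (F.restrict (f ⁻¹ᵁ V).ι) 0
    letI mB1 := modHH (fU f' hV' hU'W')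
      ((Scheme.Modules.pullback (g'.resLE (f ⁻¹ᵁ V) (sharp g' f' V' (f ⁻¹ᵁ V)) h₁)).obj
        (F.restrict (f ⁻¹ᵁ V).ι)) 0
    letI mB2 := modHH (fU f' hV' hU'W')
      (((Scheme.Modules.pullback g').obj F).restrict (sharp g' f' V' (f ⁻¹ᵁ V)).ι) 0
    let e0 := mapEquiv (CohPull.pullOnIso g' (f ⁻¹ᵁ V) (sharp g' f' V' (f ⁻¹ᵁ V)) h₁ F) 0
    let eB : Coh.HHon X' ((Scheme.Modules.pullback g').obj F) (sharp g' f' V' (f ⁻¹ᵁ V)) 0
        ≃ₗ[Γ(Y', V')]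
        Coh.HH (↑(sharp g' f' V' (f ⁻¹ᵁ V)) : Scheme.{u})
          ((Scheme.Modules.pullback (g'.resLE (f ⁻¹ᵁ V) (sharp g' f' V' (f ⁻¹ᵁ V)) h₁)).obj
            (F.restrict (f ⁻¹ᵁ V).ι)) 0 :=
      { e0.symm.toAddEquiv with
        map_smul' := fun s y =>
          e0.symm.map_smul (Coh.toGlobal (A := Γ(Y', V')) (fU f' hV' hU'W') s) y }
    refine core.of_equiv (LinearEquiv.refl _ _) eB T (fun x => ?_)
    show e0.symm (T x) = _
    rw [LinearEquiv.symm_apply_eq]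
    rfl
  -- transfer along `sectH0`
  have hk : @IsBC Γ(Y, V) Γ(Y', V') _ _ (algebraMap Γ(Y, V) Γ(Y', V'))
      (NW f F V (f ⁻¹ᵁ V) le_rfl) (PW g' f' F V' (f ⁻¹ᵁ V)) _ _ _ _
      (kW (g' := g') (f' := f') (V' := V') F (f ⁻¹ᵁ V) le_rfl) := by
    letI := modHH (fU f hV (le_refl (f ⁻¹ᵁ V))) (F.restrict (f ⁻¹ᵁ V).ι) 0
    letI := modHH (fU f' hV' hU'W')
      (((Scheme.Modules.pullback g').obj F).restrict (sharp g' f' V' (f ⁻¹ᵁ V)).ι) 0
    refine hT.of_equiv (sectEquiv f F hV (le_refl (f ⁻¹ᵁ V)))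
      (sectEquiv f' ((Scheme.Modules.pullback g').obj F) hV' hU'W') _ (fun a => ?_)
    exact (pullOn_sectH0 g' (f ⁻¹ᵁ V) (sharp g' f' V' (f ⁻¹ᵁ V)) h₁ F a).symm
  exact hk

include h hF in
/-- **Base change for `f_*`** (no flatness of `g`): `f` separated quasi-compact, `F` quasi-coherent and flat
over `Y`, with `Γ(F, f⁻¹V)` flat over `Γ(Y, V)` and `H^p(f⁻¹V, F) = 0` for `p ≥ 1`, for all affine opens
`V` of `Y`.  Then `g^* f_* F ⟶ f'_* g'^* F` is an isomorphism. -/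
theorem isIso_bcMap_of_acyclic
    (hflat : ∀ V : Y.Opens, IsAffineOpen V → Module.Flat Γ(Y, V) (NW f F V (f ⁻¹ᵁ V) le_rfl))
    (hvan : ∀ V : Y.Opens, IsAffineOpen V → ∀ p : ℕ, 1 ≤ p →
      Subsingleton (Coh.HHon X F (f ⁻¹ᵁ V) p)) :
    IsIso (Groth.Agent.Lib.helper8.FlatBCNat.bcMap h F) := by
  haveI : ((pushforward f).obj F).IsQuasicoherent :=
    Groth.Agent.Lib.helper7.QCohPushQC.isQuasicoherent_pushforward f F
  unfold Groth.Agent.Lib.helper8.FlatBCNat.bcMap Groth.Agent.Lib.helper8.FlatBCNat.bcPre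
  refine isIso_homEquiv_symm_of_isBC g _
    {V' | IsAffineOpen V' ∧ ∃ V : Y.Opens, IsAffineOpen V ∧ V' ≤ g ⁻¹ᵁ V}
    (isBasis_affine_preimage g) ?_
  rintro V' ⟨hV', V, hV, e⟩
  refine ⟨hV', V, hV, e, ?_⟩
  have e' : f' ⁻¹ᵁ V' ≤ g' ⁻¹ᵁ (f ⁻¹ᵁ V) := by
    intro x hx
    show f (g' x) ∈ V
    have : f (g' x) = g (f' x) := by
      rw [← Scheme.Hom.comp_apply, ← Scheme.Hom.comp_apply, h.w]
    rw [this]
    exact e hx
  have hρ : ∀ a, ρv g e ((pushforward f).map ((pullbackPushforwardAdjunction g').unit.app F) ≫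
      (pushforwardComp g' f).hom.app ((pullback g').obj F) ≫
      (pushforwardCongr h.w).hom.app ((pullback g').obj F) ≫
      (pushforwardComp f' g).inv.app ((pullback g').obj F)) a = ρ g' e' F a := by
    intro a
    rw [ρv_apply, ρ_apply]
    generalize hx : (((pullbackPushforwardAdjunction g').unit.app F).app (f ⁻¹ᵁ V)).hom a = x
    change ((pullback g').obj F).presheaf.map _ (((pullback g').obj F).presheaf.map _
      ((((pullbackPushforwardAdjunction g').unit.app F).app (f ⁻¹ᵁ V)).hom a)) = _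
    rw [hx, ← ConcreteCategory.comp_apply, ← Functor.map_comp]
    rfl
  have hbc : IsBC (g.appLE V V' e).hom (kW (g' := g') (f' := f') (V' := V') F (f ⁻¹ᵁ V) le_rfl) :=
    isBC_kW f g g' f' h F hF hV hV' e (hflat V hV) (hvan V hV)
  have hs : sharp g' f' V' (f ⁻¹ᵁ V) = f' ⁻¹ᵁ V' := inf_eq_right.mpr e'
  refine hbc.of_equiv (eN f F V) (eP F hs) _ (fun a => ?_)
  rw [hρ]
  show ((pullback g').obj F).presheaf.map (homOfLE hs.le).op (ρ g' e' F a) =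
    ρ g' (inf_le_left : sharp g' f' V' (f ⁻¹ᵁ V) ≤ g' ⁻¹ᵁ (f ⁻¹ᵁ V)) F a
  have h4 := ρ_res g' e' F (inf_le_left : sharp g' f' V' (f ⁻¹ᵁ V) ≤ g' ⁻¹ᵁ (f ⁻¹ᵁ V)) le_rfl hs.le
    (show Γ(F, f ⁻¹ᵁ V) from a)
  rw [Groth.Agent.Lib.helper7.map_self] at h4
  exact h4

end Main

end Groth.Agent.Lib.Helper20.BCH0
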