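import Groth.Agent.Lib.Helper8.GEPushBC
import Groth.Agent.Lib.Helper8.FlatBCNat

/-!
# The two forms of the base change map agree (helper20)

For a commutative square `g' ≫ f = f' ≫ g`, the adjoint (under `f'^* ⊣ f'_*`) of
`f'^* g^* f_* F ≅ g'^* f^* f_* F ⟶ g'^* F` is helper8's `FlatBCNat.bcMap` (the adjoint under `g^* ⊣ g_*` of
`f_* F ⟶ f_* g'_* g'^* F ≅ g_* f'_* g'^* F`).
-/

set_option autoImplicit false
universe u
open CategoryTheory AlgebraicGeometry Opposite TopologicalSpace
open Scheme.Modules

namespace Groth.Agent.Lib.Helper20.BCMate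

open Groth.Agent.Lib.helper8.GEPushBC Groth.Agent.Lib.helper8.FlatBCNat

variable {X Y X' Y' : Scheme.{u}} {f : X ⟶ Y} {g : Y' ⟶ Y} {g' : X' ⟶ X} {f' : X' ⟶ Y'}

theorem conjugateEquiv_pullbackCongr {A B : Scheme.{u}} {k₁ k₂ : A ⟶ B} (e : k₁ = k₂) :
    conjugateEquiv (pullbackPushforwardAdjunction k₁) (pullbackPushforwardAdjunction k₂)
      (pullbackCongr e.symm).hom = (pushforwardCongr e).hom := by
  subst e
  have h1 : (pullbackCongr (rfl : k₁ = k₁).symm).hom = 𝟙 _ := rfl
  rw [h1, conjugateEquiv_id]
  ext M U x
  rw [pushforwardCongr_hom_app_app]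
  have h2 : (eqToHom (rfl : (Opens.map k₁.base).obj U = (Opens.map k₁.base).obj U)).op =
      𝟙 (op ((Opens.map k₁.base).obj U)) := rfl
  have h3 : M.presheaf.map (𝟙 (op ((Opens.map k₁.base).obj U))) = 𝟙 _ := M.presheaf.map_id _
  exact (congrArg (fun t => (AddCommGrpCat.Hom.hom t) x) h3).symm

theorem conjugateEquiv_pullbackComp_hom {A B C : Scheme.{u}} (k : A ⟶ B) (l : B ⟶ C) :
    conjugateEquiv (pullbackPushforwardAdjunction (k ≫ l))
      ((pullbackPushforwardAdjunction l).comp (pullbackPushforwardAdjunction k))
      (pullbackComp k l).hom = (pushforwardComp k l).inv := by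
  have h1 := conjugateEquiv_comp (pullbackPushforwardAdjunction (k ≫ l))
    ((pullbackPushforwardAdjunction l).comp (pullbackPushforwardAdjunction k))
    (pullbackPushforwardAdjunction (k ≫ l)) (pullbackComp k l).hom (pullbackComp k l).inv
  rw [Iso.inv_hom_id, conjugateEquiv_id, conjugateEquiv_pullbackComp_inv] at h1
  exact (Iso.eq_comp_inv _).2 h1 |>.trans (Category.id_comp _)

variable (w : g' ≫ f = f' ≫ g)

/-- the natural transformation `g^* ⋙ f'^* ⟶ f^* ⋙ g'^*` built from `pullbackComp` and `pullbackCongr` -/
noncomputable def thetaNat :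
    Scheme.Modules.pullback g ⋙ Scheme.Modules.pullback f' ⟶
      Scheme.Modules.pullback f ⋙ Scheme.Modules.pullback g' :=
  (pullbackComp f' g).hom ≫ (pullbackCongr w.symm).hom ≫ (pullbackComp g' f).inv

theorem conjugateEquiv_thetaNat :
    conjugateEquiv (adjA f g') (adjB g f') (thetaNat w) = (pushIso w).hom := by
  unfold thetaNat pushIso
  rw [← conjugateEquiv_comp (adjA f g') (pullbackPushforwardAdjunction (f' ≫ g)) (adjB g f'),
    ← conjugateEquiv_comp (adjA f g') (pullbackPushforwardAdjunction (g' ≫ f))
      (pullbackPushforwardAdjunction (f' ≫ g)),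
    conjugateEquiv_pullbackComp_inv, conjugateEquiv_pullbackCongr w,
    conjugateEquiv_pullbackComp_hom]
  simp only [Iso.trans_hom, Iso.symm_hom, Category.assoc]

theorem pushIso_hom_app (M : X'.Modules) :
    (pushIso w).hom.app M = (pushforwardComp g' f).hom.app M ≫ (pushforwardCongr w).hom.app M ≫
      (pushforwardComp f' g).inv.app M := rfl

/-- **the two forms of the base change map agree** -/
theorem homEquiv_adj_eq_bcMap (h : IsPullback g' f' f g) (F : X.Modules) :
    ((pullbackPushforwardAdjunction f').homEquiv _ _)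
      ((pullbackComp f' g).hom.app ((pushforward f).obj F) ≫
        (pullbackCongr h.w.symm).hom.app ((pushforward f).obj F) ≫
        (pullbackComp g' f).inv.app ((pushforward f).obj F) ≫
        (Scheme.Modules.pullback g').map ((pullbackPushforwardAdjunction f).counit.app F)) =
      bcMap h F := by
  apply ((pullbackPushforwardAdjunction g).homEquiv _ _).injective
  have e1 : ((pullbackPushforwardAdjunction g).homEquiv _ _) (bcMap h F) = bcPre h F :=
    Equiv.apply_symm_apply _ _
  refine Eq.trans ?_ e1.symm
  set N := (pushforward f).obj F with hN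
  set ε := (pullbackPushforwardAdjunction f).counit.app F with hε
  have hθ : (pullbackComp f' g).hom.app N ≫ (pullbackCongr h.w.symm).hom.app N ≫
      (pullbackComp g' f).inv.app N = (thetaNat h.w).app N := rfl
  rw [← Category.assoc, ← Category.assoc, Category.assoc ((pullbackComp f' g).hom.app N), hθ,
    Adjunction.homEquiv_unit, Adjunction.homEquiv_unit]
  have key := unit_conjugateEquiv (adjA f g') (adjB g f') (thetaNat h.w) N
  rw [conjugateEquiv_thetaNat] at key
  have e2 : (adjA f g').unit.app N = (pullbackPushforwardAdjunction f).unit.app N ≫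
      (pushforward f).map ((pullbackPushforwardAdjunction g').unit.app
        ((Scheme.Modules.pullback f).obj N)) := Adjunction.comp_unit_app _ _ _
  have e3 : (adjB g f').unit.app N = (pullbackPushforwardAdjunction g).unit.app N ≫
      (pushforward g).map ((pullbackPushforwardAdjunction f').unit.app
        ((Scheme.Modules.pullback g).obj N)) := Adjunction.comp_unit_app _ _ _
  rw [e2, e3] at key
  simp only [Functor.comp_obj, Functor.comp_map, Category.assoc] at key
  have nat1 := (pushIso h.w).hom.naturality ((Scheme.Modules.pullback g').map ε)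
  simp only [Functor.comp_obj, Functor.comp_map] at nat1
  have nat2 := (pullbackPushforwardAdjunction g').unit.naturality ε
  simp only [Functor.id_obj, Functor.id_map, Functor.comp_obj, Functor.comp_map] at nat2
  have tri := (pullbackPushforwardAdjunction f).right_triangle_components F
  simp only [Functor.map_comp, Category.assoc]
  rw [reassoc_of% key.symm, ← nat1, ← Functor.map_comp_assoc, ← nat2, Functor.map_comp_assoc,
    reassoc_of% tri]
  rfl

end Groth.Agent.Lib.Helper20.BCMate
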