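import Mathlib
import Groth.Prelude.Def_Pic13
import Groth.Agent.Lib.Helper20.SmulHom
import Groth.Agent.Lib.Helper7.CohKer
import Groth.Agent.Lib.Helper16.QCohPullback2
import Groth.Agent.Lib.Helper12.PullTensor
import Groth.Agent.Lib.Helper11.InvMod
import Groth.Agent.Lib.Helper21.InvFibre
import Groth.Agent.Lib.Helper18.DegCalc
import Groth.Agent.Lib.Lead.ModTensor

/-!
# Bounded families of cokernels (helper20)

`X` a scheme over a field `k`, `ψ_1, …, ψ_D : A ⟶ E` morphisms of coherent modules. The cokernels of the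
`k`-linear combinations `∑ a_j ψ_j` are the fibres of a coherent module on `X ×_k 𝔸^D`
(`exists_family`).
-/

set_option autoImplicit false
universe u
open CategoryTheory CategoryTheory.Limits AlgebraicGeometry Opposite TopologicalSpace

namespace Groth.Agent.Lib.Helper20.BoundedCoker

open Groth.Agent.Lib.Helper20.SmulHom

noncomputable section

variable (k : Type u) [Field k] (X : Scheme.{u}) [X.Over (Spec (CommRingCat.of k))]

/-- the scalar `a : k` as a global function on `X` -/
abbrev cst (a : k) : Coh.Γtop X := Coh.toGlobal (X ↘ Spec (CommRingCat.of k)) a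

variable {X} in
/-- the `k`-linear combination `∑ a_j ψ_j` -/
def comb {A E : X.Modules} {D : ℕ} (ψ : Fin D → (A ⟶ E)) (a : Fin D → k) : A ⟶ E :=
  ∑ j, ψ j ≫ smulHom (cst k X (a j)) E

variable (D : ℕ)

/-- affine `D`-space over `k` -/
abbrev AD : Scheme.{u} := Spec (CommRingCat.of (MvPolynomial (Fin D) k))

/-- the structure morphism of affine space -/
abbrev qAD : AD k D ⟶ Spec (CommRingCat.of k) :=
  Spec.map (CommRingCat.ofHom (algebraMap k (MvPolynomial (Fin D) k)))

/-- the `k`-point with coordinates `a` -/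
abbrev ptAD (a : Fin D → k) : Spec (CommRingCat.of k) ⟶ AD k D :=
  Spec.map (CommRingCat.ofHom (MvPolynomial.eval a))

lemma ptAD_qAD (a : Fin D → k) : ptAD k D a ≫ qAD k D = 𝟙 _ := by
  rw [← Spec.map_comp, ← Spec.map_id]
  congr 1
  ext x
  simp

instance : LocallyOfFiniteType (qAD k D) := by
  rw [HasRingHomProperty.Spec_iff (P := @LocallyOfFiniteType)]
  exact RingHom.finiteType_algebraMap.mpr inferInstance

instance : QuasiCompact (qAD k D) := inferInstance

/-- the coordinate function `x_j` on `X ×_k 𝔸^D` -/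
def coord (j : Fin D) : Coh.Γtop (Pic13.prodK k X (qAD k D)) :=
  (pullback.snd (X ↘ Spec (CommRingCat.of k)) (qAD k D)).appTop.hom
    ((Scheme.ΓSpecIso (CommRingCat.of (MvPolynomial (Fin D) k))).inv.hom (MvPolynomial.X j))

/-- pulling a coordinate function back along the slice at the point `a` gives the constant `a_j` -/
lemma slice_coord (a : Fin D → k) (j : Fin D) :
    (Pic13.sliceAt k X (qAD k D) (ptAD k D a) (ptAD_qAD k D a)).appTop.hom (coord k X D j) =
      cst k X (a j) := by
  have h1 : Pic13.sliceAt k X (qAD k D) (ptAD k D a) (ptAD_qAD k D a) ≫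
      pullback.snd (X ↘ Spec (CommRingCat.of k)) (qAD k D) =
      (X ↘ Spec (CommRingCat.of k)) ≫ ptAD k D a := pullback.lift_snd _ _ _
  have h2 := congrArg Scheme.Hom.appTop h1
  rw [Scheme.Hom.comp_appTop, Scheme.Hom.comp_appTop] at h2
  have h3 := ConcreteCategory.congr_hom h2
    ((Scheme.ΓSpecIso (CommRingCat.of (MvPolynomial (Fin D) k))).inv.hom (MvPolynomial.X j))
  have h4 := ConcreteCategory.congr_hom
    (Scheme.ΓSpecIso_inv_naturality (CommRingCat.ofHom (MvPolynomial.eval a))) (MvPolynomial.X j)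
  have h5 : (MvPolynomial.eval a) (MvPolynomial.X j : MvPolynomial (Fin D) k) = a j :=
    MvPolynomial.eval_X j
  change _ = (Scheme.Hom.appTop (X ↘ Spec (CommRingCat.of k))).hom
    ((Scheme.Hom.appTop (ptAD k D a)).hom _) at h3
  change (Scheme.ΓSpecIso (CommRingCat.of k)).inv.hom ((MvPolynomial.eval a) (MvPolynomial.X j)) =
    (Scheme.Hom.appTop (ptAD k D a)).hom _ at h4
  rw [h5] at h4
  change _ = (Scheme.Hom.appTop (X ↘ Spec (CommRingCat.of k))).hom
    ((Scheme.ΓSpecIso (CommRingCat.of k)).inv.hom (a j))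
  rw [h4]
  exact h3


section Family

variable {X} {A E : X.Modules} {D} (ψ : Fin D → (A ⟶ E))

/-- the first projection `X ×_k 𝔸^D ⟶ X` -/
abbrev p₁ : Pic13.prodK k X (qAD k D) ⟶ X :=
  pullback.fst (X ↘ Spec (CommRingCat.of k)) (qAD k D)

/-- the universal linear combination `∑ x_j ψ_j` on `X ×_k 𝔸^D` -/
def univ : (Scheme.Modules.pullback (p₁ k (X := X) (D := D))).obj A ⟶
    (Scheme.Modules.pullback (p₁ k (X := X) (D := D))).obj E :=
  ∑ j, (Scheme.Modules.pullback (p₁ k (X := X) (D := D))).map (ψ j) ≫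
    smulHom (coord k X D j) ((Scheme.Modules.pullback (p₁ k (X := X) (D := D))).obj E)

/-- the slice at the point `a` -/
abbrev sl (a : Fin D → k) : X ⟶ Pic13.prodK k X (qAD k D) :=
  Pic13.sliceAt k X (qAD k D) (ptAD k D a) (ptAD_qAD k D a)

lemma sl_p₁ (a : Fin D → k) : sl k (X := X) a ≫ p₁ k (X := X) (D := D) = 𝟙 X :=
  pullback.lift_fst _ _ _

/-- `s_a^* p₁^* ≅ id` -/
def η (a : Fin D → k) :
    Scheme.Modules.pullback (p₁ k (X := X) (D := D)) ⋙ Scheme.Modules.pullback (sl k (X := X) a) ≅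
      𝟭 X.Modules :=
  Scheme.Modules.pullbackComp (sl k (X := X) a) (p₁ k (X := X) (D := D)) ≪≫
    Scheme.Modules.pullbackCongr (sl_p₁ k a) ≪≫ Scheme.Modules.pullbackId X

lemma pullback_univ (a : Fin D → k) :
    (Scheme.Modules.pullback (sl k (X := X) a)).map (univ k ψ) ≫ (η k a).hom.app E =
      (η k a).hom.app A ≫ comb k ψ a := by
  unfold univ comb
  rw [Functor.map_sum, Preadditive.sum_comp, Preadditive.comp_sum]
  refine Finset.sum_congr rfl fun j _ => ?_
  rw [Functor.map_comp, pullback_smulHom, slice_coord, Category.assoc, smulHom_naturality,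
    ← Category.assoc, ← Category.assoc]
  congr 1
  exact (η k a).hom.naturality (ψ j)

/-- the fibre of `coker (∑ x_j ψ_j)` at the point `a` is `coker (∑ a_j ψ_j)` -/
def fibreIso (a : Fin D → k) :
    Pic13.fibreMod k X (qAD k D) (ptAD k D a) (ptAD_qAD k D a) (cokernel (univ k ψ)) ≅
      cokernel (comb k ψ a) :=
  PreservesCokernel.iso (Scheme.Modules.pullback (sl k (X := X) a)) (univ k ψ) ≪≫
    cokernel.mapIso _ _ ((η k a).app A) ((η k a).app E) (pullback_univ k ψ a)


lemma isCoh_pullback {Y Z : Scheme.{u}} (f : Y ⟶ Z) {M : Z.Modules} (hM : Coh.IsCoh M) :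
    Coh.IsCoh ((Scheme.Modules.pullback f).obj M) := by
  haveI : M.IsQuasicoherent := hM.1
  exact ⟨Groth.Agent.Lib.helper16.QCohPullback.isQuasicoherent_pullback f M,
    Groth.Agent.Lib.helper16.QCohPullback2.isFiniteType_pullback f M hM.2⟩

/-- **Bounded families of cokernels.** The cokernels of the `k`-linear combinations of finitely many
morphisms `ψ_j : A ⟶ E` of coherent modules, tensored with an invertible module `L`, are fibres of
one coherent module on `X ×_k 𝔸^D`. -/
theorem exists_family_twist (hA : Coh.IsCoh A) (hE : Coh.IsCoh E) (L : X.Modules)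
    (hL : PicF.IsInvertible L) :
    ∃ (T : Scheme.{u}) (q : T ⟶ Spec (CommRingCat.of k)), LocallyOfFiniteType q ∧ QuasiCompact q ∧
      ∃ F : (Pic13.prodK k X q).Modules, Coh.IsCoh F ∧
        ∀ a : Fin D → k, ∃ (t : Spec (CommRingCat.of k) ⟶ T) (ht : t ≫ q = 𝟙 _),
          Nonempty (Pic13.fibreMod k X q t ht F ≅ CohB1.tensorMod (cokernel (comb k ψ a)) L) := by
  have hL' : PicF.IsInvertible ((Scheme.Modules.pullback (p₁ k (X := X) (D := D))).obj L) :=
    Groth.Agent.Lib.helper11.InvMod.isInvertible_pullback _ hL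
  refine ⟨AD k D, qAD k D, inferInstance, inferInstance,
    CohB1.tensorMod (cokernel (univ k ψ))
      ((Scheme.Modules.pullback (p₁ k (X := X) (D := D))).obj L), ?_, fun a => ?_⟩
  · exact Groth.Agent.Lib.Helper18.DegCalc.isCoh_tensorMod
      (Groth.Agent.Lib.helper7.CohKer.isCoh_cokernel (isCoh_pullback _ hA) (isCoh_pullback _ hE) _)
      (Groth.Agent.Lib.helper21.InvFibre.isCoh_of_isInvertible hL')
  · refine ⟨ptAD k D a, ptAD_qAD k D a, ⟨?_⟩⟩
    exact Groth.Agent.Lib.helper12.PullTensor.pullTensorIso (sl k (X := X) a) _ _ hL' ≪≫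
      Groth.Agent.Lib.Lead.ModTensor.tensorIso (fibreIso k ψ a) ((η k a).app L)

end Family

end

end Groth.Agent.Lib.Helper20.BoundedCoker
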