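import Mathlib
import Groth.Prelude.Def_Pic13
import Groth.Agent.Lib.Helper11.CounitEpi
import Groth.Agent.Lib.Lead.ProjectiveVan
import Groth.Agent.Lib.Helper20.CMGG
import Groth.Agent.Lib.Helper11.RelSerre
import Groth.Agent.Lib.Helper8.FormalBasic

/-!
# Castelnuovo–Mumford regularity on a closed subscheme of `P^n_k`, via pushforward (helper20)

* `epi_counit_of_isAffineHom`: the counit `f^* f_* M ⟶ M` is epi for `f` affine, `M` quasi-coherent.
* `gg_of_gg_push`: `f_* M` globally generated ⇒ `M` globally generated.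
* `regular_push_iff`: `F` is `m`-regular on `X` iff `i_* F` is `m`-regular on `P^n`.
-/

set_option autoImplicit false
universe u

open CategoryTheory CategoryTheory.Limits AlgebraicGeometry Opposite TopologicalSpace

namespace Groth.Agent.Lib.helper20.PushReg

open Groth.Agent.Lib.helper11.CounitEpi Scheme.Modules

section Counit

variable {X S : Scheme.{u}}

/-- the counit `f^* f_* M ⟶ M` is an epimorphism for `f` affine and `M` quasi-coherent -/
theorem epi_counit_of_isAffineHom (f : X ⟶ S) [IsAffineHom f] (M : X.Modules)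
    [M.IsQuasicoherent] :
    Epi ((pullbackPushforwardAdjunction f).counit.app M) := by
  refine epi_of_forall_restrict _ (fun x => ?_)
  obtain ⟨_, ⟨V, hV, rfl⟩, hxV, -⟩ :=
    S.isBasis_affineOpens.exists_subset_of_mem_open (Set.mem_univ (f x)) isOpen_univ
  refine ⟨f ⁻¹ᵁ V, hxV, ?_⟩
  rw [epi_restrict_counit_iff]
  have hU : IsAffineOpen (f ⁻¹ᵁ V) := IsAffineOpen.preimage hV f
  have : IsAffine ((f ⁻¹ᵁ V : X.Opens) : Scheme.{u}) := hU
  exact epi_counit_of_isGloballyGenerated _ (isGloballyGenerated_of_isAffine _)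

/-- if `f_* M` is globally generated (`f` affine, `M` quasi-coherent) then so is `M` -/
theorem gg_of_gg_push (f : X ⟶ S) [IsAffineHom f] (M : X.Modules) [M.IsQuasicoherent]
    (h : Curv2.IsGloballyGenerated ((Scheme.Modules.pushforward f).obj M)) :
    Curv2.IsGloballyGenerated M := by
  obtain ⟨ι, p, hp⟩ := h
  have h1 : Epi ((Scheme.Modules.pullback f).map p) := @epi_pullback_map _ _ f _ _ p hp
  have h0 := epi_counit_of_isAffineHom f M
  have h2 : Epi ((Scheme.Modules.pullback f).map p ≫
      (pullbackPushforwardAdjunction f).counit.app M) := @epi_comp _ _ _ _ _ _ h1 _ h0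
  have he : Epi (pullbackFreeIso f ι).inv := ⟨fun g h w => by
    have := congrArg ((pullbackFreeIso f ι).hom ≫ ·) w
    exact ((Iso.hom_inv_id_assoc _ g).symm.trans this).trans (Iso.hom_inv_id_assoc _ h)⟩
  exact ⟨ι, (pullbackFreeIso f ι).inv ≫ (Scheme.Modules.pullback f).map p ≫
    (pullbackPushforwardAdjunction f).counit.app M,
    @epi_comp _ _ _ _ _ (pullbackFreeIso f ι).inv he _ h2⟩

end Counit

section Exact

open Groth.Agent.Lib.Helper18.HH Groth.Agent.Lib.helper27

variable {X S : Scheme.{u}}

/-- pushforward along an affine morphism preserves short exact sequences with quasi-coherent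
kernel -/
theorem shortExact_push (f : X ⟶ S) [IsAffineHom f] {T : ShortComplex X.Modules}
    (hT : T.ShortExact) [T.X₁.IsQuasicoherent] :
    (T.map (Scheme.Modules.pushforward f)).ShortExact := by
  have h1 : (T.map (toAbF X)).ShortExact := toAb_shortExact hT
  have hz : IsZero ((Coh.RpushAb f 1).obj (Coh.toAb T.X₁)) :=
    RpushVanish.isZero_RpushAb f T.X₁ 0
  have hepi : Epi ((Coh.pushAb f).map (T.map (toAbF X)).g) :=
    Horseshoe.epi_of_isZero (Coh.pushAb f) h1 hz
  have h2 : ((T.map (toAbF X)).map (Coh.pushAb f)).ShortExact :=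
    Horseshoe.map_shortExact_of_epi (Coh.pushAb f) h1 hepi
  have h3 : ((T.map (Scheme.Modules.pushforward f)).map (toAbF S)).ShortExact := h2
  have hex : (T.map (Scheme.Modules.pushforward f)).Exact :=
    ((T.map (Scheme.Modules.pushforward f)).exact_map_iff_of_faithful (toAbF S)).1 h3.exact
  have hm : Mono (T.map (Scheme.Modules.pushforward f)).f :=
    (toAbF S).mono_of_mono_map h3.mono_f
  have he : Epi (T.map (Scheme.Modules.pushforward f)).g :=
    (toAbF S).epi_of_epi_map h3.epi_g
  exact ShortComplex.ShortExact.mk' hex hm he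

end Exact

section Reg

open Groth.Agent.Lib.Lead.ProjectiveVan Groth.Agent.Lib.Lead.ProjectiveCoh
  Groth.Agent.Lib.Helper18.HH Groth.Agent.Lib.Helper20.TwistEquivPn
  Groth.Agent.Lib.helper20.CMReg Groth.Agent.Lib.helper20.CMGG
  Groth.Agent.Lib.Lead.ModTensor

/-- `finrank` of cohomology is invariant under isomorphism -/
theorem finrank_of_iso {A : Type u} [CommRing A] {X : Scheme.{u}}
    [X.Over (Spec (CommRingCat.of A))] {M N : X.Modules} (e : M ≅ N) (q : ℕ) :
    Module.finrank A (Coh.HH X M q) = Module.finrank A (Coh.HH X N q) := by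
  refine LinearEquiv.finrank_eq (LinearEquiv.ofLinearMap (mapOver A e.hom q) (mapOver A e.inv q) ?_ ?_)
  · refine LinearMap.ext fun x => ?_
    simp only [LinearMap.comp_apply, mapOver_apply, LinearMap.id_apply]
    rw [← map_comp_apply, e.inv_hom_id, map_id]
    rfl
  · refine LinearMap.ext fun x => ?_
    simp only [LinearMap.comp_apply, mapOver_apply, LinearMap.id_apply]
    rw [← map_comp_apply, e.hom_inv_id, map_id]
    rfl

variable {k : Type u} [Field k] {n : ℕ} {X : Scheme.{u}} (i : X ⟶ CohB1.ProjSpace n k)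
  [IsClosedImmersion i]

/-- `H^q(X, F(d)) = 0 ↔ H^q(P^n, (i_*F)(d)) = 0` -/
theorem subsingleton_twist_iff (F : X.Modules) [F.IsQuasicoherent] (d : ℤ) (q : ℕ) :
    Subsingleton (Coh.HH X (Pic13.twistOn k i F d) q) ↔
      Subsingleton (Coh.HH (CohB1.ProjSpace n k)
        (CohB1.tensorMod ((Scheme.Modules.pushforward i).obj F) (Twist.twistProjSpace n k d)) q) := by
  have : (Pic13.twistOn k i F d).IsQuasicoherent := isQuasicoherent_twistOn i F d
  obtain ⟨e⟩ := nonempty_pushTwistIso i F d
  refine (subsingleton_iff_push i (Pic13.twistOn k i F d) q).trans ?_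
  exact ⟨subsingleton_of_iso e.symm q, subsingleton_of_iso e q⟩

theorem regular_push {F : X.Modules} (hF : Coh.IsCoh F) {m : ℤ}
    (h : Pic13.IsMRegular k i F m) :
    Curv2.IsMRegular k n ((Scheme.Modules.pushforward i).obj F) m := by
  have : F.IsQuasicoherent := hF.1
  exact fun q hq _ => (subsingleton_twist_iff i F (m - q) q).1 (h q hq)

theorem regular_of_push {F : X.Modules} (hF : Coh.IsCoh F) {m : ℤ}
    (h : Curv2.IsMRegular k n ((Scheme.Modules.pushforward i).obj F) m) :
    Pic13.IsMRegular k i F m := by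
  have : F.IsQuasicoherent := hF.1
  exact fun q hq => (subsingleton_twist_iff i F (m - q) q).2
    (vanish_of_regular (isCoh_push i hF) h m le_rfl q hq)

/-- the dimension of `H^q(X, F(d))` is that of `H^q(P^n, (i_*F)(d))` -/
theorem finrank_twist [X.Over (Spec (CommRingCat.of k))]
    (hi : i ≫ CohB1.ProjSpace.toSpec n k = X ↘ Spec (CommRingCat.of k))
    (F : X.Modules) [F.IsQuasicoherent] (d : ℤ) (q : ℕ) :
    Module.finrank k (Coh.HH X (Pic13.twistOn k i F d) q) =
      Module.finrank k (Coh.HH (CohB1.ProjSpace n k)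
        (CohB1.tensorMod ((Scheme.Modules.pushforward i).obj F) (Twist.twistProjSpace n k d)) q) := by
  have : (Pic13.twistOn k i F d).IsQuasicoherent := isQuasicoherent_twistOn i F d
  have := isOver i hi
  obtain ⟨e⟩ := nonempty_pushTwistIso i F d
  rw [finrank_of_iso e q]
  exact (finrank_push i (Pic13.twistOn k i F d) k q).symm

/-- `m`-regularity on `P^n` is invariant under isomorphism -/
theorem regular_of_iso {M N : (CohB1.ProjSpace n k).Modules} (e : M ≅ N) {m : ℤ}
    (h : Curv2.IsMRegular k n M m) : Curv2.IsMRegular k n N m :=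
  fun q hq hqn => subsingleton_of_iso (tensorIso e (Iso.refl _)) q (h q hq hqn)

end Reg

end Groth.Agent.Lib.helper20.PushReg
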