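import Mathlib
import Groth.Prelude.Def_Pic13
import Groth.Agent.Lib.Helper11.SerrePn
import Groth.Agent.Lib.Helper11.PnOverBridge
import Groth.Agent.Lib.Helper8.DevAR
import Groth.Agent.Lib.Helper20.PushReg
import Groth.Agent.Lib.Helper20.BoundedCoker
import Groth.Agent.Lib.Lead.ModTensor

/-!
# Bounded families are quotients of one `O_X(-N)^m` (helper20)

`X ⊆ P^n_k` closed.
* `gA`, `jA`, `isPullback_jA`: for a `k`-algebra `A`, the closed immersion `X ×_k Spec A ⟶ P^n_A`.
* `exists_epi_affine`: a coherent module on `X ×_k Spec A` has all its fibres at `k`-points quotients of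
  `O_X(-N)^m`, for all `N ≫ 0` and some `m = m(N)`.
-/

set_option autoImplicit false
universe u
open CategoryTheory CategoryTheory.Limits AlgebraicGeometry Opposite TopologicalSpace

namespace Groth.Agent.Lib.Helper20.BoundedEpi

open Groth.Agent.Lib.Lead.ModTensor Groth.Agent.Lib.helper12.PnLocal

noncomputable section

variable (k : Type u) [Field k] {n : ℕ} {X : Scheme.{u}} [X.Over (Spec (CommRingCat.of k))]
  (i : X ⟶ CohB1.ProjSpace n k)
  (hi : i ≫ CohB1.ProjSpace.toSpec n k = X ↘ Spec (CommRingCat.of k))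

section Affine

variable {A : Type u} [CommRing A] (φ : k →+* A)

/-- `Spec A ⟶ Spec k` -/
abbrev qA : Spec (CommRingCat.of A) ⟶ Spec (CommRingCat.of k) := Spec.map (CommRingCat.ofHom φ)

variable (n) in
/-- `P^n_A ⟶ P^n_k` -/
def gA : CohB1.ProjSpace n A ⟶ CohB1.ProjSpace n k :=
  Proj.map (polyMap n φ) (irrelevant_le_polyMap n φ)

variable (n) in
lemma isPullback_gA :
    IsPullback (gA k n φ) (CohB1.ProjSpace.toSpec n A) (CohB1.ProjSpace.toSpec n k) (qA k φ) :=
  isPullback_polyMap n φ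

include hi in
lemma jA_aux : (pullback.fst (X ↘ Spec (CommRingCat.of k)) (qA k φ) ≫ i) ≫
    CohB1.ProjSpace.toSpec n k = pullback.snd (X ↘ Spec (CommRingCat.of k)) (qA k φ) ≫ qA k φ := by
  rw [Category.assoc, hi, pullback.condition]

/-- the closed immersion `X ×_k Spec A ⟶ P^n_A` -/
def jA : Pic13.prodK k X (qA k φ) ⟶ CohB1.ProjSpace n A :=
  (isPullback_gA k n φ).lift (pullback.fst _ _ ≫ i) (pullback.snd _ _) (jA_aux k i hi φ)

lemma jA_g : jA k i hi φ ≫ gA k n φ = pullback.fst _ _ ≫ i :=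
  (isPullback_gA k n φ).lift_fst _ _ _

lemma jA_toSpec : jA k i hi φ ≫ CohB1.ProjSpace.toSpec n A = pullback.snd _ _ :=
  (isPullback_gA k n φ).lift_snd _ _ _

lemma isPullback_jA :
    IsPullback (jA k i hi φ) (pullback.fst (X ↘ Spec (CommRingCat.of k)) (qA k φ))
      (gA k n φ) i := by
  refine IsPullback.of_right ?_ (jA_g k i hi φ) (isPullback_gA k n φ).flip
  rw [jA_toSpec, hi]
  exact (IsPullback.of_hasPullback (X ↘ Spec (CommRingCat.of k)) (qA k φ)).flip

instance [IsClosedImmersion i] : IsClosedImmersion (jA k i hi φ) :=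
  MorphismProperty.of_isPullback (isPullback_jA k i hi φ).flip inferInstance

/-- for `u : X ⟶ P^n_A` over `i`, `u^* O_A(d) ≅ O_X ⊗ i^* O_k(d)` -/
def pullTwistOnIso (u : X ⟶ CohB1.ProjSpace n A) (hu : u ≫ gA k n φ = i) (d : ℤ) :
    (Scheme.Modules.pullback u).obj (Twist.twistProjSpace n A d) ≅
      Pic13.twistOn k i (Coh.structureModule X) d :=
  (Scheme.Modules.pullback u).mapIso
      (Groth.Agent.Lib.helper11.PnOverBridge.polyTwistIso n φ d).symm ≪≫
    (Scheme.Modules.pullbackComp u (gA k n φ)).app _ ≪≫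
    (Scheme.Modules.pullbackCongr hu).app _ ≪≫ (leftUnitor _).symm

include hi in
/-- **the affine case**: a coherent module on `X ×_k Spec A` has all its fibres at `k`-points
quotients of `O_X(-N)^m`, for all large `N` and some `m` depending on `N`. -/
theorem exists_epi_affine [IsClosedImmersion i] (F : (Pic13.prodK k X (qA k φ)).Modules)
    (hF : Coh.IsCoh F) :
    ∃ N₀ : ℕ, ∀ N : ℕ, N₀ ≤ N → ∃ m : ℕ,
      ∀ (t : Spec (CommRingCat.of k) ⟶ Spec (CommRingCat.of A)) (ht : t ≫ qA k φ = 𝟙 _),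
        ∃ p : (∐ fun _ : Fin m => Pic13.twistOn k i (Coh.structureModule X) (-(N : ℤ))) ⟶
          Pic13.fibreMod k X (qA k φ) t ht F, Epi p := by
  have hG : Coh.IsCoh ((Scheme.Modules.pushforward (jA k i hi φ)).obj F) :=
    Groth.Agent.Lib.helper8.Dev.isCoh_push_of_isCoh (jA k i hi φ) F hF
  obtain ⟨N₀, h⟩ := Groth.Agent.Lib.helper11.SerrePn.exists_epi_twist_le n A _ hG
  refine ⟨N₀, fun N hN => ?_⟩
  obtain ⟨m, π, hπ⟩ := h N hN
  refine ⟨m, fun t ht => ?_⟩
  haveI : F.IsQuasicoherent := hF.1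
  let s := Pic13.sliceAt k X (qA k φ) t ht
  have hs : s ≫ pullback.fst _ _ = 𝟙 X := pullback.lift_fst _ _ _
  have hu : (s ≫ jA k i hi φ) ≫ gA k n φ = i := by
    rw [Category.assoc, jA_g, ← Category.assoc, hs, Category.id_comp]
  -- the epimorphism on `X ×_k Spec A`
  haveI := Groth.Agent.Lib.helper20.PushReg.epi_counit_of_isAffineHom (jA k i hi φ) F
  let ρ : (Scheme.Modules.pullback (jA k i hi φ)).obj
      (∐ fun _ : Fin m => Twist.twistProjSpace n A (-(N : ℤ))) ⟶ F :=
    (Scheme.Modules.pullback (jA k i hi φ)).map π ≫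
      (Scheme.Modules.pullbackPushforwardAdjunction (jA k i hi φ)).counit.app F
  haveI : PreservesColimitsOfSize.{0, 0} (Scheme.Modules.pullback (jA k i hi φ)) :=
    (Scheme.Modules.pullbackPushforwardAdjunction (jA k i hi φ)).leftAdjoint_preservesColimits
  haveI : PreservesColimitsOfSize.{0, 0} (Scheme.Modules.pullback s) :=
    (Scheme.Modules.pullbackPushforwardAdjunction s).leftAdjoint_preservesColimits
  haveI : PreservesColimitsOfSize.{0, 0} (Scheme.Modules.pullback (s ≫ jA k i hi φ)) :=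
    (Scheme.Modules.pullbackPushforwardAdjunction (s ≫ jA k i hi φ)).leftAdjoint_preservesColimits
  haveI : Epi ((Scheme.Modules.pullback (jA k i hi φ)).map π) := inferInstance
  haveI : Epi ρ := epi_comp _ _
  have hρ' : Epi ((Scheme.Modules.pullback s).map ρ) := inferInstance
  -- the source
  let e : (∐ fun _ : Fin m => Pic13.twistOn k i (Coh.structureModule X) (-(N : ℤ))) ≅
      (Scheme.Modules.pullback s).obj ((Scheme.Modules.pullback (jA k i hi φ)).obj
        (∐ fun _ : Fin m => Twist.twistProjSpace n A (-(N : ℤ)))) :=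
    (Sigma.mapIso fun _ : Fin m =>
        (pullTwistOnIso k i φ (s ≫ jA k i hi φ) hu (-(N : ℤ))).symm) ≪≫
      (PreservesCoproduct.iso (Scheme.Modules.pullback (s ≫ jA k i hi φ))
        (fun _ : Fin m => Twist.twistProjSpace n A (-(N : ℤ)))).symm ≪≫
      ((Scheme.Modules.pullbackComp s (jA k i hi φ)).app _).symm
  exact ⟨e.hom ≫ (Scheme.Modules.pullback s).map ρ, @epi_comp _ _ _ _ _ e.hom _ _ hρ'⟩

include hi in
/-- the affine case, for an arbitrary structure morphism `Spec A ⟶ Spec k` -/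
theorem exists_epi_affine' [IsClosedImmersion i]
    (q' : Spec (CommRingCat.of A) ⟶ Spec (CommRingCat.of k))
    (F : (Pic13.prodK k X q').Modules) (hF : Coh.IsCoh F) :
    ∃ N₀ : ℕ, ∀ N : ℕ, ∃ m : ℕ, N₀ ≤ N →
      ∀ (t : Spec (CommRingCat.of k) ⟶ Spec (CommRingCat.of A)) (ht : t ≫ q' = 𝟙 _),
        ∃ p : (∐ fun _ : Fin m => Pic13.twistOn k i (Coh.structureModule X) (-(N : ℤ))) ⟶
          Pic13.fibreMod k X q' t ht F, Epi p := by
  obtain ⟨φ, rfl⟩ : ∃ φ : k →+* A, q' = qA k φ :=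
    ⟨(Spec.preimage q').hom, (Spec.map_preimage q').symm⟩
  obtain ⟨N₀, h⟩ := exists_epi_affine k i hi φ F hF
  refine ⟨N₀, fun N => ?_⟩
  by_cases hN : N₀ ≤ N
  · obtain ⟨m, hm⟩ := h N hN
    exact ⟨m, fun _ => hm⟩
  · exact ⟨0, fun h => absurd h hN⟩

end Affine

section Reduction

variable {T T' : Scheme.{u}} (q : T ⟶ Spec (CommRingCat.of k)) (g : T' ⟶ T)

/-- `X ×_k T' ⟶ X ×_k T` -/
def gX : Pic13.prodK k X (g ≫ q) ⟶ Pic13.prodK k X q :=
  pullback.map _ _ _ _ (𝟙 X) g (𝟙 _) (by simp) (by simp)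

lemma sliceAt_comp (t : Spec (CommRingCat.of k) ⟶ T) (ht : t ≫ q = 𝟙 _)
    (t' : Spec (CommRingCat.of k) ⟶ T') (ht' : t' ≫ (g ≫ q) = 𝟙 _) (h : t' ≫ g = t) :
    Pic13.sliceAt k X (g ≫ q) t' ht' ≫ gX k q g = Pic13.sliceAt k X q t ht := by
  unfold Pic13.sliceAt gX pullback.map
  apply pullback.hom_ext
  · rw [Category.assoc, pullback.lift_fst, pullback.lift_fst_assoc, pullback.lift_fst,
      Category.comp_id]
  · rw [Category.assoc, pullback.lift_snd, pullback.lift_snd_assoc, pullback.lift_snd,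
      Category.assoc, h]

/-- the fibre at `t = t' ≫ g` is the fibre at `t'` of the pulled back family -/
def fibreModIso (t : Spec (CommRingCat.of k) ⟶ T) (ht : t ≫ q = 𝟙 _)
    (t' : Spec (CommRingCat.of k) ⟶ T') (ht' : t' ≫ (g ≫ q) = 𝟙 _) (h : t' ≫ g = t)
    (F : (Pic13.prodK k X q).Modules) :
    Pic13.fibreMod k X (g ≫ q) t' ht' ((Scheme.Modules.pullback (gX k q g)).obj F) ≅
      Pic13.fibreMod k X q t ht F :=
  (Scheme.Modules.pullbackComp _ _).app F ≪≫
    (Scheme.Modules.pullbackCongr (sliceAt_comp k q g t ht t' ht' h)).app F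

end Reduction

section Shrink

variable {C : Type*} [Category C] [HasZeroMorphisms C] [HasCoproducts.{0} C] (M : C)

/-- `M^b ⟶ M^a` for `a ≤ b`, a split epimorphism -/
def shrink {a b : ℕ} (hab : a ≤ b) : (∐ fun _ : Fin b => M) ⟶ ∐ fun _ : Fin a => M :=
  Sigma.desc fun j : Fin b =>
    if h : j.1 < a then Sigma.ι (fun _ : Fin a => M) ⟨j.1, h⟩ else 0

instance epi_shrink {a b : ℕ} (hab : a ≤ b) : Epi (shrink M hab) := by
  have h : (Sigma.desc fun j : Fin a => Sigma.ι (fun _ : Fin b => M) (Fin.castLE hab j)) ≫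
      shrink M hab = 𝟙 _ := by
    apply Sigma.hom_ext
    intro j
    rw [Sigma.ι_desc_assoc, Category.comp_id]
    unfold shrink
    rw [Sigma.ι_desc]
    have hj : (Fin.castLE hab j).1 < a := j.2
    rw [dif_pos hj]
    rfl
  exact (IsSplitEpi.mk' (SplitEpi.mk _ h)).epi

end Shrink

section Main

include hi in
/-- **a bounded family of coherent modules on `X ⊆ P^n_k` consists of quotients of one
`O_X(-N)^m`** -/
theorem exists_epi_of_isBounded [IsClosedImmersion i] (P : X.Modules → Prop)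
    (hb : Pic13.IsBounded k X P) :
    ∃ (N m : ℕ), ∀ L, P L →
      ∃ p : (∐ fun _ : Fin m => Pic13.twistOn k i (Coh.structureModule X) (-(N : ℤ))) ⟶ L,
        Epi p := by
  classical
  obtain ⟨T, q, -, hqc, F, hF, hall⟩ := hb
  haveI : CompactSpace T := QuasiCompact.compactSpace_of_compactSpace q
  -- affine neighbourhoods
  have hnb : ∀ x : T, ∃ U : T.Opens, IsAffineOpen U ∧ x ∈ U := fun x => by
    obtain ⟨_, ⟨U, hU, rfl⟩, hxU, -⟩ :=
      T.isBasis_affineOpens.exists_subset_of_mem_open (Set.mem_univ x) isOpen_univ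
    exact ⟨U, hU, hxU⟩
  choose U hU hxU using hnb
  obtain ⟨s, hs⟩ := CompactSpace.elim_nhds_subcover (fun x => (U x : Set T))
    (fun x => (U x).2.mem_nhds (hxU x))
  -- the affine case on each chart
  have hcoh : ∀ x : T, Coh.IsCoh ((Scheme.Modules.pullback (gX k q (hU x).fromSpec)).obj F) :=
    fun x => Groth.Agent.Lib.Helper20.BoundedCoker.isCoh_pullback _ hF
  choose N₀ m hm using fun x : T =>
    exists_epi_affine' k i hi ((hU x).fromSpec ≫ q) _ (hcoh x)
  let N : ℕ := s.sup N₀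
  let M : ℕ := s.sup fun x => m x N
  refine ⟨N, M, fun L hL => ?_⟩
  obtain ⟨t, ht, ⟨iso⟩⟩ := hall L hL
  -- the chart containing the image of `t`
  let pt : Spec (CommRingCat.of k) := IsLocalRing.closedPoint k
  have hy : t pt ∈ (⊤ : Set T) := trivial
  rw [← hs] at hy
  obtain ⟨x, hxs, hyx⟩ := Set.mem_iUnion₂.mp hy
  have hrange : Set.range t ⊆ Set.range (hU x).fromSpec := by
    rw [(hU x).range_fromSpec]
    rintro _ ⟨z, rfl⟩
    rw [Subsingleton.elim z pt]
    exact hyx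
  let t' : Spec (CommRingCat.of k) ⟶ Spec Γ(T, U x) :=
    IsOpenImmersion.lift (hU x).fromSpec t hrange
  have h' : t' ≫ (hU x).fromSpec = t := IsOpenImmersion.lift_fac _ _ _
  have ht' : t' ≫ ((hU x).fromSpec ≫ q) = 𝟙 _ := by rw [← Category.assoc, h', ht]
  obtain ⟨p, hp⟩ := hm x N (Finset.le_sup (f := N₀) hxs) t' ht'
  have hle : m x N ≤ M := Finset.le_sup (f := fun x => m x N) hxs
  exact ⟨shrink _ hle ≫ p ≫ (fibreModIso k q (hU x).fromSpec t ht t' ht' h' F).hom ≫ iso.hom,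
    epi_comp _ _⟩

end Main

end

end Groth.Agent.Lib.Helper20.BoundedEpi
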