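import Mathlib
import Groth.Agent.Lib.Helper20.CMGG
import Groth.Agent.Lib.Lead.SerreVan
import Groth.Agent.Lib.Helper7.CohKer
import Groth.Agent.S0038

/-!
# Mumford's lemma on `P^n_k` (helper20)

For a coherent `F` on `P^n_k` with a monomorphism `ι : F(-1) ⟶ F` whose cokernel `G` is `m`-regular:
`H^i(F(j)) = 0` for `i ≥ 2`, `j ≥ m - i`; `h^1(F(j))` is decreasing for `j ≥ m - 1`, strictly as long as
it is nonzero, hence `H^1(F(j)) = 0` for `j ≥ m - 1 + h^1(F(m-1))`.
-/

set_option autoImplicit false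
universe u

open CategoryTheory CategoryTheory.Limits AlgebraicGeometry Opposite TopologicalSpace

namespace Groth.Agent.Lib.helper20.MumfordLemma

open Groth.Agent.Lib.helper20.KosSurj Groth.Agent.Lib.helper20.KosChase
  Groth.Agent.Lib.Helper20.TwistEquivPn Groth.Agent.Lib.helper20.CMReg
  Groth.Agent.Lib.helper20.CMGG Groth.Agent.Lib.helper20.KosPn
  Groth.Agent.Lib.Lead.ModTensor Groth.Agent.Lib.Helper20.TensorEquiv
  Groth.Agent.Lib.Helper18.HH

noncomputable section

variable {k : Type u} [Field k] {n : ℕ}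

/-- the twist `F(d)` -/
abbrev tw (F : (CohB1.ProjSpace n k).Modules) (d : ℤ) : (CohB1.ProjSpace n k).Modules :=
  CohB1.tensorMod F (Twist.twistProjSpace n k d)

variable {F : (CohB1.ProjSpace n k).Modules}
  (ι : CohB1.tensorMod F (Twist.twistProjSpace n k (-1)) ⟶ F)

/-- the basic short complex `F(-1) ⟶ F ⟶ G` -/
def S₀ : ShortComplex (CohB1.ProjSpace n k).Modules :=
  ShortComplex.mk ι (cokernel.π ι) (cokernel.condition ι)

lemma S₀_shortExact [Mono ι] : (S₀ ι).ShortExact :=
  ShortComplex.ShortExact.mk' (ShortComplex.exact_cokernel ι) (inferInstanceAs (Mono ι))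
    (inferInstanceAs (Epi (cokernel.π ι)))

/-- `F(a) ≅ (F(-1))(b)` for `a + 1 = b` -/
def eIso (F : (CohB1.ProjSpace n k).Modules) (a b : ℤ) (h : a + 1 = b) :
    tw F a ≅ CohB1.tensorMod (CohB1.tensorMod F (Twist.twistProjSpace n k (-1)))
      (Twist.twistProjSpace n k b) :=
  (eqToIso (by subst h; congr 2; ring) : tw F a ≅ tw F (-1 + b)) ≪≫
    (twistTwistIso n k F (-1) b).symm

/-- the twisted short complex `F(a) ⟶ F(b) ⟶ G(b)`, `b = a + 1` -/
def T (a b : ℤ) (h : a + 1 = b) : ShortComplex (CohB1.ProjSpace n k).Modules :=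
  ShortComplex.mk ((eIso F a b h).hom ≫ (twistSC n k b (S₀ ι)).f) (twistSC n k b (S₀ ι)).g
    ((Category.assoc _ _ _).trans
      ((congrArg ((eIso F a b h).hom ≫ ·) (twistSC n k b (S₀ ι)).zero).trans comp_zero))

lemma T_shortExact [Mono ι] (a b : ℤ) (h : a + 1 = b) : (T ι a b h).ShortExact := by
  have h0 := shortExact_twistSC n k b (S₀_shortExact ι)
  have e : twistSC n k b (S₀ ι) ≅ T ι a b h :=
    ShortComplex.isoMk (eIso F a b h).symm (Iso.refl _) (Iso.refl _)
      (by
        show (eIso F a b h).inv ≫ ((eIso F a b h).hom ≫ (twistSC n k b (S₀ ι)).f) =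
          (twistSC n k b (S₀ ι)).f ≫ 𝟙 _
        exact (Iso.inv_hom_id_assoc _ _).trans (Category.comp_id _).symm)
      (by
        show 𝟙 _ ≫ (twistSC n k b (S₀ ι)).g = (twistSC n k b (S₀ ι)).g ≫ 𝟙 _
        exact (Category.id_comp _).trans (Category.comp_id _).symm)
  exact ShortComplex.shortExact_of_iso e h0

lemma T_g (a b : ℤ) (h : a + 1 = b) :
    (T ι a b h).g = tensorMap (cokernel.π ι) (𝟙 (Twist.twistProjSpace n k b)) := rfl

section Main

variable (hF : Coh.IsCoh F) [Mono ι] {m : ℤ} (hG : Curv2.IsMRegular k n (cokernel ι) m)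

include hF in
lemma isCoh_G : Coh.IsCoh (cokernel ι) :=
  Groth.Agent.Lib.helper7.CohKer.isCoh_cokernel (isCoh_twist hF (-1)) hF ι

include hF hG in
/-- vanishing for the twists of `G` -/
lemma vanishG (p : ℕ) (hp : 1 ≤ p) (d : ℤ) (hd : m - p ≤ d) :
    Subsingleton (Coh.HH (CohB1.ProjSpace n k) (tw (cokernel ι) d) p) := by
  have h := vanish_of_regular (isCoh_G ι hF) hG (d + p) (by omega) p hp
  have e : d + (p : ℤ) - p = d := by ring
  rw [e] at h
  exact h

lemma finite_H (hF : Coh.IsCoh F) (d : ℤ) (q : ℕ) :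
    Module.Finite k (Coh.HH (CohB1.ProjSpace n k) (tw F d) q) :=
  Groth.Agent.S0038.result n k _ (isCoh_twist hF d) q

include hF hG in
/-- (i) -/
theorem part1 (i : ℕ) (j : ℤ) (hi : 2 ≤ i) (hj : m - i ≤ j) :
    Subsingleton (Coh.HH (CohB1.ProjSpace n k) (tw F j) i) := by
  obtain ⟨d₀, hd₀⟩ := Groth.Agent.Lib.Lead.SerreVan.serre_vanishing n k F hF
  have key : ∀ t : ℕ, ∀ j : ℤ, d₀ ≤ j + t → m - i ≤ j →
      Subsingleton (Coh.HH (CohB1.ProjSpace n k) (tw F j) i) := by
    intro t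
    induction t with
    | zero =>
      intro j h1 _
      exact hd₀ j (by simpa using h1) i (by omega)
    | succ t ih =>
      intro j h1 h2
      have hnext := ih (j + 1) (by push_cast at h1; omega) (by omega)
      obtain ⟨q, rfl⟩ : ∃ q, i = q + 1 := ⟨i - 1, by omega⟩
      have hGv : Subsingleton (Coh.HH (CohB1.ProjSpace n k) (tw (cokernel ι) (j + 1)) q) :=
        vanishG ι hF hG q (by omega) (j + 1) (by push_cast at h2; omega)
      have inj := injective_map_f_succ (T_shortExact ι j (j + 1) rfl) q hGv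
      exact @Function.Injective.subsingleton _ _ _ inj hnext
  exact key (d₀ - j).toNat j (by omega) hj

include hF hG in
/-- surjectivity of `H^1(F(a)) → H^1(F(b))` for `b ≥ m - 1` -/
lemma surj_H1 (a b : ℤ) (h : a + 1 = b) (hb : m - 1 ≤ b) :
    Function.Surjective (mapOver k (T ι a b h).f 1) :=
  surjective_map_f (T_shortExact ι a b h) 1 (vanishG ι hF hG 1 le_rfl b (by simpa using hb))

include hF hG in
/-- (ii) -/
theorem part2 (j : ℤ) (hj : m - 1 ≤ j) :
    Module.finrank k (Coh.HH (CohB1.ProjSpace n k) (tw F j) 1) ≤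
      Module.finrank k (Coh.HH (CohB1.ProjSpace n k) (tw F (j - 1)) 1) := by
  have := finite_H hF (j - 1) 1
  exact LinearMap.finrank_le_finrank_of_surjective (surj_H1 ι hF hG (j - 1) j (by ring) hj)

/-- surjectivity of `H^0(F(b)) → H^0(G(b))` -/
def P (b : ℤ) : Prop :=
  Function.Surjective (Groth.Agent.Lib.Helper18.HH.map
    (tensorMap (cokernel.π ι) (𝟙 (Twist.twistProjSpace n k b))) 0)

include hF hG in
/-- if `h^1(F(b)) = h^1(F(a))` then `H^0(F(b)) → H^0(G(b))` is surjective -/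
lemma P_of_eq (a b : ℤ) (h : a + 1 = b) (hb : m - 1 ≤ b)
    (heq : Module.finrank k (Coh.HH (CohB1.ProjSpace n k) (tw F b) 1) =
      Module.finrank k (Coh.HH (CohB1.ProjSpace n k) (tw F a) 1)) : P ι b := by
  have hT := T_shortExact ι a b h
  have h1 := finite_H hF a 1
  have h2 := finite_H hF b 1
  have hs := surj_H1 ι hF hG a b h hb
  have hi : Function.Injective (mapOver k (T ι a b h).f 1) :=
    (LinearMap.injective_iff_surjective_of_finrank_eq_finrank heq.symm).2 hs
  intro y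
  have hδ : δ hT 0 y = 0 := by
    apply hi
    rw [_root_.map_zero]
    exact (exact₁ hT 0 _).2 ⟨y, rfl⟩
  exact (exact₃ hT 0 y).1 hδ

include hF hG in
/-- propagation of the surjectivity on `H^0` -/
lemma P_succ (b : ℤ) (hb : m ≤ b) (hP : P ι b) : P ι (b + 1) := by
  intro y
  let τ := equiv₀ (tw (cokernel ι) (b + 1)) y
  obtain ⟨u, hu⟩ := exists_sum_x n k (cokernel ι) b
    (fun p hp => vanishG ι hF hG p hp (b - p) (by omega)) τ
  choose v hv using fun j => hP ((equiv₀ (tw (cokernel ι) b)).symm (u j))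
  refine ⟨∑ j : Fin (n + 1), Groth.Agent.Lib.Helper18.HH.map ((grOp n k F).x j b) 0 (v j), ?_⟩
  have hy : y = (equiv₀ (tw (cokernel ι) (b + 1))).symm τ := ((equiv₀ (tw (cokernel ι) (b + 1))).symm_apply_apply y).symm
  have h1 : (equiv₀ (tw (cokernel ι) (b + 1))).symm τ =
      ∑ j : Fin (n + 1), (equiv₀ (tw (cokernel ι) (b + 1))).symm
        ((((grOp n k (cokernel ι)).x j b).val.app (op ⊤)).hom (u j)) := by
    rw [hu]
    exact map_sum (equiv₀ (tw (cokernel ι) (b + 1))).symm _ _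
  refine (map_sum (Groth.Agent.Lib.Helper18.HH.map
    (tensorMap (cokernel.π ι) (𝟙 (Twist.twistProjSpace n k (b + 1)))) 0) _ _).trans ?_
  refine Eq.trans ?_ (hy.trans h1).symm
  refine Finset.sum_congr rfl fun j _ => ?_
  refine Eq.trans ?_ (equiv₀_symm_naturality ((grOp n k (cokernel ι)).x j b) (u j))
  refine Eq.trans ?_ (congrArg (Groth.Agent.Lib.Helper18.HH.map
    ((grOp n k (cokernel ι)).x j b) 0) (hv j))
  refine (map_comp_apply _ _ 0 (v j)).symm.trans ?_
  refine Eq.trans ?_ (map_comp_apply _ _ 0 (v j))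
  exact congrArg (fun f => Groth.Agent.Lib.Helper18.HH.map f 0 (v j))
    (tensorMap_exchange (cokernel.π ι) (mulX n k j b)).symm

include hF hG in
lemma P_add (b : ℤ) (hb : m ≤ b) (hP : P ι b) (t : ℕ) : P ι (b + t) := by
  induction t with
  | zero => simpa using hP
  | succ t ih =>
    have := P_succ ι hF hG (b + t) (by omega) ih
    have e : b + (t : ℤ) + 1 = b + ((t + 1 : ℕ) : ℤ) := by push_cast; ring
    rw [e] at this
    exact this

include hF hG in
/-- if `H^0(F(b)) → H^0(G(b))` is surjective then `h^1(F(b)) = h^1(F(a))` -/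
lemma eq_of_P (a b : ℤ) (h : a + 1 = b) (hb : m - 1 ≤ b) (hP : P ι b) :
    Module.finrank k (Coh.HH (CohB1.ProjSpace n k) (tw F b) 1) =
      Module.finrank k (Coh.HH (CohB1.ProjSpace n k) (tw F a) 1) := by
  have hT := T_shortExact ι a b h
  have hs := surj_H1 ι hF hG a b h hb
  have hi : Function.Injective (mapOver k (T ι a b h).f 1) := by
    rw [injective_iff_map_eq_zero]
    intro z hz
    obtain ⟨y, rfl⟩ := (exact₁ hT 0 z).1 hz
    obtain ⟨x, rfl⟩ := hP y
    exact (exact₃ hT 0 _).2 ⟨x, rfl⟩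
  exact (LinearEquiv.ofBijective (mapOver k (T ι a b h).f 1) ⟨hi, hs⟩).finrank_eq.symm

include hF hG in
/-- if `h^1(F(j)) = h^1(F(j-1))` for some `j ≥ m` then `h^1(F(j-1)) = 0` -/
lemma eq_zero_of_eq (j : ℤ) (hj : m ≤ j)
    (heq : Module.finrank k (Coh.HH (CohB1.ProjSpace n k) (tw F j) 1) =
      Module.finrank k (Coh.HH (CohB1.ProjSpace n k) (tw F (j - 1)) 1)) :
    Module.finrank k (Coh.HH (CohB1.ProjSpace n k) (tw F (j - 1)) 1) = 0 := by
  have hP := P_of_eq ι hF hG (j - 1) j (by ring) (by omega) heq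
  have hconst : ∀ t : ℕ, Module.finrank k (Coh.HH (CohB1.ProjSpace n k) (tw F (j + t)) 1) =
      Module.finrank k (Coh.HH (CohB1.ProjSpace n k) (tw F (j - 1)) 1) := by
    intro t
    induction t with
    | zero =>
      have e0 : j + ((0 : ℕ) : ℤ) = j := by simp
      rw [e0]
      exact heq
    | succ t ih =>
      have hPt := P_add ι hF hG j hj hP (t + 1)
      rw [← ih]
      exact eq_of_P ι hF hG (j + t) (j + ((t + 1 : ℕ) : ℤ)) (by push_cast; ring) (by omega) hPt
  obtain ⟨d₀, hd₀⟩ := Groth.Agent.Lib.Lead.SerreVan.serre_vanishing n k F hF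
  have hz := hd₀ (j + (d₀ - j).toNat) (by omega) 1 le_rfl
  rw [← hconst (d₀ - j).toNat]
  exact Module.finrank_zero_of_subsingleton

include hF hG in
lemma bound (t : ℕ) :
    Module.finrank k (Coh.HH (CohB1.ProjSpace n k) (tw F (m - 1 + t)) 1) ≤
      Module.finrank k (Coh.HH (CohB1.ProjSpace n k) (tw F (m - 1)) 1) - t := by
  induction t with
  | zero =>
    have e0 : m - 1 + ((0 : ℕ) : ℤ) = m - 1 := by simp
    rw [e0]
    simp
  | succ t ih =>
    have e : m - 1 + ((t + 1 : ℕ) : ℤ) - 1 = m - 1 + t := by push_cast; ring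
    have h2 := part2 ι hF hG (m - 1 + ((t + 1 : ℕ) : ℤ)) (by omega)
    rw [e] at h2
    rcases h2.lt_or_eq with hlt | heq
    · omega
    · have heq' : Module.finrank k (Coh.HH (CohB1.ProjSpace n k)
          (tw F (m - 1 + ((t + 1 : ℕ) : ℤ))) 1) =
          Module.finrank k (Coh.HH (CohB1.ProjSpace n k)
          (tw F (m - 1 + ((t + 1 : ℕ) : ℤ) - 1)) 1) := by rw [e]; exact heq
      have h0 := eq_zero_of_eq ι hF hG (m - 1 + ((t + 1 : ℕ) : ℤ)) (by push_cast; omega) heq'
      rw [e] at h0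
      omega

include hF hG in
/-- (iii) -/
theorem part3 (j : ℤ)
    (hj : m - 1 + (Module.finrank k (Coh.HH (CohB1.ProjSpace n k) (tw F (m - 1)) 1) : ℤ) ≤ j) :
    Subsingleton (Coh.HH (CohB1.ProjSpace n k) (tw F j) 1) := by
  have hb := bound ι hF hG (j - (m - 1)).toNat
  have e : m - 1 + ((j - (m - 1)).toNat : ℤ) = j := by omega
  rw [e] at hb
  have h0 : Module.finrank k (Coh.HH (CohB1.ProjSpace n k) (tw F j) 1) = 0 := by omega
  have := finite_H hF j 1
  exact Module.finrank_zero_iff.1 h0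

include hF hG in
/-- (iv) -/
theorem part4 : Curv2.IsMRegular k n F
    (m + Module.finrank k (Coh.HH (CohB1.ProjSpace n k) (tw F (m - 1)) 1)) := by
  intro i hi1 hin
  rcases Nat.lt_or_ge i 2 with h2 | h2
  · obtain rfl : i = 1 := by omega
    exact part3 ι hF hG _ (by push_cast; omega)
  · exact part1 ι hF hG i _ h2 (by omega)

end Main

end

end Groth.Agent.Lib.helper20.MumfordLemma
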