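import Mathlib
import Groth.Agent.Lib.Helper20.MumfordLemma
import Groth.Agent.Lib.Helper20.KosPn
import Groth.Agent.Lib.Helper7.KerSections
import Groth.Agent.Lib.Lead.SerreFin
import Groth.Agent.S2506
import Groth.Agent.S1576

/-!
# Mumford's uniform regularity bound, part 1: multiplication by a general linear form (helper20)

* `Dh h = D_+(h)`, `mulL h : O(-1) ⟶ O(0)`, `hF F h : F(-1) ⟶ F` (multiplication by the linear form `h`),
  natural in `F` (`hF_naturality`), an isomorphism over `D_+(h)` (`isIso_restrict_hF`).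
* `mono_hF`: `hF F h` is a monomorphism when all associated points of `F(-1)` lie in `D_+(h)`.
* `exists_good_form`: over an infinite field, a linear form `h` whose `D_+(h)` contains the associated points
  of two given coherent modules.
-/

set_option autoImplicit false
universe u

open CategoryTheory CategoryTheory.Limits AlgebraicGeometry Opposite TopologicalSpace

namespace Groth.Agent.Lib.Helper20.MumfordUnif

open Groth.Agent.Lib.Helper20.ProjMulHom Groth.Agent.Lib.helper20.KosPn
  Groth.Agent.Lib.Lead.ModTensor Groth.Agent.Lib.Helper20.TensorEquiv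
  Groth.Agent.Lib.Helper20.TwistEquivPn

noncomputable section

variable (n : ℕ) (k : Type u) [Field k]

/-- `D_+(h)` for a linear form `h` -/
def Dh (h : CohB1.polyGrading n k 1) : (CohB1.ProjSpace n k).Opens :=
  Proj.basicOpen (CohB1.polyGrading n k) h.1

/-- multiplication by the linear form `h`, `O(-1) ⟶ O(0)` -/
def mulL (h : CohB1.polyGrading n k 1) :
    Twist.twistProjSpace n k (-1) ⟶ Twist.twistProjSpace n k 0 :=
  mulHom (CohB1.polyGrading n k) (show (-1 : ℤ) + ((1 : ℕ) : ℤ) = 0 by norm_num) h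

open Groth.Agent.Lib.helper11.IsoLocus in
lemma isIso_restrict_mulL (h : CohB1.polyGrading n k 1) :
    IsIso ((Scheme.Modules.restrictFunctor (Dh n k h).ι).map (mulL n k h)) := by
  rw [isIso_restrict_iff_app]
  intro V hV
  have hW : ∀ x : V, h.1 ∉ x.1.asHomogeneousIdeal := fun x =>
    (ProjectiveSpectrum.mem_basicOpen _ _ _).1 (hV x.2)
  have hb := mulSec_bijective (CohB1.polyGrading n k)
    (show (-1 : ℤ) + ((1 : ℕ) : ℤ) = 0 by norm_num) h V hW
  exact (ConcreteCategory.isIso_iff_bijective _).2 hb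

/-- multiplication by the linear form `h`, `F(-1) ⟶ F` -/
def hF (F : (CohB1.ProjSpace n k).Modules) (h : CohB1.polyGrading n k 1) :
    CohB1.tensorMod F (Twist.twistProjSpace n k (-1)) ⟶ F :=
  tensorMap (𝟙 F) (mulL n k h) ≫ (twistZeroIso n k F).hom

lemma hF_naturality {F G : (CohB1.ProjSpace n k).Modules} (φ : F ⟶ G)
    (h : CohB1.polyGrading n k 1) :
    tensorMap φ (𝟙 (Twist.twistProjSpace n k (-1))) ≫ hF n k G h = hF n k F h ≫ φ := by
  unfold hF twistZeroIso
  simp only [Iso.trans_hom, Category.assoc]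
  have e1 : (tensorIso (Iso.refl G) (Groth.Agent.Lib.helper28.TwistPn.zeroIso n k).symm).hom =
      tensorMap (𝟙 G) (Groth.Agent.Lib.helper28.TwistPn.zeroIso n k).inv := rfl
  have e2 : (tensorIso (Iso.refl F) (Groth.Agent.Lib.helper28.TwistPn.zeroIso n k).symm).hom =
      tensorMap (𝟙 F) (Groth.Agent.Lib.helper28.TwistPn.zeroIso n k).inv := rfl
  rw [e1, e2, ← Category.assoc, tensorMap_exchange, Category.assoc,
    ← Category.assoc (tensorMap φ _), tensorMap_exchange, Category.assoc,
    rightUnitor_naturality]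

open Groth.Agent.Lib.helper11.IsoLocus Groth.Agent.Lib.helper12.PullTensor in
lemma isIso_restrict_hF (F : (CohB1.ProjSpace n k).Modules) (h : CohB1.polyGrading n k 1) :
    IsIso ((Scheme.Modules.restrictFunctor (Dh n k h).ι).map (hF n k F h)) := by
  have h1 : IsIso ((Scheme.Modules.restrictFunctor (Dh n k h).ι).map
      (tensorMap (𝟙 F) (mulL n k h))) := by
    rw [← le_isoLocus_iff]
    refine le_trans ?_ (isoLocus_inf_le_tensorMap (𝟙 F) (mulL n k h))
    rw [isoLocus_id, top_inf_eq, le_isoLocus_iff]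
    exact isIso_restrict_mulL n k h
  unfold hF
  rw [Functor.map_comp]
  infer_instance

/-- `h : F(-1) ⟶ F` is a monomorphism when all associated points of `F(-1)` lie in `D_+(h)` -/
theorem mono_hF (F : (CohB1.ProjSpace n k).Modules) [F.IsQuasicoherent]
    (h : CohB1.polyGrading n k 1)
    (hass : AssSch.Ass (CohB1.tensorMod F (Twist.twistProjSpace n k (-1))) ⊆
      (Dh n k h : Set (CohB1.ProjSpace n k))) : Mono (hF n k F h) := by
  haveI : (Twist.twistProjSpace n k (-1)).IsQuasicoherent :=
    Groth.Agent.Lib.helper28.TwistPn.isQuasicoherent n k (-1)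
  haveI hq : (CohB1.tensorMod F (Twist.twistProjSpace n k (-1))).IsQuasicoherent :=
    Groth.Agent.Lib.helper2.TensorQCoh.isQuasicoherent_tensorMod _ _
  haveI : IsLocallyNoetherian (CohB1.ProjSpace n k) :=
    Groth.Agent.Lib.Lead.SerreFin.isLocallyNoetherian_projSpace n k
  have key := (Groth.Agent.S2506.main _ hq (Dh n k h)).1 hass
  have hiso := (Groth.Agent.Lib.helper11.IsoLocus.isIso_restrict_iff_app (hF n k F h) (Dh n k h)).1
    (isIso_restrict_hF n k F h)
  refine Groth.Agent.Lib.helper7.KerSections.mono_of_injective_cover (hF n k F h)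
    (fun V : (CohB1.ProjSpace n k).affineOpens => V.1) (fun V => V.2) (fun x => ?_) (fun V => ?_)
  · obtain ⟨_, ⟨V, hV, rfl⟩, hxV, -⟩ :=
      (CohB1.ProjSpace n k).isBasis_affineOpens.exists_subset_of_mem_open (Set.mem_univ x)
        isOpen_univ
    exact ⟨⟨V, hV⟩, hxV⟩
  · rw [injective_iff_map_eq_zero]
    intro s hs
    apply key V.1 V.2 s
    haveI := hiso (V.1 ⊓ Dh n k h) inf_le_right
    have hinj : Function.Injective ((hF n k F h).app (V.1 ⊓ Dh n k h)).hom :=
      ((ConcreteCategory.isIso_iff_bijective ((hF n k F h).app (V.1 ⊓ Dh n k h))).1 this).1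
    apply hinj
    rw [map_zero]
    have nat := congrArg (fun f => f.hom s) ((hF n k F h).mapPresheaf.naturality
      (homOfLE (inf_le_left : V.1 ⊓ Dh n k h ≤ V.1)).op)
    simp only [Scheme.Modules.mapPresheaf_app] at nat
    refine nat.trans ?_
    change (F.presheaf.map _).hom (((hF n k F h).app V.1).hom s) = 0
    rw [hs, map_zero]

/-- over an infinite field there is a linear form `h` such that `D_+(h)` contains the associated
points of two given coherent modules -/
theorem exists_good_form [Infinite k] (F₁ F₂ : (CohB1.ProjSpace n k).Modules)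
    (h₁ : Coh.IsCoh F₁) (h₂ : Coh.IsCoh F₂) :
    ∃ h : CohB1.polyGrading n k 1,
      AssSch.Ass F₁ ⊆ (Dh n k h : Set (CohB1.ProjSpace n k)) ∧
      AssSch.Ass F₂ ⊆ (Dh n k h : Set (CohB1.ProjSpace n k)) := by
  haveI : IsLocallyNoetherian (CohB1.ProjSpace n k) :=
    Groth.Agent.Lib.Lead.SerreFin.isLocallyNoetherian_projSpace n k
  have hcomp : IsCompact ((⊤ : (CohB1.ProjSpace n k).Opens) : Set (CohB1.ProjSpace n k)) := by
    simpa using isCompact_univ
  have fin1 := Groth.Agent.S1576.result _ F₁ h₁ ⊤ hcomp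
  have fin2 := Groth.Agent.S1576.result _ F₂ h₂ ⊤ hcomp
  set A : Set (CohB1.ProjSpace n k) := {x | Curv2.IsAssPoint F₁ x ∨ Curv2.IsAssPoint F₂ x} with hA_def
  have hA : A.Finite := (fin1.union fin2).subset (by
    rintro x (hx | hx)
    · exact Or.inl ⟨trivial, hx⟩
    · exact Or.inr ⟨trivial, hx⟩)
  let B : CohB1.ProjSpace n k → Submodule k (CohB1.polyGrading n k 1) := fun x =>
    Submodule.comap (CohB1.polyGrading n k 1).subtype
      ((x : ProjectiveSpectrum (CohB1.polyGrading n k)).asHomogeneousIdeal.toIdeal.restrictScalars k)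
  have hB : ∀ x, B x ≠ ⊤ := by
    intro x hx
    obtain ⟨l, hl⟩ := Groth.Agent.Lib.helper28.TwistPn.exists_X_notMem n k x
    have hmem : (⟨MvPolynomial.X l, Groth.Agent.Lib.helper28.TwistPn.X_mem n k l⟩ :
        CohB1.polyGrading n k 1) ∈ B x := by rw [hx]; trivial
    exact hl hmem
  classical
  let s : Finset (Submodule k (CohB1.polyGrading n k 1)) := hA.toFinset.image B
  have hs : ⊤ ∉ s := by
    intro h
    obtain ⟨x, -, hx⟩ := Finset.mem_image.1 h
    exact hB x hx
  have hne := Subspace.biUnion_ne_univ_of_top_notMem hs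
  obtain ⟨h, hh⟩ : ∃ h, h ∉ ⋃ p ∈ s, (p : Set (CohB1.polyGrading n k 1)) := by
    by_contra hcon
    push_neg at hcon
    exact hne (Set.eq_univ_of_forall hcon)
  have key : ∀ x ∈ A, x ∈ (Dh n k h : Set (CohB1.ProjSpace n k)) := by
    intro x hxA
    have hnot : h ∉ B x := fun hmem =>
      hh (Set.mem_biUnion (Finset.mem_image_of_mem B (hA.mem_toFinset.2 hxA)) hmem)
    exact (ProjectiveSpectrum.mem_basicOpen (CohB1.polyGrading n k) h.1 x).2 hnot
  exact ⟨h, fun x hx => key x (Or.inl hx), fun x hx => key x (Or.inr hx)⟩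

end

end Groth.Agent.Lib.Helper20.MumfordUnif
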