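import Mathlib

/-!
# The cokernel of a morphism of short exact sequences with monic last component (helper20)

For `φ : L₁ ⟶ L₂` between short exact short complexes of an abelian category with `φ.τ₃` monic,
the cokernel short complex `cokSC φ` is short exact, and its terms are cokernels of the `φ.τᵢ`.
-/

set_option autoImplicit false
universe v u

open CategoryTheory CategoryTheory.Limits

namespace Groth.Agent.Lib.Helper20.SnakeCok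

variable {C : Type u} [Category.{v} C] [Abelian C]

noncomputable section

/-- the snake input of a morphism of short exact sequences -/
def snake {L₁ L₂ : ShortComplex C} (φ : L₁ ⟶ L₂) (h₁ : L₁.ShortExact) (h₂ : L₂.ShortExact) :
    ShortComplex.SnakeInput C where
  L₀ := kernel φ
  L₁ := L₁
  L₂ := L₂
  L₃ := cokernel φ
  v₀₁ := kernel.ι φ
  v₁₂ := φ
  v₂₃ := cokernel.π φ
  w₀₂ := kernel.condition φ
  w₁₃ := cokernel.condition φ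
  h₀ := kernelIsKernel φ
  h₃ := cokernelIsCokernel φ
  L₁_exact := h₁.exact
  epi_L₁_g := h₁.epi_g
  L₂_exact := h₂.exact
  mono_L₂_f := h₂.mono_f

/-- the cokernel short complex -/
abbrev cokSC {L₁ L₂ : ShortComplex C} (φ : L₁ ⟶ L₂) : ShortComplex C := cokernel φ

/-- the projection onto the cokernel short complex -/
abbrev cokπ {L₁ L₂ : ShortComplex C} (φ : L₁ ⟶ L₂) : L₂ ⟶ cokSC φ := cokernel.π φ

theorem cokSC_shortExact {L₁ L₂ : ShortComplex C} (φ : L₁ ⟶ L₂) (h₁ : L₁.ShortExact)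
    (h₂ : L₂.ShortExact) [Mono φ.τ₃] : (cokSC φ).ShortExact := by
  let S := snake φ h₁ h₂
  have e1 : S.L₃.Exact := S.L₃_exact
  haveI : Epi S.L₂.g := h₂.epi_g
  have e2 : Epi S.L₃.g := inferInstance
  have hz : IsZero S.L₀.X₃ := by
    have hl := S.h₀τ₃
    haveI : Mono S.v₁₂.τ₃ := inferInstanceAs (Mono φ.τ₃)
    exact KernelFork.IsLimit.isZero_of_mono hl
  have e3 : Mono S.L₃.f := by
    have h := S.L₂'_exact
    exact (S.L₂'.exact_iff_mono (hz.eq_of_src _ _)).1 h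
  exact ShortComplex.ShortExact.mk' e1 e3 e2

lemma w₁ {L₁ L₂ : ShortComplex C} (φ : L₁ ⟶ L₂) : φ.τ₁ ≫ (cokπ φ).τ₁ = 0 := by
  rw [← ShortComplex.comp_τ₁, cokernel.condition]; rfl

lemma w₂ {L₁ L₂ : ShortComplex C} (φ : L₁ ⟶ L₂) : φ.τ₂ ≫ (cokπ φ).τ₂ = 0 := by
  rw [← ShortComplex.comp_τ₂, cokernel.condition]; rfl

lemma w₃ {L₁ L₂ : ShortComplex C} (φ : L₁ ⟶ L₂) : φ.τ₃ ≫ (cokπ φ).τ₃ = 0 := by
  rw [← ShortComplex.comp_τ₃, cokernel.condition]; rfl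

/-- `(cokSC φ).X₁` is a cokernel of `φ.τ₁` -/
def isColimit₁ {L₁ L₂ : ShortComplex C} (φ : L₁ ⟶ L₂) (h₁ : L₁.ShortExact) (h₂ : L₂.ShortExact) :
    IsColimit (CokernelCofork.ofπ (cokπ φ).τ₁ (w₁ φ)) := (snake φ h₁ h₂).h₃τ₁

/-- `(cokSC φ).X₂` is a cokernel of `φ.τ₂` -/
def isColimit₂ {L₁ L₂ : ShortComplex C} (φ : L₁ ⟶ L₂) (h₁ : L₁.ShortExact) (h₂ : L₂.ShortExact) :
    IsColimit (CokernelCofork.ofπ (cokπ φ).τ₂ (w₂ φ)) := (snake φ h₁ h₂).h₃τ₂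

/-- `(cokSC φ).X₃` is a cokernel of `φ.τ₃` -/
def isColimit₃ {L₁ L₂ : ShortComplex C} (φ : L₁ ⟶ L₂) (h₁ : L₁.ShortExact) (h₂ : L₂.ShortExact) :
    IsColimit (CokernelCofork.ofπ (cokπ φ).τ₃ (w₃ φ)) := (snake φ h₁ h₂).h₃τ₃

/-- `cokernel φ.τ₁ ≅ (cokSC φ).X₁` -/
def iso₁ {L₁ L₂ : ShortComplex C} (φ : L₁ ⟶ L₂) (h₁ : L₁.ShortExact) (h₂ : L₂.ShortExact) :
    cokernel φ.τ₁ ≅ (cokSC φ).X₁ :=
  IsColimit.coconePointUniqueUpToIso (cokernelIsCokernel φ.τ₁) (isColimit₁ φ h₁ h₂)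

/-- `cokernel φ.τ₂ ≅ (cokSC φ).X₂` -/
def iso₂ {L₁ L₂ : ShortComplex C} (φ : L₁ ⟶ L₂) (h₁ : L₁.ShortExact) (h₂ : L₂.ShortExact) :
    cokernel φ.τ₂ ≅ (cokSC φ).X₂ :=
  IsColimit.coconePointUniqueUpToIso (cokernelIsCokernel φ.τ₂) (isColimit₂ φ h₁ h₂)

/-- `cokernel φ.τ₃ ≅ (cokSC φ).X₃` -/
def iso₃ {L₁ L₂ : ShortComplex C} (φ : L₁ ⟶ L₂) (h₁ : L₁.ShortExact) (h₂ : L₂.ShortExact) :
    cokernel φ.τ₃ ≅ (cokSC φ).X₃ :=
  IsColimit.coconePointUniqueUpToIso (cokernelIsCokernel φ.τ₃) (isColimit₃ φ h₁ h₂)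

end

end Groth.Agent.Lib.Helper20.SnakeCok
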