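import Mathlib
import Groth.Agent.Lib.Helper20.MumfordUnif1
import Groth.Agent.Lib.Helper20.SnakeCok
import Groth.Agent.Lib.Helper20.PushReg
import Groth.Agent.Lib.Lead.ProjectiveCoh
import Groth.Agent.Lib.Helper18.HHEuler

/-!
# Mumford's uniform regularity bound, part 2: the hyperplane section step (helper20)

For a short exact sequence `0 → I → R → Q → 0` of coherent modules on `P^n_k` and a linear form `h`
which is a nonzerodivisor on `R` and `Q`:
* `secSC S h`: the short exact sequence `0 → I/hI → R/hR → Q/hQ → 0`;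
* Euler characteristics and regularity of the cokernel of `h : F(-1) ⟶ F`;
* `finrank_H1_le`, `finrank_H0_eq_euler`.
-/

set_option autoImplicit false
universe u

open CategoryTheory CategoryTheory.Limits AlgebraicGeometry Opposite TopologicalSpace

namespace Groth.Agent.Lib.Helper20.MumfordUnif

open Groth.Agent.Lib.Lead.ModTensor Groth.Agent.Lib.Helper20.TensorEquiv
  Groth.Agent.Lib.Helper20.TwistEquivPn Groth.Agent.Lib.helper20.MumfordLemma
  Groth.Agent.Lib.helper20.CMReg Groth.Agent.Lib.helper20.CMGG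
  Groth.Agent.Lib.Helper18.HH Groth.Agent.Lib.Helper20.SnakeCok

noncomputable section

variable {n : ℕ} {k : Type u} [Field k]

lemma hId : 𝟙 (CohB1.ProjSpace n k) ≫ CohB1.ProjSpace.toSpec n k =
    (CohB1.ProjSpace n k ↘ Spec (CommRingCat.of k)) := Category.id_comp _

lemma euler_additive' {S : ShortComplex (CohB1.ProjSpace n k).Modules} (hS : S.ShortExact)
    (h₁ : Coh.IsCoh S.X₁) (h₃ : Coh.IsCoh S.X₃) :
    Curv2.euler k (CohB1.ProjSpace n k) S.X₂ =
      Curv2.euler k (CohB1.ProjSpace n k) S.X₁ + Curv2.euler k (CohB1.ProjSpace n k) S.X₃ :=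
  Groth.Agent.Lib.Lead.ProjectiveCoh.euler_additive (𝟙 (CohB1.ProjSpace n k)) hId hS h₁ h₃

lemma euler_of_iso {M N : (CohB1.ProjSpace n k).Modules} (e : M ≅ N) :
    Curv2.euler k (CohB1.ProjSpace n k) M = Curv2.euler k (CohB1.ProjSpace n k) N := by
  unfold Curv2.euler
  congr 1
  funext i
  rw [Groth.Agent.Lib.helper20.PushReg.finrank_of_iso e i]

section Cokernel

variable {F : (CohB1.ProjSpace n k).Modules}
  (ι : CohB1.tensorMod F (Twist.twistProjSpace n k (-1)) ⟶ F) [Mono ι]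

include ι in
/-- `χ(G(b)) = χ(F(b)) - χ(F(b-1))` for `G = coker (F(-1) → F)` -/
theorem euler_cokernel (hF : Coh.IsCoh F) (b : ℤ) :
    Curv2.euler k (CohB1.ProjSpace n k) (tw (cokernel ι) b) =
      Curv2.euler k (CohB1.ProjSpace n k) (tw F b) -
        Curv2.euler k (CohB1.ProjSpace n k) (tw F (b - 1)) := by
  have hT := T_shortExact ι (b - 1) b (by ring)
  have h := euler_additive' hT (isCoh_twist hF (b - 1)) (isCoh_twist (isCoh_G ι hF) b)
  have h' : Curv2.euler k (CohB1.ProjSpace n k) (tw F b) =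
      Curv2.euler k (CohB1.ProjSpace n k) (tw F (b - 1)) +
        Curv2.euler k (CohB1.ProjSpace n k) (tw (cokernel ι) b) := h
  omega

include ι in
/-- the cokernel of `F(-1) → F` is `0`-regular when `F` is -/
theorem regular_cokernel (hF : Coh.IsCoh F) (hreg : Curv2.IsMRegular k n F 0) :
    Curv2.IsMRegular k n (cokernel ι) 0 := by
  intro i hi1 hin
  have hT := T_shortExact ι ((0 : ℤ) - i - 1) ((0 : ℤ) - i) (by ring)
  have h2 : Subsingleton (Coh.HH (CohB1.ProjSpace n k) (tw F ((0 : ℤ) - i)) i) :=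
    vanish_of_regular hF hreg 0 le_rfl i hi1
  have h1 : Subsingleton (Coh.HH (CohB1.ProjSpace n k) (tw F ((0 : ℤ) - i - 1)) (i + 1)) := by
    have := vanish_of_regular hF hreg 0 le_rfl (i + 1) (by omega)
    have e : (0 : ℤ) - ((i + 1 : ℕ) : ℤ) = (0 : ℤ) - i - 1 := by push_cast; ring
    rwa [e] at this
  exact subsingleton_X₃ hT i h2 h1

end Cokernel

section SES

variable {S : ShortComplex (CohB1.ProjSpace n k).Modules} (hS : S.ShortExact)

include hS in
/-- `h^1(I(d)) ≤ h^0(Q(d))` for `d ≥ -1` when `R` is `0`-regular -/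
theorem finrank_H1_le (h₂ : Coh.IsCoh S.X₂) (h₃ : Coh.IsCoh S.X₃)
    (hreg : Curv2.IsMRegular k n S.X₂ 0) (d : ℤ) (hd : -1 ≤ d) :
    Module.finrank k (Coh.HH (CohB1.ProjSpace n k) (tw S.X₁ d) 1) ≤
      Module.finrank k (Coh.HH (CohB1.ProjSpace n k) (tw S.X₃ d) 0) := by
  have hSd := shortExact_twistSC n k d hS
  have hv : Subsingleton (Coh.HH (CohB1.ProjSpace n k) (tw S.X₂ d) (0 + 1)) := by
    have := vanish_of_regular h₂ hreg (d + 1) (by omega) 1 le_rfl
    have e : d + 1 - ((1 : ℕ) : ℤ) = d := by push_cast; ring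
    rwa [e] at this
  have hsurj : Function.Surjective (δOver hSd k 0) := surjective_δ hSd 0 hv
  haveI : Module.Finite k (Coh.HH (CohB1.ProjSpace n k) (tw S.X₃ d) 0) := finite_H h₃ d 0
  exact LinearMap.finrank_le_finrank_of_surjective hsurj

omit hS in
/-- `h^0(M) = χ(M)` when the higher cohomology vanishes -/
theorem finrank_H0_eq_euler_of_vanish (M : (CohB1.ProjSpace n k).Modules) [M.IsQuasicoherent]
    (hv : ∀ i : ℕ, 1 ≤ i → Subsingleton (Coh.HH (CohB1.ProjSpace n k) M i)) :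
    (Module.finrank k (Coh.HH (CohB1.ProjSpace n k) M 0) : ℤ) =
      Curv2.euler k (CohB1.ProjSpace n k) M := by
  rw [Groth.Agent.Lib.Lead.ProjectiveCoh.euler_eq_sum (𝟙 (CohB1.ProjSpace n k)) M]
  rw [Finset.sum_eq_single 0]
  · simp
  · intro i _ hi0
    haveI := hv i (Nat.one_le_iff_ne_zero.mpr hi0)
    rw [Module.finrank_zero_of_subsingleton]
    simp
  · intro h0
    exact absurd (Finset.mem_range.mpr (Nat.succ_pos n)) h0

include hS in
/-- `h^0(Q(d)) = χ(Q(d))` when `R` is `0`-regular, `d ≥ -1` and `H^i(I(d)) = 0` for `i ≥ 2` -/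
theorem finrank_H0_eq_euler (h₂ : Coh.IsCoh S.X₂) (h₃ : Coh.IsCoh S.X₃)
    (hreg : Curv2.IsMRegular k n S.X₂ 0) (d : ℤ) (hd : -1 ≤ d)
    (hI : ∀ i : ℕ, 2 ≤ i → Subsingleton (Coh.HH (CohB1.ProjSpace n k) (tw S.X₁ d) i)) :
    (Module.finrank k (Coh.HH (CohB1.ProjSpace n k) (tw S.X₃ d) 0) : ℤ) =
      Curv2.euler k (CohB1.ProjSpace n k) (tw S.X₃ d) := by
  have hSd := shortExact_twistSC n k d hS
  have hv : ∀ i : ℕ, 1 ≤ i → Subsingleton (Coh.HH (CohB1.ProjSpace n k) (tw S.X₃ d) i) := by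
    intro i hi
    have h2 : Subsingleton (Coh.HH (CohB1.ProjSpace n k) (tw S.X₂ d) i) := by
      have := vanish_of_regular h₂ hreg (d + i) (by omega) i hi
      have e : d + (i : ℤ) - i = d := by ring
      rwa [e] at this
    exact subsingleton_X₃ hSd i h2 (hI (i + 1) (by omega))
  haveI : (tw S.X₃ d).IsQuasicoherent := (isCoh_twist h₃ d).1
  exact finrank_H0_eq_euler_of_vanish _ hv

end SES

section Step

variable (n k)
variable (S : ShortComplex (CohB1.ProjSpace n k).Modules) (h : CohB1.polyGrading n k 1)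

/-- multiplication by `h` as a morphism of short complexes `S(-1) ⟶ S` -/
def hSC : twistSC n k (-1) S ⟶ S where
  τ₁ := hF n k S.X₁ h
  τ₂ := hF n k S.X₂ h
  τ₃ := hF n k S.X₃ h
  comm₁₂ := (hF_naturality n k S.f h).symm
  comm₂₃ := (hF_naturality n k S.g h).symm

/-- the hyperplane section sequence `0 → I/hI → R/hR → Q/hQ → 0` -/
abbrev secSC : ShortComplex (CohB1.ProjSpace n k).Modules := cokSC (hSC n k S h)

variable {n k S}

theorem secSC_shortExact (hS : S.ShortExact) (h : CohB1.polyGrading n k 1)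
    [Mono (hF n k S.X₃ h)] : (secSC n k S h).ShortExact := by
  haveI : Mono (hSC n k S h).τ₃ := inferInstanceAs (Mono (hF n k S.X₃ h))
  exact cokSC_shortExact (hSC n k S h) (shortExact_twistSC n k (-1) hS) hS

/-- `coker (h : I(-1) → I) ≅ (secSC S h).X₁` -/
def secIso₁ (hS : S.ShortExact) (h : CohB1.polyGrading n k 1) :
    cokernel (hF n k S.X₁ h) ≅ (secSC n k S h).X₁ :=
  iso₁ (hSC n k S h) (shortExact_twistSC n k (-1) hS) hS

/-- `coker (h : R(-1) → R) ≅ (secSC S h).X₂` -/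
def secIso₂ (hS : S.ShortExact) (h : CohB1.polyGrading n k 1) :
    cokernel (hF n k S.X₂ h) ≅ (secSC n k S h).X₂ :=
  iso₂ (hSC n k S h) (shortExact_twistSC n k (-1) hS) hS

/-- `coker (h : Q(-1) → Q) ≅ (secSC S h).X₃` -/
def secIso₃ (hS : S.ShortExact) (h : CohB1.polyGrading n k 1) :
    cokernel (hF n k S.X₃ h) ≅ (secSC n k S h).X₃ :=
  iso₃ (hSC n k S h) (shortExact_twistSC n k (-1) hS) hS

/-- `h` is a nonzerodivisor on `I` when it is one on `R` -/
theorem mono_hF_sub (hS : S.ShortExact) (h : CohB1.polyGrading n k 1)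
    [hm : Mono (hF n k S.X₂ h)] : Mono (hF n k S.X₁ h) := by
  haveI : Mono (twistSC n k (-1) S).f := (shortExact_twistSC n k (-1) hS).mono_f
  haveI : Mono S.f := hS.mono_f
  have hc : (twistSC n k (-1) S).f ≫ hF n k S.X₂ h = hF n k S.X₁ h ≫ S.f :=
    (hSC n k S h).comm₁₂.symm
  haveI : Mono (hF n k S.X₁ h ≫ S.f) := by
    rw [← hc]
    exact @mono_comp _ _ _ _ _ (twistSC n k (-1) S).f inferInstance (hF n k S.X₂ h) hm
  exact mono_of_mono (hF n k S.X₁ h) S.f

end Step

end

end Groth.Agent.Lib.Helper20.MumfordUnif
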