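import Mathlib
import Groth.Agent.Lib.Helper20.MumfordUnif2
import Groth.Agent.Lib.Helper20.LargeTwist1

/-!
# Mumford's uniform regularity bound (helper20)

`mumford_unif`: for every rational polynomial `P` and every integer `a` there is `m ≥ max 0 a` such that
for every infinite field `k`, every `n`, and every short exact sequence `0 → I → R → Q → 0` of coherent
modules on `P^n_k` with `R` `0`-regular and `χ(Q(l)) = P(l)` for all `l ≥ a`, the module `I` is
`m`-regular.
-/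

set_option autoImplicit false
universe u

open CategoryTheory CategoryTheory.Limits AlgebraicGeometry Opposite TopologicalSpace

namespace Groth.Agent.Lib.Helper20.MumfordUnif

open Groth.Agent.Lib.Lead.ModTensor Groth.Agent.Lib.Helper20.TensorEquiv
  Groth.Agent.Lib.Helper20.TwistEquivPn Groth.Agent.Lib.helper20.MumfordLemma
  Groth.Agent.Lib.helper20.CMReg Groth.Agent.Lib.helper20.CMGG
  Groth.Agent.Lib.Helper18.HH Groth.Agent.Lib.Helper20.SnakeCok
  Groth.Agent.Lib.helper20.PushReg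

noncomputable section

/-- the difference polynomial `P(X) - P(X - 1)` -/
def Δ (P : Polynomial ℚ) : Polynomial ℚ := P - Polynomial.taylor (-1) P

lemma eval_Δ (P : Polynomial ℚ) (x : ℚ) : (Δ P).eval x = P.eval x - P.eval (x - 1) := by
  unfold Δ
  rw [Polynomial.eval_sub, Polynomial.taylor_eval, sub_eq_add_neg x 1]

lemma degree_Δ_lt {P : Polynomial ℚ} {d : ℕ} (h : P.degree < ((d + 1 : ℕ) : WithBot ℕ)) :
    (Δ P).degree < (d : WithBot ℕ) := by
  by_cases hP : P = 0
  · subst hP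
    have : Δ (0 : Polynomial ℚ) = 0 := by unfold Δ; simp
    rw [this, Polynomial.degree_zero]
    exact WithBot.bot_lt_coe d
  · have h1 : (Δ P).degree < P.degree :=
      Polynomial.degree_sub_lt_left (Polynomial.degree_taylor P (-1)).symm hP
        (Polynomial.leadingCoeff_taylor (-1) P).symm
    have h2 : P.degree ≤ (d : WithBot ℕ) := by
      rw [Polynomial.degree_eq_natDegree hP] at h ⊢
      have h3 : P.natDegree < d + 1 := by exact_mod_cast h
      exact_mod_cast Nat.lt_succ_iff.mp h3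
    exact lt_of_lt_of_le h1 h2

variable {n : ℕ} {k : Type u} [Field k]

lemma isCoh_X₁ {S : ShortComplex (CohB1.ProjSpace n k).Modules} (hS : S.ShortExact)
    (h₂ : Coh.IsCoh S.X₂) (h₃ : Coh.IsCoh S.X₃) : Coh.IsCoh S.X₁ := by
  haveI : IsLocallyNoetherian (CohB1.ProjSpace n k) :=
    Groth.Agent.Lib.Lead.SerreFin.isLocallyNoetherian_projSpace n k
  exact Groth.Agent.Lib.helper7.CohKer.isCoh_of_iso
    (IsLimit.conePointUniqueUpToIso (kernelIsKernel S.g) hS.fIsKernel)
    (Groth.Agent.Lib.helper7.CohKer.isCoh_kernel h₂ h₃ S.g)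

/-- a coherent module whose Hilbert polynomial vanishes is zero -/
lemma isZero_of_euler_eq_zero (Q : (CohB1.ProjSpace n k).Modules) (hQ : Coh.IsCoh Q) (a : ℤ)
    (hχ : ∀ l : ℤ, a ≤ l → Curv2.euler k (CohB1.ProjSpace n k) (tw Q l) = 0) : IsZero Q := by
  obtain ⟨d₀, hd₀⟩ := Groth.Agent.Lib.Lead.SerreVan.serre_vanishing n k Q hQ
  refine Groth.Agent.Lib.Helper20.LargeTwist.isZero_of_subsingleton_HH_zero_twist n k Q hQ
    ⟨max d₀ a, fun l hl => ?_⟩
  haveI : (tw Q l).IsQuasicoherent := (isCoh_twist hQ l).1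
  have h1 := finrank_H0_eq_euler_of_vanish (tw Q l)
    (fun i hi => hd₀ l ((le_max_left _ _).trans hl) i hi)
  rw [hχ l ((le_max_right _ _).trans hl)] at h1
  haveI := finite_H hQ l 0
  exact Module.finrank_zero_iff.1 (by exact_mod_cast h1)

/-- **Mumford's uniform bound** -/
theorem mumford_unif : ∀ (d : ℕ) (P : Polynomial ℚ), P.degree < (d : WithBot ℕ) → ∀ a : ℤ,
    ∃ m : ℤ, 0 ≤ m ∧ a ≤ m ∧ ∀ (k : Type u) [Field k] [Infinite k] (n : ℕ)
      (S : ShortComplex (CohB1.ProjSpace n k).Modules), S.ShortExact →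
      Coh.IsCoh S.X₂ → Coh.IsCoh S.X₃ → Curv2.IsMRegular k n S.X₂ 0 →
      (∀ l : ℤ, a ≤ l →
        (Curv2.euler k (CohB1.ProjSpace n k) (tw S.X₃ l) : ℚ) = P.eval (l : ℚ)) →
      Curv2.IsMRegular k n S.X₁ m := by
  intro d
  induction d with
  | zero =>
    intro P hP a
    have hP0 : P = 0 := by
      rw [← Polynomial.degree_eq_bot]
      by_contra hne
      obtain ⟨m, hm⟩ := WithBot.ne_bot_iff_exists.1 hne
      rw [← hm] at hP
      exact absurd (WithBot.coe_lt_coe.1 hP) (Nat.not_lt_zero m)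
    subst hP0
    refine ⟨max 0 a, le_max_left _ _, le_max_right _ _, ?_⟩
    intro k _ _ n S hS h₂ h₃ hreg hχ
    have hQ : IsZero S.X₃ := isZero_of_euler_eq_zero S.X₃ h₃ a (fun l hl => by
      have := hχ l hl
      rw [Polynomial.eval_zero] at this
      exact_mod_cast this)
    haveI : IsIso S.f := hS.isIso_f_iff.2 hQ
    have h₁ := isCoh_X₁ hS h₂ h₃
    exact regular_of_le h₁ (regular_of_iso (asIso S.f).symm hreg) _ (le_max_left _ _)
  | succ d ih =>
    intro P hP a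
    obtain ⟨m₁, h0, ha, hm₁⟩ := ih (Δ P) (degree_Δ_lt hP) (a + 1)
    refine ⟨m₁ + ((⌈P.eval ((m₁ : ℚ) - 1)⌉).toNat : ℤ), by omega, by omega, ?_⟩
    intro k _ _ n S hS h₂ h₃ hreg hχ
    haveI : IsLocallyNoetherian (CohB1.ProjSpace n k) :=
      Groth.Agent.Lib.Lead.SerreFin.isLocallyNoetherian_projSpace n k
    have h₁ := isCoh_X₁ hS h₂ h₃
    obtain ⟨h, hass₂, hass₃⟩ := exists_good_form n k (tw S.X₂ (-1)) (tw S.X₃ (-1))
      (isCoh_twist h₂ _) (isCoh_twist h₃ _)
    haveI : S.X₂.IsQuasicoherent := h₂.1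
    haveI : S.X₃.IsQuasicoherent := h₃.1
    haveI m2 : Mono (hF n k S.X₂ h) := mono_hF n k S.X₂ h hass₂
    haveI m3 : Mono (hF n k S.X₃ h) := mono_hF n k S.X₃ h hass₃
    haveI m1 : Mono (hF n k S.X₁ h) := mono_hF_sub hS h
    have hS' := secSC_shortExact hS h
    have c2 : Coh.IsCoh (secSC n k S h).X₂ :=
      Groth.Agent.Lib.helper7.CohKer.isCoh_of_iso (secIso₂ hS h) (isCoh_G (hF n k S.X₂ h) h₂)
    have c3 : Coh.IsCoh (secSC n k S h).X₃ :=
      Groth.Agent.Lib.helper7.CohKer.isCoh_of_iso (secIso₃ hS h) (isCoh_G (hF n k S.X₃ h) h₃)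
    have r2 : Curv2.IsMRegular k n (secSC n k S h).X₂ 0 :=
      regular_of_iso (secIso₂ hS h) (regular_cokernel (hF n k S.X₂ h) h₂ hreg)
    have χ3 : ∀ l : ℤ, a + 1 ≤ l →
        (Curv2.euler k (CohB1.ProjSpace n k) (tw (secSC n k S h).X₃ l) : ℚ) =
          (Δ P).eval (l : ℚ) := by
      intro l hl
      rw [← euler_of_iso (tensorIso (secIso₃ hS h) (Iso.refl (Twist.twistProjSpace n k l))),
        euler_cokernel (hF n k S.X₃ h) h₃ l, eval_Δ]
      push_cast
      rw [hχ l (by omega), hχ (l - 1) (by omega)]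
      push_cast
      rfl
    have reg1' := hm₁ k n (secSC n k S h) hS' c2 c3 r2 χ3
    have regG : Curv2.IsMRegular k n (cokernel (hF n k S.X₁ h)) m₁ :=
      regular_of_iso (secIso₁ hS h).symm reg1'
    have p4 := part4 (hF n k S.X₁ h) h₁ regG
    have b1 := finrank_H1_le hS h₂ h₃ hreg (m₁ - 1) (by omega)
    have b2 := finrank_H0_eq_euler hS h₂ h₃ hreg (m₁ - 1) (by omega)
      (fun i hi => part1 (hF n k S.X₁ h) h₁ regG i (m₁ - 1) hi (by omega))
    have b3 := hχ (m₁ - 1) (by omega)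
    refine regular_of_le h₁ p4 _ ?_
    have e1 : ((Module.finrank k (Coh.HH (CohB1.ProjSpace n k) (tw S.X₃ (m₁ - 1)) 0) : ℤ) : ℚ) =
        P.eval ((m₁ : ℚ) - 1) := by
      rw [b2, b3]
      push_cast
      rfl
    have e2 : ⌈P.eval ((m₁ : ℚ) - 1)⌉ =
        (Module.finrank k (Coh.HH (CohB1.ProjSpace n k) (tw S.X₃ (m₁ - 1)) 0) : ℤ) := by
      rw [← e1, Int.ceil_intCast]
    rw [e2, Int.toNat_natCast]
    have b1' : (Module.finrank k (Coh.HH (CohB1.ProjSpace n k) (tw S.X₁ (m₁ - 1)) 1) : ℤ) ≤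
        (Module.finrank k (Coh.HH (CohB1.ProjSpace n k) (tw S.X₃ (m₁ - 1)) 0) : ℤ) := by
      exact_mod_cast b1
    omega

end

end Groth.Agent.Lib.Helper20.MumfordUnif
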