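import Mathlib
import Groth.Agent.Lib.Helper20.MumfordUnif3

/-!
# Mumford's uniform regularity bound on a closed subscheme of `P^n_k` (helper20)

`exists_regular_kernel`: for a closed subscheme `ι : X ⟶ P^n_k` (`k` infinite), a coherent `E` on `X`
and a polynomial `P`, there is `m₀` such that for every coherent quotient `q : E ⟶ F` with
`χ(F(d)) = P(d)` for all `d ≥ 0`, the module `ι_*(ker q)` is `m₀`-regular, and
`H^i(ι_*F(d)) = 0 = H^i(ι_*E(d))` for `i ≥ 1`, `d ≥ m₀`.
-/

set_option autoImplicit false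
universe u

open CategoryTheory CategoryTheory.Limits AlgebraicGeometry Opposite TopologicalSpace

namespace Groth.Agent.Lib.Helper20.MumfordUnif

open Groth.Agent.Lib.Lead.ModTensor Groth.Agent.Lib.Helper20.TensorEquiv
  Groth.Agent.Lib.Helper20.TwistEquivPn Groth.Agent.Lib.helper20.MumfordLemma
  Groth.Agent.Lib.helper20.CMReg Groth.Agent.Lib.helper20.CMGG
  Groth.Agent.Lib.Helper18.HH Groth.Agent.Lib.helper20.PushReg
  Groth.Agent.Lib.Lead.ProjectiveCoh

noncomputable section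

variable {n : ℕ} {k : Type u} [Field k]

/-- Euler characteristics are invariant under isomorphism -/
lemma euler_of_iso' {X : Scheme.{u}} [X.Over (Spec (CommRingCat.of k))] {M N : X.Modules}
    (e : M ≅ N) : Curv2.euler k X M = Curv2.euler k X N := by
  unfold Curv2.euler
  congr 1
  funext i
  rw [finrank_of_iso e i]

/-- shifting regularity: `F(a)` `m`-regular implies `F` `(a+m)`-regular -/
lemma regular_of_twist {F : (CohB1.ProjSpace n k).Modules} {a m : ℤ}
    (h : Curv2.IsMRegular k n (tw F a) m) : Curv2.IsMRegular k n F (a + m) := by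
  intro i hi1 hin
  have h1 := subsingleton_of_iso (twistTwistIso n k F a (m - i)) i (h i hi1 hin)
  have e : a + (m - (i : ℤ)) = a + m - i := by ring
  rwa [e] at h1

variable {X : Scheme.{u}} [X.Over (Spec (CommRingCat.of k))] (ι : X ⟶ CohB1.ProjSpace n k)
  [IsClosedImmersion ι] (hι : ι ≫ CohB1.ProjSpace.toSpec n k = X ↘ Spec (CommRingCat.of k))

include hι in
/-- `χ(X, F(d)) = χ(P^n, (ι_*F)(d))` -/
lemma euler_twist (F : X.Modules) [F.IsQuasicoherent] (d : ℤ) :
    Curv2.euler k X (Pic13.twistOn k ι F d) =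
      Curv2.euler k (CohB1.ProjSpace n k) (tw ((Scheme.Modules.pushforward ι).obj F) d) := by
  unfold Curv2.euler
  congr 1
  funext i
  rw [finrank_twist ι hι F d i]

include hι in
theorem exists_regular_kernel [Infinite k] (E : X.Modules) (hE : Coh.IsCoh E)
    (P : Polynomial ℚ) :
    ∃ m₀ : ℤ, 0 ≤ m₀ ∧ ∀ (F : X.Modules) (q : E ⟶ F), Coh.IsCoh F → Epi q →
      (∀ d : ℕ, (Curv2.euler k X (Pic13.twistOn k ι F (d : ℤ)) : ℚ) = P.eval (d : ℚ)) →
      Curv2.IsMRegular k n ((Scheme.Modules.pushforward ι).obj (kernel q)) m₀ ∧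
      ∀ d : ℤ, m₀ ≤ d → ∀ i : ℕ, 1 ≤ i →
        Subsingleton (Coh.HH (CohB1.ProjSpace n k)
          (tw ((Scheme.Modules.pushforward ι).obj F) d) i) := by
  haveI : IsLocallyNoetherian (CohB1.ProjSpace n k) :=
    Groth.Agent.Lib.Lead.SerreFin.isLocallyNoetherian_projSpace n k
  have hR₀ : Coh.IsCoh ((Scheme.Modules.pushforward ι).obj E) := isCoh_push ι hE
  obtain ⟨d₀, hd₀⟩ := Groth.Agent.Lib.Lead.SerreVan.serre_vanishing n k _ hR₀
  set r₀ : ℤ := max (d₀ + n) 0 with hr₀
  have hr₀0 : 0 ≤ r₀ := le_max_right _ _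
  have hr₀d : d₀ + n ≤ r₀ := le_max_left _ _
  have hreg₀ : Curv2.IsMRegular k n ((Scheme.Modules.pushforward ι).obj E) r₀ :=
    fun i hi1 hin => hd₀ (r₀ - i) (by omega) i hi1
  have hreg : Curv2.IsMRegular k n (tw ((Scheme.Modules.pushforward ι).obj E) r₀) 0 :=
    regular_twist hreg₀
  set P' : Polynomial ℚ := Polynomial.taylor (r₀ : ℚ) P with hP'
  have hdeg : P'.degree < ((P'.natDegree + 1 : ℕ) : WithBot ℕ) :=
    Polynomial.degree_le_natDegree.trans_lt (by exact_mod_cast Nat.lt_succ_self _)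
  obtain ⟨m, hm0, -, hm⟩ := mumford_unif (P'.natDegree + 1) P' hdeg (-r₀)
  refine ⟨r₀ + m, by omega, ?_⟩
  intro F q hF hq hχ
  haveI : E.IsQuasicoherent := hE.1
  haveI : F.IsQuasicoherent := hF.1
  haveI hGq : (kernel q).IsQuasicoherent :=
    Groth.Agent.Lib.helper7.CohKer.isQuasicoherent_kernel q
  -- the sequence on `X`
  let SX : ShortComplex X.Modules := ShortComplex.mk (kernel.ι q) q (kernel.condition q)
  have hSX : SX.ShortExact :=
    ShortComplex.ShortExact.mk' (ShortComplex.exact_of_f_is_kernel SX (kernelIsKernel q))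
      (inferInstanceAs (Mono (kernel.ι q))) hq
  haveI : SX.X₁.IsQuasicoherent := hGq
  have hSP := shortExact_push ι hSX
  have hS := shortExact_twistSC n k r₀ hSP
  have c2 : Coh.IsCoh (twistSC n k r₀ (SX.map (Scheme.Modules.pushforward ι))).X₂ :=
    isCoh_twist hR₀ r₀
  have hFP : Coh.IsCoh ((Scheme.Modules.pushforward ι).obj F) := isCoh_push ι hF
  have c3 : Coh.IsCoh (twistSC n k r₀ (SX.map (Scheme.Modules.pushforward ι))).X₃ :=
    isCoh_twist hFP r₀
  have χ3 : ∀ l : ℤ, -r₀ ≤ l → (Curv2.euler k (CohB1.ProjSpace n k)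
      (tw (twistSC n k r₀ (SX.map (Scheme.Modules.pushforward ι))).X₃ l) : ℚ) =
        P'.eval (l : ℚ) := by
    intro l hl
    have e1 : Curv2.euler k (CohB1.ProjSpace n k)
        (tw (twistSC n k r₀ (SX.map (Scheme.Modules.pushforward ι))).X₃ l) =
        Curv2.euler k (CohB1.ProjSpace n k)
          (tw ((Scheme.Modules.pushforward ι).obj F) (r₀ + l)) :=
      euler_of_iso (twistTwistIso n k ((Scheme.Modules.pushforward ι).obj F) r₀ l)
    obtain ⟨d, hd⟩ : ∃ d : ℕ, (d : ℤ) = r₀ + l := ⟨(r₀ + l).toNat, by omega⟩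
    rw [e1, ← hd, ← euler_twist ι hι F (d : ℤ), hχ d, hP', Polynomial.taylor_eval]
    congr 1
    have : ((d : ℤ) : ℚ) = ((r₀ + l : ℤ) : ℚ) := by rw [hd]
    push_cast at this
    rw [this]
    ring
  have hreg1 := hm k n _ hS c2 c3 hreg χ3
  have hG : Curv2.IsMRegular k n ((Scheme.Modules.pushforward ι).obj (kernel q)) (r₀ + m) :=
    regular_of_twist hreg1
  refine ⟨hG, fun d hd i hi => ?_⟩
  have hGP : Coh.IsCoh ((Scheme.Modules.pushforward ι).obj (kernel q)) :=
    isCoh_X₁ hSP hR₀ hFP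
  have hSd := shortExact_twistSC n k d hSP
  have h2 : Subsingleton (Coh.HH (CohB1.ProjSpace n k)
      (tw ((Scheme.Modules.pushforward ι).obj E) d) i) := hd₀ d (by omega) i hi
  have h1 : Subsingleton (Coh.HH (CohB1.ProjSpace n k)
      (tw ((Scheme.Modules.pushforward ι).obj (kernel q)) d) (i + 1)) := by
    have := vanish_of_regular hGP hG (d + (i + 1 : ℕ)) (by omega) (i + 1) (by omega)
    have e : d + ((i + 1 : ℕ) : ℤ) - ((i + 1 : ℕ) : ℤ) = d := by ring
    rwa [e] at this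
  exact subsingleton_X₃ hSd i h2 h1

end

end Groth.Agent.Lib.Helper20.MumfordUnif
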