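import Mathlib
import Groth.Agent.Lib.Helper20.MumfordUnif4
import Groth.Agent.Lib.Lead.HilbPos2
import Groth.Agent.Lib.Helper19.ProjSpaceProper
import Groth.Agent.Lib.Helper18.ProjBasic

/-!
# Uniform global generation of kernels of quotients with bounded Hilbert functions (helper20)

* `exists_hilbPoly_Pn` : the Hilbert function of a coherent module on `P^n_k` is a polynomial.
* `exists_uniform_gg` : `X ⊆ P^n_k` closed (`k` infinite), `E` coherent on `X`, `Φ` a finite set of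
  functions `ℤ → ℤ`: there is `M₀` such that `(ker q)(M₀)` is globally generated for every coherent
  quotient `q : E ⟶ F` whose Hilbert function lies in `Φ`.
-/

set_option autoImplicit false
universe u

open CategoryTheory CategoryTheory.Limits AlgebraicGeometry Opposite TopologicalSpace

namespace Groth.Agent.Lib.Helper20.BoundedPn

open Groth.Agent.Lib.Lead.ModTensor Groth.Agent.Lib.Helper20.TensorEquiv
  Groth.Agent.Lib.Helper20.TwistEquivPn Groth.Agent.Lib.helper20.MumfordLemma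
  Groth.Agent.Lib.helper20.CMReg Groth.Agent.Lib.helper20.CMGG
  Groth.Agent.Lib.Helper18.HH Groth.Agent.Lib.helper20.PushReg
  Groth.Agent.Lib.Lead.ProjectiveCoh Groth.Agent.Lib.Helper20.MumfordUnif
  Groth.Agent.Lib.helper28

variable {n : ℕ} {k : Type u} [Field k]

/-- the Hilbert function of a coherent module on `P^n_k` is a polynomial -/
lemma exists_hilbPoly_Pn (G : (CohB1.ProjSpace n k).Modules) (hG : Coh.IsCoh G) :
    ∃ Q : Polynomial ℚ, ∀ d : ℕ,
      (Curv2.euler k (CohB1.ProjSpace n k) (tw G (d : ℤ)) : ℚ) = Q.eval (d : ℚ) := by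
  haveI : IsProper (CohB1.ProjSpace n k ↘ Spec (CommRingCat.of k)) :=
    Groth.Agent.Lib.helper19.ProjSpaceProper.proper_toSpec n k
  have hd : topologicalKrullDim (CohB1.support G) ≤ ((n : ℕ) : WithBot ℕ∞) := by
    rw [← Groth.Agent.Lib.Helper18.ProjBasic.topologicalKrullDim_projSpace (k := k) (n := n)]
    exact topologicalKrullDim_subspace_le _ _
  obtain ⟨Q, hQ, -⟩ := Groth.Agent.Lib.Lead.HilbPos.exists_isHilbPoly k (CohB1.ProjSpace n k)
    (TwistPn.isInvertible n k 1) hG n hd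
  refine ⟨Q, fun d => ?_⟩
  rw [← hQ d]
  congr 1
  exact euler_of_iso' (tensorIso (Iso.refl G) (TwistPn.powIso n k d))

variable {X : Scheme.{u}} [X.Over (Spec (CommRingCat.of k))] (ι : X ⟶ CohB1.ProjSpace n k)
  [IsClosedImmersion ι] (hι : ι ≫ CohB1.ProjSpace.toSpec n k = X ↘ Spec (CommRingCat.of k))

include ι in
lemma eulerCharLE_eq (F : X.Modules) [F.IsQuasicoherent] :
    FGA.eulerCharLE k X F n = Curv2.euler k X F :=
  (euler_eq_sum ι F).symm

include hι in
theorem exists_uniform_gg [Infinite k] (E : X.Modules) (hE : Coh.IsCoh E) (Φ : Set (ℤ → ℤ))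
    (hΦ : Φ.Finite) :
    ∃ M₀ : ℤ, 0 ≤ M₀ ∧ ∀ (F : X.Modules) (q : E ⟶ F), Coh.IsCoh F → Epi q →
      (fun r : ℤ => FGA.eulerCharLE k X (Pic13.twistOn k ι F r) n) ∈ Φ →
      Curv2.IsGloballyGenerated (Pic13.twistOn k ι (kernel q) M₀) := by
  classical
  have key : ∀ f : ℤ → ℤ, ∃ m₀ : ℤ, ∀ (F : X.Modules) (q : E ⟶ F), Coh.IsCoh F → Epi q →
      (fun r : ℤ => FGA.eulerCharLE k X (Pic13.twistOn k ι F r) n) = f →
      Curv2.IsMRegular k n ((Scheme.Modules.pushforward ι).obj (kernel q)) m₀ := by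
    intro f
    by_cases h : ∃ Q : Polynomial ℚ, ∀ d : ℕ, ((f d : ℤ) : ℚ) = Q.eval (d : ℚ)
    · obtain ⟨Q, hQ⟩ := h
      obtain ⟨m₀, -, hm⟩ := exists_regular_kernel ι hι E hE Q
      refine ⟨m₀, fun F q hF hq hf => (hm F q hF hq (fun d => ?_)).1⟩
      haveI : F.IsQuasicoherent := hF.1
      haveI : (Pic13.twistOn k ι F (d : ℤ)).IsQuasicoherent :=
        Groth.Agent.Lib.Lead.ProjectiveVan.isQuasicoherent_twistOn ι F (d : ℤ)
      rw [← hQ d, ← hf]
      exact congrArg (fun z : ℤ => (z : ℚ)) (eulerCharLE_eq ι (Pic13.twistOn k ι F d)).symm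
    · refine ⟨0, fun F q hF hq hf => absurd ?_ h⟩
      haveI : F.IsQuasicoherent := hF.1
      obtain ⟨Q, hQ⟩ := exists_hilbPoly_Pn ((Scheme.Modules.pushforward ι).obj F) (isCoh_push ι hF)
      refine ⟨Q, fun d => ?_⟩
      haveI : (Pic13.twistOn k ι F (d : ℤ)).IsQuasicoherent :=
        Groth.Agent.Lib.Lead.ProjectiveVan.isQuasicoherent_twistOn ι F (d : ℤ)
      rw [← hQ d, ← hf, ← euler_twist ι hι F (d : ℤ)]
      exact congrArg (fun z : ℤ => (z : ℚ)) (eulerCharLE_eq ι (Pic13.twistOn k ι F d))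
  choose g hg using key
  obtain ⟨M₀, hM₀⟩ := (hΦ.image g).bddAbove
  refine ⟨max M₀ 0, le_max_right _ _, fun F q hF hq hf => ?_⟩
  have h1 := hg _ F q hF hq rfl
  haveI : E.IsQuasicoherent := hE.1
  haveI : F.IsQuasicoherent := hF.1
  haveI hGq : (kernel q).IsQuasicoherent :=
    Groth.Agent.Lib.helper7.CohKer.isQuasicoherent_kernel q
  let SX : ShortComplex X.Modules := ShortComplex.mk (kernel.ι q) q (kernel.condition q)
  have hSX : SX.ShortExact :=
    ShortComplex.ShortExact.mk' (ShortComplex.exact_of_f_is_kernel SX (kernelIsKernel q))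
      (inferInstanceAs (Mono (kernel.ι q))) hq
  haveI : SX.X₁.IsQuasicoherent := hGq
  have hSP := shortExact_push ι hSX
  have hGP : Coh.IsCoh ((Scheme.Modules.pushforward ι).obj (kernel q)) :=
    isCoh_X₁ hSP (isCoh_push ι hE) (isCoh_push ι hF)
  have h2 := regular_of_le hGP h1 (max M₀ 0)
    (le_trans (hM₀ ⟨_, hf, rfl⟩) (le_max_left _ _))
  have h3 := gg_of_regular hGP h2
  obtain ⟨e⟩ := Groth.Agent.Lib.Lead.ProjectiveVan.nonempty_pushTwistIso ι (kernel q) (max M₀ 0)
  haveI : (Pic13.twistOn k ι (kernel q) (max M₀ 0)).IsQuasicoherent :=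
    Groth.Agent.Lib.Lead.ProjectiveVan.isQuasicoherent_twistOn ι (kernel q) (max M₀ 0)
  exact gg_of_gg_push ι _ (gg_of_iso e h3)

end Groth.Agent.Lib.Helper20.BoundedPn
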