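import Mathlib
import Groth.Prelude.Def_SecTwist
import Groth.Agent.Lib.Helper20.SmulHom
import Groth.Agent.Lib.Helper11.SerreGG

/-!
# Maps out of free modules and global sections (helper20)

* `unit_hom_ext`, `homOfSec_val`, `homOfSec_add/zero/sum`, `homOfSec_comp_smulHom`.
* `descFree`, `free_hom_ext`, `canonBy_eq`.
* `exists_factor` : if every `τ i` is a finite combination (with global functions as coefficients)
  of the `w l`, then `canonBy M τ` factors through `canonBy M w`.
* `cokerIsoOfFactor` : two morphisms to `M` factoring through each other have isomorphic cokernels.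
-/

set_option autoImplicit false
universe u
open CategoryTheory CategoryTheory.Limits AlgebraicGeometry Opposite TopologicalSpace

namespace Groth.Agent.Lib.Helper20.FreeSpan

open Groth.Agent.Lib.Helper20.SmulHom Groth.Agent.Lib.helper12.AmpleBasis
  Groth.Agent.Lib.helper11.SerreGG

variable {X : Scheme.{u}}

lemma unit_hom_ext {M : X.Modules} {f g : Coh.structureModule X ⟶ M}
    (h : SecTwist.val f ⊤ = SecTwist.val g ⊤) : f = g := by
  apply M.unitHomEquiv.injective
  apply Subtype.ext
  funext U
  have hf := SecTwist.map_val f (homOfLE (le_top : U.unop ≤ ⊤))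
  have hg := SecTwist.map_val g (homOfLE (le_top : U.unop ≤ ⊤))
  change SecTwist.val f U.unop = SecTwist.val g U.unop
  rw [← hf, ← hg, h]

lemma val_top_homOfSec (M : X.Modules) (σ : M.val.obj (op ⊤)) :
    SecTwist.val (homOfSec M σ) ⊤ = σ := by
  rw [val_homOfSec]
  change M.val.map (𝟙 (op (⊤ : X.Opens))) σ = σ
  rw [M.val.map_id]
  rfl

lemma homOfSec_val {M : X.Modules} (f : Coh.structureModule X ⟶ M) :
    homOfSec M (SecTwist.val f ⊤) = f :=
  unit_hom_ext (val_top_homOfSec M _)

lemma val_comp {M N : X.Modules} (f : Coh.structureModule X ⟶ M) (g : M ⟶ N) (U : X.Opens) :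
    SecTwist.val (f ≫ g) U = (g.val.app (op U)).hom (SecTwist.val f U) := rfl

lemma val_add {M : X.Modules} (f g : Coh.structureModule X ⟶ M) (U : X.Opens) :
    SecTwist.val (f + g) U = SecTwist.val f U + SecTwist.val g U := rfl

lemma val_zero {M : X.Modules} (U : X.Opens) :
    SecTwist.val (0 : Coh.structureModule X ⟶ M) U = 0 := rfl

lemma homOfSec_add (M : X.Modules) (σ σ' : M.val.obj (op ⊤)) :
    homOfSec M (σ + σ') = homOfSec M σ + homOfSec M σ' := by
  apply unit_hom_ext
  rw [val_add, val_top_homOfSec, val_top_homOfSec, val_top_homOfSec]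

lemma homOfSec_zero (M : X.Modules) : homOfSec M (0 : M.val.obj (op ⊤)) = 0 := by
  apply unit_hom_ext
  rw [val_zero, val_top_homOfSec]

lemma homOfSec_sum (M : X.Modules) {α : Type*} (s : Finset α) (σ : α → M.val.obj (op ⊤)) :
    homOfSec M (∑ i ∈ s, σ i) = ∑ i ∈ s, homOfSec M (σ i) := by
  classical
  induction s using Finset.induction_on with
  | empty => simp [homOfSec_zero]
  | insert a s ha ih => rw [Finset.sum_insert ha, Finset.sum_insert ha, homOfSec_add, ih]

lemma resTop_top (r : Coh.Γtop X) : Coh.resTop X (op ⊤) r = r := by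
  change (X.ringCatSheaf.obj.map (𝟙 (op (⊤ : Opens X)))).hom r = r
  rw [X.ringCatSheaf.obj.map_id]
  rfl

lemma homOfSec_comp_smulHom (M : X.Modules) (r : Coh.Γtop X) (σ : M.val.obj (op ⊤)) :
    homOfSec M σ ≫ smulHom r M = homOfSec M (r • σ) := by
  apply unit_hom_ext
  rw [val_comp, val_top_homOfSec, val_top_homOfSec, smulHom_app, resTop_top]

lemma smulHom_comp_homOfSec (M : X.Modules) (r : Coh.Γtop X) (σ : M.val.obj (op ⊤)) :
    smulHom r (Coh.structureModule X) ≫ homOfSec M σ = homOfSec M (r • σ) := by
  rw [smulHom_naturality, homOfSec_comp_smulHom]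

section Free

variable {ι : Type u} {M : X.Modules}

/-- the map `free ι ⟶ M` determined by maps `O ⟶ M` -/
noncomputable def descFree (g : ι → (Coh.structureModule X ⟶ M)) :
    (SheafOfModules.free ι : X.Modules) ⟶ M :=
  Cofan.IsColimit.desc (SheafOfModules.isColimitFreeCofan (R := X.ringCatSheaf) ι) g

lemma ιFree_descFree (g : ι → (Coh.structureModule X ⟶ M)) (i : ι) :
    (SheafOfModules.ιFree i : Coh.structureModule X ⟶ (SheafOfModules.free ι : X.Modules)) ≫
      descFree g = g i :=
  Cofan.IsColimit.fac (SheafOfModules.isColimitFreeCofan (R := X.ringCatSheaf) ι) g i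

lemma free_hom_ext {f f' : (SheafOfModules.free ι : X.Modules) ⟶ M}
    (h : ∀ i, (SheafOfModules.ιFree i : Coh.structureModule X ⟶ _) ≫ f =
      (SheafOfModules.ιFree i : Coh.structureModule X ⟶ _) ≫ f') : f = f' :=
  Cofan.IsColimit.hom_ext (SheafOfModules.isColimitFreeCofan (R := X.ringCatSheaf) ι) _ _ h

lemma canonBy_eq (τ : ι → M.val.obj (op ⊤)) :
    canonBy M τ = descFree (fun i => homOfSec M (τ i)) :=
  free_hom_ext fun i => by rw [ιFree_canonBy, ιFree_descFree]

/-- every map out of a free module is `canonBy` of its sections -/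
lemma eq_canonBy (f : (SheafOfModules.free ι : X.Modules) ⟶ M) :
    f = canonBy M (fun i => SecTwist.val
      ((SheafOfModules.ιFree i : Coh.structureModule X ⟶ _) ≫ f) ⊤) :=
  free_hom_ext fun i => by rw [ιFree_canonBy, homOfSec_val]; rfl

/-- if every `τ i` is a finite combination of the `w l` then `canonBy M τ` factors through
`canonBy M w` -/
theorem exists_factor {κ : Type u} (τ : ι → M.val.obj (op ⊤)) (w : κ → M.val.obj (op ⊤))
    (h : ∀ i, ∃ (s : Finset κ) (a : κ → Coh.Γtop X), τ i = ∑ l ∈ s, a l • w l) :
    ∃ c : (SheafOfModules.free ι : X.Modules) ⟶ (SheafOfModules.free κ : X.Modules),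
      c ≫ canonBy M w = canonBy M τ := by
  choose s a ha using h
  refine ⟨descFree (fun i => ∑ l ∈ s i, smulHom (a i l) (Coh.structureModule X) ≫
    (SheafOfModules.ιFree l : Coh.structureModule X ⟶ (SheafOfModules.free κ : X.Modules))), ?_⟩
  refine free_hom_ext fun i => ?_
  rw [← Category.assoc, ιFree_descFree, ιFree_canonBy, ha i, homOfSec_sum]
  refine (Preadditive.sum_comp (C := X.Modules) (s i) _ (canonBy M w)).trans ?_
  refine Finset.sum_congr rfl fun l _ => ?_
  have h1 : (SheafOfModules.ιFree l : Coh.structureModule X ⟶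
      (SheafOfModules.free κ : X.Modules)) ≫ canonBy M w = homOfSec M (w l) := ιFree_canonBy M w l
  exact (Category.assoc _ _ _).trans ((congrArg
    (fun z => smulHom (a i l) (Coh.structureModule X) ≫ z) h1).trans
    (smulHom_comp_homOfSec M _ _))

end Free

section Coker

variable {C : Type*} [Category C] [Abelian C]

/-- two morphisms to `M` which factor through each other have isomorphic cokernels -/
noncomputable def cokerIsoOfFactor {A B M : C} (f : A ⟶ M) (g : B ⟶ M) (c : A ⟶ B) (c' : B ⟶ A)
    (hc : c ≫ g = f) (hc' : c' ≫ f = g) : cokernel f ≅ cokernel g where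
  hom := cokernel.desc f (cokernel.π g) (by rw [← hc, Category.assoc, cokernel.condition, comp_zero])
  inv := cokernel.desc g (cokernel.π f) (by rw [← hc', Category.assoc, cokernel.condition, comp_zero])
  hom_inv_id := by
    apply coequalizer.hom_ext
    simp
  inv_hom_id := by
    apply coequalizer.hom_ext
    simp

end Coker

end Groth.Agent.Lib.Helper20.FreeSpan
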