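import Mathlib
import Groth.Agent.Lib.Helper20.BoundedCoker
import Groth.Agent.Lib.Helper20.FreeSpan
import Groth.Agent.Lib.Helper16.FLF5
import Groth.Agent.Lib.Lead.RankAdd
import Groth.Agent.Lib.Helper18.HHZero

/-!
# Bounded families of quotients by globally generated submodules (helper20)

`X` over a field `k`, `M` coherent on `X` with `Γ(X, M)` finite-dimensional over `k`, `L` invertible.
* `exists_family_canonBy` : the modules `coker(canonBy M τ) ⊗ L`, for all families `τ` of global
  sections of `M`, are fibres of one coherent module on `X ×_k 𝔸^N`.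
* `exists_family_quot` : the same for the quotients `M/K ⊗ L` with `K` globally generated.
-/

set_option autoImplicit false
universe u
open CategoryTheory CategoryTheory.Limits AlgebraicGeometry Opposite TopologicalSpace

namespace Groth.Agent.Lib.Helper20.BoundedQuot

open Groth.Agent.Lib.Helper20.SmulHom Groth.Agent.Lib.Helper20.BoundedCoker
  Groth.Agent.Lib.Helper20.FreeSpan Groth.Agent.Lib.helper12.AmpleBasis
  Groth.Agent.Lib.helper11.SerreGG

noncomputable section

section LinearAlgebra

variable {k V : Type*} [Field k] [AddCommGroup V] [Module k V]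

/-- a subspace of a space spanned by `D` vectors is spanned by `D` vectors -/
lemma exists_span_eq {κ : Type*} [Fintype κ] (σ : κ → V) (hσ : Submodule.span k (Set.range σ) = ⊤)
    (W : Submodule k V) : ∃ w : κ → V, Submodule.span k (Set.range w) = W := by
  classical
  haveI : Module.Finite k V := Module.Finite.of_fg_top ⟨(Set.finite_range σ).toFinset, by simpa using hσ⟩
  have h1 : Module.finrank k W ≤ Fintype.card κ := by
    refine (Submodule.finrank_le W).trans ?_
    have h2 := finrank_range_le_card (R := k) σ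
    unfold Set.finrank at h2
    rwa [hσ, finrank_top] at h2
  let b := Module.finBasis k W
  let e := Fintype.equivFin κ
  refine ⟨fun l => if h : (e l).val < Module.finrank k W then (b ⟨(e l).val, h⟩ : V) else 0, ?_⟩
  apply le_antisymm
  · rw [Submodule.span_le]
    rintro _ ⟨l, rfl⟩
    dsimp only
    split_ifs with h
    · exact (b _).2
    · exact W.zero_mem
  · intro x hx
    have hx' : (⟨x, hx⟩ : W) ∈ Submodule.span k (Set.range b) := by rw [b.span_eq]; trivial
    have h3 := Submodule.apply_mem_span_image_of_mem_span W.subtype hx'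
    rw [← Set.range_comp] at h3
    refine Submodule.span_mono ?_ h3
    rintro _ ⟨i, rfl⟩
    have hi : i.val < Fintype.card κ := lt_of_lt_of_le i.2 h1
    refine ⟨e.symm ⟨i.val, hi⟩, ?_⟩
    simp

end LinearAlgebra


section Elem

variable (k : Type u) [Field k] {X : Scheme.{u}} [X.Over (Spec (CommRingCat.of k))]
  (M : X.Modules) {κ : Type u} [Fintype κ] [DecidableEq κ] {D : ℕ} (σ : Fin D → M.val.obj (op ⊤))

/-- the elementary map `e_l ↦ σ_j`, `e_{l'} ↦ 0` for `l' ≠ l` -/
def elem (l : κ) (j : Fin D) : (SheafOfModules.free κ : X.Modules) ⟶ M :=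
  descFree (fun l' => if l' = l then homOfSec M (σ j) else 0)

lemma canonBy_combination (a : κ → Fin D → k) :
    canonBy M (fun l => ∑ j, cst k X (a l j) • σ j) =
      ∑ l, ∑ j, elem M σ l j ≫ smulHom (cst k X (a l j)) M := by
  refine free_hom_ext fun l₀ => ?_
  rw [ιFree_canonBy, homOfSec_sum]
  refine Eq.trans ?_ (Preadditive.comp_sum (C := X.Modules) _ _ _).symm
  rw [Finset.sum_eq_single l₀]
  · refine Eq.trans ?_ (Preadditive.comp_sum (C := X.Modules) _ _ _).symm
    refine Finset.sum_congr rfl fun j _ => ?_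
    have h1 : (SheafOfModules.ιFree l₀ : Coh.structureModule X ⟶
        (SheafOfModules.free κ : X.Modules)) ≫ elem M σ l₀ j = homOfSec M (σ j) := by
      unfold elem
      rw [ιFree_descFree, if_pos rfl]
    exact ((homOfSec_comp_smulHom M _ _).symm.trans (congrArg
      (fun z => z ≫ smulHom (cst k X (a l₀ j)) M) h1.symm)).trans (Category.assoc _ _ _)
  · intro l _ hl
    refine (Preadditive.comp_sum (C := X.Modules) _ _ _).trans ?_
    refine Finset.sum_eq_zero fun j _ => ?_
    have h1 : (SheafOfModules.ιFree l₀ : Coh.structureModule X ⟶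
        (SheafOfModules.free κ : X.Modules)) ≫ elem M σ l j = 0 := by
      unfold elem
      rw [ιFree_descFree, if_neg (Ne.symm hl)]
      rfl
    exact (Category.assoc _ _ _).symm.trans ((congrArg
      (fun z => z ≫ smulHom (cst k X (a l j)) M) h1).trans zero_comp)
  · intro h
    exact absurd (Finset.mem_univ l₀) h

end Elem


section Main

variable (k : Type u) [Field k] {X : Scheme.{u}} [X.Over (Spec (CommRingCat.of k))]

lemma isCoh_free (X : Scheme.{u}) (D : ℕ) :
    Coh.IsCoh (SheafOfModules.free (ULift.{u} (Fin D)) : X.Modules) := by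
  have h1 : Coh.IsCoh (FlatMod.freeMod X D) :=
    Groth.Agent.Lib.Lead.RankAdd.isCoh_of_isFinLocFreeOfRank
      (Groth.Agent.Lib.helper16.FLF.isFinLocFreeOfRank_freeMod X D)
  let e := Groth.Agent.Lib.helper16.FLF.freeModIso X D
  exact ⟨(SheafOfModules.isQuasicoherent X.ringCatSheaf).prop_of_iso e h1.1,
    Groth.Agent.Lib.helper7.CohKer.isFiniteType_of_epi e.hom h1.2⟩

/-- **Bounded families.** If `M` is coherent with `Γ(X, M)` finite-dimensional over `k` and `L` is
invertible, the modules `coker(canonBy M τ) ⊗ L`, `τ` any family of global sections of `M`, are fibres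
of one coherent module over `X ×_k T`. -/
theorem exists_family_canonBy (M : X.Modules) (hM : Coh.IsCoh M)
    (hfin : @Module.Finite k (M.val.obj (op ⊤)) _ _
      (Groth.Agent.Lib.Helper18.HH.sectionsModuleOver k M))
    (L : X.Modules) (hL : PicF.IsInvertible L) :
    ∃ (T : Scheme.{u}) (q : T ⟶ Spec (CommRingCat.of k)), LocallyOfFiniteType q ∧ QuasiCompact q ∧
      ∃ F : (Pic13.prodK k X q).Modules, Coh.IsCoh F ∧
        ∀ (ι : Type u) (τ : ι → M.val.obj (op ⊤)),
          ∃ (t : Spec (CommRingCat.of k) ⟶ T) (ht : t ≫ q = 𝟙 _),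
            Nonempty (Pic13.fibreMod k X q t ht F ≅ CohB1.tensorMod (cokernel (canonBy M τ)) L) := by
  classical
  letI := Groth.Agent.Lib.Helper18.HH.sectionsModuleOver k M
  obtain ⟨D, σ, hσ⟩ := Module.Finite.exists_fin (R := k) (M := M.val.obj (op ⊤))
  let κ := ULift.{u} (Fin D)
  let e := Fintype.equivFin (κ × Fin D)
  let ψ : Fin (Fintype.card (κ × Fin D)) → ((SheafOfModules.free κ : X.Modules) ⟶ M) :=
    fun p => elem M σ (e.symm p).1 (e.symm p).2
  obtain ⟨T, q, hq1, hq2, F, hF, hfib⟩ := exists_family_twist k ψ (isCoh_free X D) hM L hL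
  refine ⟨T, q, hq1, hq2, F, hF, fun ι τ => ?_⟩
  -- a spanning family of the span of `τ`
  let σ' : κ → M.val.obj (op ⊤) := fun l => σ l.down
  have hσ' : Submodule.span k (Set.range σ') = ⊤ := by
    rw [← hσ]
    congr 1
    ext v
    constructor
    · rintro ⟨l, rfl⟩; exact ⟨l.down, rfl⟩
    · rintro ⟨j, rfl⟩; exact ⟨⟨j⟩, rfl⟩
  obtain ⟨w, hw⟩ := exists_span_eq σ' hσ' (Submodule.span k (Set.range τ))
  -- each `w l` is a combination of the `σ j`
  have hwσ : ∀ l, ∃ c : Fin D → k, ∑ j, c j • σ j = w l := fun l =>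
    Submodule.mem_span_range_iff_exists_fun k |>.1 (by rw [hσ]; trivial)
  choose a ha using hwσ
  -- factorisations
  have h1 : ∀ i, ∃ (s : Finset κ) (c : κ → Coh.Γtop X), τ i = ∑ l ∈ s, c l • w l := by
    intro i
    have hi : τ i ∈ Submodule.span k (Set.range w) := by
      rw [hw]; exact Submodule.subset_span ⟨i, rfl⟩
    obtain ⟨c, hc⟩ := Submodule.mem_span_range_iff_exists_fun k |>.1 hi
    exact ⟨Finset.univ, fun l => cst k X (c l), hc.symm⟩
  have h2 : ∀ l, ∃ (s : Finset ι) (c : ι → Coh.Γtop X), w l = ∑ i ∈ s, c i • τ i := by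
    intro l
    have hl : w l ∈ Submodule.span k (Set.range τ) := by
      rw [← hw]; exact Submodule.subset_span ⟨l, rfl⟩
    obtain ⟨c, hc⟩ := Finsupp.mem_span_range_iff_exists_finsupp.1 hl
    exact ⟨c.support, fun i => cst k X (c i), hc.symm⟩
  obtain ⟨c, hc⟩ := exists_factor τ w h1
  obtain ⟨c', hc'⟩ := exists_factor w τ h2
  have hcomb : canonBy M w = comb k ψ (fun p => a (e.symm p).1 (e.symm p).2) := by
    have h3 : w = fun l => ∑ j, cst k X (a l j) • σ j := funext fun l => (ha l).symm
    rw [h3, canonBy_combination]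
    unfold comb
    rw [← Fintype.sum_prod_type']
    exact (Fintype.sum_equiv e.symm _ _ (fun p => rfl)).symm
  obtain ⟨t, ht, ⟨φ⟩⟩ := hfib (fun p => a (e.symm p).1 (e.symm p).2)
  refine ⟨t, ht, ⟨φ ≪≫ Groth.Agent.Lib.Lead.ModTensor.tensorIso ?_ (Iso.refl L)⟩⟩
  rw [← hcomb]
  exact (cokerIsoOfFactor (canonBy M τ) (canonBy M w) c c' hc hc').symm

/-- **Bounded families of quotients.** `M` coherent with finite-dimensional space of global
sections, `L` invertible: the modules `S.X₃ ⊗ L`, for the short exact sequences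
`0 ⟶ S.X₁ ⟶ S.X₂ ≅ M ⟶ S.X₃ ⟶ 0` with `S.X₁` globally generated, are fibres of one coherent
module over `X ×_k T`. -/
theorem exists_family_quot (M : X.Modules) (hM : Coh.IsCoh M)
    (hfin : @Module.Finite k (M.val.obj (op ⊤)) _ _
      (Groth.Agent.Lib.Helper18.HH.sectionsModuleOver k M))
    (L : X.Modules) (hL : PicF.IsInvertible L) :
    ∃ (T : Scheme.{u}) (q : T ⟶ Spec (CommRingCat.of k)), LocallyOfFiniteType q ∧ QuasiCompact q ∧
      ∃ F : (Pic13.prodK k X q).Modules, Coh.IsCoh F ∧
        ∀ (S : ShortComplex X.Modules), S.ShortExact → (S.X₂ ≅ M) →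
          Curv2.IsGloballyGenerated S.X₁ →
          ∃ (t : Spec (CommRingCat.of k) ⟶ T) (ht : t ≫ q = 𝟙 _),
            Nonempty (Pic13.fibreMod k X q t ht F ≅ CohB1.tensorMod S.X₃ L) := by
  obtain ⟨T, q, hq1, hq2, F, hF, hfib⟩ := exists_family_canonBy k M hM hfin L hL
  refine ⟨T, q, hq1, hq2, F, hF, fun S hS e hgg => ?_⟩
  obtain ⟨ι, p, hp⟩ := hgg
  haveI := hp
  haveI := hS.epi_g
  obtain ⟨t, ht, ⟨φ⟩⟩ := hfib ι (fun i => SecTwist.val
    ((SheafOfModules.ιFree i : Coh.structureModule X ⟶ _) ≫ (p ≫ S.f ≫ e.hom)) ⊤)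
  rw [← eq_canonBy] at φ
  refine ⟨t, ht, ⟨φ ≪≫ Groth.Agent.Lib.Lead.ModTensor.tensorIso ?_ (Iso.refl L)⟩⟩
  exact cokernelEpiComp p (S.f ≫ e.hom) ≪≫ cokernelCompIsIso S.f e.hom ≪≫
    (cokernelIsCokernel S.f).coconePointUniqueUpToIso hS.exact.gIsCokernel

end Main

end

end Groth.Agent.Lib.Helper20.BoundedQuot
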