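import Mathlib
import Groth.Agent.Lib.Helper20.BoundedPn
import Groth.Agent.Lib.Helper20.BoundedQuot
import Groth.Agent.Lib.Helper12.TensorCocont

/-!
# Twists on a closed subscheme of `P^n_k` and generation by `N` sections (helper20)

* `pullTwistAdd`, `twistOnAdd`, `twistOnZero`, `invIsoOn`, `twistOnSC`, `shortExact_twistOnSC`.
* `exists_epi_free` : a globally generated module with `N`-dimensional space of sections is a
  quotient of `O^N`.
-/

set_option autoImplicit false
universe u

open CategoryTheory CategoryTheory.Limits AlgebraicGeometry Opposite TopologicalSpace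

namespace Groth.Agent.Lib.Helper20.BoundedX

open Groth.Agent.Lib.Lead.ModTensor Groth.Agent.Lib.Helper20.TensorEquiv
  Groth.Agent.Lib.Helper20.TwistEquivPn Groth.Agent.Lib.helper28
  Groth.Agent.Lib.helper12.PullTensor Groth.Agent.Lib.helper11.InvMod
  Groth.Agent.Lib.Helper20.FreeSpan Groth.Agent.Lib.helper11.SerreGG
  Groth.Agent.Lib.Helper20.BoundedCoker

noncomputable section

section Twist

variable (k : Type u) [Field k] {n : ℕ} {X : Scheme.{u}} (i : X ⟶ CohB1.ProjSpace n k)

/-- `i^*O(a) ⊗ i^*O(b) ≅ i^*O(a+b)` -/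
def pullTwistAdd (a b : ℤ) :
    CohB1.tensorMod ((Scheme.Modules.pullback i).obj (Twist.twistProjSpace n k a))
      ((Scheme.Modules.pullback i).obj (Twist.twistProjSpace n k b)) ≅
      (Scheme.Modules.pullback i).obj (Twist.twistProjSpace n k (a + b)) :=
  (pullTensorIso i _ _ (TwistPn.isInvertible n k b)).symm ≪≫
    (Scheme.Modules.pullback i).mapIso (TwistPn.tensorIso n k a b)

/-- `F(a)(b) ≅ F(a+b)` -/
def twistOnAdd (F : X.Modules) (a b : ℤ) :
    Pic13.twistOn k i (Pic13.twistOn k i F a) b ≅ Pic13.twistOn k i F (a + b) :=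
  assoc F _ _ ≪≫ tensorIso (Iso.refl F) (pullTwistAdd k i a b)

/-- `F(a) ≅ F(b)` for `a = b` -/
def twistOnCongr (F : X.Modules) {a b : ℤ} (h : a = b) :
    Pic13.twistOn k i F a ≅ Pic13.twistOn k i F b :=
  eqToIso (by rw [h])

/-- `F(0) ≅ F` -/
def twistOnZero (F : X.Modules) : Pic13.twistOn k i F 0 ≅ F :=
  tensorIso (Iso.refl F) ((Scheme.Modules.pullback i).mapIso (TwistPn.zeroIso n k).symm ≪≫
    pullbackUnitIso i) ≪≫ rightUnitor F

/-- `i^*O(d) ⊗ i^*O(-d) ≅ O_X` -/
def invIsoOn (d : ℤ) :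
    CohB1.tensorMod ((Scheme.Modules.pullback i).obj (Twist.twistProjSpace n k d))
      ((Scheme.Modules.pullback i).obj (Twist.twistProjSpace n k (-d))) ≅ Coh.structureModule X :=
  (pullTensorIso i _ _ (TwistPn.isInvertible n k (-d))).symm ≪≫
    (Scheme.Modules.pullback i).mapIso (invIso n k d) ≪≫ pullbackUnitIso i

/-- the twisted short complex `S(d)` -/
def twistOnSC (d : ℤ) (S : ShortComplex X.Modules) : ShortComplex X.Modules :=
  mapSC (invIsoOn k i d) S

lemma shortExact_twistOnSC (d : ℤ) {S : ShortComplex X.Modules} (hS : S.ShortExact) :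
    (twistOnSC k i d S).ShortExact :=
  shortExact_mapSC (invIsoOn k i d) hS

@[simp] lemma twistOnSC_X₁ (d : ℤ) (S : ShortComplex X.Modules) :
    (twistOnSC k i d S).X₁ = Pic13.twistOn k i S.X₁ d := rfl
@[simp] lemma twistOnSC_X₂ (d : ℤ) (S : ShortComplex X.Modules) :
    (twistOnSC k i d S).X₂ = Pic13.twistOn k i S.X₂ d := rfl
@[simp] lemma twistOnSC_X₃ (d : ℤ) (S : ShortComplex X.Modules) :
    (twistOnSC k i d S).X₃ = Pic13.twistOn k i S.X₃ d := rfl

lemma isInvertible_pullTwist (d : ℤ) :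
    PicF.IsInvertible ((Scheme.Modules.pullback i).obj (Twist.twistProjSpace n k d)) :=
  isInvertible_pullback i (TwistPn.isInvertible n k d)

lemma isCoh_twistOn {F : X.Modules} (hF : Coh.IsCoh F) (d : ℤ) :
    Coh.IsCoh (Pic13.twistOn k i F d) :=
  Groth.Agent.Lib.Helper18.DegCalc.isCoh_tensorMod hF
    (Groth.Agent.Lib.helper21.InvFibre.isCoh_of_isInvertible (isInvertible_pullTwist k i d))

end Twist

section Gen

variable (k : Type u) [Field k] {X : Scheme.{u}} [X.Over (Spec (CommRingCat.of k))]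

/-- a globally generated module whose space of global sections has dimension `N` is a quotient
of `O^N` -/
theorem exists_epi_free (M : X.Modules) (hgg : Curv2.IsGloballyGenerated M) (N : ℕ)
    (hfin : @Module.Finite k (M.val.obj (op ⊤)) _ _
      (Groth.Agent.Lib.Helper18.HH.sectionsModuleOver k M))
    (hN : @Module.finrank k (M.val.obj (op ⊤)) _ _
      (Groth.Agent.Lib.Helper18.HH.sectionsModuleOver k M) = N) :
    ∃ p : (SheafOfModules.free (ULift.{u} (Fin N)) : X.Modules) ⟶ M, Epi p := by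
  letI := Groth.Agent.Lib.Helper18.HH.sectionsModuleOver k M
  obtain ⟨ι, p₀, hp₀⟩ := hgg
  let b := Module.finBasisOfFinrankEq k (M.val.obj (op ⊤)) hN
  let w : ULift.{u} (Fin N) → M.val.obj (op ⊤) := fun l => b l.down
  let τ : ι → M.val.obj (op ⊤) := fun j => SecTwist.val
    ((SheafOfModules.ιFree j : Coh.structureModule X ⟶ _) ≫ p₀) ⊤
  have h1 : ∀ j, ∃ (s : Finset (ULift.{u} (Fin N))) (c : ULift.{u} (Fin N) → Coh.Γtop X),
      τ j = ∑ l ∈ s, c l • w l := by
    intro j
    refine ⟨Finset.univ, fun l => cst k X (b.repr (τ j) l.down), ?_⟩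
    have h2 := b.sum_repr (τ j)
    rw [← h2]
    conv_rhs => rw [h2]
    exact (Equiv.sum_comp (Equiv.ulift (α := Fin N)) (fun l => b.repr (τ j) l • b l)).symm
  obtain ⟨c, hc⟩ := exists_factor τ w h1
  rw [← eq_canonBy p₀] at hc
  refine ⟨canonBy M w, ?_⟩
  haveI := hp₀
  exact epi_of_epi_fac hc

end Gen

end

end Groth.Agent.Lib.Helper20.BoundedX
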