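import Mathlib
import Groth.Agent.Lib.Lead.CurveInv
import Groth.Agent.Lib.Helper11.GenLocus
import Groth.Agent.Lib.Helper20.AcyclicEmb

/-!
# Sections of finite locally free modules on integral schemes (helper20)

* `res_eq_zero_of_isFinLocFree`: on an integral scheme, restriction of sections of a finite locally free module to
  a nonempty open is injective.
* `mono_of_ne_zero`: a nonzero morphism `O ⟶ N` into a finite locally free module on an integral scheme is a
  monomorphism.
-/

set_option autoImplicit false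
universe u
open CategoryTheory CategoryTheory.Limits AlgebraicGeometry Opposite TopologicalSpace
open Groth.Agent.Lib.helper11.GenLocus

namespace Groth.Agent.Lib.helper20.LFMono

section free

variable (U : Scheme.{u}) (r : ℕ)

/-- the `i`-th projection of the free module -/
noncomputable def π (i : Fin r) : FlatMod.freeMod U r ⟶ Coh.structureModule U :=
  Sigma.desc (fun j => if j = i then 𝟙 _ else 0)

lemma ι_π (j i : Fin r) :
    Sigma.ι (fun _ : Fin r => Coh.structureModule U) j ≫ π U r i = if j = i then 𝟙 _ else 0 := by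
  unfold π
  exact Sigma.ι_desc _ _

lemma sum_π_ι :
    ∑ i : Fin r, π U r i ≫ Sigma.ι (fun _ : Fin r => Coh.structureModule U) i =
      𝟙 (FlatMod.freeMod U r) := by
  apply Sigma.hom_ext
  intro j
  rw [Preadditive.comp_sum, Category.comp_id]
  have : ∀ i : Fin r, Sigma.ι (fun _ : Fin r => Coh.structureModule U) j ≫
      π U r i ≫ Sigma.ι (fun _ : Fin r => Coh.structureModule U) i =
      if i = j then Sigma.ι (fun _ : Fin r => Coh.structureModule U) j else 0 := by
    intro i
    rw [← Category.assoc, ι_π]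
    by_cases h : j = i
    · subst h
      simp
    · rw [if_neg h, if_neg (fun h' => h h'.symm), zero_comp]
  rw [Finset.sum_congr rfl (fun i _ => this i)]
  simp

end free

variable {X : Scheme.{u}}

/-- evaluation of morphisms on sections, as an additive map -/
noncomputable def appAddHom {M N : X.Modules} (V : X.Opens) : (M ⟶ N) →+ (Γ(M, V) →+ Γ(N, V)) where
  toFun φ := (φ.app V).hom
  map_zero' := rfl
  map_add' _ _ := rfl

lemma section_eq_zero_of_π {U : Scheme.{u}} {r : ℕ} (V : U.Opens) (f : Γ(FlatMod.freeMod U r, V))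
    (h : ∀ i, ((π U r i).app V).hom f = 0) : f = 0 := by
  have h1 : (appAddHom V (𝟙 (FlatMod.freeMod U r))) f = f := rfl
  rw [← sum_π_ι, map_sum] at h1
  rw [← h1, AddMonoidHom.finsetSum_apply]
  apply Finset.sum_eq_zero
  intro i _
  change ((Sigma.ι (fun _ : Fin r => Coh.structureModule U) i).app V).hom
    (((π U r i).app V).hom f) = 0
  rw [h i, map_zero]


/-- restriction of a finite locally free module on an integral scheme to a nonempty open is injective -/
theorem res_eq_zero_of_isFinLocFree [IsIntegral X] {N : X.Modules} (hN : FlatMod.IsFinLocFree N)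
    {O W : X.Opens} (hW : (W : Set X).Nonempty) (t : Γ(N, O))
    (ht : N.presheaf.map (homOfLE (inf_le_left : O ⊓ W ≤ O)).op t = 0) : t = 0 := by
  refine TopCat.Presheaf.section_ext ⟨N.presheaf, N.isSheaf⟩ O _ _ (fun x hx => ?_)
  obtain ⟨U, r, hxU, ⟨e⟩⟩ := hN x
  let V' : U.toScheme.Opens := U.ι ⁻¹ᵁ O
  let V'' : U.toScheme.Opens := U.ι ⁻¹ᵁ (O ⊓ W)
  have hle : U.ι ''ᵁ V' ≤ O := U.ι.image_preimage_le O
  have hle'' : V'' ≤ V' := fun y hy => hy.1
  have hle2 : U.ι ''ᵁ V'' ≤ O ⊓ W := U.ι.image_preimage_le (O ⊓ W)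
  let tV : Γ(N, U.ι ''ᵁ V') := N.presheaf.map (homOfLE hle).op t
  let f : Γ(FlatMod.freeMod (↑U : Scheme.{u}) r, V') := (e.hom.app V').hom tV
  -- `f` restricted to `V''` vanishes
  have hres : (FlatMod.freeMod (↑U : Scheme.{u}) r).presheaf.map (homOfLE hle'').op f = 0 := by
    have nat := congrFun (congrArg (fun g => (AddCommGrpCat.Hom.hom g : _ → _))
      (e.hom.mapPresheaf.naturality (homOfLE hle'').op)) tV
    change (FlatMod.freeMod (↑U : Scheme.{u}) r).presheaf.map (homOfLE hle'').op
      ((e.hom.app V').hom tV) = 0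
    have nat' : (FlatMod.freeMod (↑U : Scheme.{u}) r).presheaf.map (homOfLE hle'').op
        ((e.hom.app V').hom tV) =
        (e.hom.app V'').hom ((N.restrict U.ι).presheaf.map (homOfLE hle'').op tV) := nat.symm
    rw [nat']
    have h0 : (N.restrict U.ι).presheaf.map (homOfLE hle'').op tV = 0 := by
      change N.presheaf.map (U.ι.opensFunctor.map (homOfLE hle'')).op
        (N.presheaf.map (homOfLE hle).op t) = 0
      have h1 : N.presheaf.map (U.ι.opensFunctor.map (homOfLE hle'')).op
          (N.presheaf.map (homOfLE hle).op t) =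
          N.presheaf.map (homOfLE hle2).op
            (N.presheaf.map (homOfLE (inf_le_left : O ⊓ W ≤ O)).op t) := by
        rw [← ConcreteCategory.comp_apply, ← ConcreteCategory.comp_apply, ← Functor.map_comp,
          ← Functor.map_comp]
        rfl
      rw [h1, ht, map_zero]
    rw [h0, map_zero]
  -- hence `f = 0`
  have : Nonempty U := ⟨⟨x, hxU⟩⟩
  have hUint : IsIntegral U.toScheme := isIntegral_of_isOpenImmersion U.ι
  have hne : Nonempty V'' := by
    have h1 : ((O ⊓ U ⊓ W : X.Opens) : Set X).Nonempty :=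
      nonempty_preirreducible_inter (O ⊓ U).isOpen W.isOpen ⟨x, hx, hxU⟩ hW
    obtain ⟨y, ⟨hyO, hyU⟩, hyW⟩ := h1
    exact ⟨⟨⟨y, hyU⟩, hyO, hyW⟩⟩
  have hf : f = 0 := by
    apply section_eq_zero_of_π
    intro i
    have hinj := map_injective_of_isIntegral U.toScheme (homOfLE hle'')
    -- naturality of the projection
    have nat := congrFun (congrArg (fun g => (AddCommGrpCat.Hom.hom g : _ → _))
      ((π (↑U : Scheme.{u}) r i).mapPresheaf.naturality (homOfLE hle'').op)) f
    have nat' : (Coh.structureModule (↑U : Scheme.{u})).presheaf.map (homOfLE hle'').op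
        (((π (↑U : Scheme.{u}) r i).app V').hom f) =
        ((π (↑U : Scheme.{u}) r i).app V'').hom
          ((FlatMod.freeMod (↑U : Scheme.{u}) r).presheaf.map (homOfLE hle'').op f) := nat.symm
    have h3 : (ConcreteCategory.hom ((↑U : Scheme.{u}).presheaf.map (homOfLE hle'').op))
        (show Γ((↑U : Scheme.{u}), V') from ((π (↑U : Scheme.{u}) r i).app V').hom f) =
        (ConcreteCategory.hom ((↑U : Scheme.{u}).presheaf.map (homOfLE hle'').op)) 0 := by
      rw [map_zero]
      refine nat'.trans ?_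
      rw [hres, map_zero]
      rfl
    exact hinj h3
  have htV : tV = 0 := by
    have h1 : (e.inv.app V').hom f = tV := by
      change (e.inv.app V').hom ((e.hom.app V').hom tV) = tV
      have h4 : e.hom.app V' ≫ e.inv.app V' = 𝟙 _ := by
        rw [← Scheme.Modules.Hom.comp_app, e.hom_inv_id]; rfl
      have h5 := congrArg (fun g : Γ(N.restrict U.ι, V') ⟶ Γ(N.restrict U.ι, V') => g.hom tV) h4
      exact h5
    rw [← h1, hf]
    exact map_zero _
  have hx' : x ∈ U.ι ''ᵁ V' := ⟨⟨x, hxU⟩, hx, rfl⟩
  have h2 := TopCat.Presheaf.germ_res_apply N.presheaf (homOfLE hle) x hx' t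
  rw [← h2]
  change N.presheaf.germ _ x hx' tV = _
  rw [htV, map_zero, map_zero]


/-- a morphism `O ⟶ N` whose global section vanishes is zero -/
lemma eq_zero_of_sec_top_eq_zero {N : X.Modules} (s : Coh.structureModule X ⟶ N)
    (h : sec s ⊤ = 0) : s = 0 := by
  apply Scheme.Modules.hom_ext
  intro V
  ext a
  have h1 := app_apply s V a
  have h2 : sec s V = 0 := by
    rw [← res_sec s (homOfLE (le_top : V ≤ ⊤)), h, map_zero]
  rw [h2] at h1
  exact h1.trans (smul_zero _)

/-- a nonzero morphism `O ⟶ N` to a finite locally free module on an integral scheme is a monomorphism -/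
theorem mono_of_ne_zero [IsIntegral X] {N : X.Modules} (hN : FlatMod.IsFinLocFree N)
    (s : Coh.structureModule X ⟶ N) (hs : s ≠ 0) : Mono s := by
  have hσ : sec s ⊤ ≠ 0 := fun h => hs (eq_zero_of_sec_top_eq_zero s h)
  apply Groth.Agent.Lib.Helper20.AcyclicEmb.mono_of_injective_app
  intro O
  rw [injective_iff_map_eq_zero]
  intro t ht
  refine TopCat.Presheaf.section_ext ⟨(Coh.structureModule X).presheaf,
    (Coh.structureModule X).isSheaf⟩ O _ _ (fun x hx => ?_)
  obtain ⟨U, r, hxU, ⟨e⟩⟩ := hN x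
  let V' : U.toScheme.Opens := U.ι ⁻¹ᵁ O
  have hle : U.ι ''ᵁ V' ≤ O := U.ι.image_preimage_le O
  have hx' : x ∈ U.ι ''ᵁ V' := ⟨⟨x, hxU⟩, hx, rfl⟩
  have : Nonempty U := ⟨⟨x, hxU⟩⟩
  have hUint : IsIntegral U.toScheme := isIntegral_of_isOpenImmersion U.ι
  have hne : Nonempty V' := ⟨⟨⟨x, hxU⟩, hx⟩⟩
  -- the restriction of `t`
  let tV : Γ(X, U.ι ''ᵁ V') := X.presheaf.map (homOfLE hle).op (show Γ(X, O) from t)
  -- the section of `N` on the image
  let σV : Γ(N, U.ι ''ᵁ V') := sec s (U.ι ''ᵁ V')
  have hσV : σV ≠ 0 := by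
    intro h0
    apply hσ
    apply res_eq_zero_of_isFinLocFree hN (W := U.ι ''ᵁ V') ⟨x, hx'⟩
    rw [res_sec s, ← res_sec s (homOfLE (inf_le_right : ⊤ ⊓ U.ι ''ᵁ V' ≤ U.ι ''ᵁ V'))]
    change N.presheaf.map _ σV = 0
    rw [h0, map_zero]
  have hts : tV • σV = 0 := by
    have h1 := app_apply s (U.ι ''ᵁ V') tV
    rw [← h1]
    have nat := congrFun (congrArg (fun g => (AddCommGrpCat.Hom.hom g : _ → _))
      (s.mapPresheaf.naturality (homOfLE hle).op)) t
    have nat' : (s.app (U.ι ''ᵁ V')).hom
        ((Coh.structureModule X).presheaf.map (homOfLE hle).op t) =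
        N.presheaf.map (homOfLE hle).op ((s.app O).hom t) := nat
    refine Eq.trans ?_ (nat'.trans ?_)
    · rfl
    · have ht' : (s.app O).hom t = 0 := ht
      rw [ht', map_zero]
  -- pass to the restriction to `U`
  let a : Γ((↑U : Scheme.{u}), V') := (U.ι.appIso V').hom.hom tV
  have ha : (U.ι.appIso V').inv.hom a = tV := by
    change ((U.ι.appIso V').hom ≫ (U.ι.appIso V').inv).hom tV = tV
    rw [Iso.hom_inv_id]
    rfl
  let σV' : Γ(N.restrict U.ι, V') := σV
  have hsm : a • σV' = 0 := by
    have h1 : a • σV' = ((U.ι.appIso V').inv.hom a) • σV := rfl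
    rw [h1, ha]
    exact hts
  let f : Γ(FlatMod.freeMod (↑U : Scheme.{u}) r, V') := (e.hom.app V').hom σV'
  have hf0 : f ≠ 0 := by
    intro h0
    apply hσV
    have h1 : (e.inv.app V').hom f = σV' := by
      change (e.inv.app V').hom ((e.hom.app V').hom σV') = σV'
      have h4 : e.hom.app V' ≫ e.inv.app V' = 𝟙 _ := by
        rw [← Scheme.Modules.Hom.comp_app, e.hom_inv_id]; rfl
      have h5 := congrArg (fun g : Γ(N.restrict U.ι, V') ⟶ Γ(N.restrict U.ι, V') => g.hom σV') h4
      exact h5
    change σV' = 0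
    rw [← h1, h0]
    exact map_zero _
  have haf : a • f = 0 := by
    have h1 := Scheme.Modules.Hom.app_smul e.hom a σV'
    rw [hsm] at h1
    exact h1.symm.trans (map_zero _)
  obtain ⟨i, hi⟩ : ∃ i, ((π (↑U : Scheme.{u}) r i).app V').hom f ≠ 0 := by
    by_contra hcon
    push Not at hcon
    exact hf0 (section_eq_zero_of_π V' f hcon)
  have hag : a • ((π (↑U : Scheme.{u}) r i).app V').hom f = 0 := by
    have h1 := Scheme.Modules.Hom.app_smul (π (↑U : Scheme.{u}) r i) a f
    rw [haf] at h1
    exact h1.symm.trans (map_zero _)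
  have hdom : IsDomain Γ((↑U : Scheme.{u}), V') := inferInstance
  have hmul : a * (show Γ((↑U : Scheme.{u}), V') from ((π (↑U : Scheme.{u}) r i).app V').hom f) = 0 :=
    hag
  have ha0 : a = 0 := by
    rcases mul_eq_zero.mp hmul with h | h
    · exact h
    · exact absurd h hi
  have htV : tV = 0 := by
    rw [← ha, ha0]
    exact map_zero _
  have h2 := TopCat.Presheaf.germ_res_apply (Coh.structureModule X).presheaf (homOfLE hle) x hx' t
  rw [← h2]
  change (Coh.structureModule X).presheaf.germ _ x hx' tV = _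
  rw [htV]
  first
    | exact map_zero _
    | exact (map_zero _).trans (map_zero _).symm

end Groth.Agent.Lib.helper20.LFMono
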