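import Mathlib
import Groth.Agent.Lib.Helper20.LFMono
import Groth.Agent.Lib.Helper20.Horrocks
import Groth.Agent.Lib.Helper20.MumfordLemma
import Groth.Agent.Lib.Helper16.FLFTensor
import Groth.Agent.Lib.Lead.ProjIntegralG
import Groth.Agent.Lib.Lead.CurveSec
import Groth.Agent.Lib.Lead.VBCurve6
import Groth.Agent.Lib.Lead.RankAdd

/-!
# Vanishing of `H^0(E(m))`, `m ≪ 0`, for finite locally free `E` on `P^n_k` (helper20)

* `isIntegral_projSpace`: `P^n_k` is integral.
* `finrank_le_of_nontrivial`: if `H^0(E(a)) ≠ 0` then `h^0(O(e)) ≤ h^0(E(a + e))`.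
* `exists_h0_vanish`: `H^0(E(m)) = 0` for `m ≪ 0` (`n ≥ 1`).
* `hyp_of_isFinLocFree`: the hypotheses of Horrocks' criterion for a finite locally free module without intermediate
  cohomology.
-/

set_option autoImplicit false
universe u

open CategoryTheory CategoryTheory.Limits AlgebraicGeometry Opposite TopologicalSpace

namespace Groth.Agent.Lib.helper20.H0Vanish

open Groth.Agent.Lib.Helper18.HH Groth.Agent.Lib.helper20.Horrocks
  Groth.Agent.Lib.Helper20.TwistEquivPn Groth.Agent.Lib.helper20.CMGG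
  Groth.Agent.Lib.Lead.ModTensor Groth.Agent.Lib.Helper20.TensorEquiv
  Groth.Agent.Lib.helper20.MumfordLemma Groth.Agent.Lib.helper28

noncomputable section

variable {k : Type u} [Field k] {n : ℕ}

instance isIntegral_projSpace (n : ℕ) (k : Type u) [Field k] : IsIntegral (CohB1.ProjSpace n k) := by
  unfold CohB1.ProjSpace
  rw [Groth.Agent.Lib.Lead.ProjIntegralG.isIntegral_proj_iff (CohB1.polyGrading n k)
    (fun f _ hf => hf.eq_zero)]
  refine ⟨⟨MvPolynomial.X 0, ?_, MvPolynomial.X_ne_zero _⟩, fun f _ g _ h => mul_eq_zero.mp h⟩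
  exact HomogeneousIdeal.mem_irrelevant_of_mem _ one_pos (MvPolynomial.isHomogeneous_X k 0)

lemma isFinLocFree_O (d : ℤ) : FlatMod.IsFinLocFree (Twist.twistProjSpace n k d) :=
  Groth.Agent.Lib.helper16.FLF.isFinLocFree_of_isInvertible (TwistPn.isInvertible n k d)

lemma isFinLocFree_twist {E : (CohB1.ProjSpace n k).Modules} (hE : FlatMod.IsFinLocFree E) (d : ℤ) :
    FlatMod.IsFinLocFree (tw E d) :=
  Groth.Agent.Lib.helper16.FLFTensor.isFinLocFree_tensor hE (isFinLocFree_O d)

/-- if `H^0(E(a)) ≠ 0` then `h^0(O(e)) ≤ h^0(E(a + e))` -/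
theorem finrank_le_of_nontrivial {E : (CohB1.ProjSpace n k).Modules} (hE : FlatMod.IsFinLocFree E)
    (a e b : ℤ) (hab : a + e = b)
    (hnt : Nontrivial (Coh.HH (CohB1.ProjSpace n k) (tw E a) 0)) :
    Module.finrank k (Coh.HH (CohB1.ProjSpace n k) (Twist.twistProjSpace n k e) 0) ≤
      Module.finrank k (Coh.HH (CohB1.ProjSpace n k) (tw E b) 0) := by
  subst hab
  obtain ⟨s, hs⟩ := Groth.Agent.Lib.Lead.CurveSec.exists_hom_ne_zero_of_nontrivial _ hnt
  have : Mono s := Groth.Agent.Lib.helper20.LFMono.mono_of_ne_zero (isFinLocFree_twist hE a) s hs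
  have : Mono (tensorMap s (𝟙 (Twist.twistProjSpace n k e))) := mono_tensorMap (invIso n k e) s
  let g : Twist.twistProjSpace n k e ⟶ tw E (a + e) :=
    (leftUnitor (Twist.twistProjSpace n k e)).inv ≫ tensorMap s (𝟙 (Twist.twistProjSpace n k e)) ≫
      (twistTwistIso n k E a e).hom
  have : Mono g := mono_comp _ _
  have hinj := Groth.Agent.Lib.Lead.VBCurve.injective_H0_of_mono k g
  have hcoh : Coh.IsCoh (tw E (a + e)) :=
    Groth.Agent.Lib.Lead.RankAdd.isCoh_of_isFinLocFree (isFinLocFree_twist hE (a + e))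
  have : Module.Finite k (Coh.HH (CohB1.ProjSpace n k) (tw E (a + e)) 0) :=
    Groth.Agent.S0038.result n k _ hcoh 0
  exact LinearMap.finrank_le_finrank_of_injective hinj


open MvPolynomial in
lemma finrank_homog_ge (k : Type*) [Field k] (n : ℕ) (hn : 1 ≤ n) (e : ℕ)
    [Module.Finite k ↥(MvPolynomial.homogeneousSubmodule (Fin (n + 1)) k e)] :
    e + 1 ≤ Module.finrank k ↥(MvPolynomial.homogeneousSubmodule (Fin (n + 1)) k e) := by
  let i0 : Fin (n + 1) := 0
  let i1 : Fin (n + 1) := ⟨1, by omega⟩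
  have h01 : i0 ≠ i1 := by
    intro h
    have := congrArg Fin.val h
    simp [i0, i1] at this
  let f : Fin (e + 1) → (Fin (n + 1) →₀ ℕ) := fun i =>
    Finsupp.single i0 i.1 + Finsupp.single i1 (e - i.1)
  have hf : Function.Injective f := by
    intro a b hab
    have := congrArg (fun g => g i0) hab
    simp only [f, Finsupp.add_apply, Finsupp.single_eq_same,
      Finsupp.single_eq_of_ne h01, add_zero] at this
    exact Fin.ext this
  have hdeg : ∀ i : Fin (e + 1), (monomial (f i) (1 : k)) ∈ homogeneousSubmodule (Fin (n + 1)) k e := by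
    intro i
    rw [mem_homogeneousSubmodule]
    apply isHomogeneous_monomial
    simp only [f, _root_.map_add, Finsupp.degree_single]
    have := i.2
    omega
  let v : Fin (e + 1) → ↥(homogeneousSubmodule (Fin (n + 1)) k e) := fun i => ⟨_, hdeg i⟩
  have hli : LinearIndependent k v := by
    apply LinearIndependent.of_comp (homogeneousSubmodule (Fin (n + 1)) k e).subtype
    have := (MvPolynomial.basisMonomials (Fin (n + 1)) k).linearIndependent.comp f hf
    convert this using 1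
    ext i
    simp [v, MvPolynomial.coe_basisMonomials]
  have := hli.fintype_card_le_finrank
  simpa using this

/-- `h^0(O(e)) ≥ e + 1` on `P^n_k`, `n ≥ 1` -/
lemma finrank_H0_O_ge (hn : 1 ≤ n) (e : ℕ) :
    e + 1 ≤ Module.finrank k (Coh.HH (CohB1.ProjSpace n k) (Twist.twistProjSpace n k (e : ℤ)) 0) := by
  obtain ⟨E⟩ := Groth.Agent.S0843.result k n e
  rw [E.finrank_eq]
  have hfin : Module.Finite k ↥(MvPolynomial.homogeneousSubmodule (Fin (n + 1)) k e) := by
    have h1 : Module.Finite k (Coh.HH (CohB1.ProjSpace n k)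
        (Twist.twistProjSpace n k (e : ℤ)) 0) :=
      Groth.Agent.S0038.result n k _ (isCoh_O (e : ℤ)) 0
    exact Module.Finite.equiv E
  exact finrank_homog_ge k n hn e

/-- `H^0(E(m)) = 0` for `m ≪ 0`, for `E` finite locally free on `P^n_k`, `n ≥ 1` -/
theorem exists_h0_vanish (hn : 1 ≤ n) {E : (CohB1.ProjSpace n k).Modules}
    (hE : FlatMod.IsFinLocFree E) :
    ∃ m₀ : ℤ, ∀ m : ℤ, m ≤ m₀ → Subsingleton (Coh.HH (CohB1.ProjSpace n k) (tw E m) 0) := by
  refine ⟨-(Module.finrank k (Coh.HH (CohB1.ProjSpace n k) (tw E 0) 0) : ℤ), fun m hm => ?_⟩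
  by_contra hns
  rw [not_subsingleton_iff_nontrivial] at hns
  obtain ⟨e, he⟩ : ∃ e : ℕ, (e : ℤ) = -m := ⟨(-m).toNat, by omega⟩
  have h1 := finrank_le_of_nontrivial hE m (e : ℤ) 0 (by omega) hns
  have h2 := finrank_H0_O_ge (k := k) hn e
  omega

/-- the hypotheses of Horrocks' criterion -/
theorem hyp_of_isFinLocFree (hn : 1 ≤ n) {E : (CohB1.ProjSpace n k).Modules}
    (hE : FlatMod.IsFinLocFree E)
    (hmid : ∀ (m : ℤ) (i : ℕ), 0 < i → i < n → Subsingleton (Coh.HH (CohB1.ProjSpace n k)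
      (CohB1.tensorMod E (Twist.twistProjSpace n k m)) i)) : Hyp E :=
  ⟨Groth.Agent.Lib.Lead.RankAdd.isCoh_of_isFinLocFree hE, exists_h0_vanish hn hE, hmid⟩

end

end Groth.Agent.Lib.helper20.H0Vanish
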