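import Mathlib
import Groth.Prelude.Def_LefPen
import Groth.Agent.Lib.Helper20.ProjMulHom
import Groth.Agent.Lib.Helper28.TwistZero
import Groth.Agent.Lib.Helper28.TwistFree
import Groth.Agent.Lib.Helper28.ProjPnAbs
import Groth.Agent.Lib.Helper28.TwistPn
import Groth.Agent.Lib.Helper11.IdealOfMono

/-!
# The ideal sheaf of a hypersurface in `P^n_k`, part 1 (helper20)

* `mulG G : O(-d) ⟶ O`: multiplication by the form `G` of degree `d`.
* `mulG_app_val`: pointwise formula.
* `imgIdeal_mulG_chart`: over the chart `D₊(X_i)` the image of `mulG G` is the ideal generated by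
  `LefPen.dehom G i = G / X_i^d`.
-/

set_option autoImplicit false
universe u

open CategoryTheory CategoryTheory.Limits AlgebraicGeometry Opposite TopologicalSpace MvPolynomial

namespace Groth.Agent.Lib.helper20.HypIdeal

open Groth.Agent.Lib.Helper20.ProjMulHom Groth.Agent.Lib.helper28.TwistZero
open Groth.Agent.Lib.helper28.TwistFree Groth.Agent.Lib.helper28
open Groth.Agent.Lib.helper11.IdealOfMono
open Scheme.Modules

variable {n : ℕ} {k : Type u} [Field k]

/-- multiplication by `G : O(-d) ⟶ O` -/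
noncomputable def mulG {d : ℕ} (G : LefPen.Form n k d) :
    Twist.twist (CohB1.polyGrading n k) (-(d : ℤ)) ⟶
      Coh.structureModule (Proj (CohB1.polyGrading n k)) :=
  mulHom (CohB1.polyGrading n k) (neg_add_cancel (d : ℤ)) G ≫
    (twistZeroIso (CohB1.polyGrading n k)).inv

theorem mulG_comp {d : ℕ} (G : LefPen.Form n k d) :
    mulG G ≫ unitToTwistZero (CohB1.polyGrading n k) =
      mulHom (CohB1.polyGrading n k) (neg_add_cancel (d : ℤ)) G := by
  unfold mulG
  rw [Category.assoc]
  have : (twistZeroIso (CohB1.polyGrading n k)).inv ≫ unitToTwistZero (CohB1.polyGrading n k) = 𝟙 _ :=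
    (twistZeroIso (CohB1.polyGrading n k)).inv_hom_id
  rw [this, Category.comp_id]

/-- pointwise formula for `mulG` -/
theorem mulG_app_val {d : ℕ} (G : LefPen.Form n k d)
    (W : (Proj (CohB1.polyGrading n k)).Opens)
    (σ : Γ(Twist.twist (CohB1.polyGrading n k) (-(d : ℤ)), W)) (x : W) :
    ((show Twist.O (𝒜 := CohB1.polyGrading n k) (op W) from ((mulG G).app W).hom σ).1 x).val =
      (((show Twist.sectN (𝒜 := CohB1.polyGrading n k) (-(d : ℤ)) (op W) from σ).1 x :
        Twist.twistAt (CohB1.polyGrading n k) (-(d : ℤ)) x.1) : Twist.Loc (CohB1.polyGrading n k) x.1) *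
        mkOne (CohB1.polyGrading n k) G.1 x.1 := by
  set a : Γ(Proj (CohB1.polyGrading n k), W) := ((mulG G).app W).hom σ with ha
  have h1 : ((unitToTwistZero (CohB1.polyGrading n k)).app W).hom
      (show Γ(Coh.structureModule (Proj (CohB1.polyGrading n k)), W) from a) =
      ((mulHom (CohB1.polyGrading n k) (neg_add_cancel (d : ℤ)) G).app W).hom σ := by
    have := congrArg (fun φ => (Scheme.Modules.Hom.app φ W).hom σ) (mulG_comp G)
    exact this
  rw [unitToTwistZero_app] at h1
  have h2 := congrArg (fun s : Twist.sectN (𝒜 := CohB1.polyGrading n k) 0 (op W) =>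
    ((s.1 x : Twist.twistAt (CohB1.polyGrading n k) 0 x.1) : Twist.Loc (CohB1.polyGrading n k) x.1)) h1
  simp only at h2
  have h3 : ((((show Twist.O (𝒜 := CohB1.polyGrading n k) (op W) from a) •
      (oneSect (CohB1.polyGrading n k) W) : Twist.sectN (𝒜 := CohB1.polyGrading n k) 0 (op W)).1 x :
      Twist.twistAt (CohB1.polyGrading n k) 0 x.1) : Twist.Loc (CohB1.polyGrading n k) x.1) =
      ((show Twist.O (𝒜 := CohB1.polyGrading n k) (op W) from a).1 x).val := by
    rw [smul_val]
    unfold oneSect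
    rw [fracSectN_val]
    have : (Localization.mk (1 : MvPolynomial (Fin (n + 1)) k)
        ⟨1, one_notMem (CohB1.polyGrading n k) x.1⟩ : Twist.Loc (CohB1.polyGrading n k) x.1) = 1 :=
      Localization.mk_self (⟨1, one_notMem (CohB1.polyGrading n k) x.1⟩ :
        x.1.asHomogeneousIdeal.toIdeal.primeCompl)
    rw [this, mul_one]
  rw [← h3]
  refine h2.trans ?_
  exact mulSec_val (CohB1.polyGrading n k) (neg_add_cancel (d : ℤ)) G W _ x

/-- the chart `D₊(X_i)`, as an open of `Proj` -/
noncomputable abbrev ch (n : ℕ) (k : Type u) [Field k] (i : Fin (n + 1)) :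
    (Proj (CohB1.polyGrading n k)).Opens :=
  Proj.basicOpen (CohB1.polyGrading n k) (X i : MvPolynomial (Fin (n + 1)) k)

/-- `G / X_i^d` as a section over the chart -/
noncomputable def dh {d : ℕ} (G : LefPen.Form n k d) (i : Fin (n + 1)) :
    Γ(Proj (CohB1.polyGrading n k), ch n k i) := LefPen.dehom G i

theorem X_pow_mem (i : Fin (n + 1)) (d : ℕ) :
    (X i : MvPolynomial (Fin (n + 1)) k) ^ d ∈ CohB1.polyGrading n k d := by
  have := (MvPolynomial.isHomogeneous_X k i).pow d
  rw [one_mul] at this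
  exact this

theorem X_pow_notMem (i : Fin (n + 1)) (d : ℕ) (x : ch n k i) :
    (X i : MvPolynomial (Fin (n + 1)) k) ^ d ∉ x.1.asHomogeneousIdeal := fun h =>
  (ProjectiveSpectrum.mem_basicOpen (CohB1.polyGrading n k) _ x.1).mp x.2
    (x.1.isPrime.mem_of_pow_mem d h)

/-- the generator `1 / X_i^d` of `O(-d)` over the chart `D₊(X_i)` -/
noncomputable def nuSec (d : ℕ) (i : Fin (n + 1)) :
    Twist.sectN (𝒜 := CohB1.polyGrading n k) (-(d : ℤ)) (op (ch n k i)) :=
  fracSectN (CohB1.polyGrading n k) (-(d : ℤ)) (ch n k i)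
    (⟨1, SetLike.GradedOne.one_mem⟩ : CohB1.polyGrading n k 0)
    (⟨(X i : MvPolynomial (Fin (n + 1)) k) ^ d, X_pow_mem i d⟩ : CohB1.polyGrading n k d)
    (X_pow_notMem i d) (by simp)

theorem bijective_smul_nuSec (d : ℕ) (i : Fin (n + 1)) :
    Function.Bijective (fun c : Twist.O (𝒜 := CohB1.polyGrading n k) (op (ch n k i)) =>
      (c • nuSec d i : Twist.sectN (𝒜 := CohB1.polyGrading n k) (-(d : ℤ))
        (op (ch n k i)))) :=
  bijective_smul_fracSectN (CohB1.polyGrading n k) (-(d : ℤ)) one_pos (LefPen.X_mem n k i)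
    (ch n k i) rfl
    (⟨1, SetLike.GradedOne.one_mem⟩ : CohB1.polyGrading n k 0)
    (⟨(X i : MvPolynomial (Fin (n + 1)) k) ^ d, X_pow_mem i d⟩ : CohB1.polyGrading n k d)
    (fun x => TwistZero.one_notMem (CohB1.polyGrading n k) x.1)
    (X_pow_notMem i d) (by simp)

theorem dh_val {d : ℕ} (G : LefPen.Form n k d) (i : Fin (n + 1)) (x : ch n k i) :
    ((show Twist.O (𝒜 := CohB1.polyGrading n k) (op (ch n k i)) from dh G i).1 x).val =
      Localization.mk G.1 ⟨(X i : MvPolynomial (Fin (n + 1)) k) ^ d, X_pow_notMem i d x⟩ := rfl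

theorem mulG_smul_nuSec {d : ℕ} (G : LefPen.Form n k d) (i : Fin (n + 1))
    (c : Γ(Proj (CohB1.polyGrading n k), ch n k i)) :
    ((mulG G).app (ch n k i)).hom
      (show Γ(Twist.twist (CohB1.polyGrading n k) (-(d : ℤ)), ch n k i) from
        ((show Twist.O (𝒜 := CohB1.polyGrading n k) (op (ch n k i)) from c) • nuSec d i :
          Twist.sectN (𝒜 := CohB1.polyGrading n k) (-(d : ℤ)) (op (ch n k i)))) =
      c * dh G i := by
  refine O_ext' (CohB1.polyGrading n k) _ _ fun x => ?_
  have hL := mulG_app_val G (ch n k i)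
    (show Γ(Twist.twist (CohB1.polyGrading n k) (-(d : ℤ)), ch n k i) from
        ((show Twist.O (𝒜 := CohB1.polyGrading n k) (op (ch n k i)) from c) • nuSec d i :
          Twist.sectN (𝒜 := CohB1.polyGrading n k) (-(d : ℤ)) (op (ch n k i)))) x
  have h1 : ((show Twist.O (𝒜 := CohB1.polyGrading n k) (op (ch n k i)) from
      c * dh G i).1 x).val =
      ((show Twist.O (𝒜 := CohB1.polyGrading n k) (op (ch n k i)) from c).1 x).val *
      ((show Twist.O (𝒜 := CohB1.polyGrading n k) (op (ch n k i)) from dh G i).1 x).val :=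
    HomogeneousLocalization.val_mul _ _
  have h3 := dh_val G i x
  have h2 := smul_val (CohB1.polyGrading n k)
    (show Twist.O (𝒜 := CohB1.polyGrading n k) (op (ch n k i)) from c) (nuSec d i) x
  have h4 : (((nuSec (k := k) d i).1 x : Twist.twistAt (CohB1.polyGrading n k) (-(d : ℤ)) x.1) :
      Twist.Loc (CohB1.polyGrading n k) x.1) =
      Localization.mk 1 ⟨(X i : MvPolynomial (Fin (n + 1)) k) ^ d, X_pow_notMem i d x⟩ := rfl
  have h5 : (Localization.mk 1 ⟨(X i : MvPolynomial (Fin (n + 1)) k) ^ d, X_pow_notMem i d x⟩ :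
      Twist.Loc (CohB1.polyGrading n k) x.1) * mkOne (CohB1.polyGrading n k) G.1 x.1 =
      Localization.mk G.1 ⟨(X i : MvPolynomial (Fin (n + 1)) k) ^ d, X_pow_notMem i d x⟩ := by
    unfold mkOne
    rw [Localization.mk_mul]
    congr 1
    · exact one_mul _
    · exact Subtype.ext (mul_one _)
  have key : ∀ (s a b m g dv : Twist.Loc (CohB1.polyGrading n k) x.1),
      s = a * b → b * m = g → dv = g → s * m = a * dv := by
    intro s a b m g dv e2 e5 e3
    rw [e2, e3, ← e5, mul_assoc]
  refine hL.trans ?_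
  refine Eq.trans ?_ h1.symm
  exact key _ _ _ _ _ _ h2 (h4 ▸ h5) h3

/-- over the chart `D₊(X_i)` the image of `mulG G` is generated by `G / X_i^d` -/
theorem imgIdeal_mulG_chart {d : ℕ} (G : LefPen.Form n k d) (i : Fin (n + 1)) :
    imgIdeal (Twist.twist (CohB1.polyGrading n k) (-(d : ℤ))) (mulG G) (ch n k i) =
      Ideal.span {dh G i} := by
  ext s
  rw [mem_imgIdeal_iff, Ideal.mem_span_singleton']
  constructor
  · rintro ⟨σ, rfl⟩
    obtain ⟨c, hc⟩ := (bijective_smul_nuSec d i).2
      (show Twist.sectN (𝒜 := CohB1.polyGrading n k) (-(d : ℤ)) (op (ch n k i)) from σ)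
    refine ⟨c, ?_⟩
    rw [← mulG_smul_nuSec G i c]
    exact congrArg ((mulG G).app (ch n k i)).hom hc
  · rintro ⟨c, rfl⟩
    exact ⟨_, mulG_smul_nuSec G i c⟩

end Groth.Agent.Lib.helper20.HypIdeal
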