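import Mathlib
import Groth.Prelude.Def_LefPen
import Groth.Agent.Lib.Helper20.HypIdeal1
import Groth.Agent.Lib.Helper12.Hyperplane3

/-!
# The ideal sheaf of a hypersurface in `P^n_k`, part 2 (helper20)

* `hypJ G := idealOfHom (O(-d)) (mulG G)`: the image ideal sheaf of multiplication by `G`.
* `hypIdeal_eq : LefPen.hypIdeal G = hypJ G`.
* `hypIdeal_ideal_chart`: on the chart `D₊(X_i)` the ideal is generated by `G / X_i^d`.
-/

set_option autoImplicit false
universe u

open CategoryTheory CategoryTheory.Limits AlgebraicGeometry Opposite TopologicalSpace MvPolynomial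

namespace Groth.Agent.Lib.helper20.HypIdeal

open Groth.Agent.Lib.helper11.IdealOfMono
open Scheme.Modules

variable {n : ℕ} {k : Type u} [Field k]

theorem isAffineOpen_ch (i : Fin (n + 1)) : IsAffineOpen (ch n k i) :=
  Proj.isAffineOpen_basicOpen (CohB1.polyGrading n k) _ (LefPen.X_mem n k i) one_pos

/-- the chart as an affine open -/
noncomputable def chA (n : ℕ) (k : Type u) [Field k] (i : Fin (n + 1)) :
    (Proj (CohB1.polyGrading n k)).affineOpens := ⟨ch n k i, isAffineOpen_ch i⟩

theorem iSup_ch : ⨆ i : Fin (n + 1), (chA n k i).1 = ⊤ :=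
  Groth.Agent.Lib.Helper12.Hyperplane.iSup_basicOpen_X n k

/-- the image ideal sheaf of multiplication by `G` -/
noncomputable def hypJ {d : ℕ} (G : LefPen.Form n k d) :
    (Proj (CohB1.polyGrading n k)).IdealSheafData :=
  idealOfHom (Twist.twist (CohB1.polyGrading n k) (-(d : ℤ))) (mulG G)

theorem hypJ_ideal_chart {d : ℕ} (G : LefPen.Form n k d) (i : Fin (n + 1)) :
    (hypJ G).ideal (chA n k i) = Ideal.span {dh G i} :=
  imgIdeal_mulG_chart G i

/-- the family of ideals defining `LefPen.hypIdeal` -/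
theorem hypJ_le_hypFamily {d : ℕ} (G : LefPen.Form n k d)
    (U : (Proj (CohB1.polyGrading n k)).affineOpens) :
    (hypJ G).ideal U ≤ LefPen.hypFamily G U := by
  unfold LefPen.hypFamily
  refine le_iInf fun i => ?_
  have hV : IsAffineOpen (U.1 ⊓ ch n k i) := U.2.inf (isAffineOpen_ch i)
  let V : (Proj (CohB1.polyGrading n k)).affineOpens := ⟨U.1 ⊓ ch n k i, hV⟩
  have hVU : V ≤ U := (inf_le_left : U.1 ⊓ ch n k i ≤ U.1)
  have hVc : V ≤ chA n k i := (inf_le_right : U.1 ⊓ ch n k i ≤ ch n k i)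
  have h1 := (hypJ G).ideal_le_comap_ideal (U := V) (V := U) hVU
  refine h1.trans (Ideal.comap_mono ?_)
  have h2 := (hypJ G).map_ideal (U := V) (V := chA n k i) hVc
  rw [← h2, hypJ_ideal_chart]
  refine (Ideal.map_span _ _).le.trans (Ideal.span_mono ?_)
  rintro _ ⟨y, hy, rfl⟩
  have hy' : y = dh G i := hy
  subst hy'
  exact rfl

theorem hypJ_le {d : ℕ} (G : LefPen.Form n k d) :
    hypJ G ≤ (LefPen.hypIdeal G : (Proj (CohB1.polyGrading n k)).IdealSheafData) := by
  exact Scheme.IdealSheafData.le_ofIdeals_iff.mpr (fun U => hypJ_le_hypFamily G U)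

theorem hypIdeal_ideal_chart_le {d : ℕ} (G : LefPen.Form n k d) (i : Fin (n + 1)) :
    (LefPen.hypIdeal G : (Proj (CohB1.polyGrading n k)).IdealSheafData).ideal (chA n k i) ≤
      Ideal.span {dh G i} := by
  have h1 : (LefPen.hypIdeal G : (Proj (CohB1.polyGrading n k)).IdealSheafData).ideal (chA n k i) ≤
      LefPen.hypFamily G (chA n k i) :=
    Scheme.IdealSheafData.ideal_ofIdeals_le (LefPen.hypFamily G) (chA n k i)
  refine h1.trans ?_
  unfold LefPen.hypFamily
  refine (iInf_le _ i).trans ?_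
  -- the restriction `Γ(ch i) → Γ(ch i ⊓ ch i)` is bijective
  set f := ((Proj (CohB1.polyGrading n k)).presheaf.map
    (homOfLE (inf_le_left : ch n k i ⊓ ch n k i ≤ ch n k i)).op).hom with hf
  have hiso : IsIso (homOfLE (inf_le_left : ch n k i ⊓ ch n k i ≤ ch n k i)) :=
    ⟨⟨homOfLE (le_inf le_rfl le_rfl), Subsingleton.elim _ _, Subsingleton.elim _ _⟩⟩
  have hbij : Function.Bijective f :=
    ConcreteCategory.bijective_of_isIso ((Proj (CohB1.polyGrading n k)).presheaf.map
      (homOfLE (inf_le_left : ch n k i ⊓ ch n k i ≤ ch n k i)).op)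
  have hspan : Ideal.span {((Proj (CohB1.polyGrading n k)).presheaf.map
      (homOfLE (inf_le_right : ch n k i ⊓ ch n k i ≤ ch n k i)).op).hom (dh G i)} =
      (Ideal.span {dh G i}).map f := by
    refine Eq.trans ?_ (Ideal.map_span _ _).symm
    rw [Set.image_singleton]
  intro a ha
  have ha' : a ∈ Ideal.comap f ((Ideal.span {dh G i}).map f) := by
    rw [← hspan]
    exact ha
  rwa [Ideal.comap_map_of_bijective f hbij] at ha'

theorem hypIdeal_eq {d : ℕ} (G : LefPen.Form n k d) :
    (LefPen.hypIdeal G : (Proj (CohB1.polyGrading n k)).IdealSheafData) = hypJ G := by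
  refine Scheme.IdealSheafData.ext_of_iSup_eq_top (chA n k) iSup_ch (fun i => ?_)
  refine le_antisymm ?_ ?_
  · rw [hypJ_ideal_chart]
    exact hypIdeal_ideal_chart_le G i
  · exact hypJ_le G (chA n k i)

theorem hypIdeal_ideal_chart {d : ℕ} (G : LefPen.Form n k d) (i : Fin (n + 1)) :
    (LefPen.hypIdeal G : (Proj (CohB1.polyGrading n k)).IdealSheafData).ideal (chA n k i) =
      Ideal.span {dh G i} := by
  rw [hypIdeal_eq, hypJ_ideal_chart]

end Groth.Agent.Lib.helper20.HypIdeal
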