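import Mathlib
import Groth.Prelude.Def_LefPen
import Groth.Agent.Lib.Helper20.HypIdeal2
import Groth.Agent.Lib.Helper20.H0Vanish
import Groth.Agent.Lib.Lead.CurveInv
import Groth.Agent.Lib.Helper7.IdealMod

/-!
# The ideal sheaf of a hypersurface in `P^n_k`, part 3 (helper20)

For `G ≠ 0` of degree `d`:
* `mulG_ne_zero`, `mono_mulG`;
* `idealModIso G hG : O(-d) ≅ ClSub.idealMod (LefPen.hypIdeal G)`, compatible with the inclusions;
* `hypSeq G : 0 → O(-d) → O → ι_* O_{V(G)} → 0`, `hypSeq_shortExact`.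
-/

set_option autoImplicit false
universe u

open CategoryTheory CategoryTheory.Limits AlgebraicGeometry Opposite TopologicalSpace MvPolynomial

namespace Groth.Agent.Lib.helper20.HypIdeal

open Groth.Agent.Lib.helper11.IdealOfMono Groth.Agent.Lib.helper28.TwistFree
open Scheme.Modules

variable {n : ℕ} {k : Type u} [Field k]

theorem dh_ne_zero {d : ℕ} (G : LefPen.Form n k d) (hG : G ≠ 0) (i : Fin (n + 1))
    (x : ch n k i) : dh G i ≠ 0 := by
  intro h0
  have h1 := dh_val G i x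
  rw [h0] at h1
  have h2 : ((show Twist.O (𝒜 := CohB1.polyGrading n k) (op (ch n k i)) from
      (0 : Γ(Proj (CohB1.polyGrading n k), ch n k i))).1 x).val = 0 :=
    HomogeneousLocalization.val_zero
  rw [h2] at h1
  have h3 : (Localization.mk G.1 ⟨(X i : MvPolynomial (Fin (n + 1)) k) ^ d, X_pow_notMem i d x⟩ :
      Localization.AtPrime x.1.asHomogeneousIdeal.toIdeal) = 0 := h1.symm
  rw [Localization.mk_eq_mk', IsLocalization.mk'_eq_zero_iff] at h3
  obtain ⟨c, hc⟩ := h3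
  have hc0 : (c : MvPolynomial (Fin (n + 1)) k) ≠ 0 := fun h => c.2 (h ▸ Ideal.zero_mem _)
  rcases mul_eq_zero.mp hc with h | h
  · exact hc0 h
  · exact hG (Subtype.ext h)

theorem mulG_ne_zero {d : ℕ} (G : LefPen.Form n k d) (hG : G ≠ 0) : mulG G ≠ 0 := by
  intro h0
  haveI : IsIntegral (Proj (CohB1.polyGrading n k)) :=
    Groth.Agent.Lib.helper20.H0Vanish.isIntegral_projSpace n k
  obtain ⟨x⟩ : Nonempty (Proj (CohB1.polyGrading n k)) := inferInstance
  obtain ⟨i, hi⟩ := Groth.Agent.Lib.helper28.TwistPn.exists_X_notMem n k x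
  have hx : x ∈ ch n k i := (ProjectiveSpectrum.mem_basicOpen (CohB1.polyGrading n k) _ x).mpr hi
  have h1 : dh G i ∈ imgIdeal (Twist.twist (CohB1.polyGrading n k) (-(d : ℤ))) (mulG G) (ch n k i) := by
    rw [imgIdeal_mulG_chart]
    exact Ideal.subset_span rfl
  obtain ⟨a, ha⟩ := (mem_imgIdeal_iff _ _ _ _).mp h1
  rw [h0] at ha
  exact dh_ne_zero G hG i ⟨x, hx⟩ ha.symm

theorem mono_mulG {d : ℕ} (G : LefPen.Form n k d) (hG : G ≠ 0) : Mono (mulG G) := by
  haveI : IsIntegral (Proj (CohB1.polyGrading n k)) :=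
    Groth.Agent.Lib.helper20.H0Vanish.isIntegral_projSpace n k
  exact Groth.Agent.Lib.Lead.CurveInv.mono_of_ne_zero
    (Groth.Agent.Lib.helper28.TwistPn.isInvertible n k (-(d : ℤ)))
    (Groth.Agent.Lib.helper11.InvMod.isInvertible_structureModule _) (mulG G) (mulG_ne_zero G hG)

/-- `O(-d) ≅ I_{V(G)}` -/
noncomputable def hypJIso {d : ℕ} (G : LefPen.Form n k d) (hG : G ≠ 0) :
    Twist.twist (CohB1.polyGrading n k) (-(d : ℤ)) ≅ ClSub.idealMod (hypJ G) :=
  haveI := mono_mulG G hG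
  idealModIso (Twist.twist (CohB1.polyGrading n k) (-(d : ℤ))) (mulG G)

theorem hypJIso_hom_ι {d : ℕ} (G : LefPen.Form n k d) (hG : G ≠ 0) :
    (hypJIso G hG).hom ≫ ClSub.idealModι (hypJ G) = mulG G :=
  haveI := mono_mulG G hG
  idealModIso_hom_ι _ _

/-- the sequence `0 → O(-d) → O → ι_* O_{V(G)} → 0` (for the ideal sheaf `hypJ G = hypIdeal G`) -/
noncomputable def hypSeq {d : ℕ} (G : LefPen.Form n k d) :
    ShortComplex (Proj (CohB1.polyGrading n k)).Modules :=
  ShortComplex.mk (mulG G) (ClSub.toSubscheme (hypJ G)) (comp_toSubscheme_eq_zero _ _)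

theorem hypSeq_shortExact {d : ℕ} (G : LefPen.Form n k d) (hG : G ≠ 0) :
    (hypSeq G).ShortExact := by
  have h := Groth.Agent.Lib.helper7.IdealMod.idealSeq_shortExact (hypJ G)
  let e : hypSeq G ≅ Groth.Agent.Lib.helper7.IdealMod.idealSeq (hypJ G) :=
    ShortComplex.isoMk (hypJIso G hG) (Iso.refl _) (Iso.refl _)
      (by
        show (hypJIso G hG).hom ≫ ClSub.idealModι (hypJ G) = mulG G ≫ 𝟙 _
        rw [hypJIso_hom_ι, Category.comp_id])
      (by
        show 𝟙 _ ≫ ClSub.toSubscheme (hypJ G) = ClSub.toSubscheme (hypJ G) ≫ 𝟙 _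
        rw [Category.id_comp, Category.comp_id])
  exact ShortComplex.shortExact_of_iso e.symm h

end Groth.Agent.Lib.helper20.HypIdeal
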