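import Mathlib
import Groth.Agent.Lib.Helper7.IdealComap
import Groth.Agent.Lib.Helper7.KerSections
import Groth.Agent.Lib.Helper8.DevCore
import Groth.Agent.Lib.Helper28.HomOfAffine

/-!
# Closed subschemes: successive closed immersions and units (helper20)

* `map_comap_subschemeι`: `(K.comap ι_I).map ι_I = K ⊔ I`.
* `ker_comp_subschemeι`: the closed subscheme of `I.subscheme` cut out by the inverse image of `K` is, in
  the ambient scheme, cut out by `K ⊔ I`.
* `exists_unitIso`: two closed immersions with the same ideal have the same `M ⟶ i_* i^* M`.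
* `isIso_unitOf_of_ker_eq_bot`.
-/

set_option autoImplicit false
universe u

open CategoryTheory CategoryTheory.Limits AlgebraicGeometry Opposite TopologicalSpace

namespace Groth.Agent.Lib.helper20.CIdeal

open Scheme.IdealSheafData Scheme.Modules Groth.Agent.Lib.helper8.Dev

theorem map_comap_subschemeι {X : Scheme.{u}} (I K : X.IdealSheafData) :
    (K.comap I.subschemeι).map I.subschemeι = K ⊔ I := by
  refine Scheme.IdealSheafData.ext (funext fun U => ?_)
  rw [ideal_map_of_isAffineHom, ideal_sup, Pi.sup_apply,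
    Groth.Agent.Lib.helper7.IdealComap.ideal_comap I.subschemeι K U.2 (U.2.preimage _) le_rfl,
    ← Scheme.Hom.app_eq_appLE,
    Ideal.comap_map_of_surjective _ (I.subschemeι_app_surjective U), ← RingHom.ker_eq_comap_bot,
    I.ker_subschemeι_app U]

theorem ker_comp_subschemeι {X : Scheme.{u}} (I K : X.IdealSheafData) :
    ((K.comap I.subschemeι).subschemeι ≫ I.subschemeι).ker = K ⊔ I := by
  rw [Scheme.Hom.ker_comp, ker_subschemeι, map_comap_subschemeι]

section Unit

variable {P Z Z' : Scheme.{u}} (f : Z ⟶ P) (g : Z' ⟶ P) [IsClosedImmersion f] [IsClosedImmersion g]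
  (M : P.Modules) [M.IsQuasicoherent]

theorem kernel_unitOf_comp (h : f.ker = g.ker) : kernel.ι (unitOf f M) ≫ unitOf g M = 0 := by
  refine Groth.Agent.Lib.helper28.HomOfAffine.hom_ext_of_affine _ _ (fun U s => ?_)
  have h1 : ((unitOf f M).app U.1).hom (((kernel.ι (unitOf f M)).app U.1).hom s) = 0 := by
    have := congrArg (fun ψ => (Scheme.Modules.Hom.app ψ U.1).hom s) (kernel.condition (unitOf f M))
    exact this
  rw [unitOf_app_eq_zero_iff f M U.2, h, ← unitOf_app_eq_zero_iff g M U.2] at h1
  exact h1

theorem exists_unitIso (h : f.ker = g.ker) :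
    ∃ φ : (pushforward f).obj ((Scheme.Modules.pullback f).obj M) ≅
        (pushforward g).obj ((Scheme.Modules.pullback g).obj M),
      unitOf f M ≫ φ.hom = unitOf g M := by
  have hc1 := Abelian.epiIsCokernelOfKernel _ (kernelIsKernel (unitOf f M))
  have hc2 := Abelian.epiIsCokernelOfKernel _ (kernelIsKernel (unitOf g M))
  let a := hc1.desc (CokernelCofork.ofπ (unitOf g M) (kernel_unitOf_comp f g M h))
  let b := hc2.desc (CokernelCofork.ofπ (unitOf f M) (kernel_unitOf_comp g f M h.symm))
  have ha : unitOf f M ≫ a = unitOf g M :=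
    hc1.fac (CokernelCofork.ofπ (unitOf g M) (kernel_unitOf_comp f g M h)) WalkingParallelPair.one
  have hb : unitOf g M ≫ b = unitOf f M :=
    hc2.fac (CokernelCofork.ofπ (unitOf f M) (kernel_unitOf_comp g f M h.symm))
      WalkingParallelPair.one
  refine ⟨⟨a, b, ?_, ?_⟩, ha⟩
  · rw [← cancel_epi (unitOf f M), ← Category.assoc, ha, hb, Category.comp_id]
  · rw [← cancel_epi (unitOf g M), ← Category.assoc, hb, ha, Category.comp_id]

theorem isIso_unitOf_of_ker_eq_bot (h : f.ker = ⊥) : IsIso (unitOf f M) := by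
  haveI : ((Scheme.Modules.pullback f).obj M).IsQuasicoherent :=
    Groth.Agent.Lib.helper16.QCohPullback.isQuasicoherent_pullback f M
  haveI : ((pushforward f).obj ((Scheme.Modules.pullback f).obj M)).IsQuasicoherent :=
    Groth.Agent.Lib.helper16.QCohAffinePush.isQuasicoherent_push f _
  apply Groth.Agent.Lib.helper7.KerSections.isIso_of_bijective_affine
  intro U hU
  refine ⟨?_, unitOf_app_surjective f M hU⟩
  rw [injective_iff_map_eq_zero]
  intro t ht
  have := (unitOf_app_eq_zero_iff f M hU t).mp ht
  rw [h] at this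
  change t ∈ (⊥ : Ideal Γ(P, U)) • (⊤ : Submodule Γ(P, U) Γ(M, U)) at this
  rw [Submodule.bot_smul] at this
  exact this

end Unit

end Groth.Agent.Lib.helper20.CIdeal
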