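import Mathlib
import Groth.Agent.Lib.Helper11.SqZero2
import Groth.Agent.Lib.Helper11.Thick4
import Groth.Agent.Lib.Helper18.HHConseq
import Groth.Agent.Lib.Helper20.ClosedImmHH

/-!
# Cohomology of an effective Cartier divisor-type closed subscheme (helper20)

For `J : Y.IdealSheafData`, `j = J.subschemeι` and `F` finite locally free on `Y`, the sequence
`0 → F ⊗ J → F → j_* j^* F → 0` gives
* `subsingleton_HH_pull_of`: `H^p(Y, F) = 0` and `H^{p+1}(Y, F ⊗ J) = 0` imply `H^p(V(J), j^* F) = 0`;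
* `surjective_unit_top_of`: `H^1(Y, F ⊗ J) = 0` implies `Γ(Y, F) → Γ(V(J), j^* F)` surjective.
Also a small calculus of morphisms surjective on global sections (`SurjTop`).
-/

set_option autoImplicit false
set_option linter.unusedSectionVars false
universe u

open CategoryTheory CategoryTheory.Limits AlgebraicGeometry Opposite TopologicalSpace

namespace Groth.Agent.Lib.helper20.CIdeal

open Scheme.Modules Groth.Agent.Lib.helper8.Dev Groth.Agent.Lib.helper11.SqZero

section Step

variable {Y : Scheme.{u}} (J : Y.IdealSheafData) (F : Y.Modules) [F.IsQuasicoherent]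

theorem subsingleton_HH_pull_of (hF : FlatMod.IsFinLocFree F) (p : ℕ)
    (h2 : Subsingleton (Coh.HH Y F p))
    (h1 : Subsingleton (Coh.HH Y (CohB1.tensorMod F (ClSub.idealMod J)) (p + 1))) :
    Subsingleton (Coh.HH J.subscheme ((Scheme.Modules.pullback J.subschemeι).obj F) p) := by
  have hS := sesF_shortExact J F hF
  have h3 : Subsingleton (Coh.HH Y (sesF J F).X₃ p) :=
    Groth.Agent.Lib.Helper18.HH.subsingleton_X₃ hS p h2 h1
  exact (Groth.Agent.Lib.Helper20.ClosedImmHH.subsingleton_iff_push_closed J.subschemeι _ p).mpr h3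

theorem surjective_unit_top_of (hF : FlatMod.IsFinLocFree F)
    (h1 : Subsingleton (Coh.HH Y (CohB1.tensorMod F (ClSub.idealMod J)) 1)) :
    Function.Surjective ((unitOf J.subschemeι F).val.app (op ⊤)).hom :=
  Groth.Agent.Lib.helper11.Thick.sections_surjective_of_subsingleton_HH (sesF J F)
    (sesF_shortExact J F hF) h1

end Step

section SurjTop

variable {X : Scheme.{u}}

/-- a morphism of modules which is surjective on global sections -/
def SurjTop {M N : X.Modules} (ψ : M ⟶ N) : Prop :=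
  Function.Surjective (ψ.val.app (op ⊤)).hom

theorem SurjTop.comp {M N L : X.Modules} {ψ : M ⟶ N} {χ : N ⟶ L} (h1 : SurjTop ψ)
    (h2 : SurjTop χ) : SurjTop (ψ ≫ χ) := by
  intro x
  obtain ⟨y, rfl⟩ := h2 x
  obtain ⟨z, rfl⟩ := h1 y
  exact ⟨z, rfl⟩

theorem SurjTop.of_isIso {M N : X.Modules} (ψ : M ⟶ N) [IsIso ψ] : SurjTop ψ := by
  intro x
  refine ⟨((inv ψ).val.app (op ⊤)).hom x, ?_⟩
  have := congrArg (fun φ : N ⟶ N => (φ.val.app (op ⊤)).hom x) (IsIso.inv_hom_id ψ)
  exact this

theorem SurjTop.of_comp_isIso {M N L : X.Modules} {ψ : M ⟶ N} (χ : N ⟶ L) [IsIso χ]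
    (h : SurjTop (ψ ≫ χ)) : SurjTop ψ := by
  have h2 : ψ = (ψ ≫ χ) ≫ inv χ := by simp
  rw [h2]
  exact h.comp (SurjTop.of_isIso _)

theorem SurjTop.pushforward {Z : Scheme.{u}} (f : Z ⟶ X) {M N : Z.Modules} {ψ : M ⟶ N}
    (h : SurjTop ψ) : SurjTop ((Scheme.Modules.pushforward f).map ψ) := h

end SurjTop

end Groth.Agent.Lib.helper20.CIdeal
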