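import Mathlib
import Groth.Prelude.Def_LefPen
import Groth.Agent.Lib.Helper20.CIdeal7
import Groth.Agent.Lib.Helper20.CIdeal8
import Groth.Agent.Lib.Helper20.CIdeal9
import Groth.Agent.Lib.Helper7.TwistNum
import Groth.Agent.Lib.Helper12.PullTensor
import Groth.Agent.Lib.Helper11.FormalSpf1
import Groth.Agent.Lib.Helper16.FLF5
import Groth.Agent.Lib.Helper18.HHSum0
import Groth.Agent.Lib.Lead.ModTensor
import Groth.Agent.Lib.Lead.CurveInv

/-!
# Cohomology of complete intersections in `P^n_k` (helper20)

* `subsingleton_HH_congr_of_ker_eq`, `surjTop_unit_of_ker_eq`: cohomology of `f^* M` and surjectivity of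
  the restriction of sections only depend on the ideal of the closed immersion `f`.
* `good`: for a complete intersection `X = V(G_1, …, G_r)` in `P^n_k` (all of whose points have height
  `≥ r`): `H^p(X, O_X(i)) = 0` for `0 < p < n - r` and `H^0(P, O(i)) → H^0(X, O_X(i))` is surjective when
  `n - r ≥ 1`.
-/

set_option autoImplicit false
set_option linter.unusedSectionVars false
universe u

open CategoryTheory CategoryTheory.Limits AlgebraicGeometry Opposite TopologicalSpace MvPolynomial

namespace Groth.Agent.Lib.helper20.CIdeal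

open Scheme.Modules Groth.Agent.Lib.helper8.Dev Groth.Agent.Lib.helper20.HypIdeal
  Groth.Agent.Lib.helper26.ProjDim

section Transfer

variable {P Z Z' : Scheme.{u}} (f : Z ⟶ P) (g : Z' ⟶ P) [IsClosedImmersion f] [IsClosedImmersion g]
  (M : P.Modules) [M.IsQuasicoherent]

theorem subsingleton_HH_congr_of_ker_eq (h : f.ker = g.ker) (p : ℕ) :
    Subsingleton (Coh.HH Z ((Scheme.Modules.pullback f).obj M) p) ↔
      Subsingleton (Coh.HH Z' ((Scheme.Modules.pullback g).obj M) p) := by
  obtain ⟨φ, -⟩ := exists_unitIso f g M h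
  rw [Groth.Agent.Lib.Helper20.ClosedImmHH.subsingleton_iff_push_closed f _ p,
    Groth.Agent.Lib.Helper20.ClosedImmHH.subsingleton_iff_push_closed g _ p]
  exact (Groth.Agent.Lib.Helper18.HH.isoEquiv φ p).toEquiv.subsingleton_congr

theorem surjTop_unit_of_ker_eq (h : f.ker = g.ker)
    (hf : SurjTop ((pullbackPushforwardAdjunction f).unit.app M)) :
    SurjTop ((pullbackPushforwardAdjunction g).unit.app M) := by
  obtain ⟨φ, hφ⟩ := exists_unitIso f g M h
  have h2 : (pullbackPushforwardAdjunction g).unit.app M =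
      (pullbackPushforwardAdjunction f).unit.app M ≫ φ.hom := hφ.symm
  rw [h2]
  exact hf.comp (SurjTop.of_isIso φ.hom)

end Transfer

section Comp

variable {P Y X' : Scheme.{u}} (j : X' ⟶ Y) (ι : Y ⟶ P) (M : P.Modules)

theorem surjTop_unit_comp (h1 : SurjTop ((pullbackPushforwardAdjunction ι).unit.app M))
    (h2 : SurjTop ((pullbackPushforwardAdjunction j).unit.app ((Scheme.Modules.pullback ι).obj M))) :
    SurjTop ((pullbackPushforwardAdjunction (j ≫ ι)).unit.app M) := by
  have h := Groth.Agent.Lib.helper11.FormalSpf.unit_pullbackComp j ι M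
  have h3 : SurjTop ((pullbackPushforwardAdjunction (j ≫ ι)).unit.app M ≫
      (pushforward (j ≫ ι)).map ((pullbackComp j ι).inv.app M)) := by
    rw [← h]
    exact h1.comp ((SurjTop.pushforward ι h2).comp (SurjTop.of_isIso _))
  exact SurjTop.of_comp_isIso _ h3

theorem subsingleton_HH_pullback_comp (p : ℕ) :
    Subsingleton (Coh.HH X' ((Scheme.Modules.pullback (j ≫ ι)).obj M) p) ↔
      Subsingleton (Coh.HH X' ((Scheme.Modules.pullback j).obj
        ((Scheme.Modules.pullback ι).obj M)) p) :=
  (Groth.Agent.Lib.Helper18.HH.isoEquiv ((pullbackComp j ι).app M).symm p).toEquiv.subsingleton_congr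

end Comp

end Groth.Agent.Lib.helper20.CIdeal
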