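import Mathlib
import Groth.Prelude.Def_LefPen
import Groth.Agent.Lib.Helper20.CIdeal10

/-!
# Cohomology of complete intersections in `P^n_k`: the induction (helper20)

`good`: for `X = V(G_1, …, G_r)` in `P^n_k` all of whose points have height `≥ r`:
`H^p(X, O_X(i)) = 0` for `0 < p < n - r` and `H^0(P, O(i)) → H^0(X, O_X(i))` is surjective when
`n - r ≥ 1`.
-/

set_option autoImplicit false
set_option linter.unusedSectionVars false
universe u

open CategoryTheory CategoryTheory.Limits AlgebraicGeometry Opposite TopologicalSpace MvPolynomial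

namespace Groth.Agent.Lib.helper20.CIdeal

open Scheme.Modules Groth.Agent.Lib.helper8.Dev Groth.Agent.Lib.helper20.HypIdeal
  Groth.Agent.Lib.helper26.ProjDim

variable {n : ℕ} {k : Type u} [Field k]

instance isQuasicoherent_twist (i : ℤ) : (Twist.twistProjSpace n k i).IsQuasicoherent :=
  (Groth.Agent.Lib.Lead.CurveInv.isCoh_of_isInvertible _
    (Groth.Agent.Lib.helper28.TwistPn.isInvertible n k i)).1

/-- the induction statement -/
def Good {r : ℕ} {a : Fin r → ℕ} (G : ∀ j, LefPen.Form n k (a j)) : Prop :=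
  (∀ (i : ℤ) (p : ℕ), 0 < p → p < n - r →
    Subsingleton (Coh.HH (LefPen.ciIdeal G).subscheme
      ((Scheme.Modules.pullback (LefPen.ciIdeal G).subschemeι).obj
        (Twist.twistProjSpace n k i)) p)) ∧
  (1 ≤ n - r → ∀ i : ℤ, SurjTop ((pullbackPushforwardAdjunction
    (LefPen.ciIdeal G).subschemeι).unit.app (Twist.twistProjSpace n k i)))

theorem good_zero (a : Fin 0 → ℕ) (G : ∀ j, LefPen.Form n k (a j)) : Good G := by
  have h0 : (LefPen.ciIdeal G : (CohB1.ProjSpace n k).IdealSheafData) = ⊥ := iSup_of_empty _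
  have hker : (LefPen.ciIdeal G).subschemeι.ker = ⊥ := by
    rw [Scheme.IdealSheafData.ker_subschemeι]; exact h0
  refine ⟨fun i p hp hpn => ?_, fun _ i => ?_⟩
  · haveI := isIso_unitOf_of_ker_eq_bot (LefPen.ciIdeal G).subschemeι
      (Twist.twistProjSpace n k i) hker
    rw [Groth.Agent.Lib.Helper20.ClosedImmHH.subsingleton_iff_push_closed
      (LefPen.ciIdeal G).subschemeι _ p]
    haveI := Groth.Agent.Lib.helper7.TwistNum.subsingleton_HH_twist k n i p (by omega) (by omega)
    exact (Groth.Agent.Lib.Helper18.HH.isoEquiv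
      (asIso (unitOf (LefPen.ciIdeal G).subschemeι (Twist.twistProjSpace n k i))) p).symm.toEquiv.subsingleton
  · haveI := isIso_unitOf_of_ker_eq_bot (LefPen.ciIdeal G).subschemeι
      (Twist.twistProjSpace n k i) hker
    exact SurjTop.of_isIso _

theorem ciIdeal_succ {r : ℕ} {a : Fin (r + 1) → ℕ} (G : ∀ j, LefPen.Form n k (a j)) :
    LefPen.hypIdeal (G (Fin.last r)) ⊔ LefPen.ciIdeal (fun j : Fin r => G j.castSucc) =
      LefPen.ciIdeal G := by
  unfold LefPen.ciIdeal
  apply le_antisymm
  · refine sup_le (le_iSup (fun j => LefPen.hypIdeal (G j)) (Fin.last r)) (iSup_le fun j => ?_)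
    exact le_iSup (fun j => LefPen.hypIdeal (G j)) j.castSucc
  · refine iSup_le fun j => ?_
    refine Fin.lastCases le_sup_left (fun j' => ?_) j
    exact le_sup_of_le_right (le_iSup (fun j : Fin r => LefPen.hypIdeal (G j.castSucc)) j')

theorem good_succ {r : ℕ} (hr : r + 1 ≤ n) {a : Fin (r + 1) → ℕ} (ha : ∀ j, 1 ≤ a j)
    (G : ∀ j, LefPen.Form n k (a j)) (hH : ∀ y ∈ W G, r + 1 ≤ htN y)
    (IH : Good (fun j : Fin r => G j.castSucc)) : Good G := by
  obtain ⟨hA, hB⟩ := IH
  have hker : (((LefPen.hypIdeal (G (Fin.last r))).comap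
      (LefPen.ciIdeal (fun j : Fin r => G j.castSucc)).subschemeι).subschemeι ≫
      (LefPen.ciIdeal (fun j : Fin r => G j.castSucc)).subschemeι).ker =
      (LefPen.ciIdeal G).subschemeι.ker := by
    rw [ker_comp_subschemeι, Scheme.IdealSheafData.ker_subschemeι, ciIdeal_succ]
  -- the twisted ideal
  have hT : ∀ (i : ℤ) (q : ℕ), 0 < q → q < n - r →
      Subsingleton (Coh.HH (LefPen.ciIdeal (fun j : Fin r => G j.castSucc)).subscheme
        (CohB1.tensorMod ((Scheme.Modules.pullback
          (LefPen.ciIdeal (fun j : Fin r => G j.castSucc)).subschemeι).obj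
            (Twist.twistProjSpace n k i))
          (ClSub.idealMod ((LefPen.hypIdeal (G (Fin.last r))).comap
            (LefPen.ciIdeal (fun j : Fin r => G j.castSucc)).subschemeι))) q) := by
    intro i q hq hqn
    let e := Groth.Agent.Lib.Lead.ModTensor.tensorIso
        (Iso.refl ((Scheme.Modules.pullback
          (LefPen.ciIdeal (fun j : Fin r => G j.castSucc)).subschemeι).obj
            (Twist.twistProjSpace n k i))) (stepIso hr ha G hH) ≪≫
      (Groth.Agent.Lib.helper12.PullTensor.pullTensorIso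
        (LefPen.ciIdeal (fun j : Fin r => G j.castSucc)).subschemeι
        (Twist.twistProjSpace n k i) (Twist.twistProjSpace n k (-(a (Fin.last r) : ℤ)))
        (Groth.Agent.Lib.helper28.TwistPn.isInvertible n k _)).symm ≪≫
      (Scheme.Modules.pullback
        (LefPen.ciIdeal (fun j : Fin r => G j.castSucc)).subschemeι).mapIso
          (Groth.Agent.Lib.helper28.TwistPn.tensorIso n k i (-(a (Fin.last r) : ℤ)))
    haveI := hA (i + -(a (Fin.last r) : ℤ)) q hq hqn
    exact (Groth.Agent.Lib.Helper18.HH.isoEquiv e q).toEquiv.subsingleton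
  have hFinv : ∀ i : ℤ, PicF.IsInvertible ((Scheme.Modules.pullback
      (LefPen.ciIdeal (fun j : Fin r => G j.castSucc)).subschemeι).obj
        (Twist.twistProjSpace n k i)) := fun i =>
    Groth.Agent.Lib.helper11.InvMod.isInvertible_pullback _
      (Groth.Agent.Lib.helper28.TwistPn.isInvertible n k i)
  have hFq : ∀ i : ℤ, ((Scheme.Modules.pullback
      (LefPen.ciIdeal (fun j : Fin r => G j.castSucc)).subschemeι).obj
        (Twist.twistProjSpace n k i)).IsQuasicoherent := fun i =>
    (Groth.Agent.Lib.Lead.CurveInv.isCoh_of_isInvertible _ (hFinv i)).1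
  refine ⟨fun i p hp hpn => ?_, fun h1 i => ?_⟩
  · haveI := hFq i
    rw [← subsingleton_HH_congr_of_ker_eq _ (LefPen.ciIdeal G).subschemeι
      (Twist.twistProjSpace n k i) hker p, subsingleton_HH_pullback_comp]
    exact subsingleton_HH_pull_of _ _
      (Groth.Agent.Lib.helper16.FLF.isFinLocFree_of_isInvertible (hFinv i)) p
      (hA i p hp (by omega)) (hT i (p + 1) (by omega) (by omega))
  · haveI := hFq i
    refine surjTop_unit_of_ker_eq _ (LefPen.ciIdeal G).subschemeι
      (Twist.twistProjSpace n k i) hker ?_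
    refine surjTop_unit_comp _ _ _ (hB (by omega) i) ?_
    have h2 := surjective_unit_top_of ((LefPen.hypIdeal (G (Fin.last r))).comap
      (LefPen.ciIdeal (fun j : Fin r => G j.castSucc)).subschemeι)
      ((Scheme.Modules.pullback
        (LefPen.ciIdeal (fun j : Fin r => G j.castSucc)).subschemeι).obj
          (Twist.twistProjSpace n k i))
      (Groth.Agent.Lib.helper16.FLF.isFinLocFree_of_isInvertible (hFinv i))
      (hT i 1 (by omega) (by omega))
    exact h2

theorem good : ∀ (r : ℕ), r ≤ n → ∀ (a : Fin r → ℕ), (∀ j, 1 ≤ a j) →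
    ∀ (G : ∀ j, LefPen.Form n k (a j)), (∀ y ∈ W G, r ≤ htN y) → Good G := by
  intro r
  induction r with
  | zero => intro _ a _ G _; exact good_zero a G
  | succ r ih =>
    intro hr a ha G hH
    exact good_succ hr ha G hH
      (ih (by omega) (fun j => a j.castSucc) (fun j => ha j.castSucc) (fun j => G j.castSucc)
        (le_htN_castSucc G ha hr hH))

end Groth.Agent.Lib.helper20.CIdeal
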