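import Mathlib
import Groth.Prelude.Def_LefPen
import Groth.Agent.Lib.Helper20.CIdeal11
import Groth.Agent.Lib.Helper20.ProjGamma
import Groth.Agent.Lib.Helper11.PullUnit
import Groth.Agent.Lib.Helper16.GeomConn
import Groth.Agent.Lib.Helper19.ProjSpaceProper

/-!
# Complete intersections of positive dimension in `P^n_k` are geometrically connected (helper20)
-/

set_option autoImplicit false
set_option linter.unusedSectionVars false
universe u

open CategoryTheory CategoryTheory.Limits AlgebraicGeometry Opposite TopologicalSpace MvPolynomial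
  TensorProduct

namespace Groth.Agent.Lib.helper20.CIdeal

open Scheme.Modules Groth.Agent.Lib.helper8.Dev Groth.Agent.Lib.helper20.HypIdeal
  Groth.Agent.Lib.helper26.ProjDim Groth.Agent.Lib.helper11.InvMod

variable {n : ℕ} {k : Type u} [Field k]

theorem surjective_appTop {r : ℕ} (hr : r ≤ n) (a : Fin r → ℕ) (ha : ∀ j, 1 ≤ a j)
    (G : ∀ j, LefPen.Form n k (a j)) (hH : ∀ y ∈ W G, r ≤ htN y) (h1 : 1 ≤ n - r) :
    Function.Surjective ((LefPen.ciIdeal G).subschemeι.appTop).hom := by
  have hS0 := (good r hr a ha G hH).2 h1 0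
  let z := Groth.Agent.Lib.helper28.TwistPn.zeroIso n k
  have hnat := (pullbackPushforwardAdjunction (LefPen.ciIdeal G).subschemeι).unit.naturality z.hom
  have h2 : SurjTop ((pullbackPushforwardAdjunction (LefPen.ciIdeal G).subschemeι).unit.app
      (Coh.structureModule (CohB1.ProjSpace n k)) ≫
      (Scheme.Modules.pullback (LefPen.ciIdeal G).subschemeι ⋙
        pushforward (LefPen.ciIdeal G).subschemeι).map z.hom) := by
    rw [← hnat]
    exact (SurjTop.of_isIso z.hom).comp hS0
  have h3 : SurjTop ((pullbackPushforwardAdjunction (LefPen.ciIdeal G).subschemeι).unit.app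
      (Coh.structureModule (CohB1.ProjSpace n k))) := SurjTop.of_comp_isIso _ h2
  have h4 : SurjTop (Groth.Agent.Lib.helper11.InvPullback.unitToPush (LefPen.ciIdeal G).subschemeι) := by
    rw [← Groth.Agent.Lib.helper11.PullUnit.unit_comp_pushforward_pullbackUnitHom]
    exact h3.comp (SurjTop.pushforward _ (SurjTop.of_isIso (pullbackUnitHom _)))
  exact h4

theorem nonempty_ci {r : ℕ} (hr : r ≤ n) (a : Fin r → ℕ) (ha : ∀ j, 1 ≤ a j)
    (G : ∀ j, LefPen.Form n k (a j)) : Nonempty ↥(LefPen.ciIdeal G).subscheme := by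
  obtain ⟨y, hy⟩ := W_nonempty hr ha G
  exact ⟨(homeo G).symm ⟨y, hy⟩⟩

theorem isIdempotentElem_field {K : Type*} [Field K] (e : K) (he : IsIdempotentElem e) :
    e = 0 ∨ e = 1 := by
  have h : e * (e - 1) = 0 := by rw [mul_sub, he.eq, mul_one, sub_self]
  rcases mul_eq_zero.mp h with h | h
  · exact Or.inl h
  · exact Or.inr (sub_eq_zero.mp h)

theorem geometricallyConnected {r : ℕ} (hr : r ≤ n) (a : Fin r → ℕ) (ha : ∀ j, 1 ≤ a j)
    (G : ∀ j, LefPen.Form n k (a j)) (hH : ∀ y ∈ W G, r ≤ htN y) (h1 : 1 ≤ n - r) :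
    GeometricallyConnected ((LefPen.ciIdeal G).subschemeι ≫ CohB1.ProjSpace.toSpec n k) := by
  haveI := nonempty_ci hr a ha G
  rw [Groth.Agent.Lib.helper16.GeomConn.geometricallyConnected_iff]
  intro K _ _
  letI : Algebra k Γ((LefPen.ciIdeal G).subscheme, ⊤) :=
    (Groth.Agent.S1536.glob ((LefPen.ciIdeal G).subschemeι ≫ CohB1.ProjSpace.toSpec n k)).hom.toAlgebra
  -- the structure map is bijective
  have hsurj : Function.Surjective (algebraMap k Γ((LefPen.ciIdeal G).subscheme, ⊤)) := by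
    change Function.Surjective (Groth.Agent.S1536.glob
      ((LefPen.ciIdeal G).subschemeι ≫ CohB1.ProjSpace.toSpec n k)).hom
    unfold Groth.Agent.S1536.glob
    rw [Scheme.Hom.comp_appTop]
    haveI := Groth.Agent.Lib.Helper20.ProjGamma.isIso_appTop n k
    have h5 : Function.Surjective ((Scheme.ΓSpecIso (CommRingCat.of k)).inv ≫
        (CohB1.ProjSpace.toSpec n k).appTop).hom :=
      (ConcreteCategory.bijective_of_isIso _).2
    intro x
    obtain ⟨y, rfl⟩ := surjective_appTop hr a ha G hH h1 x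
    obtain ⟨c, rfl⟩ := h5 y
    exact ⟨c, rfl⟩
  haveI : Nontrivial Γ((LefPen.ciIdeal G).subscheme, ⊤) := by
    haveI : Nonempty (⊤ : (LefPen.ciIdeal G).subscheme.Opens) := by
      obtain ⟨y⟩ := (inferInstance : Nonempty ↥(LefPen.ciIdeal G).subscheme)
      exact ⟨⟨y, trivial⟩⟩
    exact Scheme.component_nontrivial _ ⊤
  have hinj : Function.Injective (algebraMap k Γ((LefPen.ciIdeal G).subscheme, ⊤)) :=
    (algebraMap k Γ((LefPen.ciIdeal G).subscheme, ⊤)).injective
  let e : k ≃ₐ[k] Γ((LefPen.ciIdeal G).subscheme, ⊤) :=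
    AlgEquiv.ofBijective (Algebra.ofId k _) ⟨hinj, hsurj⟩
  let φ : K ⊗[k] Γ((LefPen.ciIdeal G).subscheme, ⊤) ≃+* K :=
    ((Algebra.TensorProduct.congr (AlgEquiv.refl : K ≃ₐ[k] K) e.symm).trans
      ((Algebra.TensorProduct.rid k k K).restrictScalars k)).toRingEquiv
  rw [Groth.Agent.Lib.helper16.GeomConn.idem_transfer φ]
  exact ⟨inferInstance, isIdempotentElem_field⟩

end Groth.Agent.Lib.helper20.CIdeal
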