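import Mathlib
import Groth.Prelude.Def_LefPen
import Groth.Agent.Lib.Helper20.CIdeal11
import Groth.Agent.Lib.Helper5.KrullComp2
import Groth.Agent.S0844
import Groth.Agent.S0845

/-!
# Top cohomology of complete intersections in `P^n_k` (helper20)

`X = V(G_1, …, G_r)` in `P = P^n_k` with all points of height `≥ r`, `r + 1 ≤ n`, `e = Σ a_j - n - 1`:
* `dim_le_of_height`: `dim X ≤ n - r`;
* `step_down`, `step_up`: the two halves of the long exact sequence of
  `0 → O_Y(c - d) → O_Y(c) → O_X(c) → 0`;
* `top_vanish`: `H^{n-r}(X, O_X(c)) = 0` for `c > e`;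
* `top_nonvanish`: `H^{n-r}(X, O_X(e)) ≠ 0`.
-/

set_option autoImplicit false
set_option linter.unusedSectionVars false
universe u

open CategoryTheory CategoryTheory.Limits AlgebraicGeometry Opposite TopologicalSpace MvPolynomial

namespace Groth.Agent.Lib.helper20.CIdeal

open Scheme.Modules Groth.Agent.Lib.helper8.Dev Groth.Agent.Lib.helper20.HypIdeal
  Groth.Agent.Lib.helper26.ProjDim Groth.Agent.Lib.helper11.SqZero

variable {n : ℕ} {k : Type u} [Field k]

theorem isNoetherian_ci {ι : Type} {a : ι → ℕ} (G : ∀ j, LefPen.Form n k (a j)) :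
    IsNoetherian (LefPen.ciIdeal G).subscheme := by
  haveI : IsLocallyNoetherian (CohB1.ProjSpace n k) :=
    Groth.Agent.Lib.Lead.SerreFin.isLocallyNoetherian_projSpace n k
  haveI : IsNoetherian (CohB1.ProjSpace n k) := {}
  haveI : IsLocallyNoetherian (LefPen.ciIdeal G).subscheme :=
    LocallyOfFiniteType.isLocallyNoetherian (LefPen.ciIdeal G).subschemeι
  haveI : CompactSpace (LefPen.ciIdeal G).subscheme :=
    QuasiCompact.compactSpace_of_compactSpace (LefPen.ciIdeal G).subschemeι
  exact {}

theorem dim_le_of_height {r : ℕ} {a : Fin r → ℕ} (G : ∀ j : Fin r, LefPen.Form n k (a j))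
    (hH : ∀ y ∈ W G, r ≤ htN y) :
    topologicalKrullDim ↥(LefPen.ciIdeal G).subscheme ≤ ((n - r : ℕ) : WithBot ℕ∞) := by
  haveI := isNoetherian_ci G
  refine Groth.Agent.Lib.helper5.KrullComp2.dim_le_of_forall_irreducibleComponents _
    (fun Z hZ => ?_)
  have hC : (homeo G) '' Z ∈ irreducibleComponents ↥(W G) :=
    image_mem_irreducibleComponents_of_isPreirreducible_fiber (homeo G) (homeo G).continuous
      (homeo G).isOpenMap
      (fun x => (Set.subsingleton_singleton.preimage (homeo G).injective).isPreirreducible)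
      (homeo G).surjective hZ
  have h1 : topologicalKrullDim ↥Z = topologicalKrullDim ↥((homeo G) '' Z) :=
    IsHomeomorph.topologicalKrullDim_eq _ ((homeo G).image Z).isHomeomorph
  obtain ⟨g, hgW, hgmin, -, hdimC⟩ := exists_of_mem_irreducibleComponents le_iff_specializes'
    (W G) (isClosed_W G) _ hC
  rw [h1, hdimC, coheight_eq]
  have h2 := hH g hgW
  have h3 : (((n - htN g : ℕ) : ℕ∞) : WithBot ℕ∞) ≤ (((n - r : ℕ) : ℕ∞) : WithBot ℕ∞) :=
    WithBot.coe_le_coe.mpr (Nat.cast_le.mpr (Nat.sub_le_sub_left h2 n))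
  exact h3

section Step

variable {r : ℕ} (hr : r + 1 ≤ n) {a : Fin (r + 1) → ℕ} (ha : ∀ j, 1 ≤ a j)
  (G : ∀ j, LefPen.Form n k (a j)) (hH : ∀ y ∈ W G, r + 1 ≤ htN y)

include hr ha hH

theorem step_aux (c : ℤ) (q : ℕ) :
    Subsingleton (Coh.HH (LefPen.ciIdeal (fun j : Fin r => G j.castSucc)).subscheme
        (CohB1.tensorMod ((Scheme.Modules.pullback
          (LefPen.ciIdeal (fun j : Fin r => G j.castSucc)).subschemeι).obj
            (Twist.twistProjSpace n k c))
          (ClSub.idealMod ((LefPen.hypIdeal (G (Fin.last r))).comap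
            (LefPen.ciIdeal (fun j : Fin r => G j.castSucc)).subschemeι))) q) ↔
      Subsingleton (Coh.HH (LefPen.ciIdeal (fun j : Fin r => G j.castSucc)).subscheme
        ((Scheme.Modules.pullback
          (LefPen.ciIdeal (fun j : Fin r => G j.castSucc)).subschemeι).obj
            (Twist.twistProjSpace n k (c + -(a (Fin.last r) : ℤ)))) q) := by
  let e := Groth.Agent.Lib.Lead.ModTensor.tensorIso
      (Iso.refl ((Scheme.Modules.pullback
        (LefPen.ciIdeal (fun j : Fin r => G j.castSucc)).subschemeι).obj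
          (Twist.twistProjSpace n k c))) (stepIso hr ha G hH) ≪≫
    (Groth.Agent.Lib.helper12.PullTensor.pullTensorIso
      (LefPen.ciIdeal (fun j : Fin r => G j.castSucc)).subschemeι
      (Twist.twistProjSpace n k c) (Twist.twistProjSpace n k (-(a (Fin.last r) : ℤ)))
      (Groth.Agent.Lib.helper28.TwistPn.isInvertible n k _)).symm ≪≫
    (Scheme.Modules.pullback
      (LefPen.ciIdeal (fun j : Fin r => G j.castSucc)).subschemeι).mapIso
        (Groth.Agent.Lib.helper28.TwistPn.tensorIso n k c (-(a (Fin.last r) : ℤ)))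
  exact (Groth.Agent.Lib.Helper18.HH.isoEquiv e q).toEquiv.subsingleton_congr

theorem step_transfer (c : ℤ) (p : ℕ) :
    Subsingleton (Coh.HH (LefPen.ciIdeal G).subscheme
        ((Scheme.Modules.pullback (LefPen.ciIdeal G).subschemeι).obj
          (Twist.twistProjSpace n k c)) p) ↔
      Subsingleton (Coh.HH ((LefPen.hypIdeal (G (Fin.last r))).comap
          (LefPen.ciIdeal (fun j : Fin r => G j.castSucc)).subschemeι).subscheme
        ((Scheme.Modules.pullback ((LefPen.hypIdeal (G (Fin.last r))).comap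
          (LefPen.ciIdeal (fun j : Fin r => G j.castSucc)).subschemeι).subschemeι).obj
          ((Scheme.Modules.pullback
            (LefPen.ciIdeal (fun j : Fin r => G j.castSucc)).subschemeι).obj
              (Twist.twistProjSpace n k c))) p) := by
  have hker : (((LefPen.hypIdeal (G (Fin.last r))).comap
      (LefPen.ciIdeal (fun j : Fin r => G j.castSucc)).subschemeι).subschemeι ≫
      (LefPen.ciIdeal (fun j : Fin r => G j.castSucc)).subschemeι).ker =
      (LefPen.ciIdeal G).subschemeι.ker := by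
    rw [ker_comp_subschemeι, Scheme.IdealSheafData.ker_subschemeι, ciIdeal_succ]
  rw [← subsingleton_HH_congr_of_ker_eq _ (LefPen.ciIdeal G).subschemeι
    (Twist.twistProjSpace n k c) hker p, subsingleton_HH_pullback_comp]

theorem step_down (c : ℤ) (p : ℕ)
    (h1 : Subsingleton (Coh.HH (LefPen.ciIdeal (fun j : Fin r => G j.castSucc)).subscheme
      ((Scheme.Modules.pullback (LefPen.ciIdeal (fun j : Fin r => G j.castSucc)).subschemeι).obj
        (Twist.twistProjSpace n k c)) p))
    (h2 : Subsingleton (Coh.HH (LefPen.ciIdeal (fun j : Fin r => G j.castSucc)).subscheme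
      ((Scheme.Modules.pullback (LefPen.ciIdeal (fun j : Fin r => G j.castSucc)).subschemeι).obj
        (Twist.twistProjSpace n k (c + -(a (Fin.last r) : ℤ)))) (p + 1))) :
    Subsingleton (Coh.HH (LefPen.ciIdeal G).subscheme
      ((Scheme.Modules.pullback (LefPen.ciIdeal G).subschemeι).obj
        (Twist.twistProjSpace n k c)) p) := by
  have hFinv : PicF.IsInvertible ((Scheme.Modules.pullback
      (LefPen.ciIdeal (fun j : Fin r => G j.castSucc)).subschemeι).obj
        (Twist.twistProjSpace n k c)) :=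
    Groth.Agent.Lib.helper11.InvMod.isInvertible_pullback _
      (Groth.Agent.Lib.helper28.TwistPn.isInvertible n k c)
  haveI : ((Scheme.Modules.pullback
      (LefPen.ciIdeal (fun j : Fin r => G j.castSucc)).subschemeι).obj
        (Twist.twistProjSpace n k c)).IsQuasicoherent :=
    (Groth.Agent.Lib.Lead.CurveInv.isCoh_of_isInvertible _ hFinv).1
  rw [step_transfer hr ha G hH]
  exact subsingleton_HH_pull_of _ _
    (Groth.Agent.Lib.helper16.FLF.isFinLocFree_of_isInvertible hFinv) p h1
    ((step_aux hr ha G hH c (p + 1)).mpr h2)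

theorem step_up (c : ℤ) (p : ℕ)
    (h3 : Subsingleton (Coh.HH (LefPen.ciIdeal G).subscheme
      ((Scheme.Modules.pullback (LefPen.ciIdeal G).subschemeι).obj
        (Twist.twistProjSpace n k c)) p))
    (h2 : Subsingleton (Coh.HH (LefPen.ciIdeal (fun j : Fin r => G j.castSucc)).subscheme
      ((Scheme.Modules.pullback (LefPen.ciIdeal (fun j : Fin r => G j.castSucc)).subschemeι).obj
        (Twist.twistProjSpace n k c)) (p + 1))) :
    Subsingleton (Coh.HH (LefPen.ciIdeal (fun j : Fin r => G j.castSucc)).subscheme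
      ((Scheme.Modules.pullback (LefPen.ciIdeal (fun j : Fin r => G j.castSucc)).subschemeι).obj
        (Twist.twistProjSpace n k (c + -(a (Fin.last r) : ℤ)))) (p + 1)) := by
  have hFinv : PicF.IsInvertible ((Scheme.Modules.pullback
      (LefPen.ciIdeal (fun j : Fin r => G j.castSucc)).subschemeι).obj
        (Twist.twistProjSpace n k c)) :=
    Groth.Agent.Lib.helper11.InvMod.isInvertible_pullback _
      (Groth.Agent.Lib.helper28.TwistPn.isInvertible n k c)
  haveI : ((Scheme.Modules.pullback
      (LefPen.ciIdeal (fun j : Fin r => G j.castSucc)).subschemeι).obj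
        (Twist.twistProjSpace n k c)).IsQuasicoherent :=
    (Groth.Agent.Lib.Lead.CurveInv.isCoh_of_isInvertible _ hFinv).1
  rw [step_transfer hr ha G hH] at h3
  rw [← step_aux hr ha G hH c (p + 1)]
  have hS := sesF_shortExact ((LefPen.hypIdeal (G (Fin.last r))).comap
      (LefPen.ciIdeal (fun j : Fin r => G j.castSucc)).subschemeι) _
    (Groth.Agent.Lib.helper16.FLF.isFinLocFree_of_isInvertible hFinv)
  exact Groth.Agent.Lib.Helper18.HH.subsingleton_X₁_succ hS p
    ((Groth.Agent.Lib.Helper20.ClosedImmHH.subsingleton_iff_push_closed _ _ p).mp h3) h2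

end Step

theorem zero_iff (a : Fin 0 → ℕ) (G : ∀ j, LefPen.Form n k (a j)) (c : ℤ) (p : ℕ) :
    Subsingleton (Coh.HH (LefPen.ciIdeal G).subscheme
        ((Scheme.Modules.pullback (LefPen.ciIdeal G).subschemeι).obj
          (Twist.twistProjSpace n k c)) p) ↔
      Subsingleton (Coh.HH (CohB1.ProjSpace n k) (Twist.twistProjSpace n k c) p) := by
  have h0 : (LefPen.ciIdeal G : (CohB1.ProjSpace n k).IdealSheafData) = ⊥ := iSup_of_empty _
  have hker : (LefPen.ciIdeal G).subschemeι.ker = ⊥ := by
    rw [Scheme.IdealSheafData.ker_subschemeι]; exact h0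
  haveI := isIso_unitOf_of_ker_eq_bot (LefPen.ciIdeal G).subschemeι
    (Twist.twistProjSpace n k c) hker
  rw [Groth.Agent.Lib.Helper20.ClosedImmHH.subsingleton_iff_push_closed
    (LefPen.ciIdeal G).subschemeι _ p]
  exact (Groth.Agent.Lib.Helper18.HH.isoEquiv
    (asIso (unitOf (LefPen.ciIdeal G).subschemeι (Twist.twistProjSpace n k c)))
      p).symm.toEquiv.subsingleton_congr

/-- vanishing of the top cohomology of `O_X(c)` for `c > Σ a_j - n - 1` -/
theorem top_vanish : ∀ (r p : ℕ), p + r = n → 1 ≤ p → ∀ (a : Fin r → ℕ), (∀ j, 1 ≤ a j) →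
    ∀ (G : ∀ j, LefPen.Form n k (a j)), (∀ y ∈ W G, r ≤ htN y) → ∀ c : ℤ,
      (∑ j, (a j : ℤ)) - n - 1 < c →
      Subsingleton (Coh.HH (LefPen.ciIdeal G).subscheme
        ((Scheme.Modules.pullback (LefPen.ciIdeal G).subschemeι).obj
          (Twist.twistProjSpace n k c)) p) := by
  intro r
  induction r with
  | zero =>
    intro p hp hp1 a _ G _ c hc
    rw [zero_iff]
    have hpn : p = n := by omega
    subst hpn
    refine Groth.Agent.S0844.result k p c p (fun h => ?_) (fun h => ?_)
    · omega
    · simp only [Finset.univ_eq_empty, Finset.sum_empty] at hc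
      omega
  | succ r ih =>
    intro p hp hp1 a ha G hH c hc
    have hr : r + 1 ≤ n := by omega
    have hH' := le_htN_castSucc G ha hr hH
    have hgood := good r (by omega) (fun j => a j.castSucc) (fun j => ha j.castSucc)
      (fun j => G j.castSucc) hH'
    refine step_down hr ha G hH c p (hgood.1 c p (by omega) (by omega)) ?_
    refine ih (p + 1) (by omega) (by omega) _ (fun j => ha j.castSucc) _ hH' _ ?_
    rw [Fin.sum_univ_castSucc] at hc
    omega

/-- nonvanishing of the top cohomology of `O_X(Σ a_j - n - 1)` -/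
theorem top_nonvanish : ∀ (r p : ℕ), p + r = n → 1 ≤ p → ∀ (a : Fin r → ℕ), (∀ j, 1 ≤ a j) →
    ∀ (G : ∀ j, LefPen.Form n k (a j)), (∀ y ∈ W G, r ≤ htN y) →
      ¬ Subsingleton (Coh.HH (LefPen.ciIdeal G).subscheme
        ((Scheme.Modules.pullback (LefPen.ciIdeal G).subschemeι).obj
          (Twist.twistProjSpace n k ((∑ j, (a j : ℤ)) - n - 1))) p) := by
  intro r
  induction r with
  | zero =>
    intro p hp hp1 a _ G _
    rw [zero_iff]
    have hpn : p = n := by omega
    subst hpn
    have hc : (∑ j : Fin 0, (a j : ℤ)) - (p : ℤ) - 1 = -((p : ℤ) + 1 + ((0 : ℕ) : ℤ)) := by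
      simp only [Finset.univ_eq_empty, Finset.sum_empty]
      push_cast
      ring
    rw [hc]
    obtain ⟨e⟩ := Groth.Agent.S0845.result k p 0
    intro hsub
    have h1 : (1 : MvPolynomial (Fin (p + 1)) k) ∈
        MvPolynomial.homogeneousSubmodule (Fin (p + 1)) k 0 :=
      (MvPolynomial.mem_homogeneousSubmodule _ _).mpr (MvPolynomial.isHomogeneous_one _ _)
    have h2 : e.symm ⟨1, h1⟩ = e.symm 0 := Subsingleton.elim _ _
    have h3 := e.symm.injective h2
    have h4 : (1 : MvPolynomial (Fin (p + 1)) k) = 0 := congrArg Subtype.val h3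
    exact one_ne_zero h4
  | succ r ih =>
    intro p hp hp1 a ha G hH hsub
    have hr : r + 1 ≤ n := by omega
    have hH' := le_htN_castSucc G ha hr hH
    have hlast := ha (Fin.last r)
    have h2 := top_vanish r (p + 1) (by omega) (by omega) _ (fun j => ha j.castSucc)
      (fun j => G j.castSucc) hH' ((∑ j, (a j : ℤ)) - n - 1) (by
        rw [Fin.sum_univ_castSucc]
        omega)
    have h := step_up hr ha G hH _ p hsub h2
    have hidx : (∑ j, (a j : ℤ)) - n - 1 + -(a (Fin.last r) : ℤ) =
        (∑ j : Fin r, (a j.castSucc : ℤ)) - n - 1 := by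
      rw [Fin.sum_univ_castSucc]
      ring
    rw [hidx] at h
    exact ih (p + 1) (by omega) (by omega) _ (fun j => ha j.castSucc) _ hH' h

end Groth.Agent.Lib.helper20.CIdeal
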