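import Mathlib
import Groth.Prelude.Def_LefPen
import Groth.Agent.Lib.Helper20.CIdeal16
import Groth.Agent.Lib.Helper12.GGTensor
import Groth.Agent.Lib.Helper7.Growth4
import Groth.Agent.Lib.Helper11.IdealGG2

/-!
# `H^1` of the twists of a complete intersection curve in `P^n_k` (helper20)

* `gg_pull_twist_one`: `ι^* O(1)` is globally generated.
* `h1_succ_of_h1`: on a closed subscheme of dimension `≤ 1`, `H^1(O_X(c)) = 0 ⇒ H^1(O_X(1 + c)) = 0`.
* `h1_curve_iff`: for a complete intersection curve `X = V(G_1, …, G_{n-1})`,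
  `H^1(X, O_X(c)) = 0 ↔ c > Σ a_j - n - 1`.
-/

set_option autoImplicit false
set_option linter.unusedSectionVars false
universe u

open CategoryTheory CategoryTheory.Limits AlgebraicGeometry Opposite TopologicalSpace MvPolynomial

namespace Groth.Agent.Lib.helper20.CIdeal

open Scheme.Modules Groth.Agent.Lib.helper8.Dev Groth.Agent.Lib.helper20.HypIdeal
  Groth.Agent.Lib.helper26.ProjDim

variable {n : ℕ} {k : Type u} [Field k]

theorem gg_pull_twist_one {X : Scheme.{u}} (ι : X ⟶ CohB1.ProjSpace n k) :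
    Curv2.IsGloballyGenerated
      ((Scheme.Modules.pullback ι).obj (Twist.twistProjSpace n k 1)) := by
  obtain ⟨m, p, hp⟩ := Groth.Agent.Lib.helper28.TwistPn.exists_epi_free n k 1
  have h1 : Curv2.IsGloballyGenerated (Twist.twistProjSpace n k ((1 : ℕ) : ℤ)) :=
    Groth.Agent.Lib.helper11.IdealGG2.isGloballyGenerated_of_epi_freeMod p
  rw [Nat.cast_one] at h1
  exact Groth.Agent.Lib.helper7.Growth.gg_pullback ι _ h1

theorem h1_succ_of_h1 {X : Scheme.{u}} (ι : X ⟶ CohB1.ProjSpace n k)
    [CompactSpace X] [QuasiSeparatedSpace X] (hd : topologicalKrullDim X ≤ 1) (c : ℤ)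
    (h : Subsingleton (Coh.HH X
      ((Scheme.Modules.pullback ι).obj (Twist.twistProjSpace n k c)) 1)) :
    Subsingleton (Coh.HH X
      ((Scheme.Modules.pullback ι).obj (Twist.twistProjSpace n k (1 + c))) 1) := by
  have h1 := Groth.Agent.Lib.helper12.GGTensor.subsingleton_H1_tensor_of_gg hd
    (gg_pull_twist_one ι) h
  let e := (Groth.Agent.Lib.helper12.PullTensor.pullTensorIso ι
      (Twist.twistProjSpace n k 1) (Twist.twistProjSpace n k c)
      (Groth.Agent.Lib.helper28.TwistPn.isInvertible n k c)).symm ≪≫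
    (Scheme.Modules.pullback ι).mapIso (Groth.Agent.Lib.helper28.TwistPn.tensorIso n k 1 c)
  exact (Groth.Agent.Lib.Helper18.HH.isoEquiv e 1).toEquiv.subsingleton_congr.mp h1

theorem h1_curve_iff {r : ℕ} (hr : r + 1 = n) (a : Fin r → ℕ) (ha : ∀ j, 1 ≤ a j)
    (G : ∀ j, LefPen.Form n k (a j)) (hH : ∀ y ∈ W G, r ≤ htN y) (c : ℤ) :
    Subsingleton (Coh.HH (LefPen.ciIdeal G).subscheme
        ((Scheme.Modules.pullback (LefPen.ciIdeal G).subschemeι).obj
          (Twist.twistProjSpace n k c)) 1) ↔
      (∑ j, (a j : ℤ)) - n - 1 < c := by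
  constructor
  · intro h
    by_contra hc
    rw [not_lt] at hc
    haveI := isNoetherian_ci G
    have hd : topologicalKrullDim ↥(LefPen.ciIdeal G).subscheme ≤ 1 := by
      have h1 := dim_le_of_height G hH
      have h2 : n - r = 1 := by omega
      rw [h2] at h1
      exact_mod_cast h1
    have hup : ∀ j : ℕ, Subsingleton (Coh.HH (LefPen.ciIdeal G).subscheme
        ((Scheme.Modules.pullback (LefPen.ciIdeal G).subschemeι).obj
          (Twist.twistProjSpace n k (c + (j : ℤ)))) 1) := by
      intro j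
      induction j with
      | zero =>
        rw [Nat.cast_zero, add_zero]
        exact h
      | succ j ih =>
        have h3 := h1_succ_of_h1 (LefPen.ciIdeal G).subschemeι hd _ ih
        have h4 : (1 : ℤ) + (c + (j : ℤ)) = c + ((j + 1 : ℕ) : ℤ) := by
          push_cast
          ring
        rw [h4] at h3
        exact h3
    have h5 := hup ((∑ j, (a j : ℤ)) - n - 1 - c).toNat
    have h6 : c + ((((∑ j, (a j : ℤ)) - n - 1 - c).toNat : ℕ) : ℤ) = (∑ j, (a j : ℤ)) - n - 1 := by
      rw [Int.toNat_of_nonneg (by omega)]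
      ring
    rw [h6] at h5
    exact top_nonvanish r 1 (by omega) le_rfl a ha G hH h5
  · exact top_vanish r 1 (by omega) le_rfl a ha G hH c

end Groth.Agent.Lib.helper20.CIdeal
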