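import Mathlib
import Groth.Prelude.Def_CAlgX
import Groth.Agent.Lib.Helper20.CIdeal13

/-!
# `H_1`-regular sequences are quasi-regular in degree one, for every generating family of the same
size (helper20)

* `coeff_mem_of_h1`: `b` `H_1`-regular, `I = (b)`: `∑ c s * b s ∈ I * I → c s ∈ I`.
* `coeff_mem_of_h1_gen`: the same for any family `f` of the same size generating `I`.
-/

set_option autoImplicit false
universe u

namespace Groth.Agent.Lib.helper20.CIdeal

variable {A : Type u} [CommRing A] {N : ℕ}

theorem coord_mem_of_span_triv (b : Fin N → A) (I : Ideal A) (hbI : ∀ i, b i ∈ I) (v : Fin N → A)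
    (hv : v ∈ Submodule.span A
      {v : Fin N → A | ∃ i j : Fin N, v = Pi.single i (b j) - Pi.single j (b i)}) :
    ∀ i, v i ∈ I := by
  induction hv using Submodule.span_induction with
  | mem v hv =>
    obtain ⟨p, q, rfl⟩ := hv
    intro i
    simp only [Pi.sub_apply, Pi.single_apply]
    refine I.sub_mem ?_ ?_
    · split_ifs
      · exact hbI _
      · exact I.zero_mem
    · split_ifs
      · exact hbI _
      · exact I.zero_mem
  | zero => exact fun i => I.zero_mem
  | add v w _ _ hv hw => exact fun i => I.add_mem (hv i) (hw i)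
  | smul r v _ hv => exact fun i => I.mul_mem_left _ (hv i)

/-- the coefficients of a relation among the members of an `H_1`-regular sequence lie in the ideal -/
theorem coeff_mem_of_h1_zero (b : Fin N → A) (hb : CAlgX.IsH1Regular b) (c : Fin N → A)
    (hc : ∑ s, c s * b s = 0) (s : Fin N) : c s ∈ Ideal.span (Set.range b) :=
  coord_mem_of_span_triv b (Ideal.span (Set.range b)) (fun i => Ideal.subset_span ⟨i, rfl⟩) c
    (hb c hc) s

/-- an `H_1`-regular sequence is quasi-regular in degree one -/
theorem coeff_mem_of_h1 (b : Fin N → A) (hb : CAlgX.IsH1Regular b) (c : Fin N → A)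
    (hc : ∑ s, c s * b s ∈ Ideal.span (Set.range b) * Ideal.span (Set.range b)) (s : Fin N) :
    c s ∈ Ideal.span (Set.range b) := by
  obtain ⟨d, hd, hsum⟩ := exists_coeff_mem b _ _ hc
  have h0 : ∑ j, (c j - d j) * b j = 0 := by
    simp only [sub_mul, Finset.sum_sub_distrib, hsum, sub_self]
  have := coeff_mem_of_h1_zero b hb _ h0 s
  have h2 := Ideal.add_mem _ this (hd s)
  rwa [sub_add_cancel] at h2

/-- the same for any other generating family of the same size -/
theorem coeff_mem_of_h1_gen (b : Fin N → A) (hb : CAlgX.IsH1Regular b) (f : Fin N → A)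
    (hf : Ideal.span (Set.range f) = Ideal.span (Set.range b)) (c : Fin N → A)
    (hc : ∑ t, c t * f t ∈ Ideal.span (Set.range b) * Ideal.span (Set.range b)) (t : Fin N) :
    c t ∈ Ideal.span (Set.range b) := by
  classical
  set I := Ideal.span (Set.range b) with hI
  have hfI : ∀ t, f t ∈ I := fun t => by rw [← hf]; exact Ideal.subset_span ⟨t, rfl⟩
  have hbf : ∀ s, b s ∈ Ideal.span (Set.range f) := fun s => by
    rw [hf]; exact Ideal.subset_span ⟨s, rfl⟩
  choose P hP using fun t => (Ideal.mem_span_range_iff_exists_fun).mp (hfI t)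
  choose Q hQ using fun s => (Ideal.mem_span_range_iff_exists_fun).mp (hbf s)
  let π := Ideal.Quotient.mk I
  let Pm : Matrix (Fin N) (Fin N) (A ⧸ I) := fun t s => π (P t s)
  let Qm : Matrix (Fin N) (Fin N) (A ⧸ I) := fun s t => π (Q s t)
  have hQP : Qm * Pm = 1 := by
    ext s s'
    have hrel : ∑ s'', ((∑ t, Q s t * P t s'') - (if s = s'' then 1 else 0)) * b s'' = 0 := by
      have h1 : ∑ s'', (∑ t, Q s t * P t s'') * b s'' = b s := by
        calc ∑ s'', (∑ t, Q s t * P t s'') * b s''
            = ∑ s'', ∑ t, Q s t * (P t s'' * b s'') := by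
              refine Finset.sum_congr rfl fun s'' _ => ?_
              rw [Finset.sum_mul]
              exact Finset.sum_congr rfl fun t _ => mul_assoc _ _ _
          _ = ∑ t, ∑ s'', Q s t * (P t s'' * b s'') := Finset.sum_comm
          _ = ∑ t, Q s t * f t := by
              refine Finset.sum_congr rfl fun t _ => ?_
              rw [← Finset.mul_sum, hP]
          _ = b s := hQ s
      have h2 : ∑ s'', (if s = s'' then (1 : A) else 0) * b s'' = b s := by
        simp
      simp only [sub_mul, Finset.sum_sub_distrib, h1, h2, sub_self]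
    have hmem := coeff_mem_of_h1_zero b hb _ hrel s'
    have h3 : π ((∑ t, Q s t * P t s') - (if s = s' then 1 else 0)) = 0 :=
      Ideal.Quotient.eq_zero_iff_mem.mpr hmem
    rw [map_sub, sub_eq_zero] at h3
    rw [Matrix.mul_apply, Matrix.one_apply]
    have h4 : ∑ t, Qm s t * Pm t s' = π (∑ t, Q s t * P t s') := by
      rw [map_sum]
      exact Finset.sum_congr rfl fun t _ => (map_mul π _ _).symm
    rw [h4, h3]
    split_ifs <;> simp
  have hPQ : Pm * Qm = 1 := mul_eq_one_comm.mp hQP
  -- the coefficients
  have hcP : ∀ s, ∑ t, c t * P t s ∈ I := by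
    have h1 : ∑ s, (∑ t, c t * P t s) * b s = ∑ t, c t * f t := by
      calc ∑ s, (∑ t, c t * P t s) * b s
          = ∑ s, ∑ t, c t * (P t s * b s) := by
            refine Finset.sum_congr rfl fun s _ => ?_
            rw [Finset.sum_mul]
            exact Finset.sum_congr rfl fun t _ => mul_assoc _ _ _
        _ = ∑ t, ∑ s, c t * (P t s * b s) := Finset.sum_comm
        _ = ∑ t, c t * f t := by
            refine Finset.sum_congr rfl fun t _ => ?_
            rw [← Finset.mul_sum, hP]
    intro s
    refine coeff_mem_of_h1 b hb (fun s => ∑ t, c t * P t s) ?_ s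
    rw [h1]
    exact hc
  have hv : Matrix.vecMul (fun t => π (c t)) Pm = 0 := by
    ext s
    have h1 : Matrix.vecMul (fun t => π (c t)) Pm s = π (∑ t, c t * P t s) := by
      rw [map_sum]
      show ∑ t, π (c t) * π (P t s) = _
      exact Finset.sum_congr rfl fun t _ => (map_mul π _ _).symm
    rw [h1]
    exact Ideal.Quotient.eq_zero_iff_mem.mpr (hcP s)
  have h5 : (fun t => π (c t)) = 0 := by
    have h6 := congrArg (fun v => Matrix.vecMul v Qm) hv
    simp only [Matrix.vecMul_vecMul, hPQ, Matrix.vecMul_one, Matrix.zero_vecMul] at h6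
    exact h6
  exact Ideal.Quotient.eq_zero_iff_mem.mp (congrFun h5 t)

end Groth.Agent.Lib.helper20.CIdeal
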