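import Mathlib
import Groth.Agent.Lib.Helper20.CIdeal15
import Groth.Agent.Lib.Helper20.CIdeal18

/-!
# The conormal sheaf of an intersection of closed subschemes (helper20)

* `ChartOK`, `isIso_desc_of_chartOK`: for a closed immersion `i : Z ⟶ X` and maps of quasi-coherent
  modules `Ψ j : M j ⟶ idealMod i.ker`, the map `⨁ i^* M_j ⟶ i^* (ker i)` is an isomorphism as soon as,
  on affine opens covering the image of `i`, sections of `ker i` are sums of images of sections of the
  `M j`, and a family of sections whose sum lies in `(ker i)²` has all its members in `(ker i) M_j`.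
* `chartOK_of_h1`: the chart condition for `M l = idealMod (K l)`, `ker i = ⨆ K l` generated by an
  `H_1`-regular sequence of length `N`, the `K l` generated by `N` elements altogether.
-/

set_option autoImplicit false
universe u

open CategoryTheory CategoryTheory.Limits AlgebraicGeometry Opposite TopologicalSpace

namespace Groth.Agent.Lib.helper20.CIdeal

open Scheme.Modules Groth.Agent.Lib.helper8.Dev Groth.Agent.Lib.helper7

attribute [local instance] Abelian.hasFiniteBiproducts

section General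

variable {X Z : Scheme.{u}} (i : Z ⟶ X) [IsClosedImmersion i] {r : ℕ} (M : Fin r → X.Modules)
  [∀ j, (M j).IsQuasicoherent] (Ψ : ∀ j, M j ⟶ ClSub.idealMod i.ker)

/-- the hypothesis on an affine chart -/
def ChartOK (U : X.affineOpens) : Prop :=
  (∀ x : Γ(ClSub.idealMod i.ker, U.1), ∃ m : ∀ j, Γ(M j, U.1),
    x = ∑ j, ((Ψ j).app U.1).hom (m j)) ∧
  (∀ m : ∀ j, Γ(M j, U.1),
    (∑ j, ((Ψ j).app U.1).hom (m j)) ∈
      i.ker.ideal U • (⊤ : Submodule Γ(X, U.1) Γ(ClSub.idealMod i.ker, U.1)) →
    ∀ j, m j ∈ i.ker.ideal U • (⊤ : Submodule Γ(X, U.1) Γ(M j, U.1)))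

theorem isIso_desc_of_chartOK {ι' : Type*} (𝒰 : ι' → X.affineOpens)
    (hcov : ∀ z : Z, ∃ u, i.base z ∈ (𝒰 u).1) (h : ∀ u, ChartOK i M Ψ (𝒰 u)) :
    IsIso (biproduct.desc (fun j => (Scheme.Modules.pullback i).map (Ψ j))) := by
  haveI : ∀ j, ((Scheme.Modules.pullback i).obj (M j)).IsQuasicoherent := fun j =>
    Groth.Agent.Lib.helper16.QCohPullback.isQuasicoherent_pullback _ _
  haveI : (⨁ fun j => (Scheme.Modules.pullback i).obj (M j)).IsQuasicoherent :=
    isQuasicoherent_biproduct _ (fun _ => inferInstance)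
  haveI : ((Scheme.Modules.pullback i).obj (ClSub.idealMod i.ker)).IsQuasicoherent :=
    Groth.Agent.Lib.helper16.QCohPullback.isQuasicoherent_pullback _ _
  refine Groth.Agent.Lib.helper7.KerSections.isIso_of_bijective_cover _
    (fun u => i ⁻¹ᵁ (𝒰 u).1) (fun u => (𝒰 u).2.preimage _) ?_ (fun u => ?_)
  · intro z
    obtain ⟨u, hu⟩ := hcov z
    exact ⟨u, hu⟩
  · obtain ⟨ha, hb⟩ := h u
    have hnat : ∀ (j : Fin r) (m : Γ(M j, (𝒰 u).1)),
        (((Scheme.Modules.pullback i).map (Ψ j)).app (i ⁻¹ᵁ (𝒰 u).1)).hom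
          (unitSec i (M j) (𝒰 u).1 m) =
        unitSec i (ClSub.idealMod i.ker) (𝒰 u).1 (((Ψ j).app (𝒰 u).1).hom m) :=
      fun j m => unitSec_naturality i (Ψ j) (𝒰 u).1 m
    constructor
    · rw [injective_iff_map_eq_zero]
      intro s hs
      have hsurj : ∀ j, Function.Surjective (unitSec i (M j) (𝒰 u).1) := fun j =>
        unitOf_app_surjective i (M j) (𝒰 u).2
      choose m hm using fun j => hsurj j
        (((biproduct.π (fun j => (Scheme.Modules.pullback i).obj (M j)) j).app
          (i ⁻¹ᵁ (𝒰 u).1)).hom s)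
      have h1 : unitSec i (ClSub.idealMod i.ker) (𝒰 u).1
          (∑ j, ((Ψ j).app (𝒰 u).1).hom (m j)) = 0 := by
        rw [map_sum, ← hs, biproduct_desc_app]
        refine Finset.sum_congr rfl (fun j _ => ?_)
        rw [← hm j, hnat]
      have h2 : (∑ j, ((Ψ j).app (𝒰 u).1).hom (m j)) ∈
          i.ker.ideal (𝒰 u) •
            (⊤ : Submodule Γ(X, (𝒰 u).1) Γ(ClSub.idealMod i.ker, (𝒰 u).1)) :=
        (unitOf_app_eq_zero_iff i (ClSub.idealMod i.ker) (𝒰 u).2 _).mp h1
      have h5 := hb m h2
      rw [biproduct_section_eq _ _ s]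
      refine Finset.sum_eq_zero (fun j _ => ?_)
      rw [← hm j]
      have h6 : unitSec i (M j) (𝒰 u).1 (m j) = 0 :=
        (unitOf_app_eq_zero_iff i (M j) (𝒰 u).2 _).mpr (h5 j)
      rw [h6, map_zero]
    · intro y
      obtain ⟨x, rfl⟩ := unitOf_app_surjective i (ClSub.idealMod i.ker) (𝒰 u).2 y
      obtain ⟨m, hx2⟩ := ha x
      refine ⟨∑ j, ((biproduct.ι (fun j => (Scheme.Modules.pullback i).obj (M j)) j).app
          (i ⁻¹ᵁ (𝒰 u).1)).hom (unitSec i (M j) (𝒰 u).1 (m j)), ?_⟩
      rw [map_sum, hx2]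
      have : unitSec i (ClSub.idealMod i.ker) (𝒰 u).1
          (∑ j, ((Ψ j).app (𝒰 u).1).hom (m j)) =
          ∑ j, unitSec i (ClSub.idealMod i.ker) (𝒰 u).1
            (((Ψ j).app (𝒰 u).1).hom (m j)) := map_sum _ _ _
      refine Eq.trans ?_ this.symm
      refine Finset.sum_congr rfl (fun j _ => ?_)
      rw [biproduct_desc_ι_app, hnat]

end General

/-- coefficients for an element of the span of part of a finite family -/
theorem exists_coeff_of_mem_span_image {A : Type*} [CommRing A] {N : ℕ} (f : Fin N → A)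
    (S : Set (Fin N)) (x : A) (hx : x ∈ Ideal.span (f '' S)) :
    ∃ c : Fin N → A, (∀ t, t ∉ S → c t = 0) ∧ ∑ t, c t * f t = x := by
  classical
  induction hx using Submodule.span_induction with
  | mem x hx =>
    obtain ⟨t, ht, rfl⟩ := hx
    refine ⟨Pi.single t 1, fun t' ht' => ?_, by simp [Pi.single_apply]⟩
    rw [Pi.single_apply]
    split_ifs with h
    · subst h
      exact absurd ht ht'
    · rfl
  | zero => exact ⟨0, fun _ _ => rfl, by simp⟩
  | add x y _ _ hx hy =>
    obtain ⟨c, hc, rfl⟩ := hx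
    obtain ⟨c', hc', rfl⟩ := hy
    exact ⟨c + c', fun t ht => by simp [hc t ht, hc' t ht],
      by simp [add_mul, Finset.sum_add_distrib]⟩
  | smul a x _ hx =>
    obtain ⟨c, hc, rfl⟩ := hx
    refine ⟨fun t => a * c t, fun t ht => by simp [hc t ht], ?_⟩
    rw [smul_eq_mul, Finset.mul_sum]
    exact Finset.sum_congr rfl fun t _ => (mul_assoc _ _ _)

section Sum

variable {X Z : Scheme.{u}} (i : Z ⟶ X) [IsClosedImmersion i] {r : ℕ}
  (K : Fin r → X.IdealSheafData) (hK : ∀ l, K l ≤ i.ker)

theorem chartOK_of_h1 (U : X.affineOpens) {N : ℕ} (b : Fin N → Γ(X, U.1))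
    (hb : CAlgX.IsH1Regular b) (hbI : i.ker.ideal U = Ideal.span (Set.range b))
    (f : Fin N → Γ(X, U.1)) (κ : Fin N → Fin r)
    (hf : ∀ l, (K l).ideal U = Ideal.span (f '' {t | κ t = l}))
    (hsup : i.ker.ideal U = Ideal.span (Set.range f)) :
    ChartOK i (fun l => ClSub.idealMod (K l)) (fun l => idealModLE (hK l)) U := by
  classical
  have hkey : ∀ (l : Fin r) (m : Γ(ClSub.idealMod (K l), U.1)),
      secL i.ker U (((idealModLE (hK l)).app U.1).hom m) =
        ((IdealMod.sectionsEquiv (K l) U m : (K l).ideal U) : Γ(X, U.1)) := by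
    intro l m
    rw [secL_apply, idealModLE_ι_app]
    rfl
  have hfK : ∀ t, f t ∈ (K (κ t)).ideal U := fun t => by
    rw [hf]
    exact Ideal.subset_span ⟨t, rfl, rfl⟩
  constructor
  · intro x
    have hx := secL_mem i.ker U x
    rw [hsup] at hx
    obtain ⟨c, hc⟩ := (Ideal.mem_span_range_iff_exists_fun).mp hx
    have hmem : ∀ l, (∑ t ∈ Finset.univ.filter (fun t => κ t = l), c t * f t) ∈
        (K l).ideal U := by
      intro l
      refine Ideal.sum_mem _ fun t ht => Ideal.mul_mem_left _ _ ?_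
      have h1 := (Finset.mem_filter.mp ht).2
      rw [← h1]
      exact hfK t
    refine ⟨fun l => (IdealMod.sectionsEquiv (K l) U).symm ⟨_, hmem l⟩, ?_⟩
    apply secL_injective i.ker U
    rw [map_sum, ← hc]
    have h2 : ∀ l, secL i.ker U (((idealModLE (hK l)).app U.1).hom
        ((IdealMod.sectionsEquiv (K l) U).symm ⟨_, hmem l⟩)) =
        ∑ t ∈ Finset.univ.filter (fun t => κ t = l), c t * f t := by
      intro l
      rw [hkey, LinearEquiv.apply_symm_apply]
    rw [Finset.sum_congr rfl (fun l _ => h2 l)]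
    exact (Finset.sum_fiberwise Finset.univ κ (fun t => c t * f t)).symm
  · intro m hm l
    have hxl : ∀ l, ∃ c : Fin N → Γ(X, U.1), (∀ t, t ∉ {t | κ t = l} → c t = 0) ∧
        ∑ t, c t * f t =
          ((IdealMod.sectionsEquiv (K l) U (m l) : (K l).ideal U) : Γ(X, U.1)) := by
      intro l
      refine exists_coeff_of_mem_span_image f _ _ ?_
      rw [← hf]
      exact (IdealMod.sectionsEquiv (K l) U (m l)).2
    choose C hC0 hCsum using hxl
    have hsum : ∑ t, C (κ t) t * f t =
        secL i.ker U (∑ l, ((idealModLE (hK l)).app U.1).hom (m l)) := by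
      rw [map_sum, Finset.sum_congr rfl (fun l _ => hkey l (m l)),
        Finset.sum_congr rfl (fun l _ => (hCsum l).symm), Finset.sum_comm]
      refine Finset.sum_congr rfl fun t _ => ?_
      rw [Finset.sum_eq_single (κ t)]
      · intro l _ hl
        rw [hC0 l t (fun h => hl (Eq.symm h)), zero_mul]
      · intro h
        exact absurd (Finset.mem_univ _) h
    have hsq := secL_mem_sq i.ker U _ hm
    rw [← hsum, hbI] at hsq
    have hcI := fun t => coeff_mem_of_h1_gen b hb f (by rw [← hsup, hbI])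
      (fun t => C (κ t) t) hsq t
    let g : Fin N → (K l).ideal U := fun t => if h : κ t = l then ⟨f t, h ▸ hfK t⟩ else 0
    have hml : IdealMod.sectionsEquiv (K l) U (m l) = ∑ t, C l t • g t := by
      apply Subtype.ext
      rw [← hCsum l, Submodule.coe_sum]
      refine Finset.sum_congr rfl fun t _ => ?_
      by_cases h : κ t = l
      · simp [g, h]
      · rw [hC0 l t h]
        simp
    have hm2 : m l = ∑ t, C l t • (IdealMod.sectionsEquiv (K l) U).symm (g t) := by
      apply (IdealMod.sectionsEquiv (K l) U).injective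
      rw [hml, map_sum]
      refine Finset.sum_congr rfl fun t _ => ?_
      rw [LinearEquiv.map_smul, LinearEquiv.apply_symm_apply]
    rw [hm2]
    refine Submodule.sum_mem _ fun t _ => ?_
    by_cases h : κ t = l
    · refine Submodule.smul_mem_smul ?_ Submodule.mem_top
      rw [hbI]
      have h3 := hcI t
      rw [h] at h3
      exact h3
    · rw [hC0 l t h, zero_smul]
      exact Submodule.zero_mem _

end Sum

end Groth.Agent.Lib.helper20.CIdeal
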