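import Mathlib
import Groth.Prelude.Def_RegImm
import Groth.Prelude.Def_Omega2
import Groth.Agent.Lib.Helper20.CIdeal19
import Groth.Agent.Lib.Helper7.KoszulLow
import Groth.Agent.Lib.Helper7.OmegaSeqAlg5

/-!
# The conormal sheaf of an intersection of Koszul-regular closed subschemes (helper20)
-/

set_option autoImplicit false
universe u

open CategoryTheory CategoryTheory.Limits AlgebraicGeometry Opposite TopologicalSpace

namespace Groth.Agent.Lib.helper20.CIdeal

open Scheme.Modules Groth.Agent.Lib.helper8.Dev Groth.Agent.Lib.helper7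

attribute [local instance] Abelian.hasFiniteBiproducts

theorem ofList_map_eq_span_range {A B : Type*} [CommRing A] [CommRing B] (φ : A →+* B)
    (rs : List A) :
    (Ideal.ofList rs).map φ = Ideal.span (Set.range fun t : Fin rs.length => φ (rs.get t)) := by
  unfold Ideal.ofList
  rw [Ideal.map_span]
  congr 1
  ext y
  constructor
  · rintro ⟨x, hx, rfl⟩
    obtain ⟨t, rfl⟩ := List.mem_iff_get.mp hx
    exact ⟨t, rfl⟩
  · rintro ⟨t, rfl⟩
    exact ⟨rs.get t, List.get_mem rs t, rfl⟩

section Chart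

variable {X Y : Scheme.{u}} {r : ℕ} {Xs : Fin r → Scheme.{u}} (j : ∀ l, Xs l ⟶ X)
  [∀ l, IsClosedImmersion (j l)] (d : Fin r → ℕ)
  (hj : ∀ l, RegImm.IsRegularImmersionOfCodim RegImm.Kind.koszul (d l) (j l))
  (i : Y ⟶ X) [IsClosedImmersion i]
  (hY : ∀ U : X.affineOpens, i.ker.ideal U = ⨆ l, (j l).ker.ideal U)
  (g : ∀ l, Y ⟶ Xs l) (hg : ∀ l, g l ≫ j l = i)
  (hi : RegImm.IsRegularImmersionOfCodim RegImm.Kind.koszul (∑ l, d l) i)

include hY in
theorem ker_le (l : Fin r) : (j l).ker ≤ i.ker := by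
  intro U
  rw [hY U]
  exact le_iSup (fun l => (j l).ker.ideal U) l

include hj hY hg hi in
theorem exists_chart (z : Y) : ∃ W : X.affineOpens, i.base z ∈ W.1 ∧
    ChartOK i (fun l => ClSub.idealMod (j l).ker) (fun l => idealModLE (ker_le j i hY l)) W := by
  classical
  obtain ⟨U₀, hz₀, -, rs₀, hlen₀, hseq₀, hker₀⟩ := hi.2 z
  have hex : ∀ l, ∃ U : X.affineOpens, i.base z ∈ U.1 ∧ ∃ rs : List Γ(X, U.1), rs.length = d l ∧
      RingHom.ker ((j l).app U.1).hom = Ideal.ofList rs := by
    intro l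
    obtain ⟨U, hU, -, rs, hlen, -, hker⟩ := (hj l).2 ((g l).base z)
    refine ⟨U, ?_, rs, hlen, hker⟩
    have h1 : (j l).base ((g l).base z) = i.base z := by
      rw [← hg l]
      rfl
    rw [← h1]
    exact hU
  choose Us hzU rss hlen hkerU using hex
  let V : X.Opens := ⟨(U₀.1 : Set X) ∩ ⋂ l, ((Us l).1 : Set X),
    U₀.1.2.inter (isOpen_iInter_of_finite fun l => (Us l).1.2)⟩
  have hzV : i.base z ∈ V := ⟨hz₀, Set.mem_iInter.mpr hzU⟩
  obtain ⟨s, hsV, hzs⟩ := U₀.2.exists_basicOpen_le (V := V) ⟨i.base z, hzV⟩ hz₀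
  let W : X.affineOpens := X.affineBasicOpen s
  have hW₀ : W ≤ U₀ := X.affineBasicOpen_le s
  have hWl : ∀ l, W ≤ Us l := fun l x hx => Set.mem_iInter.mp (hsV hx).2 l
  refine ⟨W, hzs, ?_⟩
  -- the `H_1`-regular generators of the ideal of `i`
  have hH1 : CAlgX.IsH1Regular rs₀.get :=
    KoszulLow.isH1Regular_of_isKoszulRegularSeq _ rs₀ hseq₀
  haveI : IsLocalization (Submonoid.powers s) Γ(X, X.basicOpen s) :=
    U₀.2.isLocalization_basicOpen s
  have hb := OmegaSeqAlg.isH1Regular_of_isLocalization (B' := Γ(X, X.basicOpen s))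
    (Submonoid.powers s) rs₀.get hH1
  have hbI : i.ker.ideal W = Ideal.span (Set.range fun t : Fin rs₀.length =>
      algebraMap Γ(X, U₀.1) Γ(X, X.basicOpen s) (rs₀.get t)) := by
    rw [← i.ker.map_ideal_basicOpen U₀ s, Scheme.Hom.ker_apply, hker₀]
    exact ofList_map_eq_span_range _ rs₀
  let e : (Σ l, Fin (d l)) ≃ Fin rs₀.length := finSigmaFinEquiv.trans (finCongr hlen₀.symm)
  let f' : (Σ l, Fin (d l)) → Γ(X, W.1) := fun p =>
    (X.presheaf.map (homOfLE (hWl p.1)).op).hom ((rss p.1).get (Fin.cast (hlen p.1).symm p.2))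
  let f : Fin rs₀.length → Γ(X, W.1) := fun t => f' (e.symm t)
  let κ : Fin rs₀.length → Fin r := fun t => (e.symm t).1
  have hf : ∀ l, (j l).ker.ideal W = Ideal.span (f '' {t | κ t = l}) := by
    intro l
    rw [← (j l).ker.map_ideal (hWl l), Scheme.Hom.ker_apply, hkerU l, ofList_map_eq_span_range]
    congr 1
    ext y
    constructor
    · rintro ⟨t, rfl⟩
      refine ⟨e ⟨l, Fin.cast (hlen l) t⟩, ?_, ?_⟩
      · show (e.symm (e _)).1 = l
        rw [Equiv.symm_apply_apply]
      · show f' (e.symm (e _)) = _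
        rw [Equiv.symm_apply_apply]
        rfl
    · rintro ⟨t, ht, rfl⟩
      obtain ⟨⟨l', q⟩, rfl⟩ := e.surjective t
      have hl : l' = l := by
        have : (e.symm (e ⟨l', q⟩)).1 = l := ht
        rwa [Equiv.symm_apply_apply] at this
      subst hl
      refine ⟨Fin.cast (hlen l').symm q, ?_⟩
      show _ = f' (e.symm (e ⟨l', q⟩))
      rw [Equiv.symm_apply_apply]
  have hsup : i.ker.ideal W = Ideal.span (Set.range f) := by
    rw [hY W]
    have hr : Set.range f = ⋃ l, f '' {t | κ t = l} := by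
      ext y
      simp only [Set.mem_range, Set.mem_iUnion, Set.mem_image, Set.mem_setOf_eq]
      constructor
      · rintro ⟨t, rfl⟩
        exact ⟨κ t, t, rfl, rfl⟩
      · rintro ⟨l, t, -, rfl⟩
        exact ⟨t, rfl⟩
    rw [hr, Ideal.span_iUnion]
    exact iSup_congr hf
  exact chartOK_of_h1 i (fun l => (j l).ker) (ker_le j i hY) W _ hb hbI f κ hf hsup

include hj hY hg hi in
/-- **the conormal sheaf of an intersection of Koszul-regular closed subschemes** is the direct sum
of the restrictions of the conormal sheaves, when the intersection has the expected codimension -/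
theorem conormal_intersection : Nonempty (Omega.conormal i ≅
    ∐ fun l => (Scheme.Modules.pullback (g l)).obj (Omega.conormal (j l))) := by
  classical
  haveI : ∀ l, (ClSub.idealMod (j l).ker).IsQuasicoherent := fun l => IdealMod.idealMod_qcoh _
  choose W hzW hW using exists_chart j d hj i hY g hg hi
  haveI := isIso_desc_of_chartOK i (fun l => ClSub.idealMod (j l).ker)
    (fun l => idealModLE (ker_le j i hY l)) W (fun z => ⟨z, hzW z⟩) hW
  refine ⟨(asIso (biproduct.desc (fun l => (Scheme.Modules.pullback i).map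
    (idealModLE (ker_le j i hY l))))).symm ≪≫ biproduct.isoCoproduct _ ≪≫
    Sigma.mapIso (fun l => ?_)⟩
  exact eqToIso (by rw [hg l]) ≪≫
    ((Scheme.Modules.pullbackComp (g l) (j l)).app (ClSub.idealMod (j l).ker)).symm

end Chart

end Groth.Agent.Lib.helper20.CIdeal
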