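import Mathlib
import Groth.Agent.Lib.Helper20.CMVanish
import Groth.Agent.Lib.Helper20.LargeTwist6

/-!
# Duality (vanishing form) implies Cohen–Macaulay, on a closed subscheme of `P^N_k` (helper20)
-/

set_option autoImplicit false

universe u

open CategoryTheory Limits Opposite TopologicalSpace AlgebraicGeometry

namespace Groth.Agent.Lib.Helper20.LargeTwist

variable {k : Type u} [Field k] {N : ℕ} {X : Scheme.{u}} (ι : X ⟶ CohB1.ProjSpace N k)
  [IsClosedImmersion ι]

include ι in
/-- if `Ext^i(F, ω)` and `H^{n-i}(X, F)` vanish together for all coherent `F` and `i ≤ n = dim X`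
(`ω` coherent), then the local rings of `X` at closed points are Cohen–Macaulay of dimension `n`
(conditional on the stalk criterion) -/
theorem cm_of_dual (hcrit : StalkCritAll k N) (n : ℕ) (hn : topologicalKrullDim ↥X = n)
    [HasExt.{u} X.Modules] (ω : X.Modules) (hω : Coh.IsCoh ω)
    (h : ∀ F : X.Modules, Coh.IsCoh F → ∀ i : ℕ, i ≤ n →
        (Subsingleton (Abelian.Ext.{u} F ω i) ↔ Subsingleton (Coh.HH X F (n - i)))) :
    ∀ x : X, IsClosed ({x} : Set ↥X) →
      LocCoh.IsCohenMacaulayLocalRing (X.presheaf.stalk x) ∧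
        ringKrullDim (X.presheaf.stalk x) = n := by
  have hp : ∀ p : ℕ, p < n → ∃ m₀ : ℤ, ∀ m : ℤ, m₀ ≤ m → Subsingleton (Coh.HH X
      ((Scheme.Modules.pullback ι).obj (Twist.twistProjSpace N k (-m))) p) := fun p hp =>
    exists_subsingleton_HH_pullback_of_dual k N ι n n ω _
      (Groth.Agent.Lib.Lead.ProjectiveCoh.isCoh_push ι hω) ⟨Iso.refl _⟩ h p (by omega) hp
  refine cm_of_vanishing_structure ι hcrit n hn ?_
  classical
  let d : ℕ → ℤ := fun p => if hp' : p < n then (hp p hp').choose else 0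
  obtain ⟨m₀, hm₀⟩ := ((Finset.range n).image d).exists_le
  refine ⟨m₀.toNat, fun q hq j hj => ?_⟩
  have h1 : d j ≤ m₀ := hm₀ _ (Finset.mem_image_of_mem d (Finset.mem_range.mpr hj))
  have h2 : d j = (hp j hj).choose := dif_pos hj
  have h3 := (hp j hj).choose_spec (q : ℤ) (by omega)
  exact (hhAddEquiv (Groth.Agent.Lib.Lead.ModTensor.leftUnitor
    ((Scheme.Modules.pullback ι).obj (Twist.twistProjSpace N k (-(q : ℤ))))) j).toEquiv.subsingleton_congr.mpr h3

end Groth.Agent.Lib.Helper20.LargeTwist
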