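import Mathlib
import Groth.Prelude.Def_E1Deg

set_option autoImplicit false

/-!
# The long exact sequence of the stupid filtration (pieces used for de Rham cohomology)
-/

namespace Groth.Agent.Lib.helper20.DRFilt1

open CategoryTheory Limits Pretriangulated

universe w v u

section tri

variable {D : Type*} [Category D] [Preadditive D] [HasZeroObject D] [HasShift D ℤ]
  [∀ n : ℤ, (shiftFunctor D n).Additive] [Pretriangulated D]
  (T : Triangle D) (hT : T ∈ distTriang D)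

include hT

/-- exactness at the middle term after shifting by `a` -/
lemma shift_exact₂ (a : ℤ) {P : D} (y : P ⟶ T.obj₂⟦a⟧) (hy : y ≫ T.mor₂⟦a⟧' = 0) :
    ∃ x : P ⟶ T.obj₁⟦a⟧, x ≫ T.mor₁⟦a⟧' = y := by
  have hT' := Triangle.shift_distinguished T hT a
  obtain ⟨x, hx'⟩ : ∃ x : P ⟶ T.obj₁⟦a⟧, y = x ≫ (a.negOnePow • T.mor₁⟦a⟧') :=
    Triangle.coyoneda_exact₂ _ hT' y (by
      change y ≫ (a.negOnePow • T.mor₂⟦a⟧') = 0
      rw [Units.smul_def, Preadditive.comp_zsmul, hy, smul_zero])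
  refine ⟨a.negOnePow • x, ?_⟩
  rw [hx', Units.smul_def, Units.smul_def, Preadditive.zsmul_comp, Preadditive.comp_zsmul]

/-- surjectivity of the second map when the next term vanishes -/
lemma shift_epi₂ (a : ℤ) {P : D} (h : Subsingleton (P ⟶ T.obj₁⟦a + 1⟧)) (z : P ⟶ T.obj₃⟦a⟧) :
    ∃ y : P ⟶ T.obj₂⟦a⟧, y ≫ T.mor₂⟦a⟧' = z := by
  have hT' := Triangle.shift_distinguished T hT a
  have hsub : Subsingleton (P ⟶ (T.obj₁⟦a⟧)⟦(1 : ℤ)⟧) := by
    let e : T.obj₁⟦a + 1⟧ ≅ (T.obj₁⟦a⟧)⟦(1 : ℤ)⟧ :=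
      (shiftFunctorAdd' D a 1 (a + 1) rfl).app T.obj₁
    refine ⟨fun f g => ?_⟩
    have : f ≫ e.inv = g ≫ e.inv := Subsingleton.elim _ _
    exact (cancel_mono e.inv).1 this
  obtain ⟨y, hy'⟩ : ∃ y : P ⟶ T.obj₂⟦a⟧, z = y ≫ (a.negOnePow • T.mor₂⟦a⟧') :=
    Triangle.coyoneda_exact₃ _ hT' z (@Subsingleton.elim _ hsub _ _)
  refine ⟨a.negOnePow • y, ?_⟩
  rw [hy', Units.smul_def, Units.smul_def, Preadditive.zsmul_comp, Preadditive.comp_zsmul]

/-- injectivity of the first map when the previous term vanishes -/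
lemma shift_mono₁ (a : ℤ) {P : D} (h : Subsingleton (P ⟶ T.obj₃⟦a - 1⟧)) (x : P ⟶ T.obj₁⟦a⟧)
    (hx : x ≫ T.mor₁⟦a⟧' = 0) : x = 0 := by
  have hT' := inv_rot_of_distTriang _ hT
  have hsub : Subsingleton (P ⟶ (T.obj₃⟦(-1 : ℤ)⟧)⟦a⟧) := by
    let e : T.obj₃⟦a - 1⟧ ≅ (T.obj₃⟦(-1 : ℤ)⟧)⟦a⟧ :=
      (shiftFunctorAdd' D (-1) a (a - 1) (by omega)).app T.obj₃
    refine ⟨fun f g => ?_⟩
    have : f ≫ e.inv = g ≫ e.inv := Subsingleton.elim _ _
    exact (cancel_mono e.inv).1 this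
  obtain ⟨w, hw⟩ : ∃ w : P ⟶ (T.obj₃⟦(-1 : ℤ)⟧)⟦a⟧, w ≫ T.invRotate.mor₁⟦a⟧' = x :=
    shift_exact₂ T.invRotate hT' a (P := P) x hx
  have hw0 : w = 0 := @Subsingleton.elim _ hsub _ _
  rw [← hw, hw0]
  exact zero_comp

end tri

section ses

variable {𝒜 : Type u} [Category.{v} 𝒜] [Abelian 𝒜] (K : CochainComplex 𝒜 ℤ) (i : ℤ)

lemma isZero_sigmaGE_X_of_lt (m : ℤ) (hm : m < i) : IsZero ((E1Deg.sigmaGE K i).X m) := by
  refine K.isZero_stupidTrunc_X (E1Deg.emb i) m ?_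
  intro n hn
  simp only [ComplexShape.embeddingUpIntGE_f] at hn
  omega

lemma isZero_single_X_of_ne (X : 𝒜) (m : ℤ) (hm : m ≠ i) :
    IsZero (((HomologicalComplex.single 𝒜 (ComplexShape.up ℤ) i).obj X).X m) :=
  HomologicalComplex.isZero_single_obj_X (ComplexShape.up ℤ) i X m hm

lemma ιSucc_comp_π : E1Deg.sigmaGEιSucc K i ≫ E1Deg.sigmaGEπ K i = 0 := by
  apply HomologicalComplex.to_single_hom_ext
  exact (isZero_sigmaGE_X_of_lt K (i + 1) i (by omega)).eq_of_src _ _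

/-- the short complex `σ_{≥ i+1} K ⟶ σ_{≥ i} K ⟶ K^i[-i]` -/
noncomputable def sesK : ShortComplex (CochainComplex 𝒜 ℤ) :=
  ShortComplex.mk (E1Deg.sigmaGEιSucc K i) (E1Deg.sigmaGEπ K i) (ιSucc_comp_π K i)

lemma isIso_ιSucc_f (m : ℤ) (hm : i < m) : IsIso ((E1Deg.sigmaGEιSucc K i).f m) := by
  obtain ⟨n, hn⟩ : ∃ n : ℕ, (E1Deg.emb (i + 1)).f n = m := by
    refine ⟨(m - (i + 1)).toNat, ?_⟩
    simp only [ComplexShape.embeddingUpIntGE_f]
    omega
  rw [E1Deg.sigmaGEιSucc_f_eq K i hn]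
  infer_instance

lemma isIso_π_f : IsIso ((E1Deg.sigmaGEπ K i).f i) := by
  rw [E1Deg.sigmaGEπ_f]
  infer_instance

lemma shortExact_sesK : (sesK K i).ShortExact := by
  refine HomologicalComplex.shortExact_of_degreewise_shortExact _ (fun m => ?_)
  rcases lt_trichotomy m i with hm | hm | hm
  · -- everything is zero
    have h1 : IsZero ((E1Deg.sigmaGE K (i + 1)).X m) := isZero_sigmaGE_X_of_lt K (i + 1) m (by omega)
    have h2 : IsZero ((E1Deg.sigmaGE K i).X m) := isZero_sigmaGE_X_of_lt K i m hm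
    have h3 : IsZero (((HomologicalComplex.single 𝒜 (ComplexShape.up ℤ) i).obj (K.X i)).X m) :=
      isZero_single_X_of_ne i (K.X i) m (by omega)
    exact { exact := ShortComplex.exact_of_isZero_X₂ _ h2
            mono_f := ⟨fun _ _ _ => h1.eq_of_tgt _ _⟩
            epi_g := ⟨fun _ _ _ => h3.eq_of_src _ _⟩ }
  · subst hm
    have h1 : IsZero ((E1Deg.sigmaGE K (m + 1)).X m) := isZero_sigmaGE_X_of_lt K (m + 1) m (by omega)
    haveI : IsIso ((E1Deg.sigmaGEπ K m).f m) := isIso_π_f K m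
    have hf : ((sesK K m).map (HomologicalComplex.eval 𝒜 (ComplexShape.up ℤ) m)).f = 0 :=
      h1.eq_of_src _ _
    exact { exact := (ShortComplex.exact_iff_mono _ hf).2
              (inferInstanceAs (Mono ((E1Deg.sigmaGEπ K m).f m)))
            mono_f := ⟨fun _ _ _ => h1.eq_of_tgt _ _⟩
            epi_g := inferInstanceAs (Epi ((E1Deg.sigmaGEπ K m).f m)) }
  · have h3 : IsZero (((HomologicalComplex.single 𝒜 (ComplexShape.up ℤ) i).obj (K.X i)).X m) :=
      isZero_single_X_of_ne i (K.X i) m (by omega)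
    haveI : IsIso ((E1Deg.sigmaGEιSucc K i).f m) := isIso_ιSucc_f K i m hm
    have hg : ((sesK K i).map (HomologicalComplex.eval 𝒜 (ComplexShape.up ℤ) m)).g = 0 :=
      h3.eq_of_tgt _ _
    exact { exact := (ShortComplex.exact_iff_epi _ hg).2
              (inferInstanceAs (Epi ((E1Deg.sigmaGEιSucc K i).f m)))
            mono_f := inferInstanceAs (Mono ((E1Deg.sigmaGEιSucc K i).f m))
            epi_g := ⟨fun _ _ _ => h3.eq_of_src _ _⟩ }

end ses

section HT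

variable {𝒜 : Type u} [Category.{v} 𝒜] [Abelian 𝒜] [HasDerivedCategory.{w} 𝒜]
  (T : 𝒜) (K : CochainComplex 𝒜 ℤ) (i a : ℤ)

/-- exactness of `H_T^a(σ_{≥ i+1}) → H_T^a(σ_{≥ i}) → H_T^a(K^i[-i])` in the middle -/
lemma exact_mid (y : E1Deg.HT T (E1Deg.sigmaGE K i) a)
    (hy : E1Deg.HTmap T (E1Deg.sigmaGEπ K i) a y = 0) :
    ∃ x, E1Deg.HTmap T (E1Deg.sigmaGEιSucc K i) a x = y :=
  shift_exact₂ (DerivedCategory.triangleOfSES (shortExact_sesK K i))
    (DerivedCategory.triangleOfSES_distinguished _) a y hy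

lemma surjective_π (h : Subsingleton (E1Deg.HT T (E1Deg.sigmaGE K (i + 1)) (a + 1))) :
    Function.Surjective (E1Deg.HTmap T (E1Deg.sigmaGEπ K i) a) := fun z =>
  shift_epi₂ (DerivedCategory.triangleOfSES (shortExact_sesK K i))
    (DerivedCategory.triangleOfSES_distinguished _) a h z

lemma injective_ιSucc
    (h : Subsingleton (E1Deg.HT T ((HomologicalComplex.single 𝒜 (ComplexShape.up ℤ) i).obj (K.X i))
      (a - 1))) :
    Function.Injective (E1Deg.HTmap T (E1Deg.sigmaGEιSucc K i) a) := by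
  rw [injective_iff_map_eq_zero]
  intro x hx
  exact shift_mono₁ (DerivedCategory.triangleOfSES (shortExact_sesK K i))
    (DerivedCategory.triangleOfSES_distinguished _) a h x hx

lemma surjective_ιSucc
    (h : Subsingleton (E1Deg.HT T ((HomologicalComplex.single 𝒜 (ComplexShape.up ℤ) i).obj (K.X i))
      a)) :
    Function.Surjective (E1Deg.HTmap T (E1Deg.sigmaGEιSucc K i) a) := fun y =>
  exact_mid T K i a y (Subsingleton.elim _ _)

lemma injective_π (h : Subsingleton (E1Deg.HT T (E1Deg.sigmaGE K (i + 1)) a)) :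
    Function.Injective (E1Deg.HTmap T (E1Deg.sigmaGEπ K i) a) := by
  rw [injective_iff_map_eq_zero]
  intro y hy
  obtain ⟨x, rfl⟩ := exact_mid T K i a y hy
  rw [Subsingleton.elim x 0, map_zero]

/-- a complex concentrated in degrees `≥ b` has no `H_T^a` for `a < b` -/
lemma subsingleton_HT_of_isStrictlyGE (L : CochainComplex 𝒜 ℤ) (b : ℤ) [L.IsStrictlyGE b]
    (h : a < b) : Subsingleton (E1Deg.HT T L a) := by
  haveI : (L⟦a⟧).IsStrictlyGE (b - a) := CochainComplex.isStrictlyGE_shift L b a (b - a) (by omega)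
  have hs := DerivedCategory.subsingleton_hom_of_isStrictlyLE_of_isStrictlyGE
    ((CochainComplex.singleFunctor 𝒜 0).obj T) (L⟦a⟧) 0 (b - a) (by omega)
  let e₁ : (DerivedCategory.singleFunctor 𝒜 0).obj T ≅
      DerivedCategory.Q.obj ((CochainComplex.singleFunctor 𝒜 0).obj T) :=
    (DerivedCategory.singleFunctorIsoCompQ 𝒜 0).app T
  let e₂ : DerivedCategory.Q.obj (L⟦a⟧) ≅ (DerivedCategory.Q.obj L)⟦a⟧ :=
    (DerivedCategory.Q.commShiftIso a).app L
  refine ⟨fun f g => ?_⟩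
  have : e₁.inv ≫ f ≫ e₂.inv = e₁.inv ≫ g ≫ e₂.inv := Subsingleton.elim _ _
  exact (cancel_mono e₂.inv).1 ((cancel_epi e₁.inv).1 (by simpa using this))

lemma subsingleton_HT_sigmaGE (h : a < i) : Subsingleton (E1Deg.HT T (E1Deg.sigmaGE K i) a) :=
  subsingleton_HT_of_isStrictlyGE T a (E1Deg.sigmaGE K i) i h

lemma subsingleton_HT_single (X : 𝒜) (h : a < i) :
    Subsingleton (E1Deg.HT T ((HomologicalComplex.single 𝒜 (ComplexShape.up ℤ) i).obj X) a) :=
  subsingleton_HT_of_isStrictlyGE T a _ i h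

/-- if all terms of `K` in degrees `≥ i` vanish then `σ_{≥ i} K` has no `H_T` -/
lemma subsingleton_HT_sigmaGE_of_isZero (hK : ∀ m : ℤ, i ≤ m → IsZero (K.X m)) :
    Subsingleton (E1Deg.HT T (E1Deg.sigmaGE K i) a) := by
  have hz : IsZero (E1Deg.sigmaGE K i) := by
    rw [IsZero.iff_id_eq_zero]
    ext m
    refine IsZero.eq_of_src ?_ _ _
    by_cases hm : m < i
    · exact isZero_sigmaGE_X_of_lt K i m hm
    · obtain ⟨n, hn⟩ : ∃ n : ℕ, (E1Deg.emb i).f n = m := by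
        refine ⟨(m - i).toNat, ?_⟩
        simp only [ComplexShape.embeddingUpIntGE_f]
        omega
      exact (hK m (by omega)).of_iso (K.stupidTruncXIso (E1Deg.emb i) hn)
  have hz' : IsZero ((DerivedCategory.Q.obj (E1Deg.sigmaGE K i))⟦a⟧) :=
    Functor.map_isZero _ (Functor.map_isZero _ hz)
  exact ⟨fun f g => hz'.eq_of_tgt _ _⟩

/-- if `K` vanishes below degree `i` then `H_T(σ_{≥ i} K) = H_T(K)` -/
lemma bijective_HTmap_ι (hK : ∀ m : ℤ, m < i → IsZero (K.X m)) :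
    Function.Bijective (E1Deg.HTmap T (E1Deg.sigmaGEι K i) a) := by
  have := E1Deg.isIso_sigmaGEι K i hK
  constructor
  · intro x y hxy
    rw [E1Deg.HTmap_apply, E1Deg.HTmap_apply] at hxy
    exact (cancel_mono _).1 hxy
  · intro y
    refine ⟨y ≫ inv ((shiftFunctor (DerivedCategory 𝒜) a).map
      (DerivedCategory.Q.map (E1Deg.sigmaGEι K i))), ?_⟩
    rw [E1Deg.HTmap_apply, Category.assoc, IsIso.inv_hom_id, Category.comp_id]

end HT

end Groth.Agent.Lib.helper20.DRFilt1
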