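import Groth.Agent.Lib.Helper20.DRFilt1

set_option autoImplicit false

/-!
# Hypercohomology of a bounded complex whose graded pieces have "diagonal" cohomology
-/

namespace Groth.Agent.Lib.helper20.DRFilt2

open CategoryTheory Limits Groth.Agent.Lib.helper20.DRFilt1

universe w v u

variable {𝒜 : Type u} [Category.{v} 𝒜] [Abelian 𝒜] [HasDerivedCategory.{w} 𝒜]
  (T : 𝒜) (K : CochainComplex 𝒜 ℤ) (N : ℕ)

/-- the graded piece group -/
abbrev G (p : ℕ) (a : ℤ) : Type w :=
  E1Deg.HT T ((HomologicalComplex.single 𝒜 (ComplexShape.up ℤ) (p : ℤ)).obj (K.X p)) a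

variable (hbig : ∀ m : ℤ, (N : ℤ) < m → IsZero (K.X m))
  (hG : ∀ (p : ℕ) (a : ℤ), p ≤ N → a ≠ 2 * (p : ℤ) → Subsingleton (G T K p a))

include hbig hG in
lemma vanish_aux (k : ℕ) : ∀ (p : ℕ), p + k = N + 1 → ∀ (a : ℤ),
    (∀ i : ℕ, p ≤ i → i ≤ N → a ≠ 2 * (i : ℤ)) →
    Subsingleton (E1Deg.HT T (E1Deg.sigmaGE K (p : ℤ)) a) := by
  induction k with
  | zero =>
      intro p hp a _
      refine subsingleton_HT_sigmaGE_of_isZero T K (p : ℤ) a (fun m hm => hbig m ?_)
      have : (p : ℤ) = N + 1 := by exact_mod_cast (by omega : p = N + 1)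
      omega
  | succ k ih =>
      intro p hp a ha
      have h1 : Subsingleton (E1Deg.HT T (E1Deg.sigmaGE K ((p : ℤ) + 1)) a) := by
        have := ih (p + 1) (by omega) a (fun i hi hiN => ha i (by omega) hiN)
        rwa [Nat.cast_succ] at this
      have h2 : Subsingleton (G T K p a) := hG p a (by omega) (ha p le_rfl (by omega))
      have hs := surjective_ιSucc T K (p : ℤ) a h2
      exact hs.subsingleton

include hbig hG in
/-- vanishing of `H_T^a(σ_{≥ p} K)` off the diagonal degrees -/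
lemma vanish (p : ℕ) (hp : p ≤ N + 1) (a : ℤ)
    (ha : ∀ i : ℕ, p ≤ i → i ≤ N → a ≠ 2 * (i : ℤ)) :
    Subsingleton (E1Deg.HT T (E1Deg.sigmaGE K (p : ℤ)) a) :=
  vanish_aux T K N hbig hG (N + 1 - p) p (by omega) a ha

variable (hneg : ∀ m : ℤ, m < 0 → IsZero (K.X m))

include hneg in
lemma bijective_ι (p : ℕ) (a : ℤ)
    (h : ∀ q : ℕ, q < p → Subsingleton (G T K q a) ∧ Subsingleton (G T K q (a - 1))) :
    Function.Bijective (E1Deg.HTmap T (E1Deg.sigmaGEι K (p : ℤ)) a) := by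
  induction p with
  | zero =>
      rw [Nat.cast_zero]
      exact bijective_HTmap_ι T K 0 a hneg
  | succ p ih =>
      have h1 := ih (fun q hq => h q (by omega))
      have h2 : Function.Bijective (E1Deg.HTmap T (E1Deg.sigmaGEιSucc K (p : ℤ)) a) :=
        ⟨injective_ιSucc T K (p : ℤ) a (h p (by omega)).2,
          surjective_ιSucc T K (p : ℤ) a (h p (by omega)).1⟩
      have h3 : ∀ x, E1Deg.HTmap T (E1Deg.sigmaGEι K ((p : ℤ) + 1)) a x =
          E1Deg.HTmap T (E1Deg.sigmaGEι K (p : ℤ)) a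
            (E1Deg.HTmap T (E1Deg.sigmaGEιSucc K (p : ℤ)) a x) := by
        intro x
        rw [← E1Deg.HTmap_comp, E1Deg.sigmaGEιSucc_comp_ι]
      have h4 : Function.Bijective (E1Deg.HTmap T (E1Deg.sigmaGEι K ((p : ℤ) + 1)) a) := by
        have : (E1Deg.HTmap T (E1Deg.sigmaGEι K ((p : ℤ) + 1)) a : _ → _) =
            (E1Deg.HTmap T (E1Deg.sigmaGEι K (p : ℤ)) a) ∘
              (E1Deg.HTmap T (E1Deg.sigmaGEιSucc K (p : ℤ)) a) := funext h3
        rw [this]
        exact h1.comp h2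
      rw [Nat.cast_succ]
      exact h4

include hbig hG in
lemma bijective_π (i : ℕ) (hi : i ≤ N) :
    Function.Bijective (E1Deg.HTmap T (E1Deg.sigmaGEπ K (i : ℤ)) (2 * (i : ℤ))) := by
  have h1 : Subsingleton (E1Deg.HT T (E1Deg.sigmaGE K ((i : ℤ) + 1)) (2 * (i : ℤ))) := by
    have := vanish T K N hbig hG (i + 1) (by omega) (2 * (i : ℤ)) (fun j hj _ => by
      have : (i : ℤ) + 1 ≤ j := by exact_mod_cast hj
      omega)
    rwa [Nat.cast_succ] at this
  have h2 : Subsingleton (E1Deg.HT T (E1Deg.sigmaGE K ((i : ℤ) + 1)) (2 * (i : ℤ) + 1)) := by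
    have := vanish T K N hbig hG (i + 1) (by omega) (2 * (i : ℤ) + 1) (fun j _ _ => by omega)
    rwa [Nat.cast_succ] at this
  exact ⟨injective_π T K (i : ℤ) _ h1, surjective_π T K (i : ℤ) _ h2⟩

include hbig hG hneg in
/-- vanishing of hypercohomology off the even degrees `0, 2, …, 2N` -/
theorem subsingleton_HT (a : ℤ) (ha : ∀ i : ℕ, i ≤ N → a ≠ 2 * (i : ℤ)) :
    Subsingleton (E1Deg.HT T K a) := by
  have h1 := vanish T K N hbig hG 0 (by omega) a (fun i _ hi => ha i hi)
  have h2 := bijective_ι T K hneg 0 a (fun q hq => absurd hq (by omega))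
  exact h2.2.subsingleton

include hbig hG hneg in
/-- in degree `2i` the hypercohomology is the graded piece, through the two natural maps -/
theorem bijective_pair (i : ℕ) (hi : i ≤ N) :
    Function.Bijective (E1Deg.HTmap T (E1Deg.sigmaGEι K (i : ℤ)) (2 * (i : ℤ))) ∧
      Function.Bijective (E1Deg.HTmap T (E1Deg.sigmaGEπ K (i : ℤ)) (2 * (i : ℤ))) := by
  refine ⟨bijective_ι T K hneg i _ (fun q hq => ?_), bijective_π T K N hbig hG i hi⟩
  have hq' : (q : ℤ) < i := by exact_mod_cast hq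
  exact ⟨hG q _ (by omega) (by omega), hG q _ (by omega) (by omega)⟩

end Groth.Agent.Lib.helper20.DRFilt2
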