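import Groth.Agent.Lib.Helper20.DRFilt2
import Groth.Prelude.Def_E1Deg2
import Groth.Prelude.Def_DeRham2

set_option autoImplicit false

/-!
# The graded pieces of the stupid filtration of a de Rham complex are Hodge cohomology groups
-/

namespace Groth.Agent.Lib.helper20.DRFilt3

open CategoryTheory Limits AlgebraicGeometry TopologicalSpace Groth.Agent.Lib.helper20.DRFilt1
  Groth.Agent.Lib.helper20.DRFilt2

universe w u

variable {X S : Scheme.{u}} {f : X ⟶ S} {Ω' : X.Modules} {δ : OmegaSh.Der f Ω'}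

/-- the degree-`n` term of `D.KZ` is the abelian sheaf of `D.term n` -/
noncomputable def KZXIso (D : DeRhamSh.Cx f Ω' δ) (n : ℕ) : D.KZ.X (n : ℤ) ≅ Coh.toAb (D.term n) :=
  D.K.extendXIso ComplexShape.embeddingUpNat (ComplexShape.embeddingUpNat_f n) ≪≫ D.iso n

lemma isZero_KZ_neg (D : DeRhamSh.Cx f Ω' δ) (m : ℤ) (hm : m < 0) : IsZero (D.KZ.X m) := by
  refine D.K.isZero_extend_X ComplexShape.embeddingUpNat m ?_
  intro n hn
  simp only [ComplexShape.embeddingUpNat_f] at hn
  omega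

lemma isZero_KZ_of_isZero_term (D : DeRhamSh.Cx f Ω' δ) (n : ℕ) (h : IsZero (D.term n)) :
    IsZero (D.KZ.X (n : ℤ)) :=
  ((SheafOfModules.toSheaf X.ringCatSheaf).map_isZero h).of_iso (KZXIso D n)

variable [HasDerivedCategory.{w} (Sheaf (Opens.grothendieckTopology X) AddCommGrpCat.{u})]

/-- graded piece of the stupid filtration = Hodge cohomology -/
noncomputable def gradedEquivHH (D : DeRhamSh.Cx f Ω' δ) (n m : ℕ) (a : ℤ) (h : (n : ℤ) + m = a) :
    E1Deg.HT (CohCx.freeSheaf (Opens.grothendieckTopology X) ⊤)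
        ((HomologicalComplex.single _ (ComplexShape.up ℤ) (n : ℤ)).obj (D.KZ.X n)) a ≃+
      Coh.HH X (D.term n) m :=
  ((E1Deg.HTsingleEquiv _ _ (n : ℤ) a m h).trans (E1Deg.extCongrRight _ (KZXIso D n) m)).trans
    (E1Deg.extCongrLeft (E1Deg.freeSheafIsoConstant (Opens.grothendieckTopology X)
      (CategoryTheory.Limits.isTerminalTop : IsTerminal (⊤ : X.Opens))) _ m)

/-- off-diagonal vanishing of graded pieces from off-diagonal vanishing of Hodge cohomology -/
lemma subsingleton_G (D : DeRhamSh.Cx f Ω' δ) (p : ℕ) (a : ℤ) (ha : a ≠ 2 * (p : ℤ))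
    (hH : ∀ q : ℕ, q ≠ p → Subsingleton (Coh.HH X (D.term p) q)) :
    Subsingleton (G (CohCx.freeSheaf (Opens.grothendieckTopology X) ⊤) D.KZ p a) := by
  by_cases hlt : a < p
  · exact subsingleton_HT_single _ (p : ℤ) a _ hlt
  · obtain ⟨m, hm⟩ : ∃ m : ℕ, (p : ℤ) + m = a := ⟨(a - p).toNat, by omega⟩
    have := hH m (by intro h; subst h; omega)
    exact (gradedEquivHH D p m a hm).toEquiv.subsingleton

end Groth.Agent.Lib.helper20.DRFilt3
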