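import Mathlib

/-!
# Extending a derivation to a localization; the quotient rule (helper20)

* `locDer M δ : Derivation R T T` for `δ : Derivation R S S` and `T` a localization of `S` at `M`.
* `locDer_algebraMap`, `locDer_mk'` (quotient rule).
-/

set_option autoImplicit false
universe u

namespace Groth.Agent.Lib.helper20.Euler1

section loc

variable {R S T : Type u} [CommRing R] [CommRing S] [CommRing T] [Algebra R S] [Algebra S T]
  [Algebra R T] [IsScalarTower R S T] (M : Submonoid S) [IsLocalization M T]

include M in
lemma isUnit_end (x : M) : IsUnit (algebraMap S (Module.End S T) x) := by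
  rw [Module.End.isUnit_iff]
  have hu : IsUnit (algebraMap S T x) := IsLocalization.map_units T x
  constructor
  · intro a b hab
    have : algebraMap S T x * a = algebraMap S T x * b := by
      simpa [Algebra.smul_def] using hab
    exact hu.mul_left_cancel this
  · intro b
    obtain ⟨v, hv⟩ := hu
    refine ⟨v.inv * b, ?_⟩
    change (x : S) • (v.inv * b) = b
    rw [Algebra.smul_def, ← hv, ← mul_assoc]
    simp

/-- the `S`-linear map `Ω[S/R] → T` attached to `δ` -/
noncomputable def preLin (δ : Derivation R S S) : Ω[S⁄R] →ₗ[S] T :=
  (Algebra.linearMap S T) ∘ₗ δ.liftKaehlerDifferential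

/-- the extension of a derivation to a localization -/
noncomputable def locDer (δ : Derivation R S S) : Derivation R T T :=
  (LinearMap.extendScalarsOfIsLocalization M T
    (IsLocalizedModule.lift M (KaehlerDifferential.map R R S T) (preLin δ)
      (isUnit_end M))).compDer (KaehlerDifferential.D R T)

lemma locDer_algebraMap (δ : Derivation R S S) (a : S) :
    locDer M δ (algebraMap S T a) = algebraMap S T (δ a) := by
  unfold locDer
  change (LinearMap.extendScalarsOfIsLocalization M T
    (IsLocalizedModule.lift M (KaehlerDifferential.map R R S T) (preLin δ)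
      (isUnit_end M))) (KaehlerDifferential.D R T (algebraMap S T a)) = _
  rw [LinearMap.extendScalarsOfIsLocalization_apply',
    ← KaehlerDifferential.map_D R R S T, IsLocalizedModule.lift_apply]
  simp [preLin]

lemma locDer_mk' (δ : Derivation R S S) (a : S) (s : M) :
    locDer M δ (IsLocalization.mk' T a s) =
      IsLocalization.mk' T (s.1 * δ a - a * δ s.1) (s * s) := by
  set q := IsLocalization.mk' T a s with hq
  have h1 : q * algebraMap S T s.1 = algebraMap S T a := IsLocalization.mk'_spec T a s
  have h2 := congrArg (locDer M δ) h1
  rw [Derivation.leibniz, locDer_algebraMap, locDer_algebraMap, smul_eq_mul, smul_eq_mul] at h2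
  rw [IsLocalization.eq_mk'_iff_mul_eq]
  have h3 : locDer M δ q * algebraMap S T s.1 = algebraMap S T (δ a) - q * algebraMap S T (δ s.1) := by
    rw [← h2]; ring
  calc locDer M δ q * algebraMap S T ((s * s : M) : S)
      = (locDer M δ q * algebraMap S T s.1) * algebraMap S T s.1 := by
        rw [Submonoid.coe_mul, map_mul]; ring
    _ = algebraMap S T (δ a) * algebraMap S T s.1 - (q * algebraMap S T s.1) * algebraMap S T (δ s.1) := by
        rw [h3]; ring
    _ = algebraMap S T (s.1 * δ a - a * δ s.1) := by
        rw [h1, map_sub, map_mul, map_mul]; ring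

end loc

end Groth.Agent.Lib.helper20.Euler1
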