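import Mathlib

/-!
# A pointwise derivation killing pulled-back global functions of an affine base kills all pulled-back
functions (helper20)
-/

set_option autoImplicit false
universe u

open CategoryTheory AlgebraicGeometry Opposite TopologicalSpace

namespace Groth.Agent.Lib.helper20.Euler2a

theorem der_pullback_zero {X Y : Scheme.{u}} [IsAffine Y] (f : X ⟶ Y) (x : X) {T : Type u}
    [CommRing T] (e : ∀ (W : X.Opens), x ∈ W → (Γ(X, W) →+* T))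
    (he : ∀ (W W' : X.Opens) (h : W' ≤ W) (hx : x ∈ W') (s : Γ(X, W)),
      e W' hx (X.presheaf.map (homOfLE h).op s) = e W (h hx) s)
    (δ : T →+ T) (hδ : ∀ a b, δ (a * b) = a * δ b + b * δ a)
    (h0 : ∀ a : Γ(Y, ⊤), δ (e (f ⁻¹ᵁ ⊤) trivial (f.app ⊤ a)) = 0)
    (V : Y.Opens) (hxV : f x ∈ V) (c : Γ(Y, V)) : δ (e (f ⁻¹ᵁ V) hxV (f.app V c)) = 0 := by
  obtain ⟨_, ⟨r, rfl⟩, hxr, hrV⟩ := Opens.isBasis_iff_nbhd.mp (isBasis_basicOpen Y) hxV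
  have hrV' : Y.basicOpen r ≤ V := hrV
  have hxr' : x ∈ f ⁻¹ᵁ (Y.basicOpen r) := hxr
  set c' : Γ(Y, Y.basicOpen r) := Y.presheaf.map (homOfLE hrV').op c with hc'
  obtain ⟨⟨a, s⟩, hs⟩ := IsLocalization.surj (Submonoid.powers r) c'
  let E : Γ(Y, Y.basicOpen r) →+* T := (e (f ⁻¹ᵁ (Y.basicOpen r)) hxr').comp (f.app (Y.basicOpen r)).hom
  have hnat : ∀ (V₁ V₂ : Y.Opens) (h : V₂ ≤ V₁) (hx : x ∈ f ⁻¹ᵁ V₂) (b : Γ(Y, V₁)),
      e (f ⁻¹ᵁ V₂) hx (f.app V₂ (Y.presheaf.map (homOfLE h).op b)) =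
        e (f ⁻¹ᵁ V₁) (h hx) (f.app V₁ b) := by
    intro V₁ V₂ h hx b
    have h1 := congr($(f.naturality (homOfLE h).op) b)
    rw [CommRingCat.comp_apply, CommRingCat.comp_apply] at h1
    rw [h1]
    exact he _ _ _ hx _
  have hE : ∀ b : Γ(Y, ⊤), δ (E (algebraMap Γ(Y, ⊤) Γ(Y, Y.basicOpen r) b)) = 0 := by
    intro b
    have h2 : E (algebraMap Γ(Y, ⊤) Γ(Y, Y.basicOpen r) b) = e (f ⁻¹ᵁ ⊤) trivial (f.app ⊤ b) :=
      hnat ⊤ (Y.basicOpen r) le_top hxr' b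
    rw [h2]
    exact h0 b
  have hu : IsUnit (E (algebraMap Γ(Y, ⊤) Γ(Y, Y.basicOpen r) s.1)) :=
    (IsLocalization.map_units _ s).map E
  have h1 : δ (E c' * E (algebraMap Γ(Y, ⊤) Γ(Y, Y.basicOpen r) s.1)) = 0 := by
    rw [← map_mul, hs]
    exact hE a
  rw [hδ, hE s.1, mul_zero, zero_add] at h1
  have h2 : δ (E c') = 0 := by
    apply hu.mul_left_cancel
    rw [h1, mul_zero]
  have h3 : E c' = e (f ⁻¹ᵁ V) hxV (f.app V c) := hnat V (Y.basicOpen r) hrV' hxr' c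
  rw [← h3]
  exact h2

end Groth.Agent.Lib.helper20.Euler2a
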