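import Mathlib
import Groth.Agent.Lib.Helper20.ProjMulHom
import Groth.Agent.Lib.Helper20.StdGr
import Groth.Prelude.Def_CohB1

/-!
# Values of sections of `O(n)` on `P^r_k`; fractions with `ℤ`-degrees; multiplication maps (helper20)
-/

set_option autoImplicit false
universe u

open CategoryTheory AlgebraicGeometry Opposite TopologicalSpace

namespace Groth.Agent.Lib.helper20.TwistVal

open Groth.Agent.Lib.helper28.TwistFree Groth.Agent.Lib.Helper20.ProjMulHom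
  Groth.Agent.Lib.helper20.StdGr

section general

variable {R A : Type u} [CommRing R] [CommRing A] [Algebra R A] (𝒜 : ℕ → Submodule R A)
  [GradedAlgebra 𝒜]

/-- a section of `O(n)` as a dependent function -/
def toSec {n : ℤ} {U : (Proj 𝒜).Opens} (σ : Γ(Twist.twist 𝒜 n, U)) :
    Twist.sectN (𝒜 := 𝒜) n (op U) := σ

/-- a dependent function as a section of `O(n)` -/
def ofSec {n : ℤ} {U : (Proj 𝒜).Opens} (σ : Twist.sectN (𝒜 := 𝒜) n (op U)) :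
    Γ(Twist.twist 𝒜 n, U) := σ

/-- the value of a section of `O(n)` at a point, in the localization -/
def valO {n : ℤ} {U : (Proj 𝒜).Opens} (σ : Γ(Twist.twist 𝒜 n, U)) (x : U) : Twist.Loc 𝒜 x.1 :=
  (((toSec 𝒜 σ).1 x : Twist.twistAt 𝒜 n x.1) : Twist.Loc 𝒜 x.1)

variable {𝒜}

lemma valO_ext {n : ℤ} {U : (Proj 𝒜).Opens} (σ τ : Γ(Twist.twist 𝒜 n, U))
    (h : ∀ x : U, valO 𝒜 σ x = valO 𝒜 τ x) : σ = τ :=
  sectN_ext' 𝒜 (toSec 𝒜 σ) (toSec 𝒜 τ) h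

lemma valO_add {n : ℤ} {U : (Proj 𝒜).Opens} (σ τ : Γ(Twist.twist 𝒜 n, U)) (x : U) :
    valO 𝒜 (σ + τ) x = valO 𝒜 σ x + valO 𝒜 τ x := rfl

lemma valO_zero {n : ℤ} {U : (Proj 𝒜).Opens} (x : U) :
    valO 𝒜 (0 : Γ(Twist.twist 𝒜 n, U)) x = 0 := rfl

lemma valO_sum {n : ℤ} {U : (Proj 𝒜).Opens} {ι : Type*} (s : Finset ι)
    (σ : ι → Γ(Twist.twist 𝒜 n, U)) (x : U) :
    valO 𝒜 (∑ i ∈ s, σ i) x = ∑ i ∈ s, valO 𝒜 (σ i) x := by
  classical
  induction s using Finset.induction_on with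
  | empty => simp [valO_zero]
  | insert a s ha ih => rw [Finset.sum_insert ha, Finset.sum_insert ha, valO_add, ih]

lemma valO_res {n : ℤ} {U W : (Proj 𝒜).Opens} (hW : W ≤ U) (σ : Γ(Twist.twist 𝒜 n, U)) (x : W) :
    valO 𝒜 ((Twist.twist 𝒜 n).presheaf.map (homOfLE hW).op σ) x = valO 𝒜 σ ⟨x.1, hW x.2⟩ := rfl

lemma valO_ofSec {n : ℤ} {U : (Proj 𝒜).Opens} (σ : Twist.sectN (𝒜 := 𝒜) n (op U)) (x : U) :
    valO 𝒜 (ofSec 𝒜 σ) x = ((σ.1 x : Twist.twistAt 𝒜 n x.1) : Twist.Loc 𝒜 x.1) := rfl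

/-- a section of `O(n)` is locally a fraction -/
lemma exists_local_frac {n : ℤ} {U : (Proj 𝒜).Opens} (σ : Γ(Twist.twist 𝒜 n, U))
    (y : Proj 𝒜) (hy : y ∈ U) :
    ∃ (W : (Proj 𝒜).Opens) (hW : W ≤ U), y ∈ W ∧ ∃ (i j : ℕ) (c : 𝒜 i) (g : 𝒜 j)
      (hg : ∀ z : W, g.1 ∉ z.1.asHomogeneousIdeal),
      ((i : ℤ) = j + n ∨ c.1 = 0) ∧
        ∀ z : W, valO 𝒜 σ ⟨z.1, hW z.2⟩ = Localization.mk c.1 ⟨g.1, hg z⟩ := by
  obtain ⟨V, hyV, iV, i, j, c, g, hg, hdeg, hval⟩ := (toSec 𝒜 σ).2 ⟨y, hy⟩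
  exact ⟨V, iV.le, hyV, i, j, c, g, hg, hdeg, hval⟩

lemma mulHom_valO {a b : ℤ} {l : ℕ} (h : a + (l : ℤ) = b) (f : 𝒜 l) {U : (Proj 𝒜).Opens}
    (σ : Γ(Twist.twist 𝒜 a, U)) (x : U) :
    valO 𝒜 (((mulHom 𝒜 h f).app U).hom σ) x = valO 𝒜 σ x * mkOne 𝒜 f.1 x.1 :=
  mulSec_val 𝒜 h f U (toSec 𝒜 σ) x

end general

section poly

variable {k : Type u} [Field k] {r : ℕ}

local notation "𝒜" => CohB1.polyGrading r k
local notation "Rr" => MvPolynomial (Fin (r + 1)) k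
local notation "Z" => GrSyz.stdGr k (Fin (r + 1))

lemma stdGr_mul_mem {m m' : ℤ} {p q : Rr} (hp : p ∈ Z m) (hq : q ∈ Z m') : p * q ∈ Z (m + m') :=
  SetLike.GradedMul.mul_mem hp hq

lemma mem_Z_of_mem {i : ℕ} {p : Rr} (hp : p ∈ 𝒜 i) (m : ℤ) (hm : m = i) : p ∈ Z m := by
  subst hm
  exact mem_stdGr_natCast_iff.mpr hp

/-- the section `c / g` of `O(n)` over an open on which `g` vanishes nowhere, `ℤ`-degrees -/
noncomputable def fracZ (n : ℤ) (W : (Proj 𝒜).Opens) (c g : Rr) (j : ℕ) (hg : g ∈ 𝒜 j)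
    (hgW : ∀ z : W, g ∉ z.1.asHomogeneousIdeal) (hc : c ∈ Z ((j : ℤ) + n)) :
    Γ(Twist.twist 𝒜 n, W) :=
  if h : 0 ≤ (j : ℤ) + n then
    ofSec 𝒜 (fracSectN 𝒜 n W (i := ((j : ℤ) + n).toNat) (j := j)
      ⟨c, by
        rcases mem_stdGr_iff'.mp hc with ⟨_, h2⟩ | ⟨h1, _⟩
        · exact h2
        · omega⟩
      ⟨g, hg⟩ hgW (by omega))
  else 0

lemma fracZ_val (n : ℤ) (W : (Proj 𝒜).Opens) (c g : Rr) (j : ℕ) (hg : g ∈ 𝒜 j)
    (hgW : ∀ z : W, g ∉ z.1.asHomogeneousIdeal) (hc : c ∈ Z ((j : ℤ) + n)) (z : W) :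
    valO 𝒜 (fracZ n W c g j hg hgW hc) z = Localization.mk c ⟨g, hgW z⟩ := by
  unfold fracZ
  split_ifs with h
  · rfl
  · have hc0 : c = 0 := eq_zero_of_mem_stdGr_neg (by omega) hc
    rw [valO_zero, hc0, Localization.mk_zero]

/-- a section of `O(n)` is locally a fraction, `ℤ`-degrees -/
lemma exists_local_fracZ {n : ℤ} {U : (Proj 𝒜).Opens} (σ : Γ(Twist.twist 𝒜 n, U))
    (y : Proj 𝒜) (hy : y ∈ U) :
    ∃ (W : (Proj 𝒜).Opens) (hW : W ≤ U), y ∈ W ∧ ∃ (j : ℕ) (g : Rr) (_ : g ∈ 𝒜 j)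
      (hgW : ∀ z : W, g ∉ z.1.asHomogeneousIdeal) (c : Rr),
      c ∈ Z ((j : ℤ) + n) ∧
        ∀ z : W, valO 𝒜 σ ⟨z.1, hW z.2⟩ = Localization.mk c ⟨g, hgW z⟩ := by
  obtain ⟨W, hW, hyW, i, j, c, g, hg, hdeg, hval⟩ := exists_local_frac σ y hy
  refine ⟨W, hW, hyW, j, g.1, g.2, hg, c.1, ?_, hval⟩
  rcases hdeg with h | h
  · exact mem_Z_of_mem c.2 _ h.symm
  · rw [h]; exact Submodule.zero_mem _

/-- finitely many sections of twisting sheaves are locally fractions with a common denominator -/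
lemma exists_common_frac {ι : Type} [Finite ι] (n : ι → ℤ) {U : (Proj 𝒜).Opens}
    (σ : ∀ b, Γ(Twist.twist 𝒜 (n b), U)) (y : Proj 𝒜) (hy : y ∈ U) :
    ∃ (W : (Proj 𝒜).Opens) (hW : W ≤ U), y ∈ W ∧ ∃ (j : ℕ) (g : Rr) (_ : g ∈ 𝒜 j)
      (hgW : ∀ z : W, g ∉ z.1.asHomogeneousIdeal) (c : ι → Rr),
      (∀ b, c b ∈ Z ((j : ℤ) + n b)) ∧
        ∀ b (z : W), valO 𝒜 (σ b) ⟨z.1, hW z.2⟩ = Localization.mk (c b) ⟨g, hgW z⟩ := by
  classical
  have : Fintype ι := Fintype.ofFinite ι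
  suffices H : ∀ s : Finset ι, ∃ (W : (Proj 𝒜).Opens) (hW : W ≤ U), y ∈ W ∧ ∃ (j : ℕ) (g : Rr)
      (_ : g ∈ 𝒜 j) (hgW : ∀ z : W, g ∉ z.1.asHomogeneousIdeal) (c : ι → Rr),
      (∀ b ∈ s, c b ∈ Z ((j : ℤ) + n b)) ∧
        ∀ b ∈ s, ∀ (z : W), valO 𝒜 (σ b) ⟨z.1, hW z.2⟩ = Localization.mk (c b) ⟨g, hgW z⟩ by
    obtain ⟨W, hW, hyW, j, g, hg, hgW, c, hc, hval⟩ := H Finset.univ
    exact ⟨W, hW, hyW, j, g, hg, hgW, c, fun b => hc b (Finset.mem_univ b),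
      fun b z => hval b (Finset.mem_univ b) z⟩
  intro s
  induction s using Finset.induction_on with
  | empty =>
    refine ⟨U, le_rfl, hy, 0, 1, SetLike.GradedOne.one_mem, ?_, fun _ => 0, ?_, ?_⟩
    · intro z h
      exact z.1.isPrime.ne_top ((Ideal.eq_top_iff_one _).mpr h)
    · intro b hb; exact absurd hb (Finset.notMem_empty b)
    · intro b hb; exact absurd hb (Finset.notMem_empty b)
  | insert a s ha ih =>
    obtain ⟨W, hW, hyW, j, g, hg, hgW, c, hc, hval⟩ := ih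
    obtain ⟨Wa, hWa, hyWa, ja, ga, hga, hgWa, ca, hca, hvala⟩ := exists_local_fracZ (σ a) y hy
    have hgg : ∀ z : (W ⊓ Wa : (Proj 𝒜).Opens), g * ga ∉ z.1.asHomogeneousIdeal := fun z h =>
      (z.1.isPrime.mem_or_mem h).elim (hgW ⟨z.1, z.2.1⟩) (hgWa ⟨z.1, z.2.2⟩)
    have hc'a : (fun b => if b = a then ca * g else c b * ga) a = ca * g := if_pos rfl
    have hc'b : ∀ b, b ≠ a → (fun b => if b = a then ca * g else c b * ga) b = c b * ga :=
      fun b h => if_neg h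
    refine ⟨W ⊓ Wa, inf_le_left.trans hW, ⟨hyW, hyWa⟩, j + ja, g * ga,
      SetLike.GradedMul.mul_mem hg hga, hgg,
      fun b => if b = a then ca * g else c b * ga, ?_, ?_⟩
    · intro b hb
      by_cases hba : b = a
      · subst hba
        rw [hc'a]
        have := stdGr_mul_mem hca (mem_Z_of_mem hg (j : ℤ) rfl)
        have e : (ja : ℤ) + n b + (j : ℤ) = ((j + ja : ℕ) : ℤ) + n b := by push_cast; ring
        rw [e] at this
        exact this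
      · rw [hc'b b hba]
        have hbs : b ∈ s := (Finset.mem_insert.mp hb).resolve_left hba
        have := stdGr_mul_mem (hc b hbs) (mem_Z_of_mem hga (ja : ℤ) rfl)
        have e : (j : ℤ) + n b + (ja : ℤ) = ((j + ja : ℕ) : ℤ) + n b := by push_cast; ring
        rw [e] at this
        exact this
    · intro b hb z
      by_cases hba : b = a
      · subst hba
        rw [hc'a]
        refine (hvala ⟨z.1, z.2.2⟩).trans ?_
        rw [Localization.mk_eq_mk_iff, Localization.r_iff_exists]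
        refine ⟨1, ?_⟩
        simp only [OneMemClass.coe_one, one_mul]
        ring
      · rw [hc'b b hba]
        have hbs : b ∈ s := (Finset.mem_insert.mp hb).resolve_left hba
        refine (hval b hbs ⟨z.1, z.2.1⟩).trans ?_
        rw [Localization.mk_eq_mk_iff, Localization.r_iff_exists]
        refine ⟨1, ?_⟩
        simp only [OneMemClass.coe_one, one_mul]
        ring

/-- multiplication by `p ∈ Z (b - a)` as a morphism `O(a) ⟶ O(b)` -/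
noncomputable def mulZ (a b : ℤ) (p : Rr) (hp : p ∈ Z (b - a)) :
    Twist.twist 𝒜 a ⟶ Twist.twist 𝒜 b :=
  if h : 0 ≤ b - a then
    mulHom 𝒜 (a := a) (b := b) (k := (b - a).toNat) (by omega)
      ⟨p, by
        rcases mem_stdGr_iff'.mp hp with ⟨_, h2⟩ | ⟨h1, _⟩
        · exact h2
        · omega⟩
  else 0

lemma mulZ_val (a b : ℤ) (p : Rr) (hp : p ∈ Z (b - a)) {U : (Proj 𝒜).Opens}
    (σ : Γ(Twist.twist 𝒜 a, U)) (x : U) :
    valO 𝒜 (((mulZ a b p hp).app U).hom σ) x = valO 𝒜 σ x * mkOne 𝒜 p x.1 := by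
  unfold mulZ
  split_ifs with h
  · exact mulHom_valO _ _ σ x
  · have hp0 : p = 0 := eq_zero_of_mem_stdGr_neg (by omega) hp
    subst hp0
    have e : mkOne 𝒜 (0 : Rr) x.1 = 0 := Localization.mk_zero _
    rw [e, mul_zero]
    rfl

lemma mk_mul_mkOne (x : ProjectiveSpectrum 𝒜) (c p : Rr) (s : x.asHomogeneousIdeal.toIdeal.primeCompl) :
    (Localization.mk c s : Twist.Loc 𝒜 x) * mkOne 𝒜 p x = Localization.mk (c * p) s := by
  unfold mkOne
  rw [Localization.mk_mul]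
  congr 1
  exact mul_one s

/-- in the polynomial ring (a domain) a fraction vanishes iff its numerator does -/
lemma mk_eq_zero_iff (x : ProjectiveSpectrum 𝒜) (c : Rr) (s : x.asHomogeneousIdeal.toIdeal.primeCompl) :
    (Localization.mk c s : Twist.Loc 𝒜 x) = 0 ↔ c = 0 := by
  rw [Localization.mk_eq_mk', IsLocalization.mk'_eq_zero_iff]
  constructor
  · rintro ⟨m, hm⟩
    rcases mul_eq_zero.mp hm with h | h
    · exfalso
      exact m.2 (by rw [h]; exact Submodule.zero_mem _)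
    · exact h
  · rintro rfl
    exact ⟨1, mul_zero _⟩

end poly

end Groth.Agent.Lib.helper20.TwistVal
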