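import Mathlib
import Groth.Prelude.Def_Twist2
import Groth.Prelude.Def_Omega3
import Groth.Agent.Lib.Helper20.Euler1
import Groth.Agent.Lib.Helper20.TwistVal
import Groth.Agent.Lib.Helper20.Euler2a
import Groth.Agent.Lib.Helper12.ProjGlobalFn

/-!
# The partial derivatives as derivations `O_P → O(-1)` on projective space (helper20)
-/

set_option autoImplicit false
universe u

open CategoryTheory AlgebraicGeometry Opposite TopologicalSpace

namespace Groth.Agent.Lib.helper20.Euler2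

open Groth.Agent.Lib.helper20.Euler1 Groth.Agent.Lib.helper20.TwistVal
  Groth.Agent.Lib.helper28.TwistFree Groth.Agent.Lib.helper28.TwistMul

noncomputable section

variable {A : Type u} [CommRing A] {n : ℕ}

local notation "𝒜ₙ" => CohB1.polyGrading n A
local notation "S" => MvPolynomial (Fin (n + 1)) A

/-- `∂/∂x_j` on the localization at a point -/
def dLoc (j : Fin (n + 1)) (x : ProjectiveSpectrum 𝒜ₙ) :
    Derivation A (Twist.Loc 𝒜ₙ x) (Twist.Loc 𝒜ₙ x) :=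
  locDer x.asHomogeneousIdeal.toIdeal.primeCompl (MvPolynomial.pderiv j)

lemma dLoc_mk (j : Fin (n + 1)) (x : ProjectiveSpectrum 𝒜ₙ) (a : S)
    (s : x.asHomogeneousIdeal.toIdeal.primeCompl) :
    dLoc j x (Localization.mk a s) =
      Localization.mk (s.1 * MvPolynomial.pderiv j a - a * MvPolynomial.pderiv j s.1) (s * s) := by
  unfold dLoc
  rw [Localization.mk_eq_mk', locDer_mk']

lemma pderiv_mem {i : ℕ} {a : S} (ha : a ∈ 𝒜ₙ i) (j : Fin (n + 1)) :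
    MvPolynomial.pderiv j a ∈ 𝒜ₙ (i - 1) :=
  (MvPolynomial.mem_homogeneousSubmodule _ _).mpr
    ((MvPolynomial.mem_homogeneousSubmodule _ _).mp ha).pderiv

/-- numerator of the quotient rule -/
def qnum (j : Fin (n + 1)) (a b : S) : S :=
  b * MvPolynomial.pderiv j a - a * MvPolynomial.pderiv j b

lemma qnum_mem {i : ℕ} {a b : S} (ha : a ∈ 𝒜ₙ i) (hb : b ∈ 𝒜ₙ i) (j : Fin (n + 1)) :
    qnum j a b ∈ 𝒜ₙ (i + (i - 1)) :=
  sub_mem (SetLike.mul_mem_graded hb (pderiv_mem ha j)) (SetLike.mul_mem_graded ha (pderiv_mem hb j))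

lemma pderiv_eq_zero_of_mem_zero {a : S} (ha : a ∈ 𝒜ₙ 0) (j : Fin (n + 1)) :
    MvPolynomial.pderiv j a = 0 := by
  have h : a.IsHomogeneous 0 := (MvPolynomial.mem_homogeneousSubmodule _ _).mp ha
  rw [← MvPolynomial.totalDegree_zero_iff_isHomogeneous,
    MvPolynomial.totalDegree_eq_zero_iff_eq_C] at h
  rw [h, MvPolynomial.pderiv_C]

lemma qnum_deg {i : ℕ} {a b : S} (ha : a ∈ 𝒜ₙ i) (hb : b ∈ 𝒜ₙ i) (j : Fin (n + 1)) :
    ((i + (i - 1) : ℕ) : ℤ) = ((i + i : ℕ) : ℤ) + (-1) ∨ qnum j a b = 0 := by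
  rcases Nat.eq_zero_or_pos i with hi | hi
  · subst hi
    right
    unfold qnum
    rw [pderiv_eq_zero_of_mem_zero ha, pderiv_eq_zero_of_mem_zero hb, mul_zero, mul_zero, sub_zero]
  · left
    omega

lemma dLoc_mk' (j : Fin (n + 1)) (x : ProjectiveSpectrum 𝒜ₙ) (a b : S)
    (hb : b ∉ x.asHomogeneousIdeal) (hbb : b * b ∉ x.asHomogeneousIdeal) :
    dLoc j x (Localization.mk a ⟨b, hb⟩) = Localization.mk (qnum j a b) ⟨b * b, hbb⟩ :=
  dLoc_mk j x a ⟨b, hb⟩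

lemma dLoc_mem (j : Fin (n + 1)) (x : ProjectiveSpectrum 𝒜ₙ) (q : Twist.A0 𝒜ₙ x) :
    dLoc j x q.val ∈ Twist.twistAt 𝒜ₙ (-1) x := by
  obtain ⟨⟨i, a, b, hb⟩, rfl⟩ := HomogeneousLocalization.mk_surjective q
  have hbb : b.1 * b.1 ∉ x.asHomogeneousIdeal := fun h => (x.isPrime.mem_or_mem h).elim hb hb
  rw [HomogeneousLocalization.val_mk]
  change dLoc j x (Localization.mk a.1 ⟨b.1, hb⟩) ∈ _
  rw [dLoc_mk' j x a.1 b.1 hb hbb]
  exact mk_mem_twistAt 𝒜ₙ (-1) x ⟨qnum j a.1 b.1, qnum_mem a.2 b.2 j⟩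
    ⟨b.1 * b.1, SetLike.mul_mem_graded b.2 b.2⟩ hbb (qnum_deg a.2 b.2 j)

/-- `∂/∂x_j` on sections: `O(U) → O(-1)(U)` -/
def DSec (j : Fin (n + 1)) (U : Opens (ProjectiveSpectrum.top 𝒜ₙ))
    (s : Twist.O (𝒜 := 𝒜ₙ) (op U)) : Twist.sectN (𝒜 := 𝒜ₙ) (-1) (op U) :=
  ⟨fun x => ⟨dLoc j x.1 (s.1 x).val, dLoc_mem j x.1 (s.1 x)⟩, fun x => by
    obtain ⟨V, hxV, iV, i, a, b, hb, hval⟩ := s.2 x
    have hbb : ∀ y : V, b.1 * b.1 ∉ y.1.asHomogeneousIdeal := fun y h =>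
      (y.1.isPrime.mem_or_mem h).elim (hb y) (hb y)
    refine ⟨V, hxV, iV, i + (i - 1), i + i, ⟨qnum j a.1 b.1, qnum_mem a.2 b.2 j⟩,
      ⟨b.1 * b.1, SetLike.mul_mem_graded b.2 b.2⟩, hbb, qnum_deg a.2 b.2 j, fun y => ?_⟩
    change dLoc j y.1 (s.1 (iV y)).val = _
    have h1 : s.1 (iV y) = HomogeneousLocalization.mk ⟨i, a, b, hb y⟩ := hval y
    rw [h1, HomogeneousLocalization.val_mk]
    exact dLoc_mk' j y.1 a.1 b.1 (hb y) (hbb y)⟩

lemma DSec_val (j : Fin (n + 1)) (U : Opens (ProjectiveSpectrum.top 𝒜ₙ))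
    (s : Twist.O (𝒜 := 𝒜ₙ) (op U)) (x : U) :
    (((DSec j U s).1 x : Twist.twistAt 𝒜ₙ (-1) x.1) : Twist.Loc 𝒜ₙ x.1) = dLoc j x.1 (s.1 x).val := rfl

lemma O_add_val (U : Opens (ProjectiveSpectrum.top 𝒜ₙ)) (s t : Twist.O (𝒜 := 𝒜ₙ) (op U)) (x : U) :
    ((s + t).1 x).val = (s.1 x).val + (t.1 x).val := HomogeneousLocalization.val_add _ _

lemma O_mul_val (U : Opens (ProjectiveSpectrum.top 𝒜ₙ)) (s t : Twist.O (𝒜 := 𝒜ₙ) (op U)) (x : U) :
    ((s * t).1 x).val = (s.1 x).val * (t.1 x).val := HomogeneousLocalization.val_mul _ _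

lemma DSec_add (j : Fin (n + 1)) (U : Opens (ProjectiveSpectrum.top 𝒜ₙ))
    (s t : Twist.O (𝒜 := 𝒜ₙ) (op U)) : DSec j U (s + t) = DSec j U s + DSec j U t :=
  sectN_ext' 𝒜ₙ _ _ fun x => by
    refine (DSec_val j U (s + t) x).trans ?_
    rw [O_add_val]
    exact (dLoc j x.1).map_add _ _

lemma DSec_mul (j : Fin (n + 1)) (U : Opens (ProjectiveSpectrum.top 𝒜ₙ))
    (s t : Twist.O (𝒜 := 𝒜ₙ) (op U)) :
    DSec j U (s * t) = s • DSec j U t + t • DSec j U s :=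
  sectN_ext' 𝒜ₙ _ _ fun x => by
    refine (DSec_val j U (s * t) x).trans ?_
    refine (congrArg (dLoc j x.1) (O_mul_val U s t x)).trans (((dLoc j x.1).leibniz _ _).trans ?_)
    have h2 := Twist.coe_smul_val (-1) x.1 (s.1 x) ((DSec j U t).1 x)
    have h3 := Twist.coe_smul_val (-1) x.1 (t.1 x) ((DSec j U s).1 x)
    change _ = ((s.1 x • (DSec j U t).1 x + t.1 x • (DSec j U s).1 x : Twist.twistAt 𝒜ₙ (-1) x.1) :
      Twist.Loc 𝒜ₙ x.1)
    rw [Submodule.coe_add, h2, h3]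
    rfl

lemma DSec_res (j : Fin (n + 1)) {U V : (Opens (ProjectiveSpectrum.top 𝒜ₙ))ᵒᵖ} (i : U ⟶ V)
    (s : Twist.O (𝒜 := 𝒜ₙ) U) :
    DSec j V.unop ((ProjectiveSpectrum.Proj.structureSheaf 𝒜ₙ).1.map i s) =
      Twist.resN (-1) i (DSec j U.unop s) := rfl

/-- evaluation of functions at a point, in the localization -/
def evx (x : ProjectiveSpectrum 𝒜ₙ) (W : Opens (ProjectiveSpectrum.top 𝒜ₙ)) (hx : x ∈ W) :
    Twist.O (𝒜 := 𝒜ₙ) (op W) →+* Twist.Loc 𝒜ₙ x where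
  toFun s := (s.1 ⟨x, hx⟩).val
  map_one' := HomogeneousLocalization.val_one
  map_mul' s t := HomogeneousLocalization.val_mul _ _
  map_zero' := HomogeneousLocalization.val_zero
  map_add' s t := HomogeneousLocalization.val_add _ _

lemma dLoc_algebraMap (j : Fin (n + 1)) (x : ProjectiveSpectrum 𝒜ₙ) (a : S) :
    dLoc j x (algebraMap S (Twist.Loc 𝒜ₙ x) a) =
      algebraMap S (Twist.Loc 𝒜ₙ x) (MvPolynomial.pderiv j a) :=
  locDer_algebraMap _ _ a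

/-- the structure morphism of projective space, typed on `Proj` -/
def fP (n' : ℕ) (A' : Type u) [CommRing A'] :
    Proj (CohB1.polyGrading n' A') ⟶ Spec (CommRingCat.of A') := CohB1.ProjSpace.toSpec n' A'

lemma dLoc_toSpec_app (j : Fin (n + 1)) (V : (Spec (CommRingCat.of A)).Opens)
    (c : Γ(Spec (CommRingCat.of A), V)) (x : ProjectiveSpectrum 𝒜ₙ)
    (hx : x ∈ (CohB1.ProjSpace.toSpec n A) ⁻¹ᵁ V) :
    dLoc j x (evx x ((CohB1.ProjSpace.toSpec n A) ⁻¹ᵁ V) hx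
      ((CohB1.ProjSpace.toSpec n A).app V c)) = 0 := by
  refine Euler2a.der_pullback_zero (X := CohB1.ProjSpace n A) (CohB1.ProjSpace.toSpec n A) x
    (fun W hW => evx x W hW) (fun W W' h hx s => rfl) (dLoc j x).toLinearMap.toAddMonoidHom
    (fun a b => (dLoc j x).leibniz a b) ?_ V hx c
  intro a
  have h1 : (CohB1.ProjSpace.toSpec n A).app ⊤ a =
      Groth.Agent.Lib.helper12.ProjGlobalFn.gl 𝒜ₙ ((Scheme.ΓSpecIso (CommRingCat.of A)).hom a) := by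
    have : (Scheme.ΓSpecIso (CommRingCat.of A)).inv.hom
        ((Scheme.ΓSpecIso (CommRingCat.of A)).hom a) = a :=
      ConcreteCategory.congr_hom (Scheme.ΓSpecIso (CommRingCat.of A)).hom_inv_id a
    exact (congrArg (fun z => (CohB1.ProjSpace.toSpec n A).app ⊤ z) this).symm
  change dLoc j x (evx x _ _ ((CohB1.ProjSpace.toSpec n A).app ⊤ a)) = 0
  rw [h1]
  have h2 := Groth.Agent.Lib.helper12.ProjGlobalFn.gl_val 𝒜ₙ
    ((Scheme.ΓSpecIso (CommRingCat.of A)).hom a) ⟨x, trivial⟩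
  change dLoc j x ((Groth.Agent.Lib.helper12.ProjGlobalFn.gl 𝒜ₙ
    ((Scheme.ΓSpecIso (CommRingCat.of A)).hom a)).1 ⟨x, trivial⟩).val = 0
  rw [h2, Localization.mk_one_eq_algebraMap, dLoc_algebraMap]
  have h3 : MvPolynomial.pderiv j (algebraMap A S ((Scheme.ΓSpecIso (CommRingCat.of A)).hom a)) = 0 :=
    MvPolynomial.pderiv_C
  rw [h3, map_zero]

/-- `∂/∂x_j` as a derivation `O_P → O(-1)` relative to `P → Spec A` -/
def Dj (j : Fin (n + 1)) : OmegaSh.Der (fP n A) (Twist.twist 𝒜ₙ (-1)) where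
  d {X} := AddMonoidHom.mk' (fun s => DSec j X.unop s) (fun s t => DSec_add j X.unop s t)
  d_mul {X} a b := DSec_mul j X.unop a b
  d_map {X Y} f x := DSec_res j f x
  d_app {X} a := by
    apply sectN_ext' 𝒜ₙ
    intro x
    exact dLoc_toSpec_app j X.unop a x.1 x.2

end

end Groth.Agent.Lib.helper20.Euler2
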