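import Mathlib
import Groth.Agent.Lib.Helper20.Euler2
import Groth.Agent.Lib.Helper7.OmegaUniv
import Groth.Agent.Lib.Helper20.LFMono

/-!
# The maps `ε_j : Ω_{P/A} ⟶ O(-1)` on projective space and the Euler relation (helper20)
-/

set_option autoImplicit false
universe u

open CategoryTheory AlgebraicGeometry Opposite TopologicalSpace

namespace Groth.Agent.Lib.helper20.Euler2b

open Groth.Agent.Lib.helper20.Euler1 Groth.Agent.Lib.helper20.Euler2
  Groth.Agent.Lib.helper20.TwistVal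
  Groth.Agent.Lib.helper28.TwistFree Groth.Agent.Lib.helper28.TwistMul
  Groth.Agent.Lib.Helper20.ProjMulHom

noncomputable section

variable {A : Type u} [CommRing A] {n : ℕ}

local notation "𝒜ₙ" => CohB1.polyGrading n A
local notation "S" => MvPolynomial (Fin (n + 1)) A
local notation "Ωₙ" => Omega.sheaf (fP n A)

lemma mk_mul_mkOne' (x : ProjectiveSpectrum 𝒜ₙ) (c p : S)
    (s : x.asHomogeneousIdeal.toIdeal.primeCompl) :
    (Localization.mk c s : Twist.Loc 𝒜ₙ x) * mkOne 𝒜ₙ p x = Localization.mk (c * p) s := by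
  unfold mkOne
  rw [Localization.mk_mul]
  congr 1
  exact mul_one s

/-- Euler's identity for fractions of degree zero -/
lemma sum_dLoc_mul (x : ProjectiveSpectrum 𝒜ₙ) (q : Twist.A0 𝒜ₙ x) :
    ∑ j : Fin (n + 1), dLoc j x q.val * mkOne 𝒜ₙ (MvPolynomial.X j : S) x = 0 := by
  obtain ⟨⟨i, a, b, hb⟩, rfl⟩ := HomogeneousLocalization.mk_surjective q
  have hbb : b.1 * b.1 ∉ x.asHomogeneousIdeal := fun h => (x.isPrime.mem_or_mem h).elim hb hb
  rw [HomogeneousLocalization.val_mk]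
  have h1 : ∀ j : Fin (n + 1), dLoc j x (Localization.mk a.1 ⟨b.1, hb⟩) *
      mkOne 𝒜ₙ (MvPolynomial.X j : S) x =
      Localization.mk (qnum j a.1 b.1 * MvPolynomial.X j) ⟨b.1 * b.1, hbb⟩ := by
    intro j
    rw [dLoc_mk' j x a.1 b.1 hb hbb]
    exact mk_mul_mkOne' x _ _ _
  change ∑ j : Fin (n + 1), dLoc j x (Localization.mk a.1 ⟨b.1, hb⟩) *
      mkOne 𝒜ₙ (MvPolynomial.X j : S) x = 0
  rw [Finset.sum_congr rfl (fun j _ => h1 j), ← Localization.mk_sum]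
  have ha : a.1.IsHomogeneous i := (MvPolynomial.mem_homogeneousSubmodule _ _).mp a.2
  have hb' : b.1.IsHomogeneous i := (MvPolynomial.mem_homogeneousSubmodule _ _).mp b.2
  have h2 : ∑ j : Fin (n + 1), qnum j a.1 b.1 * MvPolynomial.X j = 0 := by
    unfold qnum
    have e1 : ∀ j : Fin (n + 1), (b.1 * MvPolynomial.pderiv j a.1 - a.1 * MvPolynomial.pderiv j b.1) *
        MvPolynomial.X j = b.1 * (MvPolynomial.X j * MvPolynomial.pderiv j a.1) -
          a.1 * (MvPolynomial.X j * MvPolynomial.pderiv j b.1) := fun j => by ring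
    rw [Finset.sum_congr rfl (fun j _ => e1 j), Finset.sum_sub_distrib, ← Finset.mul_sum,
      ← Finset.mul_sum, ha.sum_X_mul_pderiv, hb'.sum_X_mul_pderiv]
    simp only [nsmul_eq_mul]
    ring
  rw [h2, Localization.mk_zero]

section eps

variable [QuasiSeparated (fP n A)]

/-- `ε_j : Ω ⟶ O(-1)`, the linear map with `ε_j ∘ d = ∂/∂x_j` -/
def eps (j : Fin (n + 1)) : Ωₙ ⟶ Twist.twist 𝒜ₙ (-1) :=
  (Groth.Agent.Lib.helper7.OmegaUniv.isUniversal_dOmega (fP n A) _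
    (Dj j)).choose

lemma eps_spec (j : Fin (n + 1)) :
    (OmegaSh.dOmega (fP n A)).postcomp (eps j).val = Dj j :=
  (Groth.Agent.Lib.helper7.OmegaUniv.isUniversal_dOmega (fP n A) _
    (Dj j)).choose_spec.1

lemma eps_dSect (j : Fin (n + 1)) (U : (Proj 𝒜ₙ).Opens)
    (b : Γ(Proj 𝒜ₙ, U)) :
    (eps j).app U (OmegaSh.dSect (fP n A) U b) = DSec j U b := by
  have h := PresheafOfModules.Derivation.congr_d (eps_spec (A := A) (n := n) j) (X := op U) b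
  exact h

/-- the value of `ε_j (d b)` at a point -/
lemma valO_eps_dSect (j : Fin (n + 1)) (U : (Proj 𝒜ₙ).Opens) (b : Twist.O (𝒜 := 𝒜ₙ) (op U))
    (x : U) :
    valO 𝒜ₙ (((eps j).app U).hom (OmegaSh.dSect (fP n A) U b)) x =
      dLoc j x.1 (b.1 x).val := by
  have h := eps_dSect j U b
  exact congrArg (fun s : Twist.sectN (𝒜 := 𝒜ₙ) (-1) (op U) =>
    ((s.1 x : Twist.twistAt 𝒜ₙ (-1) x.1) : Twist.Loc 𝒜ₙ x.1)) h

/-- multiplication by `X j`, `O(-1) ⟶ O(0)` -/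
def xHom0 (j : Fin (n + 1)) : Twist.twist 𝒜ₙ (-1) ⟶ Twist.twist 𝒜ₙ 0 :=
  mulHom 𝒜ₙ (a := -1) (b := 0) (k := 1) (by norm_num)
    ⟨MvPolynomial.X j, MvPolynomial.isHomogeneous_X A j⟩

/-- the Euler relation `∑ x_j ε_j = 0` -/
theorem sum_eps_xHom0 : ∑ j : Fin (n + 1), (eps (A := A) j ≫ xHom0 j : Ωₙ ⟶ Twist.twist 𝒜ₙ 0) = 0 := by
  obtain ⟨E, hE⟩ : ∃ E : Ωₙ ⟶ Twist.twist 𝒜ₙ 0, E = ∑ j : Fin (n + 1), (eps (A := A) j ≫ xHom0 j) :=
    ⟨_, rfl⟩
  rw [← hE]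
  obtain ⟨α, -, hα⟩ := Groth.Agent.Lib.helper7.OmegaUniv.isUniversal_dOmega
    (fP n A) (Twist.twist 𝒜ₙ 0)
    ((OmegaSh.dOmega (fP n A)).postcomp (0 : Ωₙ ⟶ Twist.twist 𝒜ₙ 0).val)
  have h0 := hα 0 rfl
  have h1 := hα E ?_
  · rw [h1, h0]
  apply PresheafOfModules.Derivation.ext
  funext W
  ext s
  change (E.app W.unop).hom (OmegaSh.dSect (fP n A) W.unop s) = 0
  apply valO_ext
  intro x
  have e1 : (E.app W.unop).hom (OmegaSh.dSect (fP n A) W.unop s) =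
      ∑ j : Fin (n + 1), ((xHom0 j).app W.unop).hom
        (((eps j).app W.unop).hom (OmegaSh.dSect (fP n A) W.unop s)) := by
    have h := congrArg (fun φ : Ωₙ ⟶ Twist.twist 𝒜ₙ 0 =>
      (Groth.Agent.Lib.helper20.LFMono.appAddHom W.unop φ)
        (OmegaSh.dSect (fP n A) W.unop s)) hE
    rw [map_sum, AddMonoidHom.finsetSum_apply] at h
    exact h
  rw [e1, valO_sum]
  refine Eq.trans ?_ (valO_zero (𝒜 := 𝒜ₙ) (n := 0) x).symm
  have e2 : ∀ j : Fin (n + 1), valO 𝒜ₙ (((xHom0 j).app W.unop).hom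
      (((eps j).app W.unop).hom (OmegaSh.dSect (fP n A) W.unop s))) x =
      dLoc j x.1 (s.1 x).val * mkOne 𝒜ₙ (MvPolynomial.X j : S) x.1 := by
    intro j
    unfold xHom0
    rw [mulHom_valO, valO_eps_dSect]
  rw [Finset.sum_congr rfl (fun j _ => e2 j)]
  exact sum_dLoc_mul x.1 (s.1 x)

/-- the Euler relation on values -/
lemma sum_valO_eps (U : (Proj 𝒜ₙ).Opens) (ω : Γ(Ωₙ, U)) (x : U) :
    ∑ j : Fin (n + 1), valO 𝒜ₙ (((eps j).app U).hom ω) x *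
      mkOne 𝒜ₙ (MvPolynomial.X j : S) x.1 = 0 := by
  have h := congrArg (fun φ : Ωₙ ⟶ Twist.twist 𝒜ₙ 0 =>
    (Groth.Agent.Lib.helper20.LFMono.appAddHom U φ) ω) (sum_eps_xHom0 (A := A) (n := n))
  rw [map_sum, AddMonoidHom.finsetSum_apply] at h
  have h2 := congrArg (fun σ : Γ(Twist.twist 𝒜ₙ 0, U) => valO 𝒜ₙ σ x) h
  have h3 := (valO_sum (𝒜 := 𝒜ₙ) Finset.univ
    (fun j : Fin (n + 1) => (Groth.Agent.Lib.helper20.LFMono.appAddHom U (eps j ≫ xHom0 j)) ω) x).symm.trans h2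
  refine Eq.trans ?_ (h3.trans ?_)
  · refine Finset.sum_congr rfl fun j _ => ?_
    exact (mulHom_valO (𝒜 := 𝒜ₙ) (a := -1) (b := 0) (l := 1) (by norm_num)
      ⟨MvPolynomial.X j, MvPolynomial.isHomogeneous_X A j⟩ (((eps j).app U).hom ω) x).symm
  · rfl

end eps

end

end Groth.Agent.Lib.helper20.Euler2b
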