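import Mathlib
import Groth.Agent.Lib.Helper28.SecEpi
import Groth.Agent.Lib.Helper16.Satur1
import Groth.Agent.Lib.Helper20.LFMono

/-!
# Local criteria for exactness of complexes of `O_X`-modules; sections of finite coproducts (helper20)

* `exact_of_locally`: a short complex `A ⟶ B ⟶ C` of `O_X`-modules is exact if every section of `B` killed by
  `B ⟶ C` locally comes from `A`.
* `Sec`: sections of a finite coproduct are determined by their components (`sec_ext`), `sec_eq_sum`.
-/

set_option autoImplicit false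
universe u
open CategoryTheory CategoryTheory.Limits AlgebraicGeometry Opposite TopologicalSpace

namespace Groth.Agent.Lib.helper20.ExactLoc

open Groth.Agent.Lib.helper20.LFMono

variable {X : Scheme.{u}}

/-- local exactness criterion -/
theorem exact_of_locally (S : ShortComplex X.Modules)
    (H : ∀ (V : X.Opens) (s : Γ(S.X₂, V)), (S.g.app V).hom s = 0 → ∀ y : X, y ∈ V →
      ∃ (W : X.Opens) (hW : W ≤ V), y ∈ W ∧
        ∃ t : Γ(S.X₁, W), (S.f.app W).hom t = S.X₂.presheaf.map (homOfLE hW).op s) :
    S.Exact := by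
  rw [ShortComplex.exact_iff_epi_kernel_lift]
  apply Groth.Agent.Lib.helper28.SecEpi.epi_of_locally_surjective
  intro V s' y hy
  have hs : (S.g.app V).hom (((kernel.ι S.g).app V).hom s') = 0 := by
    change (((kernel.ι S.g ≫ S.g).app V).hom s') = 0
    rw [kernel.condition]
    rfl
  obtain ⟨W, hW, hyW, t, ht⟩ := H V _ hs y hy
  refine ⟨W, hW, hyW, t, ?_⟩
  apply Groth.Agent.Lib.helper16.Satur.injective_app_of_mono (kernel.ι S.g) W
  have h1 : ((kernel.ι S.g).app W).hom (((kernel.lift S.g S.f S.zero).app W).hom t) =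
      (S.f.app W).hom t := by
    change (((kernel.lift S.g S.f S.zero ≫ kernel.ι S.g).app W).hom t) = _
    rw [kernel.lift_ι]
  have h2 : ((kernel.ι S.g).app W).hom ((kernel S.g).presheaf.map (homOfLE hW).op s') =
      S.X₂.presheaf.map (homOfLE hW).op (((kernel.ι S.g).app V).hom s') := by
    have nat := congrFun (congrArg (fun g => (AddCommGrpCat.Hom.hom g : _ → _))
      ((kernel.ι S.g).mapPresheaf.naturality (homOfLE hW).op)) s'
    exact nat
  exact h1.trans (ht.trans h2.symm)

section Sigma

variable {ι : Type} [Fintype ι] [DecidableEq ι] (f : ι → X.Modules)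

lemma sum_π_ι : ∑ b : ι, Sigma.π f b ≫ Sigma.ι f b = 𝟙 (∐ f) := by
  apply Sigma.hom_ext
  intro j
  rw [Preadditive.comp_sum, Category.comp_id]
  have : ∀ b : ι, Sigma.ι f j ≫ Sigma.π f b ≫ Sigma.ι f b =
      if b = j then Sigma.ι f j else 0 := by
    intro b
    rw [← Category.assoc]
    by_cases h : j = b
    · subst h
      rw [Sigma.ι_π_eq_id, Category.id_comp, if_pos rfl]
    · rw [Sigma.ι_π_of_ne f h, zero_comp, if_neg (fun h' => h h'.symm)]
  rw [Finset.sum_congr rfl (fun b _ => this b)]
  simp

/-- a section of a finite coproduct is the sum of its components -/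
lemma sec_eq_sum (V : X.Opens) (t : Γ(∐ f, V)) :
    t = ∑ b : ι, ((Sigma.ι f b).app V).hom (((Sigma.π f b).app V).hom t) := by
  have h1 : (appAddHom V (𝟙 (∐ f))) t = t := rfl
  rw [← sum_π_ι, map_sum] at h1
  rw [AddMonoidHom.finsetSum_apply] at h1
  exact h1.symm

/-- sections of a finite coproduct are determined by their components -/
lemma sec_ext (V : X.Opens) (t t' : Γ(∐ f, V))
    (h : ∀ b, ((Sigma.π f b).app V).hom t = ((Sigma.π f b).app V).hom t') : t = t' := by
  rw [sec_eq_sum f V t, sec_eq_sum f V t']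
  exact Finset.sum_congr rfl fun b _ => by rw [h b]

/-- the components of `∑ ι_b (s_b)` -/
lemma π_sum_ι (V : X.Opens) (s : ∀ b, Γ(f b, V)) (a : ι) :
    ((Sigma.π f a).app V).hom (∑ b : ι, ((Sigma.ι f b).app V).hom (s b)) = s a := by
  rw [map_sum]
  rw [Finset.sum_eq_single a]
  · change (((Sigma.ι f a ≫ Sigma.π f a).app V).hom (s a)) = s a
    rw [Sigma.ι_π_eq_id]
    rfl
  · intro b _ hb
    change (((Sigma.ι f b ≫ Sigma.π f a).app V).hom (s b)) = 0
    rw [Sigma.ι_π_of_ne f hb]
    rfl
  · intro h
    exact absurd (Finset.mem_univ a) h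

end Sigma

end Groth.Agent.Lib.helper20.ExactLoc
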