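import Mathlib
import Groth.Agent.Lib.Helper20.ExactLoc

/-!
# Maps between finite coproducts of `O_X`-modules given by matrices of morphisms (helper20)
-/

set_option autoImplicit false
universe u

open CategoryTheory CategoryTheory.Limits AlgebraicGeometry Opposite TopologicalSpace

namespace Groth.Agent.Lib.helper20.Euler3a

open Groth.Agent.Lib.helper20.ExactLoc Groth.Agent.Lib.helper20.LFMono

noncomputable section

variable {X : Scheme.{u}}

/-- morphisms of modules commute with restriction -/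
lemma app_res {A B : X.Modules} (φ : A ⟶ B) {V W : X.Opens} (hW : W ≤ V) (s : Γ(A, V)) :
    (φ.app W).hom (A.presheaf.map (homOfLE hW).op s) =
      B.presheaf.map (homOfLE hW).op ((φ.app V).hom s) := by
  have nat := congrFun (congrArg (fun g => (AddCommGrpCat.Hom.hom g : _ → _))
    (φ.mapPresheaf.naturality (homOfLE hW).op)) s
  exact nat

variable {ι₁ ι₂ : Type} [Fintype ι₁] [DecidableEq ι₁] [Fintype ι₂] [DecidableEq ι₂]
  (f : ι₁ → X.Modules) (g : ι₂ → X.Modules)

/-- the components of a section of a finite coproduct -/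
def comp {V : X.Opens} (t : Γ(∐ f, V)) (b : ι₁) : Γ(f b, V) := ((Sigma.π f b).app V).hom t

lemma comp_res {V W : X.Opens} (hW : W ≤ V) (t : Γ(∐ f, V)) (b : ι₁) :
    comp f ((∐ f).presheaf.map (homOfLE hW).op t) b =
      (f b).presheaf.map (homOfLE hW).op (comp f t b) :=
  app_res _ hW t

lemma comp_ext {V : X.Opens} (t t' : Γ(∐ f, V)) (h : ∀ b, comp f t b = comp f t' b) : t = t' :=
  sec_ext _ V t t' h

lemma comp_add {V : X.Opens} (t t' : Γ(∐ f, V)) (b : ι₁) :
    comp f (t + t') b = comp f t b + comp f t' b := map_add _ _ _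

lemma comp_zero {V : X.Opens} (b : ι₁) : comp f (0 : Γ(∐ f, V)) b = 0 := map_zero _

lemma comp_sub {V : X.Opens} (t t' : Γ(∐ f, V)) (b : ι₁) :
    comp f (t - t') b = comp f t b - comp f t' b := map_sub _ _ _

/-- the section with given components -/
def ofComp {V : X.Opens} (s : ∀ b, Γ(f b, V)) : Γ(∐ f, V) :=
  ∑ b, ((Sigma.ι f b).app V).hom (s b)

lemma comp_ofComp {V : X.Opens} (s : ∀ b, Γ(f b, V)) (a : ι₁) : comp f (ofComp f s) a = s a :=
  π_sum_ι _ V s a

lemma ofComp_comp {V : X.Opens} (t : Γ(∐ f, V)) : ofComp f (comp f t) = t :=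
  (sec_eq_sum _ V t).symm

/-- the map of coproducts given by a matrix of morphisms -/
def matDesc (m : ∀ i j, f i ⟶ g j) : ∐ f ⟶ ∐ g :=
  Sigma.desc fun i => ∑ j, m i j ≫ Sigma.ι g j

lemma matDesc_π (m : ∀ i j, f i ⟶ g j) (j : ι₂) :
    matDesc f g m ≫ Sigma.π g j = ∑ i, Sigma.π f i ≫ m i j := by
  apply Sigma.hom_ext
  intro i'
  unfold matDesc
  rw [← Category.assoc, Sigma.ι_desc, Preadditive.sum_comp, Preadditive.comp_sum]
  rw [Finset.sum_eq_single j]
  · rw [Category.assoc, Sigma.ι_π_eq_id, Category.comp_id]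
    rw [Finset.sum_eq_single i']
    · rw [← Category.assoc, Sigma.ι_π_eq_id, Category.id_comp]
    · intro e _ he
      rw [← Category.assoc, Sigma.ι_π_of_ne _ he.symm, zero_comp]
    · intro h
      exact absurd (Finset.mem_univ i') h
  · intro b' _ hb'
    rw [Category.assoc, Sigma.ι_π_of_ne _ hb', Limits.comp_zero]
  · intro h
    exact absurd (Finset.mem_univ j) h

/-- components of the image of a section under `matDesc` -/
lemma comp_matDesc (m : ∀ i j, f i ⟶ g j) {V : X.Opens} (t : Γ(∐ f, V)) (j : ι₂) :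
    comp g (((matDesc f g m).app V).hom t) j = ∑ i, ((m i j).app V).hom (comp f t i) := by
  have h1 : comp g (((matDesc f g m).app V).hom t) j =
      (appAddHom V (matDesc f g m ≫ Sigma.π g j)) t := rfl
  rw [h1, matDesc_π, map_sum, AddMonoidHom.finsetSum_apply]
  rfl

end

end Groth.Agent.Lib.helper20.Euler3a
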