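import Mathlib

/-!
# Koszul algebra on functions of finite subsets (helper20)

For `ξ : Fin m → T` and `v : Finset (Fin m) → T` the Koszul boundary
`bd ξ v J = ∑_{l ∉ J} sgn l J * ξ l * v (insert l J)`.

* `bd_bd`: `bd ξ (bd ξ v) = 0`.
* `eq_zero_of_bd_eq_zero`: if `ξ i` is a unit, `bd ξ v = 0` and `v` vanishes off the sets containing `i`... (K-lemma)
* `bd_hmt`: explicit preimage.
-/

set_option autoImplicit false

namespace Groth.Agent.Lib.helper20.EulerAlg

open Finset

variable {m : ℕ} {T : Type*} [CommRing T]

/-- the Koszul sign `(-1)^{#{j ∈ J, j < l}}` -/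
def sgn (l : Fin m) (J : Finset (Fin m)) : ℤ := (-1) ^ (J.filter (· < l)).card

lemma sgn_mul_self (l : Fin m) (J : Finset (Fin m)) : sgn l J * sgn l J = 1 := by
  unfold sgn
  rw [← pow_add, ← two_mul, pow_mul]
  simp

lemma sgn_insert {l k : Fin m} {J : Finset (Fin m)} (hl : l ∉ J) :
    sgn k (insert l J) = sgn k J * (if l < k then -1 else 1) := by
  unfold sgn
  by_cases h : l < k
  · rw [if_pos h, Finset.filter_insert, if_pos h, Finset.card_insert_of_notMem, pow_succ]
    intro h'
    exact hl (Finset.mem_filter.mp h').1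
  · rw [if_neg h, Finset.filter_insert, if_neg h, mul_one]

lemma sgn_erase {l k : Fin m} {J : Finset (Fin m)} (hl : l ∈ J) :
    sgn k J = sgn k (J.erase l) * (if l < k then -1 else 1) := by
  conv_lhs => rw [← Finset.insert_erase hl]
  exact sgn_insert (Finset.notMem_erase l J)

/-- the Koszul boundary -/
def bd (ξ : Fin m → T) (v : Finset (Fin m) → T) (J : Finset (Fin m)) : T :=
  ∑ l, if l ∈ J then 0 else (sgn l J : T) * ξ l * v (insert l J)

lemma bd_bd (ξ : Fin m → T) (v : Finset (Fin m) → T) (J : Finset (Fin m)) :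
    bd ξ (bd ξ v) J = 0 := by
  classical
  let F : Fin m × Fin m → T := fun q =>
    if q.1 ∈ J ∨ q.2 ∈ J ∨ q.2 = q.1 then 0
    else (sgn q.1 J : T) * ξ q.1 * ((sgn q.2 (insert q.1 J) : T) * ξ q.2 *
      v (insert q.2 (insert q.1 J)))
  have h1 : bd ξ (bd ξ v) J = ∑ q : Fin m × Fin m, F q := by
    rw [Fintype.sum_prod_type]
    unfold bd
    refine Finset.sum_congr rfl fun l _ => ?_
    by_cases hl : l ∈ J
    · rw [if_pos hl]
      symm
      refine Finset.sum_eq_zero fun k _ => ?_
      simp only [F]
      rw [if_pos (Or.inl hl)]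
    · rw [if_neg hl, Finset.mul_sum]
      refine Finset.sum_congr rfl fun k _ => ?_
      simp only [F]
      by_cases hk : k ∈ insert l J
      · rw [if_pos hk, mul_zero, if_pos]
        rcases Finset.mem_insert.mp hk with h | h
        · exact Or.inr (Or.inr h)
        · exact Or.inr (Or.inl h)
      · rw [if_neg hk, if_neg]
        intro h
        apply hk
        rcases h with h | h | h
        · exact absurd h hl
        · exact Finset.mem_insert_of_mem h
        · rw [h]; exact Finset.mem_insert_self _ _
  rw [h1]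
  refine Finset.sum_involution (fun q _ => (q.2, q.1)) ?_ ?_ (fun _ _ => Finset.mem_univ _)
    (fun _ _ => rfl)
  · rintro ⟨l, k⟩ -
    simp only [F]
    by_cases h : l ∈ J ∨ k ∈ J ∨ k = l
    · rw [if_pos h, if_pos, add_zero]
      rcases h with h | h | h
      · exact Or.inr (Or.inl h)
      · exact Or.inl h
      · exact Or.inr (Or.inr h.symm)
    · have hl : l ∉ J := fun h' => h (Or.inl h')
      have hk : k ∉ J := fun h' => h (Or.inr (Or.inl h'))
      have hkl : k ≠ l := fun h' => h (Or.inr (Or.inr h'))
      rw [if_neg h, if_neg]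
      swap
      · rintro (h' | h' | h')
        · exact hk h'
        · exact hl h'
        · exact hkl h'.symm
      rw [sgn_insert hl, sgn_insert hk, Finset.insert_comm k l J]
      rcases lt_or_gt_of_ne hkl with h' | h'
      · rw [if_pos h', if_neg (not_lt.mpr h'.le)]
        push_cast
        ring
      · rw [if_neg (not_lt.mpr h'.le), if_pos h']
        push_cast
        ring
  · rintro ⟨l, k⟩ - hF
    simp only [F] at hF
    intro h
    apply hF
    rw [if_pos]
    right; right
    exact (Prod.ext_iff.mp h).1

lemma bd_sub (ξ : Fin m → T) (v w : Finset (Fin m) → T) (J : Finset (Fin m)) :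
    bd ξ (fun K => v K - w K) J = bd ξ v J - bd ξ w J := by
  unfold bd
  rw [← Finset.sum_sub_distrib]
  refine Finset.sum_congr rfl fun l _ => ?_
  by_cases hl : l ∈ J
  · simp [hl]
  · simp only [if_neg hl]
    ring

/-- K-lemma: a cycle vanishing on the sets not containing `i` vanishes, if `ξ i` is a unit -/
lemma eq_zero_of_bd_eq_zero (ξ : Fin m → T) (v : Finset (Fin m) → T) (i : Fin m)
    (hi : IsUnit (ξ i)) (hbd : ∀ J, i ∉ J → bd ξ v J = 0) (hv : ∀ J, i ∉ J → v J = 0)
    (J : Finset (Fin m)) : v J = 0 := by
  classical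
  by_cases hJ : i ∈ J
  · have h1 := hbd (J.erase i) (Finset.notMem_erase i J)
    unfold bd at h1
    rw [Finset.sum_eq_single i] at h1
    · rw [if_neg (Finset.notMem_erase i J), Finset.insert_erase hJ] at h1
      have hu : IsUnit ((sgn i (J.erase i) : T) * ξ i) := by
        refine IsUnit.mul ?_ hi
        refine IsUnit.of_mul_eq_one (sgn i (J.erase i) : T) ?_
        rw [← Int.cast_mul, sgn_mul_self, Int.cast_one]
      exact (hu.mul_right_eq_zero).mp h1
    · intro l _ hl
      by_cases hl' : l ∈ J.erase i
      · rw [if_pos hl']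
      · rw [if_neg hl', hv, mul_zero]
        intro h
        rcases Finset.mem_insert.mp h with h | h
        · exact hl h.symm
        · exact Finset.notMem_erase i J h
    · intro h
      exact absurd (Finset.mem_univ i) h
  · exact hv J hJ

/-- the contracting homotopy -/
def hmt (η : T) (i : Fin m) (v : Finset (Fin m) → T) (J : Finset (Fin m)) : T :=
  if i ∈ J then (sgn i (J.erase i) : T) * η * v (J.erase i) else 0

lemma bd_hmt_of_notMem (ξ : Fin m → T) (η : T) (i : Fin m) (hη : ξ i * η = 1)
    (v : Finset (Fin m) → T) (J : Finset (Fin m)) (hJ : i ∉ J) : bd ξ (hmt η i v) J = v J := by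
  classical
  unfold bd
  rw [Finset.sum_eq_single i]
  · rw [if_neg hJ]
    unfold hmt
    rw [if_pos (Finset.mem_insert_self i J), Finset.erase_insert hJ]
    have : (sgn i J : T) * (sgn i J : T) = 1 := by
      rw [← Int.cast_mul, sgn_mul_self, Int.cast_one]
    calc (sgn i J : T) * ξ i * ((sgn i J : T) * η * v J)
        = ((sgn i J : T) * (sgn i J : T)) * (ξ i * η) * v J := by ring
      _ = v J := by rw [this, hη, one_mul, one_mul]
  · intro l _ hl
    by_cases hl' : l ∈ J
    · rw [if_pos hl']
    · rw [if_neg hl']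
      unfold hmt
      rw [if_neg, mul_zero]
      intro h
      rcases Finset.mem_insert.mp h with h | h
      · exact hl h.symm
      · exact hJ h
  · intro h
    exact absurd (Finset.mem_univ i) h

/-- every cycle is a boundary, if some `ξ i` is invertible -/
lemma bd_hmt (ξ : Fin m → T) (η : T) (i : Fin m) (hη : ξ i * η = 1)
    (v : Finset (Fin m) → T) (hv : ∀ J, bd ξ v J = 0) (J : Finset (Fin m)) :
    bd ξ (hmt η i v) J = v J := by
  have hi : IsUnit (ξ i) := IsUnit.of_mul_eq_one η hη
  have h := eq_zero_of_bd_eq_zero ξ (fun K => v K - bd ξ (hmt η i v) K) i hi ?_ ?_ J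
  · exact (sub_eq_zero.mp h).symm
  · intro K _
    rw [bd_sub, hv, bd_bd, sub_zero]
  · intro K hK
    rw [bd_hmt_of_notMem ξ η i hη v K hK, sub_self]

section minors

variable {p : ℕ}

/-- the `p × p` minor of `E` on the rows in `I` (in increasing order), `0` if `#I ≠ p` -/
noncomputable def minor (E : Fin m → Fin p → T) (I : Finset (Fin m)) : T :=
  if h : I.card = p then Matrix.det (Matrix.of fun a b => E (I.orderEmbOfFin h a) b) else 0

lemma minor_of_card (E : Fin m → Fin p → T) (I : Finset (Fin m)) (h : I.card = p) :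
    minor E I = Matrix.det (Matrix.of fun a b => E (I.orderEmbOfFin h a) b) := dif_pos h

lemma minor_of_card_ne (E : Fin m → Fin p → T) (I : Finset (Fin m)) (h : I.card ≠ p) :
    minor E I = 0 := dif_neg h

/-- position of `l` in `insert l J` is `#{j ∈ J, j < l}` -/
lemma orderEmbOfFin_symm_val {q : ℕ} (s : Finset (Fin m)) (hs : s.card = q) (k : Fin q) :
    (s.filter (· < s.orderEmbOfFin hs k)).card = k.val := by
  classical
  have h1 : s.filter (· < s.orderEmbOfFin hs k) =
      (Finset.univ.filter (· < k)).map (s.orderEmbOfFin hs).toEmbedding := by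
    ext j
    simp only [Finset.mem_filter, Finset.mem_map, Finset.mem_univ, true_and,
      RelEmbedding.coe_toEmbedding]
    constructor
    · rintro ⟨hj, hlt⟩
      have : j ∈ Set.range (s.orderEmbOfFin hs) := by
        rw [Finset.range_orderEmbOfFin]; exact hj
      obtain ⟨a, rfl⟩ := this
      exact ⟨a, (s.orderEmbOfFin hs).lt_iff_lt.mp hlt, rfl⟩
    · rintro ⟨a, ha, rfl⟩
      exact ⟨Finset.orderEmbOfFin_mem s hs a, (s.orderEmbOfFin hs).lt_iff_lt.mpr ha⟩
  rw [h1, Finset.card_map]
  have : (Finset.univ.filter (· < k)) = Finset.Iio k := by ext; simp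
  rw [this, Fin.card_Iio]

/-- moving the row `l` to the top of the sorted rows of `insert l J` costs `sgn l J` -/
lemma det_cons_eq {q : ℕ} (E : Fin m → Fin (q + 1) → T) (J : Finset (Fin m)) (hJ : J.card = q)
    (l : Fin m) (hl : l ∉ J) :
    Matrix.det (Matrix.of (Fin.cons (E l) (fun a => E (J.orderEmbOfFin hJ a)) :
        Fin (q + 1) → Fin (q + 1) → T)) =
      (sgn l J : T) * minor E (insert l J) := by
  classical
  have hs : (insert l J).card = q + 1 := by rw [Finset.card_insert_of_notMem hl, hJ]
  rw [minor_of_card E _ hs]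
  set es := (insert l J).orderEmbOfFin hs with hes
  have hlmem : l ∈ Set.range es := by
    rw [Finset.range_orderEmbOfFin]; exact Finset.mem_insert_self l J
  obtain ⟨k, hk⟩ := hlmem
  -- the sorted enumeration of `J` is `es ∘ succAbove k`
  have hJe : (fun a => es (k.succAbove a)) = J.orderEmbOfFin hJ := by
    apply Finset.orderEmbOfFin_unique hJ
    · intro a
      have h1 : es (k.succAbove a) ∈ insert l J := Finset.orderEmbOfFin_mem _ hs _
      rcases Finset.mem_insert.mp h1 with h | h
      · exfalso
        rw [← hk] at h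
        exact Fin.succAbove_ne k a (es.injective h)
      · exact h
    · intro a b hab
      exact es.strictMono (Fin.strictMono_succAbove k hab)
  have hsg : (sgn l J : T) = (-1 : T) ^ (k : ℕ) := by
    unfold sgn
    have h2 : J.filter (· < l) = (insert l J).filter (· < l) := by
      rw [Finset.filter_insert, if_neg (lt_irrefl l)]
    have h3 : ((insert l J).filter (· < l)).card = k.val := by
      have := orderEmbOfFin_symm_val (insert l J) hs k
      rw [← hes, hk] at this
      exact this
    rw [h2, h3]
    push_cast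
    rfl
  -- the matrix with `l` on top is a row permutation of the sorted one
  have hM : (Matrix.of (Fin.cons (E l) (fun a => E (J.orderEmbOfFin hJ a)) :
      Fin (q + 1) → Fin (q + 1) → T)) =
      (Matrix.of fun a b => E (es a) b).submatrix (Fin.cycleRange k).symm id := by
    ext a b
    refine Fin.cases ?_ (fun a' => ?_) a
    · simp only [Matrix.of_apply, Fin.cons_zero, Matrix.submatrix_apply, id_eq,
        Fin.cycleRange_symm_zero, hk]
    · simp only [Matrix.of_apply, Fin.cons_succ, Matrix.submatrix_apply, id_eq,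
        Fin.cycleRange_symm_succ]
      rw [← hJe]
  rw [hM, Matrix.det_permute, hsg, Equiv.Perm.sign_symm, Fin.sign_cycleRange]
  push_cast
  rfl

/-- the minors of a matrix whose columns are orthogonal to `ξ` form a Koszul cycle -/
lemma bd_minor (ξ : Fin m → T) (E : Fin m → Fin p → T) (hE : ∀ b, ∑ j, ξ j * E j b = 0)
    (J : Finset (Fin m)) : bd ξ (minor E) J = 0 := by
  classical
  by_cases hc : J.card + 1 = p
  · obtain ⟨q, hJ⟩ : ∃ q, J.card = q := ⟨_, rfl⟩
    rw [hJ] at hc
    subst hc
    let rows : Fin q → Fin (q + 1) → T := fun a => E (J.orderEmbOfFin hJ a)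
    let N : Fin m → T := fun j =>
      Matrix.det (Matrix.of (Fin.cons (E j) rows : Fin (q + 1) → Fin (q + 1) → T))
    let L : (Fin (q + 1) → T) →ₗ[T] T :=
      (Matrix.detRowAlternating (n := Fin (q + 1)) (R := T)).toMultilinearMap.toLinearMap
        (Fin.cons 0 rows) 0
    have hL : ∀ j, L (E j) = N j := by
      intro j
      change Matrix.detRowAlternating (Function.update (Fin.cons 0 rows) 0 (E j)) = _
      rw [Fin.update_cons_zero]
      rfl
    have hA : ∑ j, ξ j * N j = 0 := by
      have h1 : ∑ j, ξ j • E j = 0 := by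
        funext b
        rw [Finset.sum_apply]
        simpa using hE b
      calc ∑ j, ξ j * N j = ∑ j, ξ j • L (E j) := by
            refine Finset.sum_congr rfl fun j _ => ?_
            rw [hL, smul_eq_mul]
        _ = L (∑ j, ξ j • E j) := by
            rw [map_sum]
            refine Finset.sum_congr rfl fun j _ => ?_
            rw [map_smul]
        _ = 0 := by rw [h1, map_zero]
    have hB : ∀ j ∈ J, N j = 0 := by
      intro j hj
      have : j ∈ Set.range (J.orderEmbOfFin hJ) := by
        rw [Finset.range_orderEmbOfFin]; exact hj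
      obtain ⟨a, ha⟩ := this
      refine Matrix.det_zero_of_row_eq (i := 0) (j := a.succ) (Fin.succ_ne_zero a).symm ?_
      funext b
      simp only [Matrix.of_apply, Fin.cons_zero, Fin.cons_succ, rows, ha]
    have hC : ∀ l, l ∉ J → N l = (sgn l J : T) * minor E (insert l J) :=
      fun l hl => det_cons_eq E J hJ l hl
    unfold bd
    refine Eq.trans ?_ hA
    refine Finset.sum_congr rfl fun l _ => ?_
    by_cases hl : l ∈ J
    · rw [if_pos hl, hB l hl, mul_zero]
    · rw [if_neg hl, hC l hl]
      ring
  · unfold bd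
    refine Finset.sum_eq_zero fun l _ => ?_
    by_cases hl : l ∈ J
    · rw [if_pos hl]
    · rw [if_neg hl, minor_of_card_ne, mul_zero]
      rw [Finset.card_insert_of_notMem hl]
      exact hc

/-- the minors of the "coordinate" matrix -/
lemma minor_delta (E : Fin m → Fin p → T) (η : T) (i : Fin m) (K : Finset (Fin m))
    (hK : K.card = p)
    (hE : ∀ j, j ≠ i → ∀ b, E j b = if j = K.orderEmbOfFin hK b then η else 0)
    (I : Finset (Fin m)) (hI : I.card = p) (hiI : i ∉ I) :
    minor E I = if I = K then η ^ p else 0 := by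
  classical
  rw [minor_of_card E I hI]
  have hne : ∀ a, I.orderEmbOfFin hI a ≠ i := fun a h =>
    hiI (h ▸ Finset.orderEmbOfFin_mem I hI a)
  by_cases hIK : I = K
  · subst hIK
    rw [if_pos rfl]
    have : (Matrix.of fun a b => E (I.orderEmbOfFin hI a) b) = η • (1 : Matrix (Fin p) (Fin p) T) := by
      ext a b
      rw [Matrix.of_apply, hE _ (hne a), Matrix.smul_apply, Matrix.one_apply, smul_eq_mul]
      by_cases hab : a = b
      · subst hab
        rw [if_pos rfl, if_pos rfl, mul_one]
      · rw [if_neg (fun h => hab ((I.orderEmbOfFin hK).injective h)), if_neg hab, mul_zero]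
    rw [this, Matrix.det_smul, Matrix.det_one, mul_one, Fintype.card_fin]
  · rw [if_neg hIK]
    have : ∃ a, I.orderEmbOfFin hI a ∉ K := by
      by_contra hcon
      push Not at hcon
      apply hIK
      apply Finset.eq_of_subset_of_card_le
      · intro j hj
        have : j ∈ Set.range (I.orderEmbOfFin hI) := by
          rw [Finset.range_orderEmbOfFin]; exact hj
        obtain ⟨a, rfl⟩ := this
        exact hcon a
      · rw [hI, hK]
    obtain ⟨a, ha⟩ := this
    refine Matrix.det_eq_zero_of_row_eq_zero a fun b => ?_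
    rw [Matrix.of_apply, hE _ (hne a), if_neg]
    intro h
    exact ha (h ▸ Finset.orderEmbOfFin_mem K hK b)

end minors

end Groth.Agent.Lib.helper20.EulerAlg
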