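import Mathlib
import Groth.Agent.Lib.Helper20.Euler3a
import Groth.Agent.Lib.Helper20.EulerAlg
import Groth.Agent.Lib.Helper20.TwistVal

/-!
# The Koszul complex `K_p = ∐_{#I = p} O(-p)` on projective space over a ring (helper20)
-/

set_option autoImplicit false
universe u

open CategoryTheory CategoryTheory.Limits AlgebraicGeometry Opposite TopologicalSpace

namespace Groth.Agent.Lib.helper20.Euler3

open Groth.Agent.Lib.helper20.EulerAlg Groth.Agent.Lib.helper20.Euler3a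
  Groth.Agent.Lib.helper20.TwistVal Groth.Agent.Lib.helper20.LFMono
  Groth.Agent.Lib.helper28.TwistFree Groth.Agent.Lib.helper28.TwistMul
  Groth.Agent.Lib.Helper20.ProjMulHom

noncomputable section

variable (n : ℕ) (A : Type u) [CommRing A]

local notation "𝒜ₙ" => CohB1.polyGrading n A
local notation "S" => MvPolynomial (Fin (n + 1)) A

/-- the index set of `K_p`: subsets of `{0..n}` of cardinality `p` -/
abbrev Idx (p : ℕ) : Type := ↥(Set.powersetCard (Fin (n + 1)) p)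

/-- `O(-p)` -/
abbrev tw (p : ℕ) : (Proj 𝒜ₙ).Modules := Twist.twist 𝒜ₙ (-(p : ℤ))

/-- the Koszul term `K_p = ∐_{#I = p} O(-p)` -/
abbrev K (p : ℕ) : (Proj 𝒜ₙ).Modules := ∐ (fun _ : Idx n p => tw n A p)

/-- multiplication by `X l`, `O(-p-1) ⟶ O(-p)` -/
def xHom (p : ℕ) (l : Fin (n + 1)) : tw n A (p + 1) ⟶ tw n A p :=
  mulHom 𝒜ₙ (a := -((p + 1 : ℕ) : ℤ)) (b := -(p : ℤ)) (k := 1) (by push_cast; ring)
    ⟨MvPolynomial.X l, MvPolynomial.isHomogeneous_X A l⟩

/-- the coefficients of the Koszul differential -/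
def dCoef (p : ℕ) (I : Idx n (p + 1)) (J : Idx n p) : tw n A (p + 1) ⟶ tw n A p :=
  ∑ l : Fin (n + 1), if l ∉ J.val ∧ I.val = insert l J.val then (sgn l J.val) • xHom n A p l else 0

/-- the Koszul differential -/
def d (p : ℕ) : K n A (p + 1) ⟶ K n A p :=
  matDesc (fun _ : Idx n (p + 1) => tw n A (p + 1)) (fun _ : Idx n p => tw n A p) (dCoef n A p)

variable {n A}

/-- `x_l / 1` in the localization at a point -/
def xi (x : ProjectiveSpectrum 𝒜ₙ) (l : Fin (n + 1)) : Twist.Loc 𝒜ₙ x :=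
  mkOne 𝒜ₙ (MvPolynomial.X l : S) x

/-- value at a point as an additive map -/
def valOHom {m : ℤ} {V : (Proj 𝒜ₙ).Opens} (x : V) : Γ(Twist.twist 𝒜ₙ m, V) →+ Twist.Loc 𝒜ₙ x.1 where
  toFun σ := valO 𝒜ₙ σ x
  map_zero' := rfl
  map_add' _ _ := rfl

lemma valO_zsmul {m : ℤ} {V : (Proj 𝒜ₙ).Opens} (z : ℤ) (σ : Γ(Twist.twist 𝒜ₙ m, V)) (x : V) :
    valO 𝒜ₙ (z • σ) x = (z : Twist.Loc 𝒜ₙ x.1) * valO 𝒜ₙ σ x := by
  have h := map_zsmul (valOHom (n := n) (A := A) (m := m) x) z σ
  rw [zsmul_eq_mul] at h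
  exact h

lemma valO_xHom (p : ℕ) (l : Fin (n + 1)) {V : (Proj 𝒜ₙ).Opens} (σ : Γ(tw n A (p + 1), V)) (x : V) :
    valO 𝒜ₙ (((xHom n A p l).app V).hom σ) x = valO 𝒜ₙ σ x * xi x.1 l :=
  mulHom_valO _ _ σ x

/-- values of a section of `K_p`, extended by zero to all finite subsets -/
def vExt {p : ℕ} {V : (Proj 𝒜ₙ).Opens} (a : Γ(K n A p, V)) (x : V) (I : Finset (Fin (n + 1))) :
    Twist.Loc 𝒜ₙ x.1 :=
  if h : I.card = p then
    valO 𝒜ₙ (comp (fun _ : Idx n p => tw n A p) a ⟨I, Set.powersetCard.mem_iff.mpr h⟩) x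
  else 0

lemma vExt_of_card {p : ℕ} {V : (Proj 𝒜ₙ).Opens} (a : Γ(K n A p, V)) (x : V) (I : Idx n p) :
    vExt a x I.val = valO 𝒜ₙ (comp (fun _ : Idx n p => tw n A p) a I) x := by
  unfold vExt
  rw [dif_pos (Set.powersetCard.mem_iff.mp I.prop)]

lemma vExt_of_card_ne {p : ℕ} {V : (Proj 𝒜ₙ).Opens} (a : Γ(K n A p, V)) (x : V)
    (I : Finset (Fin (n + 1))) (h : I.card ≠ p) : vExt a x I = 0 := dif_neg h

/-- the values of the image of a section under a coefficient of the Koszul differential -/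
lemma valO_dCoef (p : ℕ) (I : Idx n (p + 1)) (J : Idx n p) {V : (Proj 𝒜ₙ).Opens}
    (σ : Γ(tw n A (p + 1), V)) (x : V) :
    valO 𝒜ₙ (((dCoef n A p I J).app V).hom σ) x =
      ∑ l : Fin (n + 1), if l ∉ J.val ∧ I.val = insert l J.val then
        ((sgn l J.val : ℤ) : Twist.Loc 𝒜ₙ x.1) * (valO 𝒜ₙ σ x * xi x.1 l) else 0 := by
  have h1 : ((dCoef n A p I J).app V).hom σ = (appAddHom V (dCoef n A p I J)) σ := rfl
  rw [h1]
  unfold dCoef
  rw [map_sum, AddMonoidHom.finsetSum_apply, valO_sum]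
  refine Finset.sum_congr rfl fun l _ => ?_
  by_cases h : l ∉ J.val ∧ I.val = insert l J.val
  · rw [if_pos h, if_pos h, map_zsmul, AddMonoidHom.smul_apply, valO_zsmul]
    congr 1
    exact valO_xHom p l σ x
  · rw [if_neg h, if_neg h, map_zero]
    rfl

/-- the Koszul differential on values -/
theorem vExt_d (p : ℕ) {V : (Proj 𝒜ₙ).Opens} (a : Γ(K n A (p + 1), V)) (x : V)
    (J : Finset (Fin (n + 1))) :
    vExt (((d n A p).app V).hom a) x J = bd (xi x.1) (vExt a x) J := by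
  classical
  by_cases hJ : J.card = p
  · have hmem : J ∈ Set.powersetCard (Fin (n + 1)) p := Set.powersetCard.mem_iff.mpr hJ
    rw [vExt_of_card _ x ⟨J, hmem⟩]
    unfold d
    rw [comp_matDesc, valO_sum]
    rw [Finset.sum_congr rfl (fun I _ => valO_dCoef p I ⟨J, hmem⟩ (comp _ a I) x), Finset.sum_comm]
    unfold bd
    refine Finset.sum_congr rfl fun l _ => ?_
    by_cases hl : l ∈ J
    · rw [if_pos hl]
      refine Finset.sum_eq_zero fun I _ => ?_
      rw [if_neg]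
      intro h
      exact h.1 hl
    · rw [if_neg hl]
      have hc : (insert l J).card = p + 1 := by rw [Finset.card_insert_of_notMem hl, hJ]
      have hmem' : insert l J ∈ Set.powersetCard (Fin (n + 1)) (p + 1) :=
        Set.powersetCard.mem_iff.mpr hc
      rw [Finset.sum_eq_single (⟨insert l J, hmem'⟩ : Idx n (p + 1))]
      · rw [if_pos ⟨hl, rfl⟩, vExt_of_card a x ⟨insert l J, hmem'⟩]
        ring
      · intro I _ hI
        rw [if_neg]
        intro h
        exact hI (Subtype.ext h.2)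
      · intro h
        exact absurd (Finset.mem_univ _) h
  · rw [vExt_of_card_ne _ x J hJ]
    unfold bd
    symm
    refine Finset.sum_eq_zero fun l _ => ?_
    by_cases hl : l ∈ J
    · rw [if_pos hl]
    · rw [if_neg hl, vExt_of_card_ne, mul_zero]
      rw [Finset.card_insert_of_notMem hl]
      omega

end

end Groth.Agent.Lib.helper20.Euler3
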