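import Mathlib
import Groth.Agent.Lib.Helper20.Euler3
import Groth.Agent.Lib.Helper28.TwistPn

/-!
# The Koszul complex on projective space over a ring is exact (helper20)
-/

set_option autoImplicit false
universe u

open CategoryTheory CategoryTheory.Limits AlgebraicGeometry Opposite TopologicalSpace

namespace Groth.Agent.Lib.helper20.Euler3

open Groth.Agent.Lib.helper20.EulerAlg Groth.Agent.Lib.helper20.Euler3a
  Groth.Agent.Lib.helper20.TwistVal Groth.Agent.Lib.helper20.LFMono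
  Groth.Agent.Lib.helper28.TwistFree Groth.Agent.Lib.helper28.TwistMul
  Groth.Agent.Lib.Helper20.ProjMulHom Groth.Agent.Lib.helper20.ExactLoc

noncomputable section

variable {n : ℕ} {A : Type u} [CommRing A]

local notation "𝒜ₙ" => CohB1.polyGrading n A
local notation "S" => MvPolynomial (Fin (n + 1)) A

/-- sections of `K_p` are determined by their values -/
lemma sec_ext_vExt {p : ℕ} {V : (Proj 𝒜ₙ).Opens} (a a' : Γ(K n A p, V))
    (h : ∀ (x : V) (I : Idx n p), vExt a x I.val = vExt a' x I.val) : a = a' := by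
  apply comp_ext (fun _ : Idx n p => tw n A p)
  intro I
  apply valO_ext
  intro x
  rw [← vExt_of_card, ← vExt_of_card]
  exact h x I

lemma vExt_zero {p : ℕ} {V : (Proj 𝒜ₙ).Opens} (x : V) (I : Finset (Fin (n + 1))) :
    vExt (0 : Γ(K n A p, V)) x I = 0 := by
  unfold vExt
  split_ifs with h
  · rw [Euler3a.comp_zero]; rfl
  · rfl

lemma vExt_res {p : ℕ} {V W : (Proj 𝒜ₙ).Opens} (hW : W ≤ V) (a : Γ(K n A p, V)) (x : W)
    (I : Finset (Fin (n + 1))) :
    vExt ((K n A p).presheaf.map (homOfLE hW).op a) x I = vExt a ⟨x.1, hW x.2⟩ I := by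
  unfold vExt
  split_ifs with h
  · rw [comp_res, valO_res]
  · rfl

/-- `d ∘ d = 0` -/
theorem d_comp_d (p : ℕ) : d n A (p + 1) ≫ d n A p = 0 := by
  apply Scheme.Modules.hom_ext
  intro V
  apply AddCommGrpCat.hom_ext
  apply AddMonoidHom.ext
  intro a
  change ((d n A p).app V).hom (((d n A (p + 1)).app V).hom a) = 0
  apply sec_ext_vExt
  intro x I
  rw [vExt_d, vExt_zero]
  have : vExt (((d n A (p + 1)).app V).hom a) x = bd (xi x.1) (vExt a x) := by
    funext J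
    exact vExt_d (p + 1) a x J
  rw [this, bd_bd]

/-- `1 / x_i` in the localization at a point outside `V(x_i)` -/
def eta (i : Fin (n + 1)) (x : ProjectiveSpectrum 𝒜ₙ)
    (hx : (MvPolynomial.X i : S) ∉ x.asHomogeneousIdeal) : Twist.Loc 𝒜ₙ x :=
  Localization.mk 1 ⟨MvPolynomial.X i, hx⟩

lemma xi_mul_eta (i : Fin (n + 1)) (x : ProjectiveSpectrum 𝒜ₙ)
    (hx : (MvPolynomial.X i : S) ∉ x.asHomogeneousIdeal) : xi x i * eta i x hx = 1 := by
  unfold xi eta mkOne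
  rw [Localization.mk_mul, mul_one]
  have : (⟨1, fun h => x.isPrime.ne_top ((Ideal.eq_top_iff_one _).mpr h)⟩ :
      x.asHomogeneousIdeal.toIdeal.primeCompl) * ⟨MvPolynomial.X i, hx⟩ = ⟨MvPolynomial.X i, hx⟩ :=
    one_mul _
  rw [this]
  exact Localization.mk_self (⟨MvPolynomial.X i, hx⟩ : x.asHomogeneousIdeal.toIdeal.primeCompl)

/-- the section `1 / X_i` of `O(-1)` on an open where `X_i` vanishes nowhere -/
def invX (i : Fin (n + 1)) (W : (Proj 𝒜ₙ).Opens)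
    (hW : ∀ x : W, (MvPolynomial.X i : S) ∉ x.1.asHomogeneousIdeal) :
    Twist.sectN (𝒜 := 𝒜ₙ) (-1) (op W) :=
  fracSectN 𝒜ₙ (-1) W (i := 0) (j := 1) ⟨1, SetLike.GradedOne.one_mem⟩
    ⟨MvPolynomial.X i, MvPolynomial.isHomogeneous_X A i⟩ hW (by norm_num)

/-- division by `X_i`, `O(-p)(W) → O(-p-1)(W)` -/
def divX (i : Fin (n + 1)) (W : (Proj 𝒜ₙ).Opens)
    (hW : ∀ x : W, (MvPolynomial.X i : S) ∉ x.1.asHomogeneousIdeal) (p : ℕ)
    (σ : Γ(tw n A p, W)) : Γ(tw n A (p + 1), W) :=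
  ofSec 𝒜ₙ (castSec 𝒜ₙ (show -(p : ℤ) + -1 = -((p + 1 : ℕ) : ℤ) by push_cast; ring)
    (mulFun 𝒜ₙ (-(p : ℤ)) (-1) W (toSec 𝒜ₙ σ) (invX i W hW)))

lemma valO_divX (i : Fin (n + 1)) (W : (Proj 𝒜ₙ).Opens)
    (hW : ∀ x : W, (MvPolynomial.X i : S) ∉ x.1.asHomogeneousIdeal) (p : ℕ)
    (σ : Γ(tw n A p, W)) (x : W) :
    valO 𝒜ₙ (divX i W hW p σ) x = valO 𝒜ₙ σ x * eta i x.1 (hW x) := by
  unfold divX
  rw [valO_ofSec, castSec_val, mulFun_val]
  rfl

/-- the contracting homotopy on sections over an open inside `D₊(X_i)` -/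
def hmtSec (i : Fin (n + 1)) (W : (Proj 𝒜ₙ).Opens)
    (hW : ∀ x : W, (MvPolynomial.X i : S) ∉ x.1.asHomogeneousIdeal) {p : ℕ}
    (s : Γ(K n A p, W)) : Γ(K n A (p + 1), W) :=
  ofComp (fun _ : Idx n (p + 1) => tw n A (p + 1)) fun T =>
    if h : i ∈ T.val then
      (sgn i (T.val.erase i)) • divX i W hW p (comp (fun _ : Idx n p => tw n A p) s
        ⟨T.val.erase i, Set.powersetCard.mem_iff.mpr (by
          rw [Finset.card_erase_of_mem h, Set.powersetCard.mem_iff.mp T.prop]; rfl)⟩)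
    else 0

lemma vExt_hmtSec (i : Fin (n + 1)) (W : (Proj 𝒜ₙ).Opens)
    (hW : ∀ x : W, (MvPolynomial.X i : S) ∉ x.1.asHomogeneousIdeal) {p : ℕ}
    (s : Γ(K n A p, W)) (x : W) :
    vExt (hmtSec i W hW s) x = hmt (eta i x.1 (hW x)) i (vExt s x) := by
  funext T
  by_cases hT : T.card = p + 1
  · have hmem : T ∈ Set.powersetCard (Fin (n + 1)) (p + 1) := Set.powersetCard.mem_iff.mpr hT
    rw [vExt_of_card _ x ⟨T, hmem⟩]
    unfold hmtSec
    rw [comp_ofComp]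
    unfold hmt
    by_cases hi : i ∈ T
    · rw [dif_pos hi, if_pos hi, valO_zsmul, valO_divX]
      have hc : (T.erase i).card = p := by rw [Finset.card_erase_of_mem hi, hT]; rfl
      rw [vExt_of_card s x ⟨T.erase i, Set.powersetCard.mem_iff.mpr hc⟩]
      ring
    · rw [dif_neg hi, if_neg hi]
      rfl
  · rw [vExt_of_card_ne _ x T hT]
    unfold hmt
    by_cases hi : i ∈ T
    · rw [if_pos hi, vExt_of_card_ne, mul_zero]
      rw [Finset.card_erase_of_mem hi]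
      intro h
      apply hT
      have : 0 < T.card := Finset.card_pos.mpr ⟨i, hi⟩
      omega
    · rw [if_neg hi]

/-- Koszul cycles, on values -/
def IsCyc {p : ℕ} {V : (Proj 𝒜ₙ).Opens} (s : Γ(K n A p, V)) : Prop :=
  ∀ (x : V) (J : Finset (Fin (n + 1))), bd (xi x.1) (vExt s x) J = 0

lemma isCyc_of_d_eq_zero {p : ℕ} {V : (Proj 𝒜ₙ).Opens} (s : Γ(K n A (p + 1), V))
    (h : ((d n A p).app V).hom s = 0) : IsCyc s := fun x J => by
  rw [← vExt_d, h, vExt_zero]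

lemma d_eq_zero_of_isCyc {p : ℕ} {V : (Proj 𝒜ₙ).Opens} (s : Γ(K n A (p + 1), V))
    (h : IsCyc s) : ((d n A p).app V).hom s = 0 := by
  apply sec_ext_vExt
  intro x I
  rw [vExt_d, vExt_zero]
  exact h x I.val

lemma isCyc_deg_zero {V : (Proj 𝒜ₙ).Opens} (s : Γ(K n A 0, V)) : IsCyc s := fun x J => by
  classical
  unfold bd
  refine Finset.sum_eq_zero fun l _ => ?_
  by_cases hl : l ∈ J
  · rw [if_pos hl]
  · rw [if_neg hl, vExt_of_card_ne, mul_zero]
    rw [Finset.card_insert_of_notMem hl]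
    omega

lemma isCyc_res {p : ℕ} {V W : (Proj 𝒜ₙ).Opens} (hW : W ≤ V) (s : Γ(K n A p, V)) (h : IsCyc s) :
    IsCyc ((K n A p).presheaf.map (homOfLE hW).op s) := fun x J => by
  have : vExt ((K n A p).presheaf.map (homOfLE hW).op s) x = vExt s ⟨x.1, hW x.2⟩ := by
    funext I
    exact vExt_res hW s x I
  rw [this]
  exact h ⟨x.1, hW x.2⟩ J

/-- every Koszul cycle is locally a boundary -/
theorem exists_local_preimage {p : ℕ} {V : (Proj 𝒜ₙ).Opens} (s : Γ(K n A p, V)) (hs : IsCyc s)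
    (y : Proj 𝒜ₙ) (hy : y ∈ V) :
    ∃ (W : (Proj 𝒜ₙ).Opens) (hW : W ≤ V), y ∈ W ∧ ∃ t : Γ(K n A (p + 1), W),
      ((d n A p).app W).hom t = (K n A p).presheaf.map (homOfLE hW).op s := by
  obtain ⟨i, hi⟩ := Groth.Agent.Lib.helper28.TwistPn.exists_X_notMem n A y
  have hW' : ∀ x : (V ⊓ Proj.basicOpen 𝒜ₙ (MvPolynomial.X i : S) : (Proj 𝒜ₙ).Opens),
      (MvPolynomial.X i : S) ∉ x.1.asHomogeneousIdeal := fun x =>
    (Proj.mem_basicOpen 𝒜ₙ _ x.1).mp x.2.2
  refine ⟨V ⊓ Proj.basicOpen 𝒜ₙ (MvPolynomial.X i : S), inf_le_left,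
    ⟨hy, (Proj.mem_basicOpen 𝒜ₙ _ y).mpr hi⟩,
    hmtSec i _ hW' ((K n A p).presheaf.map (homOfLE inf_le_left).op s), ?_⟩
  apply sec_ext_vExt
  intro x I
  rw [vExt_d, vExt_hmtSec]
  exact bd_hmt (xi x.1) (eta i x.1 (hW' x)) i (xi_mul_eta i x.1 (hW' x)) _
    (isCyc_res inf_le_left s hs x) I.val

/-- the Koszul complex is exact -/
theorem exact_d (p : ℕ) : (ShortComplex.mk (d n A (p + 1)) (d n A p) (d_comp_d p)).Exact := by
  apply exact_of_locally
  intro V s hs y hy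
  exact exists_local_preimage s (isCyc_of_d_eq_zero s hs) y hy

/-- `K_1 ⟶ K_0` is an epimorphism -/
theorem epi_d_zero : Epi (d n A 0) := by
  apply Groth.Agent.Lib.helper28.SecEpi.epi_of_locally_surjective
  intro V s y hy
  exact exists_local_preimage s (isCyc_deg_zero s) y hy

end

end Groth.Agent.Lib.helper20.Euler3
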