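import Mathlib
import Groth.Agent.Lib.Helper20.Euler3b
import Groth.Agent.Lib.Helper28.TwistZero

/-!
# Sections of twisting sheaves from pointwise ring expressions; determinant sections (helper20)
-/

set_option autoImplicit false
universe u

open CategoryTheory CategoryTheory.Limits AlgebraicGeometry Opposite TopologicalSpace

namespace Groth.Agent.Lib.helper20.Euler4a

open Groth.Agent.Lib.helper20.TwistVal
  Groth.Agent.Lib.helper28.TwistFree Groth.Agent.Lib.helper28.TwistMul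
  Groth.Agent.Lib.Helper20.ProjMulHom Groth.Agent.Lib.helper20.Euler3

noncomputable section

variable {n : ℕ} {A : Type u} [CommRing A]

local notation "𝒜ₙ" => CohB1.polyGrading n A
local notation "S" => MvPolynomial (Fin (n + 1)) A

/-- the ring of all functions `x ↦ (element of the localization at x)` on `U` -/
abbrev FunU (n : ℕ) (A : Type u) [CommRing A] (U : (Proj (CohB1.polyGrading n A)).Opens) : Type u :=
  ∀ x : U, Twist.Loc (CohB1.polyGrading n A) x.1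

/-- `φ` is the function of values of a section of `O(m)` -/
def IsSec (U : (Proj 𝒜ₙ).Opens) (m : ℤ) (φ : FunU n A U) : Prop :=
  ∃ σ : Γ(Twist.twist 𝒜ₙ m, U), ∀ x, valO 𝒜ₙ σ x = φ x

lemma isSec_valO {U : (Proj 𝒜ₙ).Opens} {m : ℤ} (σ : Γ(Twist.twist 𝒜ₙ m, U)) : IsSec U m (fun x => valO 𝒜ₙ σ x) :=
  ⟨σ, fun _ => rfl⟩

lemma IsSec.congr {U : (Proj 𝒜ₙ).Opens} {m m' : ℤ} {φ : FunU n A U} (h : IsSec U m φ) (hm : m = m') : IsSec U m' φ := by
  subst hm; exact h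

lemma IsSec.zero {U : (Proj 𝒜ₙ).Opens} (m : ℤ) : IsSec U m (0 : FunU n A U) := ⟨0, fun _ => rfl⟩

lemma IsSec.add {U : (Proj 𝒜ₙ).Opens} {m : ℤ} {φ ψ : FunU n A U} (h : IsSec U m φ) (h' : IsSec U m ψ) :
    IsSec U m (φ + ψ) := by
  obtain ⟨σ, hσ⟩ := h
  obtain ⟨τ, hτ⟩ := h'
  exact ⟨σ + τ, fun x => by rw [valO_add, hσ, hτ]; rfl⟩

lemma IsSec.zsmul {U : (Proj 𝒜ₙ).Opens} {m : ℤ} {φ : FunU n A U} (h : IsSec U m φ) (z : ℤ) : IsSec U m (z • φ) := by
  obtain ⟨σ, hσ⟩ := h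
  exact ⟨z • σ, fun x => by rw [valO_zsmul, hσ, Pi.smul_apply, zsmul_eq_mul]⟩

lemma IsSec.mul {U : (Proj 𝒜ₙ).Opens} {m m' : ℤ} {φ ψ : FunU n A U} (h : IsSec U m φ) (h' : IsSec U m' ψ) :
    IsSec U (m + m') (φ * ψ) := by
  obtain ⟨σ, hσ⟩ := h
  obtain ⟨τ, hτ⟩ := h'
  refine ⟨ofSec 𝒜ₙ (mulFun 𝒜ₙ m m' U (toSec 𝒜ₙ σ) (toSec 𝒜ₙ τ)), fun x => ?_⟩
  rw [valO_ofSec, mulFun_val, Pi.mul_apply, ← hσ, ← hτ]
  rfl

lemma IsSec.one {U : (Proj 𝒜ₙ).Opens} : IsSec U 0 (1 : FunU n A U) :=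
  ⟨ofSec 𝒜ₙ (Groth.Agent.Lib.helper28.TwistZero.oneSect 𝒜ₙ U), fun x => by
    rw [valO_ofSec]
    exact Localization.mk_self (1 : x.1.asHomogeneousIdeal.toIdeal.primeCompl)⟩

lemma IsSec.sum {U : (Proj 𝒜ₙ).Opens} {m : ℤ} {ι : Type*} (s : Finset ι) (φ : ι → FunU n A U)
    (h : ∀ i ∈ s, IsSec U m (φ i)) : IsSec U m (∑ i ∈ s, φ i) := by
  classical
  induction s using Finset.induction_on with
  | empty => rw [Finset.sum_empty]; exact IsSec.zero m
  | insert a s ha ih =>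
    rw [Finset.sum_insert ha]
    exact (h a (Finset.mem_insert_self a s)).add (ih fun i hi => h i (Finset.mem_insert_of_mem hi))

lemma IsSec.prod {U : (Proj 𝒜ₙ).Opens} {m : ℤ} {ι : Type*} (s : Finset ι) (φ : ι → FunU n A U)
    (h : ∀ i ∈ s, IsSec U m (φ i)) : IsSec U (s.card • m) (∏ i ∈ s, φ i) := by
  classical
  induction s using Finset.induction_on with
  | empty =>
    rw [Finset.prod_empty, Finset.card_empty, zero_smul]
    exact IsSec.one
  | insert a s ha ih =>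
    rw [Finset.prod_insert ha, Finset.card_insert_of_notMem ha]
    refine ((h a (Finset.mem_insert_self a s)).mul
      (ih fun i hi => h i (Finset.mem_insert_of_mem hi))).congr ?_
    rw [add_smul, one_smul, add_comm]

lemma IsSec.det {U : (Proj 𝒜ₙ).Opens} {p : ℕ} (M : Matrix (Fin p) (Fin p) (FunU n A U)) (h : ∀ a b, IsSec U (-1) (M a b)) :
    IsSec U (-(p : ℤ)) M.det := by
  rw [Matrix.det_apply]
  refine IsSec.sum _ _ fun σ _ => ?_
  rw [Units.smul_def]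
  refine IsSec.zsmul ?_ _
  refine (IsSec.prod Finset.univ _ fun i _ => h (σ i) i).congr ?_
  simp

lemma det_apply_pt {U : (Proj 𝒜ₙ).Opens} {p : ℕ} (M : Matrix (Fin p) (Fin p) (FunU n A U)) (x : U) :
    M.det x = (Matrix.of fun a b => M a b x).det := by
  have h := RingHom.map_det (Pi.evalRingHom (fun x : U => Twist.Loc 𝒜ₙ x.1) x) M
  exact h

/-- the section of `O(-p)` whose values are the determinants of the values of a matrix of sections
of `O(-1)` -/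
def detSec {U : (Proj 𝒜ₙ).Opens} {p : ℕ} (s : Fin p → Fin p → Γ(Twist.twist 𝒜ₙ (-1), U)) :
    Γ(tw n A p, U) :=
  (IsSec.det (Matrix.of fun a b => (fun x => valO 𝒜ₙ (s a b) x : FunU n A U))
    (fun a b => isSec_valO (s a b))).choose

lemma valO_detSec {U : (Proj 𝒜ₙ).Opens} {p : ℕ} (s : Fin p → Fin p → Γ(Twist.twist 𝒜ₙ (-1), U))
    (x : U) : valO 𝒜ₙ (detSec s) x = (Matrix.of fun a b => valO 𝒜ₙ (s a b) x).det := by
  have h := (IsSec.det (Matrix.of fun a b => (fun x => valO 𝒜ₙ (s a b) x : FunU n A U))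
    (fun a b => isSec_valO (s a b))).choose_spec x
  rw [det_apply_pt] at h
  exact h

/-- value of a multiple of a section -/
lemma valO_smul {U : (Proj 𝒜ₙ).Opens} {m : ℤ} (r : Γ(Proj 𝒜ₙ, U)) (σ : Γ(Twist.twist 𝒜ₙ m, U))
    (x : U) :
    valO 𝒜ₙ (r • σ) x = ((show Twist.O (𝒜 := 𝒜ₙ) (op U) from r).1 x).val * valO 𝒜ₙ σ x :=
  smul_val 𝒜ₙ (show Twist.O (𝒜 := 𝒜ₙ) (op U) from r) (toSec 𝒜ₙ σ) x

end

end Groth.Agent.Lib.helper20.Euler4a
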