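import Mathlib
import Groth.Agent.Lib.Helper20.Euler4a
import Groth.Agent.Lib.Helper20.Euler2b
import Groth.Prelude.Def_ExtPow2

/-!
# The minors maps `⋀^p Ω(U) → O(-p)(U)` on projective space (helper20)
-/

set_option autoImplicit false
universe u

open CategoryTheory CategoryTheory.Limits AlgebraicGeometry Opposite TopologicalSpace

namespace Groth.Agent.Lib.helper20.Euler4b

open Groth.Agent.Lib.helper20.TwistVal
  Groth.Agent.Lib.helper28.TwistFree Groth.Agent.Lib.helper28.TwistMul
  Groth.Agent.Lib.Helper20.ProjMulHom Groth.Agent.Lib.helper20.Euler3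
  Groth.Agent.Lib.helper20.Euler2 Groth.Agent.Lib.helper20.Euler2b
  Groth.Agent.Lib.helper20.Euler4a

noncomputable section

variable {n : ℕ} {A : Type u} [CommRing A] [QuasiSeparated (fP n A)]

local notation "𝒜ₙ" => CohB1.polyGrading n A
local notation "S" => MvPolynomial (Fin (n + 1)) A
local notation "Ωₙ" => Omega.sheaf (fP n A)

/-- the row of values of `ε_{r a}` on a differential form -/
def epsRow {p : ℕ} (r : Fin p → Fin (n + 1)) (U : (Proj 𝒜ₙ).Opens) (w : Γ(Ωₙ, U)) (x : U) :
    Fin p → Twist.Loc 𝒜ₙ x.1 :=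
  fun a => valO 𝒜ₙ (((eps (r a)).app U).hom w) x

lemma epsRow_add {p : ℕ} (r : Fin p → Fin (n + 1)) (U : (Proj 𝒜ₙ).Opens) (w w' : Γ(Ωₙ, U)) (x : U) :
    epsRow r U (w + w') x = epsRow r U w x + epsRow r U w' x := by
  funext a
  unfold epsRow
  rw [map_add, valO_add]
  rfl

lemma epsRow_smul {p : ℕ} (r : Fin p → Fin (n + 1)) (U : (Proj 𝒜ₙ).Opens) (c : Γ(Proj 𝒜ₙ, U))
    (w : Γ(Ωₙ, U)) (x : U) :
    epsRow r U (c • w) x =
      ((show Twist.O (𝒜 := 𝒜ₙ) (op U) from c).1 x).val • epsRow r U w x := by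
  funext a
  unfold epsRow
  rw [Scheme.Modules.Hom.app_smul, valO_smul]
  rfl

/-- the matrix of values of the `ε_{r a}` on a family of differential forms -/
def epsMat {p : ℕ} (r : Fin p → Fin (n + 1)) (U : (Proj 𝒜ₙ).Opens) (ω : Fin p → Γ(Ωₙ, U)) (x : U) :
    Matrix (Fin p) (Fin p) (Twist.Loc 𝒜ₙ x.1) :=
  Matrix.of fun b => epsRow r U (ω b) x

lemma epsMat_update {p : ℕ} (r : Fin p → Fin (n + 1)) (U : (Proj 𝒜ₙ).Opens)
    (ω : Fin p → Γ(Ωₙ, U)) (i : Fin p) (w : Γ(Ωₙ, U)) (x : U) :
    epsMat r U (Function.update ω i w) x = Matrix.updateRow (epsMat r U ω x) i (epsRow r U w x) := by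
  ext b a
  unfold epsMat
  by_cases hb : b = i
  · subst hb
    simp
  · simp [hb]

/-- the alternating map of `p × p` minors -/
def cAlt {p : ℕ} (r : Fin p → Fin (n + 1)) (U : (Proj 𝒜ₙ).Opens) :
    Γ(Ωₙ, U) [⋀^Fin p]→ₗ[Γ(Proj 𝒜ₙ, U)] Γ(tw n A p, U) where
  toFun ω := detSec fun b a => ((eps (r a)).app U).hom (ω b)
  map_update_add' := by
    intro inst ω i y z
    obtain rfl : inst = instDecidableEqFin p := Subsingleton.elim _ _
    apply valO_ext
    intro x
    rw [valO_add, valO_detSec, valO_detSec, valO_detSec]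
    change (epsMat r U (Function.update ω i (y + z)) x).det =
      (epsMat r U (Function.update ω i y) x).det + (epsMat r U (Function.update ω i z) x).det
    rw [epsMat_update, epsMat_update, epsMat_update, epsRow_add, Matrix.det_updateRow_add]
  map_update_smul' := by
    intro inst ω i c y
    obtain rfl : inst = instDecidableEqFin p := Subsingleton.elim _ _
    apply valO_ext
    intro x
    rw [valO_smul, valO_detSec, valO_detSec]
    change (epsMat r U (Function.update ω i (c • y)) x).det =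
      _ * (epsMat r U (Function.update ω i y) x).det
    rw [epsMat_update, epsMat_update, epsRow_smul, Matrix.det_updateRow_smul]
  map_eq_zero_of_eq' ω i j h hij := by
    apply valO_ext
    intro x
    rw [valO_detSec]
    refine Eq.trans ?_ (valO_zero (𝒜 := 𝒜ₙ) x).symm
    change (epsMat r U ω x).det = 0
    refine Matrix.det_zero_of_row_eq hij ?_
    funext a
    change epsRow r U (ω i) x a = epsRow r U (ω j) x a
    rw [h]

lemma valO_cAlt {p : ℕ} (r : Fin p → Fin (n + 1)) (U : (Proj 𝒜ₙ).Opens) (ω : Fin p → Γ(Ωₙ, U))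
    (x : U) : valO 𝒜ₙ (cAlt r U ω) x = (epsMat r U ω x).det :=
  valO_detSec _ x

end

end Groth.Agent.Lib.helper20.Euler4b
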