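import Mathlib
import Groth.Agent.Lib.Helper20.Euler4b
import Groth.Agent.Lib.Helper28.HomOfBasis

/-!
# The morphism `L ⟶ K_p` for an exterior power `L` of `Ω` on projective space (helper20)
-/

set_option autoImplicit false
universe u

open CategoryTheory CategoryTheory.Limits AlgebraicGeometry Opposite TopologicalSpace

namespace Groth.Agent.Lib.helper20.Euler4c

open Groth.Agent.Lib.helper20.TwistVal
  Groth.Agent.Lib.helper28.TwistFree Groth.Agent.Lib.helper28.TwistMul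
  Groth.Agent.Lib.Helper20.ProjMulHom Groth.Agent.Lib.helper20.Euler3
  Groth.Agent.Lib.helper20.Euler2 Groth.Agent.Lib.helper20.Euler2b
  Groth.Agent.Lib.helper20.Euler4a Groth.Agent.Lib.helper20.Euler4b
  Groth.Agent.Lib.helper20.Euler3a Groth.Agent.Lib.helper20.EulerAlg

noncomputable section

variable {n : ℕ} {A : Type u} [CommRing A] [QuasiSeparated (fP n A)]

local notation "𝒜ₙ" => CohB1.polyGrading n A
local notation "S" => MvPolynomial (Fin (n + 1)) A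
local notation "Ωₙ" => Omega.sheaf (fP n A)

/-- decomposable elements span the exterior power of the sections of a module -/
lemma mem_span_ιMulti (X : Scheme.{u}) (E : X.Modules) (U : X.Opens) (p : ℕ)
    (y : ↥(⋀[Γ(X, U)]^p (E.val.obj (op U)))) :
    y ∈ Submodule.span Γ(X, U)
      (Set.range (exteriorPower.ιMulti Γ(X, U) p (M := E.val.obj (op U)))) := by
  have h := exteriorPower.ιMulti_span Γ(X, U) p (E.val.obj (op U))
  exact h ▸ Submodule.mem_top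

/-- a morphism of modules on sections, as a linear map -/
def appLin {X : Scheme.{u}} {M N : X.Modules} (φ : M ⟶ N) (U : X.Opens) :
    Γ(M, U) →ₗ[Γ(X, U)] Γ(N, U) where
  toFun := (φ.app U).hom
  map_add' := map_add _
  map_smul' r s := Scheme.Modules.Hom.app_smul φ r s

/-- the rows of the minor indexed by `I` -/
def rI {p : ℕ} (I : Idx n p) : Fin p → Fin (n + 1) :=
  I.val.orderEmbOfFin (Set.powersetCard.mem_iff.mp I.prop)

/-- the minors map `⋀^p Ω(U) → O(-p)(U)` -/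
def cLin {p : ℕ} (I : Idx n p) (U : (Proj 𝒜ₙ).Opens) :
    ⋀[Γ(Proj 𝒜ₙ, U)]^p Γ(Ωₙ, U) →ₗ[Γ(Proj 𝒜ₙ, U)] Γ(tw n A p, U) :=
  exteriorPower.alternatingMapLinearEquiv (cAlt (rI I) U)

lemma cLin_ιMulti {p : ℕ} (I : Idx n p) (U : (Proj 𝒜ₙ).Opens) (ω : Fin p → Γ(Ωₙ, U)) :
    cLin I U (exteriorPower.ιMulti _ p ω) = cAlt (rI I) U ω :=
  exteriorPower.alternatingMapLinearEquiv_apply_ιMulti _ _

/-- the section of `K_p` with the given components, as a linear map -/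
def ofCompLin (p : ℕ) (U : (Proj 𝒜ₙ).Opens) :
    (Idx n p → Γ(tw n A p, U)) →ₗ[Γ(Proj 𝒜ₙ, U)] Γ(K n A p, U) where
  toFun s := ofComp (fun _ : Idx n p => tw n A p) s
  map_add' s s' := by
    unfold ofComp
    rw [← Finset.sum_add_distrib]
    exact Finset.sum_congr rfl fun I _ => map_add _ _ _
  map_smul' r s := by
    unfold ofComp
    rw [Finset.smul_sum]
    exact Finset.sum_congr rfl fun I _ => Scheme.Modules.Hom.app_smul _ r (s I)

/-- all minors, `⋀^p Ω(U) → K_p(U)` -/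
def cAll (p : ℕ) (U : (Proj 𝒜ₙ).Opens) :
    ⋀[Γ(Proj 𝒜ₙ, U)]^p Γ(Ωₙ, U) →ₗ[Γ(Proj 𝒜ₙ, U)] Γ(K n A p, U) :=
  (ofCompLin p U) ∘ₗ (LinearMap.pi fun I => cLin I U)

lemma comp_cAll (p : ℕ) (U : (Proj 𝒜ₙ).Opens) (y : ⋀[Γ(Proj 𝒜ₙ, U)]^p Γ(Ωₙ, U)) (I : Idx n p) :
    comp (fun _ : Idx n p => tw n A p) (cAll p U y) I = cLin I U y :=
  comp_ofComp _ _ I

lemma valO_eps_res (j : Fin (n + 1)) {U V : (Proj 𝒜ₙ).Opens} (hVU : V ≤ U) (w : Γ(Ωₙ, U)) (x : V) :
    valO 𝒜ₙ (((eps j).app V).hom ((Ωₙ).presheaf.map (homOfLE hVU).op w)) x =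
      valO 𝒜ₙ (((eps j).app U).hom w) ⟨x.1, hVU x.2⟩ := by
  rw [app_res, valO_res]

lemma cAlt_res {p : ℕ} (r : Fin p → Fin (n + 1)) {U V : (Proj 𝒜ₙ).Opens} (hVU : V ≤ U)
    (ω : Fin p → Γ(Ωₙ, U)) :
    cAlt r V (fun b => (Ωₙ).presheaf.map (homOfLE hVU).op (ω b)) =
      (tw n A p).presheaf.map (homOfLE hVU).op (cAlt r U ω) := by
  apply valO_ext
  intro x
  rw [valO_cAlt, valO_res, valO_cAlt]
  congr 1
  ext b a
  exact valO_eps_res (r a) hVU (ω b) x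

/-- the affine-local identifications of an exterior power of `Ω` -/
abbrev ExtData (p : ℕ) (L : (Proj 𝒜ₙ).Modules) : Type u :=
  ∀ U : (Proj 𝒜ₙ).affineOpens, (L.val.obj (op U.1)) ≃ₗ[Γ(Proj 𝒜ₙ, U.1)]
    ↥(⋀[Γ(Proj 𝒜ₙ, U.1)]^p ((Ωₙ).val.obj (op U.1)))

/-- compatibility of the identifications with restriction on decomposable elements -/
def ExtCompat {p : ℕ} {L : (Proj 𝒜ₙ).Modules} (φ : ExtData p L) : Prop :=
  ∀ (U V : (Proj 𝒜ₙ).affineOpens) (h : V.1 ≤ U.1) (e : Fin p → (Ωₙ).val.obj (op U.1)),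
    L.val.map (homOfLE h).op ((φ U).symm (exteriorPower.ιMulti _ p e)) =
      (φ V).symm (exteriorPower.ιMulti _ p (fun j => (Ωₙ).val.map (homOfLE h).op (e j)))

/-- the map `L(U) → K_p(U)` on an affine open -/
def cU {p : ℕ} {L : (Proj 𝒜ₙ).Modules} (φ : ExtData p L) (U : (Proj 𝒜ₙ).affineOpens) :
    (L.val.obj (op U.1)) →ₗ[Γ(Proj 𝒜ₙ, U.1)] Γ(K n A p, U.1) :=
  (cAll p U.1) ∘ₗ (φ U).toLinearMap

theorem cU_nat {p : ℕ} {L : (Proj 𝒜ₙ).Modules} (φ : ExtData p L) (hφ : ExtCompat φ)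
    (U V : (Proj 𝒜ₙ).affineOpens) (h : V.1 ≤ U.1) (s : Γ(L, U.1)) :
    cU φ V (L.presheaf.map (homOfLE h).op s) = (K n A p).presheaf.map (homOfLE h).op (cU φ U s) := by
  let F : ↥(⋀[Γ(Proj 𝒜ₙ, U.1)]^p ((Ωₙ).val.obj (op U.1))) →+ Γ(K n A p, V.1) :=
    (cU φ V).toAddMonoidHom.comp ((L.presheaf.map (homOfLE h).op).hom.comp
      (φ U).symm.toLinearMap.toAddMonoidHom)
  let G : ↥(⋀[Γ(Proj 𝒜ₙ, U.1)]^p ((Ωₙ).val.obj (op U.1))) →+ Γ(K n A p, V.1) :=
    ((K n A p).presheaf.map (homOfLE h).op).hom.comp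
      ((cU φ U).toAddMonoidHom.comp (φ U).symm.toLinearMap.toAddMonoidHom)
  have hF : ∀ (r : Γ(Proj 𝒜ₙ, U.1)) (y : ↥(⋀[Γ(Proj 𝒜ₙ, U.1)]^p ((Ωₙ).val.obj (op U.1)))),
      F (r • y) = ((Proj 𝒜ₙ).presheaf.map (homOfLE h).op r : Γ(Proj 𝒜ₙ, V.1)) • F y := by
    intro r y
    have e0 : (φ U).symm (r • y) = r • (φ U).symm y := (φ U).symm.map_smul r y
    have e1 : L.presheaf.map (homOfLE h).op (r • (φ U).symm y) =
        ((Proj 𝒜ₙ).presheaf.map (homOfLE h).op r : Γ(Proj 𝒜ₙ, V.1)) •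
          L.presheaf.map (homOfLE h).op ((φ U).symm y) :=
      Groth.Agent.Lib.helper28.HomOfBasis.map_smul' L (homOfLE h) r ((φ U).symm y)
    have e2 : cU φ V (((Proj 𝒜ₙ).presheaf.map (homOfLE h).op r : Γ(Proj 𝒜ₙ, V.1)) •
          L.presheaf.map (homOfLE h).op ((φ U).symm y)) =
        ((Proj 𝒜ₙ).presheaf.map (homOfLE h).op r : Γ(Proj 𝒜ₙ, V.1)) •
          cU φ V (L.presheaf.map (homOfLE h).op ((φ U).symm y)) := (cU φ V).map_smul _ _
    exact (congrArg (fun z => cU φ V (L.presheaf.map (homOfLE h).op z)) e0).trans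
      ((congrArg (cU φ V) e1).trans e2)
  have hG : ∀ (r : Γ(Proj 𝒜ₙ, U.1)) (y : ↥(⋀[Γ(Proj 𝒜ₙ, U.1)]^p ((Ωₙ).val.obj (op U.1)))),
      G (r • y) = ((Proj 𝒜ₙ).presheaf.map (homOfLE h).op r : Γ(Proj 𝒜ₙ, V.1)) • G y := by
    intro r y
    have e0 : (φ U).symm (r • y) = r • (φ U).symm y := (φ U).symm.map_smul r y
    have e1 : cU φ U (r • (φ U).symm y) = r • cU φ U ((φ U).symm y) := (cU φ U).map_smul _ _
    exact (congrArg (fun z => (K n A p).presheaf.map (homOfLE h).op (cU φ U z)) e0).trans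
      ((congrArg (fun z => (K n A p).presheaf.map (homOfLE h).op z) e1).trans
        (Groth.Agent.Lib.helper28.HomOfBasis.map_smul' (K n A p) (homOfLE h) r _))
  have hgen : ∀ e : Fin p → (Ωₙ).val.obj (op U.1),
      F (exteriorPower.ιMulti _ p e) = G (exteriorPower.ιMulti _ p e) := by
    intro e
    have h1 : F (exteriorPower.ιMulti _ p e) =
        cAll p V.1 (exteriorPower.ιMulti _ p (fun j => (Ωₙ).val.map (homOfLE h).op (e j))) :=
      (congrArg (fun z => cAll p V.1 (φ V z)) (hφ U V h e)).trans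
        (congrArg (cAll p V.1) ((φ V).apply_symm_apply _))
    have h2 : cU φ U ((φ U).symm (exteriorPower.ιMulti _ p e)) =
        cAll p U.1 (exteriorPower.ιMulti _ p e) :=
      congrArg (cAll p U.1) ((φ U).apply_symm_apply _)
    refine h1.trans (Eq.trans ?_
      (congrArg (fun z => (K n A p).presheaf.map (homOfLE h).op z) h2.symm))
    apply comp_ext (fun _ : Idx n p => tw n A p)
    intro I
    rw [comp_res, comp_cAll, comp_cAll]
    exact (cLin_ιMulti I V.1 _).trans ((cAlt_res (rI I) h e).trans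
      (congrArg _ (cLin_ιMulti I U.1 e).symm))
  have key : ∀ y : ↥(⋀[Γ(Proj 𝒜ₙ, U.1)]^p ((Ωₙ).val.obj (op U.1))), F y = G y := by
    intro y
    have hy := mem_span_ιMulti (Proj 𝒜ₙ) Ωₙ U.1 p y
    induction hy using Submodule.span_induction with
    | mem y hy =>
      obtain ⟨e, rfl⟩ := hy
      exact hgen e
    | zero => exact F.map_zero.trans G.map_zero.symm
    | add y z _ _ hy hz => exact (F.map_add y z).trans ((congrArg₂ (· + ·) hy hz).trans (G.map_add y z).symm)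
    | smul r y _ hy => exact (hF r y).trans ((congrArg _ hy).trans (hG r y).symm)
  have hs : (φ U).symm (φ U s) = s := (φ U).symm_apply_apply s
  have := key (φ U s)
  exact (congrArg (fun z => cU φ V (L.presheaf.map (homOfLE h).op z)) hs).symm.trans
    (this.trans (congrArg (fun z => (K n A p).presheaf.map (homOfLE h).op (cU φ U z)) hs))

/-- the matrix of values of all `ε_j` on a family of forms -/
def Emat {p : ℕ} (U : (Proj 𝒜ₙ).Opens) (ω : Fin p → Γ(Ωₙ, U)) (x : U) :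
    Fin (n + 1) → Fin p → Twist.Loc 𝒜ₙ x.1 :=
  fun j b => valO 𝒜ₙ (((eps j).app U).hom (ω b)) x

/-- the values of the minors map on a decomposable element are the minors -/
lemma vExt_cAll_ιMulti {p : ℕ} (U : (Proj 𝒜ₙ).Opens) (ω : Fin p → Γ(Ωₙ, U)) (x : U) :
    vExt (cAll p U (exteriorPower.ιMulti _ p ω)) x = minor (Emat U ω x) := by
  funext I
  by_cases hI : I.card = p
  · have hmem : I ∈ Set.powersetCard (Fin (n + 1)) p := Set.powersetCard.mem_iff.mpr hI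
    rw [vExt_of_card _ x ⟨I, hmem⟩, comp_cAll, cLin_ιMulti, valO_cAlt, minor_of_card _ I hI,
      ← Matrix.det_transpose]
    rfl
  · rw [vExt_of_card_ne _ x I hI, minor_of_card_ne _ I hI]

lemma isCyc_cAll_ιMulti {p : ℕ} (U : (Proj 𝒜ₙ).Opens) (ω : Fin p → Γ(Ωₙ, U)) :
    IsCyc (cAll p U (exteriorPower.ιMulti _ p ω)) := by
  intro x J
  rw [vExt_cAll_ιMulti]
  apply bd_minor
  intro b
  have h := sum_valO_eps U (ω b) x
  refine Eq.trans ?_ h
  refine Finset.sum_congr rfl fun j _ => ?_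
  exact mul_comm _ _

/-- `d ∘ (minors) = 0` on sections -/
lemma d_cAll (q : ℕ) (U : (Proj 𝒜ₙ).Opens) (y : ⋀[Γ(Proj 𝒜ₙ, U)]^(q + 1) Γ(Ωₙ, U)) :
    ((d n A q).app U).hom (cAll (q + 1) U y) = 0 := by
  have h : (appLin (d n A q) U) ∘ₗ (cAll (q + 1) U) = 0 := by
    apply exteriorPower.linearMap_ext
    ext ω
    exact d_eq_zero_of_isCyc _ (isCyc_cAll_ιMulti U ω)
  exact LinearMap.congr_fun h y

/-- the morphism `L ⟶ K_p` -/
theorem exists_c {p : ℕ} {L : (Proj 𝒜ₙ).Modules} (φ : ExtData p L) (hφ : ExtCompat φ) :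
    ∃ c : L ⟶ K n A p, ∀ (U : (Proj 𝒜ₙ).affineOpens) (s : Γ(L, U.1)),
      (c.app U.1).hom s = cU φ U s := by
  have hB : Opens.IsBasis (Set.range (fun U : (Proj 𝒜ₙ).affineOpens => U.1)) := by
    rw [Subtype.range_coe]; exact (Proj 𝒜ₙ).isBasis_affineOpens
  obtain ⟨c, hc⟩ := Groth.Agent.Lib.helper28.HomOfBasis.exists_hom_of_basis
    (fun U : (Proj 𝒜ₙ).affineOpens => U.1) hB (fun U => (cU φ U).toAddMonoidHom)
    (fun V U h s => cU_nat φ hφ U V h s) (fun U r s => (cU φ U).map_smul r s)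
  exact ⟨c, hc⟩

theorem c_comp_d {q : ℕ} {L : (Proj 𝒜ₙ).Modules} (φ : ExtData (q + 1) L)
    (c : L ⟶ K n A (q + 1)) (hc : ∀ (U : (Proj 𝒜ₙ).affineOpens) (s : Γ(L, U.1)),
      (c.app U.1).hom s = cU φ U s) : c ≫ d n A q = 0 := by
  have hB : Opens.IsBasis (Set.range (fun U : (Proj 𝒜ₙ).affineOpens => U.1)) := by
    rw [Subtype.range_coe]; exact (Proj 𝒜ₙ).isBasis_affineOpens
  refine Groth.Agent.Lib.helper28.HomOfBasis.hom_ext_of_basis
    (fun U : (Proj 𝒜ₙ).affineOpens => U.1) hB _ _ fun U s => ?_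
  change ((d n A q).app U.1).hom ((c.app U.1).hom s) = 0
  rw [hc]
  exact d_cAll q U.1 (φ U s)

end

end Groth.Agent.Lib.helper20.Euler4c
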