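import Mathlib
import Groth.Agent.Lib.Helper20.Euler4c

/-!
# Chart computations for the minors map `⋀^p Ω → K_p` on projective space (helper20)
-/

set_option autoImplicit false
universe u

open CategoryTheory CategoryTheory.Limits AlgebraicGeometry Opposite TopologicalSpace

namespace Groth.Agent.Lib.helper20.Euler4d

open Groth.Agent.Lib.helper20.TwistVal
  Groth.Agent.Lib.helper28.TwistFree Groth.Agent.Lib.helper28.TwistMul
  Groth.Agent.Lib.Helper20.ProjMulHom Groth.Agent.Lib.helper20.Euler3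
  Groth.Agent.Lib.helper20.Euler2 Groth.Agent.Lib.helper20.Euler2b
  Groth.Agent.Lib.helper20.Euler4a Groth.Agent.Lib.helper20.Euler4b
  Groth.Agent.Lib.helper20.Euler3a Groth.Agent.Lib.helper20.EulerAlg
  Groth.Agent.Lib.helper20.Euler4c

noncomputable section

variable {n : ℕ} {A : Type u} [CommRing A] [QuasiSeparated (fP n A)]

local notation "𝒜ₙ" => CohB1.polyGrading n A
local notation "S" => MvPolynomial (Fin (n + 1)) A
local notation "Ωₙ" => Omega.sheaf (fP n A)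

/-- the coordinate function `X_l / X_{i0}` on an open inside `D₊(X_{i0})` -/
def uSec (i0 : Fin (n + 1)) (U : (Proj 𝒜ₙ).Opens)
    (hU : ∀ x : U, (MvPolynomial.X i0 : S) ∉ x.1.asHomogeneousIdeal) (l : Fin (n + 1)) :
    Twist.O (𝒜 := 𝒜ₙ) (op U) :=
  fracSectO 𝒜ₙ U (i := 1) ⟨MvPolynomial.X l, MvPolynomial.isHomogeneous_X A l⟩
    ⟨MvPolynomial.X i0, MvPolynomial.isHomogeneous_X A i0⟩ hU

lemma uSec_val (i0 : Fin (n + 1)) (U : (Proj 𝒜ₙ).Opens)
    (hU : ∀ x : U, (MvPolynomial.X i0 : S) ∉ x.1.asHomogeneousIdeal) (l : Fin (n + 1)) (x : U) :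
    ((uSec i0 U hU l).1 x).val = Localization.mk (MvPolynomial.X l : S) ⟨MvPolynomial.X i0, hU x⟩ :=
  rfl

/-- the differential of the coordinate function -/
def vForm (i0 : Fin (n + 1)) (U : (Proj 𝒜ₙ).Opens)
    (hU : ∀ x : U, (MvPolynomial.X i0 : S) ∉ x.1.asHomogeneousIdeal) (l : Fin (n + 1)) :
    Γ(Ωₙ, U) :=
  OmegaSh.dSect (fP n A) U (uSec i0 U hU l)

lemma valO_eps_vForm (i0 : Fin (n + 1)) (U : (Proj 𝒜ₙ).Opens)
    (hU : ∀ x : U, (MvPolynomial.X i0 : S) ∉ x.1.asHomogeneousIdeal) (j l : Fin (n + 1))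
    (hj : j ≠ i0) (x : U) :
    valO 𝒜ₙ (((eps j).app U).hom (vForm i0 U hU l)) x =
      if j = l then eta i0 x.1 (hU x) else 0 := by
  have hbb : (MvPolynomial.X i0 : S) * MvPolynomial.X i0 ∉ x.1.asHomogeneousIdeal := fun h =>
    (x.1.isPrime.mem_or_mem h).elim (hU x) (hU x)
  refine (valO_eps_dSect j U (uSec i0 U hU l) x).trans ?_
  rw [uSec_val, dLoc_mk' j x.1 _ _ (hU x) hbb]
  unfold qnum eta
  rw [MvPolynomial.pderiv_X_of_ne (Ne.symm hj), mul_zero, sub_zero]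
  by_cases h : j = l
  · subst h
    rw [if_pos rfl, MvPolynomial.pderiv_X_self, mul_one,
      Groth.Agent.Lib.helper28.TwistSec.mk_eq_mk_iff']
    exact ⟨1, by simp⟩
  · rw [if_neg h, MvPolynomial.pderiv_X_of_ne (Ne.symm h), mul_zero, Localization.mk_zero]

/-- the decomposable form `d u_{T_1} ∧ … ∧ d u_{T_p}` -/
def omT (i0 : Fin (n + 1)) (U : (Proj 𝒜ₙ).Opens)
    (hU : ∀ x : U, (MvPolynomial.X i0 : S) ∉ x.1.asHomogeneousIdeal) {p : ℕ} (T : Idx n p) :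
    ⋀[Γ(Proj 𝒜ₙ, U)]^p Γ(Ωₙ, U) :=
  exteriorPower.ιMulti _ p (fun b => vForm i0 U hU (rI T b))

lemma vExt_cAll_omT (i0 : Fin (n + 1)) (U : (Proj 𝒜ₙ).Opens)
    (hU : ∀ x : U, (MvPolynomial.X i0 : S) ∉ x.1.asHomogeneousIdeal) {p : ℕ} (T : Idx n p)
    (x : U) (I : Finset (Fin (n + 1))) (hI : I.card = p) (hiI : i0 ∉ I) :
    vExt (cAll p U (omT i0 U hU T)) x I =
      if I = T.val then (eta i0 x.1 (hU x)) ^ p else 0 := by
  unfold omT
  rw [vExt_cAll_ιMulti]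
  refine minor_delta _ (eta i0 x.1 (hU x)) i0 T.val (Set.powersetCard.mem_iff.mp T.prop) ?_ I hI hiI
  intro j hj b
  exact valO_eps_vForm i0 U hU j (rI T b) hj x

/-- multiplication by `X_{i0}^p` turns a section of `O(-p)` into a function -/
lemma exists_coef (i0 : Fin (n + 1)) (U : (Proj 𝒜ₙ).Opens) {p : ℕ} (t : Γ(tw n A p, U)) :
    ∃ b : Γ(Proj 𝒜ₙ, U), ∀ x : U,
      ((show Twist.O (𝒜 := 𝒜ₙ) (op U) from b).1 x).val = valO 𝒜ₙ t x * (xi x.1 i0) ^ p := by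
  have hmem : (MvPolynomial.X i0 : S) ^ p ∈ 𝒜ₙ p := by
    have := (MvPolynomial.isHomogeneous_X A i0).pow p
    rw [one_mul] at this
    exact this
  let τ : Γ(Twist.twist 𝒜ₙ 0, U) :=
    ((mulHom 𝒜ₙ (a := -(p : ℤ)) (b := 0) (k := p) (by ring) ⟨MvPolynomial.X i0 ^ p, hmem⟩).app U).hom t
  have hτ : ∀ x : U, valO 𝒜ₙ τ x = valO 𝒜ₙ t x * (xi x.1 i0) ^ p := by
    intro x
    refine (mulHom_valO _ _ t x).trans ?_
    congr 1
    unfold xi mkOne
    rw [Localization.mk_pow]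
    refine congrArg (Localization.mk _) ?_
    exact Subtype.ext (one_pow p).symm
  let b : Γ(Proj 𝒜ₙ, U) :=
    ((inv (Groth.Agent.Lib.helper28.TwistZero.unitToTwistZero 𝒜ₙ)).app U).hom τ
  have hb : ((Groth.Agent.Lib.helper28.TwistZero.unitToTwistZero 𝒜ₙ).app U).hom b = τ := by
    have h := IsIso.inv_hom_id (Groth.Agent.Lib.helper28.TwistZero.unitToTwistZero 𝒜ₙ)
    exact congrArg (fun φ => (Scheme.Modules.Hom.app φ U).hom τ) h
  refine ⟨b, fun x => ?_⟩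
  rw [← hτ x, ← hb]
  have h2 := Groth.Agent.Lib.helper28.TwistZero.unitToTwistZero_app 𝒜ₙ U b
  refine Eq.trans ?_ (congrArg (fun σ => valO 𝒜ₙ σ x) h2).symm
  rw [valO_smul]
  have h3 : valO 𝒜ₙ (show Γ(Twist.twist 𝒜ₙ 0, U) from
      Groth.Agent.Lib.helper28.TwistZero.oneSect 𝒜ₙ U) x = 1 :=
    Localization.mk_self (1 : x.1.asHomogeneousIdeal.toIdeal.primeCompl)
  rw [h3, mul_one]

/-! ### linearity of values -/

lemma vExt_add {p : ℕ} {V : (Proj 𝒜ₙ).Opens} (a a' : Γ(K n A p, V)) (x : V)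
    (I : Finset (Fin (n + 1))) : vExt (a + a') x I = vExt a x I + vExt a' x I := by
  unfold vExt
  split_ifs with h
  · rw [Euler3a.comp_add, valO_add]
  · rw [add_zero]

lemma vExt_sub {p : ℕ} {V : (Proj 𝒜ₙ).Opens} (a a' : Γ(K n A p, V)) (x : V)
    (I : Finset (Fin (n + 1))) : vExt (a - a') x I = vExt a x I - vExt a' x I := by
  have h := vExt_add (a - a') a' x I
  rw [sub_add_cancel] at h
  rw [h, add_sub_cancel_right]

lemma comp_smul {p : ℕ} {V : (Proj 𝒜ₙ).Opens} (r : Γ(Proj 𝒜ₙ, V)) (a : Γ(K n A p, V))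
    (I : Idx n p) :
    comp (fun _ : Idx n p => tw n A p) (r • a) I = r • comp (fun _ : Idx n p => tw n A p) a I :=
  Scheme.Modules.Hom.app_smul _ r a

lemma vExt_smul {p : ℕ} {V : (Proj 𝒜ₙ).Opens} (r : Γ(Proj 𝒜ₙ, V)) (a : Γ(K n A p, V)) (x : V)
    (I : Finset (Fin (n + 1))) :
    vExt (r • a) x I = ((show Twist.O (𝒜 := 𝒜ₙ) (op V) from r).1 x).val * vExt a x I := by
  unfold vExt
  split_ifs with h
  · rw [comp_smul, valO_smul]
  · rw [mul_zero]

lemma vExt_sum {p : ℕ} {V : (Proj 𝒜ₙ).Opens} {ι : Type*} (s : Finset ι)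
    (a : ι → Γ(K n A p, V)) (x : V) (I : Finset (Fin (n + 1))) :
    vExt (∑ i ∈ s, a i) x I = ∑ i ∈ s, vExt (a i) x I := by
  classical
  induction s using Finset.induction_on with
  | empty => rw [Finset.sum_empty, Finset.sum_empty, vExt_zero]
  | insert b s hb ih => rw [Finset.sum_insert hb, Finset.sum_insert hb, vExt_add, ih]

/-- the values of the minors map on a combination of the `ω_T`, at subsets avoiding `i0` -/
lemma vExt_cAll_sum (i0 : Fin (n + 1)) (U : (Proj 𝒜ₙ).Opens)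
    (hU : ∀ x : U, (MvPolynomial.X i0 : S) ∉ x.1.asHomogeneousIdeal) {p : ℕ}
    (c : Idx n p → Γ(Proj 𝒜ₙ, U)) (x : U) (I : Idx n p) (hiI : i0 ∉ I.val) :
    vExt (cAll p U (∑ T, c T • omT i0 U hU T)) x I.val =
      ((show Twist.O (𝒜 := 𝒜ₙ) (op U) from c I).1 x).val * (eta i0 x.1 (hU x)) ^ p := by
  rw [map_sum, vExt_sum, Finset.sum_eq_single I]
  · rw [map_smul, vExt_smul,
      vExt_cAll_omT i0 U hU I x I.val (Set.powersetCard.mem_iff.mp I.prop) hiI, if_pos rfl]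
  · intro T _ hT
    rw [map_smul, vExt_smul,
      vExt_cAll_omT i0 U hU T x I.val (Set.powersetCard.mem_iff.mp I.prop) hiI, if_neg, mul_zero]
    intro h
    exact hT (Subtype.ext h).symm
  · intro h
    exact absurd (Finset.mem_univ I) h

lemma isUnit_eta_pow (i0 : Fin (n + 1)) (x : ProjectiveSpectrum 𝒜ₙ)
    (hx : (MvPolynomial.X i0 : S) ∉ x.asHomogeneousIdeal) (p : ℕ) :
    IsUnit ((eta i0 x hx) ^ p) :=
  (IsUnit.of_mul_eq_one _ ((mul_comm _ _).trans (xi_mul_eta i0 x hx))).pow p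

lemma dSect_one (U : (Proj 𝒜ₙ).Opens) : OmegaSh.dSect (fP n A) U 1 = 0 := by
  have h := OmegaSh.dSect_mul (fP n A) U 1 1
  rw [mul_one, one_smul] at h
  exact left_eq_add.mp h

lemma uSec_self (i0 : Fin (n + 1)) (U : (Proj 𝒜ₙ).Opens)
    (hU : ∀ x : U, (MvPolynomial.X i0 : S) ∉ x.1.asHomogeneousIdeal) : uSec i0 U hU i0 = 1 := by
  apply O_ext'
  intro x
  rw [uSec_val]
  refine Eq.trans ?_ (HomogeneousLocalization.val_one (𝒜 := 𝒜ₙ)
    (x := x.1.asHomogeneousIdeal.toIdeal.primeCompl)).symm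
  exact Localization.mk_self (⟨MvPolynomial.X i0, hU x⟩ : x.1.asHomogeneousIdeal.toIdeal.primeCompl)

lemma vForm_self (i0 : Fin (n + 1)) (U : (Proj 𝒜ₙ).Opens)
    (hU : ∀ x : U, (MvPolynomial.X i0 : S) ∉ x.1.asHomogeneousIdeal) : vForm i0 U hU i0 = 0 := by
  unfold vForm
  rw [uSec_self]
  exact dSect_one U

lemma omT_eq_zero (i0 : Fin (n + 1)) (U : (Proj 𝒜ₙ).Opens)
    (hU : ∀ x : U, (MvPolynomial.X i0 : S) ∉ x.1.asHomogeneousIdeal) {p : ℕ} (T : Idx n p)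
    (hT : i0 ∈ T.val) : omT i0 U hU T = 0 := by
  have : i0 ∈ Set.range (rI T) := by
    unfold rI
    rw [Finset.range_orderEmbOfFin]
    exact hT
  obtain ⟨b, hb⟩ := this
  unfold omT
  refine (exteriorPower.ιMulti _ p).map_coord_zero b ?_
  change vForm i0 U hU (rI T b) = 0
  rw [hb, vForm_self]

/-- the `ω_T` span the exterior power when the `d u_l` span the forms -/
lemma exists_sum_omT (i0 : Fin (n + 1)) (U : (Proj 𝒜ₙ).Opens)
    (hU : ∀ x : U, (MvPolynomial.X i0 : S) ∉ x.1.asHomogeneousIdeal)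
    (hspan : Submodule.span Γ(Proj 𝒜ₙ, U) (Set.range (vForm i0 U hU)) = ⊤) (p : ℕ)
    (y : ⋀[Γ(Proj 𝒜ₙ, U)]^p Γ(Ωₙ, U)) :
    ∃ c : Idx n p → Γ(Proj 𝒜ₙ, U), ∑ T, c T • omT i0 U hU T = y := by
  have h := exteriorPower.ιMulti_family_span_of_span (R := Γ(Proj 𝒜ₙ, U)) (n := p) hspan
  have hy : y ∈ Submodule.span Γ(Proj 𝒜ₙ, U)
      (Set.range (exteriorPower.ιMulti_family Γ(Proj 𝒜ₙ, U) p (vForm i0 U hU))) := by
    rw [h]; trivial
  obtain ⟨c, hc⟩ := (Submodule.mem_span_range_iff_exists_fun _).mp hy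
  exact ⟨c, hc⟩

/-- the minors map is injective on sections over an open inside a standard chart on which the
`d u_l` span the forms -/
theorem cAll_injective (i0 : Fin (n + 1)) (U : (Proj 𝒜ₙ).Opens)
    (hU : ∀ x : U, (MvPolynomial.X i0 : S) ∉ x.1.asHomogeneousIdeal)
    (hspan : Submodule.span Γ(Proj 𝒜ₙ, U) (Set.range (vForm i0 U hU)) = ⊤) (p : ℕ) :
    Function.Injective (cAll p U) := by
  rw [injective_iff_map_eq_zero]
  intro y hy
  obtain ⟨c, rfl⟩ := exists_sum_omT i0 U hU hspan p y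
  refine Finset.sum_eq_zero fun T _ => ?_
  by_cases hT : i0 ∈ T.val
  · rw [omT_eq_zero i0 U hU T hT, smul_zero]
  · have hc : c T = 0 := by
      apply O_ext' 𝒜ₙ (show Twist.O (𝒜 := 𝒜ₙ) (op U) from c T) 0
      intro x
      have h1 := vExt_cAll_sum i0 U hU c x T hT
      rw [hy, vExt_zero] at h1
      have h2 := (isUnit_eta_pow i0 x.1 (hU x) p).mul_left_eq_zero.mp h1.symm
      exact h2.trans (HomogeneousLocalization.val_zero (𝒜 := 𝒜ₙ)
        (x := x.1.asHomogeneousIdeal.toIdeal.primeCompl)).symm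
    rw [hc, zero_smul]

lemma isCyc_cAll {p : ℕ} (U : (Proj 𝒜ₙ).Opens) (y : ⋀[Γ(Proj 𝒜ₙ, U)]^p Γ(Ωₙ, U)) :
    IsCyc (cAll p U y) := by
  cases p with
  | zero => exact isCyc_deg_zero _
  | succ q => exact isCyc_of_d_eq_zero _ (d_cAll q U y)

/-- every cycle over an open inside a standard chart is in the image of the minors map -/
theorem exists_cAll_eq (i0 : Fin (n + 1)) (U : (Proj 𝒜ₙ).Opens)
    (hU : ∀ x : U, (MvPolynomial.X i0 : S) ∉ x.1.asHomogeneousIdeal) (p : ℕ)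
    (a : Γ(K n A p, U)) (ha : IsCyc a) : ∃ y, cAll p U y = a := by
  choose c hc using fun T : Idx n p =>
    exists_coef i0 U (comp (fun _ : Idx n p => tw n A p) a T)
  refine ⟨∑ T, c T • omT i0 U hU T, ?_⟩
  symm
  apply sec_ext_vExt
  intro x I0
  have key : ∀ J : Finset (Fin (n + 1)),
      vExt a x J - vExt (cAll p U (∑ T, c T • omT i0 U hU T)) x J = 0 := by
    refine eq_zero_of_bd_eq_zero (xi x.1) _ i0
      (IsUnit.of_mul_eq_one _ (xi_mul_eta i0 x.1 (hU x))) ?_ ?_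
    · intro J _
      rw [bd_sub, ha x J, isCyc_cAll U _ x J, sub_zero]
    · intro J hJ
      by_cases hc' : J.card = p
      · have hmem : J ∈ Set.powersetCard (Fin (n + 1)) p := Set.powersetCard.mem_iff.mpr hc'
        rw [vExt_cAll_sum i0 U hU c x ⟨J, hmem⟩ hJ, hc ⟨J, hmem⟩ x, ← vExt_of_card a x ⟨J, hmem⟩,
          mul_assoc, ← mul_pow, xi_mul_eta, one_pow, mul_one, sub_self]
      · rw [vExt_of_card_ne _ x J hc', vExt_of_card_ne _ x J hc', sub_zero]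
  exact sub_eq_zero.mp (key I0.val)

end

end Groth.Agent.Lib.helper20.Euler4d
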