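import Mathlib
import Groth.Agent.Lib.Helper20.Euler4d
import Groth.Agent.Lib.Helper18.ProjChart
import Groth.Agent.Lib.Helper7.QCohAffine
import Groth.Agent.Lib.Helper7.OmegaAffine

/-!
# The differentials of the coordinate functions span `Ω` on basic opens of the standard charts of
projective space (helper20)
-/

set_option autoImplicit false
universe u

open CategoryTheory CategoryTheory.Limits AlgebraicGeometry Opposite TopologicalSpace

namespace Groth.Agent.Lib.helper20.Euler4e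

open Groth.Agent.Lib.helper20.TwistVal
  Groth.Agent.Lib.helper28.TwistFree Groth.Agent.Lib.helper28.TwistMul
  Groth.Agent.Lib.Helper20.ProjMulHom Groth.Agent.Lib.helper20.Euler3
  Groth.Agent.Lib.helper20.Euler2 Groth.Agent.Lib.helper20.Euler2b
  Groth.Agent.Lib.helper20.Euler4d Groth.Agent.Lib.Helper18.ProjChart

noncomputable section

variable {n : ℕ} {A : Type u} [CommRing A] [QuasiSeparated (fP n A)]

local notation "𝒜ₙ" => CohB1.polyGrading n A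
local notation "S" => MvPolynomial (Fin (n + 1)) A
local notation "Ωₙ" => Omega.sheaf (fP n A)

/-- the standard chart `D₊(X_{i0})` -/
abbrev U0 (n : ℕ) (A : Type u) [CommRing A] (i0 : Fin (n + 1)) :
    (Proj (CohB1.polyGrading n A)).Opens :=
  Proj.basicOpen (CohB1.polyGrading n A) (MvPolynomial.X i0 : MvPolynomial (Fin (n + 1)) A)

lemma hU0 (i0 : Fin (n + 1)) (x : U0 n A i0) : (MvPolynomial.X i0 : S) ∉ x.1.asHomogeneousIdeal :=
  (Proj.mem_basicOpen 𝒜ₙ _ x.1).mp x.2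

lemma isAffineOpen_U0 (i0 : Fin (n + 1)) : IsAffineOpen (U0 n A i0) :=
  Proj.isAffineOpen_basicOpen 𝒜ₙ (MvPolynomial.X i0 : S) (MvPolynomial.isHomogeneous_X A i0)
    Nat.one_pos

/-- the chart ring to sections -/
def aTS (i0 : Fin (n + 1)) :
    HomogeneousLocalization.Away 𝒜ₙ (MvPolynomial.X i0 : S) →+* Γ(Proj 𝒜ₙ, U0 n A i0) :=
  (Proj.awayToSection 𝒜ₙ (MvPolynomial.X i0 : S)).hom

lemma aTS_surjective (i0 : Fin (n + 1)) : Function.Surjective (aTS (n := n) (A := A) i0) := by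
  intro b
  let e := Proj.basicOpenIsoAway 𝒜ₙ (MvPolynomial.X i0 : S) (MvPolynomial.isHomogeneous_X A i0)
    Nat.one_pos
  refine ⟨e.inv.hom b, ?_⟩
  have h := ConcreteCategory.congr_hom e.inv_hom_id b
  rw [Proj.basicOpenIsoAway_hom] at h
  exact h

lemma aTS_ratio (i0 l : Fin (n + 1)) :
    aTS i0 (ratio n A i0 l) = uSec i0 (U0 n A i0) (hU0 i0) l := by
  apply O_ext' 𝒜ₙ
  intro x
  have h2 := ProjectiveSpectrum.Proj.awayToSection_apply 𝒜ₙ (MvPolynomial.X i0 : S)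
    (ratio n A i0 l) x
  refine h2.trans ?_
  rw [val_ratio, uSec_val, Localization.mk_eq_mk', IsLocalization.map_mk', Localization.mk_eq_mk']
  congr 1
  exact Subtype.ext (pow_one _)

/-- constants have zero differential -/
lemma dSect_aTS_cHom (i0 : Fin (n + 1)) (a : A) :
    OmegaSh.dSect (fP n A) (U0 n A i0) (aTS i0 (cHom n A i0 a)) = 0 := by
  have h1 := Groth.Agent.Lib.helper12.ProjGlobalFn.gl_restrict 𝒜ₙ a (MvPolynomial.X i0 : S)
    (MvPolynomial.isHomogeneous_X A i0) Nat.one_pos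
  have h2 : aTS i0 (cHom n A i0 a) =
      (Proj 𝒜ₙ).presheaf.map (homOfLE (le_top : U0 n A i0 ≤ ⊤)).op
        (Groth.Agent.Lib.helper12.ProjGlobalFn.gl 𝒜ₙ a) := h1.symm
  rw [h2, Groth.Agent.Lib.helper7.OmegaUniv.dSect_map' (fP n A)]
  have h3 : OmegaSh.dSect (fP n A) ⊤ (Groth.Agent.Lib.helper12.ProjGlobalFn.gl 𝒜ₙ a) = 0 :=
    OmegaSh.dSect_app (fP n A) ⊤ ((Scheme.ΓSpecIso (CommRingCat.of A)).inv.hom a)
  rw [h3, map_zero]

/-- the span of the differentials of the coordinate functions on the standard chart -/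
abbrev Sp0 (i0 : Fin (n + 1)) : Submodule Γ(Proj 𝒜ₙ, U0 n A i0) Γ(Ωₙ, U0 n A i0) :=
  Submodule.span Γ(Proj 𝒜ₙ, U0 n A i0) (Set.range (vForm i0 (U0 n A i0) (hU0 i0)))

lemma dSect_aTS_Φ_mem (i0 : Fin (n + 1)) (P : MvPolynomial (Groth.Agent.Lib.Helper18.ProjChart.Idx n i0) A) :
    OmegaSh.dSect (fP n A) (U0 n A i0) (aTS i0 (Φ n A i0 P)) ∈ Sp0 (n := n) (A := A) i0 := by
  induction P using MvPolynomial.induction_on with
  | C a =>
    have : Φ n A i0 (MvPolynomial.C a) = cHom n A i0 a := by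
      unfold Φ
      exact MvPolynomial.eval₂Hom_C _ _ a
    rw [this, dSect_aTS_cHom]
    exact Submodule.zero_mem _
  | add P Q hP hQ =>
    rw [map_add, map_add, OmegaSh.dSect_add]
    exact Submodule.add_mem _ hP hQ
  | mul_X P j hP =>
    have : Φ n A i0 (MvPolynomial.X j) = ratio n A i0 j.1 := by
      unfold Φ
      exact MvPolynomial.eval₂Hom_X' _ _ j
    rw [map_mul, map_mul, OmegaSh.dSect_mul, this, aTS_ratio]
    refine Submodule.add_mem _ (Submodule.smul_mem _ _ ?_) (Submodule.smul_mem _ _ hP)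
    exact Submodule.subset_span ⟨j.1, rfl⟩

/-- the differentials of the coordinate functions span the forms on the standard chart -/
theorem span_vForm_U0 (i0 : Fin (n + 1)) : Sp0 (n := n) (A := A) i0 = ⊤ := by
  have h := Groth.Agent.Lib.helper7.OmegaUniv.span_dSect (fP n A) (isAffineOpen_U0 i0)
    (V := ⊤) (isAffineOpen_top (Spec (CommRingCat.of A))) le_top
  rw [eq_top_iff, ← h, Submodule.span_le]
  rintro _ ⟨b, rfl⟩
  obtain ⟨z, rfl⟩ := aTS_surjective i0 b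
  obtain ⟨P, rfl⟩ := Φ_surjective n A i0 z
  exact dSect_aTS_Φ_mem i0 P

/-- the basic opens of the standard charts -/
abbrev Ub (i0 : Fin (n + 1)) (h : Γ(Proj 𝒜ₙ, U0 n A i0)) : (Proj 𝒜ₙ).Opens :=
  (Proj 𝒜ₙ).basicOpen h

lemma Ub_le (i0 : Fin (n + 1)) (h : Γ(Proj 𝒜ₙ, U0 n A i0)) : Ub i0 h ≤ U0 n A i0 :=
  (Proj 𝒜ₙ).basicOpen_le h

lemma hUb (i0 : Fin (n + 1)) (h : Γ(Proj 𝒜ₙ, U0 n A i0)) (x : Ub i0 h) :
    (MvPolynomial.X i0 : S) ∉ x.1.asHomogeneousIdeal :=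
  hU0 i0 ⟨x.1, Ub_le i0 h x.2⟩

lemma isAffineOpen_Ub (i0 : Fin (n + 1)) (h : Γ(Proj 𝒜ₙ, U0 n A i0)) : IsAffineOpen (Ub i0 h) :=
  (isAffineOpen_U0 i0).basicOpen h

lemma uSec_res (i0 : Fin (n + 1)) {U V : (Proj 𝒜ₙ).Opens}
    (hU : ∀ x : U, (MvPolynomial.X i0 : S) ∉ x.1.asHomogeneousIdeal)
    (hV : ∀ x : V, (MvPolynomial.X i0 : S) ∉ x.1.asHomogeneousIdeal) (hVU : V ≤ U)
    (l : Fin (n + 1)) :
    (Proj 𝒜ₙ).presheaf.map (homOfLE hVU).op (uSec i0 U hU l) = uSec i0 V hV l :=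
  O_ext' 𝒜ₙ _ _ fun _ => rfl

lemma vForm_res (i0 : Fin (n + 1)) {U V : (Proj 𝒜ₙ).Opens}
    (hU : ∀ x : U, (MvPolynomial.X i0 : S) ∉ x.1.asHomogeneousIdeal)
    (hV : ∀ x : V, (MvPolynomial.X i0 : S) ∉ x.1.asHomogeneousIdeal) (hVU : V ≤ U)
    (l : Fin (n + 1)) :
    (Ωₙ).presheaf.map (homOfLE hVU).op (vForm i0 U hU l) = vForm i0 V hV l := by
  unfold vForm
  rw [← Groth.Agent.Lib.helper7.OmegaUniv.dSect_map' (fP n A) hVU]
  exact congrArg (OmegaSh.dSect (fP n A) V) (uSec_res i0 hU hV hVU l)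

/-- the differentials of the coordinate functions span the forms on the basic opens of the
standard charts -/
theorem span_vForm_Ub (i0 : Fin (n + 1)) (h : Γ(Proj 𝒜ₙ, U0 n A i0)) :
    Submodule.span Γ(Proj 𝒜ₙ, Ub i0 h) (Set.range (vForm i0 (Ub i0 h) (hUb i0 h))) = ⊤ := by
  rw [eq_top_iff]
  intro w _
  haveI : (Ωₙ).IsQuasicoherent := Groth.Agent.Lib.helper7.OmegaAffine.omega_qcoh (fP n A)
  obtain ⟨k, t, ht⟩ := Groth.Agent.Lib.helper7.exists_pow_smul_eq_map_of_isAffineOpen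
    (isAffineOpen_U0 i0) Ωₙ h w
  have ht' : t ∈ Sp0 (n := n) (A := A) i0 := by rw [span_vForm_U0]; trivial
  obtain ⟨c, hc⟩ := (Submodule.mem_span_range_iff_exists_fun _).mp ht'
  have hr : IsUnit ((Proj 𝒜ₙ).presheaf.map (homOfLE (Ub_le i0 h)).op h) :=
    (Proj 𝒜ₙ).toRingedSpace.isUnit_res_basicOpen h
  have h1 : ((Proj 𝒜ₙ).presheaf.map (homOfLE (Ub_le i0 h)).op h) ^ k • w ∈
      Submodule.span Γ(Proj 𝒜ₙ, Ub i0 h) (Set.range (vForm i0 (Ub i0 h) (hUb i0 h))) := by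
    rw [← ht, ← hc, map_sum]
    refine Submodule.sum_mem _ fun l _ => ?_
    rw [Groth.Agent.Lib.helper28.HomOfBasis.map_smul',
      vForm_res i0 (hU0 i0) (hUb i0 h) (Ub_le i0 h) l]
    exact Submodule.smul_mem _ _ (Submodule.subset_span ⟨l, rfl⟩)
  obtain ⟨u, hu⟩ := hr.pow k
  have h2 : w = (↑u⁻¹ : Γ(Proj 𝒜ₙ, Ub i0 h)) •
      (((Proj 𝒜ₙ).presheaf.map (homOfLE (Ub_le i0 h)).op h) ^ k • w) := by
    rw [← hu, smul_smul, Units.inv_mul, one_smul]
  rw [h2]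
  exact Submodule.smul_mem _ _ h1

end

end Groth.Agent.Lib.helper20.Euler4e
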