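import Mathlib
import Groth.Agent.Lib.Helper20.Euler4e
import Groth.Agent.Lib.Helper2.ModSec3
import Groth.Agent.Lib.Helper7.KerSections

/-!
# `Ω^p` of projective space is the module of Koszul cycles `Z_p = ker (K_p → K_{p-1})` (helper20)
-/

set_option autoImplicit false
universe u

open CategoryTheory CategoryTheory.Limits AlgebraicGeometry Opposite TopologicalSpace

namespace Groth.Agent.Lib.helper20.Euler4f

open Groth.Agent.Lib.helper20.TwistVal
  Groth.Agent.Lib.helper28.TwistFree Groth.Agent.Lib.helper28.TwistMul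
  Groth.Agent.Lib.Helper20.ProjMulHom Groth.Agent.Lib.helper20.Euler3
  Groth.Agent.Lib.helper20.Euler2 Groth.Agent.Lib.helper20.Euler2b
  Groth.Agent.Lib.helper20.Euler4c Groth.Agent.Lib.helper20.Euler4d
  Groth.Agent.Lib.helper20.Euler4e Groth.Agent.Lib.helper7.KerSections

noncomputable section

variable {n : ℕ} {A : Type u} [CommRing A]

local notation "𝒜ₙ" => CohB1.polyGrading n A
local notation "S" => MvPolynomial (Fin (n + 1)) A
local notation "Ωₙ" => Omega.sheaf (fP n A)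

/-- the index type of the basis of opens -/
abbrev BIdx (n : ℕ) (A : Type u) [CommRing A] : Type u :=
  Σ i0 : Fin (n + 1), Γ(Proj (CohB1.polyGrading n A), U0 n A i0)

/-- the basis of opens: basic opens of the standard charts -/
def Bas (k : BIdx n A) : (Proj 𝒜ₙ).Opens := (Proj 𝒜ₙ).basicOpen k.2

lemma isBasis_Bas : Opens.IsBasis (Set.range (Bas (n := n) (A := A))) := by
  rw [Opens.isBasis_iff_nbhd]
  intro W x hx
  obtain ⟨i0, hi0⟩ := Groth.Agent.Lib.helper28.TwistPn.exists_X_notMem n A x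
  have hx0 : x ∈ U0 n A i0 := (Proj.mem_basicOpen 𝒜ₙ _ x).mpr hi0
  obtain ⟨f, hf1, hf2⟩ := (isAffineOpen_U0 (n := n) (A := A) i0).exists_basicOpen_le (V := W)
    ⟨x, hx⟩ hx0
  exact ⟨_, ⟨⟨i0, f⟩, rfl⟩, hf2, hf1⟩

/-- the Koszul differential out of `K_p`, with `K_0 → K_0` zero -/
def dd (n : ℕ) (A : Type u) [CommRing A] : ∀ p : ℕ, K n A p ⟶ K n A (p - 1)
  | 0 => 0
  | (q + 1) => d n A q

/-- the module of Koszul cycles -/
def Z (n : ℕ) (A : Type u) [CommRing A] (p : ℕ) : (Proj (CohB1.polyGrading n A)).Modules :=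
  kernel (dd n A p)

/-- the inclusion of cycles -/
def ιZ (n : ℕ) (A : Type u) [CommRing A] (p : ℕ) : Z n A p ⟶ K n A p := kernel.ι (dd n A p)

instance mono_ιZ (p : ℕ) : Mono (ιZ n A p) :=
  inferInstanceAs (Mono (kernel.ι (dd n A p)))

lemma dd_app_eq_zero_iff {p : ℕ} {U : (Proj 𝒜ₙ).Opens} (a : Γ(K n A p, U)) :
    ((dd n A p).app U).hom a = 0 ↔ IsCyc a := by
  cases p with
  | zero => exact ⟨fun _ => isCyc_deg_zero a, fun _ => rfl⟩
  | succ q => exact ⟨isCyc_of_d_eq_zero a, d_eq_zero_of_isCyc a⟩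

lemma d_comp_dd (q : ℕ) : d n A q ≫ dd n A q = 0 := by
  cases q with
  | zero => exact comp_zero
  | succ q' => exact d_comp_d q'

/-- the projection `K_{q+1} → Z_q` -/
def πZ (n : ℕ) (A : Type u) [CommRing A] (q : ℕ) : K n A (q + 1) ⟶ Z n A q :=
  kernel.lift (dd n A q) (d n A q) (d_comp_dd q)

lemma πZ_ιZ (q : ℕ) : πZ n A q ≫ ιZ n A q = d n A q := kernel.lift_ι _ _ _

lemma ιZ_πZ (q : ℕ) : ιZ n A (q + 1) ≫ πZ n A q = 0 := by
  rw [← cancel_mono (ιZ n A q), Category.assoc, πZ_ιZ, zero_comp]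
  exact kernel.condition (dd n A (q + 1))

instance epi_πZ (q : ℕ) : Epi (πZ n A q) := by
  cases q with
  | zero =>
    haveI : IsIso (ιZ n A 0) :=
      inferInstanceAs (IsIso (kernel.ι (0 : K n A 0 ⟶ K n A (0 - 1))))
    haveI : Epi (d n A 0) := epi_d_zero
    have h : πZ n A 0 = d n A 0 ≫ inv (ιZ n A 0) := by
      rw [← πZ_ιZ, Category.assoc, IsIso.hom_inv_id, Category.comp_id]
    rw [h]
    infer_instance
  | succ q' =>
    exact (ShortComplex.exact_iff_epi_kernel_lift _).mp (exact_d (n := n) (A := A) q')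

/-- the short exact sequence `0 → Z_{q+1} → K_{q+1} → Z_q → 0` -/
def sesZ (n : ℕ) (A : Type u) [CommRing A] (q : ℕ) :
    ShortComplex (Proj (CohB1.polyGrading n A)).Modules :=
  ShortComplex.mk (ιZ n A (q + 1)) (πZ n A q) (ιZ_πZ q)

theorem shortExact_sesZ (q : ℕ) : (sesZ n A q).ShortExact := by
  have hk : IsLimit (KernelFork.ofι (ιZ n A (q + 1)) (ιZ_πZ q)) :=
    isKernelOfComp (f := πZ n A q) (ιZ n A q) (dd n A (q + 1)) (kernelIsKernel (dd n A (q + 1)))
      (ιZ_πZ q) (πZ_ιZ q)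
  exact
    { exact := ShortComplex.exact_of_f_is_kernel _ hk
      mono_f := mono_ιZ (q + 1)
      epi_g := epi_πZ q }

lemma isEmpty_Idx (p : ℕ) (hp : n + 1 < p) : IsEmpty (Idx n p) := by
  constructor
  intro I
  have h1 := Set.powersetCard.mem_iff.mp I.prop
  have h2 := Finset.card_le_univ I.val
  rw [Fintype.card_fin] at h2
  omega

theorem isZero_K (p : ℕ) (hp : n + 1 < p) : IsZero (K n A p) := by
  haveI := isEmpty_Idx (n := n) p hp
  rw [IsZero.iff_id_eq_zero, ← Groth.Agent.Lib.helper20.ExactLoc.sum_π_ι]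
  exact Finset.sum_of_isEmpty _

theorem isZero_Z (p : ℕ) (hp : n < p) : IsZero (Z n A p) := by
  have h2 : ∀ q, n + 1 < q → IsZero (Z n A q) := fun q hq =>
    IsZero.of_mono (ιZ n A q) (isZero_K q hq)
  by_cases h : n + 1 < p
  · exact h2 p h
  · have hp' : p = n + 1 := by omega
    subst hp'
    exact IsZero.of_epi (πZ n A (n + 1)) (isZero_K (n + 1 + 1) (by omega))

section Iso

variable [QuasiSeparated (fP n A)]

/-- an exterior power of `Ω` on projective space is isomorphic to the module of Koszul cycles -/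
theorem nonempty_iso_Z {p : ℕ} {L : (Proj 𝒜ₙ).Modules} (φ : ExtData p L) (hφ : ExtCompat φ) :
    Nonempty (L ≅ Z n A p) := by
  obtain ⟨c, hc⟩ := exists_c φ hφ
  have hc0 : c ≫ dd n A p = 0 := by
    cases p with
    | zero => exact comp_zero
    | succ q => exact c_comp_d φ c hc
  let c' : L ⟶ Z n A p := kernel.lift (dd n A p) c hc0
  have hc' : c' ≫ ιZ n A p = c := kernel.lift_ι _ _ _
  have hc'app : ∀ (U : (Proj 𝒜ₙ).Opens) (s : Γ(L, U)),
      ((ιZ n A p).app U).hom ((c'.app U).hom s) = (c.app U).hom s := fun U s =>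
    congrArg (fun ψ => (Scheme.Modules.Hom.app ψ U).hom s) hc'
  have hiso : IsIso c' := by
    refine Groth.Agent.Lib.helper2.ModSec.isIso_of_bijective_basis c'
      (Set.range (Bas (n := n) (A := A))) isBasis_Bas ?_
    rintro _ ⟨⟨i0, h⟩, rfl⟩
    have haff : IsAffineOpen (Ub i0 h) := isAffineOpen_Ub i0 h
    have hcU : ∀ s : Γ(L, Ub i0 h), (c.app (Ub i0 h)).hom s =
        cAll p (Ub i0 h) (φ ⟨Ub i0 h, haff⟩ s) := fun s => hc ⟨Ub i0 h, haff⟩ s
    constructor
    · intro s s' hss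
      have h1 : (c.app (Ub i0 h)).hom s = (c.app (Ub i0 h)).hom s' := by
        rw [← hc'app, ← hc'app]
        exact congrArg _ hss
      rw [hcU, hcU] at h1
      exact (φ ⟨Ub i0 h, haff⟩).injective
        (cAll_injective i0 (Ub i0 h) (hUb i0 h) (span_vForm_Ub i0 h) p h1)
    · intro t
      have ht : ((dd n A p).app (Ub i0 h)).hom (((ιZ n A p).app (Ub i0 h)).hom t) = 0 :=
        kernel_ι_app_comp (dd n A p) (Ub i0 h) t
      obtain ⟨y, hy⟩ := exists_cAll_eq i0 (Ub i0 h) (hUb i0 h) p _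
        ((dd_app_eq_zero_iff _).mp ht)
      refine ⟨(φ ⟨Ub i0 h, haff⟩).symm y, ?_⟩
      apply kernel_ι_app_injective (dd n A p) (Ub i0 h)
      refine (hc'app (Ub i0 h) _).trans ?_
      rw [hcU, LinearEquiv.apply_symm_apply]
      exact hy
  exact ⟨asIso c'⟩

end Iso

end

end Groth.Agent.Lib.helper20.Euler4f
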