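import Mathlib
import Groth.Agent.Lib.Helper18.HHLES
import Groth.Agent.Lib.Helper18.HHSum

/-!
# Consequences of the long exact cohomology sequence (helper20)
-/

set_option autoImplicit false
universe u

open CategoryTheory CategoryTheory.Limits AlgebraicGeometry Opposite TopologicalSpace

namespace Groth.Agent.Lib.helper20.Euler5a

open Groth.Agent.Lib.Helper18.HH

variable {X : Scheme.{u}} {S : ShortComplex X.Modules} (hS : S.ShortExact)

include hS in
/-- `H^i(X₃) ↪ H^{i+1}(X₁)` when `H^i(X₂) = 0` -/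
theorem up (i : ℕ) (h1 : Subsingleton (Coh.HH X S.X₁ (i + 1))) (h2 : Subsingleton (Coh.HH X S.X₂ i)) :
    Subsingleton (Coh.HH X S.X₃ i) := by
  suffices H : ∀ x : Coh.HH X S.X₃ i, x = 0 from ⟨fun x y => (H x).trans (H y).symm⟩
  intro x
  have hx : δ hS i x = 0 := Subsingleton.elim _ _
  obtain ⟨y, rfl⟩ := (exact₃ hS i x).mp hx
  rw [Subsingleton.elim y 0, _root_.map_zero]

include hS in
/-- `H^i(X₃) ↠ H^{i+1}(X₁)` when `H^{i+1}(X₂) = 0` -/
theorem down (i : ℕ) (h1 : Subsingleton (Coh.HH X S.X₃ i))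
    (h2 : Subsingleton (Coh.HH X S.X₂ (i + 1))) : Subsingleton (Coh.HH X S.X₁ (i + 1)) := by
  suffices H : ∀ x : Coh.HH X S.X₁ (i + 1), x = 0 from ⟨fun x y => (H x).trans (H y).symm⟩
  intro x
  have hx : map S.f (i + 1) x = 0 := Subsingleton.elim _ _
  obtain ⟨y, rfl⟩ := (exact₁ hS i x).mp hx
  rw [Subsingleton.elim y 0, _root_.map_zero]

theorem bijective_δ (i : ℕ) (h1 : Subsingleton (Coh.HH X S.X₂ i))
    (h2 : Subsingleton (Coh.HH X S.X₂ (i + 1))) : Function.Bijective (δ hS i) := by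
  constructor
  · rw [injective_iff_map_eq_zero]
    intro x hx
    obtain ⟨y, rfl⟩ := (exact₃ hS i x).mp hx
    rw [Subsingleton.elim y 0, _root_.map_zero]
  · intro x
    have hx : map S.f (i + 1) x = 0 := Subsingleton.elim _ _
    exact (exact₁ hS i x).mp hx

/-- the connecting isomorphism `H^i(X₃) ≃ H^{i+1}(X₁)` when `H^i(X₂) = 0 = H^{i+1}(X₂)` -/
noncomputable def δEquiv (A : Type u) [CommRing A] [X.Over (Spec (CommRingCat.of A))] (i : ℕ)
    (h1 : Subsingleton (Coh.HH X S.X₂ i)) (h2 : Subsingleton (Coh.HH X S.X₂ (i + 1))) :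
    Coh.HH X S.X₃ i ≃ₗ[A] Coh.HH X S.X₁ (i + 1) :=
  LinearEquiv.ofBijective (δOver hS A i) (bijective_δ hS i h1 h2)

/-- cohomology of a zero object vanishes -/
theorem subsingleton_of_isZero {M : X.Modules} (hM : IsZero M) (i : ℕ) :
    Subsingleton (Coh.HH X M i) := by
  suffices H : ∀ x : Coh.HH X M i, x = 0 from ⟨fun x y => (H x).trans (H y).symm⟩
  intro x
  have h1 : map (𝟙 M) i x = x := by rw [map_id]; rfl
  have h2 : (𝟙 M) = 0 := (IsZero.iff_id_eq_zero M).mp hM
  rw [h2, Groth.Agent.Lib.Helper18.HH.map_zero] at h1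
  exact h1.symm

/-- cohomology of isomorphic modules -/
theorem subsingleton_of_iso {M N : X.Modules} (e : M ≅ N) (i : ℕ)
    (h : Subsingleton (Coh.HH X M i)) : Subsingleton (Coh.HH X N i) :=
  (isoEquiv e i).symm.toEquiv.subsingleton

/-- cohomology of a finite coproduct -/
theorem subsingleton_sigma {ι : Type} [Fintype ι] [DecidableEq ι] (M : ι → X.Modules) (i : ℕ)
    (h : ∀ j, Subsingleton (Coh.HH X (M j) i)) : Subsingleton (Coh.HH X (∐ M) i) :=
  (sigmaEquiv M i).toEquiv.subsingleton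

end Groth.Agent.Lib.helper20.Euler5a
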