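import Mathlib
import Groth.Agent.Lib.Helper20.Euler4f
import Groth.Agent.Lib.Helper20.Euler5a
import Groth.Agent.Lib.Helper20.TwistEquivPn
import Groth.Agent.Lib.Helper12.TensorCocont
import Groth.Agent.S0844

/-!
# Bott vanishing on projective space over a ring (helper20)
-/

set_option autoImplicit false
universe u

open CategoryTheory CategoryTheory.Limits AlgebraicGeometry Opposite TopologicalSpace

namespace Groth.Agent.Lib.helper20.Euler5b

open Groth.Agent.Lib.helper20.Euler3 Groth.Agent.Lib.helper20.Euler4f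
  Groth.Agent.Lib.helper20.Euler5a Groth.Agent.Lib.Helper20.TwistEquivPn
  Groth.Agent.Lib.Helper20.TensorEquiv Groth.Agent.Lib.Lead.ModTensor

noncomputable section

variable (n : ℕ) (A : Type u) [CommRing A]

/-- the module of Koszul cycles on `CohB1.ProjSpace` -/
def ZZ (p : ℕ) : (CohB1.ProjSpace n A).Modules := Z n A p

/-- the Koszul term on `CohB1.ProjSpace` -/
def KK (p : ℕ) : (CohB1.ProjSpace n A).Modules := K n A p

/-- the sequence `0 → Z_{q+1} → K_{q+1} → Z_q → 0` on `CohB1.ProjSpace` -/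
def sesZ' (q : ℕ) : ShortComplex (CohB1.ProjSpace n A).Modules := sesZ n A q

lemma shortExact_sesZ' (q : ℕ) : (sesZ' n A q).ShortExact := shortExact_sesZ q

/-- cohomology of the Koszul term -/
theorem subsingleton_KK (p i : ℕ)
    (h : Subsingleton (Coh.HH (CohB1.ProjSpace n A) (Twist.twistProjSpace n A (-(p : ℤ))) i)) :
    Subsingleton (Coh.HH (CohB1.ProjSpace n A) (KK n A p) i) :=
  subsingleton_sigma (X := CohB1.ProjSpace n A)
    (fun _ : Idx n p => Twist.twistProjSpace n A (-(p : ℤ))) i (fun _ => h)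

/-- the twisted cycles -/
def Zk (k : ℤ) (p : ℕ) : (CohB1.ProjSpace n A).Modules :=
  CohB1.tensorMod (ZZ n A p) (Twist.twistProjSpace n A k)

/-- the twisted Koszul term -/
def Kk (k : ℤ) (p : ℕ) : (CohB1.ProjSpace n A).Modules :=
  CohB1.tensorMod (KK n A p) (Twist.twistProjSpace n A k)

/-- the twisted sequence -/
def sesk (k : ℤ) (q : ℕ) : ShortComplex (CohB1.ProjSpace n A).Modules :=
  twistSC n A k (sesZ' n A q)

lemma shortExact_sesk (k : ℤ) (q : ℕ) : (sesk n A k q).ShortExact :=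
  shortExact_twistSC n A k (shortExact_sesZ' n A q)

/-- cohomology of the twisted Koszul term -/
theorem subsingleton_Kk (k : ℤ) (p i : ℕ)
    (h : Subsingleton (Coh.HH (CohB1.ProjSpace n A) (Twist.twistProjSpace n A (-(p : ℤ) + k)) i)) :
    Subsingleton (Coh.HH (CohB1.ProjSpace n A) (Kk n A k p) i) := by
  let f : Idx n p → (CohB1.ProjSpace n A).Modules := fun _ => Twist.twistProjSpace n A (-(p : ℤ))
  let e : Kk n A k p ≅ ∐ fun j => (tensorRight (Twist.twistProjSpace n A k)).obj (f j) :=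
    PreservesCoproduct.iso (tensorRight (Twist.twistProjSpace n A k)) f
  refine Euler5a.subsingleton_of_iso e.symm i ?_
  refine subsingleton_sigma (X := CohB1.ProjSpace n A) _ i (fun j => ?_)
  exact Euler5a.subsingleton_of_iso (Groth.Agent.Lib.helper28.TwistPn.tensorIso n A (-(p : ℤ)) k).symm i h

/-- vanishing of the cohomology of the twisting sheaves -/
lemma hO (m : ℤ) (i : ℕ) (h₀ : ¬ (i = 0 ∧ 0 ≤ m)) (hn : ¬ (i = n ∧ m ≤ -((n : ℤ) + 1))) :
    Subsingleton (Coh.HH (CohB1.ProjSpace n A) (Twist.twistProjSpace n A m) i) :=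
  Groth.Agent.S0844.result A n m i h₀ hn

lemma V_top (k : ℤ) (p i : ℕ) (hp : n < p) :
    Subsingleton (Coh.HH (CohB1.ProjSpace n A) (Zk n A k p) i) :=
  subsingleton_of_isZero
    ((tensorRight (Twist.twistProjSpace n A k)).map_isZero (isZero_Z (n := n) (A := A) p hp)) i

instance isIso_ιZ_zero : IsIso (ιZ n A 0) :=
  inferInstanceAs (IsIso (kernel.ι (0 : K n A 0 ⟶ K n A (0 - 1))))

/-- `Z_0 ≅ K_0` -/
def isoZK0 : ZZ n A 0 ≅ KK n A 0 :=
  (@asIso _ _ _ _ (ιZ n A 0) (isIso_ιZ_zero n A) : Z n A 0 ≅ K n A 0)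

lemma V_zero (k : ℤ) (i : ℕ) (h : Subsingleton (Coh.HH (CohB1.ProjSpace n A) (Kk n A k 0) i)) :
    Subsingleton (Coh.HH (CohB1.ProjSpace n A) (Zk n A k 0) i) :=
  Euler5a.subsingleton_of_iso
    (tensorIso (isoZK0 n A) (Iso.refl (Twist.twistProjSpace n A k))).symm i h

/-- the ascending chain -/
theorem V_up (k : ℤ) : ∀ (m p i : ℕ), p + m = n + 1 → ¬ (i = 0 ∧ (p : ℤ) < k) →
    ¬ (p ≤ i ∧ i ≤ n ∧ k ≤ (p : ℤ) - i) →
    Subsingleton (Coh.HH (CohB1.ProjSpace n A) (Zk n A k p) i)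
  | 0, p, i, hp, _, _ => V_top n A k p i (by omega)
  | m + 1, p, i, hp, h1, h2 => by
    have hS := shortExact_sesk n A k p
    have hV : Subsingleton (Coh.HH (CohB1.ProjSpace n A) (Zk n A k (p + 1)) (i + 1)) :=
      V_up k m (p + 1) (i + 1) (by omega) (by omega) (by push_cast; omega)
    have hK : Subsingleton (Coh.HH (CohB1.ProjSpace n A) (Kk n A k (p + 1)) i) :=
      subsingleton_Kk n A k (p + 1) i
        (hO n A _ i (by push_cast; omega) (by push_cast; omega))
    exact up hS i hV hK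

/-- the descending chain -/
theorem V_down (k : ℤ) : ∀ (p i : ℕ), p ≤ i → i ≤ n → ¬ (i = n ∧ k < (p : ℤ) - n) →
    ¬ (i = p ∧ 0 ≤ k) → Subsingleton (Coh.HH (CohB1.ProjSpace n A) (Zk n A k p) i)
  | 0, i, _, _, h1, h2 =>
    V_zero n A k i (subsingleton_Kk n A k 0 i
      (hO n A _ i (by push_cast; push_cast at h2; omega) (by push_cast; push_cast at h1; omega)))
  | p + 1, 0, hpi, _, _, _ => absurd hpi (by omega)
  | p + 1, i + 1, hpi, hin, h1, h2 => by
    have hS := shortExact_sesk n A k p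
    have hV : Subsingleton (Coh.HH (CohB1.ProjSpace n A) (Zk n A k p) i) :=
      V_down k p i (by omega) (by omega) (by omega) (by omega)
    have hK : Subsingleton (Coh.HH (CohB1.ProjSpace n A) (Kk n A k (p + 1)) (i + 1)) :=
      subsingleton_Kk n A k (p + 1) (i + 1)
        (hO n A _ (i + 1) (by omega) (by push_cast; push_cast at h1; omega))
    exact down hS i hV hK

/-- **Bott vanishing** for the modules of Koszul cycles on projective space over a ring -/
theorem bott (k : ℤ) (p i : ℕ) (hp : p ≤ n) (h1 : ¬ (i = 0 ∧ (p : ℤ) < k))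
    (h2 : ¬ (i = n ∧ k < (p : ℤ) - n)) (h3 : ¬ (k = 0 ∧ i = p)) :
    Subsingleton (Coh.HH (CohB1.ProjSpace n A) (Zk n A k p) i) := by
  by_cases hc : p ≤ i ∧ i ≤ n ∧ k ≤ (p : ℤ) - i
  · exact V_down n A k p i hc.1 hc.2.1 h2 (by omega)
  · exact V_up n A k (n + 1 - p) p i (by omega) h1 hc

end

end Groth.Agent.Lib.helper20.Euler5b
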