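import Mathlib
import Groth.Agent.Lib.Helper20.Euler5b
import Groth.Agent.S0843

/-!
# Hodge cohomology of projective space over a ring (helper20)
-/

set_option autoImplicit false
universe u

open CategoryTheory CategoryTheory.Limits AlgebraicGeometry Opposite TopologicalSpace

namespace Groth.Agent.Lib.helper20.Euler5c

open Groth.Agent.Lib.helper20.Euler3 Groth.Agent.Lib.helper20.Euler4f
  Groth.Agent.Lib.helper20.Euler5a Groth.Agent.Lib.helper20.Euler5b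
  Groth.Agent.Lib.Helper20.TwistEquivPn
  Groth.Agent.Lib.Helper20.TensorEquiv Groth.Agent.Lib.Lead.ModTensor
  Groth.Agent.Lib.Helper18.HH

noncomputable section

variable (n : ℕ) (A : Type u) [CommRing A]

/-- untwisted vanishing -/
theorem subsingleton_ZZ (p i : ℕ) (h : p ≠ i ∨ n < p) :
    Subsingleton (Coh.HH (CohB1.ProjSpace n A) (ZZ n A p) i) := by
  by_cases hp : n < p
  · exact subsingleton_of_isZero (isZero_Z (n := n) (A := A) p hp) i
  · have h0 : Subsingleton (Coh.HH (CohB1.ProjSpace n A) (Zk n A 0 p) i) :=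
      bott n A 0 p i (by omega) (by omega) (by omega) (by omega)
    exact Euler5a.subsingleton_of_iso (twistZeroIso n A (ZZ n A p)) i h0

/-- constants -/
def constEquiv : A ≃ₗ[A] ↥(MvPolynomial.homogeneousSubmodule (Fin (n + 1)) A 0) :=
  (LinearEquiv.ofInjective (Algebra.linearMap A (MvPolynomial (Fin (n + 1)) A))
    (MvPolynomial.C_injective (Fin (n + 1)) A)) ≪≫ₗ
    LinearEquiv.ofEq _ _ (by
      rw [MvPolynomial.homogeneousSubmodule_zero, Submodule.one_eq_range])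

instance uniqueIdxZero : Unique (Idx n 0) where
  default := ⟨∅, Set.powersetCard.mem_iff.mpr Finset.card_empty⟩
  uniq I := Subtype.ext (Finset.card_eq_zero.mp (Set.powersetCard.mem_iff.mp I.prop))

/-- `H^0(Z_0) ≅ A` -/
theorem nonempty_H0 : Nonempty (Coh.HH (CohB1.ProjSpace n A) (ZZ n A 0) 0 ≃ₗ[A] A) := by
  obtain ⟨e0⟩ := Groth.Agent.S0843.result A n 0
  let e1 : Coh.HH (CohB1.ProjSpace n A) (ZZ n A 0) 0 ≃ₗ[A]
      Coh.HH (CohB1.ProjSpace n A) (KK n A 0) 0 := isoEquivOver A (isoZK0 n A) 0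
  let e2 : Coh.HH (CohB1.ProjSpace n A) (KK n A 0) 0 ≃ₗ[A]
      (Idx n 0 → Coh.HH (CohB1.ProjSpace n A) (Twist.twistProjSpace n A (-((0 : ℕ) : ℤ))) 0) :=
    sigmaEquivOver (X := CohB1.ProjSpace n A) A
      (fun _ : Idx n 0 => Twist.twistProjSpace n A (-((0 : ℕ) : ℤ))) 0
  let e3 := LinearEquiv.funUnique (Idx n 0) A
    (Coh.HH (CohB1.ProjSpace n A) (Twist.twistProjSpace n A (-((0 : ℕ) : ℤ))) 0)
  let e4 : Coh.HH (CohB1.ProjSpace n A) (Twist.twistProjSpace n A (-((0 : ℕ) : ℤ))) 0 ≃ₗ[A]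
      Coh.HH (CohB1.ProjSpace n A) (Twist.twistProjSpace n A ((0 : ℕ) : ℤ)) 0 :=
    isoEquivOver A (twistCongr n A (by simp)) 0
  exact ⟨e1 ≪≫ₗ e2 ≪≫ₗ e3 ≪≫ₗ e4 ≪≫ₗ e0 ≪≫ₗ (constEquiv n A).symm⟩

/-- `H^p(Z_p) ≅ H^0(Z_0)` for `p ≤ n` -/
theorem nonempty_Hp : ∀ p : ℕ, p ≤ n →
    Nonempty (Coh.HH (CohB1.ProjSpace n A) (ZZ n A p) p ≃ₗ[A]
      Coh.HH (CohB1.ProjSpace n A) (ZZ n A 0) 0)
  | 0, _ => ⟨LinearEquiv.refl _ _⟩
  | q + 1, hq => by
    obtain ⟨e⟩ := nonempty_Hp q (by omega)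
    have h1 : Subsingleton (Coh.HH (CohB1.ProjSpace n A) (KK n A (q + 1)) q) :=
      subsingleton_KK n A (q + 1) q (hO n A _ q (by push_cast; omega) (by push_cast; omega))
    have h2 : Subsingleton (Coh.HH (CohB1.ProjSpace n A) (KK n A (q + 1)) (q + 1)) :=
      subsingleton_KK n A (q + 1) (q + 1)
        (hO n A _ (q + 1) (by push_cast; omega) (by push_cast; omega))
    let d : Coh.HH (CohB1.ProjSpace n A) (ZZ n A q) q ≃ₗ[A]
        Coh.HH (CohB1.ProjSpace n A) (ZZ n A (q + 1)) (q + 1) :=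
      δEquiv (shortExact_sesZ' n A q) A q h1 h2
    exact ⟨d.symm ≪≫ₗ e⟩

/-- `H^p(Z_p) ≅ A` for `p ≤ n` -/
theorem nonempty_Hp_A (p : ℕ) (hp : p ≤ n) :
    Nonempty (Coh.HH (CohB1.ProjSpace n A) (ZZ n A p) p ≃ₗ[A] A) := by
  obtain ⟨e⟩ := nonempty_Hp n A p hp
  obtain ⟨e'⟩ := nonempty_H0 n A
  exact ⟨e ≪≫ₗ e'⟩

end

end Groth.Agent.Lib.helper20.Euler5c
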