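import Groth.Agent.Lib.Helper20.DRFilt3
import Groth.Agent.Lib.Helper20.Euler5c

set_option autoImplicit false

/-!
# de Rham cohomology of projective space over a ring
-/

namespace Groth.Agent.Lib.helper20.DRFilt4

open CategoryTheory Limits AlgebraicGeometry TopologicalSpace Groth.Agent.Lib.helper20.DRFilt1
  Groth.Agent.Lib.helper20.DRFilt2 Groth.Agent.Lib.helper20.DRFilt3

universe u

variable (A : Type u) [CommRing A] (n : ℕ) [QuasiSeparated (CohB1.ProjSpace.toSpec n A)]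
  (D : DeRhamSh.OmegaCx (CohB1.ProjSpace.toSpec n A))

/-- Hodge cohomology of `P^n_A`: off-diagonal vanishing -/
lemma subsingleton_HH (hn : 1 ≤ n) (p q : ℕ) (h : p ≠ q ∨ n < p) :
    Subsingleton (Coh.HH (CohB1.ProjSpace n A) (D.term p) q) := by
  haveI : QuasiSeparated (Groth.Agent.Lib.helper20.Euler2.fP n A) :=
    ‹QuasiSeparated (CohB1.ProjSpace.toSpec n A)›
  obtain ⟨φ, hφ⟩ := D.isExtPow p
  obtain ⟨e⟩ := Groth.Agent.Lib.helper20.Euler4f.nonempty_iso_Z (n := n) (A := A) (p := p)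
    (L := D.term p) φ hφ
  have e' : D.term p ≅ Groth.Agent.Lib.helper20.Euler5b.ZZ n A p := e
  exact Groth.Agent.Lib.helper20.Euler5a.subsingleton_of_iso e'.symm q
    (Groth.Agent.Lib.helper20.Euler5c.subsingleton_ZZ n A p q h)

/-- Hodge cohomology of `P^n_A`: the diagonal -/
lemma nonempty_HH_diag (hn : 1 ≤ n) (p : ℕ) (hp : p ≤ n) :
    Nonempty (Coh.HH (CohB1.ProjSpace n A) (D.term p) p ≃ₗ[A] A) := by
  haveI : QuasiSeparated (Groth.Agent.Lib.helper20.Euler2.fP n A) :=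
    ‹QuasiSeparated (CohB1.ProjSpace.toSpec n A)›
  obtain ⟨φ, hφ⟩ := D.isExtPow p
  obtain ⟨e⟩ := Groth.Agent.Lib.helper20.Euler4f.nonempty_iso_Z (n := n) (A := A) (p := p)
    (L := D.term p) φ hφ
  have e' : D.term p ≅ Groth.Agent.Lib.helper20.Euler5b.ZZ n A p := e
  obtain ⟨e2⟩ := Groth.Agent.Lib.helper20.Euler5c.nonempty_Hp_A n A p hp
  exact ⟨(Groth.Agent.Lib.Helper18.HH.isoEquivOver A e' p).trans e2⟩

lemma isZero_term (p : ℕ) (hp : n < p) : IsZero (D.term p) := by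
  haveI : QuasiSeparated (Groth.Agent.Lib.helper20.Euler2.fP n A) :=
    ‹QuasiSeparated (CohB1.ProjSpace.toSpec n A)›
  obtain ⟨φ, hφ⟩ := D.isExtPow p
  obtain ⟨e⟩ := Groth.Agent.Lib.helper20.Euler4f.nonempty_iso_Z (n := n) (A := A) (p := p)
    (L := D.term p) φ hφ
  exact (Groth.Agent.Lib.helper20.Euler4f.isZero_Z (n := n) (A := A) p hp).of_iso e

lemma hbig (m : ℤ) (hm : (n : ℤ) < m) : IsZero (D.KZ.X m) := by
  obtain ⟨p, rfl⟩ : ∃ p : ℕ, (p : ℤ) = m := ⟨m.toNat, by omega⟩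
  exact isZero_KZ_of_isZero_term D p (isZero_term A n D p (by exact_mod_cast hm))

variable [HasDerivedCategory.{u}
  (Sheaf (Opens.grothendieckTopology ↥(CohB1.ProjSpace n A)) AddCommGrpCat.{u})]

lemma hG (hn : 1 ≤ n) (p : ℕ) (a : ℤ) (_hp : p ≤ n) (ha : a ≠ 2 * (p : ℤ)) :
    Subsingleton (G (CohCx.freeSheaf (Opens.grothendieckTopology ↥(CohB1.ProjSpace n A)) ⊤)
      D.KZ p a) :=
  subsingleton_G D p a ha (fun q hq => subsingleton_HH A n D hn p q (Or.inl (Ne.symm hq)))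

/-- de Rham cohomology of `P^n_A` vanishes off the even degrees `0, …, 2n` -/
theorem subsingleton_HdR (hn : 1 ≤ n) (m : ℤ) (hm : ∀ i : ℕ, i ≤ n → m ≠ 2 * (i : ℤ)) :
    Subsingleton (DeRhamSh.HdR D m) :=
  subsingleton_HT _ D.KZ n (hbig A n D) (hG A n D hn) (isZero_KZ_neg D) m hm

/-- de Rham cohomology of `P^n_A` in degree `2i` is `H^i(Ω^i)`, through the two natural maps -/
theorem bijective_pair_HdR (hn : 1 ≤ n) (i : ℕ) (hi : i ≤ n) :
    Function.Bijective (E1Deg.HTmap (CohCx.freeSheaf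
        (Opens.grothendieckTopology ↥(CohB1.ProjSpace n A)) ⊤)
        (E1Deg.sigmaGEι D.KZ (i : ℤ)) (2 * (i : ℤ))) ∧
      Function.Bijective (E1Deg.HTmap (CohCx.freeSheaf
        (Opens.grothendieckTopology ↥(CohB1.ProjSpace n A)) ⊤)
        (E1Deg.sigmaGEπ D.KZ (i : ℤ)) (2 * (i : ℤ))) :=
  bijective_pair _ D.KZ n (hbig A n D) (hG A n D hn) (isZero_KZ_neg D) i hi

/-- additive form -/
theorem nonempty_HdR_addEquiv (hn : 1 ≤ n) (i : ℕ) (hi : i ≤ n) :
    Nonempty (DeRhamSh.HdR D (2 * (i : ℤ)) ≃+ A) := by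
  obtain ⟨h1, h2⟩ := bijective_pair_HdR A n D hn i hi
  obtain ⟨e⟩ := nonempty_HH_diag A n D hn i hi
  exact ⟨(((AddEquiv.ofBijective _ h1).symm.trans (AddEquiv.ofBijective _ h2)).trans
    (gradedEquivHH D i i (2 * (i : ℤ)) (by ring))).trans e.toAddEquiv⟩

end Groth.Agent.Lib.helper20.DRFilt4
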