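import Groth.Agent.Lib.Helper20.DRLin1

set_option autoImplicit false

/-!
# Finiteness of hypercohomology from finiteness of the graded pieces of the stupid filtration
-/

namespace Groth.Agent.Lib.helper20.DRFin1

open CategoryTheory Limits Groth.Agent.Lib.helper20.DRFilt1 Groth.Agent.Lib.helper20.DRLin1

universe w v u u'

section complexes

variable {𝒜 : Type u} [Category.{v} 𝒜] [Abelian 𝒜] (K : CochainComplex 𝒜 ℤ) (i : ℤ)

lemma hom_ext_ι {L : CochainComplex 𝒜 ℤ} {α β : L ⟶ E1Deg.sigmaGE K i}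
    (h : α ≫ E1Deg.sigmaGEι K i = β ≫ E1Deg.sigmaGEι K i) : α = β := by
  refine trunc_hom_ext K i (fun n m hn => ?_)
  have := congrArg (fun γ => HomologicalComplex.Hom.f γ m) h
  simp only [HomologicalComplex.comp_f] at this
  rwa [E1Deg.sigmaGEι_f_eq K i hn] at this

lemma commutes_ιSucc (φ : K ⟶ K) :
    HomologicalComplex.stupidTruncMap φ (E1Deg.emb (i + 1)) ≫ E1Deg.sigmaGEιSucc K i =
      E1Deg.sigmaGEιSucc K i ≫ HomologicalComplex.stupidTruncMap φ (E1Deg.emb i) := by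
  apply hom_ext_ι K i
  have h1 : (HomologicalComplex.stupidTruncMap φ (E1Deg.emb (i + 1)) ≫ E1Deg.sigmaGEιSucc K i) ≫
      E1Deg.sigmaGEι K i = E1Deg.sigmaGEι K (i + 1) ≫ φ := by
    rw [Category.assoc, E1Deg.sigmaGEιSucc_comp_ι, commutes_ι]
  have h2 : (E1Deg.sigmaGEιSucc K i ≫ HomologicalComplex.stupidTruncMap φ (E1Deg.emb i)) ≫
      E1Deg.sigmaGEι K i = E1Deg.sigmaGEι K (i + 1) ≫ φ := by
    rw [Category.assoc, commutes_ι, ← Category.assoc, E1Deg.sigmaGEιSucc_comp_ι]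
  rw [h1, h2]

end complexes

section HT

variable {𝒜 : Type u} [Category.{v} 𝒜] [Abelian 𝒜] [HasDerivedCategory.{w} 𝒜]
  {R : Type u'} [CommRing R] (T : 𝒜) (K : CochainComplex 𝒜 ℤ) (ρ : R →+* End K)

lemma commutes_ρ_ιSucc (i : ℤ) :
    KLinDR.Commutes (ρσ K ρ (i + 1)) (ρσ K ρ i) (E1Deg.sigmaGEιSucc K i) := fun a =>
  commutes_ιSucc K i (ρ a)

variable [IsNoetherianRing R]

/-- one step: finiteness of `H(σ_{≥ p+1})` and of the graded piece give finiteness of `H(σ_{≥ p})` -/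
lemma finite_step (i a : ℤ)
    (h1 : Module.Finite R (KLinDR.HTρ T (E1Deg.sigmaGE K (i + 1)) (ρσ K ρ (i + 1)) a))
    (h3 : Module.Finite R (KLinDR.HTρ T
      ((HomologicalComplex.single 𝒜 (ComplexShape.up ℤ) i).obj (K.X i)) (ρgr K ρ i) a)) :
    Module.Finite R (KLinDR.HTρ T (E1Deg.sigmaGE K i) (ρσ K ρ i) a) := by
  let f := KLinDR.HTρmap T (E1Deg.sigmaGEιSucc K i) (commutes_ρ_ιSucc K ρ i) a
  let g := KLinDR.HTρmap T (E1Deg.sigmaGEπ K i) (commutes_ρ_π K ρ i) a
  have hex : LinearMap.ker g ≤ LinearMap.range f := by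
    intro y hy
    obtain ⟨x, hx⟩ := exact_mid T K i a y hy
    exact ⟨x, hx⟩
  haveI : IsNoetherian R (KLinDR.HTρ T (E1Deg.sigmaGE K (i + 1)) (ρσ K ρ (i + 1)) a) :=
    isNoetherian_of_isNoetherianRing_of_finite R _
  haveI : IsNoetherian R (KLinDR.HTρ T
      ((HomologicalComplex.single 𝒜 (ComplexShape.up ℤ) i).obj (K.X i)) (ρgr K ρ i) a) :=
    isNoetherian_of_isNoetherianRing_of_finite R _
  rw [Module.finite_def]
  refine Submodule.fg_of_fg_map_of_fg_inf_ker g (IsNoetherian.noetherian _) ?_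
  rw [top_inf_eq]
  have hk : LinearMap.ker g = Submodule.map f (Submodule.comap f (LinearMap.ker g)) := by
    rw [Submodule.map_comap_eq, inf_eq_right.mpr hex]
  rw [hk]
  exact Submodule.FG.map f (IsNoetherian.noetherian _)

variable (hG : ∀ (p : ℕ) (a : ℤ), Module.Finite R (KLinDR.HTρ T
      ((HomologicalComplex.single 𝒜 (ComplexShape.up ℤ) (p : ℤ)).obj (K.X p)) (ρgr K ρ (p : ℤ)) a))

include hG in
lemma finite_sigmaGE_aux (a : ℤ) (k : ℕ) : ∀ p : ℕ, p + k = (a + 1).toNat →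
    Module.Finite R (KLinDR.HTρ T (E1Deg.sigmaGE K (p : ℤ)) (ρσ K ρ (p : ℤ)) a) := by
  induction k with
  | zero =>
      intro p hp
      have hlt : a < p := by omega
      haveI : Subsingleton (KLinDR.HTρ T (E1Deg.sigmaGE K (p : ℤ)) (ρσ K ρ (p : ℤ)) a) :=
        subsingleton_HT_sigmaGE T K (p : ℤ) a hlt
      rw [Module.finite_def, Submodule.eq_bot_of_subsingleton (p := ⊤)]
      exact Submodule.fg_bot
  | succ k ih =>
      intro p hp
      have h1 := ih (p + 1) (by omega)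
      rw [Nat.cast_succ] at h1
      exact finite_step T K ρ (p : ℤ) a h1 (hG p a)

include hG in
/-- finiteness of hypercohomology of a complex vanishing in negative degrees -/
theorem finite_HTρ (hneg : ∀ m : ℤ, m < 0 → IsZero (K.X m)) (a : ℤ) :
    Module.Finite R (KLinDR.HTρ T K ρ a) := by
  have h0 := finite_sigmaGE_aux T K ρ hG a (a + 1).toNat 0 (by omega)
  rw [Nat.cast_zero] at h0
  exact Module.Finite.equiv (linEquivOfBijective T (E1Deg.sigmaGEι K 0)
    (commutes_ρ_ι K ρ 0) a (bijective_HTmap_ι T K 0 a hneg))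

end HT

end Groth.Agent.Lib.helper20.DRFin1
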