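import Groth.Agent.Lib.Helper20.DRLin2
import Groth.Agent.Lib.Helper20.DRFilt3

set_option autoImplicit false

/-!
# The graded pieces of the stupid filtration of a de Rham complex, linearly
-/

namespace Groth.Agent.Lib.helper20.DRLin3

open CategoryTheory Limits AlgebraicGeometry TopologicalSpace Groth.Agent.Lib.helper20.DRFilt1
  Groth.Agent.Lib.helper20.DRFilt2 Groth.Agent.Lib.helper20.DRFilt3
  Groth.Agent.Lib.helper20.DRLin1 Groth.Agent.Lib.helper20.DRLin2

universe w u

variable {A : Type u} [CommRing A] {X S : Scheme.{u}} [X.Over (Spec (CommRingCat.of A))]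
  {f : X ⟶ S} {Ω' : X.Modules} {δ : OmegaSh.Der f Ω'}
  [HasDerivedCategory.{w} (Sheaf (Opens.grothendieckTopology X) AddCommGrpCat.{u})]

/-- the scalar action in degree `n` through `KZXIso` -/
lemma scalar_f_eq (D : DeRhamSh.Cx f Ω' δ)
    (h : KLinDR.TermwiseLinear (Coh.toGlobal (X ↘ Spec (CommRingCat.of A))) D.K D.term D.iso)
    (r : A) (n : ℕ) :
    (KLinDR.scalar h r : D.KZ ⟶ D.KZ).f (n : ℤ) =
      (KZXIso D n).hom ≫ Coh.smulAb (D.term n)
        (Coh.toGlobal (X ↘ Spec (CommRingCat.of A)) r) ≫ (KZXIso D n).inv := by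
  rw [KLinDR.scalar_f]
  simp only [KZXIso, KLinDR.scalarEnd, Iso.trans_hom, Iso.trans_inv, Category.assoc]

/-- graded piece of the stupid filtration = Hodge cohomology, linearly -/
noncomputable def gradedLinEquivHH (D : DeRhamSh.Cx f Ω' δ)
    (h : KLinDR.TermwiseLinear (Coh.toGlobal (X ↘ Spec (CommRingCat.of A))) D.K D.term D.iso)
    (n m : ℕ) (a : ℤ) (hh : (n : ℤ) + m = a) :
    KLinDR.HTρ (CohCx.freeSheaf (Opens.grothendieckTopology X) ⊤)
        ((HomologicalComplex.single _ (ComplexShape.up ℤ) (n : ℤ)).obj (D.KZ.X n))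
        (ρgr D.KZ (KLinDR.scalar h) (n : ℤ)) a ≃ₗ[A] Coh.HH X (D.term n) m :=
  AddEquiv.toLinearEquiv (KLinDR.HTρ.toHT.trans (gradedEquivHH D n m a hh)) (by
    intro r x
    change gradedEquivHH D n m a hh (KLinDR.HTρ.toHT (r • x)) =
      (gradedEquivHH D n m a hh (KLinDR.HTρ.toHT x)).comp
        (Abelian.Ext.mk₀ (Coh.smulAb (D.term n)
          (Coh.toGlobal (X ↘ Spec (CommRingCat.of A)) r))) (add_zero m)
    rw [KLinDR.smul_def]
    have h1 : (ρgr D.KZ (KLinDR.scalar h) (n : ℤ) r :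
        (HomologicalComplex.single _ (ComplexShape.up ℤ) (n : ℤ)).obj (D.KZ.X n) ⟶ _) =
        (HomologicalComplex.single _ (ComplexShape.up ℤ) (n : ℤ)).map
          ((KZXIso D n).hom ≫ Coh.smulAb (D.term n)
            (Coh.toGlobal (X ↘ Spec (CommRingCat.of A)) r) ≫ (KZXIso D n).inv) := by
      rw [← scalar_f_eq D h r n]
      rfl
    rw [h1]
    exact bridge_naturality _ _ (KZXIso D n) _ _ (n : ℤ) a m hh _)

end Groth.Agent.Lib.helper20.DRLin3
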