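import Groth.Agent.Lib.Helper20.DRFin1
import Groth.Agent.Lib.Helper20.DRLin3

set_option autoImplicit false

/-!
# Finiteness of de Rham cohomology from finiteness of Hodge cohomology
-/

namespace Groth.Agent.Lib.helper20.DRFin2

open CategoryTheory Limits AlgebraicGeometry TopologicalSpace Groth.Agent.Lib.helper20.DRFilt1
  Groth.Agent.Lib.helper20.DRFilt3 Groth.Agent.Lib.helper20.DRLin1
  Groth.Agent.Lib.helper20.DRLin3 Groth.Agent.Lib.helper20.DRFin1

universe w u

variable {A : Type u} [CommRing A] [IsNoetherianRing A] {X S : Scheme.{u}}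
  [X.Over (Spec (CommRingCat.of A))]
  {f : X ⟶ S} {Ω' : X.Modules} {δ : OmegaSh.Der f Ω'}
  [HasDerivedCategory.{w} (Sheaf (Opens.grothendieckTopology X) AddCommGrpCat.{u})]

/-- de Rham cohomology is finite over a Noetherian ring when all Hodge cohomology groups are -/
theorem finite_HdR (D : DeRhamSh.Cx f Ω' δ)
    (h : KLinDR.TermwiseLinear (Coh.toGlobal (X ↘ Spec (CommRingCat.of A))) D.K D.term D.iso)
    (hfin : ∀ p q : ℕ, Module.Finite A (Coh.HH X (D.term p) q)) (i : ℤ) :
    Module.Finite A (KLinDR.HdR (Coh.toGlobal (X ↘ Spec (CommRingCat.of A))) D h i) := by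
  refine finite_HTρ (CohCx.freeSheaf (Opens.grothendieckTopology X) ⊤) D.KZ (KLinDR.scalar h)
    (fun p a => ?_) (isZero_KZ_neg D) i
  by_cases hlt : a < p
  · haveI : Subsingleton (KLinDR.HTρ (CohCx.freeSheaf (Opens.grothendieckTopology X) ⊤)
        ((HomologicalComplex.single _ (ComplexShape.up ℤ) (p : ℤ)).obj (D.KZ.X p))
        (ρgr D.KZ (KLinDR.scalar h) (p : ℤ)) a) :=
      subsingleton_HT_single _ (p : ℤ) a _ hlt
    rw [Module.finite_def, Submodule.eq_bot_of_subsingleton (p := ⊤)]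
    exact Submodule.fg_bot
  · obtain ⟨m, hm⟩ : ∃ m : ℕ, (p : ℤ) + m = a := ⟨(a - p).toNat, by omega⟩
    haveI := hfin p m
    exact Module.Finite.equiv (gradedLinEquivHH (A := A) D h p m a hm).symm

end Groth.Agent.Lib.helper20.DRFin2
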