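import Groth.Agent.Lib.Helper20.DRFilt1
import Groth.Prelude.Def_KLinDR

set_option autoImplicit false

/-!
# Linear structures on the stupid filtration pieces
-/

namespace Groth.Agent.Lib.helper20.DRLin1

open CategoryTheory Limits Groth.Agent.Lib.helper20.DRFilt1

universe w v u u'

section complexes

variable {𝒜 : Type u} [Category.{v} 𝒜] [Abelian 𝒜] (K : CochainComplex 𝒜 ℤ) (i : ℤ)

lemma trunc_hom_ext {L : CochainComplex 𝒜 ℤ} {φ ψ : L ⟶ E1Deg.sigmaGE K i}
    (h : ∀ (n : ℕ) (m : ℤ) (hn : (E1Deg.emb i).f n = m),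
      φ.f m ≫ (K.stupidTruncXIso (E1Deg.emb i) hn).hom =
        ψ.f m ≫ (K.stupidTruncXIso (E1Deg.emb i) hn).hom) : φ = ψ := by
  ext m
  by_cases hm : ∃ n : ℕ, (E1Deg.emb i).f n = m
  · obtain ⟨n, hn⟩ := hm
    exact (cancel_mono (K.stupidTruncXIso (E1Deg.emb i) hn).hom).1 (h n m hn)
  · exact (K.isZero_stupidTrunc_X (E1Deg.emb i) m (by simpa using hm)).eq_of_tgt _ _

/-- truncation of endomorphisms, as a ring map -/
noncomputable def truncEnd : End K →+* End (E1Deg.sigmaGE K i) where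
  toFun φ := HomologicalComplex.stupidTruncMap φ (E1Deg.emb i)
  map_one' := HomologicalComplex.stupidTruncMap_id K _
  map_mul' φ ψ := HomologicalComplex.stupidTruncMap_comp ψ φ _
  map_zero' := by
    refine trunc_hom_ext K i (fun n m hn => ?_)
    rw [HomologicalComplex.stupidTruncMap_stupidTruncXIso_hom]
    simp
  map_add' φ ψ := by
    refine trunc_hom_ext K i (fun n m hn => ?_)
    rw [HomologicalComplex.stupidTruncMap_stupidTruncXIso_hom]
    rw [HomologicalComplex.add_f_apply, HomologicalComplex.add_f_apply, Preadditive.add_comp,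
      HomologicalComplex.stupidTruncMap_stupidTruncXIso_hom,
      HomologicalComplex.stupidTruncMap_stupidTruncXIso_hom, Preadditive.comp_add]

lemma truncEnd_apply (φ : End K) :
    truncEnd K i φ = HomologicalComplex.stupidTruncMap φ (E1Deg.emb i) := rfl

/-- the action on the graded piece, as a ring map -/
noncomputable def grEnd :
    End K →+* End ((HomologicalComplex.single 𝒜 (ComplexShape.up ℤ) i).obj (K.X i)) where
  toFun φ := (HomologicalComplex.single 𝒜 (ComplexShape.up ℤ) i).map (HomologicalComplex.Hom.f φ i)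
  map_one' := (HomologicalComplex.single 𝒜 (ComplexShape.up ℤ) i).map_id _
  map_mul' φ ψ := (HomologicalComplex.single 𝒜 (ComplexShape.up ℤ) i).map_comp _ _
  map_zero' := (HomologicalComplex.single 𝒜 (ComplexShape.up ℤ) i).map_zero _ _
  map_add' _ _ := (HomologicalComplex.single 𝒜 (ComplexShape.up ℤ) i).map_add

lemma grEnd_apply (φ : End K) :
    grEnd K i φ = (HomologicalComplex.single 𝒜 (ComplexShape.up ℤ) i).map
      (HomologicalComplex.Hom.f φ i) := rfl

lemma commutes_ι (φ : K ⟶ K) :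
    HomologicalComplex.stupidTruncMap φ (E1Deg.emb i) ≫ E1Deg.sigmaGEι K i =
      E1Deg.sigmaGEι K i ≫ φ := by
  ext m
  by_cases hm : ∃ n : ℕ, (E1Deg.emb i).f n = m
  · obtain ⟨n, hn⟩ := hm
    rw [HomologicalComplex.comp_f, HomologicalComplex.comp_f, E1Deg.sigmaGEι_f_eq K i hn,
      HomologicalComplex.stupidTruncMap_stupidTruncXIso_hom]
  · exact (K.isZero_stupidTrunc_X (E1Deg.emb i) m (by simpa using hm)).eq_of_src _ _

lemma commutes_π (φ : K ⟶ K) :
    HomologicalComplex.stupidTruncMap φ (E1Deg.emb i) ≫ E1Deg.sigmaGEπ K i =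
      E1Deg.sigmaGEπ K i ≫
        (HomologicalComplex.single 𝒜 (ComplexShape.up ℤ) i).map (φ.f i) := by
  apply HomologicalComplex.to_single_hom_ext
  rw [HomologicalComplex.comp_f, HomologicalComplex.comp_f, E1Deg.sigmaGEπ_f,
    HomologicalComplex.single_map_f_self, ← Category.assoc,
    HomologicalComplex.stupidTruncMap_stupidTruncXIso_hom]
  simp

end complexes

section HT

variable {𝒜 : Type u} [Category.{v} 𝒜] [Abelian 𝒜] [HasDerivedCategory.{w} 𝒜]
  {R : Type u'} [Ring R] (T : 𝒜) (K : CochainComplex 𝒜 ℤ) (ρ : R →+* End K) (i : ℤ)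

/-- the induced action on `σ_{≥ i} K` -/
noncomputable def ρσ : R →+* End (E1Deg.sigmaGE K i) := (truncEnd K i).comp ρ

/-- the induced action on the graded piece -/
noncomputable def ρgr :
    R →+* End ((HomologicalComplex.single 𝒜 (ComplexShape.up ℤ) i).obj (K.X i)) :=
  (grEnd K i).comp ρ

lemma commutes_ρ_ι : KLinDR.Commutes (ρσ K ρ i) ρ (E1Deg.sigmaGEι K i) := fun a =>
  commutes_ι K i (ρ a)

lemma commutes_ρ_π : KLinDR.Commutes (ρσ K ρ i) (ρgr K ρ i) (E1Deg.sigmaGEπ K i) := fun a =>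
  commutes_π K i (ρ a)

/-- a bijective induced map is a linear equivalence -/
noncomputable def linEquivOfBijective {K L : CochainComplex 𝒜 ℤ} {ρ : R →+* End K}
    {ρ' : R →+* End L} (φ : K ⟶ L) (h : KLinDR.Commutes ρ ρ' φ) (n : ℤ)
    (hb : Function.Bijective (E1Deg.HTmap T φ n)) :
    KLinDR.HTρ T K ρ n ≃ₗ[R] KLinDR.HTρ T L ρ' n :=
  LinearEquiv.ofBijective (KLinDR.HTρmap T φ h n) hb

end HT

end Groth.Agent.Lib.helper20.DRLin1
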