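import Groth.Agent.Lib.Helper20.DRLin1
import Groth.Prelude.Def_E1Deg2

set_option autoImplicit false

/-!
# Naturality of the identification of the graded-piece groups with Ext groups
-/

namespace Groth.Agent.Lib.helper20.DRLin2

open CategoryTheory Limits

universe w' w v u

variable {𝒜 : Type u} [Category.{v} 𝒜] [Abelian 𝒜] [HasDerivedCategory.{w} 𝒜] [HasExt.{w'} 𝒜]

lemma targetIso_naturality {Y Y' : 𝒜} (t : Y ⟶ Y') (i a : ℤ) (m : ℕ) (h : i + m = a) :
    (shiftFunctor (DerivedCategory 𝒜) a).map (DerivedCategory.Q.map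
        ((HomologicalComplex.single 𝒜 (ComplexShape.up ℤ) i).map t)) ≫
      (E1Deg.targetIso Y' i a m h).hom =
    (E1Deg.targetIso Y i a m h).hom ≫
      (shiftFunctor (DerivedCategory 𝒜) (m : ℤ)).map ((DerivedCategory.singleFunctor 𝒜 0).map t) := by
  have n1 : DerivedCategory.Q.map ((HomologicalComplex.single 𝒜 (ComplexShape.up ℤ) i).map t) ≫
      (DerivedCategory.singleFunctorIsoCompQ 𝒜 i).inv.app Y' =
      (DerivedCategory.singleFunctorIsoCompQ 𝒜 i).inv.app Y ≫
        (DerivedCategory.singleFunctor 𝒜 i).map t :=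
    (DerivedCategory.singleFunctorIsoCompQ 𝒜 i).inv.naturality t
  have n2 : (DerivedCategory.singleFunctor 𝒜 i).map t ≫
      ((DerivedCategory.singleFunctors 𝒜).shiftIso (-i) i 0 (by omega)).inv.app Y' =
      ((DerivedCategory.singleFunctors 𝒜).shiftIso (-i) i 0 (by omega)).inv.app Y ≫
        (shiftFunctor (DerivedCategory 𝒜) (-i)).map ((DerivedCategory.singleFunctor 𝒜 0).map t) :=
    ((DerivedCategory.singleFunctors 𝒜).shiftIso (-i) i 0 (by omega)).inv.naturality t
  have n3 : (shiftFunctor (DerivedCategory 𝒜) a).map ((shiftFunctor (DerivedCategory 𝒜) (-i)).map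
        ((DerivedCategory.singleFunctor 𝒜 0).map t)) ≫
      (shiftFunctorAdd' (DerivedCategory 𝒜) (-i) a (m : ℤ) (by omega)).inv.app _ =
      (shiftFunctorAdd' (DerivedCategory 𝒜) (-i) a (m : ℤ) (by omega)).inv.app _ ≫
        (shiftFunctor (DerivedCategory 𝒜) (m : ℤ)).map ((DerivedCategory.singleFunctor 𝒜 0).map t) :=
    (shiftFunctorAdd' (DerivedCategory 𝒜) (-i) a (m : ℤ) (by omega)).inv.naturality
      ((DerivedCategory.singleFunctor 𝒜 0).map t)
  have hA : DerivedCategory.Q.map ((HomologicalComplex.single 𝒜 (ComplexShape.up ℤ) i).map t) ≫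
      ((DerivedCategory.singleFunctorIsoCompQ 𝒜 i).inv.app Y' ≫
        ((DerivedCategory.singleFunctors 𝒜).shiftIso (-i) i 0 (by omega)).inv.app Y') =
      ((DerivedCategory.singleFunctorIsoCompQ 𝒜 i).inv.app Y ≫
        ((DerivedCategory.singleFunctors 𝒜).shiftIso (-i) i 0 (by omega)).inv.app Y) ≫
        (shiftFunctor (DerivedCategory 𝒜) (-i)).map ((DerivedCategory.singleFunctor 𝒜 0).map t) :=
    ((Category.assoc _ _ _).symm.trans (congrArg (· ≫ _) n1)).trans
      ((Category.assoc _ _ _).trans ((congrArg (_ ≫ ·) n2).trans (Category.assoc _ _ _).symm))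
  dsimp only [E1Deg.targetIso, Iso.trans_hom, Functor.mapIso_hom, Iso.symm_hom, Iso.app_inv]
  refine ((Category.assoc _ _ _).symm.trans
    (congrArg (· ≫ _) ((Functor.map_comp _ _ _).symm.trans
      ((congrArg (shiftFunctor (DerivedCategory 𝒜) a).map hA).trans (Functor.map_comp _ _ _))))).trans
    ((Category.assoc _ _ _).trans ((congrArg (_ ≫ ·) n3).trans (Category.assoc _ _ _).symm))

lemma HTsingleEquiv_hom (T Z : 𝒜) (i a : ℤ) (m : ℕ) (h : i + m = a)
    (z : E1Deg.HT T ((HomologicalComplex.single 𝒜 (ComplexShape.up ℤ) i).obj Z) a) :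
    (E1Deg.HTsingleEquiv.{w'} T Z i a m h z).hom = z ≫ (E1Deg.targetIso Z i a m h).hom :=
  Abelian.Ext.homAddEquiv.apply_symm_apply _

lemma HTsingleEquiv_naturality (T : 𝒜) {Y Y' : 𝒜} (t : Y ⟶ Y') (i a : ℤ) (m : ℕ) (h : i + m = a)
    (x : E1Deg.HT T ((HomologicalComplex.single 𝒜 (ComplexShape.up ℤ) i).obj Y) a) :
    E1Deg.HTsingleEquiv.{w'} T Y' i a m h
        (x ≫ (shiftFunctor (DerivedCategory 𝒜) a).map (DerivedCategory.Q.map
          ((HomologicalComplex.single 𝒜 (ComplexShape.up ℤ) i).map t))) =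
      (E1Deg.HTsingleEquiv.{w'} T Y i a m h x).comp (Abelian.Ext.mk₀ t) (add_zero m) := by
  apply Abelian.Ext.ext
  rw [Abelian.Ext.comp_hom, Abelian.Ext.mk₀_hom, ShiftedHom.comp_mk₀, HTsingleEquiv_hom,
    HTsingleEquiv_hom, Category.assoc, Category.assoc, targetIso_naturality]

/-- the composite identification is natural for endomorphisms transported along `e` -/
lemma bridge_naturality (T T' : 𝒜) {Y Y' : 𝒜} (e : Y ≅ Y') (e' : T ≅ T') (s : Y' ⟶ Y')
    (i a : ℤ) (m : ℕ) (h : i + m = a)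
    (x : E1Deg.HT T ((HomologicalComplex.single 𝒜 (ComplexShape.up ℤ) i).obj Y) a) :
    E1Deg.extCongrLeft e' Y' m (E1Deg.extCongrRight T e m (E1Deg.HTsingleEquiv.{w'} T Y i a m h
        (x ≫ (shiftFunctor (DerivedCategory 𝒜) a).map (DerivedCategory.Q.map
          ((HomologicalComplex.single 𝒜 (ComplexShape.up ℤ) i).map (e.hom ≫ s ≫ e.inv)))))) =
      (E1Deg.extCongrLeft e' Y' m (E1Deg.extCongrRight T e m
        (E1Deg.HTsingleEquiv.{w'} T Y i a m h x))).comp (Abelian.Ext.mk₀ s) (add_zero m) := by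
  rw [HTsingleEquiv_naturality]
  change (Abelian.Ext.mk₀ e'.inv).comp
      (((E1Deg.HTsingleEquiv.{w'} T Y i a m h x).comp (Abelian.Ext.mk₀ (e.hom ≫ s ≫ e.inv))
        (add_zero m)).comp (Abelian.Ext.mk₀ e.hom) (add_zero m)) (zero_add m) =
    ((Abelian.Ext.mk₀ e'.inv).comp ((E1Deg.HTsingleEquiv.{w'} T Y i a m h x).comp
      (Abelian.Ext.mk₀ e.hom) (add_zero m)) (zero_add m)).comp (Abelian.Ext.mk₀ s) (add_zero m)
  rw [Abelian.Ext.comp_assoc_of_third_deg_zero, Abelian.Ext.comp_assoc_of_third_deg_zero,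
    Abelian.Ext.comp_assoc_of_third_deg_zero, Abelian.Ext.mk₀_comp_mk₀, Abelian.Ext.mk₀_comp_mk₀]
  congr 3
  simp

end Groth.Agent.Lib.helper20.DRLin2
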