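import Groth.Agent.Lib.Helper20.DRLin3
import Groth.Agent.Lib.Helper20.DRFilt4

set_option autoImplicit false

/-!
# de Rham cohomology of projective space over a ring, as a module
-/

namespace Groth.Agent.Lib.helper20.DRLin4

open CategoryTheory Limits AlgebraicGeometry TopologicalSpace Groth.Agent.Lib.helper20.DRFilt1
  Groth.Agent.Lib.helper20.DRFilt2 Groth.Agent.Lib.helper20.DRFilt3
  Groth.Agent.Lib.helper20.DRFilt4
  Groth.Agent.Lib.helper20.DRLin1 Groth.Agent.Lib.helper20.DRLin2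
  Groth.Agent.Lib.helper20.DRLin3

universe u

variable (A : Type u) [CommRing A] (n : ℕ) [QuasiSeparated (CohB1.ProjSpace.toSpec n A)]
  (D : DeRhamSh.OmegaCx (CohB1.ProjSpace.toSpec n A))
  (h : KLinDR.TermwiseLinear (Coh.toGlobal (CohB1.ProjSpace.toSpec n A)) D.K D.term D.iso)
  [HasDerivedCategory.{u}
    (Sheaf (Opens.grothendieckTopology ↥(CohB1.ProjSpace n A)) AddCommGrpCat.{u})]

/-- linear form -/
theorem nonempty_HdR_linearEquiv (hn : 1 ≤ n) (i : ℕ) (hi : i ≤ n) :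
    Nonempty (KLinDR.HdR (Coh.toGlobal (CohB1.ProjSpace.toSpec n A)) D h (2 * (i : ℤ)) ≃ₗ[A] A) := by
  obtain ⟨h1, h2⟩ := bijective_pair_HdR A n D hn i hi
  obtain ⟨e⟩ := nonempty_HH_diag A n D hn i hi
  let T := CohCx.freeSheaf (Opens.grothendieckTopology ↥(CohB1.ProjSpace n A)) ⊤
  let E1 := linEquivOfBijective T (E1Deg.sigmaGEι D.KZ (i : ℤ))
    (commutes_ρ_ι D.KZ (KLinDR.scalar h) (i : ℤ)) (2 * (i : ℤ)) h1
  let E2 := linEquivOfBijective T (E1Deg.sigmaGEπ D.KZ (i : ℤ))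
    (commutes_ρ_π D.KZ (KLinDR.scalar h) (i : ℤ)) (2 * (i : ℤ)) h2
  let E3 := gradedLinEquivHH (A := A) D h i i (2 * (i : ℤ)) (by ring)
  exact ⟨E1.symm ≪≫ₗ E2 ≪≫ₗ E3 ≪≫ₗ e⟩

end Groth.Agent.Lib.helper20.DRLin4
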