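import Mathlib
import Groth.Prelude.Def_DecSh

/-!
# Combinatorics of the weight `μ` of a weighted filtration (helper20)

For a weighted filtration all of whose pieces have multiplicity between `1` and `αE`:
* `abs_term_le`, `abs_gam_le`, `abs_mu_le`: `|μ| ≤ (Σ m_i) · a · (αE − 1)`;
* `mu_le_mu_sub`: dropping steps of total weight `w` raises `μ` by at most `w · a · (αE − 1)`.
-/

set_option autoImplicit false
universe v u

open CategoryTheory CategoryTheory.Limits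

namespace Groth.Agent.Lib.Helper20.DecShComb

variable {C : Type u} [Category.{v} C] {E : C}

open DecSh

section Bound

variable (𝓕 : WFilt E) (αE : ℤ) (α : Subobject E → ℤ) {a : ℕ}

theorem mulX_le (hαE : ∀ i, α (𝓕.piece i) ≤ αE) (j : Fin (𝓕.t + 1)) : 𝓕.mulX αE α j ≤ αE := by
  induction j using Fin.lastCases with
  | last => rw [WFilt.mulX_last]
  | cast i => rw [WFilt.mulX_castSucc]; exact hαE i

theorem nu_le (I : Fin a → Fin (𝓕.t + 1)) (i : Fin 𝓕.t) : 𝓕.nu αE α I i ≤ a := by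
  unfold WFilt.nu
  exact (Finset.card_filter_le _ _).trans (by simp)

theorem nu_eq_of_eq (hαE : ∀ i, α (𝓕.piece i) ≤ αE) (I : Fin a → Fin (𝓕.t + 1)) (i : Fin 𝓕.t)
    (hi : α (𝓕.piece i) = αE) : 𝓕.nu αE α I i = a := by
  unfold WFilt.nu
  rw [Finset.filter_true_of_mem (fun j _ => by rw [hi]; exact mulX_le 𝓕 αE α hαE (I j))]
  simp

theorem abs_term_le (hα1 : ∀ i, 1 ≤ α (𝓕.piece i)) (hαE : ∀ i, α (𝓕.piece i) ≤ αE)
    (I : Fin a → Fin (𝓕.t + 1)) (i : Fin 𝓕.t) :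
    |(a : ℚ) * (α (𝓕.piece i) : ℚ) - (𝓕.nu αE α I i : ℚ) * (αE : ℚ)| ≤
      (a : ℚ) * ((αE : ℚ) - 1) := by
  have h1 : (1 : ℚ) ≤ (α (𝓕.piece i) : ℚ) := by exact_mod_cast hα1 i
  have h2 : (α (𝓕.piece i) : ℚ) ≤ (αE : ℚ) := by exact_mod_cast hαE i
  have h3 : ((𝓕.nu αE α I i : ℕ) : ℚ) ≤ (a : ℚ) := by exact_mod_cast nu_le 𝓕 αE α I i
  have h4 : (0 : ℚ) ≤ ((𝓕.nu αE α I i : ℕ) : ℚ) := by positivity
  have h5 : (0 : ℚ) ≤ (a : ℚ) := by positivity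
  rw [abs_le]
  constructor
  · nlinarith [mul_nonneg h5 (sub_nonneg.2 h1),
      mul_nonneg (sub_nonneg.2 h3) (le_trans zero_le_one (le_trans h1 h2))]
  · rcases (hαE i).lt_or_eq with hlt | heq
    · have h6 : (α (𝓕.piece i) : ℚ) ≤ (αE : ℚ) - 1 := by
        have : α (𝓕.piece i) ≤ αE - 1 := by omega
        exact_mod_cast this
      nlinarith [mul_nonneg h5 (sub_nonneg.2 h6),
        mul_nonneg h4 (le_trans zero_le_one (le_trans h1 h2))]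
    · rw [nu_eq_of_eq 𝓕 αE α hαE I i heq, heq]
      nlinarith [mul_nonneg h5 (sub_nonneg.2 (heq ▸ h1))]

theorem abs_gam_le (hα1 : ∀ i, 1 ≤ α (𝓕.piece i)) (hαE : ∀ i, α (𝓕.piece i) ≤ αE)
    (I : Fin a → Fin (𝓕.t + 1)) :
    |𝓕.gam αE α I| ≤ (∑ i, 𝓕.wt i) * (a : ℚ) * ((αE : ℚ) - 1) := by
  unfold WFilt.gam
  refine (Finset.abs_sum_le_sum_abs _ _).trans ?_
  rw [Finset.sum_mul, Finset.sum_mul]
  refine Finset.sum_le_sum fun i _ => ?_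
  rw [abs_mul, abs_of_pos (𝓕.wt_pos i), mul_assoc]
  exact mul_le_mul_of_nonneg_left (abs_term_le 𝓕 αE α hα1 hαE I i) (𝓕.wt_pos i).le

theorem abs_mu_le (N : NV E a) (hα1 : ∀ i, 1 ≤ α (𝓕.piece i))
    (hαE : ∀ i, α (𝓕.piece i) ≤ αE) :
    |𝓕.mu αE α N| ≤ (∑ i, 𝓕.wt i) * (a : ℚ) * ((αE : ℚ) - 1) := by
  obtain ⟨I, -, hI⟩ := 𝓕.exists_gam_eq_mu αE α N
  rw [← hI]
  exact abs_gam_le 𝓕 αE α hα1 hαE I

end Bound

section Sub

variable (𝓕 𝓕₁ : WFilt E) (e : Fin 𝓕₁.t → Fin 𝓕.t)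
  (hpiece : ∀ j, 𝓕₁.piece j = 𝓕.piece (e j)) (hwt : ∀ j, 𝓕₁.wt j = 𝓕.wt (e j))
  (αE : ℤ) (α : Subobject E → ℤ) {a : ℕ}

/-- the extension of `e` to the extended index sets -/
def ex : Fin (𝓕₁.t + 1) → Fin (𝓕.t + 1) :=
  Fin.lastCases (Fin.last 𝓕.t) (fun j => (e j).castSucc)

theorem ex_last : ex 𝓕 𝓕₁ e (Fin.last 𝓕₁.t) = Fin.last 𝓕.t := Fin.lastCases_last

theorem ex_castSucc (j : Fin 𝓕₁.t) : ex 𝓕 𝓕₁ e j.castSucc = (e j).castSucc :=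
  Fin.lastCases_castSucc j

include hpiece in
theorem pieceX_ex (j : Fin (𝓕₁.t + 1)) : 𝓕.pieceX (ex 𝓕 𝓕₁ e j) = 𝓕₁.pieceX j := by
  induction j using Fin.lastCases with
  | last => rw [ex_last, WFilt.pieceX_last, WFilt.pieceX_last]
  | cast i => rw [ex_castSucc, WFilt.pieceX_castSucc, WFilt.pieceX_castSucc, hpiece]

include hpiece in
theorem mulX_ex (j : Fin (𝓕₁.t + 1)) :
    𝓕.mulX αE α (ex 𝓕 𝓕₁ e j) = 𝓕₁.mulX αE α j := by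
  induction j using Fin.lastCases with
  | last => rw [ex_last, WFilt.mulX_last, WFilt.mulX_last]
  | cast i => rw [ex_castSucc, WFilt.mulX_castSucc, WFilt.mulX_castSucc, hpiece]

include hpiece in
theorem e_injective : Function.Injective e := by
  intro j j' h
  apply 𝓕₁.piece_strictMono.injective
  rw [hpiece, hpiece, h]

include hpiece in
theorem nu_ex (I₁ : Fin a → Fin (𝓕₁.t + 1)) (j : Fin 𝓕₁.t) :
    𝓕.nu αE α (fun l => ex 𝓕 𝓕₁ e (I₁ l)) (e j) = 𝓕₁.nu αE α I₁ j := by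
  unfold WFilt.nu
  congr 1
  ext l
  simp only [Finset.mem_filter, Finset.mem_univ, true_and]
  rw [mulX_ex 𝓕 𝓕₁ e hpiece αE α, hpiece]

include hpiece hwt in
theorem mu_le_mu_sub (N : NV E a) (hα1 : ∀ i, 1 ≤ α (𝓕.piece i))
    (hαE : ∀ i, α (𝓕.piece i) ≤ αE) :
    𝓕.mu αE α N ≤ 𝓕₁.mu αE α N +
      ((∑ i, 𝓕.wt i) - ∑ j, 𝓕₁.wt j) * (a : ℚ) * ((αE : ℚ) - 1) := by
  classical
  obtain ⟨I₁, hadm, hgam⟩ := 𝓕₁.exists_gam_eq_mu αE α N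
  set I : Fin a → Fin (𝓕.t + 1) := fun l => ex 𝓕 𝓕₁ e (I₁ l) with hI
  have hadmI : 𝓕.Adm N I := by
    unfold WFilt.Adm
    have : (fun j => 𝓕.pieceX (I j)) = fun j => 𝓕₁.pieceX (I₁ j) :=
      funext fun j => pieceX_ex 𝓕 𝓕₁ e hpiece (I₁ j)
    rw [this]
    exact hadm
  refine (𝓕.mu_le_gam αE α N hadmI).trans ?_
  rw [← hgam]
  unfold WFilt.gam
  set f : Fin 𝓕.t → ℚ := fun i =>
    𝓕.wt i * ((a : ℚ) * (α (𝓕.piece i) : ℚ) - (𝓕.nu αE α I i : ℚ) * (αE : ℚ)) with hf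
  set s : Finset (Fin 𝓕.t) := Finset.univ.image e with hs
  have hinj := e_injective 𝓕 𝓕₁ e hpiece
  have h1 : ∑ i ∈ s, f i = ∑ j, 𝓕₁.wt j *
      ((a : ℚ) * (α (𝓕₁.piece j) : ℚ) - (𝓕₁.nu αE α I₁ j : ℚ) * (αE : ℚ)) := by
    rw [hs, Finset.sum_image (fun x _ y _ h => hinj h)]
    refine Finset.sum_congr rfl fun j _ => ?_
    rw [hf]
    simp only
    rw [hI, nu_ex 𝓕 𝓕₁ e hpiece αE α I₁ j, ← hwt, ← hpiece]
  have h2 : ∑ i ∈ sᶜ, f i ≤ ∑ i ∈ sᶜ, 𝓕.wt i * ((a : ℚ) * ((αE : ℚ) - 1)) := by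
    refine Finset.sum_le_sum fun i _ => ?_
    rw [hf]
    simp only
    exact mul_le_mul_of_nonneg_left
      ((le_abs_self _).trans (abs_term_le 𝓕 αE α hα1 hαE I i)) (𝓕.wt_pos i).le
  have h3 : ∑ i ∈ sᶜ, 𝓕.wt i = (∑ i, 𝓕.wt i) - ∑ j, 𝓕₁.wt j := by
    have h4 : ∑ i ∈ s, 𝓕.wt i = ∑ j, 𝓕₁.wt j := by
      rw [hs, Finset.sum_image (fun x _ y _ h => hinj h)]
      exact Finset.sum_congr rfl fun j _ => (hwt j).symm
    have h5 := Finset.sum_add_sum_compl s 𝓕.wt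
    linarith
  have h6 := Finset.sum_add_sum_compl s f
  rw [← h6, h1]
  rw [← Finset.sum_mul, h3] at h2
  have : ((∑ i, 𝓕.wt i) - ∑ j, 𝓕₁.wt j) * ((a : ℚ) * ((αE : ℚ) - 1)) =
      ((∑ i, 𝓕.wt i) - ∑ j, 𝓕₁.wt j) * (a : ℚ) * ((αE : ℚ) - 1) := by ring
  rw [this] at h2
  linarith

end Sub

end Groth.Agent.Lib.Helper20.DecShComb
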