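import Mathlib
import Groth.Prelude.Def_DecSh2
import Groth.Agent.Lib.Lead.HilbPos7
import Groth.Agent.Lib.Helper8.DimLt

/-!
# Multiplicities of coherent sheaves on a curve and weighted filtrations (helper20)

* `mult_eq_coeff_one`: `α(F) = χ(F ⊗ L) − χ(F)` is the coefficient of degree one of the Hilbert
  polynomial when `dim Supp F ≤ 1`; `mult_nonneg`, `mult_eq_of_iso`, `mult_add`.
* `single_ineq`: the δ-semistability inequality on a one-step filtration.
-/

set_option autoImplicit false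
universe v u

open CategoryTheory CategoryTheory.Limits AlgebraicGeometry Polynomial

namespace Groth.Agent.Lib.Helper20.DecShMult

open Groth.Agent.Lib.Lead.HilbPos Groth.Agent.Lib.Lead.ModTensor

section Comb

variable {C : Type u} [Category.{v} C] {E : C}

/-- the δ-semistability inequality on the one-step filtration `0 ⊂ P ⊂ E` -/
theorem single_ineq (αE : ℤ) (α : Subobject E → ℤ) (dE : ℚ) (d : Subobject E → ℚ) {a : ℕ}
    (N : DecSh.NV E a) (δ : ℚ) (hδ : 0 ≤ δ) (hαE : 0 ≤ αE) (P : Subobject E) (hP : P ≠ ⊤)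
    (hP0 : ¬ IsZero (P : C))
    (h : (DecSh.WFilt.single P hP hP0).msum αE α dE d +
      δ * (DecSh.WFilt.single P hP hP0).mu αE α N ≤ 0) :
    (αE : ℚ) * d P - (α P : ℚ) * dE ≤ δ * (a : ℚ) * ((αE : ℚ) - (α P : ℚ)) := by
  obtain ⟨I, -, hmu⟩ := (DecSh.WFilt.single P hP hP0).exists_gam_eq_mu αE α N
  have h1 : (DecSh.WFilt.single P hP hP0).msum αE α dE d =
      (αE : ℚ) * d P - (α P : ℚ) * dE := by
    unfold DecSh.WFilt.msum
    change ∑ i : Fin 1, (1 : ℚ) * ((αE : ℚ) * d P - (α P : ℚ) * dE) = _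
    simp
  have h2 : (DecSh.WFilt.single P hP hP0).gam αE α I =
      (a : ℚ) * (α P : ℚ) -
        (((DecSh.WFilt.single P hP hP0).nu αE α I (0 : Fin 1) : ℕ) : ℚ) * (αE : ℚ) := by
    unfold DecSh.WFilt.gam
    change ∑ i : Fin 1, (1 : ℚ) * ((a : ℚ) * (α P : ℚ) -
      (((DecSh.WFilt.single P hP hP0).nu αE α I i : ℕ) : ℚ) * (αE : ℚ)) = _
    simp
  have h3 : (DecSh.WFilt.single P hP hP0).nu αE α I (0 : Fin 1) ≤ a := by
    unfold DecSh.WFilt.nu
    exact (Finset.card_filter_le _ _).trans (by simp)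
  have h3' : (((DecSh.WFilt.single P hP hP0).nu αE α I (0 : Fin 1) : ℕ) : ℚ) ≤ (a : ℚ) := by
    exact_mod_cast h3
  have hαE' : (0 : ℚ) ≤ (αE : ℚ) := by exact_mod_cast hαE
  rw [h1, ← hmu, h2] at h
  have h4 : (((DecSh.WFilt.single P hP hP0).nu αE α I (0 : Fin 1) : ℕ) : ℚ) * (αE : ℚ) ≤
      (a : ℚ) * (αE : ℚ) := mul_le_mul_of_nonneg_right h3' hαE'
  nlinarith

end Comb

section Sch

variable (k : Type u) [Field k] (X : Scheme.{u}) [X.Over (Spec (CommRingCat.of k))]

theorem mult_eq_of_iso (L : X.Modules) {F G : X.Modules} (e : F ≅ G) :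
    DecSh.mult k X L F = DecSh.mult k X L G := by
  unfold DecSh.mult
  rw [Groth.Agent.Lib.Lead.CurveEuler.euler_eq_of_iso k X e,
    Groth.Agent.Lib.Lead.CurveEuler.euler_eq_of_iso k X (tensorIso e (Iso.refl L))]

variable [IsProper (X ↘ Spec (CommRingCat.of k))]

/-- the multiplicity is the coefficient of degree one of the Hilbert polynomial -/
theorem mult_eq_coeff_one {L F : X.Modules} (hL : PicF.IsInvertible L) (hF : Coh.IsCoh F)
    (hd : topologicalKrullDim ↥(CohB1.support F) ≤ ((1 : ℕ) : WithBot ℕ∞)) {P : ℚ[X]}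
    (hP : ShStab.IsHilbPoly k X L F P) : (DecSh.mult k X L F : ℚ) = P.coeff 1 := by
  have hdeg : P.natDegree ≤ 1 := natDegree_le k X hL hF 1 hd hP
  have h1 := hP 1
  have h0 := hP 0
  have e1 : Curv2.euler k X (ShStab.twist X L F 1) = Curv2.euler k X (CohB1.tensorMod F L) :=
    Groth.Agent.Lib.Lead.CurveEuler.euler_eq_of_iso k X (tensorIso (Iso.refl F) (tensorPowOne L))
  have e0 : Curv2.euler k X (ShStab.twist X L F 0) = Curv2.euler k X F :=
    Groth.Agent.Lib.Lead.CurveEuler.euler_eq_of_iso k X (rightUnitor F)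
  rw [e1] at h1
  rw [e0] at h0
  have hev1 : P.eval ((1 : ℕ) : ℚ) = P.coeff 0 + P.coeff 1 := by
    rw [eval_eq_sum_range' (show P.natDegree < 2 by omega)]
    simp [Finset.sum_range_succ]
  have hev0 : P.eval ((0 : ℕ) : ℚ) = P.coeff 0 := by
    rw [eval_eq_sum_range' (show P.natDegree < 2 by omega)]
    simp [Finset.sum_range_succ]
  unfold DecSh.mult
  push_cast
  rw [h1, h0, hev1, hev0]
  ring

/-- the support of any module has dimension at most that of `X` -/
theorem dim_support_le (d : ℕ) (hd : topologicalKrullDim X ≤ ((d : ℕ) : WithBot ℕ∞))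
    (F : X.Modules) : topologicalKrullDim ↥(CohB1.support F) ≤ ((d : ℕ) : WithBot ℕ∞) := by
  have h1 := Groth.Agent.Lib.helper8.DimLt.topologicalKrullDim_le_of_subset
    (Set.subset_univ (CohB1.support F))
  have h2 : topologicalKrullDim ↥(Set.univ : Set X) = topologicalKrullDim X :=
    (Homeomorph.Set.univ X).isHomeomorph.topologicalKrullDim_eq
  rw [h2] at h1
  exact h1.trans hd

theorem mult_nonneg {L F : X.Modules} (hL : CohB1.IsAmple L) (hF : Coh.IsCoh F)
    (hdim : topologicalKrullDim X ≤ ((1 : ℕ) : WithBot ℕ∞)) : 0 ≤ DecSh.mult k X L F := by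
  have hd := dim_support_le X 1 hdim F
  obtain ⟨P, hP, -⟩ := exists_isHilbPoly k X hL.1 hF 1 hd
  have h1 := mult_eq_coeff_one k X hL.1 hF hd hP
  have h2 := coeff_nonneg k X hL hF 1 hd hP
  have : (0 : ℚ) ≤ (DecSh.mult k X L F : ℚ) := by rw [h1]; exact h2
  exact_mod_cast this

end Sch

end Groth.Agent.Lib.Helper20.DecShMult
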