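import Mathlib
import Groth.Agent.Lib.Helper20.DetStab
import Groth.Agent.Lib.Helper11.QuasiRegCot

/-!
# The top differentials of a smooth complete intersection are free (helper20)

`P` a formally smooth `A`-algebra with `Ω[P⁄A]` free of rank `n`, `I` an ideal generated by a
quasi-regular family `F` of length `r ≤ n` with `P ⧸ I` formally smooth over `A`.  Then
`⋀^(n-r) Ω[(P ⧸ I)⁄A] ≃ P ⧸ I` (`nonempty_top_kaehler_equiv`), `I/I²` is free of rank `r`
(`cotangentBasis`) and `⋀^r (I/I²) ≃ P ⧸ I`.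
-/

set_option autoImplicit false
universe u
open TensorProduct

namespace Groth.Agent.Lib.Helper20.DetKaehler

open Groth.Agent.Lib.Helper20.DetStab Groth.Agent.Lib.Helper20.ExtFilt
  Groth.Agent.Lib.helper11.QuasiReg

variable {A P : Type u} [CommRing A] [CommRing P] [Algebra A P]

/-- the basis of the cotangent module of an ideal generated by a quasi-regular family -/
noncomputable def cotangentBasis (I : Ideal P) {r : ℕ} (F : Fin r → P) (hq : QR F)
    (hspan : Ideal.span (Set.range F) = I) : Module.Basis (Fin r) (P ⧸ I) I.Cotangent :=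
  have hFI : ∀ i, F i ∈ I := fun i => hspan ▸ Ideal.subset_span ⟨i, rfl⟩
  Module.Basis.mk (v := fun i => I.toCotangent ⟨F i, hFI i⟩)
    (cot_li_of_QR I (fun i => ⟨F i, hFI i⟩) hq hspan)
    (cot_span_of_span I (fun i => ⟨F i, hFI i⟩) hspan).ge

theorem nonempty_top_cotangent_equiv (I : Ideal P) {r : ℕ} (F : Fin r → P) (hq : QR F)
    (hspan : Ideal.span (Set.range F) = I) :
    Nonempty (⋀[P ⧸ I]^r I.Cotangent ≃ₗ[P ⧸ I] (P ⧸ I)) := by
  let b := cotangentBasis I F hq hspan
  haveI : Module.Free (P ⧸ I) I.Cotangent := Module.Free.of_basis b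
  haveI : Module.Finite (P ⧸ I) I.Cotangent := Module.Finite.of_basis b
  rcases subsingleton_or_nontrivial (P ⧸ I) with hB | hB
  · haveI : Subsingleton (⋀[P ⧸ I]^r I.Cotangent) := Module.subsingleton (P ⧸ I) _
    exact ⟨LinearEquiv.ofSubsingleton _ _⟩
  · refine nonempty_extPow_top_equiv (B := P ⧸ I) I.Cotangent r ?_
    rw [Module.finrank_eq_card_basis b, Fintype.card_fin]

variable [Algebra.FormallySmooth A P]

theorem nonempty_top_kaehler_equiv (n r : ℕ) (hrn : r ≤ n)
    (bΩ : Module.Basis (Fin n) P (Ω[P⁄A])) (I : Ideal P) [Algebra.FormallySmooth A (P ⧸ I)]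
    (F : Fin r → P) (hq : QR F) (hspan : Ideal.span (Set.range F) = I) :
    Nonempty (⋀[P ⧸ I]^(n - r) (Ω[(P ⧸ I)⁄A]) ≃ₗ[P ⧸ I] (P ⧸ I)) := by
  classical
  rcases subsingleton_or_nontrivial (P ⧸ I) with hB | hB
  · haveI : Subsingleton (⋀[P ⧸ I]^(n - r) (Ω[(P ⧸ I)⁄A])) := Module.subsingleton (P ⧸ I) _
    exact ⟨LinearEquiv.ofSubsingleton _ _⟩
  have hf : Function.Surjective (algebraMap P (P ⧸ I)) := Ideal.Quotient.mk_surjective
  let b : (P ⧸ I) ⊗[P] Ω[P⁄A] →ₗ[P ⧸ I] Ω[(P ⧸ I)⁄A] :=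
    KaehlerDifferential.mapBaseChange A P (P ⧸ I)
  have hb : Function.Surjective b := KaehlerDifferential.mapBaseChange_surjective A P (P ⧸ I) hf
  let bM := bΩ.baseChange (P ⧸ I)
  haveI : Module.Free (P ⧸ I) ((P ⧸ I) ⊗[P] Ω[P⁄A]) := Module.Free.of_basis bM
  haveI : Module.Finite (P ⧸ I) ((P ⧸ I) ⊗[P] Ω[P⁄A]) := Module.Finite.of_basis bM
  have hnM : Module.finrank (P ⧸ I) ((P ⧸ I) ⊗[P] Ω[P⁄A]) = n := by
    rw [Module.finrank_eq_card_basis bM, Fintype.card_fin]
  haveI : Module.Finite (P ⧸ I) (Ω[(P ⧸ I)⁄A]) := Module.Finite.of_surjective b hb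
  obtain ⟨s, hs⟩ := Module.projective_lifting_property b LinearMap.id hb
  -- the kernel ideal
  have hJ : RingHom.ker (algebraMap P (P ⧸ I)) = I := by
    rw [Ideal.Quotient.algebraMap_eq]; exact Ideal.mk_ker
  have hFJ : ∀ i, F i ∈ RingHom.ker (algebraMap P (P ⧸ I)) := fun i => by
    rw [hJ, ← hspan]; exact Ideal.subset_span ⟨i, rfl⟩
  let f : Fin r → RingHom.ker (algebraMap P (P ⧸ I)) := fun i => ⟨F i, hFJ i⟩
  have hspanJ : Ideal.span (Set.range fun i => (f i : P)) = RingHom.ker (algebraMap P (P ⧸ I)) :=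
    hspan.trans hJ.symm
  let κ := KaehlerDifferential.kerCotangentToTensor A P (P ⧸ I)
  let v : Fin r → (P ⧸ I) ⊗[P] Ω[P⁄A] := fun i =>
    κ ((RingHom.ker (algebraMap P (P ⧸ I))).toCotangent (f i))
  have hκinj : Function.Injective κ :=
    (Algebra.FormallySmooth.kerCotangentToTensor_injective_iff hf).mpr inferInstance
  have hex : Function.Exact κ b :=
    KaehlerDifferential.exact_kerCotangentToTensor_mapBaseChange A P (P ⧸ I) hf
  let a : (Fin r → P ⧸ I) →ₗ[P ⧸ I] (P ⧸ I) ⊗[P] Ω[P⁄A] := Fintype.linearCombination (P ⧸ I) v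
  have hbv : ∀ i, b (v i) = 0 := fun i => hex.apply_apply_eq_zero _
  have hba : b ∘ₗ a = 0 := by
    apply LinearMap.ext
    intro c
    rw [LinearMap.comp_apply, Fintype.linearCombination_apply, map_sum]
    refine Finset.sum_eq_zero (fun i _ => ?_)
    rw [map_smul, hbv, smul_zero]
  -- `P`-linear combinations
  have hcomb : ∀ c : Fin r → P, ∑ i, (algebraMap P (P ⧸ I) (c i)) • v i =
      κ ((RingHom.ker (algebraMap P (P ⧸ I))).toCotangent (∑ i, c i • f i)) := by
    intro c
    rw [map_sum, map_sum]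
    refine Finset.sum_congr rfl (fun i _ => ?_)
    rw [map_smul, map_smul, algebraMap_smul]
  have ha : Function.Injective a := by
    rw [← linearIndependent_iff_injective_fintypeLinearCombination, Fintype.linearIndependent_iff]
    intro cbar hc i
    choose c hcc using fun i => hf (cbar i)
    have h1 : ∑ i, cbar i • v i = ∑ i, (algebraMap P (P ⧸ I) (c i)) • v i :=
      Finset.sum_congr rfl (fun i _ => by rw [hcc])
    rw [h1, hcomb c] at hc
    have h2 := hκinj (hc.trans (map_zero κ).symm)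
    have hli := cot_li_of_QR (RingHom.ker (algebraMap P (P ⧸ I))) f hq hspanJ
    rw [Fintype.linearIndependent_iff] at hli
    have h3 := hli (fun i => Ideal.Quotient.mk _ (c i)) (by
      rw [toCotangent_sum_smul]; exact h2) i
    rw [Ideal.Quotient.eq_zero_iff_mem, hJ] at h3
    rw [← hcc i, Ideal.Quotient.algebraMap_eq]
    exact Ideal.Quotient.eq_zero_iff_mem.mpr h3
  have hrange : ∀ m, b m = 0 → m ∈ LinearMap.range a := by
    intro m hm
    obtain ⟨y, rfl⟩ := (hex m).mp hm
    obtain ⟨y, rfl⟩ := Ideal.toCotangent_surjective _ y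
    have hy : (y : P) ∈ Ideal.span (Set.range fun i => (f i : P)) := by rw [hspanJ]; exact y.2
    obtain ⟨c, hc⟩ := (Ideal.mem_span_range_iff_exists_fun).1 hy
    have hy' : y = ∑ i, c i • f i := by
      ext
      rw [← hc, Submodule.coe_sum]
      exact Finset.sum_congr rfl (fun i _ => rfl)
    refine ⟨fun i => algebraMap P (P ⧸ I) (c i), ?_⟩
    rw [Fintype.linearCombination_apply, hcomb c, hy']
  have hexs : ∀ m, m - s (b m) ∈ LinearMap.range a := by
    intro m
    apply hrange
    rw [map_sub, ← LinearMap.comp_apply b s, hs, LinearMap.id_apply, sub_self]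
  have hbij : Function.Bijective (a.coprod s) := bijective_coprod a b s hs hba ha hexs
  have hr : Module.finrank (P ⧸ I) (Fin r → P ⧸ I) = r := by
    rw [Module.finrank_fin_fun]
  exact nonempty_extPow_equiv a s hbij r n hr hnM hrn

end Groth.Agent.Lib.Helper20.DetKaehler
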