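import Mathlib

/-!
# Determinant algebra for globally generated bundles with trivial determinant (helper20)
-/

set_option autoImplicit false
universe u v w

namespace Groth.Agent.Lib.Helper20.DetTriv

open Module

variable {R : Type u} [CommRing R] {M : Type v} [AddCommGroup M] [Module R M]

/-- a spanning family contains `r` members with nonzero determinant -/
theorem exists_det_ne_zero [Nontrivial R] {r N : ℕ} (b : Basis (Fin r) R M) (t : Fin N → M)
    (ht : Submodule.span R (Set.range t) = ⊤) :
    ∃ J : Fin r → Fin N, b.det (t ∘ J) ≠ 0 := by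
  by_contra hcon
  push_neg at hcon
  have hex : ∀ l : Fin r, ∃ a : Fin N → R, ∑ j, a j • t j = b l := fun l =>
    (Submodule.mem_span_range_iff_exists_fun R).mp (by rw [ht]; trivial)
  choose a ha using hex
  have h1 : b.det (fun l => ∑ j, a l j • t j) = 1 := by
    have : (fun l => ∑ j, a l j • t j) = b := funext ha
    rw [this, Basis.det_self]
  have h2 : b.det (fun l => ∑ j, a l j • t j) = 0 := by
    have := (b.det : MultilinearMap R (fun _ : Fin r => M) R).map_sum
      (fun (l : Fin r) (j : Fin N) => a l j • t j)
    rw [AlternatingMap.coe_multilinearMap] at this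
    rw [this]
    refine Finset.sum_eq_zero fun J _ => ?_
    have h3 := (b.det : MultilinearMap R (fun _ : Fin r => M) R).map_smul_univ
      (fun l => a l (J l)) (fun l => t (J l))
    rw [AlternatingMap.coe_multilinearMap] at h3
    rw [h3]
    have h4 : b.det (fun l => t (J l)) = 0 := hcon J
    rw [h4, smul_zero]
  rw [h1] at h2
  exact one_ne_zero h2

/-- the determinant with respect to a basis agrees, up to a unit, with any trivialisation of a model
of the top exterior power -/
theorem exists_unit_det_eq {r : ℕ} (b : Basis (Fin r) R M) {Lm : Type w} [AddCommGroup Lm]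
    [Module R Lm] (Φ : Lm ≃ₗ[R] ⋀[R]^r M) (ε : Lm ≃ₗ[R] R) :
    ∃ c : R, IsUnit c ∧ ∀ v : Fin r → M,
      b.det v = ε (Φ.symm (exteriorPower.ιMulti R r v)) * c := by
  let δ : ⋀[R]^r M →ₗ[R] R := exteriorPower.alternatingMapLinearEquiv b.det
  let lam : Lm := ε.symm 1
  have hm : ∀ m : Lm, m = ε m • lam := fun m => by
    apply ε.injective
    rw [map_smul, LinearEquiv.apply_symm_apply, smul_eq_mul, mul_one]
  have key : ∀ v : Fin r → M,
      b.det v = ε (Φ.symm (exteriorPower.ιMulti R r v)) * δ (Φ lam) := by
    intro v
    have h1 : δ (exteriorPower.ιMulti R r v) = b.det v :=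
      exteriorPower.alternatingMapLinearEquiv_apply_ιMulti _ _
    have h2 : exteriorPower.ιMulti R r v =
        Φ (ε (Φ.symm (exteriorPower.ιMulti R r v)) • lam) := by
      rw [← hm, LinearEquiv.apply_symm_apply]
    rw [← h1]
    conv_lhs => rw [h2]
    rw [map_smul, map_smul, smul_eq_mul]
  refine ⟨δ (Φ lam), ?_, key⟩
  have h3 := key b
  rw [Basis.det_self] at h3
  exact IsUnit.of_mul_eq_one_right _ h3.symm

/-- a family with unit determinant gives a bijective linear combination map -/
theorem bijective_of_isUnit_det {r : ℕ} (b : Basis (Fin r) R M) (v : Fin r → M)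
    (hv : IsUnit (b.det v)) :
    Function.Bijective (fun c : Fin r → R => ∑ j, c j • v j) := by
  obtain ⟨hli, hsp⟩ := (Basis.is_basis_iff_det b).mpr hv
  constructor
  · intro c c' h
    have h' : ∑ j, (c j - c' j) • v j = 0 := by
      simp only [sub_smul, Finset.sum_sub_distrib]
      exact sub_eq_zero.mpr h
    have := Fintype.linearIndependent_iff.mp hli (fun j => c j - c' j) h'
    funext j
    exact sub_eq_zero.mp (this j)
  · intro m
    exact (Submodule.mem_span_range_iff_exists_fun R).mp (by rw [hsp]; trivial)

end Groth.Agent.Lib.Helper20.DetTriv
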