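import Mathlib
import Groth.Agent.Lib.Helper20.DetTriv1
import Groth.Agent.Lib.Helper20.ExactLoc
import Groth.Agent.Lib.Helper11.GenLocus
import Groth.Agent.Lib.Helper16.QCohEpi
import Groth.Agent.Lib.Helper16.FLF5
import Groth.Prelude.Def_ExtPow2

/-!
# Sections of maps out of free modules; the determinant function (helper20)
-/

set_option autoImplicit false
universe u

open CategoryTheory CategoryTheory.Limits AlgebraicGeometry Opposite TopologicalSpace

namespace Groth.Agent.Lib.Helper20.DetTriv

open Groth.Agent.Lib.helper11.GenLocus Groth.Agent.Lib.helper20.ExactLoc Module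

noncomputable section

variable {X : Scheme.{u}} {E : X.Modules}

/-- the `b`-th coordinate of a section of a free module -/
def coordSec {n : ℕ} (V : X.Opens) (t : Γ(FlatMod.freeMod X n, V)) (b : Fin n) : Γ(X, V) :=
  ((Sigma.π (fun _ : Fin n => Coh.structureModule X) b).app V).hom t

/-- the value of `Sigma.desc σ` on sections -/
lemma desc_app {n : ℕ} (σ : Fin n → (Coh.structureModule X ⟶ E)) (V : X.Opens)
    (t : Γ(FlatMod.freeMod X n, V)) :
    ((Sigma.desc σ).app V).hom t = ∑ b, coordSec V t b • sec (σ b) V := by
  conv_lhs => rw [sec_eq_sum (fun _ : Fin n => Coh.structureModule X) V t]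
  rw [map_sum]
  refine Finset.sum_congr rfl fun b _ => ?_
  have h1 : Sigma.ι (fun _ : Fin n => Coh.structureModule X) b ≫ Sigma.desc σ = σ b :=
    Sigma.ι_desc _ _
  rw [← app_apply (σ b) V, ← h1]
  rfl

/-- the sections of `O → E` span when the map from the free module is surjective on sections -/
lemma span_sec_eq_top {n : ℕ} (σ : Fin n → (Coh.structureModule X ⟶ E)) (V : X.Opens)
    (h : Function.Surjective ((Sigma.desc σ).app V).hom) :
    Submodule.span Γ(X, V) (Set.range fun b => sec (σ b) V) = ⊤ := by
  rw [eq_top_iff]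
  intro m _
  obtain ⟨t, rfl⟩ := h m
  rw [desc_app]
  exact Submodule.sum_mem _ fun b _ =>
    Submodule.smul_mem _ _ (Submodule.subset_span ⟨b, rfl⟩)

/-- `Sigma.desc σ` is bijective on sections over `V` when the sections have unit determinant -/
theorem bijective_desc_app {r : ℕ} (σ : Fin r → (Coh.structureModule X ⟶ E)) (V : X.Opens)
    (b : Basis (Fin r) Γ(X, V) Γ(E, V)) (h : IsUnit (b.det (fun j => sec (σ j) V))) :
    Function.Bijective ((Sigma.desc σ).app V).hom := by
  obtain ⟨hinj, hsurj⟩ := bijective_of_isUnit_det b _ h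
  constructor
  · intro t t' htt
    rw [desc_app, desc_app] at htt
    have h2 := hinj htt
    exact sec_ext (fun _ : Fin r => Coh.structureModule X) V t t' fun j => congrFun h2 j
  · intro m
    obtain ⟨c, hc⟩ := hsurj m
    refine ⟨∑ j : Fin r, ((Sigma.ι (fun _ : Fin r => Coh.structureModule X) j).app V).hom (c j), ?_⟩
    rw [desc_app, ← hc]
    refine Finset.sum_congr rfl fun j _ => ?_
    congr 1
    exact π_sum_ι (fun _ : Fin r => Coh.structureModule X) V c j

end

end Groth.Agent.Lib.Helper20.DetTriv
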