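import Mathlib
import Groth.Agent.Lib.Helper20.DetTriv2

/-!
# The determinant section of `r` sections of a module with a top exterior power (helper20)
-/

set_option autoImplicit false
universe u

open CategoryTheory CategoryTheory.Limits AlgebraicGeometry Opposite TopologicalSpace

namespace Groth.Agent.Lib.Helper20.DetTriv

open Groth.Agent.Lib.helper11.GenLocus Groth.Agent.Lib.helper20.ExactLoc Module

noncomputable section

variable {X : Scheme.{u}} {E L : X.Modules} {r : ℕ}
  (φ : ∀ U : X.affineOpens, (L.val.obj (op U.1)) ≃ₗ[Γ(X, U.1)]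
    ↥(⋀[Γ(X, U.1)]^r (E.val.obj (op U.1))))
  (hφ : ∀ (U V : X.affineOpens) (h : V.1 ≤ U.1) (e : Fin r → E.val.obj (op U.1)),
      L.val.map (homOfLE h).op ((φ U).symm (exteriorPower.ιMulti _ r e)) =
        (φ V).symm (exteriorPower.ιMulti _ r (fun j => E.val.map (homOfLE h).op (e j))))
  (σ : Fin r → (Coh.structureModule X ⟶ E))

/-- the local wedge of the sections -/
def wloc (U : X.affineOpens) : Γ(L, U.1) :=
  (φ U).symm (exteriorPower.ιMulti _ r (fun j => (sec (σ j) U.1 : E.val.obj (op U.1))))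

include hφ in
lemma res_wloc (U V : X.affineOpens) (h : V.1 ≤ U.1) :
    L.presheaf.map (homOfLE h).op (wloc φ σ U) = wloc φ σ V := by
  have h1 := hφ U V h (fun j => (sec (σ j) U.1 : E.val.obj (op U.1)))
  have h2 : (fun j => E.val.map (homOfLE h).op (sec (σ j) U.1 : E.val.obj (op U.1))) =
      fun j => (sec (σ j) V.1 : E.val.obj (op V.1)) := by
    funext j
    exact res_sec (σ j) (homOfLE h)
  rw [h2] at h1
  exact h1

include hφ in
/-- the local wedges glue to a global section of `L` -/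
theorem exists_wedge : ∃ w : Γ(L, ⊤), ∀ U : X.affineOpens,
    L.presheaf.map (homOfLE (le_top : U.1 ≤ ⊤)).op w = wloc φ σ U := by
  let F : TopCat.Sheaf Ab X := ⟨L.presheaf, L.isSheaf⟩
  have hcompat : TopCat.Presheaf.IsCompatible F.1 (fun U : X.affineOpens => U.1)
      (fun U => wloc φ σ U) := by
    intro U V
    refine TopCat.Presheaf.IsSheaf.section_ext L.isSheaf (U := op (U.1 ⊓ V.1)) ?_
    intro x hx
    obtain ⟨W, hW, hxW, hWUV⟩ := Opens.isBasis_iff_nbhd.mp X.isBasis_affineOpens hx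
    refine ⟨W, hWUV, hxW, ?_⟩
    have e1 : L.presheaf.map (homOfLE hWUV).op
        (L.presheaf.map (Opens.infLELeft U.1 V.1).op (wloc φ σ U)) = wloc φ σ ⟨W, hW⟩ := by
      rw [← ConcreteCategory.comp_apply, ← L.presheaf.map_comp]
      exact res_wloc φ hφ σ U ⟨W, hW⟩ (hWUV.trans inf_le_left)
    have e2 : L.presheaf.map (homOfLE hWUV).op
        (L.presheaf.map (Opens.infLERight U.1 V.1).op (wloc φ σ V)) = wloc φ σ ⟨W, hW⟩ := by
      rw [← ConcreteCategory.comp_apply, ← L.presheaf.map_comp]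
      exact res_wloc φ hφ σ V ⟨W, hW⟩ (hWUV.trans inf_le_right)
    exact e1.trans e2.symm
  obtain ⟨w, hw, -⟩ := F.existsUnique_gluing' (fun U : X.affineOpens => U.1) ⊤
    (fun U => homOfLE le_top) (by
      intro x _
      obtain ⟨W, hW, hxW, -⟩ := Opens.isBasis_iff_nbhd.mp X.isBasis_affineOpens
        (show x ∈ (⊤ : X.Opens) from trivial)
      exact Opens.mem_iSup.mpr ⟨⟨W, hW⟩, hxW⟩) (fun U => wloc φ σ U) hcompat
  exact ⟨w, hw⟩

end

end Groth.Agent.Lib.Helper20.DetTriv
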