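import Mathlib
import Groth.Agent.Lib.Helper20.DetTriv3
import Groth.Agent.Lib.Helper16.FLF4

/-!
# Globally generated modules with trivial determinant: the local determinant (helper20)
-/

set_option autoImplicit false
universe u

open CategoryTheory CategoryTheory.Limits AlgebraicGeometry Opposite TopologicalSpace

namespace Groth.Agent.Lib.Helper20.DetTriv

open Groth.Agent.Lib.helper11.GenLocus Groth.Agent.Lib.helper20.ExactLoc Module
  Groth.Agent.Lib.helper16.FLF Groth.Agent.Lib.helper16.QCohEpi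

noncomputable section

variable {X : Scheme.{u}} {E L : X.Modules} {r : ℕ}

/-- the linear equivalence on sections induced by an isomorphism of modules -/
def secEquivOfIso {F G : X.Modules} (e : F ≅ G) (U : X.Opens) : Γ(F, U) ≃ₗ[Γ(X, U)] Γ(G, U) :=
  LinearEquiv.ofLinear (sectionsLin e.hom U) (sectionsLin e.inv U)
    (by rw [← sectionsLin_comp, e.inv_hom_id, sectionsLin_id])
    (by rw [← sectionsLin_comp, e.hom_inv_id, sectionsLin_id])

lemma secEquivOfIso_apply {F G : X.Modules} (e : F ≅ G) (U : X.Opens) (s : Γ(F, U)) :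
    secEquivOfIso e U s = (e.hom.app U).hom s := rfl

variable
  (φ : ∀ U : X.affineOpens, (L.val.obj (op U.1)) ≃ₗ[Γ(X, U.1)]
    ↥(⋀[Γ(X, U.1)]^r (E.val.obj (op U.1))))
  (hφ : ∀ (U V : X.affineOpens) (h : V.1 ≤ U.1) (e : Fin r → E.val.obj (op U.1)),
      L.val.map (homOfLE h).op ((φ U).symm (exteriorPower.ιMulti _ r e)) =
        (φ V).symm (exteriorPower.ιMulti _ r (fun j => E.val.map (homOfLE h).op (e j))))
  (eL : L ≅ Coh.structureModule X)
  (σ : Fin r → (Coh.structureModule X ⟶ E))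

include hφ eL in
/-- the determinant function of `r` sections -/
theorem exists_det_fn : ∃ g : Γ(X, ⊤), ∀ (U : X.affineOpens)
    (b : Basis (Fin r) Γ(X, U.1) Γ(E, U.1)), ∃ c : Γ(X, U.1), IsUnit c ∧
      b.det (fun j => sec (σ j) U.1) = X.presheaf.map (homOfLE (le_top : U.1 ≤ ⊤)).op g * c := by
  obtain ⟨w, hw⟩ := exists_wedge φ hφ σ
  refine ⟨(eL.hom.app ⊤).hom w, fun U b => ?_⟩
  let ε : Γ(L, U.1) ≃ₗ[Γ(X, U.1)] Γ(X, U.1) := secEquivOfIso eL U.1
  let Φ : Γ(L, U.1) ≃ₗ[Γ(X, U.1)] ⋀[Γ(X, U.1)]^r Γ(E, U.1) := φ U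
  obtain ⟨c, hc, hdet⟩ := exists_unit_det_eq b Φ ε
  refine ⟨c, hc, ?_⟩
  rw [hdet]
  congr 1
  have h1 : Φ.symm (exteriorPower.ιMulti Γ(X, U.1) r (fun j => sec (σ j) U.1)) = wloc φ σ U := rfl
  rw [h1, ← hw U]
  exact app_map eL.hom (le_top : U.1 ≤ ⊤) w

end

end Groth.Agent.Lib.Helper20.DetTriv
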