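import Mathlib
import Groth.Agent.Lib.Helper20.DetTriv4

/-!
# Globally generated modules with trivial determinant are free (helper20)
-/

set_option autoImplicit false
universe u

open CategoryTheory CategoryTheory.Limits AlgebraicGeometry Opposite TopologicalSpace

namespace Groth.Agent.Lib.Helper20.DetTriv

open Groth.Agent.Lib.helper11.GenLocus Groth.Agent.Lib.helper20.ExactLoc Module
  Groth.Agent.Lib.helper16.FLF Groth.Agent.Lib.helper16.QCohEpi

noncomputable section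

variable {X : Scheme.{u}} {E L : X.Modules} {r : ℕ}

/-- affine opens with a basis of sections form a basis of the topology -/
lemma isBasis_free (hE : FlatMod.IsFinLocFreeOfRank r E) :
    Opens.IsBasis {U : X.Opens | IsAffineOpen U ∧
      Nonempty (Basis (Fin r) Γ(X, U) Γ(E, U))} := by
  rw [Opens.isBasis_iff_nbhd]
  intro O x hx
  obtain ⟨U, hxU, ⟨iso⟩⟩ := hE x
  obtain ⟨V, hV, hxV, hVU⟩ := Opens.isBasis_iff_nbhd.mp X.isBasis_affineOpens
    (show x ∈ U ⊓ O from ⟨hxU, hx⟩)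
  obtain ⟨iso'⟩ := restrict_iso_freeMod_of_le E (hVU.trans inf_le_left) r iso
  obtain ⟨e⟩ := sections_of_restrict_iso_freeMod E hV r iso'
  exact ⟨V, ⟨hV, ⟨Basis.ofEquivFun e⟩⟩, hxV, hVU.trans inf_le_right⟩

/-- `r` sections with unit determinant function trivialise `E` -/
theorem isIso_desc_of_isUnit (hE : FlatMod.IsFinLocFreeOfRank r E)
    (σ : Fin r → (Coh.structureModule X ⟶ E)) (g : Γ(X, ⊤))
    (hg : ∀ (U : X.affineOpens) (b : Basis (Fin r) Γ(X, U.1) Γ(E, U.1)), ∃ c : Γ(X, U.1),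
      IsUnit c ∧ b.det (fun j => sec (σ j) U.1) =
        X.presheaf.map (homOfLE (le_top : U.1 ≤ ⊤)).op g * c)
    (hu : IsUnit g) : IsIso (Sigma.desc σ) := by
  have hbij : ∀ D ∈ {U : X.Opens | IsAffineOpen U ∧ Nonempty (Basis (Fin r) Γ(X, U) Γ(E, U))},
      Function.Bijective ((Sigma.desc σ).app D).hom := by
    rintro D ⟨hD, ⟨b⟩⟩
    obtain ⟨c, hc, hdet⟩ := hg ⟨D, hD⟩ b
    exact bijective_desc_app σ D b (by rw [hdet]; exact (hu.map _).mul hc)
  haveI := mono_of_injective_on_basis (Sigma.desc σ) _ (isBasis_free hE)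
    (fun D hD => (hbij D hD).1)
  haveI := epi_of_surjective_on_basis (Sigma.desc σ) _ (isBasis_free hE)
    (fun D hD => (hbij D hD).2)
  exact isIso_of_mono_of_epi _

/-- **a globally generated finite locally free module with trivial determinant is free**, on a
nonempty scheme whose nonzero global functions are units -/
theorem nonempty_iso_freeMod [Nonempty X] (hfield : ∀ g : Γ(X, ⊤), g ≠ 0 → IsUnit g)
    (hE : FlatMod.IsFinLocFreeOfRank r E) (hL : ExtPow.IsExtPow r E L)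
    (eL : L ≅ Coh.structureModule X)
    {N : ℕ} (φN : FlatMod.freeMod X N ⟶ E) [Epi φN] :
    Nonempty (E ≅ FlatMod.freeMod X r) := by
  obtain ⟨φ, hφ⟩ := hL
  obtain ⟨x₀⟩ := ‹Nonempty X›
  obtain ⟨U₀, ⟨hU₀, ⟨b₀⟩⟩, hx₀, -⟩ := Opens.isBasis_iff_nbhd.mp (isBasis_free hE)
    (show x₀ ∈ (⊤ : X.Opens) from trivial)
  haveI : Nonempty U₀ := ⟨⟨x₀, hx₀⟩⟩
  haveI : Nontrivial Γ(X, U₀) := X.component_nontrivial U₀
  let τ : Fin N → (Coh.structureModule X ⟶ E) := fun j =>
    Sigma.ι (fun _ : Fin N => Coh.structureModule X) j ≫ φN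
  have hτ : Sigma.desc τ = φN := by
    apply Sigma.hom_ext
    intro j
    rw [Sigma.ι_desc]
  haveI : E.IsQuasicoherent :=
    isQuasicoherent_of_isFinLocFree _ (isFinLocFree_of_isFinLocFreeOfRank hE)
  haveI : (FlatMod.freeMod X N).IsQuasicoherent :=
    isQuasicoherent_of_isFinLocFree _ (isFinLocFree_freeMod X N)
  have hsurj : Function.Surjective ((Sigma.desc τ).app U₀).hom := by
    rw [hτ]
    exact surjective_app_of_epi φN hU₀
  have hspan := span_sec_eq_top τ U₀ hsurj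
  obtain ⟨J, hJ⟩ := exists_det_ne_zero b₀ (fun j => sec (τ j) U₀) hspan
  let σ : Fin r → (Coh.structureModule X ⟶ E) := fun l => τ (J l)
  obtain ⟨g, hg⟩ := exists_det_fn φ hφ eL σ
  have hg0 : g ≠ 0 := by
    rintro rfl
    obtain ⟨c, -, hdet⟩ := hg ⟨U₀, hU₀⟩ b₀
    rw [map_zero, zero_mul] at hdet
    exact hJ hdet
  haveI := isIso_desc_of_isUnit hE σ g hg (hfield g hg0)
  exact ⟨(asIso (Sigma.desc σ)).symm⟩

end

end Groth.Agent.Lib.Helper20.DetTriv
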