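import Groth.Agent.Lib.Helper20.TraceLocal

open IsLocalRing

set_option autoImplicit false
universe u
attribute [local instance] FractionRing.liftAlgebra FractionRing.isScalarTower_liftAlgebra
attribute [local instance] Ideal.Quotient.field

namespace Groth.Agent.Lib.Helper20.DifferentTame

open nonZeroDivisors Algebra in
theorem dvd_differentIdeal_of_forall_intTrace_mem
    (A : Type*) {B : Type*} [CommRing A] [CommRing B] [Algebra A B] [IsDomain A]
    [IsDedekindDomain A] [IsDedekindDomain B] [Module.IsTorsionFree A B] [Module.Finite A B]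
    [Algebra.IsSeparable (FractionRing A) (FractionRing B)]
    {p : Ideal A} [p.IsMaximal] (hp : p ≠ ⊥) (Q a : Ideal B)
    (ha : p.map (algebraMap A B) = Q * a)
    (h : ∀ x ∈ a, Algebra.intTrace A B x ∈ p) : Q ∣ differentIdeal A B := by
  let K := FractionRing A
  let L := FractionRing B
  have : IsLocalization (algebraMapSubmonoid B A⁰) L :=
    IsIntegralClosure.isLocalization _ K _ _
  have : FiniteDimensional K L := .of_isLocalization A B A⁰
  have hp' := (Ideal.map_eq_bot_iff_of_injective
    (FaithfulSMul.algebraMap_injective A B)).not.mpr hp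
  have habot : a ≠ ⊥ := fun ha' ↦ hp' (by simpa [ha'] using ha)
  have hPbot : Q ≠ ⊥ := by
    rintro rfl; apply hp'
    rwa [Ideal.bot_mul] at ha
  have hP : ((Q :)⁻¹ : FractionalIdeal B⁰ L) = a / p.map (algebraMap A B) := by
    apply inv_involutive.injective
    simp only [ha, FractionalIdeal.coeIdeal_mul, inv_div, mul_div_assoc]
    rw [div_self (by simpa), mul_one, inv_inv]
  rw [Ideal.dvd_iff_le, differentialIdeal_le_iff (K := K) (L := L) hPbot, hP,
    Submodule.map_le_iff_le_comap]
  intro x hx
  rw [Submodule.restrictScalars_mem, FractionalIdeal.mem_coe,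
    FractionalIdeal.mem_div_iff_of_ne_zero (by simpa using hp')] at hx
  rw [Submodule.mem_comap, LinearMap.coe_restrictScalars, ← FractionalIdeal.coe_one,
    ← div_self (G₀ := FractionalIdeal A⁰ K) (a := p) (by simpa using hp),
    FractionalIdeal.mem_coe, FractionalIdeal.mem_div_iff_of_ne_zero (by simpa using hp)]
  simp only [FractionalIdeal.mem_coeIdeal, forall_exists_index, and_imp,
    forall_apply_eq_imp_iff₂] at hx
  intro y hy'
  obtain ⟨y, hy, rfl : algebraMap A K _ = _⟩ := (FractionalIdeal.mem_coeIdeal _).mp hy'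
  obtain ⟨z, hz, hz'⟩ := hx _ (Ideal.mem_map_of_mem _ hy)
  have : Algebra.trace K L (algebraMap B L z) ∈ (p : FractionalIdeal A⁰ K) := by
    rw [← Algebra.algebraMap_intTrace (A := A)]
    exact ⟨Algebra.intTrace A B z, h z hz, rfl⟩
  rwa [mul_comm, ← smul_eq_mul, ← map_smul, Algebra.smul_def, mul_comm,
    ← IsScalarTower.algebraMap_apply, IsScalarTower.algebraMap_apply A B L, ← hz']

variable (A B : Type u) [CommRing A] [IsDomain A] [IsDiscreteValuationRing A]
    [CommRing B] [IsDomain B] [IsDiscreteValuationRing B] [Algebra A B] [Module.Finite A B] [Module.IsTorsionFree A B]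
    [IsLocalHom (algebraMap A B)]

/-- `p B = P ^ e`. -/
theorem map_eq_pow : (maximalIdeal A).map (algebraMap A B) =
    maximalIdeal B ^ (Ideal.ramificationIdx (maximalIdeal B) A) := by
  have hp0 : maximalIdeal A ≠ ⊥ := IsDiscreteValuationRing.not_a_field A
  have hP0 : maximalIdeal B ≠ ⊥ := IsDiscreteValuationRing.not_a_field B
  have hpS0 : (maximalIdeal A).map (algebraMap A B) ≠ ⊥ := Ideal.map_ne_bot_of_ne_bot hp0
  obtain ⟨m, hm⟩ := exists_maximalIdeal_pow_eq_of_principal B
    (IsPrincipalIdealRing.principal _) _ hpS0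
  have he : Ideal.ramificationIdx (maximalIdeal B) A = m := by
    rw [← Ideal.ramificationIdx'_eq_ramificationIdx (maximalIdeal A) (maximalIdeal B) hp0]
    apply Ideal.ramificationIdx'_spec
    · rw [hm]
    · rw [hm]
      intro h
      have := Ideal.pow_succ_lt_pow hP0 m
      exact absurd h (not_le_of_gt this)
  rw [he, hm]


open Groth.Agent.Lib.Helper20.TraceLocal in
theorem intTrace_mem_iff :
    (∀ x : B, Algebra.intTrace A B x ∈ maximalIdeal A) ↔
      ¬ (Algebra.IsSeparable (ResidueField A) (ResidueField B) ∧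
        ((Ideal.ramificationIdx (maximalIdeal B) A : ℕ) : ResidueField A) ≠ 0) := by
  classical
  have hP0 : maximalIdeal B ≠ ⊥ := IsDiscreteValuationRing.not_a_field B
  have hpSP : (maximalIdeal A).map (algebraMap A B) ≤ maximalIdeal B := by
    rw [Ideal.map_le_iff_le_comap]
    exact (Ideal.LiesOver.over (p := maximalIdeal A) (P := maximalIdeal B)).le
  have hpStop : (maximalIdeal A).map (algebraMap A B) ≠ ⊤ := fun h =>
    (maximalIdeal.isMaximal B).ne_top (top_le_iff.mp (h ▸ hpSP))
  have : Nontrivial (B ⧸ (maximalIdeal A).map (algebraMap A B)) :=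
    Ideal.Quotient.nontrivial_iff.mpr hpStop
  have : IsLocalRing (B ⧸ (maximalIdeal A).map (algebraMap A B)) :=
    IsLocalRing.of_surjective' (Ideal.Quotient.mk _) Ideal.Quotient.mk_surjective
  have : IsLocalHom (Ideal.Quotient.mk ((maximalIdeal A).map (algebraMap A B))) :=
    IsLocalHom.of_surjective _ Ideal.Quotient.mk_surjective
  -- the length
  have hlen : (Module.length (B ⧸ (maximalIdeal A).map (algebraMap A B))
      (B ⧸ (maximalIdeal A).map (algebraMap A B))).toNat =
        Ideal.ramificationIdx (maximalIdeal B) A := by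
    rw [← Module.length_eq_of_surjective (S := B) Ideal.Quotient.mk_surjective,
      (Submodule.quotEquivOfEq _ _ (map_eq_pow A B)).length_eq,
      IsDiscreteValuationRing.length_quotient_pow_maximalIdeal, ENat.toNat_natCast]
  -- the trace formula
  have key : ∀ x : B, Ideal.Quotient.mk (maximalIdeal A) (Algebra.intTrace A B x) =
      Ideal.ramificationIdx (maximalIdeal B) A •
        Algebra.trace (A ⧸ maximalIdeal A)
          (ResidueField (B ⧸ (maximalIdeal A).map (algebraMap A B)))
          (residue _ (Ideal.Quotient.mk _ x)) := by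
    intro x
    rw [← Algebra.trace_quotient_eq_of_isDedekindDomain, ← hlen,
      ← trace_act (k := A ⧸ maximalIdeal A)
        (C := B ⧸ (maximalIdeal A).map (algebraMap A B)) _ _ rfl, Algebra.trace_apply]
    rfl
  -- comparison of residue fields
  have hbij : Function.Bijective (ResidueField.map
      (Ideal.Quotient.mk ((maximalIdeal A).map (algebraMap A B)))) := by
    refine ⟨RingHom.injective _, fun y => ?_⟩
    obtain ⟨c, rfl⟩ := residue_surjective y
    obtain ⟨b, rfl⟩ := Ideal.Quotient.mk_surjective c
    exact ⟨residue B b, rfl⟩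
  have hsep : Algebra.IsSeparable (ResidueField A) (ResidueField B) ↔
      Algebra.IsSeparable (A ⧸ maximalIdeal A)
        (ResidueField (B ⧸ (maximalIdeal A).map (algebraMap A B))) := by
    let e₁ : ResidueField A ≃+* (A ⧸ maximalIdeal A) := RingEquiv.refl _
    have hcomm : (algebraMap (A ⧸ maximalIdeal A)
          (ResidueField (B ⧸ (maximalIdeal A).map (algebraMap A B)))).comp
        (e₁ : ResidueField A →+* A ⧸ maximalIdeal A) =
        ((RingEquiv.ofBijective _ hbij : ResidueField B ≃+* _) : ResidueField B →+* _).comp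
          (algebraMap (ResidueField A) (ResidueField B)) := by
      apply RingHom.ext
      intro a
      obtain ⟨a, rfl⟩ := residue_surjective a
      rfl
    constructor
    · intro h
      exact Algebra.IsSeparable.of_equiv_equiv e₁
        (RingEquiv.ofBijective _ hbij) hcomm
    · intro h
      refine Algebra.IsSeparable.of_equiv_equiv e₁.symm
        (RingEquiv.ofBijective _ hbij).symm ?_
      apply RingHom.ext
      intro a
      apply (RingEquiv.ofBijective _ hbij).injective
      have := RingHom.congr_fun hcomm (e₁.symm a)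
      simp only [RingHom.comp_apply, RingEquiv.coe_toRingHom, RingEquiv.apply_symm_apply] at this ⊢
      exact this.symm
  -- conclusion
  constructor
  · rintro h ⟨h1, h2⟩
    rw [hsep] at h1
    obtain ⟨y, hy⟩ := Algebra.trace_surjective (A ⧸ maximalIdeal A)
      (ResidueField (B ⧸ (maximalIdeal A).map (algebraMap A B))) 1
    obtain ⟨c, rfl⟩ := residue_surjective y
    obtain ⟨b, rfl⟩ := Ideal.Quotient.mk_surjective c
    have hb := key b
    rw [Ideal.Quotient.eq_zero_iff_mem.mpr (h b), hy, nsmul_eq_mul, mul_one] at hb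
    exact h2 hb.symm
  · intro h x
    rw [← Ideal.Quotient.eq_zero_iff_mem, key]
    by_cases h1 : Algebra.IsSeparable (ResidueField A) (ResidueField B)
    · have h2 : ((Ideal.ramificationIdx (maximalIdeal B) A : ℕ) : ResidueField A) = 0 := by
        by_contra h2
        exact h ⟨h1, h2⟩
      rw [nsmul_eq_mul]
      have h2' : ((Ideal.ramificationIdx (maximalIdeal B) A : ℕ) : A ⧸ maximalIdeal A) = 0 := h2
      rw [h2', zero_mul]
    · rw [hsep] at h1
      rw [Algebra.trace_eq_zero_of_not_isSeparable h1]
      simp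


theorem main [Algebra.IsSeparable (FractionRing A) (FractionRing B)] :
    differentIdeal A B = maximalIdeal B ^
        (Ideal.ramificationIdx (maximalIdeal B) A - 1) ↔
      (Algebra.IsSeparable (ResidueField A) (ResidueField B) ∧
        ((Ideal.ramificationIdx (maximalIdeal B) A : ℕ) : ResidueField A) ≠ 0) := by
  classical
  have hp0 : maximalIdeal A ≠ ⊥ := IsDiscreteValuationRing.not_a_field A
  have hP0 : maximalIdeal B ≠ ⊥ := IsDiscreteValuationRing.not_a_field B
  have hepos : 0 < Ideal.ramificationIdx (maximalIdeal B) A := Ideal.ramificationIdx_pos _ A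
  have hmap := map_eq_pow A B
  have hanti : StrictAnti (fun n : ℕ => maximalIdeal B ^ n) :=
    strictAnti_nat_of_succ_lt fun n => Ideal.pow_succ_lt_pow hP0 n
  -- `P ^ (e - 1)` divides the different
  have hdvd : maximalIdeal B ^ (Ideal.ramificationIdx (maximalIdeal B) A - 1) ∣
      differentIdeal A B :=
    pow_sub_one_dvd_differentIdeal A (maximalIdeal B) _ hp0 (by rw [hmap])
  have hD0 : differentIdeal A B ≠ ⊥ := differentIdeal_ne_bot
  obtain ⟨d, hd⟩ := exists_maximalIdeal_pow_eq_of_principal B
    (IsPrincipalIdealRing.principal _) _ hD0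
  -- `P ^ e ∣ D` iff all traces lie in `p`
  have hiff : maximalIdeal B ^ (Ideal.ramificationIdx (maximalIdeal B) A) ∣ differentIdeal A B ↔
      ∀ x : B, Algebra.intTrace A B x ∈ maximalIdeal A := by
    constructor
    · intro h
      by_contra hx
      push Not at hx
      obtain ⟨x, hx⟩ := hx
      exact not_dvd_differentIdeal_of_intTrace_not_mem A
        (maximalIdeal B ^ (Ideal.ramificationIdx (maximalIdeal B) A)) ⊤
        (by rw [Ideal.mul_top, hmap]) x trivial hx h
    · intro h
      exact dvd_differentIdeal_of_forall_intTrace_mem A hp0 _ ⊤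
        (by rw [Ideal.mul_top, hmap]) (fun x _ => h x)
  rw [← not_iff_not, ← intTrace_mem_iff A B, ← hiff, hd]
  rw [hd] at hdvd
  have hle : ∀ m n : ℕ, maximalIdeal B ^ m ≤ maximalIdeal B ^ n ↔ n ≤ m :=
    fun m n => hanti.le_iff_ge (a := m) (b := n)
  have heq : ∀ m n : ℕ, maximalIdeal B ^ m = maximalIdeal B ^ n ↔ m = n :=
    fun m n => hanti.injective.eq_iff (a := m) (b := n)
  rw [Ideal.dvd_iff_le, hle] at hdvd ⊢
  rw [heq]
  omega

end Groth.Agent.Lib.Helper20.DifferentTame
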