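import Mathlib
import Groth.Agent.Lib.Helper3.IrredDim
import Groth.Agent.Lib.Helper3.FTFieldClosureDim
import Groth.Agent.Lib.Helper3.TopDim

/-!
# The dimension formula on irreducible schemes locally of finite type over a field (helper20)

* `exists_dim_closure_add_stalk`: `dim cl{x} + dim O_{X,x} = dim X`.
* `two_le_ringKrullDim_stalk_of_dim_lt`: if `x` lies in a closed set `Z` with `dim Z < n - 1`
  (where `n = dim X`) then `dim O_{X,x} ≥ 2`.
-/

set_option autoImplicit false
universe u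
open CategoryTheory AlgebraicGeometry

namespace Groth.Agent.Lib.Helper20.DimFormulaInt

variable (k : Type u) [Field k] (X : Scheme.{u}) [X.Over (Spec (CommRingCat.of k))]
  [LocallyOfFiniteType (X ↘ Spec (CommRingCat.of k))] [IrreducibleSpace X]

include k

/-- `dim cl{x} + dim O_{X,x} = dim X` on an irreducible scheme locally of finite type over a
field -/
theorem exists_dim_closure_add_stalk (n : ℕ) (hX : topologicalKrullDim X = (n : WithBot ℕ∞))
    (x : X) : ∃ a b : ℕ, topologicalKrullDim ↥(closure ({x} : Set X)) = (a : WithBot ℕ∞) ∧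
      ringKrullDim (X.presheaf.stalk x) = (b : WithBot ℕ∞) ∧ a + b = n := by
  obtain ⟨d, hd, hloc⟩ :=
    Groth.Agent.Lib.helper3.IrredDim.exists_dim_eq_localDim_of_irreducible k X
  obtain ⟨a, b, ha, hb, hab⟩ :=
    Groth.Agent.Lib.helper3.IrredDim.localDim_eq_trdeg_add_stalk k X x
  refine ⟨a, b, Groth.Agent.Lib.helper3.FTField.dim_closure_eq_trdeg k X x a ha, hb, ?_⟩
  have h1 : ((d : ℕ) : WithBot ℕ∞) = ((n : ℕ) : WithBot ℕ∞) := hd.symm.trans hX
  have h2 : ((a + b : ℕ) : WithBot ℕ∞) = ((d : ℕ) : WithBot ℕ∞) := hab.symm.trans (hloc x)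
  have h3 : ((a + b : ℕ) : WithBot ℕ∞) = ((n : ℕ) : WithBot ℕ∞) := h2.trans h1
  exact_mod_cast h3

/-- points of a closed subset of dimension `< dim X - 1` have local rings of dimension `≥ 2` -/
theorem two_le_ringKrullDim_stalk_of_dim_lt (n : ℕ)
    (hX : topologicalKrullDim X = (n : WithBot ℕ∞)) {Z : Set X} (hZ : IsClosed Z)
    (hdim : topologicalKrullDim ↥Z < (((n - 1 : ℕ)) : WithBot ℕ∞)) (x : X) (hx : x ∈ Z) :
    (2 : WithBot ℕ∞) ≤ ringKrullDim (X.presheaf.stalk x) := by
  obtain ⟨a, b, ha, hb, hab⟩ := exists_dim_closure_add_stalk k X n hX x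
  have hsub : closure ({x} : Set X) ⊆ Z := hZ.closure_subset_iff.mpr (by simpa using hx)
  have h1 : topologicalKrullDim ↥(closure ({x} : Set X)) ≤ topologicalKrullDim ↥Z :=
    Groth.Agent.Lib.helper3.TopDim.dim_mono hsub
  rw [ha] at h1
  have h2 : ((a : ℕ) : WithBot ℕ∞) < (((n - 1 : ℕ)) : WithBot ℕ∞) := lt_of_le_of_lt h1 hdim
  have h3 : a < n - 1 := by exact_mod_cast h2
  rw [hb]
  have h4 : 2 ≤ b := by omega
  exact_mod_cast h4

end Groth.Agent.Lib.Helper20.DimFormulaInt
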