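import Mathlib
import Groth.Agent.Lib.Helper20.DualQCoh
import Groth.Agent.Lib.Helper11.AmpleGen
import Groth.Agent.Lib.Helper28.TwistPn
import Groth.Agent.Lib.Helper7.TwistAmpleIff
import Groth.Agent.Lib.Helper12.PullAmple
import Groth.Agent.Lib.Helper12.PullPic
import Groth.Agent.Lib.Helper12.AmpleSep
import Groth.Agent.Lib.Helper20.TwistEquivPn

/-!
# Dualizing pairs on closed subschemes of `P^n_A`: from the twists to all quasi-coherent modules (helper20)

`ι : X ⟶ P^n_A` a closed immersion.  Every quasi-coherent module on `X` is a quotient of a coproduct of modules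
isomorphic to `ι^* O(m)` (`genBy_twists`).  Hence a candidate `r`-dualizing pair `(ω, tr)` whose duality map is
bijective on all `ι^* O(m)` is an `r`-dualizing pair, provided `H^{r+1}` vanishes on quasi-coherent modules
(`isRDualOver_of_twists`).
-/

set_option autoImplicit false
universe u
open CategoryTheory CategoryTheory.Limits AlgebraicGeometry Opposite TopologicalSpace

namespace Groth.Agent.Lib.Helper20.DualQCohPn

open Groth.Agent.Lib.Helper20.DualQCoh Groth.Agent.Lib.helper28

variable {n : ℕ} {A : Type u} [CommRing A] {X : Scheme.{u}}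
  (ι : X ⟶ CohB1.ProjSpace n A) [IsClosedImmersion ι]

/-- `E` is isomorphic to some `ι^* O(m)` -/
def IsTw (E : X.Modules) : Prop :=
  ∃ m : ℤ, Nonempty (E ≅ (Scheme.Modules.pullback ι).obj (Twist.twistProjSpace n A m))

theorem isAmple_pullback_one :
    CohB1.IsAmple ((Scheme.Modules.pullback ι).obj (Twist.twistProjSpace n A 1)) :=
  Groth.Agent.Lib.helper12.PullAmple.isAmple_pullback_of_isAffineHom ι
    (by simpa using TwistPn.isAmple n A 1 Nat.one_pos)

theorem isInvertible_pullback_twist (m : ℤ) :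
    PicF.IsInvertible ((Scheme.Modules.pullback ι).obj (Twist.twistProjSpace n A m)) :=
  Groth.Agent.Lib.helper11.InvMod.isInvertible_pullback ι (TwistPn.isInvertible n A m)

theorem isQuasicoherent_of_isTw {E : X.Modules} (hE : IsTw ι E) : E.IsQuasicoherent := by
  obtain ⟨m, ⟨e⟩⟩ := hE
  have h := (Groth.Agent.Lib.Lead.CurveInv.isCoh_of_isInvertible X (isInvertible_pullback_twist ι m)).1
  exact (SheafOfModules.isQuasicoherent X.ringCatSheaf).prop_of_iso e.symm h

include ι in
theorem compactSpace : CompactSpace X := (isAmple_pullback_one ι).2.1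

include ι in
theorem quasiSeparatedSpace : QuasiSeparatedSpace X := by
  have hsep : X.IsSeparated :=
    Groth.Agent.Lib.helper12.AmpleSep.isSeparated_of_isAmple (isAmple_pullback_one ι)
  infer_instance

/-- every quasi-coherent module on a closed subscheme of `P^n_A` is a quotient of a coproduct of twists -/
theorem genBy_twists (F : X.Modules) (hF : F.IsQuasicoherent) : GenBy X (IsTw ι) F := by
  haveI := hF
  have hinv0 : ClSub.IsInverseOf (Twist.twistProjSpace n A 1) (Twist.twistProjSpace n A (-1)) :=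
    ⟨TwistPn.tensorIso n A 1 (-1) ≪≫
      Groth.Agent.Lib.Helper20.TwistEquivPn.twistCongr n A (add_neg_cancel (1 : ℤ)) ≪≫
      (TwistPn.zeroIso n A).symm⟩
  have hinv := Groth.Agent.Lib.helper12.PullPic.isInverseOf_pullback' ι
    (TwistPn.isInvertible n A 1) hinv0
  obtain ⟨J, E, π, hπ, hE⟩ := Groth.Agent.Lib.helper11.AmpleGen.exists_epi_sigma_inverse_powers
    (isAmple_pullback_one ι) hinv F 0
  refine ⟨J, E, π, hπ, fun j => ?_⟩
  obtain ⟨k, -, ⟨e⟩⟩ := hE j
  obtain ⟨e2⟩ := Groth.Agent.Lib.helper7.TwistAmpleIff.nonempty_tensorPow_twist_iso n A (-1) k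
  exact ⟨(k : ℤ) * (-1), ⟨e ≪≫
    (Groth.Agent.Lib.helper12.PullAmple.pullTensorPowIso ι (TwistPn.isInvertible n A (-1)) k).symm ≪≫
    (Scheme.Modules.pullback ι).mapIso e2⟩⟩

variable [X.Over (Spec (CommRingCat.of A))]

/-- **a candidate pair which is dualizing on the twists is dualizing** -/
theorem isRDualOver_of_twists (r : ℕ) (ω : X.Modules) (hω : Coh.IsQCoh ω) (tr : Coh.HH X ω r →ₗ[A] A)
    (h : ∀ m : ℤ, Function.Bijective
      (Canon.dualityMap A X r ω tr ((Scheme.Modules.pullback ι).obj (Twist.twistProjSpace n A m))))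
    (hvan : ∀ K : X.Modules, K.IsQuasicoherent → Subsingleton (Coh.HH X K (r + 1))) :
    Canon.IsRDualOver A X r ω tr := by
  haveI := compactSpace ι
  haveI := quasiSeparatedSpace ι
  refine ⟨hω, fun F hF => ?_⟩
  refine bijective_of_genBy A r ω tr (𝒢 := IsTw ι) (fun E hE => isQuasicoherent_of_isTw ι hE) ?_
    (genBy_twists ι) hvan F hF
  rintro E ⟨m, ⟨e⟩⟩
  exact bijective_of_iso A X r ω tr e (h m)

end Groth.Agent.Lib.Helper20.DualQCohPn
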