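import Groth.Agent.Lib.Helper20.PushReg
import Groth.Agent.Lib.Helper16.FinPushCoh
import Groth.Agent.Lib.Helper16.FLF5
import Groth.Prelude.Def_KRR

/-!
# `HasEnoughLocFree` passes to closed subschemes (helper20)
-/

set_option autoImplicit false
universe u

open CategoryTheory CategoryTheory.Limits AlgebraicGeometry

namespace Groth.Agent.Lib.Helper20.ELFClosed

/-- a closed subscheme of a scheme with enough locally free modules has enough locally free modules -/
theorem hasEnoughLocFree_of_isClosedImmersion {X B : Scheme.{u}} (i : X ⟶ B) [IsClosedImmersion i]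
    (hB : KRR.HasEnoughLocFree B) : KRR.HasEnoughLocFree X := by
  intro G hG
  haveI : G.IsQuasicoherent := hG.1
  have hpush : Coh.IsCoh ((Scheme.Modules.pushforward i).obj G) :=
    Groth.Agent.Lib.helper16.FinPushCoh.isCoh_push_of_isFinite i G hG
  obtain ⟨E, p, hE, hp⟩ := hB _ hpush
  haveI := hp
  refine ⟨(Scheme.Modules.pullback i).obj E,
    (Scheme.Modules.pullback i).map p ≫
      (Scheme.Modules.pullbackPushforwardAdjunction i).counit.app G,
    Groth.Agent.Lib.helper16.FLF.isFinLocFree_pullback _ hE, ?_⟩
  haveI : Epi ((Scheme.Modules.pullback i).map p) := inferInstance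
  haveI : Epi ((Scheme.Modules.pullbackPushforwardAdjunction i).counit.app G) :=
    Groth.Agent.Lib.helper20.PushReg.epi_counit_of_isAffineHom i G
  exact epi_comp _ _

end Groth.Agent.Lib.Helper20.ELFClosed
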