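import Mathlib

/-!
# Constant matrices acting on copowers in a `k`-linear category; splitting a kernel (helper20)

* `constHom L T : ∐_{Fin a} L ⟶ ∐_{Fin b} L` for a matrix `T : Matrix (Fin a) (Fin b) k`, with
  `constHom_mul`, `constHom_one`, `constHom_zero`, `constHom_add`.
* `kernelSplitIso`: for a split short exact sequence `0 → B → K → K' → 0` and `ρ₀ : K' ⟶ D`,
  `kernel (μ ≫ ρ₀) ≅ kernel ρ₀ ⊞ B`.
* `exists_complement`: a matrix `M` with a left inverse `N` (`N * M = 1`) admits complementary
  matrices `κ`, `π`.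
-/

set_option autoImplicit false

open CategoryTheory CategoryTheory.Limits

namespace Groth.Agent.Lib.Helper20.LinCat

universe v u' w

noncomputable section

section Const

variable {k : Type w} [Field k] {C : Type u'} [Category.{v} C] [Preadditive C] [Linear k C]
  [HasFiniteCoproducts C]

/-- the morphism of copowers given by a constant matrix (row-vector convention) -/
def constHom {a b : ℕ} (L : C) (T : Matrix (Fin a) (Fin b) k) :
    (∐ fun _ : Fin a => L) ⟶ ∐ fun _ : Fin b => L :=
  Sigma.desc fun i => ∑ j, T i j • Sigma.ι (fun _ : Fin b => L) j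

@[reassoc]
lemma ι_constHom {a b : ℕ} (L : C) (T : Matrix (Fin a) (Fin b) k) (i : Fin a) :
    Sigma.ι (fun _ : Fin a => L) i ≫ constHom L T = ∑ j, T i j • Sigma.ι (fun _ : Fin b => L) j :=
  Sigma.ι_desc _ _

lemma constHom_mul {a b c : ℕ} (L : C) (T : Matrix (Fin a) (Fin b) k)
    (T' : Matrix (Fin b) (Fin c) k) : constHom L T ≫ constHom L T' = constHom L (T * T') := by
  apply Sigma.hom_ext
  intro i
  rw [ι_constHom_assoc, Preadditive.sum_comp, ι_constHom]
  have h1 : ∀ j, (T i j • Sigma.ι (fun _ : Fin b => L) j) ≫ constHom L T' =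
      ∑ l, (T i j * T' j l) • Sigma.ι (fun _ : Fin c => L) l := by
    intro j
    rw [Linear.smul_comp, ι_constHom, Finset.smul_sum]
    refine Finset.sum_congr rfl fun l _ => ?_
    rw [smul_smul]
  rw [Finset.sum_congr rfl (fun j _ => h1 j), Finset.sum_comm]
  refine Finset.sum_congr rfl fun l _ => ?_
  rw [← Finset.sum_smul, Matrix.mul_apply]

lemma constHom_one {a : ℕ} (L : C) : constHom L (1 : Matrix (Fin a) (Fin a) k) = 𝟙 _ := by
  apply Sigma.hom_ext
  intro i
  rw [ι_constHom, Category.comp_id, Finset.sum_eq_single i]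
  · rw [Matrix.one_apply_eq, one_smul]
  · intro j _ hji
    rw [Matrix.one_apply_ne (Ne.symm hji), zero_smul]
  · intro h
    exact absurd (Finset.mem_univ i) h

lemma constHom_zero {a b : ℕ} (L : C) : constHom L (0 : Matrix (Fin a) (Fin b) k) = 0 := by
  apply Sigma.hom_ext
  intro i
  rw [ι_constHom, comp_zero]
  refine Finset.sum_eq_zero fun j _ => ?_
  rw [Matrix.zero_apply, zero_smul]

lemma constHom_add {a b : ℕ} (L : C) (T T' : Matrix (Fin a) (Fin b) k) :
    constHom L (T + T') = constHom L T + constHom L T' := by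
  apply Sigma.hom_ext
  intro i
  rw [Preadditive.comp_add, ι_constHom, ι_constHom, ι_constHom, ← Finset.sum_add_distrib]
  refine Finset.sum_congr rfl fun j _ => ?_
  rw [Matrix.add_apply, add_smul]

end Const

section Kernel

variable {C : Type u'} [Category.{v} C] [Abelian C]

/-- `kernel (μ ≫ ρ₀) ≅ kernel ρ₀ ⊞ B` for a split exact sequence `0 → B → K → K' → 0` -/
def kernelSplitIso {K K' B D : C} (κ : B ⟶ K) (π : K ⟶ B) (μ : K ⟶ K') (ν : K' ⟶ K)
    (ρ₀ : K' ⟶ D) (h1 : κ ≫ π = 𝟙 B) (h2 : ν ≫ μ = 𝟙 K') (h3 : κ ≫ μ = 0) (h4 : ν ≫ π = 0)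
    (h5 : π ≫ κ + μ ≫ ν = 𝟙 K) : kernel (μ ≫ ρ₀) ≅ kernel ρ₀ ⊞ B where
  hom := biprod.lift
    (kernel.lift ρ₀ (kernel.ι (μ ≫ ρ₀) ≫ μ) (by rw [Category.assoc, kernel.condition]))
    (kernel.ι (μ ≫ ρ₀) ≫ π)
  inv := biprod.desc
    (kernel.lift (μ ≫ ρ₀) (kernel.ι ρ₀ ≫ ν) (by
      rw [Category.assoc, ← Category.assoc ν, h2, Category.id_comp, kernel.condition]))
    (kernel.lift (μ ≫ ρ₀) κ (by rw [← Category.assoc, h3, zero_comp]))
  hom_inv_id := by
    apply (cancel_mono (kernel.ι (μ ≫ ρ₀))).mp
    simp only [biprod.lift_desc, Preadditive.add_comp, Category.assoc, kernel.lift_ι,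
      kernel.lift_ι_assoc, Category.id_comp]
    rw [← Preadditive.comp_add, add_comm, h5, Category.comp_id]
  inv_hom_id := by
    apply biprod.hom_ext'
    · apply biprod.hom_ext
      · rw [biprod.inl_desc_assoc, Category.assoc, biprod.lift_fst, Category.comp_id,
          biprod.inl_fst, ← cancel_mono (kernel.ι ρ₀), Category.assoc, kernel.lift_ι,
          ← Category.assoc, kernel.lift_ι, Category.assoc, h2, Category.comp_id, Category.id_comp]
      · rw [biprod.inl_desc_assoc, Category.assoc, biprod.lift_snd, Category.comp_id,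
          biprod.inl_snd, ← Category.assoc, kernel.lift_ι, Category.assoc, h4, comp_zero]
    · apply biprod.hom_ext
      · rw [biprod.inr_desc_assoc, Category.assoc, biprod.lift_fst, Category.comp_id,
          biprod.inr_fst, ← cancel_mono (kernel.ι ρ₀), Category.assoc, kernel.lift_ι,
          ← Category.assoc, kernel.lift_ι, h3, zero_comp]
      · rw [biprod.inr_desc_assoc, Category.assoc, biprod.lift_snd, Category.comp_id,
          biprod.inr_snd, ← Category.assoc, kernel.lift_ι, h1]

end Kernel

section Matrix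

variable {k : Type w} [Field k]

/-- complementary matrices for a matrix with a left inverse -/
theorem exists_complement {a b : ℕ} (M : Matrix (Fin a) (Fin b) k) (N : Matrix (Fin b) (Fin a) k)
    (h : N * M = 1) :
    ∃ (κ : Matrix (Fin (a - b)) (Fin a) k) (π : Matrix (Fin a) (Fin (a - b)) k),
      κ * π = 1 ∧ κ * M = 0 ∧ N * π = 0 ∧ π * κ + M * N = 1 := by
  let f : (Fin a → k) →ₗ[k] (Fin b → k) := Matrix.toLinearMapRight' M
  let g : (Fin b → k) →ₗ[k] (Fin a → k) := Matrix.toLinearMapRight' N
  have hfg : f ∘ₗ g = LinearMap.id := by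
    rw [← Matrix.toLinearMapRight'_mul, h, Matrix.toLinearMapRight'_one]
  have hsurj : Function.Surjective f := fun w => ⟨g w, LinearMap.congr_fun hfg w⟩
  have hrank : Module.finrank k (LinearMap.ker f) = a - b := by
    have h1 := LinearMap.finrank_range_add_finrank_ker f
    rw [LinearMap.range_eq_top.mpr hsurj, finrank_top, Module.finrank_fin_fun,
      Module.finrank_fin_fun] at h1
    omega
  let ε : LinearMap.ker f ≃ₗ[k] (Fin (a - b) → k) :=
    (Module.finBasisOfFinrankEq k (LinearMap.ker f) hrank).equivFun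
  let Q : (Fin a → k) →ₗ[k] (Fin a → k) := LinearMap.id - g ∘ₗ f
  have hQ : ∀ v, Q v ∈ LinearMap.ker f := by
    intro v
    rw [LinearMap.mem_ker]
    change f (v - g (f v)) = 0
    rw [map_sub, show f (g (f v)) = f v from LinearMap.congr_fun hfg (f v), sub_self]
  let κl : (Fin (a - b) → k) →ₗ[k] (Fin a → k) := (LinearMap.ker f).subtype ∘ₗ ε.symm.toLinearMap
  let πl : (Fin a → k) →ₗ[k] (Fin (a - b) → k) := ε.toLinearMap ∘ₗ Q.codRestrict _ hQ
  refine ⟨LinearMap.toMatrixRight' κl, LinearMap.toMatrixRight' πl, ?_, ?_, ?_, ?_⟩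
  · apply Matrix.toLinearMapRight'.injective
    rw [Matrix.toLinearMapRight'_mul, Matrix.toLinearMapRight'_one]
    erw [LinearEquiv.apply_symm_apply, LinearEquiv.apply_symm_apply]
    apply LinearMap.ext
    intro c
    change ε (Q.codRestrict _ hQ ((ε.symm c : LinearMap.ker f) : Fin a → k)) = c
    have h2 : Q.codRestrict _ hQ ((ε.symm c : LinearMap.ker f) : Fin a → k) = ε.symm c := by
      apply Subtype.ext
      change (ε.symm c : Fin a → k) - g (f (ε.symm c : Fin a → k)) = _
      rw [LinearMap.mem_ker.mp (ε.symm c).2, map_zero, sub_zero]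
    rw [h2, LinearEquiv.apply_symm_apply]
  · apply Matrix.toLinearMapRight'.injective
    rw [Matrix.toLinearMapRight'_mul, map_zero]
    erw [LinearEquiv.apply_symm_apply]
    apply LinearMap.ext
    intro c
    change f ((ε.symm c : LinearMap.ker f) : Fin a → k) = 0
    exact LinearMap.mem_ker.mp (ε.symm c).2
  · apply Matrix.toLinearMapRight'.injective
    rw [Matrix.toLinearMapRight'_mul, map_zero]
    erw [LinearEquiv.apply_symm_apply]
    apply LinearMap.ext
    intro w
    change ε (Q.codRestrict _ hQ (g w)) = 0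
    have h2 : Q.codRestrict _ hQ (g w) = 0 := by
      apply Subtype.ext
      change g w - g (f (g w)) = 0
      rw [show f (g w) = w from LinearMap.congr_fun hfg w, sub_self]
    rw [h2, map_zero]
  · apply Matrix.toLinearMapRight'.injective
    rw [map_add, Matrix.toLinearMapRight'_mul, Matrix.toLinearMapRight'_mul,
      Matrix.toLinearMapRight'_one]
    erw [LinearEquiv.apply_symm_apply, LinearEquiv.apply_symm_apply]
    apply LinearMap.ext
    intro v
    change ((ε.symm (ε (Q.codRestrict _ hQ v)) : LinearMap.ker f) : Fin a → k) + g (f v) = v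
    rw [LinearEquiv.symm_apply_apply]
    change v - g (f v) + g (f v) = v
    abel

end Matrix

end

end Groth.Agent.Lib.Helper20.LinCat
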