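import Mathlib
import Groth.Prelude.Def_CohB1

/-!
# Linear forms and rational points of projective space over a field (helper20)

* `cf p t`, `linear_form_eq`: a linear form is `∑ X t * C (cf p t)`.
* `pt c hc : ProjectiveSpectrum (polyGrading m k)` for `c ≠ 0`: the `k`-point with coordinates `c`;
  `mem_pt_of_linear` and `X_notMem_pt`.
* `exists_leftInverse_or_vanish`: a matrix either has a left inverse or kills a nonzero vector.
-/

set_option autoImplicit false
universe u

open MvPolynomial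

namespace Groth.Agent.Lib.Helper20.LinForms

noncomputable section

variable {k : Type u} [Field k] {m : ℕ}

local notation "S" => MvPolynomial (Fin (m + 1)) k
local notation "𝒜ₘ" => CohB1.polyGrading m k

/-- the coefficient of `X t` in a linear form -/
def cf (p : S) (t : Fin (m + 1)) : k := coeff 0 (pderiv t p)

theorem pderiv_eq_C {p : S} (hp : p.IsHomogeneous 1) (t : Fin (m + 1)) :
    pderiv t p = C (cf p t) := by
  have h := hp.pderiv (i := t)
  rw [show 1 - 1 = 0 from rfl, ← totalDegree_zero_iff_isHomogeneous,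
    totalDegree_eq_zero_iff_eq_C] at h
  exact h

theorem linear_form_eq {p : S} (hp : p.IsHomogeneous 1) : p = ∑ t, X t * C (cf p t) := by
  have h := hp.sum_X_mul_pderiv
  rw [one_smul] at h
  conv_lhs => rw [← h]
  exact Finset.sum_congr rfl fun t _ => by rw [pderiv_eq_C hp]

/-- evaluation on the line through `c`: `X t ↦ c t * T` -/
def evPt (c : Fin (m + 1) → k) : S →+* Polynomial k :=
  eval₂Hom Polynomial.C (fun t => Polynomial.C (c t) * Polynomial.X)

@[simp] lemma evPt_X (c : Fin (m + 1) → k) (t : Fin (m + 1)) :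
    evPt c (X t) = Polynomial.C (c t) * Polynomial.X := eval₂Hom_X' _ _ _

@[simp] lemma evPt_C (c : Fin (m + 1) → k) (a : k) : evPt c (C a) = Polynomial.C a :=
  eval₂Hom_C _ _ _

lemma evPt_linear (c : Fin (m + 1) → k) {p : S} (hp : p.IsHomogeneous 1) :
    evPt c p = Polynomial.C (∑ t, c t * cf p t) * Polynomial.X := by
  conv_lhs => rw [linear_form_eq hp]
  rw [map_sum, map_sum, Finset.sum_mul]
  refine Finset.sum_congr rfl fun t _ => ?_
  rw [map_mul, evPt_X, evPt_C, map_mul]
  ring

/-- the homogeneous ideal of the point with coordinates `c` -/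
def ptIdeal (c : Fin (m + 1) → k) : HomogeneousIdeal 𝒜ₘ :=
  (RingHom.ker (evPt c)).homogeneousCore 𝒜ₘ

lemma ptIdeal_le (c : Fin (m + 1) → k) : (ptIdeal c).toIdeal ≤ RingHom.ker (evPt c) :=
  Ideal.toIdeal_homogeneousCore_le 𝒜ₘ _

lemma X_notMem_ptIdeal (c : Fin (m + 1) → k) (t : Fin (m + 1)) (ht : c t ≠ 0) :
    (X t : S) ∉ ptIdeal c := by
  intro h
  have h1 := ptIdeal_le c h
  rw [RingHom.mem_ker, evPt_X] at h1
  have h2 := congrArg (fun q => Polynomial.coeff q 1) h1
  simp only [Polynomial.coeff_C_mul, Polynomial.coeff_X_one, mul_one, Polynomial.coeff_zero] at h2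
  exact ht h2

lemma X_mem_irrelevant (t : Fin (m + 1)) : (X t : S) ∈ HomogeneousIdeal.irrelevant 𝒜ₘ := by
  rw [HomogeneousIdeal.mem_irrelevant_iff]
  have hX : (X t : S) ∈ 𝒜ₘ 1 := isHomogeneous_X k t
  rw [GradedRing.proj_apply, DirectSum.decompose_of_mem_ne 𝒜ₘ hX (by norm_num)]

/-- the `k`-point of projective space with coordinates `c ≠ 0` -/
def pt (c : Fin (m + 1) → k) (hc : c ≠ 0) : ProjectiveSpectrum 𝒜ₘ where
  asHomogeneousIdeal := ptIdeal c
  isPrime := Ideal.IsPrime.homogeneousCore (RingHom.ker_isPrime (evPt c))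
  not_irrelevant_le := by
    intro hle
    obtain ⟨t, ht⟩ : ∃ t, c t ≠ 0 := by
      by_contra hcon
      push Not at hcon
      exact hc (funext hcon)
    exact X_notMem_ptIdeal c t ht (hle (X_mem_irrelevant t))

lemma mem_pt_of_linear (c : Fin (m + 1) → k) (hc : c ≠ 0) {p : S} (hp : p.IsHomogeneous 1)
    (h0 : ∑ t, c t * cf p t = 0) : p ∈ (pt c hc).asHomogeneousIdeal := by
  refine Ideal.mem_homogeneousCore_of_homogeneous_of_mem ⟨1, hp⟩ ?_
  rw [RingHom.mem_ker, evPt_linear c hp, h0, map_zero, zero_mul]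

/-- a matrix has a left inverse or kills a nonzero vector -/
theorem exists_leftInverse_or_vanish {a b : ℕ} (M : Matrix (Fin a) (Fin b) k) :
    (∃ N : Matrix (Fin b) (Fin a) k, N * M = 1) ∨
      ∃ c : Fin b → k, c ≠ 0 ∧ ∀ i, ∑ t, c t * M i t = 0 := by
  by_cases hinj : Function.Injective (Matrix.mulVecLin M)
  · left
    obtain ⟨g, hg⟩ := LinearMap.exists_leftInverse_of_injective (Matrix.mulVecLin M)
      (LinearMap.ker_eq_bot.mpr hinj)
    refine ⟨LinearMap.toMatrix' g, ?_⟩
    have h1 : LinearMap.toMatrix' (g ∘ₗ Matrix.mulVecLin M) = 1 := by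
      rw [hg, LinearMap.toMatrix'_id]
    rw [LinearMap.toMatrix'_comp, ← Matrix.toLin'_apply', LinearMap.toMatrix'_toLin'] at h1
    exact h1
  · right
    rw [← LinearMap.ker_eq_bot, Submodule.eq_bot_iff] at hinj
    push Not at hinj
    obtain ⟨c, hc, hc0⟩ := hinj
    refine ⟨c, hc0, fun i => ?_⟩
    have h1 : (Matrix.mulVec M c) i = 0 := congrFun (LinearMap.mem_ker.mp hc) i
    rw [← h1]
    exact Finset.sum_congr rfl fun t _ => mul_comm _ _

end

end Groth.Agent.Lib.Helper20.LinForms
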