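import Mathlib
import Groth.Agent.Lib.Helper20.ProjMulHom
import Groth.Agent.Lib.Helper28.TwistSecHom

/-!
# Multiplication by `f` is an isomorphism `O(a) ≅ O(a + d)` over `D₊(f)` (helper20)
-/

set_option autoImplicit false
set_option linter.style.haveILetI false
universe u

open CategoryTheory CategoryTheory.Limits AlgebraicGeometry Opposite TopologicalSpace
open Scheme.Modules Groth.Agent.Lib.helper7

namespace Groth.Agent.Lib.Helper20.MulHomIso

open Groth.Agent.Lib.helper28.GrFrac Groth.Agent.Lib.helper28.TwistSec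
  Groth.Agent.Lib.helper28.TwistFree Groth.Agent.Lib.helper28.TwistMul
  Groth.Agent.Lib.Helper20.ProjMulHom Groth.Agent.Lib.helper28.TwistSecHom

noncomputable section

variable {R A : Type u} [CommRing R] [CommRing A] [Algebra R A] (𝒜 : ℕ → Submodule R A)
  [GradedAlgebra 𝒜]

lemma isUnit_mkOne {d : ℕ} (f : 𝒜 d) (x : ProjectiveSpectrum 𝒜)
    (hx : f.1 ∉ x.asHomogeneousIdeal) : IsUnit (mkOne 𝒜 f.1 x) := by
  unfold mkOne
  rw [Localization.mk_eq_mk', IsLocalization.AtPrime.isUnit_mk'_iff]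
  exact hx

/-- multiplication by `f` is bijective on sections over an open on which `f` is invertible -/
theorem bijective_mulSec {a b : ℤ} {d : ℕ} (h : a + (d : ℤ) = b) (f : 𝒜 d)
    (W : Opens (ProjectiveSpectrum.top 𝒜)) (hW : ∀ x : W, f.1 ∉ x.1.asHomogeneousIdeal) :
    Function.Bijective (mulSec 𝒜 h f W) := by
  constructor
  · intro σ σ' hσ
    refine sectN_ext' 𝒜 _ _ fun x => ?_
    have h1 := congrArg (fun s : Twist.sectN (𝒜 := 𝒜) b (op W) =>
      ((s.1 x : Twist.twistAt 𝒜 b x.1) : Twist.Loc 𝒜 x.1)) hσ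
    simp only [mulSec_val] at h1
    exact (isUnit_mkOne 𝒜 f x.1 (hW x)).mul_left_injective h1
  · intro τ
    have hdeg : ((0 : ℕ) : ℤ) = (d : ℤ) + (-(d : ℤ)) := by simp
    let g : Twist.sectN (𝒜 := 𝒜) (-(d : ℤ)) (op W) :=
      fracSectN 𝒜 (-(d : ℤ)) W (⟨1, SetLike.GradedOne.one_mem⟩ : 𝒜 0) f hW hdeg
    have hba : b + (-(d : ℤ)) = a := by rw [← h]; ring
    refine ⟨castSec 𝒜 hba (mulFun 𝒜 b (-(d : ℤ)) W τ g), ?_⟩
    refine sectN_ext' 𝒜 _ _ fun x => ?_
    rw [mulSec_val, castSec_val, mulFun_val, fracSectN_val, mul_assoc]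
    have : (Localization.mk (1 : A) ⟨f.1, hW x⟩ : Twist.Loc 𝒜 x.1) * mkOne 𝒜 f.1 x.1 = 1 := by
      unfold mkOne
      rw [Localization.mk_mul, one_mul, ← Localization.mk_one, Localization.mk_eq_mk_iff,
        Localization.r_iff_exists]
      exact ⟨1, by simp⟩
    rw [this, mul_one]

/-- multiplication by `f` restricted to `D₊(f)` is an isomorphism `O(a) ≅ O(b)`. -/
theorem isIso_restrict_mulHom {a b : ℤ} {d : ℕ} (hd : 0 < d) (h : a + (d : ℤ) = b) (f : 𝒜 d) :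
    IsIso ((restrictFunctor (Proj.basicOpen 𝒜 (f : A)).ι).map (mulHom 𝒜 h f)) := by
  let U : (Proj 𝒜).Opens := Proj.basicOpen 𝒜 (f : A)
  have hU : IsAffineOpen U := Proj.isAffineOpen_basicOpen 𝒜 _ f.2 hd
  haveI : IsAffine (↑U : Scheme.{u}) := hU
  have hW : U.ι ''ᵁ ⊤ = ProjectiveSpectrum.basicOpen 𝒜 (f : A) := Scheme.Opens.ι_image_top _
  have hmem : ∀ x : (U.ι ''ᵁ ⊤ : (Proj 𝒜).Opens), (f : A) ∉ x.1.asHomogeneousIdeal :=
    fun x => (ProjectiveSpectrum.mem_basicOpen 𝒜 _ x.1).mp (hW ▸ x.2)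
  haveI h1 : ((Twist.twist 𝒜 a).restrict U.ι).IsQuasicoherent := inferInstance
  haveI h2 : ((Twist.twist 𝒜 b).restrict U.ι).IsQuasicoherent := inferInstance
  refine KerSections.isIso_of_bijective_top (X := (↑U : Scheme.{u}))
    (A := (Twist.twist 𝒜 a).restrict U.ι)
    (B := (Twist.twist 𝒜 b).restrict U.ι) ((restrictFunctor U.ι).map (mulHom 𝒜 h f)) ?_
  exact bijective_mulSec 𝒜 h f (U.ι ''ᵁ ⊤) hmem

end

end Groth.Agent.Lib.Helper20.MulHomIso
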