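import Mathlib
import Groth.Agent.Lib.Helper16.FLF6

/-!
# The cokernel of a locally split monomorphism of finite locally free modules (helper20)

* `cokernel_split_iso` : for a split mono `f : A ⟶ B` in an abelian category, `B ≅ A ⊞ coker f`.
* `isFinLocFreeOfRank_cokernel_of_split` : on a scheme, `A` of rank `a`, `B` of rank `b`, `f` split mono
  ⇒ `coker f` finite locally free of rank `b - a`.
* `isFinLocFreeOfRank_cokernel_of_locally_split` : the same for `f` split locally on `X`.
-/

set_option autoImplicit false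
universe u

open CategoryTheory CategoryTheory.Limits AlgebraicGeometry Opposite TopologicalSpace

namespace Groth.Agent.Lib.Helper20.NullCorr5

open Scheme.Modules Groth.Agent.Lib.helper16.FLF

section Abstract

variable {C : Type*} [Category C] [Abelian C] {A B : C} (f : A ⟶ B) (r : B ⟶ A)

/-- the section of the cokernel projection attached to a retraction of `f` -/
noncomputable def cokerSection (h : f ≫ r = 𝟙 A) : cokernel f ⟶ B :=
  cokernel.desc f (𝟙 B - r ≫ f) (by
    rw [Preadditive.comp_sub, Category.comp_id, ← Category.assoc, h, Category.id_comp, sub_self])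

lemma π_cokerSection (h : f ≫ r = 𝟙 A) : cokernel.π f ≫ cokerSection f r h = 𝟙 B - r ≫ f :=
  cokernel.π_desc _ _ _

lemma cokerSection_π (h : f ≫ r = 𝟙 A) : cokerSection f r h ≫ cokernel.π f = 𝟙 _ := by
  rw [← cancel_epi (cokernel.π f), ← Category.assoc, π_cokerSection, Preadditive.sub_comp,
    Category.id_comp, Category.assoc, cokernel.condition, comp_zero, sub_zero, Category.comp_id]

lemma cokerSection_r (h : f ≫ r = 𝟙 A) : cokerSection f r h ≫ r = 0 := by
  rw [← cancel_epi (cokernel.π f), ← Category.assoc, π_cokerSection, Preadditive.sub_comp,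
    Category.id_comp, Category.assoc, h, Category.comp_id, sub_self, comp_zero]

/-- `B ≅ A ⊞ coker f` for a split monomorphism `f` -/
noncomputable def cokernelSplitIso (h : f ≫ r = 𝟙 A) : B ≅ A ⊞ cokernel f where
  hom := biprod.lift r (cokernel.π f)
  inv := biprod.desc f (cokerSection f r h)
  hom_inv_id := by
    rw [biprod.lift_desc, π_cokerSection]
    abel
  inv_hom_id := by
    apply biprod.hom_ext'
    · apply biprod.hom_ext
      · simp [h]
      · simp
    · apply biprod.hom_ext
      · simp [cokerSection_r f r h]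
      · simp [cokerSection_π f r h]

end Abstract

section Scheme

variable {X : Scheme.{u}}

/-- the cokernel of a split monomorphism between modules of ranks `a`, `b` has rank `b - a` -/
theorem isFinLocFreeOfRank_cokernel_of_split {A B : X.Modules} {a b : ℕ}
    (hA : FlatMod.IsFinLocFreeOfRank a A) (hB : FlatMod.IsFinLocFreeOfRank b B)
    (f : A ⟶ B) (r : B ⟶ A) (h : f ≫ r = 𝟙 A) :
    FlatMod.IsFinLocFreeOfRank (b - a) (cokernel f) := by
  have hC : FlatMod.IsFinLocFree (cokernel f) :=
    isFinLocFree_of_retract (isFinLocFree_of_isFinLocFreeOfRank hB) (cokerSection f r h)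
      (cokernel.π f) (cokerSection_π f r h)
  intro x
  obtain ⟨V, c, hxV, ⟨e⟩⟩ := hC x
  refine ⟨V, hxV, ?_⟩
  -- ranks on `V`
  have hcV : FlatMod.IsFinLocFreeOfRank c ((cokernel f).restrict V.ι) :=
    isFinLocFreeOfRank_of_iso e.symm (isFinLocFreeOfRank_freeMod _ c)
  have haV : FlatMod.IsFinLocFreeOfRank a (A.restrict V.ι) := isFinLocFreeOfRank_restrict V.ι hA
  have hbV : FlatMod.IsFinLocFreeOfRank b (B.restrict V.ι) := isFinLocFreeOfRank_restrict V.ι hB
  have hsum : FlatMod.IsFinLocFreeOfRank (a + c) (B.restrict V.ι) := by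
    haveI : PreservesColimitsOfSize.{0, 0} (restrictFunctor V.ι) :=
      (restrictAdjunction V.ι).leftAdjoint_preservesColimits
    haveI := preservesBinaryBiproducts_of_preservesBinaryCoproducts (restrictFunctor V.ι)
    exact isFinLocFreeOfRank_of_iso
      ((restrictFunctor V.ι).mapIso (cokernelSplitIso f r h) ≪≫
        (restrictFunctor V.ι).mapBiprod A (cokernel f)).symm
      (isFinLocFreeOfRank_biprod haV hcV)
  haveI : Nonempty (↑V : Scheme.{u}) := ⟨⟨x, hxV⟩⟩
  have hbc : a + c = b := rank_unique_of_isFinLocFreeOfRank _ hsum hbV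
  have : c = b - a := by omega
  rw [← this]
  exact ⟨e⟩

/-- the cokernel of a locally split monomorphism between modules of ranks `a`, `b` has rank
`b - a` -/
theorem isFinLocFreeOfRank_cokernel_of_locally_split {A B : X.Modules} {a b : ℕ}
    (hA : FlatMod.IsFinLocFreeOfRank a A) (hB : FlatMod.IsFinLocFreeOfRank b B) (f : A ⟶ B)
    (hloc : ∀ x : X, ∃ U : X.Opens, x ∈ U ∧
      ∃ r : (restrictFunctor U.ι).obj B ⟶ (restrictFunctor U.ι).obj A,
        (restrictFunctor U.ι).map f ≫ r = 𝟙 _) :
    FlatMod.IsFinLocFreeOfRank (b - a) (cokernel f) := by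
  refine isFinLocFreeOfRank_of_forall_restrict _ (fun x => ?_)
  obtain ⟨U, hxU, r, hr⟩ := hloc x
  refine ⟨U, hxU, ?_⟩
  haveI : PreservesColimitsOfSize.{0, 0} (restrictFunctor U.ι) :=
    (restrictAdjunction U.ι).leftAdjoint_preservesColimits
  have h1 : FlatMod.IsFinLocFreeOfRank (b - a) (cokernel ((restrictFunctor U.ι).map f)) :=
    isFinLocFreeOfRank_cokernel_of_split (isFinLocFreeOfRank_restrict U.ι hA)
      (isFinLocFreeOfRank_restrict U.ι hB) _ r hr
  exact isFinLocFreeOfRank_of_iso (PreservesCokernel.iso (restrictFunctor U.ι) f).symm h1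

end Scheme

end Groth.Agent.Lib.Helper20.NullCorr5
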