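import Mathlib
import Groth.Agent.Lib.Helper18.HHLES
import Groth.Agent.Lib.Helper18.HHZero
import Groth.Agent.Lib.Helper7.LocalLift

/-!
# Extending morphisms along a monomorphism with cokernel `O_X` when `H¹` vanishes (helper20)

For a short exact sequence `0 → M' → M → Q → 0` of `O_X`-modules with `Q ≅ O_X` and an `O_X`-module
`F` with `H¹(X, F) = 0`, every morphism `M' ⟶ F` extends to `M`.
-/

set_option autoImplicit false
universe u

open CategoryTheory CategoryTheory.Limits AlgebraicGeometry Opposite TopologicalSpace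

namespace Groth.Agent.Lib.helper20.ExtUnit

open Groth.Agent.Lib.Helper18.HH

noncomputable section

variable {X : Scheme.{u}}

/-- the pushout of a short exact sequence along a morphism out of the kernel is short exact -/
theorem shortExact_pushout {S : ShortComplex X.Modules} (hS : S.ShortExact) {F : X.Modules}
    (ψ : S.X₁ ⟶ F) :
    ∃ (q : pushout S.f ψ ⟶ S.X₃) (w : pushout.inr S.f ψ ≫ q = 0),
      pushout.inl S.f ψ ≫ q = S.g ∧ (ShortComplex.mk (pushout.inr S.f ψ) q w).ShortExact := by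
  haveI : Mono S.f := hS.mono_f
  haveI : Epi S.g := hS.epi_g
  let q : pushout S.f ψ ⟶ S.X₃ := pushout.desc S.g 0 (by rw [S.zero, comp_zero])
  have hl : pushout.inl S.f ψ ≫ q = S.g := pushout.inl_desc _ _ _
  have hr : pushout.inr S.f ψ ≫ q = 0 := pushout.inr_desc _ _ _
  refine ⟨q, hr, hl, ?_⟩
  haveI : Epi q := epi_of_epi_fac hl
  have hc : IsColimit (CokernelCofork.ofπ q hr) := by
    refine CokernelCofork.IsColimit.ofπ q hr
      (fun {T} t ht => hS.exact.desc (pushout.inl S.f ψ ≫ t) (by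
        rw [← Category.assoc, pushout.condition, Category.assoc, ht, comp_zero]))
      (fun {T} t ht => ?_) (fun {T} t ht m hm => ?_)
    · apply pushout.hom_ext
      · rw [← Category.assoc, hl]
        exact hS.exact.g_desc _ _
      · rw [← Category.assoc, hr, zero_comp, ht]
    · rw [← cancel_epi S.g]
      rw [hS.exact.g_desc, ← hm, ← Category.assoc, hl]
  exact
    { exact := ShortComplex.exact_of_g_is_cokernel _ hc
      mono_f := inferInstanceAs (Mono (pushout.inr S.f ψ))
      epi_g := inferInstanceAs (Epi q) }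

/-- global sections surject when `H¹` of the kernel vanishes -/
theorem surjective_top {S : ShortComplex X.Modules} (hS : S.ShortExact)
    (h : Subsingleton (Coh.HH X S.X₁ 1)) :
    Function.Surjective (S.g.val.app (op ⊤)).hom := by
  intro u
  have hx : δ hS 0 ((equiv₀ S.X₃).symm u) = 0 := Subsingleton.elim _ _
  obtain ⟨y, hy⟩ := (exact₃ hS 0 ((equiv₀ S.X₃).symm u)).mp hx
  refine ⟨equiv₀ S.X₂ y, ?_⟩
  rw [← equiv₀_naturality, hy, LinearEquiv.apply_symm_apply]

/-- the morphism `O_X ⟶ N` attached to a global section -/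
def ofSection (N : X.Modules) (s : N.val.obj (op ⊤)) : Coh.structureModule X ⟶ N :=
  (SheafOfModules.unitHomEquiv (R := X.ringCatSheaf) N).symm
    (Groth.Agent.Lib.helper7.LocalLift.secOfTop N s)

lemma unit_hom_ext {N : X.Modules} (a b : Coh.structureModule X ⟶ N)
    (h : (a.val.app (op ⊤)).hom (1 : X.ringCatSheaf.obj.obj (op ⊤)) =
      (b.val.app (op ⊤)).hom (1 : X.ringCatSheaf.obj.obj (op ⊤))) : a = b := by
  apply (SheafOfModules.unitHomEquiv (R := X.ringCatSheaf) N).injective
  apply Groth.Agent.Lib.helper7.LocalLift.sections_ext_top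
  exact h

lemma ofSection_app_one (N : X.Modules) (s : N.val.obj (op ⊤)) :
    ((ofSection N s).val.app (op ⊤)).hom (1 : X.ringCatSheaf.obj.obj (op ⊤)) = s := by
  have h := (SheafOfModules.unitHomEquiv (R := X.ringCatSheaf) N).apply_symm_apply
    (Groth.Agent.Lib.helper7.LocalLift.secOfTop N s)
  have h2 := congrArg (fun t => t.val (op ⊤)) h
  refine Eq.trans h2 ?_
  change N.presheaf.map (homOfLE (le_top : (⊤ : X.Opens) ≤ ⊤)).op s = s
  have : (homOfLE (le_top : (⊤ : X.Opens) ≤ ⊤)).op = 𝟙 (op (⊤ : X.Opens)) := rfl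
  rw [this, N.presheaf.map_id]
  rfl

/-- a short exact sequence with third term `O_X` and `H¹` of the first term zero is split -/
theorem exists_section {S : ShortComplex X.Modules} (hS : S.ShortExact)
    (e : S.X₃ ≅ Coh.structureModule X) (h : Subsingleton (Coh.HH X S.X₁ 1)) :
    ∃ σ : S.X₃ ⟶ S.X₂, σ ≫ S.g = 𝟙 S.X₃ := by
  obtain ⟨s, hs⟩ := surjective_top hS h
    ((e.inv.val.app (op ⊤)).hom (1 : X.ringCatSheaf.obj.obj (op ⊤)))
  refine ⟨e.hom ≫ ofSection S.X₂ s, ?_⟩
  have h1 : ofSection S.X₂ s ≫ S.g = e.inv := by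
    apply unit_hom_ext
    refine Eq.trans ?_ hs
    change (S.g.val.app (op ⊤)).hom (((ofSection S.X₂ s).val.app (op ⊤)).hom
      (1 : X.ringCatSheaf.obj.obj (op ⊤))) = _
    rw [ofSection_app_one]
  rw [Category.assoc, h1, Iso.hom_inv_id]

/-- **Extension**: if `0 → M' → M → Q → 0` is exact with `Q ≅ O_X` and `H¹(X, F) = 0`, then every
morphism `M' ⟶ F` extends to `M`. -/
theorem exists_extension {S : ShortComplex X.Modules} (hS : S.ShortExact)
    (e : S.X₃ ≅ Coh.structureModule X) (F : X.Modules)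
    (hF : Subsingleton (Coh.HH X F 1)) (ψ : S.X₁ ⟶ F) : ∃ Ψ : S.X₂ ⟶ F, S.f ≫ Ψ = ψ := by
  obtain ⟨q, w, hl, hT⟩ := shortExact_pushout hS ψ
  obtain ⟨σ, hσ⟩ := exists_section (S := ShortComplex.mk (pushout.inr S.f ψ) q w) hT e hF
  let sp := ShortComplex.Splitting.ofExactOfSection _ hT.exact σ hσ hT.mono_f
  refine ⟨pushout.inl S.f ψ ≫ sp.r, ?_⟩
  rw [← Category.assoc, pushout.condition, Category.assoc]
  have := sp.f_r
  change pushout.inr S.f ψ ≫ sp.r = 𝟙 F at this
  rw [this, Category.comp_id]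

end

end Groth.Agent.Lib.helper20.ExtUnit
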