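import Mathlib
import Groth.Agent.Lib.Helper20.Euler4e
import Groth.Agent.Lib.Helper20.ProjH0

/-!
# Morphisms `O(-1) ⟶ O(b)` on projective space are multiplications by homogeneous polynomials
(helper20)
-/

set_option autoImplicit false
universe u

open CategoryTheory CategoryTheory.Limits AlgebraicGeometry Opposite TopologicalSpace

namespace Groth.Agent.Lib.helper20.TwistHom

open Groth.Agent.Lib.helper20.TwistVal
  Groth.Agent.Lib.helper28.TwistFree Groth.Agent.Lib.helper28.TwistMul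
  Groth.Agent.Lib.Helper20.ProjMulHom Groth.Agent.Lib.helper20.Euler3
  Groth.Agent.Lib.helper20.Euler2 Groth.Agent.Lib.helper20.Euler3a
  Groth.Agent.Lib.helper20.Euler4a Groth.Agent.Lib.helper20.Euler4d
  Groth.Agent.Lib.helper20.Euler4e

noncomputable section

variable {n : ℕ} {A : Type u} [CommRing A]

local notation "𝒜ₙ" => CohB1.polyGrading n A
local notation "S" => MvPolynomial (Fin (n + 1)) A

/-- the generator `1 / X_i` of `O(-1)` on an open inside the chart `D₊(X_i)` -/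
def gen (i : Fin (n + 1)) (U : (Proj 𝒜ₙ).Opens)
    (hU : ∀ x : U, (MvPolynomial.X i : S) ∉ x.1.asHomogeneousIdeal) :
    Γ(Twist.twist 𝒜ₙ (-1), U) :=
  ofSec 𝒜ₙ (fracSectN 𝒜ₙ (-1) U (i := 0) (j := 1)
    ⟨1, SetLike.GradedOne.one_mem⟩ ⟨MvPolynomial.X i, MvPolynomial.isHomogeneous_X A i⟩ hU
    (by norm_num))

lemma valO_gen (i : Fin (n + 1)) (U : (Proj 𝒜ₙ).Opens)
    (hU : ∀ x : U, (MvPolynomial.X i : S) ∉ x.1.asHomogeneousIdeal) (x : U) :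
    valO 𝒜ₙ (gen i U hU) x = eta i x.1 (hU x) := rfl

lemma gen_res (i : Fin (n + 1)) {U V : (Proj 𝒜ₙ).Opens}
    (hU : ∀ x : U, (MvPolynomial.X i : S) ∉ x.1.asHomogeneousIdeal)
    (hV : ∀ x : V, (MvPolynomial.X i : S) ∉ x.1.asHomogeneousIdeal) (hVU : V ≤ U) :
    (Twist.twist 𝒜ₙ (-1)).presheaf.map (homOfLE hVU).op (gen i U hU) = gen i V hV :=
  valO_ext _ _ fun _ => rfl

/-- gluing sections of `O(m)` given on the standard charts -/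
lemma exists_glue (m : ℤ) (τ : ∀ i : Fin (n + 1), Γ(Twist.twist 𝒜ₙ m, U0 n A i))
    (h : ∀ (i j : Fin (n + 1)) (x : Proj 𝒜ₙ) (hi : x ∈ U0 n A i) (hj : x ∈ U0 n A j),
      valO 𝒜ₙ (τ i) ⟨x, hi⟩ = valO 𝒜ₙ (τ j) ⟨x, hj⟩) :
    ∃ t : Γ(Twist.twist 𝒜ₙ m, (⊤ : (Proj 𝒜ₙ).Opens)), ∀ (i : Fin (n + 1)) (x : U0 n A i),
      valO 𝒜ₙ t ⟨x.1, trivial⟩ = valO 𝒜ₙ (τ i) x := by
  classical
  have hex : ∀ x : Proj 𝒜ₙ, ∃ i, x ∈ U0 n A i := fun x => by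
    obtain ⟨i, hi⟩ := Groth.Agent.Lib.helper28.TwistPn.exists_X_notMem n A x
    exact ⟨i, (Proj.mem_basicOpen 𝒜ₙ _ x).mpr hi⟩
  choose ix hix using hex
  let f : ∀ x : (⊤ : (Proj 𝒜ₙ).Opens), Twist.twistAt 𝒜ₙ m x.1 := fun x =>
    (toSec 𝒜ₙ (τ (ix x.1))).1 ⟨x.1, hix x.1⟩
  have hf : ∀ (i : Fin (n + 1)) (x : Proj 𝒜ₙ) (hi : x ∈ U0 n A i),
      f ⟨x, trivial⟩ = (toSec 𝒜ₙ (τ i)).1 ⟨x, hi⟩ := fun i x hi =>
    Subtype.ext (h (ix x) i x (hix x) hi)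
  have hpred : (Twist.isLocFracN 𝒜ₙ m).pred f := by
    intro x
    obtain ⟨V, hxV, iV, hfrac⟩ := (toSec 𝒜ₙ (τ (ix x.1))).2 ⟨x.1, hix x.1⟩
    refine ⟨V, hxV, homOfLE le_top, ?_⟩
    obtain ⟨i', j, a, s, nin, hd, w⟩ := hfrac
    exact ⟨i', j, a, s, nin, hd, fun y =>
      (congrArg Subtype.val (hf (ix x.1) y.1 (iV y).2)).trans (w y)⟩
  refine ⟨ofSec 𝒜ₙ ⟨f, hpred⟩, fun i x => ?_⟩
  exact congrArg Subtype.val (hf i x.1 x.2)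

section Hom

variable [QuasiSeparated (fP n A)]

/-- a morphism out of `O(-1)` is determined on a chart by the image of the generator -/
lemma valO_hom_chart {b : ℤ} (θ : Twist.twist 𝒜ₙ (-1) ⟶ Twist.twist 𝒜ₙ b) (i : Fin (n + 1))
    (U : (Proj 𝒜ₙ).Opens) (hU : ∀ x : U, (MvPolynomial.X i : S) ∉ x.1.asHomogeneousIdeal)
    (σ : Γ(Twist.twist 𝒜ₙ (-1), U)) (x : U) :
    valO 𝒜ₙ ((θ.app U).hom σ) x =
      valO 𝒜ₙ σ x * (xi x.1 i * valO 𝒜ₙ ((θ.app U).hom (gen i U hU)) x) := by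
  obtain ⟨c, hc⟩ := exists_coef i U (p := 1) σ
  have h1 : σ = c • gen i U hU := by
    apply valO_ext
    intro y
    rw [valO_smul, hc y, valO_gen, pow_one, mul_assoc, xi_mul_eta, mul_one]
  have h2 : (θ.app U).hom σ = c • (θ.app U).hom (gen i U hU) := by
    conv_lhs => rw [h1]
    exact Scheme.Modules.Hom.app_smul θ c (gen i U hU)
  rw [h2, valO_smul, hc x, pow_one, mul_assoc]

/-- the local multiplier of a morphism out of `O(-1)` on the chart `D₊(X_i)` -/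
def mult {b c : ℤ} (hbc : b + ((1 : ℕ) : ℤ) = c) (θ : Twist.twist 𝒜ₙ (-1) ⟶ Twist.twist 𝒜ₙ b)
    (i : Fin (n + 1)) : Γ(Twist.twist 𝒜ₙ c, U0 n A i) :=
  ((mulHom 𝒜ₙ (a := b) (b := c) (k := 1) hbc
    ⟨MvPolynomial.X i, MvPolynomial.isHomogeneous_X A i⟩).app (U0 n A i)).hom
      ((θ.app (U0 n A i)).hom (gen i (U0 n A i) (hU0 i)))

lemma valO_mult {b c : ℤ} (hbc : b + ((1 : ℕ) : ℤ) = c)
    (θ : Twist.twist 𝒜ₙ (-1) ⟶ Twist.twist 𝒜ₙ b) (i : Fin (n + 1)) (x : U0 n A i) :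
    valO 𝒜ₙ (mult hbc θ i) x =
      xi x.1 i * valO 𝒜ₙ ((θ.app (U0 n A i)).hom (gen i (U0 n A i) (hU0 i))) x := by
  unfold mult
  rw [mulHom_valO, mul_comm]
  rfl

/-- a morphism out of `O(-1)` acts on values over the chart `D₊(X_i)` by the local multiplier -/
lemma valO_hom_mult {b c : ℤ} (hbc : b + ((1 : ℕ) : ℤ) = c)
    (θ : Twist.twist 𝒜ₙ (-1) ⟶ Twist.twist 𝒜ₙ b) (i : Fin (n + 1))
    (U : (Proj 𝒜ₙ).Opens) (σ : Γ(Twist.twist 𝒜ₙ (-1), U)) (x : U) (hx : x.1 ∈ U0 n A i) :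
    valO 𝒜ₙ ((θ.app U).hom σ) x = valO 𝒜ₙ σ x * valO 𝒜ₙ (mult hbc θ i) ⟨x.1, hx⟩ := by
  let W : (Proj 𝒜ₙ).Opens := U ⊓ U0 n A i
  have hWU : W ≤ U := inf_le_left
  have hW0 : W ≤ U0 n A i := inf_le_right
  have hW : ∀ y : W, (MvPolynomial.X i : S) ∉ y.1.asHomogeneousIdeal := fun y =>
    hU0 i ⟨y.1, hW0 y.2⟩
  let x' : W := ⟨x.1, ⟨x.2, hx⟩⟩
  have h1 := valO_hom_chart θ i W hW ((Twist.twist 𝒜ₙ (-1)).presheaf.map (homOfLE hWU).op σ) x'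
  rw [app_res, valO_res, valO_res] at h1
  have h2 : (θ.app W).hom (gen i W hW) =
      (Twist.twist 𝒜ₙ b).presheaf.map (homOfLE hW0).op
        ((θ.app (U0 n A i)).hom (gen i (U0 n A i) (hU0 i))) := by
    rw [← app_res, gen_res]
  rw [h2, valO_res] at h1
  rw [valO_mult]
  exact h1

lemma mult_compat {b c : ℤ} (hbc : b + ((1 : ℕ) : ℤ) = c)
    (θ : Twist.twist 𝒜ₙ (-1) ⟶ Twist.twist 𝒜ₙ b) (i j : Fin (n + 1))
    (x : Proj 𝒜ₙ) (hi : x ∈ U0 n A i) (hj : x ∈ U0 n A j) :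
    valO 𝒜ₙ (mult hbc θ i) ⟨x, hi⟩ = valO 𝒜ₙ (mult hbc θ j) ⟨x, hj⟩ := by
  have h1 := valO_hom_mult hbc θ i (U0 n A i) (gen i (U0 n A i) (hU0 i)) ⟨x, hi⟩ hi
  have h2 := valO_hom_mult hbc θ j (U0 n A i) (gen i (U0 n A i) (hU0 i)) ⟨x, hi⟩ hj
  rw [h1, valO_gen] at h2
  have h3 := congrArg (fun t => xi x i * t) h2
  simp only [← mul_assoc] at h3
  rw [xi_mul_eta, one_mul, one_mul] at h3
  exact h3

/-- **Morphisms `O(-1) ⟶ O(d - 1)`** on projective space over a ring are multiplications by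
homogeneous polynomials of degree `d`. -/
theorem exists_poly_of_hom (d : ℕ) (b : ℤ) (hb : b + 1 = (d : ℤ))
    (θ : Twist.twist 𝒜ₙ (-1) ⟶ Twist.twist 𝒜ₙ b) :
    ∃ p : 𝒜ₙ d, ∀ (U : (Proj 𝒜ₙ).Opens) (σ : Γ(Twist.twist 𝒜ₙ (-1), U)) (x : U),
      valO 𝒜ₙ ((θ.app U).hom σ) x = valO 𝒜ₙ σ x * mkOne 𝒜ₙ p.1 x.1 := by
  have hbc : b + ((1 : ℕ) : ℤ) = (d : ℤ) := by push_cast; exact hb
  obtain ⟨t, ht⟩ := exists_glue (d : ℤ) (fun i => mult hbc θ i)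
    (fun i j x hi hj => mult_compat hbc θ i j x hi hj)
  obtain ⟨p, hp⟩ := Groth.Agent.Lib.Helper20.ProjH0.glob_surjective n A d (toSec 𝒜ₙ t)
  refine ⟨p, fun U σ x => ?_⟩
  obtain ⟨i, hi⟩ := Groth.Agent.Lib.helper28.TwistPn.exists_X_notMem n A x.1
  have hx : x.1 ∈ U0 n A i := (Proj.mem_basicOpen 𝒜ₙ _ x.1).mpr hi
  rw [valO_hom_mult hbc θ i U σ x hx, ← ht i ⟨x.1, hx⟩]
  congr 1
  have h1 := congrArg (fun τ : Twist.sectN (𝒜 := 𝒜ₙ) (d : ℤ) (op ⊤) =>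
    ((τ.1 ⟨x.1, trivial⟩ : Twist.twistAt 𝒜ₙ (d : ℤ) x.1) : Twist.Loc 𝒜ₙ x.1)) hp
  exact h1.symm

end Hom

end

end Groth.Agent.Lib.helper20.TwistHom
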