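import Mathlib
import Groth.Agent.Lib.Helper20.Euler4f
import Groth.Agent.Lib.Helper20.TwistHom
import Groth.Agent.Lib.Helper20.ExtUnit
import Groth.Agent.S0844

/-!
# Endomorphisms of the module of Koszul 1-cycles on projective space are scalars (helper20)

`Z_1 = ker (O(-1)^{n+1} → O) ≅ Ω¹`: every endomorphism of `Z_1` on projective space over a domain is
multiplication by a constant.
-/

set_option autoImplicit false
universe u

open CategoryTheory CategoryTheory.Limits AlgebraicGeometry Opposite TopologicalSpace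

namespace Groth.Agent.Lib.helper20.OmegaSimple

open Groth.Agent.Lib.helper20.TwistVal
  Groth.Agent.Lib.helper28.TwistFree Groth.Agent.Lib.helper28.TwistMul
  Groth.Agent.Lib.Helper20.ProjMulHom Groth.Agent.Lib.helper20.Euler3
  Groth.Agent.Lib.helper20.Euler2 Groth.Agent.Lib.helper20.Euler3a
  Groth.Agent.Lib.helper20.EulerAlg
  Groth.Agent.Lib.helper20.Euler4a Groth.Agent.Lib.helper20.Euler4d
  Groth.Agent.Lib.helper20.Euler4c
  Groth.Agent.Lib.helper20.Euler4e Groth.Agent.Lib.helper20.Euler4f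
  Groth.Agent.Lib.helper20.TwistHom Groth.Agent.Lib.helper20.ExtUnit
  Groth.Agent.Lib.helper20.ExactLoc Groth.Agent.Lib.helper7.KerSections

noncomputable section

variable {n : ℕ} {A : Type u} [CommRing A]

local notation "𝒜ₙ" => CohB1.polyGrading n A
local notation "S" => MvPolynomial (Fin (n + 1)) A

/-- the singleton index -/
def sing (l : Fin (n + 1)) : Idx n 1 :=
  ⟨{l}, Set.powersetCard.mem_iff.mpr (Finset.card_singleton l)⟩

lemma exists_sing (I : Idx n 1) : ∃ l, I = sing l := by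
  obtain ⟨l, hl⟩ := Finset.card_eq_one.mp (Set.powersetCard.mem_iff.mp I.prop)
  exact ⟨l, Subtype.ext hl⟩

lemma sing_injective : Function.Injective (sing (n := n)) := fun a b h =>
  Finset.singleton_injective (congrArg Subtype.val h)

instance uniqueIdx0 : Unique (Idx n 0) where
  default := ⟨∅, Set.powersetCard.mem_iff.mpr Finset.card_empty⟩
  uniq I := Subtype.ext (Finset.card_eq_zero.mp (Set.powersetCard.mem_iff.mp I.prop))

/-- `Z_0 ≅ O` -/
def isoZ0 : Z n A 0 ≅ Coh.structureModule (Proj 𝒜ₙ) :=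
  (@asIso _ _ _ _ (ιZ n A 0)
    (inferInstanceAs (IsIso (kernel.ι (0 : K n A 0 ⟶ K n A (0 - 1)))))) ≪≫
    coproductUniqueIso (fun _ : Idx n 0 => tw n A 0) ≪≫
    (asIso (Groth.Agent.Lib.helper28.TwistZero.unitToTwistZero 𝒜ₙ)).symm

lemma subsingleton_H1 : Subsingleton (Coh.HH (Proj 𝒜ₙ) (tw n A 1) 1) :=
  Groth.Agent.S0844.result A n (-1) 1 (by omega) (by omega)

/-- morphisms `Z_1 ⟶ O(-1)` extend to `K_1` -/
theorem exists_ext (ψ' : Z n A 1 ⟶ tw n A 1) :
    ∃ Ψ : K n A 1 ⟶ tw n A 1, ιZ n A 1 ≫ Ψ = ψ' :=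
  exists_extension (shortExact_sesZ (n := n) (A := A) 0) isoZ0 (tw n A 1) subsingleton_H1 ψ'

section Matrix

variable [QuasiSeparated (fP n A)]

/-- endomorphisms of `O(-1)` are multiplications by constants -/
theorem exists_scalar_of_end (θ : Twist.twist 𝒜ₙ (-1) ⟶ Twist.twist 𝒜ₙ (-1)) :
    ∃ c : A, ∀ (U : (Proj 𝒜ₙ).Opens) (σ : Γ(Twist.twist 𝒜ₙ (-1), U)) (x : U),
      valO 𝒜ₙ ((θ.app U).hom σ) x = valO 𝒜ₙ σ x * mkOne 𝒜ₙ (MvPolynomial.C c : S) x.1 := by
  obtain ⟨p, hp⟩ := exists_poly_of_hom 0 (-1) (by norm_num) θ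
  have hmem : p.1 ∈ MvPolynomial.homogeneousSubmodule (Fin (n + 1)) A 0 := p.2
  rw [MvPolynomial.homogeneousSubmodule_zero, Submodule.mem_one] at hmem
  obtain ⟨c, hc⟩ := hmem
  refine ⟨c, fun U σ x => ?_⟩
  rw [hp U σ x, ← hc]
  rfl

/-- an endomorphism of `Z_1` is given, on the components in `K_1`, by a matrix of constants -/
theorem exists_matrix (ψ : Z n A 1 ⟶ Z n A 1) :
    ∃ c : Idx n 1 → Idx n 1 → A, ∀ (U : (Proj 𝒜ₙ).Opens) (z : Γ(Z n A 1, U)) (J : Idx n 1) (x : U),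
      valO 𝒜ₙ (comp (fun _ : Idx n 1 => tw n A 1)
          (((ιZ n A 1).app U).hom ((ψ.app U).hom z)) J) x =
        ∑ I, valO 𝒜ₙ (comp (fun _ : Idx n 1 => tw n A 1) (((ιZ n A 1).app U).hom z) I) x *
          mkOne 𝒜ₙ (MvPolynomial.C (c I J) : S) x.1 := by
  choose Ψ hΨ using fun J : Idx n 1 =>
    exists_ext (ψ ≫ ιZ n A 1 ≫ Sigma.π (fun _ : Idx n 1 => tw n A 1) J)
  choose c hc using fun (I J : Idx n 1) =>
    exists_scalar_of_end (Sigma.ι (fun _ : Idx n 1 => tw n A 1) I ≫ Ψ J)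
  refine ⟨c, fun U z J x => ?_⟩
  obtain ⟨a, ha⟩ : ∃ a, a = ((ιZ n A 1).app U).hom z := ⟨_, rfl⟩
  have h1 : comp (fun _ : Idx n 1 => tw n A 1) (((ιZ n A 1).app U).hom ((ψ.app U).hom z)) J =
      ((Ψ J).app U).hom a := by
    have := congrArg (fun φ => (Scheme.Modules.Hom.app φ U).hom z) (hΨ J)
    rw [ha]
    exact this.symm
  have h2 : a = ∑ I, ((Sigma.ι (fun _ : Idx n 1 => tw n A 1) I).app U).hom
      (comp (fun _ : Idx n 1 => tw n A 1) a I) := sec_eq_sum _ U a
  rw [h1, ← ha]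
  conv_lhs => rw [h2]
  rw [map_sum, valO_sum]
  refine Finset.sum_congr rfl fun I _ => ?_
  exact hc I J U (comp (fun _ : Idx n 1 => tw n A 1) a I) x

end Matrix

section Cycle

/-- values of a section of `K_p` supported in one component -/
lemma vExt_ι {p : ℕ} {V : (Proj 𝒜ₙ).Opens} (I : Idx n p) (σ : Γ(tw n A p, V)) (x : V)
    (J : Finset (Fin (n + 1))) :
    vExt (((Sigma.ι (fun _ : Idx n p => tw n A p) I).app V).hom σ) x J =
      if J = I.val then valO 𝒜ₙ σ x else 0 := by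
  classical
  by_cases hJ : J.card = p
  · have hmem : J ∈ Set.powersetCard (Fin (n + 1)) p := Set.powersetCard.mem_iff.mpr hJ
    rw [vExt_of_card _ x ⟨J, hmem⟩]
    by_cases h : J = I.val
    · have hI : (⟨J, hmem⟩ : Idx n p) = I := Subtype.ext h
      rw [if_pos h, hI]
      change valO 𝒜ₙ (((Sigma.ι (fun _ : Idx n p => tw n A p) I ≫
        Sigma.π (fun _ : Idx n p => tw n A p) I).app V).hom σ) x = _
      rw [Sigma.ι_π_eq_id]
      rfl
    · rw [if_neg h]
      change valO 𝒜ₙ (((Sigma.ι (fun _ : Idx n p => tw n A p) I ≫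
        Sigma.π (fun _ : Idx n p => tw n A p) ⟨J, hmem⟩).app V).hom σ) x = _
      rw [Sigma.ι_π_of_ne]
      · rfl
      · intro h'
        exact h (congrArg Subtype.val h').symm
  · rw [vExt_of_card_ne _ x J hJ, if_neg]
    intro h
    exact hJ (h ▸ Set.powersetCard.mem_iff.mp I.prop)

/-- the basic cycle `e_a / X_a - e_b / X_b` -/
def cyc (a b : Fin (n + 1)) (V : (Proj 𝒜ₙ).Opens)
    (ha : ∀ x : V, (MvPolynomial.X a : S) ∉ x.1.asHomogeneousIdeal)
    (hb : ∀ x : V, (MvPolynomial.X b : S) ∉ x.1.asHomogeneousIdeal) : Γ(K n A 1, V) :=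
  ((Sigma.ι (fun _ : Idx n 1 => tw n A 1) (sing a)).app V).hom (gen a V ha) -
    ((Sigma.ι (fun _ : Idx n 1 => tw n A 1) (sing b)).app V).hom (gen b V hb)

lemma vExt_cyc (a b : Fin (n + 1)) (V : (Proj 𝒜ₙ).Opens)
    (ha : ∀ x : V, (MvPolynomial.X a : S) ∉ x.1.asHomogeneousIdeal)
    (hb : ∀ x : V, (MvPolynomial.X b : S) ∉ x.1.asHomogeneousIdeal) (x : V)
    (J : Finset (Fin (n + 1))) :
    vExt (cyc a b V ha hb) x J =
      (if J = {a} then eta a x.1 (ha x) else 0) - (if J = {b} then eta b x.1 (hb x) else 0) := by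
  unfold cyc
  rw [vExt_sub, vExt_ι, vExt_ι]
  rfl

lemma bd_empty {T : Type*} [CommRing T] (ξ : Fin (n + 1) → T) (v : Finset (Fin (n + 1)) → T) :
    bd ξ v ∅ = ∑ l, ξ l * v {l} := by
  unfold bd
  refine Finset.sum_congr rfl fun l _ => ?_
  rw [if_neg (Finset.notMem_empty l)]
  have h1 : sgn l (∅ : Finset (Fin (n + 1))) = 1 := by
    unfold sgn
    simp
  rw [h1, Int.cast_one, one_mul]
  rfl

lemma isCyc_cyc (a b : Fin (n + 1)) (V : (Proj 𝒜ₙ).Opens)
    (ha : ∀ x : V, (MvPolynomial.X a : S) ∉ x.1.asHomogeneousIdeal)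
    (hb : ∀ x : V, (MvPolynomial.X b : S) ∉ x.1.asHomogeneousIdeal) :
    IsCyc (cyc a b V ha hb) := by
  classical
  intro x J
  by_cases hJ : J = ∅
  · subst hJ
    rw [bd_empty]
    have key : ∀ l, xi x.1 l * vExt (cyc a b V ha hb) x {l} =
        (if l = a then (1 : Twist.Loc 𝒜ₙ x.1) else 0) - (if l = b then 1 else 0) := by
      intro l
      rw [vExt_cyc, mul_sub]
      congr 1
      · by_cases h : l = a
        · subst h
          rw [if_pos rfl, if_pos rfl, xi_mul_eta]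
        · rw [if_neg h, if_neg (fun h' => h (Finset.singleton_injective h')), mul_zero]
      · by_cases h : l = b
        · subst h
          rw [if_pos rfl, if_pos rfl, xi_mul_eta]
        · rw [if_neg h, if_neg (fun h' => h (Finset.singleton_injective h')), mul_zero]
    rw [Finset.sum_congr rfl (fun l _ => key l), Finset.sum_sub_distrib, Finset.sum_ite_eq',
      Finset.sum_ite_eq', if_pos (Finset.mem_univ a), if_pos (Finset.mem_univ b), sub_self]
  · unfold bd
    refine Finset.sum_eq_zero fun l _ => ?_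
    by_cases hl : l ∈ J
    · rw [if_pos hl]
    · rw [if_neg hl, vExt_of_card_ne, mul_zero]
      rw [Finset.card_insert_of_notMem hl]
      have : 0 < J.card := Finset.card_pos.mpr (Finset.nonempty_iff_ne_empty.mpr hJ)
      omega

variable [QuasiSeparated (fP n A)]

/-- the relation satisfied by the matrix of an endomorphism of `Z_1`, at a point where `X_a` and
`X_b` do not vanish -/
theorem matrix_relation (ψ : Z n A 1 ⟶ Z n A 1) (c : Idx n 1 → Idx n 1 → A)
    (hc : ∀ (U : (Proj 𝒜ₙ).Opens) (z : Γ(Z n A 1, U)) (J : Idx n 1) (x : U),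
      valO 𝒜ₙ (comp (fun _ : Idx n 1 => tw n A 1)
          (((ιZ n A 1).app U).hom ((ψ.app U).hom z)) J) x =
        ∑ I, valO 𝒜ₙ (comp (fun _ : Idx n 1 => tw n A 1) (((ιZ n A 1).app U).hom z) I) x *
          mkOne 𝒜ₙ (MvPolynomial.C (c I J) : S) x.1)
    (a b : Fin (n + 1)) (x : Proj 𝒜ₙ)
    (ha : (MvPolynomial.X a : S) ∉ x.asHomogeneousIdeal)
    (hb : (MvPolynomial.X b : S) ∉ x.asHomogeneousIdeal) :
    ∑ l, xi x l * (eta a x ha * mkOne 𝒜ₙ (MvPolynomial.C (c (sing a) (sing l)) : S) x -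
      eta b x hb * mkOne 𝒜ₙ (MvPolynomial.C (c (sing b) (sing l)) : S) x) = 0 := by
  classical
  let V : (Proj 𝒜ₙ).Opens := U0 n A a ⊓ U0 n A b
  have hVa : ∀ y : V, (MvPolynomial.X a : S) ∉ y.1.asHomogeneousIdeal := fun y =>
    hU0 a ⟨y.1, y.2.1⟩
  have hVb : ∀ y : V, (MvPolynomial.X b : S) ∉ y.1.asHomogeneousIdeal := fun y =>
    hU0 b ⟨y.1, y.2.2⟩
  have hxV : x ∈ V := ⟨(Proj.mem_basicOpen 𝒜ₙ _ x).mpr ha, (Proj.mem_basicOpen 𝒜ₙ _ x).mpr hb⟩
  let w := cyc a b V hVa hVb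
  have hw : ((dd n A 1).app V).hom w = 0 := (dd_app_eq_zero_iff w).mpr (isCyc_cyc a b V hVa hVb)
  obtain ⟨z, hz⟩ := exists_kernel_section (dd n A 1) V w hw
  have hz' : ((ιZ n A 1).app V).hom z = w := hz
  obtain ⟨w', hw'⟩ : ∃ w', w' = ((ιZ n A 1).app V).hom ((ψ.app V).hom z) := ⟨_, rfl⟩
  have hcyc : IsCyc w' := by
    rw [hw']
    exact (dd_app_eq_zero_iff _).mp (kernel_ι_app_comp (dd n A 1) V ((ψ.app V).hom z))
  have h0 := hcyc ⟨x, hxV⟩ ∅
  rw [bd_empty] at h0
  refine Eq.trans (Finset.sum_congr rfl fun l _ => ?_) h0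
  congr 1
  have h1 : vExt w' ⟨x, hxV⟩ {l} =
      valO 𝒜ₙ (comp (fun _ : Idx n 1 => tw n A 1) w' (sing l)) ⟨x, hxV⟩ :=
    vExt_of_card w' ⟨x, hxV⟩ (sing l)
  rw [h1, hw', hc V z (sing l) ⟨x, hxV⟩, hz']
  have h2 : ∀ I : Idx n 1, valO 𝒜ₙ (comp (fun _ : Idx n 1 => tw n A 1) w I) ⟨x, hxV⟩ *
      mkOne 𝒜ₙ (MvPolynomial.C (c I (sing l)) : S) x =
      (if I = sing a then eta a x ha * mkOne 𝒜ₙ (MvPolynomial.C (c (sing a) (sing l)) : S) x
        else 0) -
      (if I = sing b then eta b x hb * mkOne 𝒜ₙ (MvPolynomial.C (c (sing b) (sing l)) : S) x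
        else 0) := by
    intro I
    rw [← vExt_of_card w ⟨x, hxV⟩ I, vExt_cyc, sub_mul]
    congr 1
    · by_cases h : I = sing a
      · subst h
        rw [if_pos (show (sing a).val = {a} from rfl), if_pos (show sing a = sing a from rfl)]
      · rw [if_neg h, if_neg (show ¬ (I.val = {a}) from fun h' => h (Subtype.ext h')), zero_mul]
    · by_cases h : I = sing b
      · subst h
        rw [if_pos (show (sing b).val = {b} from rfl), if_pos (show sing b = sing b from rfl)]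
      · rw [if_neg h, if_neg (show ¬ (I.val = {b}) from fun h' => h (Subtype.ext h')), zero_mul]
  rw [Finset.sum_congr rfl (fun I _ => h2 I), Finset.sum_sub_distrib, Finset.sum_ite_eq',
    Finset.sum_ite_eq', if_pos (Finset.mem_univ _), if_pos (Finset.mem_univ _)]

end Cycle

section Poly

variable [IsDomain A]

/-- the generic point of projective space over a domain -/
def genPt (n : ℕ) (A : Type u) [CommRing A] [IsDomain A] :
    ProjectiveSpectrum (CohB1.polyGrading n A) where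
  asHomogeneousIdeal := ⊥
  isPrime := by
    rw [HomogeneousIdeal.toIdeal_bot]
    exact Ideal.isPrime_bot
  not_irrelevant_le := fun h => by
    have h1 : (MvPolynomial.X 0 : MvPolynomial (Fin (n + 1)) A) ∈
        HomogeneousIdeal.irrelevant (CohB1.polyGrading n A) :=
      HomogeneousIdeal.mem_irrelevant_of_mem (CohB1.polyGrading n A) Nat.one_pos
        (MvPolynomial.isHomogeneous_X A 0)
    have h2 : (MvPolynomial.X 0 : MvPolynomial (Fin (n + 1)) A) ∈
        (⊥ : HomogeneousIdeal (CohB1.polyGrading n A)) := h h1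
    have h3 : (MvPolynomial.X 0 : MvPolynomial (Fin (n + 1)) A) ∈
        (⊥ : HomogeneousIdeal (CohB1.polyGrading n A)).toIdeal := h2
    rw [HomogeneousIdeal.toIdeal_bot] at h3
    exact MvPolynomial.X_ne_zero (0 : Fin (n + 1)) ((Submodule.mem_bot _).mp h3)

lemma X_notMem_genPt (l : Fin (n + 1)) :
    (MvPolynomial.X l : S) ∉ (genPt n A).asHomogeneousIdeal := fun h => by
  have h3 : (MvPolynomial.X l : S) ∈ (⊥ : HomogeneousIdeal 𝒜ₙ).toIdeal := h
  rw [HomogeneousIdeal.toIdeal_bot] at h3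
  exact MvPolynomial.X_ne_zero l ((Submodule.mem_bot _).mp h3)

lemma mkOne_eq_algebraMap (x : ProjectiveSpectrum 𝒜ₙ) (f : S) :
    mkOne 𝒜ₙ f x = algebraMap S (Twist.Loc 𝒜ₙ x) f :=
  Localization.mk_one_eq_algebraMap f

lemma algebraMap_injective (x : ProjectiveSpectrum 𝒜ₙ) :
    Function.Injective (algebraMap S (Twist.Loc 𝒜ₙ x)) :=
  IsLocalization.injective (Twist.Loc 𝒜ₙ x)
    (Ideal.primeCompl_le_nonZeroDivisors x.asHomogeneousIdeal.toIdeal)

/-- the polynomial identity satisfied by the matrix of an endomorphism of `Z_1` -/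
theorem poly_relation (c : Idx n 1 → Idx n 1 → A)
    (hrel : ∀ (a b : Fin (n + 1)) (x : Proj 𝒜ₙ)
      (ha : (MvPolynomial.X a : S) ∉ x.asHomogeneousIdeal)
      (hb : (MvPolynomial.X b : S) ∉ x.asHomogeneousIdeal),
      ∑ l, xi x l * (eta a x ha * mkOne 𝒜ₙ (MvPolynomial.C (c (sing a) (sing l)) : S) x -
        eta b x hb * mkOne 𝒜ₙ (MvPolynomial.C (c (sing b) (sing l)) : S) x) = 0)
    (a b : Fin (n + 1)) :
    ∑ l, (MvPolynomial.X l : S) * (MvPolynomial.X b * MvPolynomial.C (c (sing a) (sing l)) -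
      MvPolynomial.X a * MvPolynomial.C (c (sing b) (sing l))) = 0 := by
  apply algebraMap_injective (genPt n A)
  rw [map_zero, map_sum]
  have h0 := hrel a b (genPt n A) (X_notMem_genPt a) (X_notMem_genPt b)
  have h1 := congrArg (fun t => xi (genPt n A) a * xi (genPt n A) b * t) h0
  simp only [mul_zero] at h1
  rw [Finset.mul_sum] at h1
  refine Eq.trans (Finset.sum_congr rfl fun l _ => ?_) h1
  have ea := xi_mul_eta a (genPt n A) (X_notMem_genPt a)
  have eb := xi_mul_eta b (genPt n A) (X_notMem_genPt b)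
  rw [map_mul, map_sub, map_mul, map_mul, ← mkOne_eq_algebraMap, ← mkOne_eq_algebraMap,
    ← mkOne_eq_algebraMap, ← mkOne_eq_algebraMap, ← mkOne_eq_algebraMap]
  change xi (genPt n A) l * (xi (genPt n A) b * _ - xi (genPt n A) a * _) = _
  linear_combination
    (-(xi (genPt n A) l * xi (genPt n A) b *
      mkOne 𝒜ₙ (MvPolynomial.C (c (sing a) (sing l)) : S) (genPt n A))) * ea +
    (xi (genPt n A) l * xi (genPt n A) a *
      mkOne 𝒜ₙ (MvPolynomial.C (c (sing b) (sing l)) : S) (genPt n A)) * eb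

omit [IsDomain A] in
/-- a matrix of constants satisfying the polynomial identity is a scalar matrix -/
theorem matrix_scalar (c : Idx n 1 → Idx n 1 → A)
    (hP : ∀ a b : Fin (n + 1),
      ∑ l, (MvPolynomial.X l : S) * (MvPolynomial.X b * MvPolynomial.C (c (sing a) (sing l)) -
        MvPolynomial.X a * MvPolynomial.C (c (sing b) (sing l))) = 0) :
    (∀ a b : Fin (n + 1), a ≠ b → c (sing a) (sing b) = 0) ∧
      (∀ a b : Fin (n + 1), c (sing a) (sing a) = c (sing b) (sing b)) := by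
  classical
  have hoff : ∀ a b : Fin (n + 1), a ≠ b → c (sing a) (sing b) = 0 := by
    intro a b hab
    obtain ⟨v, hv⟩ : ∃ v : Fin (n + 1) → A, ∀ l, v l = if l = b then (1 : A) else 0 :=
      ⟨_, fun _ => rfl⟩
    have h := congrArg (MvPolynomial.eval v) (hP a b)
    simp only [map_sum, map_mul, map_sub, MvPolynomial.eval_X, MvPolynomial.eval_C,
      map_zero] at h
    have hvb : v b = 1 := by rw [hv, if_pos rfl]
    have hva : v a = 0 := by rw [hv, if_neg hab]
    rw [hvb, hva] at h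
    simp only [one_mul, zero_mul, sub_zero] at h
    rw [Finset.sum_eq_single b] at h
    · rw [hvb, one_mul] at h
      exact h
    · intro l _ hl
      rw [hv, if_neg hl, zero_mul]
    · intro h'
      exact absurd (Finset.mem_univ b) h'
  refine ⟨hoff, fun a b => ?_⟩
  by_cases hab : a = b
  · rw [hab]
  have hba : ¬ b = a := fun h' => hab h'.symm
  obtain ⟨v, hv⟩ : ∃ v : Fin (n + 1) → A,
      ∀ l, v l = (if l = a then (1 : A) else 0) + (if l = b then (1 : A) else 0) :=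
    ⟨_, fun _ => rfl⟩
  have h := congrArg (MvPolynomial.eval v) (hP a b)
  simp only [map_sum, map_mul, map_sub, MvPolynomial.eval_X, MvPolynomial.eval_C,
    map_zero] at h
  have hva : v a = 1 := by rw [hv, if_pos rfl, if_neg hab, add_zero]
  have hvb : v b = 1 := by rw [hv, if_neg hba, if_pos rfl, zero_add]
  rw [hvb, hva] at h
  simp only [one_mul] at h
  simp only [hv, add_mul, ite_mul, one_mul, zero_mul, Finset.sum_add_distrib,
    Finset.sum_ite_eq', Finset.mem_univ, if_true] at h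
  rw [hoff a b hab, hoff b a hba] at h
  linear_combination h

end Poly

section Final

variable [IsDomain A] [QuasiSeparated (fP n A)]

/-- **Endomorphisms of `Z_1` are scalars**, on values -/
theorem end_Z1_values (ψ : Z n A 1 ⟶ Z n A 1) :
    ∃ c₀ : A, ∀ (U : (Proj 𝒜ₙ).Opens) (z : Γ(Z n A 1, U)) (J : Idx n 1) (x : U),
      valO 𝒜ₙ (comp (fun _ : Idx n 1 => tw n A 1)
          (((ιZ n A 1).app U).hom ((ψ.app U).hom z)) J) x =
        valO 𝒜ₙ (comp (fun _ : Idx n 1 => tw n A 1) (((ιZ n A 1).app U).hom z) J) x *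
          mkOne 𝒜ₙ (MvPolynomial.C c₀ : S) x.1 := by
  classical
  obtain ⟨c, hc⟩ := exists_matrix ψ
  obtain ⟨hoff, hdiag⟩ := matrix_scalar c (poly_relation c (matrix_relation ψ c hc))
  refine ⟨c (sing 0) (sing 0), fun U z J x => ?_⟩
  rw [hc U z J x, Finset.sum_eq_single J]
  · obtain ⟨b, rfl⟩ := exists_sing J
    rw [hdiag b 0]
  · intro I _ hI
    obtain ⟨a, rfl⟩ := exists_sing I
    obtain ⟨b, rfl⟩ := exists_sing J
    have hab : a ≠ b := fun h => hI (congrArg sing h)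
    rw [hoff a b hab, map_zero]
    have h0 : mkOne 𝒜ₙ (0 : S) x.1 = 0 := Localization.mk_zero _
    rw [h0, mul_zero]
  · intro h
    exact absurd (Finset.mem_univ J) h

lemma val_resTop_toGlobal (c₀ : A) (V : (Proj 𝒜ₙ).Opens) (x : V) :
    ((show Twist.O (𝒜 := 𝒜ₙ) (op V) from
      Coh.resTop (Proj 𝒜ₙ) (op V) (Coh.toGlobal (X := Proj 𝒜ₙ) (fP n A) c₀)).1 x).val =
      mkOne 𝒜ₙ (MvPolynomial.C c₀ : S) x.1 :=
  Groth.Agent.Lib.Helper20.ProjH0.gl_val n A c₀ ⟨x.1, trivial⟩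

/-- **Endomorphisms of `Z_1` are scalars** -/
theorem end_Z1 (ψ : Z n A 1 ⟶ Z n A 1) :
    ∃ c₀ : A, (SheafOfModules.toSheaf (Proj 𝒜ₙ).ringCatSheaf).map ψ =
      Coh.smulAb (Z n A 1) (Coh.toGlobal (X := Proj 𝒜ₙ) (fP n A) c₀) := by
  obtain ⟨c₀, h⟩ := end_Z1_values ψ
  refine ⟨c₀, ?_⟩
  ext U m0
  change (ψ.val.app U).hom m0 = (Coh.smulAb (Z n A 1) _).hom.app U m0
  rw [Coh.smulAb_app]
  obtain ⟨m, hm⟩ : ∃ m : Γ(Z n A 1, U.unop), m = m0 := ⟨m0, rfl⟩
  rw [← hm]
  apply kernel_ι_app_injective (dd n A 1) U.unop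
  change ((ιZ n A 1).app U.unop).hom ((ψ.app U.unop).hom m) =
    ((ιZ n A 1).app U.unop).hom
      ((show Γ(Proj 𝒜ₙ, U.unop) from
        Coh.resTop (Proj 𝒜ₙ) U (Coh.toGlobal (X := Proj 𝒜ₙ) (fP n A) c₀)) • m)
  rw [Scheme.Modules.Hom.app_smul]
  apply sec_ext_vExt
  intro x I
  rw [vExt_smul, vExt_of_card, vExt_of_card, h U.unop m I x, mul_comm]
  congr 1
  exact (val_resTop_toGlobal c₀ U.unop x).symm


/-- multiplication by a global function commutes with morphisms of modules -/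
lemma map_comp_smulAb {X : Scheme.{u}} {F G : X.Modules} (φ : F ⟶ G) (s : Coh.Γtop X) :
    (SheafOfModules.toSheaf X.ringCatSheaf).map φ ≫ Coh.smulAb G s =
      Coh.smulAb F s ≫ (SheafOfModules.toSheaf X.ringCatSheaf).map φ := by
  ext U m
  change (Coh.smulAb G s).hom.app U ((φ.val.app U).hom m) =
    (φ.val.app U).hom ((Coh.smulAb F s).hom.app U m)
  rw [Coh.smulAb_app, Coh.smulAb_app]
  exact ((φ.val.app U).hom.map_smul (Coh.resTop X U s) m).symm

/-- being a homothety is invariant under isomorphism -/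
lemma smulAb_of_iso {X : Scheme.{u}} {M N : X.Modules} (e : M ≅ N) (φ : M ⟶ M) (r : Coh.Γtop X)
    (h : (SheafOfModules.toSheaf X.ringCatSheaf).map (e.inv ≫ φ ≫ e.hom) = Coh.smulAb N r) :
    (SheafOfModules.toSheaf X.ringCatSheaf).map φ = Coh.smulAb M r := by
  let F : X.Modules ⥤ _ := SheafOfModules.toSheaf X.ringCatSheaf
  have h' : F.map (e.inv ≫ φ ≫ e.hom) = Coh.smulAb N r := h
  have hc : ∀ {P Q : X.Modules} (f : P ⟶ Q) (s : Coh.Γtop X),
      F.map f ≫ Coh.smulAb Q s = Coh.smulAb P s ≫ F.map f := fun f s => map_comp_smulAb f s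
  change F.map φ = Coh.smulAb M r
  have h1 : φ = e.hom ≫ (e.inv ≫ φ ≫ e.hom) ≫ e.inv := by
    simp only [Category.assoc, Iso.hom_inv_id, Category.comp_id, Iso.hom_inv_id_assoc]
  rw [h1, F.map_comp, F.map_comp, h', ← Category.assoc, hc, Category.assoc, ← F.map_comp,
    e.hom_inv_id, F.map_id, Category.comp_id]

local notation "Ωₙ" => Omega.sheaf (fP n A)

/-- `Ω` is its own first exterior power -/
def extDataOne : ExtData 1 Ωₙ := fun U =>
  (exteriorPower.oneEquiv Γ(Proj 𝒜ₙ, U.1) ((Ωₙ).val.obj (op U.1))).symm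

lemma extCompat_one : ExtCompat (extDataOne (n := n) (A := A)) := by
  intro U V h e
  have h1 : (extDataOne (n := n) (A := A) U).symm (exteriorPower.ιMulti _ 1 e) = e 0 :=
    exteriorPower.oneEquiv_ιMulti e
  have h2 : (extDataOne (n := n) (A := A) V).symm
      (exteriorPower.ιMulti _ 1 fun j => (Ωₙ).val.map (homOfLE h).op (e j)) =
      (Ωₙ).val.map (homOfLE h).op (e 0) :=
    exteriorPower.oneEquiv_ιMulti _
  rw [h1, h2]

/-- **The sheaf of differentials of projective space over a domain is simple**: every endomorphism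
is multiplication by a constant. -/
theorem end_Omega (φ : Ωₙ ⟶ Ωₙ) :
    ∃ c₀ : A, (SheafOfModules.toSheaf (Proj 𝒜ₙ).ringCatSheaf).map φ =
      Coh.smulAb Ωₙ (Coh.toGlobal (X := Proj 𝒜ₙ) (fP n A) c₀) := by
  obtain ⟨e⟩ := nonempty_iso_Z (n := n) (A := A) (p := 1) (L := Ωₙ) extDataOne extCompat_one
  obtain ⟨c₀, h⟩ := end_Z1 (e.inv ≫ φ ≫ e.hom)
  exact ⟨c₀, smulAb_of_iso e φ _ h⟩

end Final

end

end Groth.Agent.Lib.helper20.OmegaSimple
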