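import Mathlib
import Groth.Agent.Lib.Lead.RankAdd
import Groth.Agent.Lib.Helper25.FLFKernel

/-!
# The rank of the kernel term of a short exact sequence of finite locally free modules (helper20)
-/

set_option autoImplicit false
set_option linter.style.haveILetI false
universe u

open CategoryTheory CategoryTheory.Limits AlgebraicGeometry Opposite TopologicalSpace

namespace Groth.Agent.Lib.Helper20.RankKer

open Groth.Agent.Lib.helper16.FLF

variable {X : Scheme.{u}}

open Groth.Agent.Lib.helper17.FlatOver7 Groth.Agent.Lib.helper8.StalkLen in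
/-- in a short exact sequence with middle term of rank `n₂` and right term of rank `n₃`, the left
term is finite locally free of rank `n₂ - n₃` -/
theorem isFinLocFreeOfRank_X₁ (S : ShortComplex X.Modules) (hS : S.ShortExact) {n₂ n₃ : ℕ}
    (h₂ : FlatMod.IsFinLocFreeOfRank n₂ S.X₂) (h₃ : FlatMod.IsFinLocFreeOfRank n₃ S.X₃) :
    FlatMod.IsFinLocFreeOfRank (n₂ - n₃) S.X₁ := by
  have f₂ := isFinLocFree_of_isFinLocFreeOfRank h₂
  have f₃ := isFinLocFree_of_isFinLocFreeOfRank h₃
  haveI := hS.mono_f
  haveI := hS.epi_g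
  have f₁ : FlatMod.IsFinLocFree S.X₁ := by
    have hk := Groth.Agent.Lib.helper25.FLFKernel.isFinLocFree_kernel_of_epi S.g f₂ f₃
    have e : S.X₁ ≅ kernel S.g :=
      IsLimit.conePointUniqueUpToIso hS.fIsKernel (limit.isLimit _)
    exact isFinLocFree_of_iso e.symm hk
  rw [isFinLocFreeOfRank_iff_finrank_stalk _ f₁]
  intro x
  haveI : S.X₂.IsQuasicoherent := isQuasicoherent_of_isFinLocFree _ f₂
  haveI : S.X₃.IsQuasicoherent := isQuasicoherent_of_isFinLocFree _ f₃
  obtain ⟨fr₁, fi₁⟩ := free_stalk_of_isFinLocFree _ f₁ x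
  obtain ⟨fr₃, fi₃⟩ := free_stalk_of_isFinLocFree _ f₃ x
  have hinj := stalkAdd_injective_of_mono S.f x
  have hex := stalkAdd_exact S.f S.g S.zero hS.exact x
  have hsurj := stalkAdd_surjective_of_epi S.g x
  have := Groth.Agent.Lib.Lead.RankAdd.finrank_add_of_exact (R := X.presheaf.stalk x)
    (stalkLin S.f x) (stalkLin S.g x) hinj hex hsurj
  rw [finrank_stalk_of_isFinLocFreeOfRank _ h₂, finrank_stalk_of_isFinLocFreeOfRank _ h₃] at this
  omega

end Groth.Agent.Lib.Helper20.RankKer
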