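import Mathlib
import Groth.Agent.Lib.Helper20.H0Vanish
import Groth.Agent.Lib.Lead.SerreFin2
import Groth.Agent.Lib.Helper18.HHSum
import Groth.Agent.S4466
import Groth.Agent.S0844

/-!
# Splitting of vector bundles on `P^1_k`: ranks, dimensions of sections, uniqueness (helper20)
-/

set_option autoImplicit false
universe u

open CategoryTheory CategoryTheory.Limits AlgebraicGeometry Opposite TopologicalSpace

namespace Groth.Agent.Lib.helper20.SplitP1

open Groth.Agent.Lib.Helper18.HH Groth.Agent.Lib.helper20.Horrocks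
  Groth.Agent.Lib.Helper20.TwistEquivPn Groth.Agent.Lib.helper20.CMGG
  Groth.Agent.Lib.Lead.ModTensor Groth.Agent.Lib.Helper20.TensorEquiv
  Groth.Agent.Lib.helper20.MumfordLemma Groth.Agent.Lib.helper28
  Groth.Agent.Lib.helper20.H0Vanish Groth.Agent.Lib.helper16.FLF
  Groth.Agent.Lib.Lead.SerreFin

noncomputable section

section Rank

variable {X : Scheme.{u}}

theorem isFinLocFreeOfRank_of_isInitial {E : X.Modules} (h : IsInitial E) :
    FlatMod.IsFinLocFreeOfRank 0 E := by
  intro x
  refine ⟨⊤, trivial, ⟨?_⟩⟩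
  have : PreservesColimitsOfSize.{0, 0} (Scheme.Modules.restrictFunctor (⊤ : X.Opens).ι) :=
    (Scheme.Modules.restrictAdjunction (⊤ : X.Opens).ι).leftAdjoint_preservesColimits
  have h1 : IsInitial ((Scheme.Modules.restrictFunctor (⊤ : X.Opens).ι).obj E) :=
    IsInitial.isInitialObj _ _ h
  have h2 : IsInitial (FlatMod.freeMod (↑(⊤ : X.Opens)) 0) := isInitialSigmaOfIsEmpty _
  exact h1.uniqueUpToIso h2

theorem isFinLocFreeOfRank_sigma : ∀ {m : ℕ} (A : Fin m → X.Modules)
    (_ : ∀ j, FlatMod.IsFinLocFreeOfRank 1 (A j)), FlatMod.IsFinLocFreeOfRank m (∐ A)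
  | 0, A, _ => isFinLocFreeOfRank_of_isInitial (isInitialSigmaOfIsEmpty A)
  | m + 1, A, h => by
    have h1 := isFinLocFreeOfRank_biprod (h 0)
      (isFinLocFreeOfRank_sigma (fun j : Fin m => A j.succ) fun j => h _)
    rw [add_comm] at h1
    exact isFinLocFreeOfRank_of_iso (sigmaFinSuccIso A).symm h1

end Rank

variable {k : Type u} [Field k] {n : ℕ}

/-- the number of summands is the rank -/
theorem rank_eq_of_iso_sigma {E : (CohB1.ProjSpace n k).Modules} {r r' : ℕ}
    (hE : FlatMod.IsFinLocFreeOfRank r E) (a : Fin r' → ℤ)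
    (e : E ≅ ∐ fun j : Fin r' => Twist.twistProjSpace n k (a j)) : r' = r := by
  have h1 : FlatMod.IsFinLocFreeOfRank r' (∐ fun j : Fin r' => Twist.twistProjSpace n k (a j)) :=
    isFinLocFreeOfRank_sigma _ (fun j =>
      (isInvertible_iff_isFinLocFreeOfRank_one _).1 (TwistPn.isInvertible n k (a j)))
  have h2 := isFinLocFreeOfRank_of_iso e.symm h1
  have : Nonempty (CohB1.ProjSpace n k) := inferInstance
  exact rank_unique_of_isFinLocFreeOfRank E h2 hE


/-- `h^0` of a twist of `⊕ O(a_j)` -/
theorem finrank_H0_sigma_twist {r : ℕ} (a : Fin r → ℤ) (m : ℤ) :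
    Module.finrank k (Coh.HH (CohB1.ProjSpace n k)
      (CohB1.tensorMod (∐ fun j : Fin r => Twist.twistProjSpace n k (a j))
        (Twist.twistProjSpace n k m)) 0) =
    ∑ j, Module.finrank k (Coh.HH (CohB1.ProjSpace n k) (Twist.twistProjSpace n k (a j + m)) 0) := by
  have := isEquivalence_tensorRight (invIso n k m)
  let e : CohB1.tensorMod (∐ fun j : Fin r => Twist.twistProjSpace n k (a j))
      (Twist.twistProjSpace n k m) ≅ ∐ fun j : Fin r => Twist.twistProjSpace n k (a j + m) :=
    (PreservesCoproduct.iso (tensorRight (Twist.twistProjSpace n k m))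
      (fun j : Fin r => Twist.twistProjSpace n k (a j))) ≪≫
      Sigma.mapIso (fun j => TwistPn.tensorIso n k (a j) m)
  rw [(isoEquivOver k e 0).finrank_eq,
    (sigmaEquivOver k (fun j : Fin r => Twist.twistProjSpace n k (a j + m)) 0).finrank_eq]
  have hfin : ∀ j, Module.Finite k (Coh.HH (CohB1.ProjSpace n k)
      (Twist.twistProjSpace n k (a j + m)) 0) := fun j =>
    Groth.Agent.S0038.result n k _ (isCoh_O (a j + m)) 0
  exact Module.finrank_pi_fintype k

/-- `h^0(P^1, O(a)) = (a + 1)⁺` -/
theorem finrank_H0_O_P1 (a : ℤ) :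
    Module.finrank k (Coh.HH (CohB1.ProjSpace 1 k) (Twist.twistProjSpace 1 k a) 0) =
      (a + 1).toNat := by
  rcases lt_or_ge a 0 with h | h
  · have := Groth.Agent.S0844.result k 1 a 0 (by omega) (by omega)
    rw [Module.finrank_zero_of_subsingleton]
    omega
  · have h4 := Groth.Agent.S4466.result k 1 one_pos a
    rw [Finset.sum_range_succ, Finset.sum_range_one] at h4
    have h1 : Subsingleton (Coh.HH (CohB1.ProjSpace 1 k) (Twist.twistProjSpace 1 k a) 1) :=
      Groth.Agent.S0844.result k 1 a 1 (by omega) (by omega)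
    rw [Module.finrank_zero_of_subsingleton
      (M := Coh.HH (CohB1.ProjSpace 1 k) (Twist.twistProjSpace 1 k a) 1)] at h4
    have h5 : Ring.choose (a + ((1 : ℕ) : ℤ)) 1 = a + 1 := by
      rw [Ring.choose_one_right]
      simp
    rw [h5] at h4
    simp only [pow_zero, one_mul, Nat.cast_zero, mul_zero, add_zero] at h4
    omega


lemma mem_iff_lt_card_of_lower {r : ℕ} (S : Finset (Fin r))
    (hS : ∀ i j : Fin r, i ≤ j → j ∈ S → i ∈ S) (j : Fin r) :
    j ∈ S ↔ j.val < S.card := by
  constructor
  · intro hj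
    have h1 : Finset.Iic j ⊆ S := fun i hi => hS i j (Finset.mem_Iic.mp hi) hj
    have h2 := Finset.card_le_card h1
    rw [Fin.card_Iic] at h2
    omega
  · intro hlt
    by_contra hj
    have h1 : S ⊆ Finset.Iio j := fun i hi => by
      rw [Finset.mem_Iio]
      by_contra hle
      push Not at hle
      exact hj (hS j i hle hi)
    have h2 := Finset.card_le_card h1
    rw [Fin.card_Iio] at h2
    omega

theorem antitone_unique {r : ℕ} (d d' : Fin r → ℤ) (hd : Antitone d) (hd' : Antitone d')
    (h : ∀ m : ℤ, ∑ j, (d j + m + 1).toNat = ∑ j, (d' j + m + 1).toNat) : d = d' := by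
  have count : ∀ (f : Fin r → ℤ) (t : ℤ),
      ((Finset.univ.filter (fun j => t ≤ f j)).card : ℤ) =
      (∑ j, ((f j + (-t) + 1).toNat : ℤ)) - ∑ j, ((f j + (-t - 1) + 1).toNat : ℤ) := by
    intro f t
    rw [← Finset.sum_sub_distrib, Finset.card_filter]
    push_cast
    apply Finset.sum_congr rfl
    intro j _
    split_ifs with hj <;> omega
  have hc : ∀ t : ℤ, (Finset.univ.filter (fun j => t ≤ d j)).card =
      (Finset.univ.filter (fun j => t ≤ d' j)).card := by
    intro t
    have h1 := count d t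
    have h2 := count d' t
    have e1 := h (-t)
    have e2 := h (-t - 1)
    zify at e1 e2
    have : ((Finset.univ.filter (fun j => t ≤ d j)).card : ℤ) =
        ((Finset.univ.filter (fun j => t ≤ d' j)).card : ℤ) := by
      rw [h1, h2, e1, e2]
    exact_mod_cast this
  funext j
  have key : ∀ t : ℤ, t ≤ d j ↔ t ≤ d' j := by
    intro t
    have l1 := mem_iff_lt_card_of_lower (Finset.univ.filter (fun j => t ≤ d j)) (by
      intro i j hij hj
      simp only [Finset.mem_filter, Finset.mem_univ, true_and] at hj ⊢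
      exact hj.trans (hd hij)) j
    have l2 := mem_iff_lt_card_of_lower (Finset.univ.filter (fun j => t ≤ d' j)) (by
      intro i j hij hj
      simp only [Finset.mem_filter, Finset.mem_univ, true_and] at hj ⊢
      exact hj.trans (hd' hij)) j
    simp only [Finset.mem_filter, Finset.mem_univ, true_and] at l1 l2
    rw [l1, l2, hc t]
  exact le_antisymm ((key _).mp le_rfl) ((key _).mpr le_rfl)

theorem exists_antitone_perm {r : ℕ} (a : Fin r → ℤ) :
    ∃ σ : Equiv.Perm (Fin r), Antitone (a ∘ σ) := by
  refine ⟨Tuple.sort (fun j => - a j), ?_⟩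
  have h := Tuple.monotone_sort (fun j => - a j)
  intro i j hij
  have := h hij
  simp only [Function.comp_apply, neg_le_neg_iff] at this
  exact this

end

end Groth.Agent.Lib.helper20.SplitP1
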