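import Mathlib
import Groth.Agent.Lib.Helper20.MulHomIso
import Groth.Agent.Lib.Helper20.NullCorr5
import Groth.Agent.Lib.Helper20.RankKer
import Groth.Agent.Lib.Helper20.OmegaSimple
import Groth.Agent.Lib.Helper20.SplitP1

/-!
# The null-correlation map `O(-2) ⟶ Z_1 ≅ Ω¹` on odd-dimensional projective space (helper20)
-/

set_option autoImplicit false
set_option linter.style.haveILetI false
universe u

open CategoryTheory CategoryTheory.Limits AlgebraicGeometry Opposite TopologicalSpace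

namespace Groth.Agent.Lib.Helper20.NullCorr6

open Groth.Agent.Lib.helper20.TwistVal
  Groth.Agent.Lib.helper28.TwistFree Groth.Agent.Lib.helper28.TwistMul
  Groth.Agent.Lib.Helper20.ProjMulHom Groth.Agent.Lib.helper20.Euler3
  Groth.Agent.Lib.helper20.Euler2 Groth.Agent.Lib.helper20.Euler3a
  Groth.Agent.Lib.helper20.EulerAlg
  Groth.Agent.Lib.helper20.Euler4a Groth.Agent.Lib.helper20.Euler4d
  Groth.Agent.Lib.helper20.Euler4c
  Groth.Agent.Lib.helper20.Euler4e Groth.Agent.Lib.helper20.Euler4f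
  Groth.Agent.Lib.helper20.OmegaSimple
  Groth.Agent.Lib.Helper20.MulHomIso Groth.Agent.Lib.Helper20.NullCorr5
  Groth.Agent.Lib.helper16.FLF Scheme.Modules

noncomputable section

section Comb

variable {n : ℕ} (hn : Odd n)

/-- the involution `2i ↔ 2i+1` of `{0..n}`, `n` odd -/
def sw (j : Fin (n + 1)) : Fin (n + 1) :=
  if h : j.val % 2 = 0 then ⟨j.val + 1, by obtain ⟨m, hm⟩ := hn; have := j.2; omega⟩
  else ⟨j.val - 1, by have := j.2; omega⟩

lemma sw_val (j : Fin (n + 1)) :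
    (sw hn j).val = if j.val % 2 = 0 then j.val + 1 else j.val - 1 := by
  unfold sw
  split_ifs <;> rfl

lemma sw_sw (j : Fin (n + 1)) : sw hn (sw hn j) = j := by
  apply Fin.ext
  rw [sw_val, sw_val]
  split_ifs <;> omega

lemma sw_ne (j : Fin (n + 1)) : sw hn j ≠ j := by
  intro h
  have := congrArg Fin.val h
  rw [sw_val] at this
  split_ifs at this <;> omega

lemma sw_parity (j : Fin (n + 1)) : ((sw hn j).val % 2 = 0) ↔ ¬ (j.val % 2 = 0) := by
  rw [sw_val]
  split_ifs <;> omega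

variable (A : Type u) [CommRing A]

/-- the sign `+1` on even, `-1` on odd indices -/
def sg (j : Fin (n + 1)) : A := if j.val % 2 = 0 then 1 else -1

lemma sg_sw (j : Fin (n + 1)) : sg A (sw hn j) = - sg A j := by
  unfold sg
  by_cases h : j.val % 2 = 0
  · rw [if_pos h, if_neg ((sw_parity hn j).not.mpr (not_not.mpr h))]
  · rw [if_neg h, if_pos ((sw_parity hn j).mpr h), neg_neg]

lemma sg_mul_self (j : Fin (n + 1)) : sg A j * sg A j = 1 := by
  unfold sg
  split_ifs <;> simp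

local notation "𝒜ₙ" => CohB1.polyGrading n A
local notation "S" => MvPolynomial (Fin (n + 1)) A

/-- the linear form `ℓ_j = ± X_{σ j}` -/
def ell (j : Fin (n + 1)) : 𝒜ₙ 1 :=
  ⟨MvPolynomial.C (sg A j) * MvPolynomial.X (sw hn j),
    (MvPolynomial.isHomogeneous_X A (sw hn j)).C_mul (sg A j)⟩

lemma sum_X_mul_ell : ∑ j : Fin (n + 1), (MvPolynomial.X j : S) * (ell hn A j).1 = 0 := by
  refine Finset.sum_ninvolution (sw hn) (fun j => ?_) (fun j _ => sw_ne hn j)
    (fun j => Finset.mem_univ _) (sw_sw hn)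
  unfold ell
  simp only
  rw [sw_sw, sg_sw, map_neg]
  ring

end Comb

section Map

variable {n : ℕ} (hn : Odd n) (A : Type u) [CommRing A]

local notation "𝒜ₙ" => CohB1.polyGrading n A
local notation "S" => MvPolynomial (Fin (n + 1)) A

lemma mkOne_eq (f : S) (x : ProjectiveSpectrum 𝒜ₙ) :
    mkOne 𝒜ₙ f x = algebraMap S (Twist.Loc 𝒜ₙ x) f :=
  Localization.mk_one_eq_algebraMap f

/-- multiplication by `ℓ_j`, `O(-2) ⟶ O(-1)` -/
def ellHom (j : Fin (n + 1)) : tw n A 2 ⟶ tw n A 1 :=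
  mulHom 𝒜ₙ (a := -((2 : ℕ) : ℤ)) (b := -((1 : ℕ) : ℤ)) (k := 1) (by norm_num)
    (ell hn A j)

lemma valO_ellHom (j : Fin (n + 1)) {V : (Proj 𝒜ₙ).Opens} (τ : Γ(tw n A 2, V)) (x : V) :
    valO 𝒜ₙ (((ellHom hn A j).app V).hom τ) x = valO 𝒜ₙ τ x * mkOne 𝒜ₙ (ell hn A j).1 x.1 :=
  mulHom_valO _ _ τ x

/-- the null-correlation map into `K_1 = O(-1)^{n+1}` -/
def v0 : tw n A 2 ⟶ K n A 1 :=
  ∑ j : Fin (n + 1), ellHom hn A j ≫ Sigma.ι (fun _ : Idx n 1 => tw n A 1) (sing j)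

lemma v0_π (i : Fin (n + 1)) :
    v0 hn A ≫ Sigma.π (fun _ : Idx n 1 => tw n A 1) (sing i) = ellHom hn A i := by
  classical
  unfold v0
  rw [Preadditive.sum_comp, Finset.sum_eq_single i]
  · rw [Category.assoc, Sigma.ι_π_eq_id, Category.comp_id]
  · intro j _ hji
    rw [Category.assoc, Sigma.ι_π_of_ne _ (fun h => hji (sing_injective h)), Limits.comp_zero]
  · intro h
    exact absurd (Finset.mem_univ i) h

lemma vExt_v0 {V : (Proj 𝒜ₙ).Opens} (τ : Γ(tw n A 2, V)) (x : V) (l : Fin (n + 1)) :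
    vExt (((v0 hn A).app V).hom τ) x {l} =
      valO 𝒜ₙ τ x * mkOne 𝒜ₙ (ell hn A l).1 x.1 := by
  have h := vExt_of_card (((v0 hn A).app V).hom τ) x (sing l)
  rw [show ({l} : Finset (Fin (n + 1))) = (sing l).val from rfl, h]
  change valO 𝒜ₙ (((v0 hn A ≫ Sigma.π (fun _ : Idx n 1 => tw n A 1) (sing l)).app V).hom τ) x = _
  rw [v0_π]
  exact valO_ellHom hn A l τ x

lemma isCyc_v0 {V : (Proj 𝒜ₙ).Opens} (τ : Γ(tw n A 2, V)) :
    IsCyc (((v0 hn A).app V).hom τ) := by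
  classical
  intro x J
  by_cases hJ : J = ∅
  · subst hJ
    rw [bd_empty]
    have key : ∀ l, xi x.1 l * vExt (((v0 hn A).app V).hom τ) x {l} =
        valO 𝒜ₙ τ x * algebraMap S (Twist.Loc 𝒜ₙ x.1) ((MvPolynomial.X l : S) * (ell hn A l).1) := by
      intro l
      rw [vExt_v0, mkOne_eq, map_mul]
      unfold xi
      rw [mkOne_eq]
      ring
    rw [Finset.sum_congr rfl (fun l _ => key l), ← Finset.mul_sum, ← map_sum, sum_X_mul_ell,
      map_zero, mul_zero]
  · unfold bd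
    refine Finset.sum_eq_zero fun l _ => ?_
    by_cases hl : l ∈ J
    · rw [if_pos hl]
    · rw [if_neg hl, vExt_of_card_ne, mul_zero]
      rw [Finset.card_insert_of_notMem hl]
      have : 0 < J.card := Finset.card_pos.mpr (Finset.nonempty_iff_ne_empty.mpr hJ)
      omega

lemma v0_dd : v0 hn A ≫ dd n A 1 = 0 := by
  apply Scheme.Modules.hom_ext
  intro V
  apply AddCommGrpCat.hom_ext
  apply AddMonoidHom.ext
  intro τ
  change ((dd n A 1).app V).hom (((v0 hn A).app V).hom τ) = 0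
  exact (dd_app_eq_zero_iff _).mpr (isCyc_v0 hn A τ)

/-- the null-correlation map `O(-2) ⟶ Z_1` -/
def v : tw n A 2 ⟶ Z n A 1 := kernel.lift (dd n A 1) (v0 hn A) (v0_dd hn A)

lemma v_ιZ : v hn A ≫ ιZ n A 1 = v0 hn A := kernel.lift_ι _ _ _

/-- `v` is split locally on `P^n` -/
lemma exists_retraction (x : Proj 𝒜ₙ) : ∃ U : (Proj 𝒜ₙ).Opens, x ∈ U ∧
    ∃ r : (restrictFunctor U.ι).obj (Z n A 1) ⟶ (restrictFunctor U.ι).obj (tw n A 2),
      (restrictFunctor U.ι).map (v hn A) ≫ r = 𝟙 _ := by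
  obtain ⟨i, hi⟩ := Groth.Agent.Lib.helper28.TwistPn.exists_X_notMem n A x
  obtain ⟨i', hi'⟩ : ∃ i', i' = sw hn i := ⟨_, rfl⟩
  have hmem : (ell hn A i').1 ∉ x.asHomogeneousIdeal := by
    intro h
    apply hi
    have h2 : (MvPolynomial.X i : S) = MvPolynomial.C (sg A i') * (ell hn A i').1 := by
      unfold ell
      simp only
      rw [hi', sw_sw, ← mul_assoc, ← map_mul, sg_mul_self, map_one, one_mul]
    rw [h2]
    exact Ideal.mul_mem_left _ _ h
  let U : (Proj 𝒜ₙ).Opens := Proj.basicOpen 𝒜ₙ ((ell hn A i').1)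
  have hxU : x ∈ U := (Proj.mem_basicOpen 𝒜ₙ _ x).mpr hmem
  haveI hiso : IsIso ((restrictFunctor U.ι).map (ellHom hn A i')) :=
    isIso_restrict_mulHom 𝒜ₙ (by norm_num) _ (ell hn A i')
  refine ⟨U, hxU, (restrictFunctor U.ι).map
    (ιZ n A 1 ≫ Sigma.π (fun _ : Idx n 1 => tw n A 1) (sing i')) ≫
      inv ((restrictFunctor U.ι).map (ellHom hn A i')), ?_⟩
  rw [← Category.assoc, ← Functor.map_comp, ← Category.assoc, v_ιZ, v0_π, IsIso.hom_inv_id]

lemma rank_tw (p : ℕ) : FlatMod.IsFinLocFreeOfRank 1 (tw n A p) :=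
  (isInvertible_iff_isFinLocFreeOfRank_one _).mp
    (Groth.Agent.Lib.helper28.TwistPn.isInvertible n A (-(p : ℤ)))

lemma rank_K1 : FlatMod.IsFinLocFreeOfRank (n + 1) (K n A 1) := by
  have h1 : FlatMod.IsFinLocFreeOfRank (n + 1) (∐ fun _ : Fin (n + 1) => tw n A 1) :=
    Groth.Agent.Lib.helper20.SplitP1.isFinLocFreeOfRank_sigma _ (fun _ => rank_tw A 1)
  let e : Fin (n + 1) ≃ Idx n 1 := Equiv.ofBijective sing
    ⟨sing_injective, fun I => (exists_sing I).imp fun _ h => h.symm⟩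
  exact isFinLocFreeOfRank_of_iso
    (Sigma.whiskerEquiv (f := fun _ : Fin (n + 1) => tw n A 1)
      (g := fun _ : Idx n 1 => tw n A 1) e (fun _ => Iso.refl _)) h1

lemma rank_Z0 : FlatMod.IsFinLocFreeOfRank 1 (Z n A 0) :=
  isFinLocFreeOfRank_of_iso (isoZ0 (n := n) (A := A)).symm (isFinLocFreeOfRank_structureModule _)

lemma rank_Z1 : FlatMod.IsFinLocFreeOfRank n (Z n A 1) := by
  have h := Groth.Agent.Lib.Helper20.RankKer.isFinLocFreeOfRank_X₁ (sesZ n A 0)
    (shortExact_sesZ (n := n) (A := A) 0) (rank_K1 A) (rank_Z0 A)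
  rwa [Nat.add_sub_cancel] at h

/-- the cokernel of the null-correlation map is locally free of rank `n - 1` -/
theorem rank_cokernel_v : FlatMod.IsFinLocFreeOfRank (n - 1) (cokernel (v hn A)) :=
  isFinLocFreeOfRank_cokernel_of_locally_split (rank_tw A 2) (rank_Z1 A) (v hn A)
    (exists_retraction hn A)

lemma mono_of_injective {X : Scheme.{u}} {M N : X.Modules} (φ : M ⟶ N)
    (h : ∀ V : X.Opens, Function.Injective (φ.app V).hom) : Mono φ := by
  refine ⟨fun {P} a b hab => ?_⟩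
  apply Scheme.Modules.hom_ext
  intro V
  apply AddCommGrpCat.hom_ext
  apply AddMonoidHom.ext
  intro s
  apply h V
  have h1 : (a ≫ φ).app V = (b ≫ φ).app V := by rw [hab]
  exact congr($(h1).hom s)

lemma ell_ne_zero [IsDomain A] (j : Fin (n + 1)) : (ell hn A j).1 ≠ 0 := by
  unfold ell
  simp only
  refine mul_ne_zero ?_ (MvPolynomial.X_ne_zero _)
  rw [Ne, MvPolynomial.C_eq_zero]
  unfold sg
  split_ifs <;> simp

lemma mono_v0 [IsDomain A] : Mono (v0 hn A) := by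
  refine mono_of_injective _ fun V => ?_
  intro τ τ' hτ
  apply valO_ext
  intro x
  have h1 := congrArg (fun t => valO 𝒜ₙ (comp (fun _ : Idx n 1 => tw n A 1) t (sing 0)) x) hτ
  have h2 : ∀ t : Γ(tw n A 2, V),
      valO 𝒜ₙ (comp (fun _ : Idx n 1 => tw n A 1) (((v0 hn A).app V).hom t) (sing 0)) x =
        valO 𝒜ₙ t x * mkOne 𝒜ₙ (ell hn A 0).1 x.1 := by
    intro t
    change valO 𝒜ₙ (((v0 hn A ≫ Sigma.π (fun _ : Idx n 1 => tw n A 1) (sing 0)).app V).hom t) x = _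
    rw [v0_π]
    exact valO_ellHom hn A 0 t x
  simp only [h2] at h1
  have h3 : mkOne 𝒜ₙ (ell hn A 0).1 x.1 ≠ 0 := by
    rw [mkOne_eq]
    intro h0
    exact ell_ne_zero hn A 0
      ((IsLocalization.injective (Twist.Loc 𝒜ₙ x.1)
        (Ideal.primeCompl_le_nonZeroDivisors x.1.asHomogeneousIdeal.toIdeal))
        (h0.trans (map_zero _).symm))
  exact mul_right_cancel₀ h3 h1

instance mono_v [IsDomain A] : Mono (v hn A) := by
  haveI : Mono (v hn A ≫ ιZ n A 1) := by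
    rw [v_ιZ]
    exact mono_v0 hn A
  exact mono_of_mono (v hn A) (ιZ n A 1)

end Map

end

end Groth.Agent.Lib.Helper20.NullCorr6
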