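import Mathlib
import Groth.Prelude.Def_KLin
import Groth.Agent.Lib.Helper20.LinCat
import Groth.Agent.Lib.Helper20.LinForms
import Groth.Agent.Lib.Helper20.OmegaSimple
import Groth.Agent.Lib.Helper20.TwistHom
import Groth.Agent.Lib.Helper20.NullCorr6
import Groth.Agent.Lib.Helper11.LocGen

/-!
# Epimorphisms `O(-1)^a → O` on projective space over a field (helper20)

For an epimorphism `ρ : O(-1)^a ⟶ O` on `P^m_k`, the linear forms defining `ρ` span the space of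
all linear forms, and `ker ρ ≅ ker (Euler map) ⊞ O(-1)^{a - (m + 1)}`.
-/

set_option autoImplicit false
set_option linter.style.haveILetI false
universe u

open CategoryTheory CategoryTheory.Limits AlgebraicGeometry Opposite TopologicalSpace

namespace Groth.Agent.Lib.Helper20.EpiSpan

open Groth.Agent.Lib.helper20.TwistVal
  Groth.Agent.Lib.helper28.TwistFree Groth.Agent.Lib.helper28.TwistMul
  Groth.Agent.Lib.Helper20.ProjMulHom Groth.Agent.Lib.helper20.Euler3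
  Groth.Agent.Lib.helper20.Euler2 Groth.Agent.Lib.helper20.Euler3a
  Groth.Agent.Lib.helper20.EulerAlg
  Groth.Agent.Lib.helper20.Euler4a Groth.Agent.Lib.helper20.Euler4d
  Groth.Agent.Lib.helper20.Euler4e Groth.Agent.Lib.helper20.Euler4f
  Groth.Agent.Lib.helper20.OmegaSimple Groth.Agent.Lib.helper20.TwistHom
  Groth.Agent.Lib.helper20.ExactLoc Groth.Agent.Lib.helper20.LFMono
  Groth.Agent.Lib.Helper20.LinCat Groth.Agent.Lib.Helper20.LinForms
  Groth.Agent.Lib.Helper20.NullCorr6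

noncomputable section

variable {k : Type u} [Field k] {m : ℕ}

local notation "𝒜ₘ" => CohB1.polyGrading m k
local notation "S" => MvPolynomial (Fin (m + 1)) k

/-- `Proj` of the polynomial ring as a scheme over `k` -/
local instance overK : (Proj (CohB1.polyGrading m k)).Over (Spec (CommRingCat.of k)) :=
  ⟨CohB1.ProjSpace.toSpec m k⟩

/-- the Euler map `O(-1)^{m+1} ⟶ O` -/
def rho0 (m : ℕ) (k : Type u) [Field k] :
    (∐ fun _ : Fin (m + 1) => tw m k 1) ⟶ tw m k 0 :=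
  Sigma.desc fun t => xHom m k 0 t

variable {a : ℕ} (ρ : (∐ fun _ : Fin a => tw m k 1) ⟶ tw m k 0)

/-- the linear forms defining `ρ` -/
theorem exists_forms : ∃ p : Fin a → 𝒜ₘ 1, ∀ (i : Fin a) (U : (Proj 𝒜ₘ).Opens)
    (σ : Γ(tw m k 1, U)) (x : U),
    valO 𝒜ₘ (((Sigma.ι (fun _ : Fin a => tw m k 1) i ≫ ρ).app U).hom σ) x =
      valO 𝒜ₘ σ x * mkOne 𝒜ₘ (p i).1 x.1 := by
  choose p hp using fun i : Fin a => exists_poly_of_hom (n := m) (A := k) 1 (-((0 : ℕ) : ℤ))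
    (by norm_num) (Sigma.ι (fun _ : Fin a => tw m k 1) i ≫ ρ)
  exact ⟨p, hp⟩

/-- value of a constant multiple of a morphism -/
lemma valO_smul_hom {b c : ℤ} (r : k) (f : Twist.twist 𝒜ₘ b ⟶ Twist.twist 𝒜ₘ c)
    {U : (Proj 𝒜ₘ).Opens} (σ : Γ(Twist.twist 𝒜ₘ b, U)) (x : U) :
    valO 𝒜ₘ (((r • f).app U).hom σ) x =
      mkOne 𝒜ₘ (MvPolynomial.C r : S) x.1 * valO 𝒜ₘ ((f.app U).hom σ) x := by
  have h1 : ((r • f).app U).hom σ =
      (show Γ(Proj 𝒜ₘ, U) from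
        Coh.resTop (Proj 𝒜ₘ) (op U) (Coh.toGlobal (X := Proj 𝒜ₘ) (fP m k) r)) • (f.app U).hom σ :=
    KLin.smul_app_apply r f U σ
  rw [h1, valO_smul]
  congr 1
  exact val_resTop_toGlobal r U x

/-- `ρ` factors through the Euler map by the constant matrix of coefficients -/
theorem eq_constHom_comp (p : Fin a → 𝒜ₘ 1)
    (hp : ∀ (i : Fin a) (U : (Proj 𝒜ₘ).Opens) (σ : Γ(tw m k 1, U)) (x : U),
      valO 𝒜ₘ (((Sigma.ι (fun _ : Fin a => tw m k 1) i ≫ ρ).app U).hom σ) x =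
        valO 𝒜ₘ σ x * mkOne 𝒜ₘ (p i).1 x.1) :
    ρ = constHom (tw m k 1) (Matrix.of fun i t => cf (p i).1 t) ≫ rho0 m k := by
  apply Sigma.hom_ext
  intro i
  rw [ι_constHom_assoc, Preadditive.sum_comp]
  have h1 : ∀ t : Fin (m + 1), ((Matrix.of fun i t => cf (p i).1 t) i t •
      Sigma.ι (fun _ : Fin (m + 1) => tw m k 1) t) ≫ rho0 m k = cf (p i).1 t • xHom m k 0 t := by
    intro t
    rw [Linear.smul_comp]
    unfold rho0
    rw [Sigma.ι_desc]
    rfl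
  rw [Finset.sum_congr rfl (fun t _ => h1 t)]
  apply Scheme.Modules.hom_ext
  intro U
  apply AddCommGrpCat.hom_ext
  apply AddMonoidHom.ext
  intro σ0
  obtain ⟨σ, hσ⟩ : ∃ σ : Γ(tw m k 1, U), σ = σ0 := ⟨σ0, rfl⟩
  rw [← hσ]
  change ((Sigma.ι (fun _ : Fin a => tw m k 1) i ≫ ρ).app U).hom σ =
    (appAddHom U (∑ t, cf (p i).1 t • xHom m k 0 t)) σ
  apply valO_ext
  intro x
  rw [hp i U σ x, map_sum, AddMonoidHom.finsetSum_apply, valO_sum]
  have h2 : ∀ t : Fin (m + 1), valO 𝒜ₘ ((appAddHom U (cf (p i).1 t • xHom m k 0 t)) σ) x =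
      valO 𝒜ₘ σ x * algebraMap S (Twist.Loc 𝒜ₘ x.1)
        ((MvPolynomial.X t : S) * MvPolynomial.C (cf (p i).1 t)) := by
    intro t
    change valO 𝒜ₘ (((cf (p i).1 t • xHom m k 0 t).app U).hom σ) x = _
    rw [valO_smul_hom, valO_xHom, mkOne_eq, map_mul]
    unfold xi
    rw [mkOne_eq]
    ring
  rw [Finset.sum_congr rfl (fun t _ => h2 t), ← Finset.mul_sum, ← map_sum,
    ← linear_form_eq (p i).2, mkOne_eq]

/-- the forms defining an epimorphism `O(-1)^a ⟶ O` have no common zero: the coefficient matrix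
has a left inverse -/
theorem exists_leftInverse [Epi ρ] (p : Fin a → 𝒜ₘ 1)
    (hp : ∀ (i : Fin a) (U : (Proj 𝒜ₘ).Opens) (σ : Γ(tw m k 1, U)) (x : U),
      valO 𝒜ₘ (((Sigma.ι (fun _ : Fin a => tw m k 1) i ≫ ρ).app U).hom σ) x =
        valO 𝒜ₘ σ x * mkOne 𝒜ₘ (p i).1 x.1) :
    ∃ N : Matrix (Fin (m + 1)) (Fin a) k,
      N * (Matrix.of fun i t => cf (p i).1 t : Matrix (Fin a) (Fin (m + 1)) k) = 1 := by
  rcases exists_leftInverse_or_vanish
    (Matrix.of fun i t => cf (p i).1 t : Matrix (Fin a) (Fin (m + 1)) k) with h | ⟨c, hc, hv⟩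
  · exact h
  exfalso
  -- the point with coordinates `c`
  let x₀ : ProjectiveSpectrum 𝒜ₘ := pt c hc
  have hmem : ∀ i, (p i).1 ∈ x₀.asHomogeneousIdeal := fun i =>
    mem_pt_of_linear c hc (p i).2 (hv i)
  obtain ⟨t₀, ht₀⟩ : ∃ t, c t ≠ 0 := by
    by_contra hcon
    push Not at hcon
    exact hc (funext hcon)
  have hx₀ : (MvPolynomial.X t₀ : S) ∉ x₀.asHomogeneousIdeal := X_notMem_ptIdeal c t₀ ht₀
  -- the section `1` of `O` near `x₀`
  let U : (Proj 𝒜ₘ).Opens := U0 m k t₀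
  have hxU : x₀ ∈ U := (Proj.mem_basicOpen 𝒜ₘ _ x₀).mpr hx₀
  let y : Γ(tw m k 0, U) := ((xHom m k 0 t₀).app U).hom (gen t₀ U (hU0 t₀))
  have hy : ∀ x : U, valO 𝒜ₘ y x = 1 := by
    intro x
    change valO 𝒜ₘ (((xHom m k 0 t₀).app U).hom (gen t₀ U (hU0 t₀))) x = 1
    rw [valO_xHom, valO_gen, mul_comm]
    exact xi_mul_eta t₀ x.1 (hU0 t₀ x)
  obtain ⟨W, hWU, hxW, z, hz⟩ :=
    @Groth.Agent.Lib.helper11.LocGen.exists_local_preimage _ (Proj 𝒜ₘ).ringCatSheaf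
      (∐ fun _ : Fin a => tw m k 1 : (Proj 𝒜ₘ).Modules) (tw m k 0) ρ ‹Epi ρ› U y x₀ hxU
  obtain ⟨z', hz'⟩ : ∃ z' : Γ(∐ fun _ : Fin a => tw m k 1, W), z' = z := ⟨z, rfl⟩
  have hz2 : ((ρ.app W).hom z') = (tw m k 0).presheaf.map (homOfLE hWU).op y := by
    rw [hz']
    exact hz
  have h1 : valO 𝒜ₘ ((ρ.app W).hom z') ⟨x₀, hxW⟩ = 1 := by
    rw [hz2, valO_res]
    exact hy ⟨x₀, hWU hxW⟩
  -- but the value lies in the maximal ideal
  have h2 : valO 𝒜ₘ ((ρ.app W).hom z') ⟨x₀, hxW⟩ ∈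
      IsLocalRing.maximalIdeal (Twist.Loc 𝒜ₘ x₀) := by
    have h3 : (ρ.app W).hom z' = ∑ i : Fin a,
        ((Sigma.ι (fun _ : Fin a => tw m k 1) i ≫ ρ).app W).hom
          (((Sigma.π (fun _ : Fin a => tw m k 1) i).app W).hom z') := by
      conv_lhs => rw [sec_eq_sum (fun _ : Fin a => tw m k 1) W z']
      rw [map_sum]
      rfl
    rw [h3, valO_sum]
    refine Ideal.sum_mem _ fun i _ => ?_
    rw [hp i W _ ⟨x₀, hxW⟩]
    refine Ideal.mul_mem_left _ _ ?_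
    rw [mkOne_eq]
    exact (IsLocalization.AtPrime.to_map_mem_maximal_iff (Twist.Loc 𝒜ₘ x₀)
      x₀.asHomogeneousIdeal.toIdeal (p i).1).mpr (hmem i)
  rw [h1] at h2
  exact (Ideal.ne_top_iff_one _).mp (IsLocalRing.maximalIdeal.isMaximal _).ne_top h2

/-- **the kernel of an epimorphism `O(-1)^a ⟶ O` on `P^m_k`** -/
theorem nonempty_kernel_iso [Epi ρ] :
    Nonempty (kernel ρ ≅ kernel (rho0 m k) ⊞ ∐ fun _ : Fin (a - (m + 1)) => tw m k 1) := by
  obtain ⟨p, hp⟩ := exists_forms ρ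
  obtain ⟨N, hN⟩ := exists_leftInverse ρ p hp
  obtain ⟨κ, π, h1, h2, h3, h4⟩ := exists_complement _ N hN
  have hρ := eq_constHom_comp ρ p hp
  refine ⟨kernelIsoOfEq hρ ≪≫ kernelSplitIso (constHom (tw m k 1) κ) (constHom (tw m k 1) π)
    (constHom (tw m k 1) _) (constHom (tw m k 1) N) (rho0 m k) ?_ ?_ ?_ ?_ ?_⟩
  · rw [constHom_mul, h1, constHom_one]
  · rw [constHom_mul, hN, constHom_one]
  · rw [constHom_mul, h2, constHom_zero]
  · rw [constHom_mul, h3, constHom_zero]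
  · rw [constHom_mul, constHom_mul, ← constHom_add, h4, constHom_one]

end

end Groth.Agent.Lib.Helper20.EpiSpan
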