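import Mathlib

/-!
# A binomial identity for the Bott formula (helper20)
-/

set_option autoImplicit false

namespace Groth.Agent.Lib.helper20.Euler6a

open Nat

/-- the identity in additive form -/
lemma bott_identity_aux (a b q : ℕ) :
    (b + q + 2).choose (q + 1) * (a + b + q + 1).choose (b + q + 1) =
      (a + b + q + 1).choose (a + q + 1) * (a + q).choose (q + 1) +
        (a + b + q + 2).choose (a + q + 1) * (a + q).choose q := by
  have key : (((b + q + 2).choose (q + 1) * (a + b + q + 1).choose (b + q + 1) : ℕ) : ℚ) =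
      (((a + b + q + 1).choose (a + q + 1) * (a + q).choose (q + 1) +
        (a + b + q + 2).choose (a + q + 1) * (a + q).choose q : ℕ) : ℚ) := by
    have e1 : ((b + q + 2).choose (q + 1) : ℚ) =
        ((q + 1 + (b + 1))! : ℚ) / ((q + 1)! * (b + 1)!) := by
      rw [← Nat.cast_add_choose]; congr 2; omega
    have e2 : ((a + b + q + 1).choose (b + q + 1) : ℚ) =
        ((b + q + 1 + a)! : ℚ) / ((b + q + 1)! * a !) := by
      rw [← Nat.cast_add_choose]; congr 2; omega
    have e3 : ((a + b + q + 1).choose (a + q + 1) : ℚ) =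
        ((a + q + 1 + b)! : ℚ) / ((a + q + 1)! * b !) := by
      rw [← Nat.cast_add_choose]; congr 2; omega
    have e5 : ((a + b + q + 2).choose (a + q + 1) : ℚ) =
        ((a + q + 1 + (b + 1))! : ℚ) / ((a + q + 1)! * (b + 1)!) := by
      rw [← Nat.cast_add_choose]; congr 2; omega
    have e6 : ((a + q).choose q : ℚ) = ((q + a)! : ℚ) / (q ! * a !) := by
      rw [← Nat.cast_add_choose]; congr 2; omega
    have f1 : q + 1 + (b + 1) = (b + q + 1) + 1 := by omega
    have f2 : b + q + 1 + a = a + b + q + 1 := by omega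
    have f3 : a + q + 1 + b = a + b + q + 1 := by omega
    have f5 : a + q + 1 + (b + 1) = (a + b + q + 1) + 1 := by omega
    have f6 : q + a = a + q := by omega
    have f7 : a + q + 1 = (a + q) + 1 := by omega
    cases a with
    | zero =>
      have e4 : ((0 + q).choose (q + 1) : ℚ) = 0 := by
        rw [Nat.choose_eq_zero_of_lt (by omega)]; rfl
      push_cast
      rw [e1, e2, e3, e4, e5, e6, f1, f2, f3, f5, f6, f7]
      simp only [Nat.factorial_succ, Nat.factorial_zero]
      push_cast
      have h1 : ((b + q + 1)! : ℚ) ≠ 0 := by exact_mod_cast (Nat.factorial_pos _).ne'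
      have h2 : ((0 + b + q + 1)! : ℚ) ≠ 0 := by exact_mod_cast (Nat.factorial_pos _).ne'
      have h3 : ((0 + q)! : ℚ) ≠ 0 := by exact_mod_cast (Nat.factorial_pos _).ne'
      have h4 : (b ! : ℚ) ≠ 0 := by exact_mod_cast (Nat.factorial_pos _).ne'
      have h5 : (q ! : ℚ) ≠ 0 := by exact_mod_cast (Nat.factorial_pos _).ne'
      field_simp
      ring
    | succ a' =>
      have e4 : ((a' + 1 + q).choose (q + 1) : ℚ) =
          ((q + 1 + a')! : ℚ) / ((q + 1)! * a' !) := by
        rw [← Nat.cast_add_choose]; congr 2; omega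
      have f4 : q + 1 + a' = a' + 1 + q := by omega
      push_cast
      rw [e1, e2, e3, e4, e5, e6, f1, f2, f3, f4, f5, f6, f7]
      simp only [Nat.factorial_succ]
      push_cast
      have h1 : ((b + q + 1)! : ℚ) ≠ 0 := by exact_mod_cast (Nat.factorial_pos _).ne'
      have h2 : ((a' + 1 + b + q + 1)! : ℚ) ≠ 0 := by exact_mod_cast (Nat.factorial_pos _).ne'
      have h3 : ((a' + 1 + q)! : ℚ) ≠ 0 := by exact_mod_cast (Nat.factorial_pos _).ne'
      have h4 : (b ! : ℚ) ≠ 0 := by exact_mod_cast (Nat.factorial_pos _).ne'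
      have h5 : (q ! : ℚ) ≠ 0 := by exact_mod_cast (Nat.factorial_pos _).ne'
      have h6 : (a' ! : ℚ) ≠ 0 := by exact_mod_cast (Nat.factorial_pos _).ne'
      field_simp
      ring
  exact_mod_cast key

/-- the binomial identity behind the Bott formula: with `f p = C(d+r-p, d) * C(d-1, p)`,
`f p + f (p-1) = C(r+1, p) * C(d-p+r, r)` -/
lemma bott_identity (r d p : ℕ) (hp1 : 1 ≤ p) (hpr : p ≤ r) (hpd : p ≤ d) :
    (r + 1).choose p * (d - p + r).choose r =
      (d + r - p).choose d * (d - 1).choose p +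
        (d + r - p + 1).choose d * (d - 1).choose (p - 1) := by
  obtain ⟨q, rfl⟩ : ∃ q, p = q + 1 := ⟨p - 1, by omega⟩
  obtain ⟨a, rfl⟩ : ∃ a, d = a + (q + 1) := ⟨d - (q + 1), by omega⟩
  obtain ⟨b, rfl⟩ : ∃ b, r = b + (q + 1) := ⟨r - (q + 1), by omega⟩
  have h := bott_identity_aux a b q
  have e1 : b + (q + 1) + 1 = b + q + 2 := by omega
  have e2 : a + (q + 1) - (q + 1) + (b + (q + 1)) = a + b + q + 1 := by omega
  have e3 : b + (q + 1) = b + q + 1 := by omega
  have e4 : a + (q + 1) + (b + (q + 1)) - (q + 1) = a + b + q + 1 := by omega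
  have e5 : a + (q + 1) = a + q + 1 := by omega
  have e6 : a + q + 1 - 1 = a + q := by omega
  have e7 : q + 1 - 1 = q := by omega
  have e8 : a + b + q + 1 + 1 = a + b + q + 2 := by omega
  rw [e1, e2, e4, e3, e5, e6, e7, e8]
  exact h

end Groth.Agent.Lib.helper20.Euler6a
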