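import Mathlib
import Groth.Agent.Lib.Helper20.Euler5c
import Groth.Agent.Lib.Helper20.Euler6a
import Groth.Agent.Lib.Helper7.TwistNum

/-!
# Dimensions of the cohomology of `Ω^p(d)` on projective space over a field (helper20)
-/

set_option autoImplicit false
universe u

open CategoryTheory CategoryTheory.Limits AlgebraicGeometry Opposite TopologicalSpace

namespace Groth.Agent.Lib.helper20.Euler6b

open Groth.Agent.Lib.helper20.Euler3 Groth.Agent.Lib.helper20.Euler4f
  Groth.Agent.Lib.helper20.Euler5a Groth.Agent.Lib.helper20.Euler5b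
  Groth.Agent.Lib.helper20.Euler5c
  Groth.Agent.Lib.Helper20.TwistEquivPn
  Groth.Agent.Lib.Helper20.TensorEquiv Groth.Agent.Lib.Lead.ModTensor
  Groth.Agent.Lib.Helper18.HH

noncomputable section

section Generic

variable {X : Scheme.{u}} (F : Type u) [Field F] [X.Over (Spec (CommRingCat.of F))]
  {S : ShortComplex X.Modules} (hS : S.ShortExact)

include hS in
/-- additivity of dimensions in a short exact piece of the long exact sequence -/
theorem finrank_add (j : ℕ) (hf : Function.Injective (map S.f j))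
    (hg : Function.Surjective (map S.g j)) [Module.Finite F (Coh.HH X S.X₂ j)] :
    (Module.Finite F (Coh.HH X S.X₁ j) ∧ Module.Finite F (Coh.HH X S.X₃ j)) ∧
    Module.finrank F (Coh.HH X S.X₂ j) =
      Module.finrank F (Coh.HH X S.X₁ j) + Module.finrank F (Coh.HH X S.X₃ j) := by
  let f' : Coh.HH X S.X₁ j →ₗ[F] Coh.HH X S.X₂ j := mapOver F S.f j
  let g' : Coh.HH X S.X₂ j →ₗ[F] Coh.HH X S.X₃ j := mapOver F S.g j
  have hf' : Function.Injective f' := hf
  have hg' : Function.Surjective g' := hg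
  have hex : Function.Exact f' g' := exactOver₂ hS F j
  have h1 : Module.Finite F (Coh.HH X S.X₁ j) := Module.Finite.of_injective f' hf'
  have h3 : Module.Finite F (Coh.HH X S.X₃ j) := Module.Finite.of_surjective g' hg'
  refine ⟨⟨h1, h3⟩, ?_⟩
  have e := LinearMap.finrank_range_add_finrank_ker g'
  have e1 : Module.finrank F (LinearMap.range g') = Module.finrank F (Coh.HH X S.X₃ j) := by
    rw [LinearMap.range_eq_top.mpr hg', finrank_top]
  have e2 : Module.finrank F (LinearMap.ker g') = Module.finrank F (Coh.HH X S.X₁ j) := by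
    rw [LinearMap.exact_iff.mp hex]
    exact LinearMap.finrank_range_of_inj hf'
  rw [e1, e2] at e
  rw [← e, add_comm]

include hS in
theorem injective_f_succ (i : ℕ) (h : Subsingleton (Coh.HH X S.X₃ i)) :
    Function.Injective (map S.f (i + 1)) := by
  rw [injective_iff_map_eq_zero]
  intro x hx
  obtain ⟨y, rfl⟩ := (exact₁ hS i x).mp hx
  rw [Subsingleton.elim y 0, _root_.map_zero]

include hS in
theorem injective_f_of_pos (j : ℕ) (hj : 0 < j) (h : Subsingleton (Coh.HH X S.X₃ (j - 1))) :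
    Function.Injective (map S.f j) := by
  obtain ⟨i, rfl⟩ : ∃ i, j = i + 1 := ⟨j - 1, by omega⟩
  exact injective_f_succ hS i h

include hS in
theorem surjective_g (j : ℕ) (h : Subsingleton (Coh.HH X S.X₁ (j + 1))) :
    Function.Surjective (map S.g j) := by
  intro x
  have hx : δ hS j x = 0 := Subsingleton.elim _ _
  exact (exact₃ hS j x).mp hx

end Generic

section Pn

variable (F : Type u) [Field F] (r : ℕ)

lemma card_Idx (p : ℕ) : Fintype.card (Idx r p) = (r + 1).choose p := by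
  rw [← Nat.card_eq_fintype_card, Set.powersetCard.card, Nat.card_eq_fintype_card,
    Fintype.card_fin]

/-- the dimension of the cohomology of the twisted Koszul term -/
theorem finrank_Kk' (k : ℤ) (p j : ℕ)
    [Module.Finite F (Coh.HH (CohB1.ProjSpace r F) (Twist.twistProjSpace r F (-(p : ℤ) + k)) j)] :
    Module.Finite F (Coh.HH (CohB1.ProjSpace r F) (Kk r F k p) j) ∧
    Module.finrank F (Coh.HH (CohB1.ProjSpace r F) (Kk r F k p) j) =
      (r + 1).choose p * Module.finrank F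
        (Coh.HH (CohB1.ProjSpace r F) (Twist.twistProjSpace r F (-(p : ℤ) + k)) j) := by
  let f : Idx r p → (CohB1.ProjSpace r F).Modules := fun _ => Twist.twistProjSpace r F (-(p : ℤ))
  let e : Kk r F k p ≅ ∐ fun i => (tensorRight (Twist.twistProjSpace r F k)).obj (f i) :=
    PreservesCoproduct.iso (tensorRight (Twist.twistProjSpace r F k)) f
  let E1 := isoEquivOver F e j
  let E2 := sigmaEquivOver (X := CohB1.ProjSpace r F) F
    (fun i => (tensorRight (Twist.twistProjSpace r F k)).obj (f i)) j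
  let E3 : (∀ _ : Idx r p, Coh.HH (CohB1.ProjSpace r F)
      (CohB1.tensorMod (Twist.twistProjSpace r F (-(p : ℤ))) (Twist.twistProjSpace r F k)) j) ≃ₗ[F]
      (∀ _ : Idx r p, Coh.HH (CohB1.ProjSpace r F)
        (Twist.twistProjSpace r F (-(p : ℤ) + k)) j) :=
    LinearEquiv.piCongrRight (fun _ =>
      isoEquivOver F (Groth.Agent.Lib.helper28.TwistPn.tensorIso r F (-(p : ℤ)) k) j)
  let E := E1 ≪≫ₗ E2 ≪≫ₗ E3
  refine ⟨Module.Finite.equiv E.symm, ?_⟩
  rw [E.finrank_eq, Module.finrank_pi_fintype, Finset.sum_const, Finset.card_univ, card_Idx,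
    smul_eq_mul]

theorem finrank_Kk (hr : 1 ≤ r) (k : ℤ) (p j : ℕ) :
    Module.Finite F (Coh.HH (CohB1.ProjSpace r F) (Kk r F k p) j) ∧
    Module.finrank F (Coh.HH (CohB1.ProjSpace r F) (Kk r F k p) j) =
      (r + 1).choose p * Module.finrank F
        (Coh.HH (CohB1.ProjSpace r F) (Twist.twistProjSpace r F (-(p : ℤ) + k)) j) := by
  haveI : Module.Finite F (Coh.HH (CohB1.ProjSpace r F)
      (Twist.twistProjSpace r F (-(p : ℤ) + k)) j) :=
    Groth.Agent.Lib.helper7.TwistNum.finite_HH_twist F r hr _ j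
  exact finrank_Kk' F r k p j

/-- `H^0(O(d))`, `d ≥ 0`, any `r` -/
theorem finrank_H0_O (d : ℕ) :
    Module.Finite F (Coh.HH (CohB1.ProjSpace r F) (Twist.twistProjSpace r F (d : ℤ)) 0) ∧
    Module.finrank F (Coh.HH (CohB1.ProjSpace r F) (Twist.twistProjSpace r F (d : ℤ)) 0) =
      (d + r).choose r := by
  obtain ⟨e⟩ := Groth.Agent.S0843.result F r d
  haveI := Groth.Agent.Lib.helper7.TwistNum.finite_homogeneousSubmodule F r d
  refine ⟨Module.Finite.equiv e.symm, ?_⟩
  rw [e.finrank_eq, Groth.Agent.Lib.Helper20.HomogRank.finrank_homogeneousSubmodule]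

/-- `H^0(Z_0(d))`, `d ≥ 0`, any `r` -/
theorem finrank_H0_Zk_zero (d : ℕ) :
    Module.Finite F (Coh.HH (CohB1.ProjSpace r F) (Zk r F (d : ℤ) 0) 0) ∧
    Module.finrank F (Coh.HH (CohB1.ProjSpace r F) (Zk r F (d : ℤ) 0) 0) = (d + r).choose r := by
  have hc : Twist.twistProjSpace r F (-((0 : ℕ) : ℤ) + (d : ℤ)) = Twist.twistProjSpace r F (d : ℤ) := by
    congr 1
    push_cast
    ring
  haveI : Module.Finite F (Coh.HH (CohB1.ProjSpace r F)
      (Twist.twistProjSpace r F (-((0 : ℕ) : ℤ) + (d : ℤ))) 0) := by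
    rw [hc]; exact (finrank_H0_O F r d).1
  obtain ⟨hfin, hK⟩ := finrank_Kk' F r (d : ℤ) 0 0
  let E : Coh.HH (CohB1.ProjSpace r F) (Zk r F (d : ℤ) 0) 0 ≃ₗ[F]
      Coh.HH (CohB1.ProjSpace r F) (Kk r F (d : ℤ) 0) 0 :=
    isoEquivOver F (tensorIso (isoZK0 r F) (Iso.refl (Twist.twistProjSpace r F (d : ℤ)))) 0
  refine ⟨Module.Finite.equiv E.symm, ?_⟩
  have hE : Module.finrank F (Coh.HH (CohB1.ProjSpace r F) (Zk r F (d : ℤ) 0) 0) =
      Module.finrank F (Coh.HH (CohB1.ProjSpace r F) (Kk r F (d : ℤ) 0) 0) := E.finrank_eq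
  rw [hE, hK, hc, (finrank_H0_O F r d).2, Nat.choose_zero_right, one_mul]

/-- `H^0(Ω^p(d))`, `d > p` -/
theorem finrank_H0_Zk (hr : 1 ≤ r) (d : ℕ) : ∀ p : ℕ, p ≤ r → p < d →
    Module.Finite F (Coh.HH (CohB1.ProjSpace r F) (Zk r F (d : ℤ) p) 0) ∧
    Module.finrank F (Coh.HH (CohB1.ProjSpace r F) (Zk r F (d : ℤ) p) 0) =
      Nat.choose (d + r - p) d * Nat.choose (d - 1) p
  | 0, _, hd => by
    obtain ⟨hfin, hK⟩ := finrank_H0_Zk_zero F r d
    refine ⟨hfin, ?_⟩
    rw [hK, Nat.choose_zero_right, mul_one, Nat.sub_zero, Nat.choose_symm_add]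
  | q + 1, hq, hd => by
    obtain ⟨hfinZ, hZ⟩ := finrank_H0_Zk hr d q (by omega) (by omega)
    obtain ⟨hfinK, hK⟩ := finrank_Kk F r hr (d : ℤ) (q + 1) 0
    have hS := shortExact_sesk r F (d : ℤ) q
    have hV : Subsingleton (Coh.HH (CohB1.ProjSpace r F) (Zk r F (d : ℤ) (q + 1)) (0 + 1)) :=
      bott r F (d : ℤ) (q + 1) 1 hq (by omega) (by omega) (by omega)
    haveI : Module.Finite F (Coh.HH (CohB1.ProjSpace r F) (sesk r F (d : ℤ) q).X₂ 0) := hfinK
    obtain ⟨⟨hf1, -⟩, hadd⟩ := finrank_add F hS 0 (injective_map_f_zero hS)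
      (surjective_g hS 0 hV)
    refine ⟨hf1, ?_⟩
    have hadd' : Module.finrank F (Coh.HH (CohB1.ProjSpace r F) (Kk r F (d : ℤ) (q + 1)) 0) =
        Module.finrank F (Coh.HH (CohB1.ProjSpace r F) (Zk r F (d : ℤ) (q + 1)) 0) +
          Module.finrank F (Coh.HH (CohB1.ProjSpace r F) (Zk r F (d : ℤ) q) 0) := hadd
    rw [hK, hZ, (Groth.Agent.Lib.helper7.TwistNum.finrank_H0_twist F r hr _).2] at hadd'
    have h1 : (-((q + 1 : ℕ) : ℤ) + (d : ℤ) + (r : ℤ)).toNat = d - (q + 1) + r := by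
      have : (-((q + 1 : ℕ) : ℤ) + (d : ℤ) + (r : ℤ)) = ((d - (q + 1) + r : ℕ) : ℤ) := by
        push_cast [Nat.cast_sub (show q + 1 ≤ d by omega)]; ring
      rw [this, Int.toNat_natCast]
    rw [h1, Euler6a.bott_identity r d (q + 1) (by omega) hq (by omega)] at hadd'
    have h2 : d + r - (q + 1) + 1 = d + r - q := by omega
    have h3 : q + 1 - 1 = q := rfl
    rw [h2, h3] at hadd'
    exact (Nat.add_right_cancel hadd').symm

/-- `H^r(Ω^p(-e))`, `e + p > r` -/
theorem finrank_Hr_Zk (hr : 1 ≤ r) (e : ℕ) : ∀ s p : ℕ, p + s = r → r < e + p →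
    Module.Finite F (Coh.HH (CohB1.ProjSpace r F) (Zk r F (-(e : ℤ)) p) r) ∧
    Module.finrank F (Coh.HH (CohB1.ProjSpace r F) (Zk r F (-(e : ℤ)) p) r) =
      Nat.choose (e + p) e * Nat.choose (e - 1) (r - p)
  | 0, p, hp, he => by
    have hpr : p = r := by omega
    obtain ⟨hfinK, hK⟩ := finrank_Kk F r hr (-(e : ℤ)) (p + 1) r
    have hS := shortExact_sesk r F (-(e : ℤ)) p
    have hV0 : Subsingleton (Coh.HH (CohB1.ProjSpace r F) (Zk r F (-(e : ℤ)) (p + 1)) r) :=
      V_top r F _ (p + 1) r (by omega)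
    have hV1 : Subsingleton (Coh.HH (CohB1.ProjSpace r F) (Zk r F (-(e : ℤ)) (p + 1)) (r + 1)) :=
      V_top r F _ (p + 1) (r + 1) (by omega)
    have : Module.Finite F (Coh.HH (CohB1.ProjSpace r F) (sesk r F (-(e : ℤ)) p).X₂ r) := hfinK
    have hinj : Function.Injective (map (sesk r F (-(e : ℤ)) p).f r) := by
      haveI : Subsingleton (Coh.HH (CohB1.ProjSpace r F) (sesk r F (-(e : ℤ)) p).X₁ r) := hV0
      exact Function.injective_of_subsingleton _
    obtain ⟨⟨-, hf3⟩, hadd⟩ := finrank_add F hS r hinj (surjective_g hS r hV1)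
    refine ⟨hf3, ?_⟩
    have hadd' : Module.finrank F (Coh.HH (CohB1.ProjSpace r F) (Kk r F (-(e : ℤ)) (p + 1)) r) =
        Module.finrank F (Coh.HH (CohB1.ProjSpace r F) (Zk r F (-(e : ℤ)) (p + 1)) r) +
          Module.finrank F (Coh.HH (CohB1.ProjSpace r F) (Zk r F (-(e : ℤ)) p) r) := hadd
    have h0 : Module.finrank F (Coh.HH (CohB1.ProjSpace r F) (Zk r F (-(e : ℤ)) (p + 1)) r) = 0 := by
      haveI := hV0
      exact Module.finrank_zero_of_subsingleton
    rw [h0, zero_add, hK,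
      (Groth.Agent.Lib.helper7.TwistNum.finrank_HN_twist F r hr _).2] at hadd'
    have h1 : (-(-((p + 1 : ℕ) : ℤ) + -(e : ℤ)) - 1).toNat = e + p := by
      have : (-(-((p + 1 : ℕ) : ℤ) + -(e : ℤ)) - 1) = ((e + p : ℕ) : ℤ) := by push_cast; ring
      rw [this, Int.toNat_natCast]
    rw [h1] at hadd'
    rw [← hadd', hpr, Nat.choose_self, one_mul, Nat.sub_self, Nat.choose_zero_right, mul_one,
      Nat.choose_symm_add]
  | s + 1, p, hp, he => by
    obtain ⟨hfinZ, hZ⟩ := finrank_Hr_Zk hr e s (p + 1) (by omega) (by omega)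
    obtain ⟨hfinK, hK⟩ := finrank_Kk F r hr (-(e : ℤ)) (p + 1) r
    have hS := shortExact_sesk r F (-(e : ℤ)) p
    have hV1 : Subsingleton (Coh.HH (CohB1.ProjSpace r F) (Zk r F (-(e : ℤ)) p) (r - 1)) :=
      bott r F _ p (r - 1) (by omega) (by omega) (by omega) (by omega)
    have hV2 : Subsingleton (Coh.HH (CohB1.ProjSpace r F) (Zk r F (-(e : ℤ)) (p + 1)) (r + 1)) :=
      bott r F _ (p + 1) (r + 1) (by omega) (by omega) (by omega) (by omega)
    have : Module.Finite F (Coh.HH (CohB1.ProjSpace r F) (sesk r F (-(e : ℤ)) p).X₂ r) := hfinK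
    obtain ⟨⟨-, hf3⟩, hadd⟩ := finrank_add F hS r (injective_f_of_pos hS r (by omega) hV1)
      (surjective_g hS r hV2)
    refine ⟨hf3, ?_⟩
    have hadd' : Module.finrank F (Coh.HH (CohB1.ProjSpace r F) (Kk r F (-(e : ℤ)) (p + 1)) r) =
        Module.finrank F (Coh.HH (CohB1.ProjSpace r F) (Zk r F (-(e : ℤ)) (p + 1)) r) +
          Module.finrank F (Coh.HH (CohB1.ProjSpace r F) (Zk r F (-(e : ℤ)) p) r) := hadd
    rw [hK, hZ, (Groth.Agent.Lib.helper7.TwistNum.finrank_HN_twist F r hr _).2] at hadd'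
    have h1 : (-(-((p + 1 : ℕ) : ℤ) + -(e : ℤ)) - 1).toNat = e + p := by
      have : (-(-((p + 1 : ℕ) : ℤ) + -(e : ℤ)) - 1) = ((e + p : ℕ) : ℤ) := by push_cast; ring
      rw [this, Int.toNat_natCast]
    have hid := Euler6a.bott_identity r e (r - p) (by omega) (by omega) (by omega)
    have hc : (r + 1).choose (r - p) = (r + 1).choose (p + 1) := by
      rw [← Nat.choose_symm (show p + 1 ≤ r + 1 by omega)]
      congr 1
      omega
    have g1 : e - (r - p) + r = e + p := by omega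
    have g2 : e + r - (r - p) = e + p := by omega
    have g3 : r - p - 1 = r - (p + 1) := by omega
    rw [hc, g1, g2, g3] at hid
    rw [h1, hid] at hadd'
    have hadd'' := hadd'
    rw [add_comm] at hadd''
    exact (Nat.add_left_cancel hadd'').symm

/-- on `P^0`, every `H^0(Z_0(d))` is one-dimensional -/
theorem finrank_H0_Zk_P0 (d : ℤ) :
    Module.finrank F (Coh.HH (CohB1.ProjSpace 0 F) (Zk 0 F d 0) 0) = 1 := by
  by_cases hd : 0 ≤ d
  · obtain ⟨m, rfl⟩ := Int.eq_ofNat_of_zero_le hd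
    rw [(finrank_H0_Zk_zero F 0 m).2, Nat.choose_zero_right]
  · obtain ⟨j, hj⟩ : ∃ j : ℕ, d = -(((0 : ℕ) : ℤ) + 1 + j) :=
      ⟨(-d - 1).toNat, by push_cast; omega⟩
    obtain ⟨e0⟩ := Groth.Agent.S0845.result F 0 j
    haveI := Groth.Agent.Lib.helper7.TwistNum.finite_homogeneousSubmodule F 0 j
    have hc : Twist.twistProjSpace 0 F (-((0 : ℕ) : ℤ) + d) =
        Twist.twistProjSpace 0 F (-(((0 : ℕ) : ℤ) + 1 + j)) := by
      congr 1
      rw [hj]
      push_cast
      ring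
    haveI : Module.Finite F (Coh.HH (CohB1.ProjSpace 0 F)
        (Twist.twistProjSpace 0 F (-((0 : ℕ) : ℤ) + d)) 0) := by
      rw [hc]; exact Module.Finite.equiv e0.symm
    obtain ⟨hfin, hK⟩ := finrank_Kk' F 0 d 0 0
    let E : Coh.HH (CohB1.ProjSpace 0 F) (Zk 0 F d 0) 0 ≃ₗ[F]
        Coh.HH (CohB1.ProjSpace 0 F) (Kk 0 F d 0) 0 :=
      isoEquivOver F (tensorIso (isoZK0 0 F) (Iso.refl (Twist.twistProjSpace 0 F d))) 0
    have hE : Module.finrank F (Coh.HH (CohB1.ProjSpace 0 F) (Zk 0 F d 0) 0) =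
        Module.finrank F (Coh.HH (CohB1.ProjSpace 0 F) (Kk 0 F d 0) 0) := E.finrank_eq
    rw [hE, hK, hc, e0.finrank_eq,
      Groth.Agent.Lib.Helper20.HomogRank.finrank_homogeneousSubmodule, Nat.choose_zero_right,
      Nat.choose_zero_right]

end Pn

end

end Groth.Agent.Lib.helper20.Euler6b
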