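import Mathlib
import Groth.Agent.Lib.Helper20.Euler6b

/-!
# Numerical Serre duality for `Ω^p(d)` on projective space over a field (helper20)
-/

set_option autoImplicit false
universe u

open CategoryTheory CategoryTheory.Limits AlgebraicGeometry Opposite TopologicalSpace

namespace Groth.Agent.Lib.helper20.Euler6c

open Groth.Agent.Lib.helper20.Euler3 Groth.Agent.Lib.helper20.Euler4f
  Groth.Agent.Lib.helper20.Euler5a Groth.Agent.Lib.helper20.Euler5b
  Groth.Agent.Lib.helper20.Euler5c Groth.Agent.Lib.helper20.Euler6b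
  Groth.Agent.Lib.Helper20.TwistEquivPn
  Groth.Agent.Lib.Helper20.TensorEquiv Groth.Agent.Lib.Lead.ModTensor
  Groth.Agent.Lib.Helper18.HH

noncomputable section

variable (F : Type u) [Field F] (r : ℕ)

/-- `H^p(Ω^p)` is one-dimensional -/
theorem finrank_Hp_Zk0 (p : ℕ) (hp : p ≤ r) :
    Module.finrank F (Coh.HH (CohB1.ProjSpace r F) (Zk r F 0 p) p) = 1 := by
  obtain ⟨e⟩ := nonempty_Hp_A r F p hp
  let E : Coh.HH (CohB1.ProjSpace r F) (Zk r F 0 p) p ≃ₗ[F]
      Coh.HH (CohB1.ProjSpace r F) (ZZ r F p) p :=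
    isoEquivOver F (twistZeroIso r F (ZZ r F p)) p
  rw [(E ≪≫ₗ e).finrank_eq]
  exact Module.finrank_self F

/-- numerical Serre duality -/
theorem finrank_duality (p q : ℕ) (hp : p ≤ r) (hq : q ≤ r) (d : ℤ) :
    Module.finrank F (Coh.HH (CohB1.ProjSpace r F) (Zk r F d p) q) =
      Module.finrank F (Coh.HH (CohB1.ProjSpace r F) (Zk r F (-d) (r - p)) (r - q)) := by
  by_cases hr : 1 ≤ r
  · by_cases h1 : q = 0 ∧ (p : ℤ) < d
    · obtain ⟨hq0, hpd⟩ := h1
      obtain ⟨m, rfl⟩ := Int.eq_ofNat_of_zero_le (show 0 ≤ d by omega)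
      subst hq0
      rw [Nat.sub_zero, (finrank_H0_Zk F r hr m p hp (by omega)).2,
        (finrank_Hr_Zk F r hr m (r - (r - p)) (r - p) (by omega) (by omega)).2]
      have g1 : m + r - p = m + (r - p) := by omega
      have g2 : r - (r - p) = p := by omega
      rw [g1, g2]
    · by_cases h2 : q = r ∧ d < (p : ℤ) - r
      · obtain ⟨hqr, hdp⟩ := h2
        obtain ⟨e, he⟩ : ∃ e : ℕ, d = -(e : ℤ) := ⟨(-d).toNat, by omega⟩
        subst he
        subst hqr
        rw [neg_neg, Nat.sub_self,
          (finrank_Hr_Zk F q hr e (q - p) p (by omega) (by omega)).2,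
          (finrank_H0_Zk F q hr e (q - p) (by omega) (by omega)).2]
        have g1 : e + q - (q - p) = e + p := by omega
        rw [g1]
      · by_cases h3 : d = 0 ∧ q = p
        · obtain ⟨hd0, hqp⟩ := h3
          subst hd0
          subst hqp
          rw [neg_zero, finrank_Hp_Zk0 F r q hq, finrank_Hp_Zk0 F r (r - q) (by omega)]
        · haveI : Subsingleton (Coh.HH (CohB1.ProjSpace r F) (Zk r F d p) q) :=
            bott r F d p q hp h1 h2 h3
          haveI : Subsingleton (Coh.HH (CohB1.ProjSpace r F) (Zk r F (-d) (r - p)) (r - q)) :=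
            bott r F (-d) (r - p) (r - q) (by omega) (by omega) (by omega) (by omega)
          rw [Module.finrank_zero_of_subsingleton, Module.finrank_zero_of_subsingleton]
  · have hr0 : r = 0 := by omega
    subst hr0
    have hp0 : p = 0 := by omega
    have hq0 : q = 0 := by omega
    subst hp0
    subst hq0
    rw [finrank_H0_Zk_P0 F d]
    exact (finrank_H0_Zk_P0 F (-d)).symm

end

end Groth.Agent.Lib.helper20.Euler6c
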