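import Groth.Agent.Lib.Helper20.K0LFRes
import Groth.Agent.Lib.Helper8.DevK0b

/-!
# The Euler characteristic of a finite resolution in `K₀` (helper20)

`clSub_eq_alt_sum`: for a class `Q` closed under kernels of epimorphisms and containing the zero objects,
`A ∈ Q` and a finite resolution `L → A` with terms in `Q`: `[A] = Σ_k (-1)^k [L_k]` in `K₀(Q)`.
-/

set_option autoImplicit false
universe v u

open CategoryTheory CategoryTheory.Limits

namespace Groth.Agent.Lib.Helper20.EulerRes

open Groth.Agent.Lib.Helper20.K0LFRes Groth.Agent.Lib.helper8.Dev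

theorem alt_sum_aux {G : Type*} [AddCommGroup G] (l z : ℕ → G) (a : G) (h0 : l 0 = z 0 + a)
    (hs : ∀ k, l (k + 1) = z (k + 1) + z k) (m : ℕ) :
    ∑ k ∈ Finset.range (m + 1), (-1 : ℤ) ^ k • l k = a + (-1 : ℤ) ^ m • z m := by
  induction m with
  | zero => simp [h0, add_comm]
  | succ m ih =>
    rw [Finset.sum_range_succ, ih, hs m, pow_succ, smul_add]
    simp only [mul_neg, mul_one, neg_smul]
    abel

variable {C : Type u} [Category.{v} C] [Abelian C] (Q : ObjectProperty C)
  (hker : ∀ S : ShortComplex C, S.ShortExact → Q S.X₂ → Q S.X₃ → Q S.X₁)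
  (hQ0 : ∀ N : C, IsZero N → Q N)

include hker hQ0 in
/-- **Euler characteristic of a finite resolution** -/
theorem clSub_eq_alt_sum (L : ChainComplex C ℕ) (A : C)
    (π : L ⟶ (ChainComplex.single₀ C).obj A) [QuasiIso π] (hL : ∀ k, Q (L.X k)) (hA : Q A) (n : ℕ)
    (hz : ∀ k, n < k → IsZero (L.X k)) :
    KZero.clSub Q A = ∑ k ∈ Finset.range (n + 1), (-1 : ℤ) ^ k • KZero.clSub Q (L.X k) := by
  have hK0 : Q (kernel (π.f 0)) := hker (augSC π) (augSC_shortExact π) (hL 0) hA
  have hZ : ∀ k, Q (L.cycles (k + 1)) := by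
    intro k
    induction k with
    | zero => exact hker (firstSC π) (firstSC_shortExact π) (hL 1) hK0
    | succ k ih =>
      exact hker (cyclesSC L (k + 1)) (cyclesSC_shortExact L (k + 1) (exactAt_succ π k))
        (hL _) ih
  let l : ℕ → KZero.K0sub Q := fun k => KZero.clSub Q (L.X k)
  let z : ℕ → KZero.K0sub Q := fun k =>
    match k with
    | 0 => KZero.clSub Q (kernel (π.f 0))
    | k + 1 => KZero.clSub Q (L.cycles (k + 1))
  have h0 : l 0 = z 0 + KZero.clSub Q A :=
    clSub_rel Q (augSC π) (augSC_shortExact π) hK0 (hL 0) hA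
  have hs : ∀ k, l (k + 1) = z (k + 1) + z k := by
    intro k
    cases k with
    | zero => exact clSub_rel Q (firstSC π) (firstSC_shortExact π) (hZ 0) (hL 1) hK0
    | succ k =>
      exact clSub_rel Q (cyclesSC L (k + 1)) (cyclesSC_shortExact L (k + 1) (exactAt_succ π k))
        (hZ (k + 1)) (hL _) (hZ k)
  have key := alt_sum_aux l z (KZero.clSub Q A) h0 hs (n + 1)
  have hz1 : z (n + 1) = 0 :=
    clSub_zero Q hQ0 _ (isZero_cycles L (n + 1) (hz _ (Nat.lt_succ_self n)))
  have hl1 : l (n + 1) = 0 := clSub_zero Q hQ0 _ (hz _ (Nat.lt_succ_self n))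
  rw [Finset.sum_range_succ, hz1, hl1, smul_zero, add_zero, add_zero] at key
  exact key.symm

end Groth.Agent.Lib.Helper20.EulerRes
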