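import Groth.Agent.Lib.Helper20.EulerRes

/-!
# The Euler characteristic of the image of a finite resolution under an exact functor (helper20)

* `clSub_map_eq_alt_sum`: `G` a functor carrying short exact sequences to short exact sequences, `Q` a class
  closed under cokernels of monomorphisms and containing the zero objects, `L → A` a finite resolution with
  `G L_k ∈ Q`: then `G A ∈ Q` and `[G A] = Σ_k (-1)^k [G L_k]` in `K₀(Q)`.
* `P1_coker`: the classes `P1 t` are closed under cokernels of monomorphisms.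
-/

set_option autoImplicit false
universe v u v' u'

open CategoryTheory CategoryTheory.Limits AlgebraicGeometry ZeroObject

namespace Groth.Agent.Lib.Helper20.EulerRes

open Groth.Agent.Lib.Helper20.K0LFRes Groth.Agent.Lib.helper8.Dev

section Abstract

variable {C : Type u} [Category.{v} C] [Abelian C] {D : Type u'} [Category.{v'} D] [Abelian D]
  (G : C ⥤ D) [G.PreservesZeroMorphisms] (hG : ∀ S : ShortComplex C, S.ShortExact → (S.map G).ShortExact)
  (hG0 : ∀ N : C, IsZero N → IsZero (G.obj N))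
  (Q : ObjectProperty D)
  (hcoker : ∀ S : ShortComplex D, S.ShortExact → Q S.X₁ → Q S.X₂ → Q S.X₃)
  (hQ0 : ∀ N : D, IsZero N → Q N)

include hG hG0 hcoker hQ0 in
/-- **Euler characteristic of the image of a finite resolution** -/
theorem clSub_map_eq_alt_sum (L : ChainComplex C ℕ) (A : C)
    (π : L ⟶ (ChainComplex.single₀ C).obj A) [QuasiIso π] (hL : ∀ k, Q (G.obj (L.X k))) (n : ℕ)
    (hz : ∀ k, n < k → IsZero (L.X k)) :
    Q (G.obj A) ∧ KZero.clSub Q (G.obj A) =
      ∑ k ∈ Finset.range (n + 1), (-1 : ℤ) ^ k • KZero.clSub Q (G.obj (L.X k)) := by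
  have hS2 : ∀ k, ((cyclesSC L (k + 1)).map G).ShortExact := fun k =>
    hG _ (cyclesSC_shortExact L (k + 1) (exactAt_succ π k))
  have hS1 : ((firstSC π).map G).ShortExact := hG _ (firstSC_shortExact π)
  have hS0 : ((augSC π).map G).ShortExact := hG _ (augSC_shortExact π)
  have hZd : ∀ d k, n ≤ k + d → Q (G.obj (L.cycles (k + 1))) := by
    intro d
    induction d with
    | zero =>
      intro k hk
      exact hQ0 _ (hG0 _ (isZero_cycles L (k + 1) (hz _ (by omega))))
    | succ d ih =>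
      intro k hk
      exact hcoker _ (hS2 k) (ih (k + 1) (by omega)) (hL _)
  have hZ : ∀ k, Q (G.obj (L.cycles (k + 1))) := fun k => hZd n k (by omega)
  have hK0 : Q (G.obj (kernel (π.f 0))) := hcoker _ hS1 (hZ 0) (hL 1)
  have hA : Q (G.obj A) := hcoker _ hS0 hK0 (hL 0)
  refine ⟨hA, ?_⟩
  let l : ℕ → KZero.K0sub Q := fun k => KZero.clSub Q (G.obj (L.X k))
  let z : ℕ → KZero.K0sub Q := fun k =>
    match k with
    | 0 => KZero.clSub Q (G.obj (kernel (π.f 0)))
    | k + 1 => KZero.clSub Q (G.obj (L.cycles (k + 1)))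
  have h0 : l 0 = z 0 + KZero.clSub Q (G.obj A) := clSub_rel Q _ hS0 hK0 (hL 0) hA
  have hs : ∀ k, l (k + 1) = z (k + 1) + z k := by
    intro k
    cases k with
    | zero => exact clSub_rel Q _ hS1 (hZ 0) (hL 1) hK0
    | succ k => exact clSub_rel Q _ (hS2 k) (hZ (k + 1)) (hL _) (hZ k)
  have key := alt_sum_aux l z (KZero.clSub Q (G.obj A)) h0 hs (n + 1)
  have hz1 : z (n + 1) = 0 :=
    clSub_zero Q hQ0 _ (hG0 _ (isZero_cycles L (n + 1) (hz _ (Nat.lt_succ_self n))))
  have hl1 : l (n + 1) = 0 := clSub_zero Q hQ0 _ (hG0 _ (hz _ (Nat.lt_succ_self n)))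
  rw [Finset.sum_range_succ, hz1, hl1, smul_zero, add_zero, add_zero] at key
  exact key.symm

end Abstract

section Sch

open Groth.Agent.Lib.Helper20.K0Reg

variable {X : Scheme.{u}} [IsLocallyNoetherian X]

/-- `P1 t` is closed under cokernels of monomorphisms -/
theorem P1_coker (t : Finset X.affineOpens) (S : ShortComplex X.Modules) (hS : S.ShortExact)
    (h1 : P1 t S.X₁) (h2 : P1 t S.X₂) : P1 t S.X₃ := by
  obtain ⟨c1, n1, p1⟩ := h1
  obtain ⟨c2, n2, p2⟩ := h2
  haveI := hS.mono_f
  haveI := hS.epi_g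
  have c3 : Coh.IsCoh S.X₃ := by
    let e : cokernel S.f ≅ S.X₃ :=
      IsColimit.coconePointUniqueUpToIso (colimit.isColimit _) hS.gIsCokernel
    exact Groth.Agent.Lib.helper7.CohKer.isCoh_of_iso e
      (Groth.Agent.Lib.helper7.CohKer.isCoh_cokernel c1 c2 S.f)
  refine ⟨c3, max n1 n2 + 1, fun U hU => ?_⟩
  haveI := c1.1
  have hT := secSC_shortExact S hS U.2
  have q1 : HasProjectiveDimensionLT (secSC S U.1).X₁ (max n1 n2 + 1) :=
    pdAff_mono t (le_max_left _ _) p1 U hU
  have q2 : HasProjectiveDimensionLT (secSC S U.1).X₂ (max n1 n2 + 1 + 1) :=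
    pdAff_mono t (le_trans (le_max_right n1 n2) (Nat.le_succ _)) p2 U hU
  exact hT.hasProjectiveDimensionLT_X₃ _ q1 q2

theorem P1_of_iso (t : Finset X.affineOpens) {M N : X.Modules} (e : M ≅ N) (h : P1 t M) :
    P1 t N := by
  have hz : IsZero (0 : X.Modules) := isZero_zero _
  let S : ShortComplex X.Modules := ShortComplex.mk (0 : (0 : X.Modules) ⟶ M) e.hom zero_comp
  have hS : S.ShortExact :=
    ShortComplex.ShortExact.mk' ((ShortComplex.exact_iff_mono _ rfl).mpr
      (inferInstanceAs (Mono e.hom))) (inferInstanceAs (Mono (0 : (0 : X.Modules) ⟶ M)))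
      (inferInstanceAs (Epi e.hom))
  have h0 : P1 t (0 : X.Modules) :=
    ⟨isCoh_of_vb (Groth.Agent.Lib.helper25.FLFKernel.isFinLocFree_of_isZero hz), 0,
      pdAff_zero_of_vb t (Groth.Agent.Lib.helper25.FLFKernel.isFinLocFree_of_isZero hz)⟩
  exact P1_coker t S hS h0 h

end Sch

end Groth.Agent.Lib.Helper20.EulerRes
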