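import Mathlib

/-!
# The filtration of an exterior power attached to a split short exact sequence, I (helper20)

Submodule calculus inside `ExteriorAlgebra R M`: for `a : M' → M`, `s : M'' → M` with
`range a ⊔ range s = ⊤`, the degree-`n` part `⋀^n M = 𝔪^n` decomposes as
`⨆_{j+l=n} 𝔞^j * 𝔰^l` (`pow_le_iSup`), and `y - Λ(s ∘ b) y ∈ 𝔞 * 𝔪^k` for `y ∈ 𝔪^(k+1)`
(`sub_map_mem`).
-/

set_option autoImplicit false
universe u
open ExteriorAlgebra

namespace Groth.Agent.Lib.Helper20.ExtFilt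

variable {R : Type u} [CommRing R]
variable {M' M M'' : Type u} [AddCommGroup M'] [AddCommGroup M] [AddCommGroup M'']
  [Module R M'] [Module R M] [Module R M'']

variable (R M) in
/-- the degree-one part of the exterior algebra -/
abbrev mm : Submodule R (ExteriorAlgebra R M) :=
  LinearMap.range (ι R : M →ₗ[R] ExteriorAlgebra R M)

/-- the image of a linear map, in degree one of the exterior algebra -/
def im (a : M' →ₗ[R] M) : Submodule R (ExteriorAlgebra R M) :=
  LinearMap.range ((ι R : M →ₗ[R] ExteriorAlgebra R M) ∘ₗ a)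

lemma ι_mem_im (a : M' →ₗ[R] M) (x : M') : ι R (a x) ∈ im a := ⟨x, rfl⟩

lemma im_le (a : M' →ₗ[R] M) : im a ≤ mm R M := by
  rintro _ ⟨x, rfl⟩
  exact ⟨a x, rfl⟩

lemma im_eq_map (a : M' →ₗ[R] M) :
    im a = (mm R M').map (ExteriorAlgebra.map a).toLinearMap := by
  rw [ι_range_map_map, im, LinearMap.range_comp]

lemma im_pow_eq_map (a : M' →ₗ[R] M) (j : ℕ) :
    im a ^ j = (mm R M' ^ j).map (ExteriorAlgebra.map a).toLinearMap := by
  rw [im_eq_map, Submodule.map_pow]

lemma ι_mul_ι_swap (x y : M) : ι R x * ι R y = -(ι R y * ι R x) :=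
  eq_neg_of_add_eq_zero_left (ι_add_mul_swap x y)

lemma mm_mul_im_le (a : M' →ₗ[R] M) : mm R M * im a ≤ im a * mm R M := by
  rw [Submodule.mul_le]
  rintro _ ⟨m, rfl⟩ _ ⟨x, rfl⟩
  rw [LinearMap.comp_apply, ι_mul_ι_swap]
  exact neg_mem (Submodule.mul_mem_mul (ι_mem_im a x) ⟨m, rfl⟩)

lemma im_mul_im_le (s : M'' →ₗ[R] M) (a : M' →ₗ[R] M) : im s * im a ≤ im a * im s := by
  rw [Submodule.mul_le]
  rintro _ ⟨m, rfl⟩ _ ⟨x, rfl⟩
  rw [LinearMap.comp_apply, LinearMap.comp_apply, ι_mul_ι_swap]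
  exact neg_mem (Submodule.mul_mem_mul (ι_mem_im a x) (ι_mem_im s m))

/-- commutation of a power past a submodule -/
lemma pow_mul_le {A : Type*} [Semiring A] [Algebra R A] (P Q : Submodule R A)
    (h : P * Q ≤ Q * P) (l : ℕ) : P ^ l * Q ≤ Q * P ^ l := by
  induction l with
  | zero => simp
  | succ l ih =>
    calc P ^ (l + 1) * Q = P ^ l * (P * Q) := by rw [pow_succ, mul_assoc]
      _ ≤ P ^ l * (Q * P) := mul_le_mul' le_rfl h
      _ = (P ^ l * Q) * P := by rw [mul_assoc]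
      _ ≤ (Q * P ^ l) * P := mul_le_mul' ih le_rfl
      _ = Q * P ^ (l + 1) := by rw [mul_assoc, ← pow_succ]

/-- **binomial decomposition** of `𝔪^n` -/
theorem pow_le_iSup (a : M' →ₗ[R] M) (s : M'' →ₗ[R] M) (h : mm R M ≤ im a ⊔ im s) (n : ℕ) :
    mm R M ^ n ≤ ⨆ p ∈ Finset.HasAntidiagonal.antidiagonal n, im a ^ p.1 * im s ^ p.2 := by
  induction n with
  | zero =>
    refine le_iSup₂_of_le (0, 0) (by simp) ?_
    simp
  | succ n ih =>
    calc mm R M ^ (n + 1) = mm R M ^ n * mm R M := pow_succ _ _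
      _ ≤ (⨆ p ∈ Finset.HasAntidiagonal.antidiagonal n, im a ^ p.1 * im s ^ p.2) * (im a ⊔ im s) :=
        mul_le_mul' ih h
      _ ≤ _ := by
        rw [Submodule.iSup_mul]
        refine iSup_le fun p => ?_
        rw [Submodule.iSup_mul]
        refine iSup_le fun hp => ?_
        rw [Submodule.mul_sup]
        have hp' : p.1 + p.2 = n := Finset.HasAntidiagonal.mem_antidiagonal.mp hp
        refine sup_le ?_ ?_
        · refine le_trans ?_ (le_iSup₂_of_le (p.1 + 1, p.2)
            (by simp only [Finset.HasAntidiagonal.mem_antidiagonal]; omega) le_rfl)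
          calc im a ^ p.1 * im s ^ p.2 * im a = im a ^ p.1 * (im s ^ p.2 * im a) := mul_assoc _ _ _
            _ ≤ im a ^ p.1 * (im a * im s ^ p.2) :=
              mul_le_mul' le_rfl (pow_mul_le _ _ (im_mul_im_le s a) _)
            _ = im a ^ (p.1 + 1) * im s ^ p.2 := by rw [← mul_assoc, ← pow_succ]
        · refine le_trans ?_ (le_iSup₂_of_le (p.1, p.2 + 1)
            (by simp only [Finset.HasAntidiagonal.mem_antidiagonal]; omega) le_rfl)
          rw [mul_assoc, ← pow_succ]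

/-- `y - Λ(s ∘ b) y ∈ 𝔞 * 𝔪^k` for `y` of degree `k + 1`. -/
theorem sub_map_mem (a : M' →ₗ[R] M) (b : M →ₗ[R] M'') (s : M'' →ₗ[R] M)
    (hex : ∀ m : M, m - s (b m) ∈ LinearMap.range a) (k : ℕ) (y : ExteriorAlgebra R M)
    (hy : y ∈ mm R M ^ (k + 1)) :
    y - ExteriorAlgebra.map (s ∘ₗ b) y ∈ im a * mm R M ^ k := by
  induction k generalizing y with
  | zero =>
    rw [pow_one] at hy
    obtain ⟨m, rfl⟩ := hy
    rw [pow_zero, mul_one, map_apply_ι, ← map_sub]
    obtain ⟨x, hx⟩ := hex m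
    rw [LinearMap.comp_apply, ← hx]
    exact ι_mem_im a x
  | succ k ih =>
    rw [pow_succ'] at hy
    refine Submodule.mul_induction_on hy ?_ ?_
    · rintro _ ⟨m, rfl⟩ y₁ hy₁
      have e : ι R m * y₁ - ExteriorAlgebra.map (s ∘ₗ b) (ι R m * y₁) =
          ι R (m - s (b m)) * y₁ +
            ι R (s (b m)) * (y₁ - ExteriorAlgebra.map (s ∘ₗ b) y₁) := by
        rw [map_mul, map_apply_ι, map_sub, LinearMap.comp_apply]
        noncomm_ring
      rw [e]
      refine add_mem ?_ ?_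
      · obtain ⟨x, hx⟩ := hex m
        rw [← hx]
        exact Submodule.mul_mem_mul (ι_mem_im a x) hy₁
      · have h1 : ι R (s (b m)) * (y₁ - ExteriorAlgebra.map (s ∘ₗ b) y₁) ∈
            mm R M * (im a * mm R M ^ k) :=
          Submodule.mul_mem_mul ⟨_, rfl⟩ (ih y₁ hy₁)
        have h2 : mm R M * (im a * mm R M ^ k) ≤ im a * mm R M ^ (k + 1) := by
          calc mm R M * (im a * mm R M ^ k) = (mm R M * im a) * mm R M ^ k := (mul_assoc _ _ _).symm
            _ ≤ (im a * mm R M) * mm R M ^ k := mul_le_mul' (mm_mul_im_le a) le_rfl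
            _ = im a * mm R M ^ (k + 1) := by rw [mul_assoc, ← pow_succ']
        exact h2 h1
    · intro x y hx hy
      have e : x + y - ExteriorAlgebra.map (s ∘ₗ b) (x + y) =
          (x - ExteriorAlgebra.map (s ∘ₗ b) x) + (y - ExteriorAlgebra.map (s ∘ₗ b) y) := by
        rw [map_add]; abel
      rw [e]
      exact add_mem hx hy

end Groth.Agent.Lib.Helper20.ExtFilt
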