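import Groth.Agent.Lib.Helper20.ExtFilt1

/-!
# The filtration of an exterior power attached to a split short exact sequence, II (helper20)

The maps `W a i k : ⋀^i M' ⊗ ⋀^k M → ΛM` (`x' ⊗ y ↦ Λa(x') · y`),
`Ψ a s j l : ⋀^j M' ⊗ ⋀^l M'' → ΛM` and `P b i k = id ⊗ ⋀^k b`; their ranges; the comparison
`W α - Ψ (P α) ∈ 𝔞^(i+1) 𝔪^k`; the total map `Θ` and its surjectivity.
-/

set_option autoImplicit false
universe u
open ExteriorAlgebra TensorProduct

namespace Groth.Agent.Lib.Helper20.ExtFilt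

variable {R : Type u} [CommRing R]
variable {M' M M'' : Type u} [AddCommGroup M'] [AddCommGroup M] [AddCommGroup M'']
  [Module R M'] [Module R M] [Module R M'']

/-- coercion of `exteriorPower.map` to the exterior algebra -/
lemma coe_map (k : ℕ) (b : M →ₗ[R] M'') (y : ⋀[R]^k M) :
    ((exteriorPower.map k b y : ⋀[R]^k M'') : ExteriorAlgebra R M'') =
      ExteriorAlgebra.map b (y : ExteriorAlgebra R M) := by
  have h : (⋀[R]^k M'').subtype ∘ₗ exteriorPower.map k b =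
      (ExteriorAlgebra.map b).toLinearMap ∘ₗ (⋀[R]^k M).subtype := by
    apply exteriorPower.linearMap_ext
    ext m
    simp only [LinearMap.compAlternatingMap_apply, LinearMap.comp_apply,
      exteriorPower.map_apply_ιMulti, Submodule.subtype_apply, exteriorPower.ιMulti_apply_coe,
      AlgHom.toLinearMap_apply, ExteriorAlgebra.map_apply_ιMulti]
  exact congr($h y)

/-- `⋀^i M' → ΛM` induced by `a`. -/
noncomputable def incl (a : M' →ₗ[R] M) (i : ℕ) : ⋀[R]^i M' →ₗ[R] ExteriorAlgebra R M :=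
  (ExteriorAlgebra.map a).toLinearMap ∘ₗ (⋀[R]^i M').subtype

lemma incl_apply (a : M' →ₗ[R] M) (i : ℕ) (x : ⋀[R]^i M') :
    incl a i x = ExteriorAlgebra.map a (x : ExteriorAlgebra R M') := rfl

lemma range_incl (a : M' →ₗ[R] M) (i : ℕ) : LinearMap.range (incl a i) = im a ^ i := by
  rw [incl, LinearMap.range_comp, Submodule.range_subtype, im_pow_eq_map]

lemma incl_mem (a : M' →ₗ[R] M) (i : ℕ) (x : ⋀[R]^i M') : incl a i x ∈ im a ^ i := by
  rw [← range_incl]; exact ⟨x, rfl⟩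

lemma incl_comp (a : M' →ₗ[R] M) (g : M →ₗ[R] M'') (i : ℕ) (x : ⋀[R]^i M') :
    ExteriorAlgebra.map g (incl a i x) = incl (g ∘ₗ a) i x := by
  rw [incl_apply, incl_apply, ← ExteriorAlgebra.map_comp_map]
  rfl

lemma incl_map {N : Type u} [AddCommGroup N] [Module R N] (g : N →ₗ[R] M') (a : M' →ₗ[R] M)
    (i : ℕ) (x : ⋀[R]^i N) : incl a i (exteriorPower.map i g x) = incl (a ∘ₗ g) i x := by
  rw [incl_apply, coe_map, incl_apply, ← ExteriorAlgebra.map_comp_map]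
  rfl

section prodMap

variable {N₁ N₂ : Type u} [AddCommGroup N₁] [Module R N₁] [AddCommGroup N₂] [Module R N₂]

/-- the product of two linear maps into the exterior algebra -/
noncomputable def prodMap (f : N₁ →ₗ[R] ExteriorAlgebra R M) (g : N₂ →ₗ[R] ExteriorAlgebra R M) :
    N₁ ⊗[R] N₂ →ₗ[R] ExteriorAlgebra R M :=
  TensorProduct.lift ((LinearMap.mul R (ExteriorAlgebra R M)).compl₁₂ f g)

@[simp] lemma prodMap_tmul (f : N₁ →ₗ[R] ExteriorAlgebra R M) (g : N₂ →ₗ[R] ExteriorAlgebra R M)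
    (x : N₁) (y : N₂) : prodMap f g (x ⊗ₜ y) = f x * g y := by
  simp [prodMap]

lemma range_prodMap (f : N₁ →ₗ[R] ExteriorAlgebra R M) (g : N₂ →ₗ[R] ExteriorAlgebra R M) :
    LinearMap.range (prodMap f g) = LinearMap.range f * LinearMap.range g := by
  apply le_antisymm
  · rintro _ ⟨t, rfl⟩
    induction t using TensorProduct.induction_on with
    | zero => simp
    | tmul x y =>
      rw [prodMap_tmul]
      exact Submodule.mul_mem_mul ⟨x, rfl⟩ ⟨y, rfl⟩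
    | add x y hx hy =>
      rw [map_add]
      exact add_mem hx hy
  · rw [Submodule.mul_le]
    rintro _ ⟨x, rfl⟩ _ ⟨y, rfl⟩
    exact ⟨x ⊗ₜ y, prodMap_tmul f g x y⟩

end prodMap

/-- `x' ⊗ y ↦ Λa(x') · y` -/
noncomputable def W (a : M' →ₗ[R] M) (i k : ℕ) :
    (⋀[R]^i M') ⊗[R] (⋀[R]^k M) →ₗ[R] ExteriorAlgebra R M :=
  prodMap (incl a i) (⋀[R]^k M).subtype

/-- `x' ⊗ x'' ↦ Λa(x') · Λs(x'')` -/
noncomputable def Ψ (a : M' →ₗ[R] M) (s : M'' →ₗ[R] M) (j l : ℕ) :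
    (⋀[R]^j M') ⊗[R] (⋀[R]^l M'') →ₗ[R] ExteriorAlgebra R M :=
  prodMap (incl a j) (incl s l)

/-- `id ⊗ ⋀^k b` -/
noncomputable def P (b : M →ₗ[R] M'') (i k : ℕ) :
    (⋀[R]^i M') ⊗[R] (⋀[R]^k M) →ₗ[R] (⋀[R]^i M') ⊗[R] (⋀[R]^k M'') :=
  LinearMap.lTensor _ (exteriorPower.map k b)

@[simp] lemma W_tmul (a : M' →ₗ[R] M) (i k : ℕ) (x : ⋀[R]^i M') (y : ⋀[R]^k M) :
    W a i k (x ⊗ₜ y) = incl a i x * (y : ExteriorAlgebra R M) := prodMap_tmul _ _ _ _

@[simp] lemma Ψ_tmul (a : M' →ₗ[R] M) (s : M'' →ₗ[R] M) (j l : ℕ) (x : ⋀[R]^j M')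
    (y : ⋀[R]^l M'') : Ψ a s j l (x ⊗ₜ y) = incl a j x * incl s l y := prodMap_tmul _ _ _ _

@[simp] lemma P_tmul (b : M →ₗ[R] M'') (i k : ℕ) (x : ⋀[R]^i M') (y : ⋀[R]^k M) :
    P b i k (x ⊗ₜ y) = x ⊗ₜ exteriorPower.map k b y := rfl

lemma range_W (a : M' →ₗ[R] M) (i k : ℕ) :
    LinearMap.range (W a i k) = im a ^ i * mm R M ^ k := by
  rw [W, range_prodMap, range_incl, Submodule.range_subtype]

lemma range_Ψ (a : M' →ₗ[R] M) (s : M'' →ₗ[R] M) (j l : ℕ) :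
    LinearMap.range (Ψ a s j l) = im a ^ j * im s ^ l := by
  rw [Ψ, range_prodMap, range_incl, range_incl]

lemma range_W_le (a : M' →ₗ[R] M) (i k : ℕ) :
    LinearMap.range (W a i k) ≤ mm R M ^ (i + k) := by
  rw [range_W, pow_add]
  exact mul_le_mul' (pow_le_pow_left' (im_le a) i) le_rfl

lemma range_Ψ_le (a : M' →ₗ[R] M) (s : M'' →ₗ[R] M) (j l : ℕ) :
    LinearMap.range (Ψ a s j l) ≤ mm R M ^ (j + l) := by
  rw [range_Ψ, pow_add]
  exact mul_le_mul' (pow_le_pow_left' (im_le a) j) (pow_le_pow_left' (im_le s) l)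

/-- the filtration is decreasing -/
theorem range_W_succ_le (a : M' →ₗ[R] M) (i k : ℕ) :
    LinearMap.range (W a (i + 1) k) ≤ LinearMap.range (W a i (k + 1)) := by
  rw [range_W, range_W, pow_succ, mul_assoc, pow_succ']
  exact mul_le_mul' le_rfl (mul_le_mul' (im_le a) le_rfl)

section compare

variable (a : M' →ₗ[R] M) (b : M →ₗ[R] M'') (s : M'' →ₗ[R] M)

lemma Ψ_P_tmul (i k : ℕ) (x : ⋀[R]^i M') (y : ⋀[R]^k M) :
    Ψ a s i k (P b i k (x ⊗ₜ y)) =
      incl a i x * ExteriorAlgebra.map (s ∘ₗ b) (y : ExteriorAlgebra R M) := by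
  rw [P_tmul, Ψ_tmul, incl_apply s, coe_map, ← ExteriorAlgebra.map_comp_map]
  rfl

/-- `W α ≡ Ψ (P α)` modulo the next step of the filtration. -/
theorem W_sub_Ψ_mem (hex : ∀ m : M, m - s (b m) ∈ LinearMap.range a) (i k : ℕ)
    (α : (⋀[R]^i M') ⊗[R] (⋀[R]^(k + 1) M)) :
    W a i (k + 1) α - Ψ a s i (k + 1) (P b i (k + 1) α) ∈ im a ^ (i + 1) * mm R M ^ k := by
  induction α using TensorProduct.induction_on with
  | zero => simp
  | tmul x y =>
    rw [W_tmul, Ψ_P_tmul, ← mul_sub, pow_succ, mul_assoc]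
    exact Submodule.mul_mem_mul (incl_mem a i x) (sub_map_mem a b s hex k _ y.2)
  | add x y hx hy =>
    have e : W a i (k + 1) (x + y) - Ψ a s i (k + 1) (P b i (k + 1) (x + y)) =
        (W a i (k + 1) x - Ψ a s i (k + 1) (P b i (k + 1) x)) +
          (W a i (k + 1) y - Ψ a s i (k + 1) (P b i (k + 1) y)) := by
      simp only [map_add]; abel
    rw [e]
    exact add_mem hx hy

/-- In top degree, `W = Ψ ∘ P`. -/
theorem W_eq_Ψ_zero (i : ℕ) (α : (⋀[R]^i M') ⊗[R] (⋀[R]^0 M)) :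
    W a i 0 α = Ψ a s i 0 (P b i 0 α) := by
  induction α using TensorProduct.induction_on with
  | zero => simp
  | tmul x y =>
    rw [W_tmul, Ψ_P_tmul]
    congr 1
    have hy : (y : ExteriorAlgebra R M) ∈ (1 : Submodule R (ExteriorAlgebra R M)) := by
      have h0 : (y : ExteriorAlgebra R M) ∈ mm R M ^ 0 := y.2
      rwa [pow_zero] at h0
    obtain ⟨r, hr⟩ := Submodule.mem_one.mp hy
    rw [← hr, AlgHom.commutes]
  | add x y hx hy => simp only [map_add, hx, hy]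

end compare

end Groth.Agent.Lib.Helper20.ExtFilt
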