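import Groth.Agent.Lib.Helper20.ExtFilt2

/-!
# The filtration of an exterior power attached to a split short exact sequence, III (helper20)

The total map `Θ : ∏_{j+l=n} ⋀^j M' ⊗ ⋀^l M'' → ΛM`, its surjectivity onto `⋀^n M`, and its
injectivity for finite free, then finite projective `M'`, `M''` (when `M' × M'' ≃ M` through
`a`, `s`).
-/

set_option autoImplicit false
universe u
open ExteriorAlgebra TensorProduct

namespace Groth.Agent.Lib.Helper20.ExtFilt

variable {R : Type u} [CommRing R]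
variable {M' M M'' : Type u} [AddCommGroup M'] [AddCommGroup M] [AddCommGroup M'']
  [Module R M'] [Module R M] [Module R M'']

/-- the index set `{(j, l) | j + l = n}` -/
abbrev Idx (n : ℕ) : Type :=
  {p : ℕ × ℕ // p ∈ (Finset.HasAntidiagonal.antidiagonal n : Finset (ℕ × ℕ))}

lemma Idx.add_eq {n : ℕ} (p : Idx n) : p.1.1 + p.1.2 = n :=
  Finset.HasAntidiagonal.mem_antidiagonal.mp p.2

/-- the index `(i, k)` of `Idx (i + k)` -/
abbrev Idx.mk' (i k n : ℕ) (h : i + k = n) : Idx n :=
  ⟨(i, k), Finset.HasAntidiagonal.mem_antidiagonal.mpr h⟩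

variable (R M' M'') in
/-- the graded pieces -/
abbrev G (p : ℕ × ℕ) : Type u := (⋀[R]^p.1 M') ⊗[R] (⋀[R]^p.2 M'')

section Theta

variable (a : M' →ₗ[R] M) (s : M'' →ₗ[R] M) (n : ℕ)

/-- the total map -/
noncomputable def Θ : (∀ p : Idx n, G R M' M'' p.1) →ₗ[R] ExteriorAlgebra R M :=
  ∑ p : Idx n, (Ψ a s p.1.1 p.1.2) ∘ₗ (LinearMap.proj p : (∀ p : Idx n, G R M' M'' p.1) →ₗ[R] _)

lemma Θ_apply (v : ∀ p : Idx n, G R M' M'' p.1) :
    Θ a s n v = ∑ p : Idx n, Ψ a s p.1.1 p.1.2 (v p) := by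
  simp [Θ, LinearMap.sum_apply]

lemma Θ_single (p : Idx n) (g : G R M' M'' p.1) :
    Θ a s n (Pi.single p g) = Ψ a s p.1.1 p.1.2 g := by
  classical
  rw [Θ_apply, Finset.sum_eq_single p]
  · rw [Pi.single_eq_same]
  · intro q _ hq
    rw [Pi.single_eq_of_ne hq, map_zero]
  · intro h
    exact absurd (Finset.mem_univ p) h

lemma Θ_mem (v : ∀ p : Idx n, G R M' M'' p.1) : Θ a s n v ∈ mm R M ^ n := by
  rw [Θ_apply]
  refine Submodule.sum_mem _ (fun p _ => ?_)
  have h := range_Ψ_le a s p.1.1 p.1.2 ⟨v p, rfl⟩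
  rwa [p.add_eq] at h

lemma range_Ψ_le_range_Θ (p : Idx n) :
    LinearMap.range (Ψ a s p.1.1 p.1.2) ≤ LinearMap.range (Θ a s n) := by
  rintro _ ⟨g, rfl⟩
  exact ⟨Pi.single p g, Θ_single a s n p g⟩

theorem pow_le_range_Θ (h : mm R M ≤ im a ⊔ im s) : mm R M ^ n ≤ LinearMap.range (Θ a s n) := by
  refine (pow_le_iSup a s h n).trans (iSup₂_le fun p hp => ?_)
  rw [← range_Ψ]
  exact range_Ψ_le_range_Θ a s n ⟨p, hp⟩

/-- `Θ` with values in `⋀^n M`. -/
noncomputable def Θ' : (∀ p : Idx n, G R M' M'' p.1) →ₗ[R] ⋀[R]^n M :=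
  LinearMap.codRestrict _ (Θ a s n) (Θ_mem a s n)

lemma Θ'_surjective (h : mm R M ≤ im a ⊔ im s) : Function.Surjective (Θ' a s n) := by
  rintro ⟨y, hy⟩
  obtain ⟨v, hv⟩ := pow_le_range_Θ a s n h hy
  exact ⟨v, Subtype.ext hv⟩

lemma Θ_injective_iff : Function.Injective (Θ a s n) ↔ Function.Injective (Θ' a s n) := by
  constructor
  · intro h v w hvw
    exact h (congrArg Subtype.val hvw)
  · intro h v w hvw
    exact h (Subtype.ext hvw)

end Theta

lemma mm_le_of_surjective (a : M' →ₗ[R] M) (s : M'' →ₗ[R] M)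
    (h : Function.Surjective (a.coprod s)) : mm R M ≤ im a ⊔ im s := by
  rintro _ ⟨m, rfl⟩
  obtain ⟨⟨x, y⟩, rfl⟩ := h m
  rw [LinearMap.coprod_apply, map_add]
  exact Submodule.add_mem_sup (ι_mem_im a x) (ι_mem_im s y)

section Free

variable (a : M' →ₗ[R] M) (s : M'' →ₗ[R] M) (n : ℕ)

/-- **`Θ` is injective** in the finite free case. -/
theorem Θ_injective_of_free [Module.Free R M'] [Module.Finite R M'] [Module.Free R M'']
    [Module.Finite R M''] (hbij : Function.Bijective (a.coprod s)) :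
    Function.Injective (Θ a s n) := by
  rcases subsingleton_or_nontrivial R with hR | hR
  · haveI : Subsingleton (∀ p : Idx n, G R M' M'' p.1) := Module.subsingleton R _
    exact Function.injective_of_subsingleton _
  let e : (M' × M'') ≃ₗ[R] M := LinearEquiv.ofBijective (a.coprod s) hbij
  haveI : Module.Free R M := Module.Free.of_equiv e
  haveI : Module.Finite R M := Module.Finite.equiv e
  have hM : Module.finrank R M = Module.finrank R M' + Module.finrank R M'' := by
    rw [← e.finrank_eq, Module.finrank_prod]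
  have hrank : Module.finrank R (∀ p : Idx n, G R M' M'' p.1) = Module.finrank R (⋀[R]^n M) := by
    rw [Module.finrank_pi_fintype, exteriorPower.finrank_eq, hM, Nat.add_choose_eq]
    rw [← Finset.sum_coe_sort (Finset.HasAntidiagonal.antidiagonal n)
      (fun p : ℕ × ℕ => (Module.finrank R M').choose p.1 * (Module.finrank R M'').choose p.2)]
    refine Finset.sum_congr rfl (fun p _ => ?_)
    rw [Module.finrank_tensorProduct, exteriorPower.finrank_eq, exteriorPower.finrank_eq]
  rw [Θ_injective_iff]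
  let e' := LinearEquiv.ofFinrankEq (∀ p : Idx n, G R M' M'' p.1) (⋀[R]^n M) hrank
  exact OrzechProperty.injective_of_surjective_of_injective e'.toLinearMap (Θ' a s n)
    e'.injective (Θ'_surjective a s n (mm_le_of_surjective a s hbij.2))

end Free

end Groth.Agent.Lib.Helper20.ExtFilt
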