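import Groth.Agent.Lib.Helper20.ExtFilt4

/-!
# The filtration of an exterior power attached to a split short exact sequence, V (helper20)

`Wn a i k n h : ⋀^i M' ⊗ ⋀^k M → ⋀^n M` (`i + k = n`), its value on decomposables, and the
statements of part IV in this form: `Wn_mem_range_iff`, `Wn_eq_zero_iff`, `range_Wn_succ_le`,
`Wn_zero_surjective`, `P_surjective`.
-/

set_option autoImplicit false
universe u
open ExteriorAlgebra TensorProduct

namespace Groth.Agent.Lib.Helper20.ExtFilt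

variable {R : Type u} [CommRing R]
variable {M' M M'' : Type u} [AddCommGroup M'] [AddCommGroup M] [AddCommGroup M'']
  [Module R M'] [Module R M] [Module R M'']

/-- `W` with values in `⋀^n M`, `n = i + k`. -/
noncomputable def Wn (a : M' →ₗ[R] M) (i k n : ℕ) (h : i + k = n) :
    (⋀[R]^i M') ⊗[R] (⋀[R]^k M) →ₗ[R] ⋀[R]^n M :=
  LinearMap.codRestrict _ (W a i k) (fun α => by
    have h1 := range_W_le a i k ⟨α, rfl⟩
    rwa [h] at h1)

@[simp] lemma Wn_coe (a : M' →ₗ[R] M) (i k n : ℕ) (h : i + k = n)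
    (α : (⋀[R]^i M') ⊗[R] (⋀[R]^k M)) :
    ((Wn a i k n h α : ⋀[R]^n M) : ExteriorAlgebra R M) = W a i k α := rfl

lemma ιMulti_cast {n m : ℕ} (h : n = m) (f : Fin n → M) :
    ExteriorAlgebra.ιMulti R n f = ExteriorAlgebra.ιMulti R m (fun j => f (Fin.cast h.symm j)) := by
  subst h
  rfl

/-- the value of `Wn` on decomposables -/
theorem Wn_ιMulti (a : M' →ₗ[R] M) (i k n : ℕ) (h : i + k = n) (m' : Fin i → M')
    (m : Fin k → M) :
    Wn a i k n h (exteriorPower.ιMulti R i m' ⊗ₜ exteriorPower.ιMulti R k m) =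
      exteriorPower.ιMulti R n
        (fun j => Fin.append (fun l => a (m' l)) m (Fin.cast h.symm j)) := by
  apply Subtype.ext
  rw [Wn_coe, W_tmul, incl_apply, exteriorPower.ιMulti_apply_coe, exteriorPower.ιMulti_apply_coe,
    exteriorPower.ιMulti_apply_coe, ExteriorAlgebra.map_apply_ιMulti,
    ExteriorAlgebra.ιMulti_mul_ιMulti, ιMulti_cast h]
  rfl

lemma Wn_mem_range_iff (a : M' →ₗ[R] M) (i k i' k' n : ℕ) (h : i + k = n) (h' : i' + k' = n)
    (α : (⋀[R]^i M') ⊗[R] (⋀[R]^k M)) :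
    Wn a i k n h α ∈ LinearMap.range (Wn a i' k' n h') ↔
      W a i k α ∈ LinearMap.range (W a i' k') := by
  constructor
  · rintro ⟨γ, hγ⟩
    exact ⟨γ, congrArg Subtype.val hγ⟩
  · rintro ⟨γ, hγ⟩
    exact ⟨γ, Subtype.ext hγ⟩

section Main

variable [Module.Finite R M'] [Module.Projective R M'] [Module.Finite R M'']
  [Module.Projective R M'']
variable (a : M' →ₗ[R] M) (b : M →ₗ[R] M'') (s : M'' →ₗ[R] M)
  (hbs : b ∘ₗ s = LinearMap.id) (hba : b ∘ₗ a = 0) (ha : Function.Injective a)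
  (hex : ∀ m : M, m - s (b m) ∈ LinearMap.range a)

include hbs hba ha hex in
theorem Wn_mem_range_succ_iff (i k n : ℕ) (h : i + (k + 1) = n) (h' : i + 1 + k = n)
    (α : (⋀[R]^i M') ⊗[R] (⋀[R]^(k + 1) M)) :
    Wn a i (k + 1) n h α ∈ LinearMap.range (Wn a (i + 1) k n h') ↔ P b i (k + 1) α = 0 := by
  rw [Wn_mem_range_iff]
  exact mem_range_W_succ_iff a b s hbs hba ha hex i k α

include hbs hba ha hex in
theorem Wn_eq_zero_iff (i n : ℕ) (h : i + 0 = n) (α : (⋀[R]^i M') ⊗[R] (⋀[R]^0 M)) :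
    Wn a i 0 n h α = 0 ↔ P b i 0 α = 0 := by
  rw [← W_zero_eq_zero_iff a b s hbs hba ha hex i α]
  constructor
  · intro h0
    have := congrArg Subtype.val h0
    exact this
  · intro h0
    exact Subtype.ext h0

end Main

omit [Module R M''] [AddCommGroup M''] in
theorem range_Wn_succ_le (a : M' →ₗ[R] M) (i k n : ℕ) (h : i + (k + 1) = n)
    (h' : i + 1 + k = n) :
    LinearMap.range (Wn a (i + 1) k n h') ≤ LinearMap.range (Wn a i (k + 1) n h) := by
  rintro _ ⟨γ, rfl⟩
  rw [Wn_mem_range_iff]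
  exact range_W_succ_le a i k ⟨γ, rfl⟩

omit [Module R M''] [AddCommGroup M''] in
/-- `Wn a 0 n n` is surjective. -/
theorem Wn_zero_surjective (a : M' →ₗ[R] M) (n : ℕ) (h : 0 + n = n) :
    Function.Surjective (Wn a 0 n n h) := by
  intro y
  have h1 : (1 : ExteriorAlgebra R M') ∈ mm R M' ^ 0 := by
    rw [pow_zero]; exact Submodule.one_le.mp le_rfl
  refine ⟨(⟨1, h1⟩ : ⋀[R]^0 M') ⊗ₜ y, ?_⟩
  apply Subtype.ext
  rw [Wn_coe, W_tmul, incl_apply, map_one, one_mul]

/-- `P b i k` is surjective when `b` is. -/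
theorem P_surjective (b : M →ₗ[R] M'') (hb : Function.Surjective b) (i k : ℕ) :
    Function.Surjective (P (M' := M') b i k) :=
  LinearMap.lTensor_surjective _ (exteriorPower.map_surjective hb)

end Groth.Agent.Lib.Helper20.ExtFilt
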