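import Groth.Agent.Lib.Helper1.ExtPowTilde

set_option autoImplicit false

/-!
# Restriction maps of an exterior power of a quasi-coherent module are base changes
-/

universe u

namespace Groth.Agent.Lib.helper20.ExtPowCoh1

open CategoryTheory AlgebraicGeometry TopologicalSpace Opposite Scheme.Modules
open Groth.Agent.Lib.helper8.PullbackUnit Groth.Agent.H1.ExtPowBC Groth.Agent.H1.ExtPowSemi
open Groth.Agent.H1.ResBC Groth.Agent.H1.ExtPowTilde

variable {X : Scheme.{u}}

/-- restriction between affine opens of an exterior power of a quasi-coherent module is a base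
change -/
theorem isBC_res_of_isExtPow {p : ℕ} {E L : X.Modules} [E.IsQuasicoherent]
    (hL : ExtPow.IsExtPow p E L) {U V : X.Opens} (hU : IsAffineOpen U) (hV : IsAffineOpen V)
    (h : V ≤ U) : IsBC (X.presheaf.map (homOfLE h).op).hom (res L h) := by
  obtain ⟨φ, hφ⟩ := hL
  have hE := isBC_res E hU hV h
  have hΛ := isBC_extMap hE p
  let φU : Γ(L, U) ≃ₗ[Γ(X, U)] ⋀[Γ(X, U)]^p Γ(E, U) := φ ⟨U, hU⟩
  let φV : Γ(L, V) ≃ₗ[Γ(X, V)] ⋀[Γ(X, V)]^p Γ(E, V) := φ ⟨V, hV⟩
  refine hΛ.of_equiv φU φV (res L h) ?_
  have key : (φV.toLinearMap.toAddMonoidHom.comp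
      ((res L h).comp φU.symm.toLinearMap.toAddMonoidHom)) =
      extMap (X.presheaf.map (homOfLE h).op).hom (res E h) hE.map_smul p := by
    refine extPow_addHom_ext (X.presheaf.map (homOfLE h).op).hom _ _ ?_ ?_ ?_
    · intro a x
      change φV (res L h (φU.symm (a • x))) = _ • φV (res L h (φU.symm x))
      rw [_root_.map_smul, res_smul, _root_.map_smul]
    · intro a x
      exact extMap_smul _ _ _ _ a x
    · intro m
      change φV (res L h (φU.symm (exteriorPower.ιMulti Γ(X, U) p m))) = _
      rw [extMap_ιMulti]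
      have := hφ ⟨U, hU⟩ ⟨V, hV⟩ h m
      have h2 : res L h (φU.symm (exteriorPower.ιMulti Γ(X, U) p m)) =
          φV.symm (exteriorPower.ιMulti Γ(X, V) p (fun j => res E h (m j))) := this
      rw [h2, LinearEquiv.apply_symm_apply]
  intro n
  have := congr($key (φU n))
  change φV (res L h (φU.symm (φU n))) = _ at this
  rw [LinearEquiv.symm_apply_apply] at this
  exact this

end Groth.Agent.Lib.helper20.ExtPowCoh1
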