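import Groth.Agent.Lib.Helper20.ExtPowCoh1
import Groth.Agent.Lib.Helper7.QCohAffine
import Groth.Agent.Lib.Helper7.CohKer
import Groth.Agent.Lib.Helper16.CohFinite

set_option autoImplicit false

/-!
# A module whose restriction maps between affine opens are base changes is quasi-coherent
-/

universe u

namespace Groth.Agent.Lib.helper20.ExtPowCoh2

open CategoryTheory AlgebraicGeometry TopologicalSpace Opposite Scheme.Modules
open Groth.Agent.Lib.helper8.PullbackUnit Groth.Agent.H1.ExtPowSemi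
open Groth.Agent.H1.ResBC Groth.Agent.Lib.helper7

noncomputable section

variable {X : Scheme.{u}} (L : X.Modules)

/-- the key localisation statement on `Spec Γ(X, U)` -/
theorem isLocalizing_restrict_of_isBC
    (hBC : ∀ {U V : X.Opens} (_ : IsAffineOpen U) (_ : IsAffineOpen V) (h : V ≤ U),
      IsBC (X.presheaf.map (homOfLE h).op).hom (res L h))
    {U : X.Opens} (hU : IsAffineOpen U) :
    IsLocalizing (modulesSpecToSheaf.obj (L.restrict hU.fromSpec)) := by
  intro g
  let D : (Spec Γ(X, U)).Opens := PrimeSpectrum.basicOpen g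
  have e1 : hU.fromSpec ''ᵁ ⊤ = U := image_top_eq hU
  have e2 : hU.fromSpec ''ᵁ D = X.basicOpen g := hU.fromSpec_image_basicOpen g
  have hU' : IsAffineOpen (hU.fromSpec ''ᵁ ⊤) := by rw [e1]; exact hU
  have hD' : IsAffineOpen (hU.fromSpec ''ᵁ D) := by rw [e2]; exact hU.basicOpen g
  have hle : hU.fromSpec ''ᵁ D ≤ hU.fromSpec ''ᵁ ⊤ := Scheme.Hom.image_mono _ le_top
  have h0 := hBC hU' hD' hle
  -- the ring isomorphism `Γ(X, U) ≃ Γ(X, U')`
  let σ : Γ(X, U) ≃+* Γ(X, hU.fromSpec ''ᵁ ⊤) :=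
    (X.presheaf.mapIso (eqToIso e1).op).commRingCatIsoToRingEquiv
  have hσ : ∀ r : Γ(X, U), σ r = X.presheaf.map (homOfLE (image_le hU ⊤)).op r := fun r => rfl
  let eN : Γ(L.restrict hU.fromSpec, ⊤) ≃+ Γ(L, hU.fromSpec ''ᵁ ⊤) := AddEquiv.refl _
  have h1 := precomp_equiv h0 σ eN (fun r n => by
    rw [hσ]
    exact smul_eq hU L ⊤ r n)
  let i : (hU.fromSpec ''ᵁ D) ⟶ U := homOfLE (image_le hU D)
  letI alg : Algebra Γ(X, U) Γ(X, hU.fromSpec ''ᵁ D) := (X.presheaf.map i.op).hom.toAlgebra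
  haveI loc : IsLocalization.Away g Γ(X, hU.fromSpec ''ᵁ D) :=
    hU.isLocalization_of_eq_basicOpen g i e2
  have hcomp : (X.presheaf.map (homOfLE hle).op).hom.comp σ.toRingHom =
      algebraMap Γ(X, U) Γ(X, hU.fromSpec ''ᵁ D) := by
    ext r
    change X.presheaf.map (homOfLE hle).op (X.presheaf.map (homOfLE (image_le hU ⊤)).op r) =
      X.presheaf.map i.op r
    rw [← ConcreteCategory.comp_apply, ← Functor.map_comp]
    rfl
  rw [hcomp] at h1
  let k := ((modulesSpecToSheaf.obj (L.restrict hU.fromSpec)).obj.map D.leTop.op).hom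
  letI : Module Γ(X, hU.fromSpec ''ᵁ D)
      ↑((modulesSpecToSheaf.obj (L.restrict hU.fromSpec)).obj.obj (op D)) :=
    inferInstanceAs (Module Γ(X, hU.fromSpec ''ᵁ D) Γ(L, hU.fromSpec ''ᵁ D))
  haveI : IsScalarTower Γ(X, U) Γ(X, hU.fromSpec ''ᵁ D)
      ↑((modulesSpecToSheaf.obj (L.restrict hU.fromSpec)).obj.obj (op D)) :=
    IsScalarTower.of_algebraMap_smul (fun r x => (smul_eq hU L D r x).symm)
  have hk : IsBC (algebraMap Γ(X, U) Γ(X, hU.fromSpec ''ᵁ D)) k.toAddMonoidHom := h1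
  have hbc := IsBC.isBaseChange k hk
  exact (isLocalizedModule_iff_isBaseChange (Submonoid.powers g) Γ(X, hU.fromSpec ''ᵁ D) k).2 hbc

/-- a module whose restriction maps between affine opens are base changes is quasi-coherent -/
theorem isQuasicoherent_of_isBC
    (hBC : ∀ {U V : X.Opens} (_ : IsAffineOpen U) (_ : IsAffineOpen V) (h : V ≤ U),
      IsBC (X.presheaf.map (homOfLE h).op).hom (res L h)) : L.IsQuasicoherent :=
  CohKer.isQuasicoherent_of_affine L (fun _ hU =>
    (isQuasicoherent_iff_isIso_fromTildeΓ _).2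
      ((isIso_fromTildeΓ_iff_isLocalizing _).2 (isLocalizing_restrict_of_isBC L hBC hU)))

variable {L}

/-- **an exterior power of a quasi-coherent module is quasi-coherent** -/
theorem isQuasicoherent_of_isExtPow {p : ℕ} {E : X.Modules} [E.IsQuasicoherent]
    (hL : ExtPow.IsExtPow p E L) : L.IsQuasicoherent :=
  isQuasicoherent_of_isBC L (fun hU hV h =>
    Groth.Agent.Lib.helper20.ExtPowCoh1.isBC_res_of_isExtPow hL hU hV h)

/-- **an exterior power of a coherent module is coherent** -/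
theorem isCoh_of_isExtPow {p : ℕ} {E : X.Modules} (hE : Coh.IsCoh E)
    (hL : ExtPow.IsExtPow p E L) : Coh.IsCoh L := by
  haveI : E.IsQuasicoherent := hE.1
  haveI : L.IsQuasicoherent := isQuasicoherent_of_isExtPow hL
  refine ⟨inferInstance, ?_⟩
  obtain ⟨φ, -⟩ := hL
  refine Groth.Agent.Lib.helper16.CohFinite.isFiniteType_of_finite_sections L
    (fun U : X.affineOpens => U.1) (fun U => U.2) (iSup_affineOpens_eq_top X) (fun U => ?_)
  haveI : Module.Finite Γ(X, U.1) Γ(E, U.1) :=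
    Groth.Agent.Lib.helper16.CohFinite.finite_sections_of_isFiniteType E hE.2 U.2
  let φU : Γ(L, U.1) ≃ₗ[Γ(X, U.1)] ⋀[Γ(X, U.1)]^p Γ(E, U.1) := φ U
  exact Module.Finite.equiv φU.symm

end

end Groth.Agent.Lib.helper20.ExtPowCoh2
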