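import Groth.Agent.Lib.Helper20.ExtSh1

/-!
# Uniqueness of exterior powers; the exterior powers of degree `0` and `1` (helper20)

* `extIso D D'`: two exterior powers of the same module are isomorphic.
* `data_zero E`: `O_X` is a zeroth exterior power of `E`.
* `data_one E`: `E` is a first exterior power of `E`.
-/

set_option autoImplicit false
universe u

open CategoryTheory AlgebraicGeometry Opposite TopologicalSpace
open Groth.Agent.H1.ExtPowSemi Groth.Agent.H1.ExtPowTilde Groth.Agent.H1.ResBC

namespace Groth.Agent.Lib.Helper20.ExtSh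

noncomputable section

variable {X : Scheme.{u}} {k : ℕ} {E L L' : X.Modules}

theorem secLin_id (E : X.Modules) (U : X.Opens) : secLin (𝟙 E) U = LinearMap.id := by
  ext x
  rfl

theorem extMapHom_id_comp (D : Data k E L) (D' : Data k E L') :
    extMapHom D D' (𝟙 E) ≫ extMapHom D' D (𝟙 E) = 𝟙 L := by
  refine Groth.Agent.Lib.helper28.HomOfAffine.hom_ext_of_affine _ _ (fun U s => ?_)
  let V : X.affineOpens := ⟨U.1, U.2⟩
  change (extMapHom D' D (𝟙 E)).app V.1 ((extMapHom D D' (𝟙 E)).app V.1 s) = s
  rw [extMapHom_app, extMapHom_app, secLin_id, exteriorPower.map_id]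
  simp only [LinearMap.id_coe, id_eq, LinearEquiv.apply_symm_apply, LinearEquiv.symm_apply_apply]

/-- two exterior powers of the same module are isomorphic -/
def extIso (D : Data k E L) (D' : Data k E L') : L ≅ L' where
  hom := extMapHom D D' (𝟙 E)
  inv := extMapHom D' D (𝟙 E)
  hom_inv_id := extMapHom_id_comp D D'
  inv_hom_id := extMapHom_id_comp D' D

theorem nonempty_iso_of_isExtPow (h : ExtPow.IsExtPow k E L) (h' : ExtPow.IsExtPow k E L') :
    Nonempty (L ≅ L') := by
  obtain ⟨D⟩ := nonempty_data h
  obtain ⟨D'⟩ := nonempty_data h'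
  exact ⟨extIso D D'⟩

/-- `E` is a first exterior power of `E` -/
def data_one (E : X.Modules) : Data 1 E E where
  φ U := (exteriorPower.oneEquiv Γ(X, U.1) (E.val.obj (op U.1))).symm
  compat U V h e := by
    rw [LinearEquiv.symm_symm, LinearEquiv.symm_symm, exteriorPower.oneEquiv_ιMulti,
      exteriorPower.oneEquiv_ιMulti]

theorem isExtPow_one (E : X.Modules) : ExtPow.IsExtPow 1 E E := (data_one E).isExtPow

/-- the sections of the structure module are the sections of the structure sheaf -/
def unitEquiv (U : X.Opens) :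
    ((Coh.structureModule X).val.obj (op U)) ≃ₗ[Γ(X, U)] Γ(X, U) :=
  LinearEquiv.refl Γ(X, U) Γ(X, U)

/-- `O_X` is a zeroth exterior power of `E` -/
def data_zero (E : X.Modules) : Data 0 E (Coh.structureModule X) where
  φ U := (unitEquiv U.1).trans (exteriorPower.zeroEquiv Γ(X, U.1) (E.val.obj (op U.1))).symm
  compat U V h e := by
    rw [LinearEquiv.symm_trans_apply, LinearEquiv.symm_trans_apply, LinearEquiv.symm_symm,
      LinearEquiv.symm_symm, exteriorPower.zeroEquiv_ιMulti, exteriorPower.zeroEquiv_ιMulti]
    exact map_one (X.presheaf.map (homOfLE h).op).hom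

theorem isExtPow_zero (E : X.Modules) : ExtPow.IsExtPow 0 E (Coh.structureModule X) :=
  (data_zero E).isExtPow

end

end Groth.Agent.Lib.Helper20.ExtSh
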