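import Groth.Agent.Lib.Helper1.ExtPowTilde
import Groth.Agent.Lib.Helper28.HomOfAffine
import Groth.Prelude.Def_ExtPow2

/-!
# Morphisms out of an exterior power of an `O_X`-module (helper20)

* `Data k E L`: the data of `ExtPow.IsExtPow k E L`.
* `res_symm`: the restriction maps of `L`, transported to exterior powers, are the semilinear
  exterior power maps of the restriction maps of `E`.
* `exists_hom_of_extPow`: morphisms `L ⟶ N` from compatible linear maps `⋀^k E(U) → N(U)`.
* `extMapHom D D'' b : L ⟶ L''`: functoriality of exterior powers, with its formula on sections.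
-/

set_option autoImplicit false
universe u

open CategoryTheory AlgebraicGeometry Opposite TopologicalSpace
open Groth.Agent.H1.ExtPowSemi Groth.Agent.H1.ExtPowTilde Groth.Agent.H1.ResBC

namespace Groth.Agent.Lib.Helper20.ExtSh

noncomputable section

variable {X : Scheme.{u}}

/-- the data of `ExtPow.IsExtPow k E L` -/
structure Data (k : ℕ) (E L : X.Modules) where
  φ : ∀ U : X.affineOpens, (L.val.obj (op U.1)) ≃ₗ[Γ(X, U.1)]
    ↥(⋀[Γ(X, U.1)]^k (E.val.obj (op U.1)))
  compat : ∀ (U V : X.affineOpens) (h : V.1 ≤ U.1) (e : Fin k → E.val.obj (op U.1)),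
    L.val.map (homOfLE h).op ((φ U).symm (exteriorPower.ιMulti _ k e)) =
      (φ V).symm (exteriorPower.ιMulti _ k (fun j => E.val.map (homOfLE h).op (e j)))

lemma nonempty_data {k : ℕ} {E L : X.Modules} (h : ExtPow.IsExtPow k E L) :
    Nonempty (Data k E L) := by
  obtain ⟨φ, hφ⟩ := h
  exact ⟨⟨φ, hφ⟩⟩

lemma Data.isExtPow {k : ℕ} {E L : X.Modules} (D : Data k E L) : ExtPow.IsExtPow k E L :=
  ⟨D.φ, D.compat⟩

/-- the restriction ring homomorphism -/
abbrev σ {U V : X.Opens} (h : V ≤ U) : Γ(X, U) →+* Γ(X, V) := (X.presheaf.map (homOfLE h).op).hom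

/-- the semilinear exterior power of the restriction map of `E` -/
abbrev extRes (E : X.Modules) (k : ℕ) {U V : X.Opens} (h : V ≤ U) :
    ⋀[Γ(X, U)]^k Γ(E, U) →+ ⋀[Γ(X, V)]^k Γ(E, V) :=
  extMap (σ h) (res E h) (res_smul E h) k

variable {k : ℕ} {E L : X.Modules}

/-- the comparison isomorphism, on Mathlib-style sections -/
abbrev Data.φ' (D : Data k E L) (U : X.affineOpens) :
    Γ(L, U.1) ≃ₗ[Γ(X, U.1)] ⋀[Γ(X, U.1)]^k Γ(E, U.1) := D.φ U

/-- restriction of `L`, transported to exterior powers -/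
theorem res_symm (D : Data k E L) (U V : X.affineOpens) (h : V.1 ≤ U.1)
    (t : ⋀[Γ(X, U.1)]^k Γ(E, U.1)) :
    res L h ((D.φ' U).symm t) = (D.φ' V).symm (extRes E k h t) := by
  have key : ((res L h).comp (D.φ' U).symm.toLinearMap.toAddMonoidHom) =
      (D.φ' V).symm.toLinearMap.toAddMonoidHom.comp (extRes E k h) := by
    refine extPow_addHom_ext (σ h) _ _ ?_ ?_ ?_
    · intro a x
      change res L h ((D.φ' U).symm (a • x)) = _ • res L h ((D.φ' U).symm x)
      rw [_root_.map_smul, res_smul]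
    · intro a x
      change (D.φ' V).symm (extRes E k h (a • x)) = _ • (D.φ' V).symm (extRes E k h x)
      rw [extMap_smul, _root_.map_smul]
    · intro m
      change res L h ((D.φ' U).symm (exteriorPower.ιMulti Γ(X, U.1) k m)) =
        (D.φ' V).symm (extRes E k h (exteriorPower.ιMulti Γ(X, U.1) k m))
      rw [extMap_ιMulti]
      exact D.compat U V h m
  exact congr($key t)

theorem res_eq (D : Data k E L) (U V : X.affineOpens) (h : V.1 ≤ U.1) (s : Γ(L, U.1)) :
    D.φ' V (res L h s) = extRes E k h (D.φ' U s) := by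
  have := res_symm D U V h (D.φ' U s)
  rw [LinearEquiv.symm_apply_apply] at this
  rw [this, LinearEquiv.apply_symm_apply]

/-- **Morphisms out of an exterior power** from compatible linear maps on affine opens. -/
theorem exists_hom_of_extPow (D : Data k E L) (N : X.Modules)
    (f : ∀ U : X.affineOpens, ⋀[Γ(X, U.1)]^k Γ(E, U.1) →ₗ[Γ(X, U.1)] Γ(N, U.1))
    (hf : ∀ (U V : X.affineOpens) (h : V.1 ≤ U.1) (t : ⋀[Γ(X, U.1)]^k Γ(E, U.1)),
      res N h (f U t) = f V (extRes E k h t)) :
    ∃ ψ : L ⟶ N, ∀ (U : X.affineOpens) (s : Γ(L, U.1)), ψ.app U.1 s = f U (D.φ' U s) := by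
  obtain ⟨ψ, hψ⟩ := Groth.Agent.Lib.helper28.HomOfAffine.exists_hom_of_affine (F := L) (G := N)
    (fun U => (f ⟨U.1, U.2⟩).toAddMonoidHom.comp (D.φ' ⟨U.1, U.2⟩).toLinearMap.toAddMonoidHom)
    (fun U V hVU s => by
      have h : V.1 ≤ U.1 := Scheme.AffineZariskiSite.toOpens_mono hVU
      change f ⟨V.1, V.2⟩ (D.φ' ⟨V.1, V.2⟩ (res L h s)) =
        res N h (f ⟨U.1, U.2⟩ (D.φ' ⟨U.1, U.2⟩ s))
      rw [res_eq D ⟨U.1, U.2⟩ ⟨V.1, V.2⟩ h s, hf ⟨U.1, U.2⟩ ⟨V.1, V.2⟩ h])
    (fun U r s => by
      change f ⟨U.1, U.2⟩ (D.φ' ⟨U.1, U.2⟩ (r • s)) = r • f ⟨U.1, U.2⟩ (D.φ' ⟨U.1, U.2⟩ s)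
      rw [_root_.map_smul, _root_.map_smul])
  exact ⟨ψ, fun U s => hψ ⟨U.1, U.2⟩ s⟩

/-- the linear map on sections induced by a morphism of modules -/
def secLin {F G : X.Modules} (φ : F ⟶ G) (U : X.Opens) : Γ(F, U) →ₗ[Γ(X, U)] Γ(G, U) where
  toFun := (φ.app U).hom
  map_add' := map_add _
  map_smul' r x := Scheme.Modules.Hom.app_smul φ r x

@[simp] lemma secLin_apply {F G : X.Modules} (φ : F ⟶ G) (U : X.Opens) (x : Γ(F, U)) :
    secLin φ U x = (φ.app U).hom x := rfl

lemma secLin_res {F G : X.Modules} (φ : F ⟶ G) {U V : X.Opens} (h : V ≤ U) (x : Γ(F, U)) :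
    secLin φ V (res F h x) = res G h (secLin φ U x) := by
  have := φ.mapPresheaf.naturality (homOfLE h).op
  exact congr($(this).hom x)

/-- naturality of the semilinear exterior power maps -/
lemma extRes_map {E E'' : X.Modules} (b : E ⟶ E'') (k : ℕ) {U V : X.Opens} (h : V ≤ U)
    (t : ⋀[Γ(X, U)]^k Γ(E, U)) :
    extRes E'' k h (exteriorPower.map k (secLin b U) t) =
      exteriorPower.map k (secLin b V) (extRes E k h t) := by
  have key : (extRes E'' k h).comp (exteriorPower.map k (secLin b U)).toAddMonoidHom =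
      (exteriorPower.map k (secLin b V)).toAddMonoidHom.comp (extRes E k h) := by
    refine extPow_addHom_ext (σ h) _ _ ?_ ?_ ?_
    · intro a x
      change extRes E'' k h (exteriorPower.map k (secLin b U) (a • x)) =
        _ • extRes E'' k h (exteriorPower.map k (secLin b U) x)
      rw [_root_.map_smul, extMap_smul]
    · intro a x
      change exteriorPower.map k (secLin b V) (extRes E k h (a • x)) =
        _ • exteriorPower.map k (secLin b V) (extRes E k h x)
      rw [extMap_smul, _root_.map_smul]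
    · intro m
      change extRes E'' k h (exteriorPower.map k (secLin b U) (exteriorPower.ιMulti _ k m)) =
        exteriorPower.map k (secLin b V) (extRes E k h (exteriorPower.ιMulti _ k m))
      rw [exteriorPower.map_apply_ιMulti, extMap_ιMulti, extMap_ιMulti,
        exteriorPower.map_apply_ιMulti]
      congr 1
      funext j
      exact (secLin_res b h (m j)).symm
  exact congr($key t)

variable {E'' L'' : X.Modules}

theorem exists_extMapHom (D : Data k E L) (D'' : Data k E'' L'') (b : E ⟶ E'') :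
    ∃ ψ : L ⟶ L'', ∀ (U : X.affineOpens) (s : Γ(L, U.1)),
      ψ.app U.1 s = (D''.φ' U).symm (exteriorPower.map k (secLin b U.1) (D.φ' U s)) := by
  refine exists_hom_of_extPow D L''
    (fun U => (D''.φ' U).symm.toLinearMap ∘ₗ exteriorPower.map k (secLin b U.1)) ?_
  intro U V h t
  change res L'' h ((D''.φ' U).symm (exteriorPower.map k (secLin b U.1) t)) =
    (D''.φ' V).symm (exteriorPower.map k (secLin b V.1) (extRes E k h t))
  rw [res_symm D'' U V h, extRes_map]

/-- functoriality of exterior powers of modules -/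
def extMapHom (D : Data k E L) (D'' : Data k E'' L'') (b : E ⟶ E'') : L ⟶ L'' :=
  (exists_extMapHom D D'' b).choose

theorem extMapHom_app (D : Data k E L) (D'' : Data k E'' L'') (b : E ⟶ E'')
    (U : X.affineOpens) (s : Γ(L, U.1)) :
    (extMapHom D D'' b).app U.1 s =
      (D''.φ' U).symm (exteriorPower.map k (secLin b U.1) (D.φ' U s)) :=
  (exists_extMapHom D D'' b).choose_spec U s

end

end Groth.Agent.Lib.Helper20.ExtSh
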