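import Groth.Agent.Lib.Helper20.ExtSh1
import Groth.Agent.Lib.Helper20.ExtFilt5
import Groth.Agent.Lib.Helper11.TensorASec2

/-!
# The wedge-product morphisms of exterior powers of `O_X`-modules (helper20)

* `extMap_Wn`: semilinear compatibility of the module-level maps `Wn`.
* `exists_hom_of_tensor`: morphisms out of a tensor product of quasi-coherent modules from
  compatible linear maps on the tensor products of sections over affine opens.
* `wedgeHom D' D Dn a h : L' ⊗ L ⟶ Ln`, `x' ⊗ y ↦ Λa(x') ∧ y`, with its formula on sections.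
* `tensorBi_map_tm`: the formula for `L' ⊗ -` applied to a morphism, on sections.
-/

set_option autoImplicit false
universe u

open CategoryTheory AlgebraicGeometry Opposite TopologicalSpace TensorProduct
open Groth.Agent.H1.ExtPowSemi Groth.Agent.H1.ExtPowTilde Groth.Agent.H1.ResBC
open Groth.Agent.Lib.helper11.TensorASec Groth.Agent.Lib.Helper20.ExtFilt

namespace Groth.Agent.Lib.Helper20.ExtSh

noncomputable section

section Algebra

variable {R S : Type u} [CommRing R] [CommRing S] (σ : R →+* S)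
variable {M'R MR M'S MS : Type u} [AddCommGroup M'R] [Module R M'R] [AddCommGroup MR] [Module R MR]
  [AddCommGroup M'S] [Module S M'S] [AddCommGroup MS] [Module S MS]
  (r' : M'R →+ M'S) (hr' : ∀ (c : R) (x : M'R), r' (c • x) = σ c • r' x)
  (r : MR →+ MS) (hr : ∀ (c : R) (x : MR), r (c • x) = σ c • r x)
  (aR : M'R →ₗ[R] MR) (aS : M'S →ₗ[S] MS) (ha : ∀ x, r (aR x) = aS (r' x))

include ha in
/-- semilinear compatibility of `Wn` -/
theorem extMap_Wn (i k n : ℕ) (h : i + k = n) (x' : ⋀[R]^i M'R) (y : ⋀[R]^k MR) :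
    extMap σ r hr n (Wn aR i k n h (x' ⊗ₜ y)) =
      Wn aS i k n h (extMap σ r' hr' i x' ⊗ₜ extMap σ r hr k y) := by
  -- first reduce to `y` decomposable
  let f₂ : ⋀[R]^k MR →+ ⋀[S]^n MS :=
    (extMap σ r hr n).comp ((Wn aR i k n h).toAddMonoidHom.comp
      ((TensorProduct.mk R (⋀[R]^i M'R) (⋀[R]^k MR) x').toAddMonoidHom))
  let g₂ : ⋀[R]^k MR →+ ⋀[S]^n MS :=
    ((Wn aS i k n h).toAddMonoidHom.comp
      ((TensorProduct.mk S (⋀[S]^i M'S) (⋀[S]^k MS) (extMap σ r' hr' i x')).toAddMonoidHom)).comp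
        (extMap σ r hr k)
  suffices hfg : f₂ = g₂ from congr($hfg y)
  refine extPow_addHom_ext σ f₂ g₂ ?_ ?_ ?_
  · intro c t
    change extMap σ r hr n (Wn aR i k n h (x' ⊗ₜ (c • t))) =
      σ c • extMap σ r hr n (Wn aR i k n h (x' ⊗ₜ t))
    rw [TensorProduct.tmul_smul, map_smul, extMap_smul]
  · intro c t
    change Wn aS i k n h (extMap σ r' hr' i x' ⊗ₜ extMap σ r hr k (c • t)) =
      σ c • Wn aS i k n h (extMap σ r' hr' i x' ⊗ₜ extMap σ r hr k t)
    rw [extMap_smul, TensorProduct.tmul_smul, map_smul]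
  · intro m
    change extMap σ r hr n (Wn aR i k n h (x' ⊗ₜ exteriorPower.ιMulti R k m)) =
      Wn aS i k n h (extMap σ r' hr' i x' ⊗ₜ extMap σ r hr k (exteriorPower.ιMulti R k m))
    -- now reduce to `x'` decomposable
    let f₁ : ⋀[R]^i M'R →+ ⋀[S]^n MS :=
      (extMap σ r hr n).comp ((Wn aR i k n h).toAddMonoidHom.comp
        ((TensorProduct.mk R (⋀[R]^i M'R) (⋀[R]^k MR)).flip
          (exteriorPower.ιMulti R k m)).toAddMonoidHom)
    let g₁ : ⋀[R]^i M'R →+ ⋀[S]^n MS :=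
      ((Wn aS i k n h).toAddMonoidHom.comp
        ((TensorProduct.mk S (⋀[S]^i M'S) (⋀[S]^k MS)).flip
          (extMap σ r hr k (exteriorPower.ιMulti R k m))).toAddMonoidHom).comp
          (extMap σ r' hr' i)
    suffices hfg : f₁ = g₁ from congr($hfg x')
    refine extPow_addHom_ext σ f₁ g₁ ?_ ?_ ?_
    · intro c t
      change extMap σ r hr n (Wn aR i k n h ((c • t) ⊗ₜ exteriorPower.ιMulti R k m)) =
        σ c • extMap σ r hr n (Wn aR i k n h (t ⊗ₜ exteriorPower.ιMulti R k m))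
      rw [← TensorProduct.smul_tmul', map_smul, extMap_smul]
    · intro c t
      change Wn aS i k n h (extMap σ r' hr' i (c • t) ⊗ₜ
          extMap σ r hr k (exteriorPower.ιMulti R k m)) =
        σ c • Wn aS i k n h (extMap σ r' hr' i t ⊗ₜ extMap σ r hr k (exteriorPower.ιMulti R k m))
      rw [extMap_smul, ← TensorProduct.smul_tmul', map_smul]
    · intro m'
      change extMap σ r hr n (Wn aR i k n h
          (exteriorPower.ιMulti R i m' ⊗ₜ exteriorPower.ιMulti R k m)) =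
        Wn aS i k n h (extMap σ r' hr' i (exteriorPower.ιMulti R i m') ⊗ₜ
          extMap σ r hr k (exteriorPower.ιMulti R k m))
      rw [Wn_ιMulti, extMap_ιMulti, extMap_ιMulti, extMap_ιMulti, Wn_ιMulti]
      congr 1
      funext j
      generalize Fin.cast h.symm j = j'
      refine Fin.addCases (fun l => ?_) (fun l => ?_) j'
      · rw [Fin.append_left, Fin.append_left, ha]
      · rw [Fin.append_right, Fin.append_right]

end Algebra

variable {X : Scheme.{u}}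

section Tensor

variable (F P N : X.Modules) [F.IsQuasicoherent] [P.IsQuasicoherent]

/-- the comparison `Γ(F, U) ⊗ Γ(P, U) ≃ Γ(F ⊗ P, U)` over an affine open -/
def cWEquiv (U : X.affineOpens) :
    Γ(F, U.1) ⊗[Γ(X, U.1)] Γ(P, U.1) ≃ₗ[Γ(X, U.1)] Γ(CohB1.tensorMod F P, U.1) :=
  LinearEquiv.ofBijective (cW F P U.1) (bijective_cW F P U.1 U.2)

lemma cWEquiv_tmul (U : X.affineOpens) (s : Γ(F, U.1)) (t : Γ(P, U.1)) :
    cWEquiv F P U (s ⊗ₜ t) = tm F P U.1 s t := rfl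

lemma res_cWEquiv (U V : X.affineOpens) (h : V.1 ≤ U.1) (τ : Γ(F, U.1) ⊗[Γ(X, U.1)] Γ(P, U.1))
    (B : Γ(F, V.1) ⊗[Γ(X, V.1)] Γ(P, V.1) →+ Γ(N, V.1))
    (B' : Γ(F, U.1) ⊗[Γ(X, U.1)] Γ(P, U.1) →+ Γ(N, V.1))
    (hB : ∀ s t, B (res F h s ⊗ₜ res P h t) = B' (s ⊗ₜ t)) :
    B ((cWEquiv F P V).symm (res (CohB1.tensorMod F P) h (cWEquiv F P U τ))) = B' τ := by
  induction τ using TensorProduct.induction_on with
  | zero => simp
  | tmul s t =>
    rw [cWEquiv_tmul]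
    have h1 : res (CohB1.tensorMod F P) h (tm F P U.1 s t) =
        cWEquiv F P V (res F h s ⊗ₜ res P h t) := tm_res F P (homOfLE h) s t
    rw [h1, LinearEquiv.symm_apply_apply, hB]
  | add x y hx hy => simp only [map_add, hx, hy]

/-- **Morphisms out of a tensor product** of quasi-coherent modules from compatible linear maps
on affine opens. -/
theorem exists_hom_of_tensor
    (B : ∀ U : X.affineOpens, Γ(F, U.1) ⊗[Γ(X, U.1)] Γ(P, U.1) →ₗ[Γ(X, U.1)] Γ(N, U.1))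
    (hB : ∀ (U V : X.affineOpens) (h : V.1 ≤ U.1) (s : Γ(F, U.1)) (t : Γ(P, U.1)),
      res N h (B U (s ⊗ₜ t)) = B V (res F h s ⊗ₜ res P h t)) :
    ∃ ψ : CohB1.tensorMod F P ⟶ N, ∀ (U : X.affineOpens) (s : Γ(F, U.1)) (t : Γ(P, U.1)),
      ψ.app U.1 (tm F P U.1 s t) = B U (s ⊗ₜ t) := by
  obtain ⟨ψ, hψ⟩ := Groth.Agent.Lib.helper28.HomOfAffine.exists_hom_of_affine
    (F := CohB1.tensorMod F P) (G := N)
    (fun U => (B ⟨U.1, U.2⟩).toAddMonoidHom.comp
      (cWEquiv F P ⟨U.1, U.2⟩).symm.toLinearMap.toAddMonoidHom)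
    (fun U V hVU s => by
      have h : V.1 ≤ U.1 := Scheme.AffineZariskiSite.toOpens_mono hVU
      change B ⟨V.1, V.2⟩ ((cWEquiv F P ⟨V.1, V.2⟩).symm (res (CohB1.tensorMod F P) h s)) =
        res N h (B ⟨U.1, U.2⟩ ((cWEquiv F P ⟨U.1, U.2⟩).symm s))
      obtain ⟨τ, rfl⟩ := (cWEquiv F P ⟨U.1, U.2⟩).surjective s
      rw [LinearEquiv.symm_apply_apply]
      exact res_cWEquiv F P N ⟨U.1, U.2⟩ ⟨V.1, V.2⟩ h τ (B ⟨V.1, V.2⟩).toAddMonoidHom
        ((res N h).comp (B ⟨U.1, U.2⟩).toAddMonoidHom)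
        (fun s t => (hB ⟨U.1, U.2⟩ ⟨V.1, V.2⟩ h s t).symm))
    (fun U r s => by
      change B ⟨U.1, U.2⟩ ((cWEquiv F P ⟨U.1, U.2⟩).symm (r • s)) =
        r • B ⟨U.1, U.2⟩ ((cWEquiv F P ⟨U.1, U.2⟩).symm s)
      rw [_root_.map_smul, _root_.map_smul])
  refine ⟨ψ, fun U s t => ?_⟩
  have := hψ ⟨U.1, U.2⟩ (tm F P U.1 s t)
  rw [this]
  change B U ((cWEquiv F P U).symm (cWEquiv F P U (s ⊗ₜ t))) = _
  rw [LinearEquiv.symm_apply_apply]

end Tensor

section Wedge

variable {i k n : ℕ} {E' E L' L Ln : X.Modules} [L'.IsQuasicoherent] [L.IsQuasicoherent]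
  (D' : Data i E' L') (D : Data k E L) (Dn : Data n E Ln) (a : E' ⟶ E) (h : i + k = n)

/-- the module-level wedge map on sections over an affine open -/
def wedgeLin (U : X.affineOpens) :
    Γ(L', U.1) ⊗[Γ(X, U.1)] Γ(L, U.1) →ₗ[Γ(X, U.1)] Γ(Ln, U.1) :=
  (Dn.φ' U).symm.toLinearMap ∘ₗ Wn (secLin a U.1) i k n h ∘ₗ
    TensorProduct.map (D'.φ' U).toLinearMap (D.φ' U).toLinearMap

lemma wedgeLin_tmul (U : X.affineOpens) (s : Γ(L', U.1)) (t : Γ(L, U.1)) :
    wedgeLin D' D Dn a h U (s ⊗ₜ t) =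
      (Dn.φ' U).symm (Wn (secLin a U.1) i k n h (D'.φ' U s ⊗ₜ D.φ' U t)) := rfl

theorem exists_wedgeHom :
    ∃ ψ : CohB1.tensorMod L' L ⟶ Ln, ∀ (U : X.affineOpens) (s : Γ(L', U.1)) (t : Γ(L, U.1)),
      ψ.app U.1 (tm L' L U.1 s t) = wedgeLin D' D Dn a h U (s ⊗ₜ t) := by
  refine exists_hom_of_tensor L' L Ln (wedgeLin D' D Dn a h) ?_
  intro U V hVU s t
  rw [wedgeLin_tmul, wedgeLin_tmul, res_symm Dn U V hVU, res_eq D' U V hVU, res_eq D U V hVU]
  congr 1
  exact extMap_Wn (σ hVU) (res E' hVU) (res_smul E' hVU) (res E hVU) (res_smul E hVU)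
    (secLin a U.1) (secLin a V.1) (fun x => (secLin_res a hVU x).symm) i k n h _ _

/-- the wedge-product morphism `L' ⊗ L ⟶ Ln`, `x' ⊗ y ↦ Λa(x') ∧ y` -/
def wedgeHom : CohB1.tensorMod L' L ⟶ Ln := (exists_wedgeHom D' D Dn a h).choose

theorem wedgeHom_app (U : X.affineOpens) (s : Γ(L', U.1)) (t : Γ(L, U.1)) :
    (wedgeHom D' D Dn a h).app U.1 (tm L' L U.1 s t) = wedgeLin D' D Dn a h U (s ⊗ₜ t) :=
  (exists_wedgeHom D' D Dn a h).choose_spec U s t

end Wedge

/-- the formula for `F ⊗ -` applied to a morphism, on sections -/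
theorem tensorBi_map_tm (F : X.Modules) {P P' : X.Modules} (g : P ⟶ P') (U : X.Opens)
    (s : Γ(F, U)) (t : Γ(P, U)) :
    (((DCoh.tensorBi (X := X)).obj F).map g).app U (tm F P U s t) =
      tm F P' U s (g.app U t) := by
  change ((((CohB1.sheafifyMod X).map
    (MonoidalCategory.whiskerLeft (CohB1.toPMod F) ((DCoh.toP (X := X)).map g))).val.app
      (op U)).hom (((Groth.Agent.Lib.helper12.TensorRestrict.toSheafify
        (CohB1.tensorPre F P : X.PresheafOfModules)).app (op U)).hom (s ⊗ₜ t))) = _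
  erw [Groth.Agent.Lib.helper12.TensorSec.sheafifyMap_toSheafify_apply]
  rfl

end

end Groth.Agent.Lib.Helper20.ExtSh
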