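import Groth.Agent.Lib.Helper7.KerSections
import Groth.Agent.Lib.Helper16.QCohEpi
import Groth.Agent.Lib.Helper7.CohKer
import Groth.Agent.Lib.Helper28.HomOfAffine

/-!
# One step of a filtration by images, for quasi-coherent modules (helper20)

`exists_shortExact_step`: for morphisms `w : A ⟶ L`, `w⁺ : A⁺ ⟶ L` and an epimorphism `p : A ⟶ B` of
quasi-coherent modules such that over every affine open `im w⁺ ⊆ im w` and
`w α ∈ im w⁺ ↔ p α = 0`, there is a short exact sequence `0 → B → coker w⁺ → coker w → 0`.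
-/

set_option autoImplicit false
universe u

open CategoryTheory CategoryTheory.Limits AlgebraicGeometry Opposite TopologicalSpace

namespace Groth.Agent.Lib.Helper20.ExtSh

variable {X : Scheme.{u}}

/-- sections over an affine open killed by the cokernel projection come from the source -/
theorem exists_preimage_of_cokernel_π_eq_zero {A L : X.Modules} [A.IsQuasicoherent]
    [L.IsQuasicoherent] (f : A ⟶ L) {U : X.Opens} (hU : IsAffineOpen U) (l : Γ(L, U))
    (hl : ((cokernel.π f).app U).hom l = 0) : ∃ s : Γ(A, U), (f.app U).hom s = l := by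
  haveI : (cokernel f).IsQuasicoherent := Groth.Agent.Lib.helper7.CohKer.isQuasicoherent_cokernel f
  haveI : (kernel (cokernel.π f)).IsQuasicoherent :=
    Groth.Agent.Lib.helper7.CohKer.isQuasicoherent_kernel (cokernel.π f)
  haveI : (Abelian.image f).IsQuasicoherent :=
    inferInstanceAs (kernel (cokernel.π f)).IsQuasicoherent
  obtain ⟨κ, hκ⟩ := Groth.Agent.Lib.helper7.KerSections.exists_kernel_section (cokernel.π f) U l hl
  obtain ⟨s, hs⟩ := Groth.Agent.Lib.helper16.QCohEpi.surjective_app_of_epi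
    (Abelian.factorThruImage f) hU κ
  refine ⟨s, ?_⟩
  have h1 : Abelian.factorThruImage f ≫ kernel.ι (cokernel.π f) = f := Abelian.image.fac f
  have h2 := congrArg (fun ψ => (Scheme.Modules.Hom.app ψ U).hom s) h1
  simp only [Scheme.Modules.Hom.comp_app] at h2
  rw [← h2, ← hκ, ← hs]
  rfl

section Step

variable {A Ap B L : X.Modules} [A.IsQuasicoherent] [Ap.IsQuasicoherent] [B.IsQuasicoherent]
  [L.IsQuasicoherent] (w : A ⟶ L) (wp : Ap ⟶ L) (p : A ⟶ B) [Epi p]
  (ha : ∀ (U : X.Opens), IsAffineOpen U → ∀ α : Γ(A, U),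
    (∃ γ : Γ(Ap, U), (wp.app U).hom γ = (w.app U).hom α) ↔ (p.app U).hom α = 0)
  (hb : ∀ (U : X.Opens), IsAffineOpen U → ∀ γ : Γ(Ap, U),
    ∃ α : Γ(A, U), (w.app U).hom α = (wp.app U).hom γ)

include hb in
lemma step_V1 : wp ≫ cokernel.π w = 0 := by
  refine Groth.Agent.Lib.helper28.HomOfAffine.hom_ext_of_affine _ _ (fun U γ => ?_)
  obtain ⟨α, hα⟩ := hb U.1 U.2 γ
  have h1 := congrArg (fun ψ => (Scheme.Modules.Hom.app ψ U.1).hom α) (cokernel.condition w)
  simp only [Scheme.Modules.Hom.comp_app] at h1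
  change ((cokernel.π w).app U.1).hom ((wp.app U.1).hom γ) = 0
  rw [← hα]
  exact h1

include ha in
lemma step_V2 : kernel.ι p ≫ w ≫ cokernel.π wp = 0 := by
  refine Groth.Agent.Lib.helper28.HomOfAffine.hom_ext_of_affine _ _ (fun U κ => ?_)
  have h0 := Groth.Agent.Lib.helper7.KerSections.kernel_ι_app_comp p U.1 κ
  obtain ⟨γ, hγ⟩ := (ha U.1 U.2 _).mpr h0
  have h1 := congrArg (fun ψ => (Scheme.Modules.Hom.app ψ U.1).hom γ) (cokernel.condition wp)
  simp only [Scheme.Modules.Hom.comp_app] at h1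
  change ((cokernel.π wp).app U.1).hom ((w.app U.1).hom (((kernel.ι p).app U.1).hom κ)) = 0
  rw [← hγ]
  exact h1

/-- the map `coker w⁺ ⟶ coker w` -/
noncomputable def stepQ : cokernel wp ⟶ cokernel w :=
  cokernel.desc wp (cokernel.π w) (step_V1 w wp hb)

/-- the map `B ⟶ coker w⁺` -/
noncomputable def stepθ : B ⟶ cokernel wp :=
  Abelian.epiDesc p (w ≫ cokernel.π wp) (step_V2 w wp p ha)

lemma π_stepQ : cokernel.π wp ≫ stepQ w wp hb = cokernel.π w := cokernel.π_desc _ _ _

lemma p_stepθ : p ≫ stepθ w wp p ha = w ≫ cokernel.π wp := Abelian.comp_epiDesc _ _ _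

lemma stepθ_stepQ : stepθ w wp p ha ≫ stepQ w wp hb = 0 := by
  rw [← cancel_epi p, ← Category.assoc, p_stepθ, Category.assoc, π_stepQ, cokernel.condition,
    comp_zero]

lemma p_stepθ_app (U : X.Opens) (α : Γ(A, U)) :
    ((stepθ w wp p ha).app U).hom ((p.app U).hom α) =
      ((cokernel.π wp).app U).hom ((w.app U).hom α) := by
  have h1 := congrArg (fun ψ => (Scheme.Modules.Hom.app ψ U).hom α) (p_stepθ w wp p ha)
  simp only [Scheme.Modules.Hom.comp_app] at h1
  exact h1

lemma π_stepQ_app (U : X.Opens) (l : Γ(L, U)) :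
    ((stepQ w wp hb).app U).hom (((cokernel.π wp).app U).hom l) =
      ((cokernel.π w).app U).hom l := by
  have h1 := congrArg (fun ψ => (Scheme.Modules.Hom.app ψ U).hom l) (π_stepQ w wp hb)
  simp only [Scheme.Modules.Hom.comp_app] at h1
  exact h1

/-- **One step of the filtration**: `0 → B → coker w⁺ → coker w → 0` is short exact. -/
theorem shortExact_step :
    (ShortComplex.mk (stepθ w wp p ha) (stepQ w wp hb) (stepθ_stepQ w wp p ha hb)).ShortExact := by
  haveI : (cokernel wp).IsQuasicoherent :=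
    Groth.Agent.Lib.helper7.CohKer.isQuasicoherent_cokernel wp
  haveI : (cokernel w).IsQuasicoherent :=
    Groth.Agent.Lib.helper7.CohKer.isQuasicoherent_cokernel w
  haveI : (kernel (stepQ w wp hb)).IsQuasicoherent :=
    Groth.Agent.Lib.helper7.CohKer.isQuasicoherent_kernel _
  -- injectivity of θ on affine sections
  have hmono : Mono (stepθ w wp p ha) := by
    refine Groth.Agent.Lib.helper7.KerSections.mono_of_injective_affine _ (fun U hU => ?_)
    refine (injective_iff_map_eq_zero ((stepθ w wp p ha).app U).hom).mpr (fun β hβ => ?_)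
    obtain ⟨α, rfl⟩ := Groth.Agent.Lib.helper16.QCohEpi.surjective_app_of_epi p hU β
    rw [p_stepθ_app] at hβ
    obtain ⟨γ, hγ⟩ := exists_preimage_of_cokernel_π_eq_zero wp hU _ hβ
    exact (ha U hU α).mp ⟨γ, hγ⟩
  have hepi : Epi (stepQ w wp hb) := by
    have : Epi (cokernel.π wp ≫ stepQ w wp hb) := by
      rw [π_stepQ]; infer_instance
    exact epi_of_epi (cokernel.π wp) _
  have hex : (ShortComplex.mk (stepθ w wp p ha) (stepQ w wp hb)
      (stepθ_stepQ w wp p ha hb)).Exact := by
    rw [ShortComplex.exact_iff_epi_kernel_lift]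
    refine Groth.Agent.Lib.helper7.KerSections.epi_of_surjective_affine _ (fun U hU κ => ?_)
    -- the section of `coker w⁺` underlying `κ`
    let y := ((kernel.ι (stepQ w wp hb)).app U).hom κ
    have hy : ((stepQ w wp hb).app U).hom y = 0 :=
      Groth.Agent.Lib.helper7.KerSections.kernel_ι_app_comp _ U κ
    obtain ⟨l, hl⟩ := Groth.Agent.Lib.helper16.QCohEpi.surjective_app_of_epi (cokernel.π wp) hU y
    rw [← hl, π_stepQ_app] at hy
    obtain ⟨α, hα⟩ := exists_preimage_of_cokernel_π_eq_zero w hU l hy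
    refine ⟨(p.app U).hom α, ?_⟩
    apply Groth.Agent.Lib.helper7.KerSections.kernel_ι_app_injective (stepQ w wp hb) U
    have h1 := congrArg (fun ψ => (Scheme.Modules.Hom.app ψ U).hom ((p.app U).hom α))
      (kernel.lift_ι (stepQ w wp hb) (stepθ w wp p ha) (stepθ_stepQ w wp p ha hb))
    simp only [Scheme.Modules.Hom.comp_app] at h1
    refine h1.trans ?_
    rw [p_stepθ_app, hα, hl]
  exact { exact := hex, mono_f := hmono, epi_g := hepi }

end Step

end Groth.Agent.Lib.Helper20.ExtSh
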