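import Groth.Agent.Lib.Helper20.ExtSh2
import Groth.Agent.Lib.Helper20.ExtSh3
import Groth.Agent.Lib.Helper21.RelFPSch2
import Groth.Agent.Lib.Helper16.FLF8

/-!
# The filtration of `Λ^n E` for a short exact sequence of vector bundles: the local analysis
(helper20)

For a short exact sequence `0 → E' → E → E'' → 0` of finite locally free modules with exterior
powers `L'_i`, `L_k`, `L''_k`, `L_n`:

* `ρ D' D U : ⋀^i E'(U) ⊗ ⋀^k E(U) ≃ Γ(L'_i ⊗ L_k, U)`, `wedgeHom_ρ`, `tensorMap_ρ`;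
* `exists_section`: the sequence of sections over an affine open is split exact;
* `pair_a`, `pair_b`, `top_a`: the hypotheses of `shortExact_step` for consecutive steps;
* `wedgeHom_zero_surjective`.
-/

set_option autoImplicit false
universe u

open CategoryTheory CategoryTheory.Limits AlgebraicGeometry Opposite TopologicalSpace TensorProduct
open Groth.Agent.H1.ExtPowSemi Groth.Agent.H1.ExtPowTilde Groth.Agent.H1.ResBC
open Groth.Agent.Lib.helper11.TensorASec Groth.Agent.Lib.Helper20.ExtFilt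

namespace Groth.Agent.Lib.Helper20.ExtSh

noncomputable section

variable {X : Scheme.{u}}

/-- `F ⊗ -` applied to a morphism, typed on `CohB1.tensorMod` -/
abbrev tMap (F : X.Modules) {P P' : X.Modules} (g : P ⟶ P') :
    CohB1.tensorMod F P ⟶ CohB1.tensorMod F P' :=
  ((DCoh.tensorBi (X := X)).obj F).map g

section Rho

variable {i k n : ℕ} {E' E E'' L' L L'' Ln : X.Modules} [L'.IsQuasicoherent] [L.IsQuasicoherent]
  [L''.IsQuasicoherent]
  (D' : Data i E' L') (D : Data k E L) (D'' : Data k E'' L'') (Dn : Data n E Ln)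
  (a : E' ⟶ E) (b : E ⟶ E'') (h : i + k = n)

/-- the identification of sections of `L' ⊗ L` over an affine open -/
def ρ (U : X.affineOpens) :
    (⋀[Γ(X, U.1)]^i Γ(E', U.1)) ⊗[Γ(X, U.1)] (⋀[Γ(X, U.1)]^k Γ(E, U.1)) ≃ₗ[Γ(X, U.1)]
      Γ(CohB1.tensorMod L' L, U.1) :=
  (TensorProduct.congr (D'.φ' U).symm (D.φ' U).symm).trans (cWEquiv L' L U)

lemma ρ_tmul (U : X.affineOpens) (x' : ⋀[Γ(X, U.1)]^i Γ(E', U.1))
    (y : ⋀[Γ(X, U.1)]^k Γ(E, U.1)) :
    ρ D' D U (x' ⊗ₜ y) = tm L' L U.1 ((D'.φ' U).symm x') ((D.φ' U).symm y) := rfl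

theorem wedgeHom_ρ (U : X.affineOpens)
    (τ : (⋀[Γ(X, U.1)]^i Γ(E', U.1)) ⊗[Γ(X, U.1)] (⋀[Γ(X, U.1)]^k Γ(E, U.1))) :
    ((wedgeHom D' D Dn a h).app U.1).hom (ρ D' D U τ) =
      (Dn.φ' U).symm (Wn (secLin a U.1) i k n h τ) := by
  induction τ using TensorProduct.induction_on with
  | zero => simp
  | tmul x' y =>
    rw [ρ_tmul]
    refine (wedgeHom_app D' D Dn a h U _ _).trans ?_
    rw [wedgeLin_tmul, LinearEquiv.apply_symm_apply, LinearEquiv.apply_symm_apply]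
  | add x y hx hy => simp only [map_add, hx, hy]

theorem tensorMap_ρ (U : X.affineOpens)
    (τ : (⋀[Γ(X, U.1)]^i Γ(E', U.1)) ⊗[Γ(X, U.1)] (⋀[Γ(X, U.1)]^k Γ(E, U.1))) :
    ((tMap L' (extMapHom D D'' b)).app U.1).hom (ρ D' D U τ) =
      ρ D' D'' U (P (secLin b U.1) i k τ) := by
  induction τ using TensorProduct.induction_on with
  | zero => simp only [map_zero]
  | tmul x' y =>
    rw [ρ_tmul, P_tmul, ρ_tmul]
    refine (tensorBi_map_tm L' (extMapHom D D'' b) U.1 _ _).trans ?_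
    congr 1
    refine (extMapHom_app D D'' b U _).trans ?_
    rw [LinearEquiv.apply_symm_apply]
  | add x y hx hy => simp only [map_add, hx, hy]

end Rho

section Split

variable (S : ShortComplex X.Modules) (hS : S.ShortExact) (h₃ : FlatMod.IsFinLocFree S.X₃)
  [S.X₁.IsQuasicoherent]

include hS h₃ in
/-- the sections of a short exact sequence of vector bundles over an affine open split -/
theorem exists_section (U : X.affineOpens) :
    ∃ s : Γ(S.X₃, U.1) →ₗ[Γ(X, U.1)] Γ(S.X₂, U.1),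
      secLin S.g U.1 ∘ₗ s = LinearMap.id ∧ secLin S.g U.1 ∘ₗ secLin S.f U.1 = 0 ∧
      Function.Injective (secLin S.f U.1) ∧
      ∀ m, m - s (secLin S.g U.1 m) ∈ LinearMap.range (secLin S.f U.1) := by
  obtain ⟨hinj, hsurj, hex⟩ := Groth.Agent.Lib.helper21.RelFPSch.sections_exact S hS U.2
  haveI := (Groth.Agent.Lib.helper16.FLF.projective_sections_of_isFinLocFree S.X₃ h₃ U.2).2
  have hsurj' : Function.Surjective (secLin S.g U.1) := hsurj
  obtain ⟨s, hs⟩ := Module.projective_lifting_property (secLin S.g U.1) LinearMap.id hsurj'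
  refine ⟨s, hs, ?_, hinj, ?_⟩
  · ext x
    have h1 := congrArg (fun ψ => (Scheme.Modules.Hom.app ψ U.1).hom x) S.zero
    simp only [Scheme.Modules.Hom.comp_app] at h1
    exact h1
  · intro m
    have h1 : secLin S.g U.1 (m - s (secLin S.g U.1 m)) = 0 := by
      rw [map_sub]
      have := congr($hs (secLin S.g U.1 m))
      simp only [LinearMap.comp_apply, LinearMap.id_apply] at this
      rw [this, sub_self]
    obtain ⟨x, hx⟩ := (hex _).mp h1
    exact ⟨x, hx⟩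

end Split

section Pair

variable (S : ShortComplex X.Modules) (hS : S.ShortExact)
  (h₁ : FlatMod.IsFinLocFree S.X₁) (h₃ : FlatMod.IsFinLocFree S.X₃)
variable {i k₁ k₀ n : ℕ} {L'i L'i1 Lk1 Lk0 L''k1 Ln : X.Modules}
  [L'i.IsQuasicoherent] [L'i1.IsQuasicoherent] [Lk1.IsQuasicoherent] [Lk0.IsQuasicoherent]
  [L''k1.IsQuasicoherent]
  (D'i : Data i S.X₁ L'i) (D'i1 : Data (i + 1) S.X₁ L'i1) (Dk1 : Data k₁ S.X₂ Lk1)
  (Dk0 : Data k₀ S.X₂ Lk0) (D''k1 : Data k₁ S.X₃ L''k1) (Dn : Data n S.X₂ Ln)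
  (h : i + k₁ = n) (h' : i + 1 + k₀ = n)

include hS h₁ h₃ in
/-- hypothesis (a) of `shortExact_step` for two consecutive steps of the filtration -/
theorem pair_a (U : X.Opens) (hU : IsAffineOpen U) (α : Γ(CohB1.tensorMod L'i Lk1, U)) :
    (∃ γ : Γ(CohB1.tensorMod L'i1 Lk0, U),
        ((wedgeHom D'i1 Dk0 Dn S.f h').app U).hom γ = ((wedgeHom D'i Dk1 Dn S.f h).app U).hom α) ↔
      ((tMap L'i (extMapHom Dk1 D''k1 S.g)).app U).hom α = 0 := by
  obtain rfl : k₁ = k₀ + 1 := by omega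
  haveI := Groth.Agent.Lib.helper16.FLF.isQuasicoherent_of_isFinLocFree S.X₁ h₁
  let V : X.affineOpens := ⟨U, hU⟩
  obtain ⟨s, hbs, hba, hinj, hex⟩ := exists_section S hS h₃ V
  haveI := (Groth.Agent.Lib.helper16.FLF.projective_sections_of_isFinLocFree S.X₁ h₁ hU).1
  haveI := (Groth.Agent.Lib.helper16.FLF.projective_sections_of_isFinLocFree S.X₁ h₁ hU).2
  haveI := (Groth.Agent.Lib.helper16.FLF.projective_sections_of_isFinLocFree S.X₃ h₃ hU).1
  haveI := (Groth.Agent.Lib.helper16.FLF.projective_sections_of_isFinLocFree S.X₃ h₃ hU).2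
  obtain ⟨τ, rfl⟩ := (ρ D'i Dk1 V).surjective α
  have key := Wn_mem_range_succ_iff (secLin S.f U) (secLin S.g U) s hbs hba hinj hex i k₀ n h h' τ
  rw [tensorMap_ρ D'i Dk1 D''k1 S.g V τ, wedgeHom_ρ D'i Dk1 Dn S.f h V τ,
    LinearEquiv.map_eq_zero_iff, ← key]
  constructor
  · rintro ⟨γ, hγ⟩
    obtain ⟨γ₀, rfl⟩ := (ρ D'i1 Dk0 V).surjective γ
    rw [wedgeHom_ρ D'i1 Dk0 Dn S.f h' V γ₀] at hγ
    exact ⟨γ₀, (Dn.φ' V).symm.injective hγ⟩
  · rintro ⟨γ₀, hγ₀⟩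
    refine ⟨ρ D'i1 Dk0 V γ₀, ?_⟩
    rw [wedgeHom_ρ D'i1 Dk0 Dn S.f h' V γ₀, hγ₀]

/-- hypothesis (b) of `shortExact_step` for two consecutive steps of the filtration -/
theorem pair_b (U : X.Opens) (hU : IsAffineOpen U) (γ : Γ(CohB1.tensorMod L'i1 Lk0, U)) :
    ∃ α : Γ(CohB1.tensorMod L'i Lk1, U),
      ((wedgeHom D'i Dk1 Dn S.f h).app U).hom α = ((wedgeHom D'i1 Dk0 Dn S.f h').app U).hom γ := by
  obtain rfl : k₁ = k₀ + 1 := by omega
  let V : X.affineOpens := ⟨U, hU⟩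
  obtain ⟨γ₀, rfl⟩ := (ρ D'i1 Dk0 V).surjective γ
  obtain ⟨τ, hτ⟩ := range_Wn_succ_le (secLin S.f U) i k₀ n h h' ⟨γ₀, rfl⟩
  refine ⟨ρ D'i Dk1 V τ, ?_⟩
  rw [wedgeHom_ρ D'i Dk1 Dn S.f h V τ, wedgeHom_ρ D'i1 Dk0 Dn S.f h' V γ₀, hτ]

end Pair

section Top

variable (S : ShortComplex X.Modules) (hS : S.ShortExact)
  (h₁ : FlatMod.IsFinLocFree S.X₁) (h₃ : FlatMod.IsFinLocFree S.X₃)
variable {k₁ n : ℕ} {L'n Lk1 L''k1 Ln : X.Modules}
  [L'n.IsQuasicoherent] [Lk1.IsQuasicoherent] [L''k1.IsQuasicoherent]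
  (D'n : Data n S.X₁ L'n) (Dk1 : Data k₁ S.X₂ Lk1) (D''k1 : Data k₁ S.X₃ L''k1)
  (Dn : Data n S.X₂ Ln) (h : n + k₁ = n)

include hS h₁ h₃ in
/-- the top step of the filtration -/
theorem top_a (U : X.Opens) (hU : IsAffineOpen U) (α : Γ(CohB1.tensorMod L'n Lk1, U)) :
    ((wedgeHom D'n Dk1 Dn S.f h).app U).hom α = 0 ↔
      ((tMap L'n (extMapHom Dk1 D''k1 S.g)).app U).hom α = 0 := by
  obtain rfl : k₁ = 0 := by omega
  haveI := Groth.Agent.Lib.helper16.FLF.isQuasicoherent_of_isFinLocFree S.X₁ h₁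
  let V : X.affineOpens := ⟨U, hU⟩
  obtain ⟨s, hbs, hba, hinj, hex⟩ := exists_section S hS h₃ V
  haveI := (Groth.Agent.Lib.helper16.FLF.projective_sections_of_isFinLocFree S.X₁ h₁ hU).1
  haveI := (Groth.Agent.Lib.helper16.FLF.projective_sections_of_isFinLocFree S.X₁ h₁ hU).2
  haveI := (Groth.Agent.Lib.helper16.FLF.projective_sections_of_isFinLocFree S.X₃ h₃ hU).1
  haveI := (Groth.Agent.Lib.helper16.FLF.projective_sections_of_isFinLocFree S.X₃ h₃ hU).2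
  obtain ⟨τ, rfl⟩ := (ρ D'n Dk1 V).surjective α
  have key := Wn_eq_zero_iff (secLin S.f U) (secLin S.g U) s hbs hba hinj hex n n h τ
  rw [tensorMap_ρ D'n Dk1 D''k1 S.g V τ, wedgeHom_ρ D'n Dk1 Dn S.f h V τ,
    LinearEquiv.map_eq_zero_iff, LinearEquiv.map_eq_zero_iff, key]

end Top

section Bottom

variable {E' E L'0 Lk1 Ln : X.Modules} {k₁ n : ℕ} [L'0.IsQuasicoherent] [Lk1.IsQuasicoherent]
  (D'0 : Data 0 E' L'0) (Dk1 : Data k₁ E Lk1) (Dn : Data n E Ln) (a : E' ⟶ E) (h : 0 + k₁ = n)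

/-- the bottom wedge map is surjective on sections over affine opens -/
theorem wedgeHom_zero_surjective (U : X.Opens) (hU : IsAffineOpen U) :
    Function.Surjective ((wedgeHom D'0 Dk1 Dn a h).app U).hom := by
  obtain rfl : k₁ = n := by omega
  intro l
  let V : X.affineOpens := ⟨U, hU⟩
  obtain ⟨τ, hτ⟩ := Wn_zero_surjective (secLin a U) k₁ h (Dn.φ' V l)
  refine ⟨ρ D'0 Dk1 V τ, ?_⟩
  rw [wedgeHom_ρ D'0 Dk1 Dn a h V τ, hτ, LinearEquiv.symm_apply_apply]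

/-- `tMap` of `extMapHom` of a morphism surjective on sections is surjective on sections -/
theorem tMap_surjective {E'' L'' : X.Modules} [L''.IsQuasicoherent] {i : ℕ} {L'i : X.Modules}
    [L'i.IsQuasicoherent] (D'i : Data i E' L'i) (D''k1 : Data k₁ E'' L'') (b : E ⟶ E'')
    (U : X.Opens) (hU : IsAffineOpen U) (hb : Function.Surjective (secLin b U)) :
    Function.Surjective ((tMap L'i (extMapHom Dk1 D''k1 b)).app U).hom := by
  intro β
  let V : X.affineOpens := ⟨U, hU⟩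
  obtain ⟨τ'', rfl⟩ := (ρ D'i D''k1 V).surjective β
  obtain ⟨τ, rfl⟩ := P_surjective (M' := Γ(E', U)) (secLin b U) hb i k₁ τ''
  exact ⟨ρ D'i Dk1 V τ, tensorMap_ρ D'i Dk1 D''k1 b V τ⟩

end Bottom

end

end Groth.Agent.Lib.Helper20.ExtSh
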