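import Groth.Agent.Lib.Helper20.ExtSh4
import Groth.Agent.Lib.Helper16.FLFTensor
import Groth.Agent.Lib.Helper8.DevK0b
import Groth.Agent.Lib.Helper7.QCohExt

/-!
# The class of `Λ^n E` for a short exact sequence of vector bundles (helper20)

* `vb_ext'`: an extension of finite locally free modules is finite locally free (any scheme).
* `isFinLocFree_of_isZero`.
* `cl_extPow_eq_sum`: for a short exact sequence `0 → E' → E → E'' → 0` of finite locally free
  modules with finite locally free exterior powers, `[Λ^n E] = Σ_i [Λ^i E' ⊗ Λ^{n-i} E'']` in `K₀`.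
-/

set_option autoImplicit false
universe u

open CategoryTheory CategoryTheory.Limits AlgebraicGeometry Opposite TopologicalSpace TensorProduct
open Groth.Agent.Lib.helper11.TensorASec Groth.Agent.Lib.Helper20.ExtFilt

namespace Groth.Agent.Lib.Helper20.ExtSh

noncomputable section

variable {X : Scheme.{u}}

/-- finite locally free modules, as an object property -/
abbrev vb (X : Scheme.{u}) : ObjectProperty X.Modules := fun M => FlatMod.IsFinLocFree M

theorem isFinLocFree_of_isZero {Z : X.Modules} (hZ : IsZero Z) : FlatMod.IsFinLocFree Z := by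
  haveI := Groth.Agent.Lib.helper7.CohKer.isQuasicoherent_of_isZero hZ
  refine (Groth.Agent.Lib.helper16.FLF.isFinLocFree_iff_projective_sections Z).mpr (fun U => ?_)
  have h0 : IsZero Γ(Z, U.1) := by
    rw [IsZero.iff_id_eq_zero, ← Scheme.Modules.Hom.id_app, hZ.eq_of_src (𝟙 Z) 0,
      Scheme.Modules.Hom.zero_app]
  haveI : Subsingleton Γ(Z, U.1) := AddCommGrpCat.subsingleton_of_isZero h0
  exact ⟨inferInstance, inferInstance⟩

/-- an extension of finite locally free modules is finite locally free -/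
theorem vb_ext' (S : ShortComplex X.Modules) (hS : S.ShortExact)
    (h1 : FlatMod.IsFinLocFree S.X₁) (h3 : FlatMod.IsFinLocFree S.X₃) :
    FlatMod.IsFinLocFree S.X₂ := by
  haveI := Groth.Agent.Lib.helper16.FLF.isQuasicoherent_of_isFinLocFree S.X₁ h1
  haveI := Groth.Agent.Lib.helper16.FLF.isQuasicoherent_of_isFinLocFree S.X₃ h3
  haveI : S.X₂.IsQuasicoherent := Groth.Agent.Lib.helper7.QCohExt.isQuasicoherent_of_extension S hS
  refine (Groth.Agent.Lib.helper16.FLF.isFinLocFree_iff_projective_sections S.X₂).mpr (fun U => ?_)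
  obtain ⟨s, hbs, hba, hinj, hex⟩ := exists_section S hS h3 U
  have hbij := bijective_coprod (secLin S.f U.1) (secLin S.g U.1) s hbs hba hinj hex
  let e : (Γ(S.X₁, U.1) × Γ(S.X₃, U.1)) ≃ₗ[Γ(X, U.1)] Γ(S.X₂, U.1) :=
    LinearEquiv.ofBijective _ hbij
  haveI := (Groth.Agent.Lib.helper16.FLF.projective_sections_of_isFinLocFree S.X₁ h1 U.2).1
  haveI := (Groth.Agent.Lib.helper16.FLF.projective_sections_of_isFinLocFree S.X₁ h1 U.2).2
  haveI := (Groth.Agent.Lib.helper16.FLF.projective_sections_of_isFinLocFree S.X₃ h3 U.2).1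
  haveI := (Groth.Agent.Lib.helper16.FLF.projective_sections_of_isFinLocFree S.X₃ h3 U.2).2
  exact ⟨Module.Finite.equiv e, Module.Projective.of_equiv e⟩

section Main

variable (S : ShortComplex X.Modules) (hS : S.ShortExact)
  (h₁ : FlatMod.IsFinLocFree S.X₁) (h₃ : FlatMod.IsFinLocFree S.X₃)
  (L' L L'' : ℕ → X.Modules)
  (hL' : ∀ i, FlatMod.IsFinLocFree (L' i)) (hL : ∀ i, FlatMod.IsFinLocFree (L i))
  (hL'' : ∀ i, FlatMod.IsFinLocFree (L'' i))
  (D' : ∀ i, Data i S.X₁ (L' i)) (D : ∀ i, Data i S.X₂ (L i)) (D'' : ∀ i, Data i S.X₃ (L'' i))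
  (n : ℕ)

include hS h₁ h₃ hL' hL hL'' D' D D'' in
theorem cl_cokernel_wedge [∀ i, (L' i).IsQuasicoherent] [∀ i, (L i).IsQuasicoherent]
    [∀ i, (L'' i).IsQuasicoherent] (i : ℕ) (hi : i ≤ n) :
    FlatMod.IsFinLocFree (cokernel (wedgeHom (D' i) (D (n - i)) (D n) S.f
      (Nat.add_sub_cancel' hi))) ∧
    KZero.clSub (vb X) (cokernel (wedgeHom (D' i) (D (n - i)) (D n) S.f
      (Nat.add_sub_cancel' hi))) =
      ∑ j ∈ Finset.range i, KZero.clSub (vb X) (CohB1.tensorMod (L' j) (L'' (n - j))) := by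
  haveI := Groth.Agent.Lib.helper16.FLF.isQuasicoherent_of_isFinLocFree S.X₁ h₁
  haveI : ∀ a b, (CohB1.tensorMod (L' a) (L b)).IsQuasicoherent := fun a b =>
    Groth.Agent.Lib.helper16.FLF.isQuasicoherent_of_isFinLocFree _
      (Groth.Agent.Lib.helper16.FLFTensor.isFinLocFree_tensor (hL' a) (hL b))
  haveI : ∀ a b, (CohB1.tensorMod (L' a) (L'' b)).IsQuasicoherent := fun a b =>
    Groth.Agent.Lib.helper16.FLF.isQuasicoherent_of_isFinLocFree _
      (Groth.Agent.Lib.helper16.FLFTensor.isFinLocFree_tensor (hL' a) (hL'' b))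
  induction i with
  | zero =>
    haveI : Epi (wedgeHom (D' 0) (D (n - 0)) (D n) S.f (Nat.add_sub_cancel' hi)) :=
      Groth.Agent.Lib.helper7.KerSections.epi_of_surjective_affine _
        (fun U hU => wedgeHom_zero_surjective (D' 0) (D (n - 0)) (D n) S.f _ U hU)
    have hz : IsZero (cokernel (wedgeHom (D' 0) (D (n - 0)) (D n) S.f
        (Nat.add_sub_cancel' hi))) := isZero_cokernel_of_epi _
    refine ⟨isFinLocFree_of_isZero hz, ?_⟩
    rw [Finset.range_zero, Finset.sum_empty]
    exact Groth.Agent.Lib.helper8.Dev.clSub_zero (vb X) (fun N hN => isFinLocFree_of_isZero hN) _ hz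
  | succ i ih =>
    obtain ⟨ih1, ih2⟩ := ih (Nat.le_of_succ_le hi)
    -- the step
    have hsurj : ∀ (U : X.Opens), IsAffineOpen U → Function.Surjective (secLin S.g U) :=
      fun U hU => (Groth.Agent.Lib.helper21.RelFPSch.sections_exact S hS hU).2.1
    haveI : Epi (tMap (L' i) (extMapHom (D (n - i)) (D'' (n - i)) S.g)) :=
      Groth.Agent.Lib.helper7.KerSections.epi_of_surjective_affine _
        (fun U hU => tMap_surjective (D (n - i)) (D' i) (D'' (n - i)) S.g U hU (hsurj U hU))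
    have hse := shortExact_step
      (wedgeHom (D' i) (D (n - i)) (D n) S.f (Nat.add_sub_cancel' (Nat.le_of_succ_le hi)))
      (wedgeHom (D' (i + 1)) (D (n - (i + 1))) (D n) S.f (Nat.add_sub_cancel' hi))
      (tMap (L' i) (extMapHom (D (n - i)) (D'' (n - i)) S.g))
      (fun U hU α => pair_a S hS h₁ h₃ (D' i) (D' (i + 1)) (D (n - i)) (D (n - (i + 1)))
        (D'' (n - i)) (D n) _ _ U hU α)
      (fun U hU γ => pair_b S (D' i) (D' (i + 1)) (D (n - i)) (D (n - (i + 1))) (D n) _ _ U hU γ)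
    have hB : FlatMod.IsFinLocFree (CohB1.tensorMod (L' i) (L'' (n - i))) :=
      Groth.Agent.Lib.helper16.FLFTensor.isFinLocFree_tensor (hL' i) (hL'' (n - i))
    have hvb := vb_ext' _ hse hB ih1
    refine ⟨hvb, ?_⟩
    have hrel := Groth.Agent.Lib.helper8.Dev.clSub_rel (vb X) _ hse hB hvb ih1
    refine hrel.trans ?_
    rw [Finset.sum_range_succ, add_comm]
    exact congrArg₂ (· + ·) ih2 rfl

include hS h₁ h₃ hL' hL hL'' D' D D'' in
/-- **The class of an exterior power of an extension.** -/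
theorem cl_extPow_eq_sum :
    KZero.clSub (vb X) (L n) =
      ∑ j ∈ Finset.range (n + 1), KZero.clSub (vb X) (CohB1.tensorMod (L' j) (L'' (n - j))) := by
  haveI := Groth.Agent.Lib.helper16.FLF.isQuasicoherent_of_isFinLocFree S.X₁ h₁
  haveI : ∀ i, (L' i).IsQuasicoherent :=
    fun i => Groth.Agent.Lib.helper16.FLF.isQuasicoherent_of_isFinLocFree _ (hL' i)
  haveI : ∀ i, (L i).IsQuasicoherent :=
    fun i => Groth.Agent.Lib.helper16.FLF.isQuasicoherent_of_isFinLocFree _ (hL i)
  haveI : ∀ i, (L'' i).IsQuasicoherent :=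
    fun i => Groth.Agent.Lib.helper16.FLF.isQuasicoherent_of_isFinLocFree _ (hL'' i)
  haveI : ∀ a b, (CohB1.tensorMod (L' a) (L b)).IsQuasicoherent := fun a b =>
    Groth.Agent.Lib.helper16.FLF.isQuasicoherent_of_isFinLocFree _
      (Groth.Agent.Lib.helper16.FLFTensor.isFinLocFree_tensor (hL' a) (hL b))
  haveI : ∀ a b, (CohB1.tensorMod (L' a) (L'' b)).IsQuasicoherent := fun a b =>
    Groth.Agent.Lib.helper16.FLF.isQuasicoherent_of_isFinLocFree _
      (Groth.Agent.Lib.helper16.FLFTensor.isFinLocFree_tensor (hL' a) (hL'' b))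
  obtain ⟨ih1, ih2⟩ := cl_cokernel_wedge S hS h₁ h₃ L' L L'' hL' hL hL'' D' D D'' n n le_rfl
  have hsurj : ∀ (U : X.Opens), IsAffineOpen U → Function.Surjective (secLin S.g U) :=
    fun U hU => (Groth.Agent.Lib.helper21.RelFPSch.sections_exact S hS hU).2.1
  haveI : Epi (tMap (L' n) (extMapHom (D (n - n)) (D'' (n - n)) S.g)) :=
    Groth.Agent.Lib.helper7.KerSections.epi_of_surjective_affine _
      (fun U hU => tMap_surjective (D (n - n)) (D' n) (D'' (n - n)) S.g U hU (hsurj U hU))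
  obtain ⟨Z, hZ⟩ := HasZeroObject.zero (C := X.Modules)
  haveI : Z.IsQuasicoherent := Groth.Agent.Lib.helper7.CohKer.isQuasicoherent_of_isZero hZ
  have hse := shortExact_step
    (wedgeHom (D' n) (D (n - n)) (D n) S.f (Nat.add_sub_cancel' le_rfl))
    (0 : Z ⟶ L n)
    (tMap (L' n) (extMapHom (D (n - n)) (D'' (n - n)) S.g))
    (fun U hU α => by
      rw [← top_a S hS h₁ h₃ (D' n) (D (n - n)) (D'' (n - n)) (D n) (Nat.add_sub_cancel' le_rfl) U hU α]
      constructor
      · rintro ⟨γ, hγ⟩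
        rw [← hγ, Scheme.Modules.Hom.zero_app]
        rfl
      · intro h0
        refine ⟨0, ?_⟩
        rw [h0, map_zero])
    (fun U hU γ => ⟨0, by
      rw [map_zero, Scheme.Modules.Hom.zero_app]
      rfl⟩)
  have hB : FlatMod.IsFinLocFree (CohB1.tensorMod (L' n) (L'' (n - n))) :=
    Groth.Agent.Lib.helper16.FLFTensor.isFinLocFree_tensor (hL' n) (hL'' (n - n))
  have hvb := vb_ext' _ hse hB ih1
  have hrel := Groth.Agent.Lib.helper8.Dev.clSub_rel (vb X) _ hse hB hvb ih1
  have hiso : KZero.clSub (vb X) (cokernel (0 : Z ⟶ L n)) = KZero.clSub (vb X) (L n) :=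
    Groth.Agent.Lib.helper8.Dev.clSub_iso (vb X) (fun N hN => isFinLocFree_of_isZero hN)
      (fun M N e hM => Groth.Agent.Lib.helper16.FLF.isFinLocFree_of_iso e hM)
      cokernelZeroIsoTarget
  refine hiso.symm.trans (hrel.trans ?_)
  rw [Finset.sum_range_succ, add_comm]
  exact congrArg₂ (· + ·) ih2 rfl

end Main

end

end Groth.Agent.Lib.Helper20.ExtSh
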