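import Mathlib
import Groth.Agent.Lib.Helper20.DetKaehler2
import Groth.Agent.Lib.Helper26.GorB1

/-!
# `Ext^p_A(Ω^(n-p)_{A/J}, Ω^n_A) ≃ A/J` for a smooth quotient by a regular sequence (helper20)

`nonempty_end_equiv`: endomorphisms over `A` of an invertible `A ⧸ J`-module are `A ⧸ J`.
`nonempty_ext_equiv`: the statement in the title (Rees' lemma of helper26 + the determinant of
the conormal sequence).
-/

set_option autoImplicit false
universe u
open TensorProduct CategoryTheory

namespace Groth.Agent.Lib.Helper20.ExtTopForms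

open Groth.Agent.Lib.Helper20.DetKaehler Groth.Agent.Lib.helper11.QuasiReg
  Groth.Agent.Lib.Helper20.ExtPowRank

variable {A : Type u} [CommRing A]

/-- endomorphisms over `A` of an invertible `A ⧸ J`-module -/
theorem nonempty_end_equiv (J : Ideal A) (N : Type u) [AddCommGroup N] [Module (A ⧸ J) N]
    [Module A N] [IsScalarTower A (A ⧸ J) N] [Module.Invertible (A ⧸ J) N] :
    Nonempty ((N →ₗ[A] N) ≃ₗ[A] (A ⧸ J)) := by
  let φ : (A ⧸ J) →ₗ[A] (N →ₗ[A] N) :=
    { toFun := fun b => (LinearMap.lsmul (A ⧸ J) N b).restrictScalars A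
      map_add' := fun b c => by
        apply LinearMap.ext
        intro x
        simp [add_smul]
      map_smul' := fun a b => by
        apply LinearMap.ext
        intro x
        simp [smul_assoc] }
  have hφ : ∀ b x, φ b x = b • x := fun b x => rfl
  have hbij := Module.Invertible.toModuleEnd_bijective (R := A ⧸ J) (M := N)
  refine ⟨(LinearEquiv.ofBijective φ ⟨?_, ?_⟩).symm⟩
  · intro b c hbc
    apply hbij.1
    apply LinearMap.ext
    intro x
    have := LinearMap.congr_fun hbc x
    rw [hφ, hφ] at this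
    exact this
  · intro g
    let g' : N →ₗ[A ⧸ J] N :=
      { toFun := g
        map_add' := g.map_add
        map_smul' := fun b x => by
          obtain ⟨a, rfl⟩ := Ideal.Quotient.mk_surjective b
          have h1 : ∀ y : N, (Ideal.Quotient.mk J a) • y = a • y := fun y => by
            rw [← Ideal.Quotient.algebraMap_eq, algebraMap_smul]
          simp only [RingHom.id_apply]
          rw [h1, h1, map_smul] }
    obtain ⟨b, hb⟩ := hbij.2 g'
    refine ⟨b, ?_⟩
    apply LinearMap.ext
    intro x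
    rw [hφ]
    exact LinearMap.congr_fun hb x

variable (k : Type u) [CommRing k] [Algebra k A] [Algebra.FormallySmooth k A]
  [Module.Finite A (Ω[A⁄k])]

theorem nonempty_ext_equiv (n : ℕ)
    (hn : ∀ q : PrimeSpectrum A, Module.rankAtStalk (Ω[A⁄k]) q = n) (xs : List A)
    (hreg : RingTheory.Sequence.IsWeaklyRegular A xs)
    [Algebra.FormallySmooth k (A ⧸ Ideal.ofList xs)] (hpn : xs.length ≤ n) :
    Nonempty (Abelian.Ext.{u}
      (ModuleCat.of A ↥((⋀[A ⧸ Ideal.ofList xs]^(n - xs.length)
        (Ω[(A ⧸ Ideal.ofList xs)⁄k])).restrictScalars A))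
      (ModuleCat.of A ↥(⋀[A]^n (Ω[A⁄k]))) xs.length ≃ₗ[A] (A ⧸ Ideal.ofList xs)) := by
  classical
  let J : Ideal A := Ideal.ofList xs
  let B := A ⧸ J
  let ω := ⋀[A]^n (Ω[A⁄k])
  let N := ⋀[B]^(n - xs.length) (Ω[B⁄k])
  let K := ↥(N.restrictScalars A)
  -- the quasi-regular family
  let F : Fin xs.length → A := xs.get
  have hofFn : List.ofFn F = xs := List.ofFn_get xs
  have hq : QR F := QR_of_isWeaklyRegular _ F (by rw [hofFn]; exact hreg)
  have hspan : Ideal.span (Set.range F) = J := by
    rw [span_range_eq_ofList, hofFn]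
  -- Rees
  haveI : Module.Projective A ω := projective_extPow (B := A) (Ω[A⁄k]) n
  have hregω : RingTheory.Sequence.IsWeaklyRegular ω xs :=
    ((TensorProduct.rid A ω).isWeaklyRegular_congr xs).mp
      (hreg.isWeaklyRegular_lTensor (M₂ := ω))
  have hK : ∀ r ∈ xs, ∀ x : K, r • x = 0 := by
    intro r hr x
    apply Subtype.ext
    change r • (x : ExteriorAlgebra B (Ω[B⁄k])) = 0
    have hrJ : r ∈ J := Ideal.subset_span hr
    rw [← algebraMap_smul B r (x : ExteriorAlgebra B (Ω[B⁄k])), Ideal.Quotient.algebraMap_eq,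
      Ideal.Quotient.eq_zero_iff_mem.mpr hrJ, zero_smul]
  obtain ⟨e1⟩ := (Groth.Agent.Lib.helper26.GorB.rees K xs ω hregω hK).2
  -- the target
  obtain ⟨e2⟩ := nonempty_top_equiv (A := k) J F hq hspan n hn hpn
  haveI : Module.Invertible B (B ⊗[A] ω) := invertible_top (A := k) J n hn
  haveI : Module.Invertible B N := Module.Invertible.congr e2.symm
  let eK : K ≃ₗ[A] N := (Submodule.restrictScalarsEquiv A B _ N).restrictScalars A
  let e3 : (ω ⧸ (J • ⊤ : Submodule A ω)) ≃ₗ[A] K :=
    (TensorProduct.quotTensorEquivQuotSMul ω J).symm.trans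
      ((e2.symm.restrictScalars A).trans eK.symm)
  obtain ⟨e4⟩ := nonempty_end_equiv J N
  exact ⟨e1.trans ((LinearEquiv.congrRight e3).trans
    ((LinearEquiv.arrowCongr eK eK).trans e4))⟩

end Groth.Agent.Lib.Helper20.ExtTopForms
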