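import Groth.Agent.Lib.Helper20.ExtSh2
import Groth.Agent.Lib.Helper20.ExtPowUniq
import Groth.Agent.Lib.Helper16.FLFTensor
import Groth.Agent.Lib.Helper16.FLF5

/-!
# Twisting by a free generator (helper20)

* `IsGen t`: `t` is a free generator of a module.
* `twEquiv F P U t ht : Γ(F, U) ≃ Γ(F ⊗ P, U)`, `e ↦ e ⊗ t`, for `t` a free generator of `Γ(P, U)`.
* `tpow L V t k : Γ(L^{⊗k}, V)`, with restriction and scaling rules; `isGen_tpow`.
-/

set_option autoImplicit false
universe u

open CategoryTheory CategoryTheory.Limits AlgebraicGeometry Opposite TopologicalSpace TensorProduct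
open Groth.Agent.Lib.helper11.TensorASec Groth.Agent.H1.ResBC Groth.Agent.Lib.Helper20.ExtSh

namespace Groth.Agent.Lib.Helper20.ExtTwist

noncomputable section

section Alg

variable {A : Type u} [CommRing A] {Q : Type u} [AddCommGroup Q] [Module A Q]

/-- `t` is a free generator of `Q` -/
def IsGen (t : Q) : Prop := Function.Bijective (fun a : A => a • t)

/-- the isomorphism `A ≃ Q` given by a free generator -/
def genEquiv (t : Q) (ht : IsGen (A := A) t) : A ≃ₗ[A] Q :=
  LinearEquiv.ofBijective (LinearMap.toSpanSingleton A Q t) ht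

@[simp] lemma genEquiv_apply (t : Q) (ht : IsGen (A := A) t) (a : A) :
    genEquiv t ht a = a • t := rfl

end Alg

variable {X : Scheme.{u}}

section Tw

variable (F P : X.Modules) [F.IsQuasicoherent] [P.IsQuasicoherent]

/-- twisting by a free generator -/
def twEquiv (U : X.affineOpens) (t : Γ(P, U.1)) (ht : IsGen (A := Γ(X, U.1)) t) :
    Γ(F, U.1) ≃ₗ[Γ(X, U.1)] Γ(CohB1.tensorMod F P, U.1) :=
  (TensorProduct.rid Γ(X, U.1) Γ(F, U.1)).symm ≪≫ₗ
    (LinearEquiv.lTensor Γ(F, U.1) (genEquiv t ht)) ≪≫ₗ cWEquiv F P U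

lemma twEquiv_apply (U : X.affineOpens) (t : Γ(P, U.1)) (ht : IsGen (A := Γ(X, U.1)) t)
    (e : Γ(F, U.1)) : twEquiv F P U t ht e = tm F P U.1 e t := by
  simp only [twEquiv, LinearEquiv.trans_apply, TensorProduct.rid_symm_apply,
    LinearEquiv.lTensor_tmul, genEquiv_apply, one_smul]
  rfl

/-- the tensor of two free generators is a free generator -/
theorem isGen_tm (U : X.affineOpens) (s : Γ(F, U.1)) (hs : IsGen (A := Γ(X, U.1)) s)
    (t : Γ(P, U.1)) (ht : IsGen (A := Γ(X, U.1)) t) :
    IsGen (A := Γ(X, U.1)) (tm F P U.1 s t) := by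
  have : (fun a : Γ(X, U.1) => a • tm F P U.1 s t) =
      (twEquiv F P U t ht) ∘ (genEquiv s hs) := by
    funext a
    rw [Function.comp_apply, twEquiv_apply, genEquiv_apply, tm_smul_left]
  unfold IsGen
  rw [this]
  exact (twEquiv F P U t ht).bijective.comp (genEquiv s hs).bijective

end Tw

section Pow

variable (L : X.Modules)

theorem isFinLocFree_tensorPow (hL : FlatMod.IsFinLocFree L) (k : ℕ) :
    FlatMod.IsFinLocFree (CohB1.tensorPow L k) := by
  induction k with
  | zero => exact Groth.Agent.Lib.helper16.FLF.isFinLocFree_structureModule X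
  | succ k ih => exact Groth.Agent.Lib.helper16.FLFTensor.isFinLocFree_tensor ih hL

/-- the unit section of the structure module -/
def oneSec (V : X.Opens) : Γ(Coh.structureModule X, V) := (1 : Γ(X, V))

lemma smul_oneSec (V : X.Opens) (a : Γ(X, V)) : a • oneSec V = (a : Γ(Coh.structureModule X, V)) :=
  mul_one a

theorem isGen_oneSec (V : X.Opens) : IsGen (A := Γ(X, V)) (oneSec V) := by
  unfold IsGen
  have : (fun a : Γ(X, V) => a • oneSec V) = id := funext (fun a => smul_oneSec V a)
  rw [this]
  exact Function.bijective_id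

lemma res_oneSec {U V : X.Opens} (h : V ≤ U) :
    res (Coh.structureModule X) h (oneSec U) = oneSec V :=
  map_one (X.presheaf.map (homOfLE h).op).hom

/-- the `k`-th tensor power of a section -/
def tpow (V : X.Opens) (t : Γ(L, V)) : (k : ℕ) → Γ(CohB1.tensorPow L k, V)
  | 0 => oneSec V
  | k + 1 => tm (CohB1.tensorPow L k) L V (tpow V t k) t

lemma res_tpow {U V : X.Opens} (h : V ≤ U) (t : Γ(L, U)) (k : ℕ) :
    res (CohB1.tensorPow L k) h (tpow L U t k) = tpow L V (res L h t) k := by
  induction k with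
  | zero => exact res_oneSec h
  | succ k ih =>
    show res (CohB1.tensorMod (CohB1.tensorPow L k) L) h
      (tm (CohB1.tensorPow L k) L U (tpow L U t k) t) = _
    have := tm_res (CohB1.tensorPow L k) L (homOfLE h) (tpow L U t k) t
    refine this.trans ?_
    show tm (CohB1.tensorPow L k) L V (res (CohB1.tensorPow L k) h (tpow L U t k)) (res L h t) = _
    rw [ih]
    rfl

lemma tpow_smul (V : X.Opens) (u : Γ(X, V)) (t : Γ(L, V)) (k : ℕ) :
    tpow L V (u • t) k = u ^ k • tpow L V t k := by
  induction k with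
  | zero => rw [pow_zero, one_smul]; rfl
  | succ k ih =>
    show tm (CohB1.tensorPow L k) L V (tpow L V (u • t) k) (u • t) = _
    rw [ih, tm_smul_left, tm_smul_right, smul_smul, ← pow_succ]
    rfl

theorem isGen_tpow (hL : FlatMod.IsFinLocFree L) (U : X.affineOpens) (t : Γ(L, U.1))
    (ht : IsGen (A := Γ(X, U.1)) t) (k : ℕ) : IsGen (A := Γ(X, U.1)) (tpow L U.1 t k) := by
  haveI := Groth.Agent.Lib.helper16.FLF.isQuasicoherent_of_isFinLocFree L hL
  induction k with
  | zero => exact isGen_oneSec U.1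
  | succ k ih =>
    haveI := Groth.Agent.Lib.helper16.FLF.isQuasicoherent_of_isFinLocFree _
      (isFinLocFree_tensorPow L hL k)
    exact isGen_tm (CohB1.tensorPow L k) L U _ ih t ht

end Pow

end

end Groth.Agent.Lib.Helper20.ExtTwist
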