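import Groth.Agent.Lib.Helper20.ExtTwist1
import Groth.Agent.Lib.Helper20.ExtPowCoh2

/-!
# `Λ^k (E ⊗ L) ≅ Λ^k E ⊗ L^{⊗k}` for `L` invertible: local maps (helper20)
-/

set_option autoImplicit false
universe u

open CategoryTheory CategoryTheory.Limits AlgebraicGeometry Opposite TopologicalSpace TensorProduct
open Groth.Agent.Lib.helper11.TensorASec Groth.Agent.H1.ResBC Groth.Agent.Lib.Helper20.ExtSh
  Groth.Agent.H1.ExtPowSemi Groth.Agent.H1.ExtPowTilde

namespace Groth.Agent.Lib.Helper20.ExtTwist

noncomputable section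

section Alg

variable {A : Type u} [CommRing A] {P P' : Type u} [AddCommGroup P] [Module A P]
  [AddCommGroup P'] [Module A P']

/-- exterior powers of a linear equivalence -/
def extEquiv (k : ℕ) (e : P ≃ₗ[A] P') : ⋀[A]^k P ≃ₗ[A] ⋀[A]^k P' :=
  LinearEquiv.ofLinear (exteriorPower.map k e.toLinearMap) (exteriorPower.map k e.symm.toLinearMap)
    (by rw [← exteriorPower.map_comp]; simp)
    (by rw [← exteriorPower.map_comp]; simp)

lemma extEquiv_apply (k : ℕ) (e : P ≃ₗ[A] P') (x : ⋀[A]^k P) :
    extEquiv k e x = exteriorPower.map k e.toLinearMap x := rfl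

lemma ιMulti_smul_const (k : ℕ) (u : A) (m : Fin k → P) :
    exteriorPower.ιMulti A k (fun j => u • m j) = u ^ k • exteriorPower.ιMulti A k m := by
  have := (exteriorPower.ιMulti A k (M := P)).map_smul_univ (fun _ => u) m
  rw [this, Finset.prod_const, Finset.card_univ, Fintype.card_fin]

end Alg

variable {X : Scheme.{u}} {k : ℕ} {E L M N : X.Modules}
  [E.IsQuasicoherent] [L.IsQuasicoherent] [(CohB1.tensorMod E L).IsQuasicoherent]

/-- the key local identity -/
theorem extRes_map_tw (U W : X.affineOpens) (h : W.1 ≤ U.1)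
    (tU : Γ(L, U.1)) (htU : IsGen (A := Γ(X, U.1)) tU)
    (tW : Γ(L, W.1)) (htW : IsGen (A := Γ(X, W.1)) tW)
    (u : Γ(X, W.1)) (hu : res L h tU = u • tW) (x : ⋀[Γ(X, U.1)]^k Γ(E, U.1)) :
    extRes (CohB1.tensorMod E L) k h (extEquiv k (twEquiv E L U tU htU) x) =
      u ^ k • extEquiv k (twEquiv E L W tW htW) (extRes E k h x) := by
  have key : (extRes (CohB1.tensorMod E L) k h).comp
      (extEquiv k (twEquiv E L U tU htU)).toLinearMap.toAddMonoidHom =
      ((DistribMulAction.toAddMonoidHom _ (u ^ k)).comp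
        (extEquiv k (twEquiv E L W tW htW)).toLinearMap.toAddMonoidHom).comp (extRes E k h) := by
    refine extPow_addHom_ext (σ h) _ _ ?_ ?_ ?_
    · intro a y
      change extRes (CohB1.tensorMod E L) k h (extEquiv k (twEquiv E L U tU htU) (a • y)) =
        _ • extRes (CohB1.tensorMod E L) k h (extEquiv k (twEquiv E L U tU htU) y)
      rw [_root_.map_smul, extMap_smul]
    · intro a y
      change u ^ k • extEquiv k (twEquiv E L W tW htW) (extRes E k h (a • y)) =
        _ • (u ^ k • extEquiv k (twEquiv E L W tW htW) (extRes E k h y))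
      rw [extMap_smul, _root_.map_smul, smul_comm]
    · intro m
      change extRes (CohB1.tensorMod E L) k h (extEquiv k (twEquiv E L U tU htU)
          (exteriorPower.ιMulti _ k m)) =
        u ^ k • extEquiv k (twEquiv E L W tW htW) (extRes E k h (exteriorPower.ιMulti _ k m))
      rw [extEquiv_apply, exteriorPower.map_apply_ιMulti, extMap_ιMulti, extMap_ιMulti,
        extEquiv_apply, exteriorPower.map_apply_ιMulti, ← ιMulti_smul_const]
      congr 1
      funext j
      show res (CohB1.tensorMod E L) h (twEquiv E L U tU htU (m j)) =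
        u • twEquiv E L W tW htW (res E h (m j))
      rw [twEquiv_apply, twEquiv_apply]
      have := tm_res E L (homOfLE h) (m j) tU
      refine this.trans ?_
      show tm E L W.1 (res E h (m j)) (res L h tU) = _
      rw [hu, tm_smul_right]
  exact congr($key x)

end

end Groth.Agent.Lib.Helper20.ExtTwist
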