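import Groth.Agent.Lib.Helper20.ExtTwist2
import Groth.Agent.Lib.Helper20.DetTriv5
import Groth.Agent.Lib.Helper28.HomOfBasis

/-!
# `Λ^k (E ⊗ L) ≅ Λ^k E ⊗ L^{⊗k}` for `L` invertible (helper20)
-/

set_option autoImplicit false
universe u

open CategoryTheory CategoryTheory.Limits AlgebraicGeometry Opposite TopologicalSpace TensorProduct
open Groth.Agent.Lib.helper11.TensorASec Groth.Agent.H1.ResBC Groth.Agent.Lib.Helper20.ExtSh
  Groth.Agent.H1.ExtPowSemi Groth.Agent.H1.ExtPowTilde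

namespace Groth.Agent.Lib.Helper20.ExtTwist

noncomputable section

variable {X : Scheme.{u}} {k : ℕ} {E L M N : X.Modules}
  [E.IsQuasicoherent] [L.IsQuasicoherent] [(CohB1.tensorMod E L).IsQuasicoherent]
  (DM : Data k (CohB1.tensorMod E L) M) (DN : Data k E N)

/-- `Λ^k E (U) ≃ Λ^k (E ⊗ L) (U)`, `∧ e_i ↦ ∧ (e_i ⊗ t)` -/
def hMap (U : X.affineOpens) (t : Γ(L, U.1)) (ht : IsGen (A := Γ(X, U.1)) t) :
    Γ(N, U.1) ≃ₗ[Γ(X, U.1)] Γ(M, U.1) :=
  (DN.φ' U) ≪≫ₗ extEquiv k (twEquiv E L U t ht) ≪≫ₗ (DM.φ' U).symm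

theorem res_hMap (U W : X.affineOpens) (h : W.1 ≤ U.1)
    (tU : Γ(L, U.1)) (htU : IsGen (A := Γ(X, U.1)) tU)
    (tW : Γ(L, W.1)) (htW : IsGen (A := Γ(X, W.1)) tW)
    (u : Γ(X, W.1)) (hu : res L h tU = u • tW) (n : Γ(N, U.1)) :
    res M h (hMap DM DN U tU htU n) = u ^ k • hMap DM DN W tW htW (res N h n) := by
  simp only [hMap, LinearEquiv.trans_apply]
  rw [res_symm DM U W h, extRes_map_tw U W h tU htU tW htW u hu, res_eq DN U W h n,
    _root_.map_smul]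

variable [N.IsQuasicoherent] (hL : FlatMod.IsFinLocFree L)

/-- `Λ^k E (U) ≃ (Λ^k E ⊗ L^{⊗k}) (U)`, `n ↦ n ⊗ t^k` -/
def cMap (U : X.affineOpens) (t : Γ(L, U.1)) (ht : IsGen (A := Γ(X, U.1)) t) :
    Γ(N, U.1) ≃ₗ[Γ(X, U.1)] Γ(CohB1.tensorMod N (CohB1.tensorPow L k), U.1) :=
  haveI := Groth.Agent.Lib.helper16.FLF.isQuasicoherent_of_isFinLocFree _
    (isFinLocFree_tensorPow L hL k)
  twEquiv N (CohB1.tensorPow L k) U (tpow L U.1 t k) (isGen_tpow L hL U t ht k)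

include hL in
theorem res_cMap (U W : X.affineOpens) (h : W.1 ≤ U.1)
    (tU : Γ(L, U.1)) (htU : IsGen (A := Γ(X, U.1)) tU)
    (tW : Γ(L, W.1)) (htW : IsGen (A := Γ(X, W.1)) tW)
    (u : Γ(X, W.1)) (hu : res L h tU = u • tW) (n : Γ(N, U.1)) :
    res (CohB1.tensorMod N (CohB1.tensorPow L k)) h (cMap (N := N) (k := k) hL U tU htU n) =
      u ^ k • cMap (N := N) (k := k) hL W tW htW (res N h n) := by
  haveI := Groth.Agent.Lib.helper16.FLF.isQuasicoherent_of_isFinLocFree _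
    (isFinLocFree_tensorPow L hL k)
  simp only [cMap]
  rw [twEquiv_apply, twEquiv_apply]
  have := tm_res N (CohB1.tensorPow L k) (homOfLE h) n (tpow L U.1 tU k)
  refine this.trans ?_
  show tm N (CohB1.tensorPow L k) W.1 (res N h n) (res (CohB1.tensorPow L k) h (tpow L U.1 tU k)) = _
  rw [res_tpow, hu, tpow_smul, tm_smul_right]

/-- the local isomorphism `Λ^k (E ⊗ L) (U) ≃ (Λ^k E ⊗ L^{⊗k}) (U)` -/
def fMap (U : X.affineOpens) (t : Γ(L, U.1)) (ht : IsGen (A := Γ(X, U.1)) t) :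
    Γ(M, U.1) ≃ₗ[Γ(X, U.1)] Γ(CohB1.tensorMod N (CohB1.tensorPow L k), U.1) :=
  (hMap DM DN U t ht).symm ≪≫ₗ cMap (N := N) (k := k) hL U t ht

theorem res_fMap (U W : X.affineOpens) (h : W.1 ≤ U.1)
    (tU : Γ(L, U.1)) (htU : IsGen (A := Γ(X, U.1)) tU)
    (tW : Γ(L, W.1)) (htW : IsGen (A := Γ(X, W.1)) tW)
    (u : Γ(X, W.1)) (hu : res L h tU = u • tW) (m : Γ(M, U.1)) :
    res (CohB1.tensorMod N (CohB1.tensorPow L k)) h (fMap DM DN hL U tU htU m) =
      fMap DM DN hL W tW htW (res M h m) := by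
  obtain ⟨n, rfl⟩ := (hMap DM DN U tU htU).surjective m
  simp only [fMap, LinearEquiv.trans_apply, LinearEquiv.symm_apply_apply]
  rw [res_cMap hL U W h tU htU tW htW u hu, res_hMap DM DN U W h tU htU tW htW u hu,
    _root_.map_smul, LinearEquiv.symm_apply_apply, _root_.map_smul]

/-- the basis of affine opens over which `L` has a free generator -/
def genBasis (L : X.Modules) : Set X.Opens :=
  {V | IsAffineOpen V ∧ ∃ t : Γ(L, V), IsGen (A := Γ(X, V)) t}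

theorem isBasis_genBasis {L : X.Modules} (hL1 : FlatMod.IsFinLocFreeOfRank 1 L) :
    Opens.IsBasis (genBasis L) := by
  have hb := Groth.Agent.Lib.Helper20.DetTriv.isBasis_free hL1
  rw [Opens.isBasis_iff_nbhd] at hb ⊢
  intro O x hx
  obtain ⟨V, ⟨hV, ⟨b⟩⟩, hxV, hVO⟩ := hb hx
  refine ⟨V, ⟨hV, b 0, ?_⟩, hxV, hVO⟩
  constructor
  · intro a a' haa
    have h1 : b.repr (a • b 0) 0 = b.repr (a' • b 0) 0 := by
      have : a • b 0 = a' • b 0 := haa
      rw [this]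
    simpa using h1
  · intro l
    refine ⟨b.repr l 0, ?_⟩
    show b.repr l 0 • b 0 = l
    conv_rhs => rw [← b.sum_repr l]
    simp

include DM DN hL in
/-- **`Λ^k (E ⊗ L) ≅ Λ^k E ⊗ L^{⊗k}`** for `L` invertible -/
theorem nonempty_iso (hL1 : FlatMod.IsFinLocFreeOfRank 1 L) :
    Nonempty (M ≅ CohB1.tensorMod N (CohB1.tensorPow L k)) := by
  classical
  let ι := {V : X.Opens // V ∈ genBasis L}
  let B : ι → X.Opens := fun i => i.1
  have hB : Opens.IsBasis (Set.range B) := by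
    have : Set.range B = genBasis L := by
      ext V
      exact ⟨fun ⟨i, hi⟩ => hi ▸ i.2, fun hV => ⟨⟨V, hV⟩, rfl⟩⟩
    rw [this]
    exact isBasis_genBasis hL1
  let aff : ι → X.affineOpens := fun i => ⟨i.1, i.2.1⟩
  let t : ∀ i : ι, Γ(L, i.1) := fun i => i.2.2.choose
  have ht : ∀ i : ι, IsGen (A := Γ(X, i.1)) (t i) := fun i => i.2.2.choose_spec
  obtain ⟨ψ, hψ⟩ := Groth.Agent.Lib.helper28.HomOfBasis.exists_hom_of_basis B hB
    (F := M) (G := CohB1.tensorMod N (CohB1.tensorPow L k))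
    (fun i => (fMap DM DN hL (aff i) (t i) (ht i)).toLinearMap.toAddMonoidHom)
    (fun i j hij s => by
      obtain ⟨u, hu⟩ := (ht i).2 (res L hij (t j))
      exact (res_fMap DM DN hL (aff j) (aff i) hij (t j) (ht j) (t i) (ht i) u hu.symm s).symm)
    (fun i r s => (fMap DM DN hL (aff i) (t i) (ht i)).map_smul r s)
  have hbij : ∀ D ∈ Set.range B, Function.Bijective (ψ.app D).hom := by
    rintro _ ⟨i, rfl⟩
    have : ((ψ.app (B i)).hom : Γ(M, B i) → _) = fMap DM DN hL (aff i) (t i) (ht i) :=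
      funext (fun s => hψ i s)
    rw [this]
    exact (fMap DM DN hL (aff i) (t i) (ht i)).bijective
  haveI := Groth.Agent.Lib.helper16.QCohEpi.mono_of_injective_on_basis ψ _ hB
    (fun D hD => (hbij D hD).1)
  haveI := Groth.Agent.Lib.helper16.QCohEpi.epi_of_surjective_on_basis ψ _ hB
    (fun D hD => (hbij D hD).2)
  haveI : IsIso ψ := isIso_of_mono_of_epi ψ
  exact ⟨asIso ψ⟩

end

end Groth.Agent.Lib.Helper20.ExtTwist
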