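import Mathlib

/-!
# A finitely generated module over a Noetherian ring all of whose associated primes are maximal has finite
length (helper20)
-/

set_option autoImplicit false
universe u

namespace Groth.Agent.Lib.helper20.FinLenAss

variable {R : Type*} [CommRing R] [IsNoetherianRing R] {N : Type*} [AddCommGroup N] [Module R N]
  [Module.Finite R N]

theorem isFiniteLength_of_associatedPrimes_isMaximal
    (h : ∀ P ∈ associatedPrimes R N, P.IsMaximal) : IsFiniteLength R N := by
  let J := Module.annihilator R N
  let _ : Module (R ⧸ J) N := Module.quotientAnnihilator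
  have hst : IsScalarTower R (R ⧸ J) N :=
    (Module.isTorsionBySet_annihilator R N).isScalarTower
  have hdim : Ring.KrullDimLE 0 (R ⧸ J) := by
    rw [Ring.krullDimLE_zero_iff]
    intro Q' hQ'
    let Q := Ideal.comap (Ideal.Quotient.mk J) Q'
    have hQp : Q.IsPrime := Ideal.comap_isPrime _ _
    have hJQ : J ≤ Q := by
      intro x hx
      change Ideal.Quotient.mk J x ∈ Q'
      rw [Ideal.Quotient.eq_zero_iff_mem.mpr hx]
      exact Q'.zero_mem
    obtain ⟨Q₀, hQ₀, hQ₀Q⟩ := Ideal.exists_minimalPrimes_le hJQ
    have hQ₀max : Q₀.IsMaximal :=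
      h Q₀ (Module.associatedPrimes.minimalPrimes_annihilator_subset_associatedPrimes R N hQ₀)
    have hQQ₀ : Q₀ = Q := hQ₀max.eq_of_le hQp.ne_top hQ₀Q
    have hQmax : Q.IsMaximal := hQQ₀ ▸ hQ₀max
    have hmap : Ideal.map (Ideal.Quotient.mk J) Q = Q' :=
      Ideal.map_comap_of_surjective _ Ideal.Quotient.mk_surjective Q'
    rw [← hmap]
    refine Ideal.IsMaximal.map_of_surjective_of_ker_le Ideal.Quotient.mk_surjective ?_
    rw [Ideal.mk_ker]
    exact hJQ
  have hArt : IsArtinianRing (R ⧸ J) := isArtinianRing_iff_krullDimLE_zero.mpr hdim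
  have hfin : Module.Finite (R ⧸ J) N := Module.Finite.of_restrictScalars_finite R (R ⧸ J) N
  have hA' : IsArtinian (R ⧸ J) N := inferInstance
  have hA : IsArtinian R N :=
    isArtinian_of_surjective_algebraMap (R := R ⧸ J) (S := R) Ideal.Quotient.mk_surjective
  have hN : IsNoetherian R N := inferInstance
  exact isFiniteLength_iff_isNoetherian_isArtinian.mpr ⟨hN, hA⟩

end Groth.Agent.Lib.helper20.FinLenAss
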