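import Mathlib
import Groth.Prelude.Def_Coh
import Groth.Agent.S0002
import Groth.Agent.Lib.Helper8.DevInd

/-!
# Frobenius-semilinear maps on finite-dimensional spaces; the cokernel of a split Frobenius (helper20)

* `surjective_of_injective_of_frobenius_semilinear`: an injective additive `p`-semilinear endomorphism
  of a finite-dimensional vector space over a perfect field of characteristic `p` is surjective.
* `subsingleton_H_cokernel_of_split`: for `X` proper over a perfect field `k` of characteristic `p`,
  if the `p`-th power map `φ` of `O_X` has an additive retraction then `H^i(X, coker φ) = 0`.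
-/

set_option autoImplicit false

universe u

open CategoryTheory Limits AlgebraicGeometry Opposite

namespace Groth.Agent.Lib.Helper20.FrobSplitH

section LinAlg

/-- `V` with scalars acting through the Frobenius of `k` -/
def Tw (k : Type u) (p : ℕ) (V : Type u) : Type u := V

instance (k : Type u) (p : ℕ) (V : Type u) [AddCommGroup V] : AddCommGroup (Tw k p V) :=
  inferInstanceAs (AddCommGroup V)

noncomputable instance (k : Type u) (p : ℕ) [Fact p.Prime] [Field k] [CharP k p] (V : Type u)
    [AddCommGroup V] [Module k V] : Module k (Tw k p V) :=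
  Module.compHom V (frobenius k p)

theorem surjective_of_injective_of_frobenius_semilinear (p : ℕ) [Fact p.Prime] (k : Type u)
    [Field k] [CharP k p] [PerfectField k] (V : Type u) [AddCommGroup V] [Module k V]
    [Module.Finite k V] (f : V →+ V) (hf : ∀ (c : k) (x : V), f (c • x) = c ^ p • f x)
    (hinj : Function.Injective f) : Function.Surjective f := by
  have : PerfectRing k p := PerfectField.toPerfectRing p
  have hrank : Module.rank k (Tw k p V) = Module.rank k V :=
    rank_eq_of_equiv_equiv (R := k) (R' := k) (M := Tw k p V) (M₁ := V) (frobenius k p)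
      (AddEquiv.refl V) (bijective_frobenius k p) (fun r m => rfl)
  have : Module.Finite k (Tw k p V) := by
    rw [← Module.rank_lt_aleph0_iff, hrank]
    exact Module.rank_lt_aleph0 k V
  have hfin : Module.finrank k V = Module.finrank k (Tw k p V) := by
    unfold Module.finrank
    rw [hrank]
  let f' : V →ₗ[k] Tw k p V :=
    { toFun := f
      map_add' := f.map_add
      map_smul' := fun c x => hf c x }
  have h1 : Function.Injective f' := hinj
  exact (LinearMap.injective_iff_surjective_of_finrank_eq_finrank hfin).mp h1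

end LinAlg

section Coh

lemma smulAb_comp_frob (p : ℕ) (X : Scheme.{u})
    (φ : Coh.toAb (Coh.structureModule X) ⟶ Coh.toAb (Coh.structureModule X))
    (hφ : ∀ (U : X.Opens) (t : Γ(X, U)), φ.hom.app (op U) t = t ^ p) (r : Coh.Γtop X) :
    Coh.smulAb (Coh.structureModule X) r ≫ φ = φ ≫ Coh.smulAb (Coh.structureModule X) (r ^ p) := by
  ext U m
  obtain ⟨U⟩ := U
  change φ.hom.app (op U) ((Coh.smulAb (Coh.structureModule X) r).hom.app (op U) m) =
    (Coh.smulAb (Coh.structureModule X) (r ^ p)).hom.app (op U) (φ.hom.app (op U) m)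
  rw [Coh.smulAb_app, Coh.smulAb_app]
  have h1 := hφ U m
  have h2 := hφ U (@HMul.hMul Γ(X, U) Γ(X, U) Γ(X, U) _ (Coh.resTop X (op U) r) m)
  have h3 : (@HMul.hMul Γ(X, U) Γ(X, U) Γ(X, U) _ (Coh.resTop X (op U) r) m) ^ p =
      @HMul.hMul Γ(X, U) Γ(X, U) Γ(X, U) _ ((Coh.resTop X (op U) r) ^ p)
        (φ.hom.app (op U) m) := by
    rw [h1]
    exact mul_pow (M := Γ(X, U)) _ _ p
  rw [map_pow]
  exact h2.trans h3

lemma H_map_frob_smul (p : ℕ) (k : Type u) [Field k]
    (X : Scheme.{u}) [X.Over (Spec (CommRingCat.of k))]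
    (φ : Coh.toAb (Coh.structureModule X) ⟶ Coh.toAb (Coh.structureModule X))
    (hφ : ∀ (U : X.Opens) (t : Γ(X, U)), φ.hom.app (op U) t = t ^ p)
    (i : ℕ) (c : k) (x : Coh.HH X (Coh.structureModule X) i) :
    Sheaf.H.map φ i (c • x) = c ^ p • Sheaf.H.map φ i x := by
  change Sheaf.H.map φ i (Sheaf.H.map (Coh.smulAb (Coh.structureModule X)
      (Coh.toGlobal (X ↘ Spec (CommRingCat.of k)) c)) i x) =
    Sheaf.H.map (Coh.smulAb (Coh.structureModule X)
      (Coh.toGlobal (X ↘ Spec (CommRingCat.of k)) (c ^ p))) i (Sheaf.H.map φ i x)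
  rw [← Sheaf.H.map_comp_apply, ← Sheaf.H.map_comp_apply, map_pow, smulAb_comp_frob p X φ hφ]

/-- **Frobenius split ⇒ `H^i(X, B) = 0`** -/
theorem subsingleton_H_cokernel_of_split (p : ℕ) [Fact p.Prime] (k : Type u) [Field k] [CharP k p]
    [PerfectField k] (X : Scheme.{u}) [X.Over (Spec (CommRingCat.of k))]
    [IsProper (X ↘ Spec (CommRingCat.of k))]
    (φ : Coh.toAb (Coh.structureModule X) ⟶ Coh.toAb (Coh.structureModule X))
    (hφ : ∀ (U : X.Opens) (t : Γ(X, U)), φ.hom.app (op U) t = t ^ p)
    (s : Coh.toAb (Coh.structureModule X) ⟶ Coh.toAb (Coh.structureModule X))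
    (hs : φ ≫ s = 𝟙 _) (i : ℕ) : Subsingleton (Sheaf.H (Limits.cokernel φ) i) := by
  have hfin : Module.Finite k (Coh.HH X (Coh.structureModule X) i) :=
    Groth.Agent.S0002.result k X (Coh.structureModule X)
      (Groth.Agent.Lib.helper8.Dev.isCoh_structureModule X) i
  have hinj : Function.Injective (Sheaf.H.map φ i) := by
    intro x y hxy
    have h1 := congrArg (Sheaf.H.map s i) hxy
    rw [← Sheaf.H.map_comp_apply, ← Sheaf.H.map_comp_apply, hs, Sheaf.H.map_id_apply,
      Sheaf.H.map_id_apply] at h1
    exact h1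
  have hsurj : Function.Surjective (Sheaf.H.map φ i) :=
    surjective_of_injective_of_frobenius_semilinear p k (Coh.HH X (Coh.structureModule X) i)
      (Sheaf.H.map φ i) (H_map_frob_smul p k X φ hφ i) hinj
  -- the section of `cokernel.π φ`
  have hz : φ ≫ (𝟙 _ - s ≫ φ) = 0 := by
    rw [Preadditive.comp_sub, Category.comp_id, ← Category.assoc, hs, Category.id_comp, sub_self]
  let σ : Limits.cokernel φ ⟶ Coh.toAb (Coh.structureModule X) := Limits.cokernel.desc φ _ hz
  have hσ : σ ≫ Limits.cokernel.π φ = 𝟙 _ := by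
    rw [← cancel_epi (Limits.cokernel.π φ), ← Category.assoc, Limits.cokernel.π_desc,
      Preadditive.sub_comp, Category.id_comp, Category.assoc, Limits.cokernel.condition,
      comp_zero, sub_zero, Category.comp_id]
  refine ⟨fun a b => ?_⟩
  have key : ∀ y : Sheaf.H (Limits.cokernel φ) i, y = 0 := by
    intro y
    have h1 : y = Sheaf.H.map (Limits.cokernel.π φ) i (Sheaf.H.map σ i y) := by
      rw [← Sheaf.H.map_comp_apply, hσ, Sheaf.H.map_id_apply]
    obtain ⟨x, hx⟩ := hsurj (Sheaf.H.map σ i y)
    rw [h1, ← hx, ← Sheaf.H.map_comp_apply, Limits.cokernel.condition]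
    change ((Sheaf.functorH _ i).map
      (0 : Coh.toAb (Coh.structureModule X) ⟶ Limits.cokernel φ)).hom x = 0
    rw [Functor.map_zero]
    rfl
  rw [key a, key b]

end Coh

end Groth.Agent.Lib.Helper20.FrobSplitH
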