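import Groth.Agent.Lib.Helper20.KosPY6
import Groth.Agent.Lib.Helper11.ProjFormulaC

/-!
# The projection formula for `p_K` (helper20)

* `isRegSheaf_tensor_pullback`: `G ⊗ p^*E` is regular for `G` regular, `E` finite locally free on `Y`.
* `pushPr_mul_pull_core`: `p_K ([G] · p^K [E]) = p_K [G] · [E]` on models, `G` regular finite locally free.
* `pushPr_mul_pull`: `p_K (x · p^K y) = p_K x · y`.
-/

set_option autoImplicit false
universe v u

open CategoryTheory CategoryTheory.Limits AlgebraicGeometry Opposite TopologicalSpace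

namespace Groth.Agent.Lib.Helper20.KosPY

open Groth.Agent.Lib.Lead.ModTensor Groth.Agent.Lib.helper8.Dev KZero
open Groth.Agent.Lib.Helper20.RelReg

noncomputable section

variable {n : ℕ} {Y : Scheme.{u}}

/-- `G ⊗ p^*E` is regular for `G` regular, `E` finite locally free on `Y` -/
theorem isRegSheaf_tensor_pullback {G : (KRR.PY n Y).Modules} (hreg : KRR.IsRegSheaf n Y G)
    {E : Y.Modules} (hE : FlatMod.IsFinLocFree E) :
    KRR.IsRegSheaf n Y (CohB1.tensorMod G ((Scheme.Modules.pullback (KRR.pr n Y)).obj E)) := by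
  intro i hi
  have h1 := hreg i hi
  have h2 : IsZero ((Coh.Rpush (KRR.pr n Y) i).obj (KRR.twF n Y (-(i : ℤ)) G)) :=
    Groth.Agent.Lib.helper11.RpushAbBridge.isZero_rpush_of_isZero_rpushAb _ i _ h1
  obtain ⟨e2⟩ := Groth.Agent.Lib.helper11.ProjFormula.nonempty_rpush_tensor_iso (KRR.pr n Y)
    (KRR.twF n Y (-(i : ℤ)) G) hE i
  haveI : (Groth.Agent.Lib.Helper20.TensorEquiv.tensorRight E).Additive :=
    Groth.Agent.Lib.helper12.TensorCocont.additive_tensorRight E
  have h3 : IsZero (CohB1.tensorMod ((Coh.Rpush (KRR.pr n Y) i).obj (KRR.twF n Y (-(i : ℤ)) G)) E) :=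
    (Groth.Agent.Lib.Helper20.TensorEquiv.tensorRight E).map_isZero h2
  have h4 : IsZero ((Coh.Rpush (KRR.pr n Y) i).obj (CohB1.tensorMod (KRR.twF n Y (-(i : ℤ)) G)
      ((Scheme.Modules.pullback (KRR.pr n Y)).obj E))) := IsZero.of_iso h3 e2.symm
  obtain ⟨e3⟩ := Groth.Agent.Lib.helper11.RpushAbBridge.nonempty_rpush_toSheaf_iso (KRR.pr n Y) i
  have h5 : IsZero ((Coh.RpushAb (KRR.pr n Y) i).obj (Coh.toAb (CohB1.tensorMod
      (KRR.twF n Y (-(i : ℤ)) G) ((Scheme.Modules.pullback (KRR.pr n Y)).obj E)))) :=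
    IsZero.of_iso ((SheafOfModules.toSheaf.{u} Y.ringCatSheaf).map_isZero h4) (e3.app _).symm
  refine IsZero.of_iso h5 ((Coh.RpushAb _ i).mapIso
    ((Groth.Agent.Lib.Helper18.HH.toAbF _).mapIso ?_))
  exact (assoc _ _ _).symm

variable [IsNoetherian Y]
  {KP : Type v} [CommRing KP] [LambdaRing.LambdaOps KP] {PP : LambdaRing.PosStructure KP}
  {φP : SGA6.Kvb (KRR.PY n Y) →+ KP} (hKP : KRR.IsModel (KRR.PY n Y) KP PP φP)
  {KY : Type v} [CommRing KY] [LambdaRing.LambdaOps KY] {PY : LambdaRing.PosStructure KY}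
  {φY : SGA6.Kvb Y →+ KY} (hKY : KRR.IsModel Y KY PY φY)
  {g : KP →+ KY} (hg : KRR.IsPushPr n Y φP φY g) {q : KY →+ KP}
  (hq : KRR.IsPull (KRR.pr n Y) φY φP q)

include hKP hKY hg hq in
theorem pushPr_mul_pull_core {G : (KRR.PY n Y).Modules} (hG : FlatMod.IsFinLocFree G)
    (hreg : KRR.IsRegSheaf n Y G) {E : Y.Modules} (hE : FlatMod.IsFinLocFree E) :
    g (φP (KRR.cl (KRR.PY n Y) G) * q (φY (KRR.cl Y E))) =
      g (φP (KRR.cl (KRR.PY n Y) G)) * φY (KRR.cl Y E) := by
  have hQ0 : ∀ N : Y.Modules, IsZero N → KRR.vbP Y N :=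
    fun N hN => Groth.Agent.Lib.helper25.FLFKernel.isFinLocFree_of_isZero hN
  have hQiso : ∀ M N : Y.Modules, (M ≅ N) → KRR.vbP Y M → KRR.vbP Y N :=
    fun M N e h => Groth.Agent.Lib.helper16.FLF.isFinLocFree_of_iso e h
  have hpE : FlatMod.IsFinLocFree ((Scheme.Modules.pullback (KRR.pr n Y)).obj E) :=
    Groth.Agent.Lib.helper16.FLF.isFinLocFree_pullback _ hE
  have hT : FlatMod.IsFinLocFree
      (CohB1.tensorMod G ((Scheme.Modules.pullback (KRR.pr n Y)).obj E)) :=
    Groth.Agent.Lib.helper16.FLFTensor.isFinLocFree_tensor hG hpE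
  have hpG : FlatMod.IsFinLocFree ((Scheme.Modules.pushforward (KRR.pr n Y)).obj G) :=
    Groth.Agent.S3756.result n Y G hG hreg
  rw [hq E hE, hKP.map_mul G _ hG hpE]
  have h1 := hg _ hT (isRegSheaf_tensor_pullback hreg hE)
  have h1' : g (φP (KRR.cl (KRR.PY n Y) (((DCoh.tensorBi (X := KRR.PY n Y)).obj G).obj
      ((Scheme.Modules.pullback (KRR.pr n Y)).obj E)))) =
      φY (KRR.cl Y ((Scheme.Modules.pushforward (KRR.pr n Y)).obj
        (CohB1.tensorMod G ((Scheme.Modules.pullback (KRR.pr n Y)).obj E)))) := h1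
  rw [h1', hg G hG hreg, hKY.map_mul _ E hpG hE]
  congr 1
  exact (clSub_iso (KRR.vbP Y) hQ0 hQiso
    ((Groth.Agent.Lib.helper11.ProjFormula.projIso (KRR.pr n Y) hE).app G)).symm

include hKP hKY hg hq in
/-- **the projection formula** `p_K (x · p^K y) = p_K x · y` -/
theorem pushPr_mul_pull (x : KP) (y : KY) : g (x * q y) = g x * y := by
  let Sy : AddSubgroup KP :=
    (g.comp (AddMonoidHom.mulRight (q y))).eqLocus ((AddMonoidHom.mulRight y).comp g)
  have hx : x ∈ Sy := by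
    refine model_induction hKP Sy (fun G hG hreg => ?_) x
    let T : AddSubgroup KY :=
      ((g.comp (AddMonoidHom.mulLeft (φP (KRR.cl (KRR.PY n Y) G)))).comp q).eqLocus
        (AddMonoidHom.mulLeft (g (φP (KRR.cl (KRR.PY n Y) G))))
    have hy : y ∈ T := by
      refine model_induction_base hKY T (fun E hE => ?_) y
      exact pushPr_mul_pull_core hKP hKY hg hq hG hreg hE
    exact hy
  exact hx

end

end Groth.Agent.Lib.Helper20.KosPY
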