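import Groth.Agent.Lib.Helper20.KosPY5
import Groth.Agent.Lib.Helper11.FlatTwistPn
import Groth.Agent.Lib.Helper7.K0API
import Groth.Agent.S0022

/-!
# `Kvb (P^n_Y)` is generated by the classes of regular vector bundles (helper20)

`Y` Noetherian.
* `isZero_rpushAb_of_gt`: `R^i p_* G = 0` for `i > n`, `G` quasi-coherent.
* `isRegSheaf_twF_iff`: `F(m)` is regular iff `R^i p_* F(m - i) = 0` for all `i ≥ 1`.
* `exists_isRegSheaf_twF`: `F(m)` is regular for `m ≫ 0` (`F` coherent).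
* `twFZeroIso : F(0) ≅ F`.
* `closure_regular_eq_top`: the classes of regular vector bundles generate `Kvb (P^n_Y)`.
* `model_induction`, `model_induction_base`: induction principles on models of `K(P^n_Y)`, `K(Y)`.
-/

set_option autoImplicit false
universe v u

open CategoryTheory CategoryTheory.Limits AlgebraicGeometry Opposite TopologicalSpace

namespace Groth.Agent.Lib.Helper20.KosPY

open Groth.Agent.Lib.Helper18.HH Groth.Agent.Lib.Helper20.RelReg
open Groth.Agent.Lib.helper12.PnLocal Groth.Agent.Lib.Lead.ModTensor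
open Groth.Agent.Lib.Helper20.TwistEquivPn Groth.Agent.Lib.Helper20.RegRing
open Groth.Agent.Lib.helper8.Dev KZero

noncomputable section

variable (n : ℕ) (Y : Scheme.{u})

/-- `R^i p_* G = 0` for `i > n` -/
theorem isZero_rpushAb_of_gt (G : (KRR.PY n Y).Modules) [G.IsQuasicoherent] (i : ℕ) (hi : n < i) :
    IsZero ((Coh.RpushAb (KRR.pr n Y) i).obj (Coh.toAb G)) := by
  refine (isZero_rpushAb_iff n Y G i (by omega)).2 fun V hV => ?_
  haveI : Coh.IsQCoh (GV n V hV G) := isQuasicoherent_GV n V hV G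
  exact Groth.Agent.S0022.result n Γ(Y, V) (GV n V hV G) i hi

/-- `F(m)` is regular iff `R^i p_* F(m - i) = 0` for all `i ≥ 1` -/
theorem isRegSheaf_twF_iff (F : (KRR.PY n Y).Modules) [F.IsQuasicoherent] (m : ℤ) :
    KRR.IsRegSheaf n Y (KRR.twF n Y m F) ↔
      ∀ i : ℕ, 1 ≤ i →
        IsZero ((Coh.RpushAb (KRR.pr n Y) i).obj (Coh.toAb (KRR.twF n Y (m - i) F))) := by
  haveI := isQuasicoherent_twF n Y F m
  rw [isRegSheaf_iff n Y (KRR.twF n Y m F)]
  have hV : ∀ (V : Y.Opens) (hV : IsAffineOpen V),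
      IsReg n Γ(Y, V) (GV n V hV (KRR.twF n Y m F)) 0 ↔ IsReg n Γ(Y, V) (GV n V hV F) m := by
    intro V hV
    obtain ⟨e⟩ := nonempty_GV_twF_iso n V hV F m
    have h1 := isReg_twist_iff (GV n V hV F) m 0
    rw [add_zero] at h1
    exact ⟨fun h => h1.1 (isReg_of_iso e h), fun h => isReg_of_iso e.symm (h1.2 h)⟩
  constructor
  · intro h i hi
    exact (isZero_rpushAb_twF_iff n Y F (m - i) i hi).2 fun V hV' => (hV V hV').1 (h V hV') i hi
  · intro h V hV'
    exact (hV V hV').2 fun i hi => (isZero_rpushAb_twF_iff n Y F (m - i) i hi).1 (h i hi) V hV'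

/-- `F(0) ≅ F` -/
def twFZeroIso (F : (KRR.PY n Y).Modules) : KRR.twF n Y 0 F ≅ F :=
  tensorIso ((Scheme.Modules.pullback (q1 n Y)).mapIso
      (Groth.Agent.Lib.helper28.TwistPn.zeroIso n (ULift.{u} ℤ)).symm ≪≫
    Groth.Agent.Lib.helper11.InvMod.pullbackUnitIso (q1 n Y)) (Iso.refl F) ≪≫ leftUnitor F

variable [IsNoetherian Y]

open Groth.Agent.Lib.helper11.FlatTwistPn in
/-- `R^p p_* F(m) = 0` for `p > 0`, `m ≫ 0` -/
theorem exists_acyc_twF (F : (KRR.PY n Y).Modules) (hF : Coh.IsCoh F) :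
    ∃ m₀ : ℕ, ∀ m : ℕ, m₀ ≤ m → Acyc (KRR.pr n Y) (KRR.twF n Y (m : ℤ) F) := by
  have key : ∀ (g : KRR.PY n Y ⟶ Y) (_ : g = CohB1.ProjSpaceOver.toBase n Y)
      (_ : ∃ n₀ : ℕ, ∀ k : ℕ, n₀ ≤ k → ∀ p : ℕ, 0 < p →
        IsZero ((Coh.RpushAb g p).obj (Coh.toAb (CohB1.tensorMod F
          (CohB1.tensorPow (LL n (𝟙 (CohB1.ProjSpaceOver n Y))) k))))),
      ∃ m₀ : ℕ, ∀ m : ℕ, m₀ ≤ m → Acyc (KRR.pr n Y) (KRR.twF n Y (m : ℤ) F) := by
    rintro g rfl ⟨n₀, h⟩
    refine ⟨n₀, fun m hm p hp => ?_⟩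
    have h1 := h m hm p hp
    refine IsZero.of_iso h1 ((Coh.RpushAb _ p).mapIso ((toAbF _).mapIso ?_))
    exact braid _ _ ≪≫ tensorIso (Iso.refl F)
      (((Scheme.Modules.pullbackId (CohB1.ProjSpaceOver n Y)).app _).symm ≪≫
        twistIso n (𝟙 (CohB1.ProjSpaceOver n Y)) m)
  refine key (𝟙 _ ≫ CohB1.ProjSpaceOver.toBase n Y) (Category.id_comp _) ?_
  haveI : IsProper (CohB1.ProjSpaceOver.toBase n Y) :=
    Groth.Agent.Lib.helper19.ProjSpaceProper.proper_toBase n Y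
  haveI : IsProper (𝟙 (CohB1.ProjSpaceOver n Y) ≫ CohB1.ProjSpaceOver.toBase n Y) := by
    rw [Category.id_comp]; infer_instance
  exact Groth.Agent.Lib.helper11.RelAmpleVan.isZero_RpushAb_twist
    (𝟙 _ ≫ CohB1.ProjSpaceOver.toBase n Y) (LL n (𝟙 _)) (isInvertible_LL n (𝟙 _))
    (isAmple_LL_restrict n (𝟙 _)) F hF

/-- `F(m)` is regular for `m ≫ 0` -/
theorem exists_isRegSheaf_twF (F : (KRR.PY n Y).Modules) (hF : Coh.IsCoh F) :
    ∃ m₁ : ℕ, ∀ m : ℕ, m₁ ≤ m → KRR.IsRegSheaf n Y (KRR.twF n Y (m : ℤ) F) := by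
  haveI : F.IsQuasicoherent := hF.1
  obtain ⟨m₀, h⟩ := exists_acyc_twF n Y F hF
  refine ⟨m₀ + n, fun m hm => ?_⟩
  rw [isRegSheaf_twF_iff]
  intro i hi
  by_cases hin : n < i
  · haveI := isQuasicoherent_twF n Y F ((m : ℤ) - i)
    exact isZero_rpushAb_of_gt n Y _ i hin
  · have e : (m : ℤ) - i = ((m - i : ℕ) : ℤ) := by omega
    rw [e]
    exact h (m - i) (by omega) i (by omega)

/-- the subgroup of `Kvb (P^n_Y)` generated by the classes of the regular vector bundles -/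
def Hreg : AddSubgroup (SGA6.Kvb (KRR.PY n Y)) :=
  AddSubgroup.closure {x | ∃ G : (KRR.PY n Y).Modules, FlatMod.IsFinLocFree G ∧
    KRR.IsRegSheaf n Y G ∧ x = KRR.cl (KRR.PY n Y) G}

theorem cl_twF_mem_Hreg {F : (KRR.PY n Y).Modules} (hF : FlatMod.IsFinLocFree F) (k : ℤ) :
    KRR.cl (KRR.PY n Y) (KRR.twF n Y k F) ∈ Hreg n Y := by
  have hcoh : Coh.IsCoh F := Groth.Agent.Lib.Lead.RankAdd.isCoh_of_isFinLocFree hF
  obtain ⟨m₁, h⟩ := exists_isRegSheaf_twF n Y F hcoh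
  have key : ∀ (D : ℕ) (k : ℤ), (m₁ : ℤ) - D ≤ k →
      KRR.cl (KRR.PY n Y) (KRR.twF n Y k F) ∈ Hreg n Y := by
    intro D
    induction D with
    | zero =>
      intro k hk
      obtain ⟨m, rfl⟩ := Int.eq_ofNat_of_zero_le (show 0 ≤ k by simp at hk; omega)
      exact AddSubgroup.subset_closure ⟨_, isFinLocFree_twF n Y hF _,
        h m (by simp at hk; omega), rfl⟩
    | succ D ih =>
      intro k hk
      by_cases hk' : (m₁ : ℤ) - D ≤ k
      · exact ih k hk'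
      have hrel := koszul_relation n Y hF k
      rw [Finset.sum_range_succ'] at hrel
      simp only [pow_zero, Nat.choose_zero_right, one_smul, Nat.cast_zero, add_zero] at hrel
      have h2 : KRR.cl (KRR.PY n Y) (KRR.twF n Y k F) =
          -∑ j ∈ Finset.range (n + 1), (-1 : ℤ) ^ (j + 1) • ((n + 1).choose (j + 1) •
            KRR.cl (KRR.PY n Y) (KRR.twF n Y (k + ((j + 1 : ℕ) : ℤ)) F)) :=
        eq_neg_of_add_eq_zero_right hrel
      rw [h2]
      refine AddSubgroup.neg_mem _ (AddSubgroup.sum_mem _ fun j _ => ?_)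
      refine AddSubgroup.zsmul_mem _ (AddSubgroup.nsmul_mem _ ?_ _) _
      exact ih _ (by push_cast at hk ⊢; omega)
  exact key ((m₁ : ℤ) - k).toNat k (by omega)

/-- **the classes of the regular vector bundles generate `Kvb (P^n_Y)`** -/
theorem closure_regular_eq_top : Hreg n Y = ⊤ := by
  have hQ0 : ∀ N : (KRR.PY n Y).Modules, IsZero N → KRR.vbP (KRR.PY n Y) N :=
    fun N hN => Groth.Agent.Lib.helper25.FLFKernel.isFinLocFree_of_isZero hN
  have hQiso : ∀ M N : (KRR.PY n Y).Modules, (M ≅ N) → KRR.vbP (KRR.PY n Y) M →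
      KRR.vbP (KRR.PY n Y) N :=
    fun M N e h => Groth.Agent.Lib.helper16.FLF.isFinLocFree_of_iso e h
  rw [eq_top_iff, ← Groth.Agent.Lib.helper7.K0API.closure_clSub (KRR.vbP (KRR.PY n Y))]
  refine (AddSubgroup.closure_le _).2 ?_
  rintro x ⟨F, hF, rfl⟩
  have h := cl_twF_mem_Hreg n Y hF 0
  rw [KRR.cl, clSub_iso (KRR.vbP (KRR.PY n Y)) hQ0 hQiso (twFZeroIso n Y F)] at h
  exact h

variable {n Y}

/-- induction principle on a model of `K(P^n_Y)` -/
theorem model_induction {KP : Type v} [CommRing KP] [LambdaRing.LambdaOps KP]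
    {PP : LambdaRing.PosStructure KP} {φP : SGA6.Kvb (KRR.PY n Y) →+ KP}
    (hKP : KRR.IsModel (KRR.PY n Y) KP PP φP) (S : AddSubgroup KP)
    (h : ∀ G : (KRR.PY n Y).Modules, FlatMod.IsFinLocFree G → KRR.IsRegSheaf n Y G →
      φP (KRR.cl (KRR.PY n Y) G) ∈ S) (x : KP) : x ∈ S := by
  obtain ⟨y, rfl⟩ := hKP.bijective.2 x
  have hy : y ∈ Hreg n Y := by rw [closure_regular_eq_top]; trivial
  have hle : Hreg n Y ≤ S.comap φP := by
    refine (AddSubgroup.closure_le _).2 ?_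
    rintro _ ⟨G, hG, hreg, rfl⟩
    exact h G hG hreg
  exact hle hy

omit [AlgebraicGeometry.IsNoetherian Y] in
/-- induction principle on a model of `K(Y)` -/
theorem model_induction_base {X : Scheme.{u}} {KY : Type v} [CommRing KY] [LambdaRing.LambdaOps KY]
    {PY : LambdaRing.PosStructure KY} {φY : SGA6.Kvb X →+ KY}
    (hKY : KRR.IsModel X KY PY φY) (S : AddSubgroup KY)
    (h : ∀ E : X.Modules, FlatMod.IsFinLocFree E → φY (KRR.cl X E) ∈ S) (y : KY) : y ∈ S := by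
  obtain ⟨z, rfl⟩ := hKY.bijective.2 y
  have hz : z ∈ (⊤ : AddSubgroup (SGA6.Kvb X)) := trivial
  rw [← Groth.Agent.Lib.helper7.K0API.closure_clSub (KRR.vbP X)] at hz
  have hle : AddSubgroup.closure {x : SGA6.Kvb X | ∃ F : X.Modules, KRR.vbP X F ∧
      x = clSub (KRR.vbP X) F} ≤ S.comap φY := by
    refine (AddSubgroup.closure_le _).2 ?_
    rintro _ ⟨E, hE, rfl⟩
    exact h E hE
  exact hle hz

end

end Groth.Agent.Lib.Helper20.KosPY
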