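import Mathlib
import Groth.Agent.Lib.Helper20.RelReg
import Groth.Agent.Lib.Helper20.PushReg
import Groth.Agent.Lib.Helper18.HHLoc1
import Groth.Agent.Lib.Helper18.HHConseq
import Groth.Agent.Lib.Helper18.HHZero
import Groth.Agent.Lib.Helper16.QCohEpi
import Groth.Agent.Lib.Helper7.QCohPushQC

/-!
# Regularity and short exact sequences (helper20)

* `isReg_X₂, isReg_X₃, isReg_X₁` : behaviour of `RegRing.IsReg` in short exact sequences on `P^n_A`.
* `GVSC n V hV S`, `GVSC_shortExact` : the transport `G_V` of `RelReg` applied to a short exact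
  sequence of modules on `P^n_Y`.
* `surjective_map_GVSC_g` : if `p_* S.g` is an epimorphism then `H⁰(G_V S.X₂) → H⁰(G_V S.X₃)` is onto.
-/

set_option autoImplicit false
universe u
open CategoryTheory CategoryTheory.Limits AlgebraicGeometry Opposite TopologicalSpace

namespace Groth.Agent.Lib.Helper20.RelRegSES

open Groth.Agent.Lib.Helper20.RegRing Groth.Agent.Lib.helper12.PnLocal
  Groth.Agent.Lib.Lead.ModTensor Groth.Agent.Lib.Helper20.TwistEquivPn
  Groth.Agent.Lib.Helper20.RelReg Groth.Agent.Lib.Helper18.HH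

section Ring

variable {n : ℕ} {A : Type u} [CommRing A] {S : ShortComplex (CohB1.ProjSpace n A).Modules}
  (hS : S.ShortExact)

include hS

theorem isReg_X₂ {m : ℤ} (h₁ : IsReg n A S.X₁ m) (h₃ : IsReg n A S.X₃ m) : IsReg n A S.X₂ m :=
  fun i hi => subsingleton_X₂ (shortExact_twistSC n A (m - i) hS) i (h₁ i hi) (h₃ i hi)

theorem isReg_X₃ {m : ℤ} (h₂ : IsReg n A S.X₂ m) (h₁ : IsReg n A S.X₁ (m + 1)) :
    IsReg n A S.X₃ m := by
  intro i hi
  have h := h₁ (i + 1) (by omega)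
  have e : m + 1 - ((i + 1 : ℕ) : ℤ) = m - i := by push_cast; ring
  rw [e] at h
  exact subsingleton_X₃ (shortExact_twistSC n A (m - i) hS) i (h₂ i hi) h

theorem isReg_X₁ {m : ℤ} (h₂ : IsReg n A S.X₂ m) (h₃ : IsReg n A S.X₃ (m - 1))
    (hsurj : Function.Surjective (map (twistSC n A (m - 1) S).g 0)) :
    IsReg n A S.X₁ m := by
  intro i hi
  obtain ⟨j, rfl⟩ : ∃ j, i = j + 1 := ⟨i - 1, by omega⟩
  have hSt := shortExact_twistSC n A (m - ((j + 1 : ℕ) : ℤ)) hS
  have h2 := h₂ (j + 1) hi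
  rcases Nat.eq_zero_or_pos j with rfl | hj
  · -- `H⁰(X₂) → H⁰(X₃) → H¹(X₁) → H¹(X₂) = 0`
    have e : m - ((0 + 1 : ℕ) : ℤ) = m - 1 := by push_cast; ring
    rw [e] at hSt h2 ⊢
    refine ⟨fun x y => ?_⟩
    have key : ∀ z : Coh.HH (CohB1.ProjSpace n A) (twistSC n A (m - 1) S).X₁ (0 + 1), z = 0 := by
      intro z
      obtain ⟨w, rfl⟩ := surjective_δ hSt 0 h2 z
      obtain ⟨v, rfl⟩ := hsurj w
      exact (exact₃ hSt 0).apply_apply_eq_zero v
    exact (key x).trans (key y).symm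
  · have h3 := h₃ j hj
    have e : m - 1 - (j : ℤ) = m - ((j + 1 : ℕ) : ℤ) := by push_cast; ring
    rw [e] at h3
    exact subsingleton_X₁_succ hSt j h3 h2

end Ring

section Ring2

variable {n : ℕ} {A : Type u} [CommRing A]

lemma twistZeroIso_naturality {M N : (CohB1.ProjSpace n A).Modules} (f : M ⟶ N) :
    tensorMap f (𝟙 (Twist.twistProjSpace n A 0)) ≫ (twistZeroIso n A N).hom =
      (twistZeroIso n A M).hom ≫ f := by
  change tensorMap f (𝟙 _) ≫ tensorMap (𝟙 N) _ ≫ (rightUnitor N).hom =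
    (tensorMap (𝟙 M) _ ≫ (rightUnitor M).hom) ≫ f
  rw [← Category.assoc, Groth.Agent.Lib.Helper20.TensorEquiv.tensorMap_exchange, Category.assoc,
    Groth.Agent.Lib.Helper20.TensorEquiv.rightUnitor_naturality, Category.assoc]

lemma surjective_map_of_isIso {X : Scheme.{u}} {M N : X.Modules} (f : M ⟶ N) [IsIso f] (i : ℕ) :
    Function.Surjective (map f i) := by
  intro y
  refine ⟨map (inv f) i y, ?_⟩
  rw [← map_comp_apply, IsIso.inv_hom_id, map_id]
  rfl

/-- surjectivity on `H⁰` is not affected by the twist by `O(0)` -/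
theorem surjective_map_twistSC_zero (S : ShortComplex (CohB1.ProjSpace n A).Modules)
    (h : Function.Surjective (map S.g 0)) :
    Function.Surjective (map (twistSC n A 0 S).g 0) := by
  have e : (twistSC n A 0 S).g =
      ((twistZeroIso n A S.X₂).hom ≫ S.g) ≫ (twistZeroIso n A S.X₃).inv := by
    rw [← twistZeroIso_naturality, Category.assoc, Iso.hom_inv_id, Category.comp_id]
    rfl
  rw [e]
  intro y
  obtain ⟨y1, hy1⟩ := surjective_map_of_isIso (twistZeroIso n A S.X₃).inv 0 y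
  obtain ⟨y2, hy2⟩ := h y1
  obtain ⟨y3, hy3⟩ := surjective_map_of_isIso (twistZeroIso n A S.X₂).hom 0 y2
  refine ⟨y3, ?_⟩
  have h1 := map_comp_apply ((twistZeroIso n A S.X₂).hom ≫ S.g) (twistZeroIso n A S.X₃).inv 0 y3
  have h2 := map_comp_apply (twistZeroIso n A S.X₂).hom S.g 0 y3
  rw [h2, hy3, hy2, hy1] at h1
  exact h1

end Ring2

section Pn

variable (n : ℕ) {Y : Scheme.{u}} (V : Y.Opens) (hV : IsAffineOpen V)

/-- `G_V` applied to a short complex -/
noncomputable def GVSC (S : ShortComplex (KRR.PY n Y).Modules) :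
    ShortComplex (CohB1.ProjSpace n Γ(Y, V)).Modules :=
  (S.map (Scheme.Modules.restrictFunctor (KRR.pr n Y ⁻¹ᵁ V).ι)).map
    (Scheme.Modules.pushforward (theta n V hV).hom)

@[simp] lemma GVSC_X₁ (S : ShortComplex (KRR.PY n Y).Modules) :
    (GVSC n V hV S).X₁ = GV n V hV S.X₁ := rfl
@[simp] lemma GVSC_X₂ (S : ShortComplex (KRR.PY n Y).Modules) :
    (GVSC n V hV S).X₂ = GV n V hV S.X₂ := rfl
@[simp] lemma GVSC_X₃ (S : ShortComplex (KRR.PY n Y).Modules) :
    (GVSC n V hV S).X₃ = GV n V hV S.X₃ := rfl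

theorem GVSC_shortExact {S : ShortComplex (KRR.PY n Y).Modules} (hS : S.ShortExact)
    [S.X₁.IsQuasicoherent] : (GVSC n V hV S).ShortExact := by
  have h1 := Groth.Agent.Lib.Helper18.HHLoc.restrict_shortExact (KRR.pr n Y ⁻¹ᵁ V) hS
  haveI : (S.map (Scheme.Modules.restrictFunctor (KRR.pr n Y ⁻¹ᵁ V).ι)).X₁.IsQuasicoherent :=
    inferInstanceAs (S.X₁.restrict (KRR.pr n Y ⁻¹ᵁ V).ι).IsQuasicoherent
  exact Groth.Agent.Lib.helper20.PushReg.shortExact_push (theta n V hV).hom h1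

lemma surjective_app_congr {X : Scheme.{u}} {M N : X.Modules} (f : M ⟶ N) {U U' : X.Opens}
    (h : U = U') (hs : Function.Surjective (f.val.app (op U)).hom) :
    Function.Surjective (f.val.app (op U')).hom := by
  subst h; exact hs

/-- if `p_* S.g` is an epimorphism (of quasi-coherent modules) then `H⁰(G_V X₂) → H⁰(G_V X₃)` is
surjective -/
theorem surjective_map_GVSC_g (S : ShortComplex (KRR.PY n Y).Modules)
    [S.X₂.IsQuasicoherent] [S.X₃.IsQuasicoherent]
    (hepi : Epi ((Scheme.Modules.pushforward (KRR.pr n Y)).map S.g)) :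
    Function.Surjective (map (GVSC n V hV S).g 0) := by
  have : IsProper (KRR.pr n Y) := Groth.Agent.Lib.helper19.ProjSpaceProper.proper_toBase n Y
  have := Groth.Agent.Lib.helper7.QCohPushQC.isQuasicoherent_pushforward (KRR.pr n Y) S.X₂
  have := Groth.Agent.Lib.helper7.QCohPushQC.isQuasicoherent_pushforward (KRR.pr n Y) S.X₃
  have h1 := Groth.Agent.Lib.helper16.QCohEpi.surjective_app_of_epi
    ((Scheme.Modules.pushforward (KRR.pr n Y)).map S.g) hV
  have hU : KRR.pr n Y ⁻¹ᵁ V = (KRR.pr n Y ⁻¹ᵁ V).ι ''ᵁ ((theta n V hV).hom ⁻¹ᵁ ⊤) := by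
    simp
  have h2 : Function.Surjective ((GVSC n V hV S).g.val.app (op ⊤)).hom :=
    surjective_app_congr S.g hU h1
  intro y
  obtain ⟨s, hs⟩ := h2 (equiv₀ _ y)
  refine ⟨(equiv₀ _).symm s, ?_⟩
  apply (equiv₀ _).injective
  rw [equiv₀_naturality, LinearEquiv.apply_symm_apply, hs]

end Pn

end Groth.Agent.Lib.Helper20.RelRegSES
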