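import Groth.Agent.Lib.Helper20.K0Co
import Groth.Agent.Lib.Helper20.KosPY6
import Groth.Agent.Lib.Helper20.RelRegSES
import Groth.Agent.Lib.Helper12.TensorCocont
import Groth.Agent.Lib.Helper7.QCohExt
import Groth.Agent.Lib.Helper7.QCohProd
import Groth.Agent.Lib.Helper7.CohKer

/-!
# `K₀` of regular vector bundles on `P^n_Y` (helper20)

* `IsRegAt n Y m F`: `F` is `m`-regular relative to `P^n_Y → Y` (checked on the charts `G_V F`).
* `exists_coresolution`: for `A` a vector bundle, `(k+1)`-regular: `0 → A → A(1)^{n+1} → K' → 0` with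
  `A(1)^{n+1}`, `K'` `k`-regular vector bundles (first step of the Koszul complex).
* `regular_K0_bijective`: `K₀(regular vector bundles) → K₀(vector bundles)` is bijective (`Y` Noetherian).
-/

set_option autoImplicit false
universe u

open CategoryTheory CategoryTheory.Limits AlgebraicGeometry Opposite TopologicalSpace

namespace Groth.Agent.Lib.Helper20.RegK0

open Groth.Agent.Lib.Helper20.RegRing Groth.Agent.Lib.Helper20.RelReg
  Groth.Agent.Lib.Helper20.RelRegSES Groth.Agent.Lib.Helper20.KosPY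
  Groth.Agent.Lib.helper12.PnLocal Groth.Agent.Lib.Lead.ModTensor
  Groth.Agent.Lib.helper20.KosCone Groth.Agent.Lib.helper20.KosChase
  Groth.Agent.Lib.Helper20.K0Co

noncomputable section

variable (n : ℕ) (Y : Scheme.{u})

/-- `F` is `m`-regular relative to `P^n_Y → Y` -/
def IsRegAt (m : ℤ) (F : (KRR.PY n Y).Modules) : Prop :=
  ∀ (V : Y.Opens) (hV : IsAffineOpen V), IsReg n Γ(Y, V) (GV n V hV F) m

variable {n Y}

theorem isRegAt_of_iso {F F' : (KRR.PY n Y).Modules} (e : F ≅ F') {m : ℤ}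
    (h : IsRegAt n Y m F) : IsRegAt n Y m F' :=
  fun V hV => isReg_of_iso ((Scheme.Modules.pushforward (theta n V hV).hom).mapIso
    ((Scheme.Modules.restrictFunctor (KRR.pr n Y ⁻¹ᵁ V).ι).mapIso e)) (h V hV)

theorem isRegAt_of_isZero {F : (KRR.PY n Y).Modules} (hF : IsZero F) (m : ℤ) :
    IsRegAt n Y m F := by
  intro V hV i hi
  haveI : (Scheme.Modules.restrictFunctor (KRR.pr n Y ⁻¹ᵁ V).ι).Additive :=
    (Scheme.Modules.restrictAdjunction (KRR.pr n Y ⁻¹ᵁ V).ι).left_adjoint_additive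
  haveI : (Scheme.Modules.pushforward (theta n V hV).hom).Additive :=
    (Scheme.Modules.pullbackPushforwardAdjunction (theta n V hV).hom).right_adjoint_additive
  have h1 : IsZero (GV n V hV F) :=
    (Scheme.Modules.pushforward (theta n V hV).hom).map_isZero
      ((Scheme.Modules.restrictFunctor (KRR.pr n Y ⁻¹ᵁ V).ι).map_isZero hF)
  haveI : (Groth.Agent.Lib.Helper20.TensorEquiv.tensorRight
      (Twist.twistProjSpace n Γ(Y, V) (m - i))).Additive :=
    Groth.Agent.Lib.helper12.TensorCocont.additive_tensorRight _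
  have h2 : IsZero (CohB1.tensorMod (GV n V hV F) (Twist.twistProjSpace n Γ(Y, V) (m - i))) :=
    (Groth.Agent.Lib.Helper20.TensorEquiv.tensorRight _).map_isZero h1
  exact Groth.Agent.Lib.helper20.KosChase.subsingleton_HH_of_isZero h2 i

theorem isRegAt_X₂ {S : ShortComplex (KRR.PY n Y).Modules} (hS : S.ShortExact)
    [S.X₁.IsQuasicoherent] {m : ℤ} (h₁ : IsRegAt n Y m S.X₁) (h₃ : IsRegAt n Y m S.X₃) :
    IsRegAt n Y m S.X₂ :=
  fun V hV => isReg_X₂ (GVSC_shortExact n V hV hS) (h₁ V hV) (h₃ V hV)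

theorem isRegAt_X₃ {S : ShortComplex (KRR.PY n Y).Modules} (hS : S.ShortExact)
    [S.X₁.IsQuasicoherent] {m : ℤ} (h₂ : IsRegAt n Y m S.X₂) (h₁ : IsRegAt n Y (m + 1) S.X₁) :
    IsRegAt n Y m S.X₃ :=
  fun V hV => isReg_X₃ (GVSC_shortExact n V hV hS) (h₂ V hV) (h₁ V hV)

theorem isRegAt_of_le {F : (KRR.PY n Y).Modules} [F.IsQuasicoherent] {m m' : ℤ} (hm : m ≤ m')
    (h : IsRegAt n Y m F) : IsRegAt n Y m' F :=
  fun V hV => isReg_of_le (isQuasicoherent_GV n V hV F) (h V hV) m' hm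

theorem isRegAt_twF_iff (F : (KRR.PY n Y).Modules) (d m : ℤ) :
    IsRegAt n Y m (KRR.twF n Y d F) ↔ IsRegAt n Y (d + m) F := by
  constructor
  · intro h V hV
    obtain ⟨e⟩ := nonempty_GV_twF_iso n V hV F d
    exact (isReg_twist_iff (GV n V hV F) d m).1 (isReg_of_iso e (h V hV))
  · intro h V hV
    obtain ⟨e⟩ := nonempty_GV_twF_iso n V hV F d
    exact isReg_of_iso e.symm ((isReg_twist_iff (GV n V hV F) d m).2 (h V hV))

theorem isRegSheaf_iff_isRegAt (F : (KRR.PY n Y).Modules) [F.IsQuasicoherent] :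
    KRR.IsRegSheaf n Y F ↔ IsRegAt n Y 0 F :=
  isRegSheaf_iff n Y F

theorem isQC_of_vb {X : Scheme.{u}} {M : X.Modules} (hM : FlatMod.IsFinLocFree M) :
    M.IsQuasicoherent :=
  (Groth.Agent.Lib.Lead.RankAdd.isCoh_of_isFinLocFree hM).1

theorem isRegAt_sigma {m : ℤ} (r : ℕ) (f : Fin r → (KRR.PY n Y).Modules)
    (hq : ∀ j, (f j).IsQuasicoherent) (h : ∀ j, IsRegAt n Y m (f j)) : IsRegAt n Y m (∐ f) := by
  have key := prop_sigma (fun M : (KRR.PY n Y).Modules => M.IsQuasicoherent ∧ IsRegAt n Y m M)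
    (fun N hN => ⟨Groth.Agent.Lib.helper7.CohKer.isQuasicoherent_of_isZero hN,
      isRegAt_of_isZero hN m⟩)
    (fun M N e hM => ⟨Groth.Agent.Lib.helper7.QCohProd.isQuasicoherent_of_iso e hM.1,
      isRegAt_of_iso e hM.2⟩)
    (fun S hS h1 h3 => by
      haveI := h1.1
      haveI := h3.1
      exact ⟨Groth.Agent.Lib.helper7.QCohExt.isQuasicoherent_of_extension S hS,
        isRegAt_X₂ hS h1.2 h3.2⟩)
    r f (fun j => ⟨hq j, h j⟩)
  exact key.2

/-- a coproduct of one copy -/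
def sigmaOneIso {A : Type*} [Category A] [HasFiniteCoproducts A] (r : ℕ) (hr : r = 1) (M : A) :
    (∐ fun _ : Fin r => M) ≅ M := by
  subst hr
  exact coproductUniqueIso (fun _ : Fin 1 => M)

section LN

variable [IsLocallyNoetherian Y]

/-- the first step of the Koszul complex: `0 → A → A(1)^{n+1} → K' → 0` -/
theorem exists_coresolution {A : (KRR.PY n Y).Modules} (hA : FlatMod.IsFinLocFree A) (k : ℤ)
    (hreg : IsRegAt n Y (k + 1) A) :
    ∃ (K' L : (KRR.PY n Y).Modules) (i : A ⟶ L) (p : L ⟶ K') (w : i ≫ p = 0),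
      (ShortComplex.mk i p w).ShortExact ∧ (FlatMod.IsFinLocFree L ∧ IsRegAt n Y k L) ∧
        (FlatMod.IsFinLocFree K' ∧ IsRegAt n Y k K') := by
  haveI hAq : A.IsQuasicoherent := isQC_of_vb hA
  set K := (kos (grOpY n Y A) (n + 1)).M 0 with hK
  set q0 : ℤ := -((n + 1 : ℕ) : ℤ) with hq0
  have hQ0 : ∀ N : (KRR.PY n Y).Modules, IsZero N → FlatMod.IsFinLocFree N :=
    fun N hN => Groth.Agent.Lib.helper25.FLFKernel.isFinLocFree_of_isZero hN
  have hQiso : ∀ M N : (KRR.PY n Y).Modules, (M ≅ N) → FlatMod.IsFinLocFree M →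
      FlatMod.IsFinLocFree N :=
    fun M N e h => Groth.Agent.Lib.helper16.FLF.isFinLocFree_of_iso e h
  have hQext : ∀ S : ShortComplex (KRR.PY n Y).Modules, S.ShortExact →
      FlatMod.IsFinLocFree S.X₁ → FlatMod.IsFinLocFree S.X₃ → FlatMod.IsFinLocFree S.X₂ :=
    fun S hS h1 h3 => Groth.Agent.Lib.Helper20.K0Reg.vb_ext S hS h1 h3
  have hex : ∀ q, K.ExactAt q := fun q => kosY_exactAt n Y A 0 q
  have hterm : ∀ (i : ℤ) (j : ℕ), i + ((n + 1 : ℕ) : ℤ) = j → FlatMod.IsFinLocFree (K.X i) := by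
    intro i j hij
    obtain ⟨e⟩ := kosY_X_iso n Y A 0 i j hij
    exact hQiso _ _ e.symm (prop_sigma (fun M => FlatMod.IsFinLocFree M) hQ0 hQiso hQext _ _
      (fun _ => isFinLocFree_twF n Y hA _))
  have hX : ∀ q, FlatMod.IsFinLocFree (K.X q) := by
    intro q
    by_cases h1 : 0 < q ∨ q + ((n + 1 : ℕ) : ℤ) < 0
    · exact hQ0 _ (kosY_isZero n Y A 0 q h1)
    · push_neg at h1
      exact hterm q (q + ((n + 1 : ℕ) : ℤ)).toNat (by omega)
  have hZ := isFinLocFree_cycles K hex hX 0 (fun q hq => kosY_isZero n Y A 0 q (Or.inl hq))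
  -- `A ≅ K^{q0}`
  obtain ⟨e0⟩ := kosY_X_iso n Y A 0 q0 0 (by rw [hq0]; simp)
  let eA : K.X q0 ≅ A :=
    e0 ≪≫ sigmaOneIso ((n + 1).choose 0) (Nat.choose_zero_right _) _ ≪≫
      (by rw [show (0 : ℤ) + ((0 : ℕ) : ℤ) = 0 by simp]; exact twFZeroIso n Y A)
  -- `K^{q0+1} ≅ ∐ A(1)`
  obtain ⟨e1⟩ := kosY_X_iso n Y A 0 (q0 + 1) 1 (by rw [hq0]; push_cast; ring)
  -- `Z^{q0} = 0`
  have hZ0 : IsZero (K.cycles q0) := by
    have hX0 : IsZero (K.X (q0 - 1)) :=
      kosY_isZero n Y A 0 (q0 - 1) (Or.inr (by rw [hq0]; omega))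
    haveI : Epi (K.toCycles (q0 - 1) q0) :=
      epi_toCycles_of_exactAt K (q0 - 1) q0 (by simp) (hex q0)
    exact IsZero.of_epi_eq_zero (K.toCycles (q0 - 1) q0) (hX0.eq_of_src _ _)
  have hS1 := cyclesSC_shortExact K q0 (hex (q0 + 1))
  haveI : Mono (K.toCycles q0 (q0 + 1)) :=
    hS1.exact.mono_g (hZ0.eq_of_src _ _)
  haveI : Epi (K.toCycles q0 (q0 + 1)) := hS1.epi_g
  haveI : IsIso (K.toCycles q0 (q0 + 1)) := isIso_of_mono_of_epi _
  let φ : K.X q0 ≅ K.cycles (q0 + 1) := asIso (K.toCycles q0 (q0 + 1))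
  have hS2 := cyclesSC_shortExact K (q0 + 1) (hex (q0 + 1 + 1))
  let ψ : A ≅ K.cycles (q0 + 1) := eA.symm ≪≫ φ
  have w : (ψ.hom ≫ K.iCycles (q0 + 1)) ≫ K.toCycles (q0 + 1) (q0 + 1 + 1) = 0 := by
    have hz : K.iCycles (q0 + 1) ≫ K.toCycles (q0 + 1) (q0 + 1 + 1) = 0 :=
      (cyclesSC K (q0 + 1)).zero
    rw [Category.assoc, hz, comp_zero]
  have hS : (ShortComplex.mk (ψ.hom ≫ K.iCycles (q0 + 1))
      (K.toCycles (q0 + 1) (q0 + 1 + 1)) w).ShortExact := by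
    refine ShortComplex.shortExact_of_iso (S₁ := cyclesSC K (q0 + 1))
      (ShortComplex.isoMk ψ.symm (Iso.refl _) (Iso.refl _) ?_ ?_) hS2
    · dsimp [cyclesSC]
      rw [Category.comp_id, Iso.inv_hom_id_assoc]
    · dsimp [cyclesSC]
      rw [Category.comp_id, Category.id_comp]
  have hL : IsRegAt n Y k (K.X (q0 + 1)) := by
    refine isRegAt_of_iso e1.symm (isRegAt_sigma _ _ (fun _ => isQuasicoherent_twF n Y A _)
      (fun _ => ?_))
    rw [isRegAt_twF_iff]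
    have e : (0 : ℤ) + ((1 : ℕ) : ℤ) + k = k + 1 := by push_cast; ring
    rw [e]
    exact hreg
  refine ⟨K.cycles (q0 + 1 + 1), K.X (q0 + 1), ψ.hom ≫ K.iCycles (q0 + 1),
    K.toCycles (q0 + 1) (q0 + 1 + 1), w, hS, ⟨hX _, hL⟩, ⟨hZ _, ?_⟩⟩
  exact isRegAt_X₃ (S := ShortComplex.mk (ψ.hom ≫ K.iCycles (q0 + 1))
    (K.toCycles (q0 + 1) (q0 + 1 + 1)) w) hS hL hreg

variable (n Y)

/-- `k`-regular vector bundles -/
def Pk (k : ℕ) : ObjectProperty (KRR.PY n Y).Modules :=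
  fun M => FlatMod.IsFinLocFree M ∧ IsRegAt n Y (k : ℤ) M

theorem Pk_mono (k : ℕ) (X : (KRR.PY n Y).Modules) (hX : Pk n Y k X) : Pk n Y (k + 1) X := by
  haveI := isQC_of_vb hX.1
  exact ⟨hX.1, isRegAt_of_le (by push_cast; omega) hX.2⟩

theorem Pk_ext (k : ℕ) (S : ShortComplex (KRR.PY n Y).Modules) (hS : S.ShortExact)
    (h1 : Pk n Y k S.X₁) (h3 : Pk n Y k S.X₃) : Pk n Y k S.X₂ := by
  haveI := isQC_of_vb h1.1
  exact ⟨Groth.Agent.Lib.Helper20.K0Reg.vb_ext S hS h1.1 h3.1, isRegAt_X₂ hS h1.2 h3.2⟩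

theorem Pk_step (k : ℕ) :
    Function.Bijective (SGA6.mapSub (𝟭 (KRR.PY n Y).Modules) (Pk n Y k) (Pk n Y (k + 1))
      (Pk_mono n Y k)) := by
  refine oneStep_bijective_dual (Pk n Y k) (Pk n Y (k + 1)) (Pk_mono n Y k) (Pk_ext n Y k)
    (Pk_ext n Y (k + 1)) ?_ ?_
  · intro A hA
    have hreg : IsRegAt n Y ((k : ℤ) + 1) A := by
      have := hA.2
      push_cast at this
      exact this
    obtain ⟨K', L, i, p, w, hS, hL, hK'⟩ := exists_coresolution hA.1 (k : ℤ) hreg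
    exact ⟨K', L, i, p, w, hS, hL, hK'⟩
  · intro S hS h1 h2 h3
    haveI := isQC_of_vb h1.1
    refine ⟨h3.1, isRegAt_X₃ hS h2.2 ?_⟩
    have := h1.2
    push_cast at this
    exact this

end LN

section Main

variable (n Y) [IsNoetherian Y]

/-- **`K₀` of the regular vector bundles on `P^n_Y` is `K₀` of all vector bundles.** -/
theorem regular_K0_bijective
    (h : ∀ M : (KRR.PY n Y).Modules, FlatMod.IsFinLocFree M ∧ KRR.IsRegSheaf n Y M →
      FlatMod.IsFinLocFree M) :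
    Function.Bijective (SGA6.mapSub (𝟭 (KRR.PY n Y).Modules)
      (fun M : (KRR.PY n Y).Modules => FlatMod.IsFinLocFree M ∧ KRR.IsRegSheaf n Y M)
      (KRR.vbP (KRR.PY n Y)) h) := by
  have hle : ∀ (k : ℕ) (X : (KRR.PY n Y).Modules), Pk n Y k X → KRR.vbP (KRR.PY n Y) X :=
    fun k X hX => hX.1
  have hex : ∀ X : (KRR.PY n Y).Modules, KRR.vbP (KRR.PY n Y) X → ∃ k, Pk n Y k X := by
    intro X hX
    haveI := isQC_of_vb hX
    obtain ⟨m₁, hm⟩ := exists_isRegSheaf_twF n Y X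
      (Groth.Agent.Lib.Lead.RankAdd.isCoh_of_isFinLocFree hX)
    refine ⟨m₁, hX, ?_⟩
    have h1 := hm m₁ le_rfl
    haveI := isQuasicoherent_twF n Y X (m₁ : ℤ)
    rw [isRegSheaf_iff_isRegAt, isRegAt_twF_iff, add_zero] at h1
    exact h1
  have hU := chain_union_bijective (Pk n Y) (KRR.vbP (KRR.PY n Y)) (Pk_mono n Y) hle hex
    (Pk_step n Y)
  have h0 : ∀ X : (KRR.PY n Y).Modules,
      (FlatMod.IsFinLocFree X ∧ KRR.IsRegSheaf n Y X) → Pk n Y 0 X := by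
    intro X hX
    haveI := isQC_of_vb hX.1
    refine ⟨hX.1, ?_⟩
    have := (isRegSheaf_iff_isRegAt X).1 hX.2
    simpa using this
  have h0' : ∀ X : (KRR.PY n Y).Modules, Pk n Y 0 X →
      (FlatMod.IsFinLocFree X ∧ KRR.IsRegSheaf n Y X) := by
    intro X hX
    haveI := isQC_of_vb hX.1
    refine ⟨hX.1, (isRegSheaf_iff_isRegAt X).2 ?_⟩
    have := hX.2
    simpa using this
  have hB := mapSub_bijective_of_iff
    (fun M : (KRR.PY n Y).Modules => FlatMod.IsFinLocFree M ∧ KRR.IsRegSheaf n Y M)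
    (Pk n Y 0) h0 h0'
  have hcomp := Groth.Agent.Lib.helper13.K0Res.mapSub_comp
    (fun M : (KRR.PY n Y).Modules => FlatMod.IsFinLocFree M ∧ KRR.IsRegSheaf n Y M)
    (Pk n Y 0) (KRR.vbP (KRR.PY n Y)) h0 (hle 0)
  have : (SGA6.mapSub (𝟭 (KRR.PY n Y).Modules)
      (fun M : (KRR.PY n Y).Modules => FlatMod.IsFinLocFree M ∧ KRR.IsRegSheaf n Y M)
      (KRR.vbP (KRR.PY n Y)) h : _ → _) =
      (SGA6.mapSub (𝟭 (KRR.PY n Y).Modules) (Pk n Y 0) (KRR.vbP (KRR.PY n Y)) (hle 0)) ∘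
        (SGA6.mapSub (𝟭 (KRR.PY n Y).Modules)
          (fun M : (KRR.PY n Y).Modules => FlatMod.IsFinLocFree M ∧ KRR.IsRegSheaf n Y M)
          (Pk n Y 0) h0) := by
    funext x
    exact (DFunLike.congr_fun hcomp x).symm
  rw [this]
  exact hU.comp hB

end Main

end

end Groth.Agent.Lib.Helper20.RegK0
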