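import Groth.Agent.Lib.Helper20.PullSES
import Groth.Agent.Lib.Helper20.KosPY6
import Groth.Agent.Lib.Helper20.RegK0
import Groth.Agent.Lib.Helper7.K0API
import Groth.Agent.S3754
import Groth.Agent.S3756
import Groth.Agent.S3758

/-!
# The pull-back `f^K` and the push-forward `p_K` on models of `K(X)` exist and are unique (helper20)

* `exists_pullK f`: `f^* : Kvb Y →+ Kvb X` (pull-back is exact on short exact sequences of bundles).
* `existsUnique_isPull`.
* `exists_pushK n Y`: `p_* : K₀(regular bundles on P^n_Y) →+ Kvb Y`.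
* `existsUnique_isPushPr`.
-/

set_option autoImplicit false
universe v u

open CategoryTheory AlgebraicGeometry Opposite TopologicalSpace

namespace Groth.Agent.Lib.Helper20.KModelMaps

open Groth.Agent.Lib.Helper20.KosPY Groth.Agent.Lib.Helper20.RegK0 Groth.Agent.Lib.helper8.Dev
  Groth.Agent.Lib.helper7.K0API KZero

noncomputable section

section Pull

variable {X Y : Scheme.{u}} (f : X ⟶ Y)

/-- the pull-back on `K₀` of vector bundles -/
theorem exists_pullK : ∃ ψ : SGA6.Kvb Y →+ SGA6.Kvb X, ∀ E : Y.Modules, FlatMod.IsFinLocFree E →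
    ψ (KRR.cl Y E) = KRR.cl X ((Scheme.Modules.pullback f).obj E) := by
  refine exists_lift_K0sub (KRR.vbP Y) (fun E => KRR.cl X ((Scheme.Modules.pullback f).obj E)) ?_
  intro S hS h1 h2 h3
  haveI := isQC_of_vb h1
  haveI := isQC_of_vb h2
  have hS' := Groth.Agent.Lib.Helper20.PullSES.shortExact_map_pullback f S hS h3
  exact clSub_rel (KRR.vbP X) _ hS'
    (Groth.Agent.Lib.helper16.FLF.isFinLocFree_pullback _ h1)
    (Groth.Agent.Lib.helper16.FLF.isFinLocFree_pullback _ h2)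
    (Groth.Agent.Lib.helper16.FLF.isFinLocFree_pullback _ h3)

variable {KX : Type v} [CommRing KX] [LambdaRing.LambdaOps KX] {PX : LambdaRing.PosStructure KX}
  {φX : SGA6.Kvb X →+ KX}
  {KY : Type v} [CommRing KY] [LambdaRing.LambdaOps KY] {PY : LambdaRing.PosStructure KY}
  {φY : SGA6.Kvb Y →+ KY} (hKY : KRR.IsModel Y KY PY φY)

include hKY in
/-- **`f^K` exists and is unique** -/
theorem existsUnique_isPull : ∃! g : KY →+ KX, KRR.IsPull f φY φX g := by
  obtain ⟨ψ, hψ⟩ := exists_pullK f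
  let eY : SGA6.Kvb Y ≃+ KY := AddEquiv.ofBijective φY hKY.bijective
  have key : ∀ E : Y.Modules, FlatMod.IsFinLocFree E →
      ((φX.comp ψ).comp eY.symm.toAddMonoidHom) (φY (KRR.cl Y E)) =
        φX (KRR.cl X ((Scheme.Modules.pullback f).obj E)) := by
    intro E hE
    have h1 : eY.symm (φY (KRR.cl Y E)) = KRR.cl Y E := eY.symm_apply_apply _
    show φX (ψ (eY.symm (φY (KRR.cl Y E)))) = _
    rw [h1, hψ E hE]
  refine ⟨(φX.comp ψ).comp eY.symm.toAddMonoidHom, key, ?_⟩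
  intro g' hg'
  ext y
  let S : AddSubgroup KY := g'.eqLocus ((φX.comp ψ).comp eY.symm.toAddMonoidHom)
  have hy : y ∈ S := by
    refine model_induction_base hKY S (fun E hE => ?_) y
    show g' (φY (KRR.cl Y E)) = ((φX.comp ψ).comp eY.symm.toAddMonoidHom) (φY (KRR.cl Y E))
    rw [hg' E hE, key E hE]
  exact hy

end Pull

section Push

variable (n : ℕ) (Y : Scheme.{u}) [IsNoetherian Y]

/-- regular vector bundles on `P^n_Y` -/
abbrev Preg : ObjectProperty (KRR.PY n Y).Modules :=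
  fun M : (KRR.PY n Y).Modules => FlatMod.IsFinLocFree M ∧ KRR.IsRegSheaf n Y M

theorem acyc_of_preg {F : (KRR.PY n Y).Modules} (h : Preg n Y F) : Acyc (KRR.pr n Y) F :=
  fun i hi => (Groth.Agent.S3754.result n Y F
    (Groth.Agent.Lib.Lead.RankAdd.isCoh_of_isFinLocFree h.1) h.2).2 i hi

/-- the push-forward on `K₀` of regular vector bundles -/
theorem exists_pushK : ∃ ψ : KZero.K0sub (Preg n Y) →+ SGA6.Kvb Y,
    ∀ F : (KRR.PY n Y).Modules, Preg n Y F →
      ψ (KZero.clSub (Preg n Y) F) = KRR.cl Y ((Scheme.Modules.pushforward (KRR.pr n Y)).obj F) := by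
  refine exists_lift_K0sub (Preg n Y)
    (fun F => KRR.cl Y ((Scheme.Modules.pushforward (KRR.pr n Y)).obj F)) ?_
  intro S hS h1 h2 h3
  have hS' := (acyc_X₃ hS (acyc_of_preg n Y h1) (acyc_of_preg n Y h2)).2
  exact clSub_rel (KRR.vbP Y) _ hS'
    (Groth.Agent.S3756.result n Y _ h1.1 h1.2)
    (Groth.Agent.S3756.result n Y _ h2.1 h2.2)
    (Groth.Agent.S3756.result n Y _ h3.1 h3.2)

variable {n Y}
variable {KP : Type v} [CommRing KP] [LambdaRing.LambdaOps KP] {PP : LambdaRing.PosStructure KP}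
  {φP : SGA6.Kvb (KRR.PY n Y) →+ KP} (hKP : KRR.IsModel (KRR.PY n Y) KP PP φP)
  {KY : Type v} [CommRing KY] [LambdaRing.LambdaOps KY] {PY : LambdaRing.PosStructure KY}
  {φY : SGA6.Kvb Y →+ KY}

include hKP in
/-- **`p_K` exists and is unique** -/
theorem existsUnique_isPushPr : ∃! g : KP →+ KY, KRR.IsPushPr n Y φP φY g := by
  obtain ⟨ψ, hψ⟩ := exists_pushK n Y
  let eP : SGA6.Kvb (KRR.PY n Y) ≃+ KP := AddEquiv.ofBijective φP hKP.bijective
  have hle : ∀ M : (KRR.PY n Y).Modules, Preg n Y M → FlatMod.IsFinLocFree M := fun M h => h.1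
  let eR : KZero.K0sub (Preg n Y) ≃+ SGA6.Kvb (KRR.PY n Y) :=
    AddEquiv.ofBijective (SGA6.mapSub (𝟭 (KRR.PY n Y).Modules) (Preg n Y) (KRR.vbP (KRR.PY n Y)) hle)
      (Groth.Agent.S3758.result n Y hle)
  let g₀ : KP →+ KY := ((φY.comp ψ).comp eR.symm.toAddMonoidHom).comp eP.symm.toAddMonoidHom
  have key : ∀ F : (KRR.PY n Y).Modules, FlatMod.IsFinLocFree F → KRR.IsRegSheaf n Y F →
      g₀ (φP (KRR.cl (KRR.PY n Y) F)) =
        φY (KRR.cl Y ((Scheme.Modules.pushforward (KRR.pr n Y)).obj F)) := by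
    intro F hF hreg
    have h1 : eP.symm (φP (KRR.cl (KRR.PY n Y) F)) = KRR.cl (KRR.PY n Y) F :=
      eP.symm_apply_apply _
    have h2 : eR (KZero.clSub (Preg n Y) F) = KRR.cl (KRR.PY n Y) F := by
      have e1 : KZero.clSub (Preg n Y) F =
          Groth.Agent.Lib.helper13.K0Res.cls (Preg n Y) F ⟨hF, hreg⟩ := clSub_of _ _ _
      have e2 : KRR.cl (KRR.PY n Y) F =
          Groth.Agent.Lib.helper13.K0Res.cls (KRR.vbP (KRR.PY n Y)) F hF := clSub_of _ _ _
      rw [e1, e2]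
      exact Groth.Agent.Lib.helper13.K0Res.mapSub_cls _ _ hle F ⟨hF, hreg⟩
    have h3 : eR.symm (KRR.cl (KRR.PY n Y) F) = KZero.clSub (Preg n Y) F := by
      rw [← h2]; exact eR.symm_apply_apply _
    show φY (ψ (eR.symm (eP.symm (φP (KRR.cl (KRR.PY n Y) F))))) = _
    rw [h1, h3, hψ F ⟨hF, hreg⟩]
  refine ⟨g₀, key, ?_⟩
  intro g' hg'
  ext z
  let S : AddSubgroup KP := g'.eqLocus g₀
  have hz : z ∈ S := by
    refine model_induction hKP S (fun G hG hreg => ?_) z
    show g' (φP (KRR.cl (KRR.PY n Y) G)) = g₀ (φP (KRR.cl (KRR.PY n Y) G))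
    rw [hg' G hG hreg, key G hG hreg]
  exact hz

end Push

end

end Groth.Agent.Lib.Helper20.KModelMaps
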