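import Groth.Agent.Lib.Helper20.PushClK
import Groth.Agent.Lib.Helper20.EulerRes2
import Groth.Agent.Lib.Helper20.KModelMaps
import Groth.Agent.Lib.Helper18.HHLoc1
import Groth.Agent.Lib.Helper7.RestrictSupport

/-!
# Pull-back of `F_K` along a morphism missing the image of `F` vanishes (helper20)
-/

set_option autoImplicit false
universe v u v' u'

open CategoryTheory CategoryTheory.Limits AlgebraicGeometry Opposite TopologicalSpace

namespace Groth.Agent.Lib.Helper20.EulerRes

open Groth.Agent.Lib.Helper20.K0LFRes Groth.Agent.Lib.helper8.Dev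

variable {C : Type u} [Category.{v} C] [Abelian C] {D : Type u'} [Category.{v'} D] [Abelian D]
  (G : C ⥤ D) [G.PreservesZeroMorphisms]
  (hG : ∀ S : ShortComplex C, S.ShortExact → (S.map G).ShortExact)
  (hG0 : ∀ N : C, IsZero N → IsZero (G.obj N))
  (Q : ObjectProperty D)
  (hker : ∀ S : ShortComplex D, S.ShortExact → Q S.X₂ → Q S.X₃ → Q S.X₁)
  (hQ0 : ∀ N : D, IsZero N → Q N)

include hG hG0 hker hQ0 in
/-- Euler characteristic of the image of a finite resolution, for a class closed under kernels of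
epimorphisms -/
theorem clSub_map_eq_alt_sum_of_ker (L : ChainComplex C ℕ) (A : C)
    (π : L ⟶ (ChainComplex.single₀ C).obj A) [QuasiIso π] (hL : ∀ k, Q (G.obj (L.X k)))
    (hA : Q (G.obj A)) (n : ℕ) (hz : ∀ k, n < k → IsZero (L.X k)) :
    KZero.clSub Q (G.obj A) =
      ∑ k ∈ Finset.range (n + 1), (-1 : ℤ) ^ k • KZero.clSub Q (G.obj (L.X k)) := by
  have hS2 : ∀ k, ((cyclesSC L (k + 1)).map G).ShortExact := fun k =>
    hG _ (cyclesSC_shortExact L (k + 1) (exactAt_succ π k))
  have hS1 : ((firstSC π).map G).ShortExact := hG _ (firstSC_shortExact π)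
  have hS0 : ((augSC π).map G).ShortExact := hG _ (augSC_shortExact π)
  have hK0 : Q (G.obj (kernel (π.f 0))) := hker _ hS0 (hL 0) hA
  have hZ : ∀ k, Q (G.obj (L.cycles (k + 1))) := by
    intro k
    induction k with
    | zero => exact hker _ hS1 (hL 1) hK0
    | succ k ih => exact hker _ (hS2 k) (hL _) ih
  let l : ℕ → KZero.K0sub Q := fun k => KZero.clSub Q (G.obj (L.X k))
  let z : ℕ → KZero.K0sub Q := fun k =>
    match k with
    | 0 => KZero.clSub Q (G.obj (kernel (π.f 0)))
    | k + 1 => KZero.clSub Q (G.obj (L.cycles (k + 1)))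
  have h0 : l 0 = z 0 + KZero.clSub Q (G.obj A) := clSub_rel Q _ hS0 hK0 (hL 0) hA
  have hs : ∀ k, l (k + 1) = z (k + 1) + z k := by
    intro k
    cases k with
    | zero => exact clSub_rel Q _ hS1 (hZ 0) (hL 1) hK0
    | succ k => exact clSub_rel Q _ (hS2 k) (hZ (k + 1)) (hL _) (hZ k)
  have key := alt_sum_aux l z (KZero.clSub Q (G.obj A)) h0 hs (n + 1)
  have hz1 : z (n + 1) = 0 :=
    clSub_zero Q hQ0 _ (hG0 _ (isZero_cycles L (n + 1) (hz _ (Nat.lt_succ_self n))))
  have hl1 : l (n + 1) = 0 := clSub_zero Q hQ0 _ (hG0 _ (hz _ (Nat.lt_succ_self n)))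
  rw [Finset.sum_range_succ, hz1, hl1, smul_zero, add_zero, add_zero] at key
  exact key.symm

end Groth.Agent.Lib.Helper20.EulerRes

namespace Groth.Agent.Lib.Helper20.PushClK

open Groth.Agent.Lib.helper16.FLF Groth.Agent.Lib.Helper20.K0Reg Groth.Agent.Lib.Helper20.K0LFRes
  Groth.Agent.Lib.Helper20.PushClPd Groth.Agent.Lib.helper13.K0Res Groth.Agent.Lib.helper8.Dev
  Groth.Agent.Lib.helper7.K0API Groth.Agent.Lib.Helper20.KosPY KZero
  Groth.Agent.Lib.Helper20.EulerRes

noncomputable section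

variable {P M Z : Scheme.{u}} (F : P ⟶ M) [IsClosedImmersion F] (h : Z ⟶ M)
  (hd : Disjoint (Set.range h) (Set.range F))

/-- the complement of the image of `F` -/
def compl : M.Opens := ⟨(Set.range F)ᶜ, F.isClosedEmbedding.isClosed_range.isOpen_compl⟩

include hd in
theorem range_le_compl : Set.range h ⊆ Set.range (compl F).ι := by
  rw [Scheme.Opens.range_ι]
  rintro _ ⟨z, rfl⟩ ⟨p, hp⟩
  exact Set.disjoint_iff.mp hd ⟨⟨z, rfl⟩, ⟨p, hp⟩⟩

/-- the factorisation of `h` through the complement -/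
def lift : Z ⟶ (compl F : Scheme.{u}) :=
  IsOpenImmersion.lift (compl F).ι h (range_le_compl F h hd)

theorem lift_fac : lift F h hd ≫ (compl F).ι = h := IsOpenImmersion.lift_fac _ _ _

/-- direct images under `F` vanish on the complement -/
theorem isZero_restrict_push (G : P.Modules) :
    IsZero ((Scheme.Modules.restrictFunctor (compl F).ι).obj
      ((Scheme.Modules.pushforward F).obj G)) := by
  rw [Groth.Agent.Lib.helper7.RestrictSupport.isZero_iff_subsingleton_sections]
  intro V
  have h1 : F ⁻¹ᵁ ((compl F).ι ''ᵁ V) = ⊥ := by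
    ext x
    simp only [Opens.coe_bot, Set.mem_empty_iff_false, iff_false]
    intro hx
    have h2 : F x ∈ ((compl F).ι ''ᵁ V : M.Opens) := hx
    have h3 : ((compl F).ι ''ᵁ V : M.Opens) ≤ compl F := by
      intro y hy
      obtain ⟨w, -, rfl⟩ := hy
      exact w.2
    exact h3 h2 ⟨x, rfl⟩
  have h4 : Subsingleton Γ(G, F ⁻¹ᵁ ((compl F).ι ''ᵁ V)) := by
    rw [h1]; exact subsingleton_sections_bot G
  exact h4

/-- `h^* L ≅ h'^* (L|_W)` -/
def pullIso (L : M.Modules) :
    (Scheme.Modules.pullback (lift F h hd)).obj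
        ((Scheme.Modules.restrictFunctor (compl F).ι).obj L) ≅
      (Scheme.Modules.pullback h).obj L :=
  (Scheme.Modules.pullback (lift F h hd)).mapIso
      ((Scheme.Modules.restrictFunctorIsoPullback (compl F).ι).app L) ≪≫
    (Scheme.Modules.pullbackComp (lift F h hd) (compl F).ι).app L ≪≫
    (Scheme.Modules.pullbackCongr (lift_fac F h hd)).app L

variable [IsLocallyNoetherian M]

include hd in
/-- **the pull-back of a resolution of `F_* G` along `h` has vanishing Euler characteristic** -/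
theorem alt_sum_pullback_eq_zero (G : P.Modules) {n : ℕ} {L : ChainComplex M.Modules ℕ}
    {π : L ⟶ (ChainComplex.single₀ M.Modules).obj ((Scheme.Modules.pushforward F).obj G)}
    (hL : KRR.IsLFRes ((Scheme.Modules.pushforward F).obj G) n L π) :
    ∑ k ∈ Finset.range (n + 1), (-1 : ℤ) ^ k •
      KRR.cl Z ((Scheme.Modules.pullback h).obj (L.X k)) = 0 := by
  haveI := hL.quasiIso
  have hQ0 : ∀ N : (compl F : Scheme.{u}).Modules, IsZero N → KRR.vbP (compl F : Scheme.{u}) N :=
    fun N hN => Groth.Agent.Lib.helper25.FLFKernel.isFinLocFree_of_isZero hN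
  have hz := isZero_restrict_push F G
  have h1 := clSub_map_eq_alt_sum_of_ker (Scheme.Modules.restrictFunctor (compl F).ι)
    (fun S hS => Groth.Agent.Lib.Helper18.HHLoc.restrict_shortExact (compl F) hS)
    (fun N hN => (Scheme.Modules.restrictFunctor (compl F).ι).map_isZero hN)
    (KRR.vbP (compl F : Scheme.{u})) vb_ker hQ0 L _ π
    (fun k => isFinLocFree_restrict (compl F).ι (hL.finLocFree k)) (hQ0 _ hz) n hL.isZero
  rw [clSub_zero _ hQ0 _ hz] at h1
  obtain ⟨ψ, hψ⟩ := Groth.Agent.Lib.Helper20.KModelMaps.exists_pullK (lift F h hd)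
  have h2 := congrArg ψ h1
  rw [map_zero, map_sum] at h2
  rw [h2]
  refine Finset.sum_congr rfl (fun k _ => ?_)
  have hk : FlatMod.IsFinLocFree ((Scheme.Modules.restrictFunctor (compl F).ι).obj (L.X k)) :=
    isFinLocFree_restrict (compl F).ι (hL.finLocFree k)
  have hQ0Z : ∀ N : Z.Modules, IsZero N → KRR.vbP Z N :=
    fun N hN => Groth.Agent.Lib.helper25.FLFKernel.isFinLocFree_of_isZero hN
  have h3 : KRR.cl Z ((Scheme.Modules.pullback (lift F h hd)).obj
      ((Scheme.Modules.restrictFunctor (compl F).ι).obj (L.X k))) =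
      KRR.cl Z ((Scheme.Modules.pullback h).obj (L.X k)) :=
    clSub_iso (KRR.vbP Z) hQ0Z (fun _ _ e hh => isFinLocFree_of_iso e hh) (pullIso F h hd (L.X k))
  rw [map_zsmul]
  show _ = (-1 : ℤ) ^ k • ψ (KRR.cl _ _)
  rw [hψ _ hk, h3]

end

end Groth.Agent.Lib.Helper20.PushClK
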