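import Groth.Agent.Lib.Helper20.TwFun
import Groth.Agent.Lib.Helper20.PushClDisj
import Groth.Agent.Lib.Helper20.FibreReg
import Groth.Agent.Lib.Helper20.KosPY6

/-!
# Direct images of highly twisted finite resolutions on `P^n_Y` (helper20)

* `clSub_map_eq_alt_sum_of_exact`: the Euler characteristic lemma with the exactness hypotheses on the three
  relevant families of short exact sequences only.
* `exists_twist_bound`: for a coherent `A` on `P^n_Y` with a finite locally free resolution `L`, for `m ≫ 0`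
  all `L_k(m)` are regular and `F ↦ p_*(F(m))` keeps the short exact sequences of the resolution exact.
* `pushTwFIso`: `(ψ_* G)(m) ≅ ψ_*(G(m))` for `ψ : P^n_X ⟶ P^n_Y`.
* `twist_induction`: a subgroup of `Kvb (P^n_Y)` containing `[G(m)]` for all bundles `G` and `m ≫ 0` is `⊤`.
-/

set_option autoImplicit false
universe v u v' u'

open CategoryTheory CategoryTheory.Limits AlgebraicGeometry Opposite TopologicalSpace

namespace Groth.Agent.Lib.Helper20.EulerRes

open Groth.Agent.Lib.Helper20.K0LFRes Groth.Agent.Lib.helper8.Dev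

variable {C : Type u} [Category.{v} C] [Abelian C] {D : Type u'} [Category.{v'} D] [Abelian D]
  (G : C ⥤ D) [G.PreservesZeroMorphisms]
  (hG0 : ∀ N : C, IsZero N → IsZero (G.obj N))
  (Q : ObjectProperty D)
  (hcoker : ∀ S : ShortComplex D, S.ShortExact → Q S.X₁ → Q S.X₂ → Q S.X₃)
  (hQ0 : ∀ N : D, IsZero N → Q N)

include hG0 hcoker hQ0 in
theorem clSub_map_eq_alt_sum_of_exact (L : ChainComplex C ℕ) (A : C)
    (π : L ⟶ (ChainComplex.single₀ C).obj A) [QuasiIso π]
    (hS0 : ((augSC π).map G).ShortExact) (hS1 : ((firstSC π).map G).ShortExact)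
    (hS2 : ∀ k, ((cyclesSC L (k + 1)).map G).ShortExact)
    (hL : ∀ k, Q (G.obj (L.X k))) (n : ℕ)
    (hz : ∀ k, n < k → IsZero (L.X k)) :
    Q (G.obj A) ∧ KZero.clSub Q (G.obj A) =
      ∑ k ∈ Finset.range (n + 1), (-1 : ℤ) ^ k • KZero.clSub Q (G.obj (L.X k)) := by
  have hZd : ∀ d k, n ≤ k + d → Q (G.obj (L.cycles (k + 1))) := by
    intro d
    induction d with
    | zero =>
      intro k hk
      exact hQ0 _ (hG0 _ (isZero_cycles L (k + 1) (hz _ (by omega))))
    | succ d ih =>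
      intro k hk
      exact hcoker _ (hS2 k) (ih (k + 1) (by omega)) (hL _)
  have hZ : ∀ k, Q (G.obj (L.cycles (k + 1))) := fun k => hZd n k (by omega)
  have hK0 : Q (G.obj (kernel (π.f 0))) := hcoker _ hS1 (hZ 0) (hL 1)
  have hA : Q (G.obj A) := hcoker _ hS0 hK0 (hL 0)
  refine ⟨hA, ?_⟩
  let l : ℕ → KZero.K0sub Q := fun k => KZero.clSub Q (G.obj (L.X k))
  let z : ℕ → KZero.K0sub Q := fun k =>
    match k with
    | 0 => KZero.clSub Q (G.obj (kernel (π.f 0)))
    | k + 1 => KZero.clSub Q (G.obj (L.cycles (k + 1)))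
  have h0 : l 0 = z 0 + KZero.clSub Q (G.obj A) := clSub_rel Q _ hS0 hK0 (hL 0) hA
  have hs : ∀ k, l (k + 1) = z (k + 1) + z k := by
    intro k
    cases k with
    | zero => exact clSub_rel Q _ hS1 (hZ 0) (hL 1) hK0
    | succ k => exact clSub_rel Q _ (hS2 k) (hZ (k + 1)) (hL _) (hZ k)
  have key := alt_sum_aux l z (KZero.clSub Q (G.obj A)) h0 hs (n + 1)
  have hz1 : z (n + 1) = 0 :=
    clSub_zero Q hQ0 _ (hG0 _ (isZero_cycles L (n + 1) (hz _ (Nat.lt_succ_self n))))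
  have hl1 : l (n + 1) = 0 := clSub_zero Q hQ0 _ (hG0 _ (hz _ (Nat.lt_succ_self n)))
  rw [Finset.sum_range_succ, hz1, hl1, smul_zero, add_zero, add_zero] at key
  exact key.symm

end Groth.Agent.Lib.Helper20.EulerRes

namespace Groth.Agent.Lib.Helper20.PushRes

open Groth.Agent.Lib.helper16.FLF Groth.Agent.Lib.Helper20.K0Reg Groth.Agent.Lib.Helper20.K0LFRes
  Groth.Agent.Lib.helper8.Dev Groth.Agent.Lib.Helper20.KosPY KZero
  Groth.Agent.Lib.Helper20.EulerRes Groth.Agent.Lib.Helper20.TensorEquiv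
  Groth.Agent.Lib.Lead.ModTensor

noncomputable section

theorem uniform_bound (P : ℕ → ℕ → Prop) (h : ∀ k, ∃ m₀, ∀ m, m₀ ≤ m → P k m) (N : ℕ)
    (hN : ∀ k, N < k → ∀ m, P k m) : ∃ m₁, ∀ m, m₁ ≤ m → ∀ k, P k m := by
  choose m₀ hm₀ using h
  refine ⟨(Finset.range (N + 1)).sup m₀, fun m hm k => ?_⟩
  by_cases hk : N < k
  · exact hN k hk m
  · exact hm₀ k m (le_trans (Finset.le_sup (Finset.mem_range.mpr (by omega))) hm)

variable (n : ℕ) (Y : Scheme.{u})

/-- the twisting functor `F ↦ F(d)` -/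
abbrev TwF (d : ℤ) : (KRR.PY n Y).Modules ⥤ (KRR.PY n Y).Modules :=
  (DCoh.tensorBi (X := KRR.PY n Y)).obj (Twist.twistOver n Y d)

/-- `F ↦ p_*(F(d))` -/
abbrev Gm (d : ℤ) : (KRR.PY n Y).Modules ⥤ Y.Modules :=
  TwF n Y d ⋙ Scheme.Modules.pushforward (KRR.pr n Y)

theorem shortExact_map_TwF (d : ℤ) (S : ShortComplex (KRR.PY n Y).Modules) (hS : S.ShortExact) :
    (S.map (TwF n Y d)).ShortExact :=
  Groth.Agent.Lib.Helper20.TwFun.shortExact_map_tensorLeft (isFinLocFree_twistOver n Y d) S hS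

variable [IsNoetherian Y]

theorem isCoh_of_isZero' {N : (KRR.PY n Y).Modules} (hN : IsZero N) : Coh.IsCoh N :=
  isCoh_of_vb (Groth.Agent.Lib.helper25.FLFKernel.isFinLocFree_of_isZero hN)

/-- the short exact sequences with acyclic first two terms after twisting stay exact under `F ↦ p_*(F(m))` -/
theorem shortExact_map_Gm (m : ℤ) (S : ShortComplex (KRR.PY n Y).Modules) (hS : S.ShortExact)
    (h1 : Acyc (KRR.pr n Y) (KRR.twF n Y m S.X₁)) (h2 : Acyc (KRR.pr n Y) (KRR.twF n Y m S.X₂)) :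
    (S.map (Gm n Y m)).ShortExact :=
  (acyc_X₃ (shortExact_map_TwF n Y m S hS) h1 h2).2

theorem acyc_twF_of_isZero (m : ℤ) {N : (KRR.PY n Y).Modules} (hN : IsZero N) :
    Acyc (KRR.pr n Y) (KRR.twF n Y m N) :=
  acyc_of_isZero ((TwF n Y m).map_isZero hN)

theorem isRegSheaf_twF_of_isZero (m : ℤ) {N : (KRR.PY n Y).Modules} (hN : IsZero N) :
    KRR.IsRegSheaf n Y (KRR.twF n Y m N) := fun i _ =>
  acyc_twF_of_isZero n Y (-(i : ℤ)) ((TwF n Y m).map_isZero hN) i (by omega)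

/-- **for `m ≫ 0` the twisted resolution consists of regular bundles and stays exact under `p_*`** -/
theorem exists_twist_bound (A : (KRR.PY n Y).Modules) (hA : Coh.IsCoh A) {N : ℕ}
    {L : ChainComplex (KRR.PY n Y).Modules ℕ}
    {π : L ⟶ (ChainComplex.single₀ (KRR.PY n Y).Modules).obj A} (hL : KRR.IsLFRes A N L π) :
    ∃ m₁ : ℕ, ∀ m : ℕ, m₁ ≤ m →
      (∀ k, KRR.IsRegSheaf n Y (KRR.twF n Y (m : ℤ) (L.X k))) ∧
      ((augSC π).map (Gm n Y (m : ℤ))).ShortExact ∧
      ((firstSC π).map (Gm n Y (m : ℤ))).ShortExact ∧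
      ∀ k, ((cyclesSC L (k + 1)).map (Gm n Y (m : ℤ))).ShortExact := by
  haveI := hL.quasiIso
  have hcoh : ∀ k, Coh.IsCoh (L.X k) := fun k => isCoh_of_vb (hL.finLocFree k)
  have hK0 : Coh.IsCoh (kernel (π.f 0)) := coh_ker (augSC π) (augSC_shortExact π) (hcoh 0) hA
  -- regularity of the terms
  obtain ⟨r₁, hr₁⟩ := uniform_bound
    (fun k m => KRR.IsRegSheaf n Y (KRR.twF n Y (m : ℤ) (L.X k)))
    (fun k => exists_isRegSheaf_twF n Y (L.X k) (hcoh k)) N
    (fun k hk m => isRegSheaf_twF_of_isZero n Y m (hL.isZero k hk))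
  -- acyclicity of the terms
  obtain ⟨a₁, ha₁⟩ := uniform_bound
    (fun k m => Acyc (KRR.pr n Y) (KRR.twF n Y (m : ℤ) (L.X k)))
    (fun k => exists_acyc_twF n Y (L.X k) (hcoh k)) N
    (fun k hk m => acyc_twF_of_isZero n Y m (hL.isZero k hk))
  -- acyclicity of the cycles
  obtain ⟨z₁, hz₁⟩ := uniform_bound
    (fun k m => Acyc (KRR.pr n Y) (KRR.twF n Y (m : ℤ) (L.cycles (k + 1))))
    (fun k => exists_acyc_twF n Y (L.cycles (k + 1)) (isCoh_cycles L hcoh k)) N
    (fun k hk m => acyc_twF_of_isZero n Y m (isZero_cycles L (k + 1) (hL.isZero _ (by omega))))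
  obtain ⟨k₁, hk₁⟩ := exists_acyc_twF n Y (kernel (π.f 0)) hK0
  refine ⟨max (max r₁ a₁) (max z₁ k₁), fun m hm => ⟨fun k => hr₁ m (by omega) k, ?_, ?_, ?_⟩⟩
  · exact shortExact_map_Gm n Y m (augSC π) (augSC_shortExact π) (hk₁ m (by omega))
      (ha₁ m (by omega) 0)
  · exact shortExact_map_Gm n Y m (firstSC π) (firstSC_shortExact π) (hz₁ m (by omega) 0)
      (ha₁ m (by omega) 1)
  · intro k
    exact shortExact_map_Gm n Y m (cyclesSC L (k + 1))
      (cyclesSC_shortExact L (k + 1) (exactAt_succ π k)) (hz₁ m (by omega) (k + 1))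
      (ha₁ m (by omega) (k + 1 + 1))

/-- a subgroup of `Kvb (P^n_Y)` containing the classes of the high twists of all bundles is everything -/
theorem twist_induction (S : AddSubgroup (SGA6.Kvb (KRR.PY n Y)))
    (h : ∀ F : (KRR.PY n Y).Modules, FlatMod.IsFinLocFree F → ∃ m₁ : ℕ, ∀ m : ℕ, m₁ ≤ m →
      KRR.cl (KRR.PY n Y) (KRR.twF n Y (m : ℤ) F) ∈ S) : S = ⊤ := by
  have hQ0 : ∀ N : (KRR.PY n Y).Modules, IsZero N → KRR.vbP (KRR.PY n Y) N :=
    fun N hN => Groth.Agent.Lib.helper25.FLFKernel.isFinLocFree_of_isZero hN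
  have hQiso : ∀ M N : (KRR.PY n Y).Modules, (M ≅ N) → KRR.vbP (KRR.PY n Y) M →
      KRR.vbP (KRR.PY n Y) N :=
    fun M N e h => Groth.Agent.Lib.helper16.FLF.isFinLocFree_of_iso e h
  have htw : ∀ (F : (KRR.PY n Y).Modules), FlatMod.IsFinLocFree F → ∀ k : ℤ,
      KRR.cl (KRR.PY n Y) (KRR.twF n Y k F) ∈ S := by
    intro F hF
    obtain ⟨m₁, hm⟩ := h F hF
    have key : ∀ (D : ℕ) (k : ℤ), (m₁ : ℤ) - D ≤ k →
        KRR.cl (KRR.PY n Y) (KRR.twF n Y k F) ∈ S := by
      intro D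
      induction D with
      | zero =>
        intro k hk
        obtain ⟨m, rfl⟩ := Int.eq_ofNat_of_zero_le (show 0 ≤ k by simp at hk; omega)
        exact hm m (by simp at hk; omega)
      | succ D ih =>
        intro k hk
        by_cases hk' : (m₁ : ℤ) - D ≤ k
        · exact ih k hk'
        have hrel := koszul_relation n Y hF k
        rw [Finset.sum_range_succ'] at hrel
        simp only [pow_zero, Nat.choose_zero_right, one_smul, Nat.cast_zero, add_zero] at hrel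
        have h2 : KRR.cl (KRR.PY n Y) (KRR.twF n Y k F) =
            -∑ j ∈ Finset.range (n + 1), (-1 : ℤ) ^ (j + 1) • ((n + 1).choose (j + 1) •
              KRR.cl (KRR.PY n Y) (KRR.twF n Y (k + ((j + 1 : ℕ) : ℤ)) F)) :=
          eq_neg_of_add_eq_zero_right hrel
        rw [h2]
        refine AddSubgroup.neg_mem _ (AddSubgroup.sum_mem _ fun j _ => ?_)
        refine AddSubgroup.zsmul_mem _ (AddSubgroup.nsmul_mem _ ?_ _) _
        exact ih _ (by push_cast at hk ⊢; omega)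
    intro k
    exact key ((m₁ : ℤ) - k).toNat k (by omega)
  rw [eq_top_iff, ← Groth.Agent.Lib.helper7.K0API.closure_clSub (KRR.vbP (KRR.PY n Y))]
  refine (AddSubgroup.closure_le _).2 ?_
  rintro x ⟨F, hF, rfl⟩
  have h0 := htw F hF 0
  rw [KRR.cl, clSub_iso (KRR.vbP (KRR.PY n Y)) hQ0 hQiso (twFZeroIso n Y F)] at h0
  exact h0

end

end Groth.Agent.Lib.Helper20.PushRes
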