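import Groth.Agent.Lib.Helper20.RegBC
import Groth.Agent.Lib.Helper20.BCH0
import Groth.Agent.Lib.Helper20.BCMate
import Groth.Agent.Lib.Helper20.FlatPn
import Groth.Agent.Lib.Helper21.InvFibre
import Groth.Agent.S3754
import Groth.Agent.S3756

/-!
# Regular sheaves on `P^n_Y` and base change, part 2: `φ^* p_* F ≅ p₁_* ψ^* F` (helper20)
-/

set_option autoImplicit false
universe u

open CategoryTheory AlgebraicGeometry Opposite TopologicalSpace

namespace Groth.Agent.Lib.Helper20.RegBC2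

open Groth.Agent.Lib.Helper20.RegK0 Groth.Agent.Lib.Helper20.FibreReg

variable {n : ℕ} {Y Y₁ : Scheme.{u}} (φ : Y₁ ⟶ Y) [IsNoetherian Y] [IsNoetherian Y₁]

/-- **the base change map `φ^* p_* F ⟶ p₁_* ψ^* F` is an isomorphism** for `F` finite locally free and
regular on `P^n_Y` -/
theorem isIso_bcMap (hsq : KRR.projSpaceMap n φ ≫ KRR.pr n Y = KRR.pr n Y₁ ≫ φ)
    (F : (KRR.PY n Y).Modules) (hF : FlatMod.IsFinLocFree F) (hreg : KRR.IsRegSheaf n Y F) :
    IsIso (KRR.bcMap n φ hsq F) := by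
  haveI : F.IsQuasicoherent := isQC_of_vb hF
  have hcoh : Coh.IsCoh F := Groth.Agent.Lib.Lead.RankAdd.isCoh_of_isFinLocFree hF
  have h := isPullback_projSpaceMap n φ
  have e : KRR.bcMap n φ hsq F = Groth.Agent.Lib.helper8.FlatBCNat.bcMap h F :=
    Groth.Agent.Lib.Helper20.BCMate.homEquiv_adj_eq_bcMap h F
  rw [e]
  haveI : IsProper (KRR.pr n Y) := Groth.Agent.Lib.helper19.ProjSpaceProper.proper_toBase n Y
  haveI : Flat (KRR.pr n Y) := Groth.Agent.Lib.Helper20.FlatPn.flat_toBase n Y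
  have hfl : FlatMod.IsFlatOver (KRR.pr n Y) F :=
    Groth.Agent.Lib.helper21.InvFibre.isFlatOver_of_isFinLocFree (KRR.pr n Y) F hF
  refine Groth.Agent.Lib.Helper20.BCH0.isIso_bcMap_of_acyclic (KRR.pr n Y) φ (KRR.projSpaceMap n φ)
    (KRR.pr n Y₁) h F hfl ?_ ?_
  · intro V hV
    obtain ⟨_, hproj⟩ := Groth.Agent.Lib.helper16.FLF.projective_sections_of_isFinLocFree _
      (Groth.Agent.S3756.result n Y F hF hreg) hV
    haveI := hproj
    exact Module.Flat.of_linearEquiv (Groth.Agent.Lib.helper8.FlatBC.eN (KRR.pr n Y) F V).symm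
  · intro V hV p hp
    exact Groth.Agent.Lib.Helper20.RelReg.subsingleton_HH_restrict_of_isZero_rpushAb (KRR.pr n Y) F p
      ((Groth.Agent.S3754.result n Y F hcoh hreg).2 p hp) hV

end Groth.Agent.Lib.Helper20.RegBC2
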