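import Groth.Agent.Lib.Helper20.KModelMaps
import Groth.Agent.Lib.Helper20.KosPY7
import Groth.Agent.Lib.Helper20.RegBC2
import Groth.Agent.Lib.Helper20.PushRes
import Groth.Agent.S3770

/-!
# The push-forward `p_! : Kvb (P^n_Y) →+ Kvb Y` without models (helper20)

`Y` Noetherian.
* `hom_ext_vb`: additive maps out of `Kvb X` agreeing on classes of bundles are equal.
* `tensK hE`, `pullK f`, `tauK n Y d`: `[M] ↦ [M ⊗ E]`, `[E] ↦ [f^* E]`, `[F] ↦ [F(d)]` on `Kvb`.
* `prK n Y`, `prK_cl`: `[F] ↦ [p_* F]` for `F` regular; `hom_ext_reg`; `isPushPr_iff`.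
* `prK_tensK_pull`: projection formula; `prK_pullK`: base change; `prK_tauK_pullK`.
-/

set_option autoImplicit false
universe v u

open CategoryTheory CategoryTheory.Limits AlgebraicGeometry Opposite TopologicalSpace

namespace Groth.Agent.Lib.Helper20.KPr

open Groth.Agent.Lib.Helper20.KosPY Groth.Agent.Lib.Helper20.RegK0 Groth.Agent.Lib.helper8.Dev
  Groth.Agent.Lib.helper7.K0API KZero Groth.Agent.Lib.Helper20.KModelMaps
  Groth.Agent.Lib.Lead.ModTensor Groth.Agent.Lib.Helper20.PushRes Groth.Agent.Lib.Helper20.KosNum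
  Groth.Agent.Lib.Helper20.FibreReg

noncomputable section

section Gen

variable {X Y : Scheme.{u}}

theorem vb_zero : ∀ N : X.Modules, IsZero N → KRR.vbP X N :=
  fun N hN => Groth.Agent.Lib.helper25.FLFKernel.isFinLocFree_of_isZero hN

theorem vb_iso : ∀ M N : X.Modules, (M ≅ N) → KRR.vbP X M → KRR.vbP X N :=
  fun M N e h => Groth.Agent.Lib.helper16.FLF.isFinLocFree_of_iso e h

/-- isomorphic bundles have the same class -/
theorem cl_iso {M N : X.Modules} (e : M ≅ N) : KRR.cl X M = KRR.cl X N :=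
  clSub_iso (KRR.vbP X) vb_zero vb_iso e

/-- additive maps out of `Kvb X` agreeing on the classes of bundles are equal -/
theorem hom_ext_vb {A : Type*} [AddCommGroup A] (f g : SGA6.Kvb X →+ A)
    (h : ∀ F : X.Modules, FlatMod.IsFinLocFree F → f (KRR.cl X F) = g (KRR.cl X F)) : f = g := by
  refine DFunLike.ext _ _ (fun x => ?_)
  have hx : x ∈ (⊤ : AddSubgroup (SGA6.Kvb X)) := trivial
  rw [← closure_clSub (KRR.vbP X)] at hx
  have hle : AddSubgroup.closure {x : SGA6.Kvb X | ∃ F : X.Modules, KRR.vbP X F ∧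
      x = clSub (KRR.vbP X) F} ≤ f.eqLocus g := by
    refine (AddSubgroup.closure_le _).2 ?_
    rintro _ ⟨F, hF, rfl⟩
    exact h F hF
  exact hle hx

/-- `[M] ↦ [M ⊗ E]` -/
theorem exists_tensK {E : X.Modules} (hE : FlatMod.IsFinLocFree E) :
    ∃ ψ : SGA6.Kvb X →+ SGA6.Kvb X, ∀ M : X.Modules, FlatMod.IsFinLocFree M →
      ψ (KRR.cl X M) = KRR.cl X (CohB1.tensorMod M E) := by
  refine exists_lift_K0sub (KRR.vbP X) (fun M => KRR.cl X (CohB1.tensorMod M E)) ?_
  intro S hS h1 h2 h3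
  have := Groth.Agent.Lib.helper11.ProjFormula.preservesFiniteLimits_tensorRight hE
  haveI : PreservesFiniteColimits (Groth.Agent.Lib.Helper20.TensorEquiv.tensorRight E) :=
    Groth.Agent.Lib.helper12.TensorCocont.preservesFiniteColimits_tensorRight E
  haveI : (Groth.Agent.Lib.Helper20.TensorEquiv.tensorRight E).Additive :=
    Groth.Agent.Lib.helper12.TensorCocont.additive_tensorRight E
  have hS' : (S.map (Groth.Agent.Lib.Helper20.TensorEquiv.tensorRight E)).ShortExact :=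
    hS.map_of_exact _
  exact clSub_rel (KRR.vbP X) _ hS'
    (Groth.Agent.Lib.helper16.FLFTensor.isFinLocFree_tensor h1 hE)
    (Groth.Agent.Lib.helper16.FLFTensor.isFinLocFree_tensor h2 hE)
    (Groth.Agent.Lib.helper16.FLFTensor.isFinLocFree_tensor h3 hE)

/-- `[M] ↦ [M ⊗ E]` -/
def tensK {E : X.Modules} (hE : FlatMod.IsFinLocFree E) : SGA6.Kvb X →+ SGA6.Kvb X :=
  (exists_tensK hE).choose

theorem tensK_cl {E : X.Modules} (hE : FlatMod.IsFinLocFree E) {M : X.Modules}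
    (hM : FlatMod.IsFinLocFree M) : tensK hE (KRR.cl X M) = KRR.cl X (CohB1.tensorMod M E) :=
  (exists_tensK hE).choose_spec M hM

/-- `[E] ↦ [f^* E]` -/
def pullK (f : X ⟶ Y) : SGA6.Kvb Y →+ SGA6.Kvb X := (exists_pullK f).choose

theorem pullK_cl (f : X ⟶ Y) {E : Y.Modules} (hE : FlatMod.IsFinLocFree E) :
    pullK f (KRR.cl Y E) = KRR.cl X ((Scheme.Modules.pullback f).obj E) :=
  (exists_pullK f).choose_spec E hE

end Gen

section Tw

variable (n : ℕ) (Y : Scheme.{u})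

/-- `[F] ↦ [F(d)]` -/
theorem exists_tauK (d : ℤ) : ∃ ψ : SGA6.Kvb (KRR.PY n Y) →+ SGA6.Kvb (KRR.PY n Y),
    ∀ F : (KRR.PY n Y).Modules, FlatMod.IsFinLocFree F →
      ψ (KRR.cl (KRR.PY n Y) F) = KRR.cl (KRR.PY n Y) (KRR.twF n Y d F) := by
  refine exists_lift_K0sub (KRR.vbP (KRR.PY n Y))
    (fun F => KRR.cl (KRR.PY n Y) (KRR.twF n Y d F)) ?_
  intro S hS h1 h2 h3
  exact clSub_rel (KRR.vbP (KRR.PY n Y)) _ (shortExact_map_TwF n Y d S hS)
    (isFinLocFree_twF n Y h1 d) (isFinLocFree_twF n Y h2 d) (isFinLocFree_twF n Y h3 d)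

/-- `[F] ↦ [F(d)]` -/
def tauK (d : ℤ) : SGA6.Kvb (KRR.PY n Y) →+ SGA6.Kvb (KRR.PY n Y) := (exists_tauK n Y d).choose

theorem tauK_cl (d : ℤ) {F : (KRR.PY n Y).Modules} (hF : FlatMod.IsFinLocFree F) :
    tauK n Y d (KRR.cl (KRR.PY n Y) F) = KRR.cl (KRR.PY n Y) (KRR.twF n Y d F) :=
  (exists_tauK n Y d).choose_spec F hF

end Tw

section Pn

variable (n : ℕ) (Y : Scheme.{u}) [IsNoetherian Y]

theorem preg_le : ∀ M : (KRR.PY n Y).Modules, Preg n Y M → FlatMod.IsFinLocFree M :=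
  fun _ h => h.1

/-- `K₀(regular bundles) ≃ Kvb` -/
def eR : KZero.K0sub (Preg n Y) ≃+ SGA6.Kvb (KRR.PY n Y) :=
  AddEquiv.ofBijective (SGA6.mapSub (𝟭 (KRR.PY n Y).Modules) (Preg n Y) (KRR.vbP (KRR.PY n Y))
    (preg_le n Y)) (Groth.Agent.S3758.result n Y (preg_le n Y))

theorem eR_cl {F : (KRR.PY n Y).Modules} (hF : FlatMod.IsFinLocFree F)
    (hreg : KRR.IsRegSheaf n Y F) :
    eR n Y (KZero.clSub (Preg n Y) F) = KRR.cl (KRR.PY n Y) F := by
  have e1 : KZero.clSub (Preg n Y) F =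
      Groth.Agent.Lib.helper13.K0Res.cls (Preg n Y) F ⟨hF, hreg⟩ :=
    clSub_of _ _ _
  have e2 : KRR.cl (KRR.PY n Y) F =
      Groth.Agent.Lib.helper13.K0Res.cls (KRR.vbP (KRR.PY n Y)) F hF :=
    clSub_of _ _ _
  rw [e1, e2]
  exact Groth.Agent.Lib.helper13.K0Res.mapSub_cls _ _ (preg_le n Y) F ⟨hF, hreg⟩

/-- the push-forward `p_! : Kvb (P^n_Y) →+ Kvb Y` -/
def prK : SGA6.Kvb (KRR.PY n Y) →+ SGA6.Kvb Y :=
  (exists_pushK n Y).choose.comp (eR n Y).symm.toAddMonoidHom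

theorem prK_cl {F : (KRR.PY n Y).Modules} (hF : FlatMod.IsFinLocFree F)
    (hreg : KRR.IsRegSheaf n Y F) :
    prK n Y (KRR.cl (KRR.PY n Y) F) =
      KRR.cl Y ((Scheme.Modules.pushforward (KRR.pr n Y)).obj F) := by
  have h3 : (eR n Y).symm (KRR.cl (KRR.PY n Y) F) = KZero.clSub (Preg n Y) F := by
    rw [← eR_cl n Y hF hreg]; exact (eR n Y).symm_apply_apply _
  show (exists_pushK n Y).choose ((eR n Y).symm (KRR.cl (KRR.PY n Y) F)) = _
  rw [h3]
  exact (exists_pushK n Y).choose_spec F ⟨hF, hreg⟩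

variable {n Y}

/-- additive maps out of `Kvb (P^n_Y)` agreeing on the classes of regular bundles are equal -/
theorem hom_ext_reg {A : Type*} [AddCommGroup A] (f g : SGA6.Kvb (KRR.PY n Y) →+ A)
    (h : ∀ F : (KRR.PY n Y).Modules, FlatMod.IsFinLocFree F → KRR.IsRegSheaf n Y F →
      f (KRR.cl (KRR.PY n Y) F) = g (KRR.cl (KRR.PY n Y) F)) : f = g := by
  refine DFunLike.ext _ _ (fun x => ?_)
  have hx : x ∈ (⊤ : AddSubgroup (SGA6.Kvb (KRR.PY n Y))) := trivial
  rw [← closure_regular_eq_top n Y] at hx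
  have hle : Hreg n Y ≤ f.eqLocus g := by
    refine (AddSubgroup.closure_le _).2 ?_
    rintro _ ⟨F, hF, hreg, rfl⟩
    exact h F hF hreg
  exact hle hx

/-- characterisation of `p_K` on models through `prK` (no model needed) -/
theorem isPushPr_iff {KP : Type v} [CommRing KP] {KY : Type v} [CommRing KY]
    (φP : SGA6.Kvb (KRR.PY n Y) →+ KP) (φY : SGA6.Kvb Y →+ KY) (g : KP →+ KY) :
    KRR.IsPushPr n Y φP φY g ↔ ∀ x, g (φP x) = φY (prK n Y x) := by
  constructor
  · intro hg x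
    have := hom_ext_reg (g.comp φP) (φY.comp (prK n Y)) (fun F hF hreg => by
      show g (φP (KRR.cl (KRR.PY n Y) F)) = φY (prK n Y (KRR.cl (KRR.PY n Y) F))
      rw [hg F hF hreg, prK_cl n Y hF hreg])
    exact DFunLike.congr_fun this x
  · intro h F hF hreg
    rw [h, prK_cl n Y hF hreg]

/-- the projection formula: `p_!(x · p^*[V]) = p_!(x) · [V]` -/
theorem prK_tensK_pull {V : Y.Modules} (hV : FlatMod.IsFinLocFree V) (x : SGA6.Kvb (KRR.PY n Y)) :
    prK n Y (tensK (Groth.Agent.Lib.helper16.FLF.isFinLocFree_pullback (KRR.pr n Y) hV) x) =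
      tensK hV (prK n Y x) := by
  have hpV := Groth.Agent.Lib.helper16.FLF.isFinLocFree_pullback (KRR.pr n Y) hV
  have := hom_ext_reg ((prK n Y).comp (tensK hpV)) ((tensK hV).comp (prK n Y))
    (fun G hG hreg => by
      show prK n Y (tensK hpV (KRR.cl (KRR.PY n Y) G)) = tensK hV (prK n Y (KRR.cl (KRR.PY n Y) G))
      have hpG : FlatMod.IsFinLocFree ((Scheme.Modules.pushforward (KRR.pr n Y)).obj G) :=
        Groth.Agent.S3756.result n Y G hG hreg
      rw [tensK_cl hpV hG, prK_cl n Y hG hreg, tensK_cl hV hpG,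
        prK_cl n Y (Groth.Agent.Lib.helper16.FLFTensor.isFinLocFree_tensor hG hpV)
          (isRegSheaf_tensor_pullback hreg hV)]
      exact (cl_iso ((Groth.Agent.Lib.helper11.ProjFormula.projIso (KRR.pr n Y) hV).app G)).symm)
  exact DFunLike.congr_fun this x

/-- base change: `p₁_! ψ^* = φ^* p_!` -/
theorem prK_pullK {Y₁ : Scheme.{u}} [IsNoetherian Y₁] (φ : Y₁ ⟶ Y)
    (x : SGA6.Kvb (KRR.PY n Y)) :
    prK n Y₁ (pullK (KRR.projSpaceMap n φ) x) = pullK φ (prK n Y x) := by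
  have := hom_ext_reg ((prK n Y₁).comp (pullK (KRR.projSpaceMap n φ))) ((pullK φ).comp (prK n Y))
    (fun G hG hreg => by
      show prK n Y₁ (pullK (KRR.projSpaceMap n φ) (KRR.cl (KRR.PY n Y) G)) =
        pullK φ (prK n Y (KRR.cl (KRR.PY n Y) G))
      have hpG : FlatMod.IsFinLocFree ((Scheme.Modules.pushforward (KRR.pr n Y)).obj G) :=
        Groth.Agent.S3756.result n Y G hG hreg
      have hsq := projSpaceMap_pr n φ
      obtain ⟨hreg', hiso⟩ := Groth.Agent.S3770.result n φ hsq G hG hreg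
      rw [pullK_cl _ hG, prK_cl n Y hG hreg, pullK_cl _ hpG,
        prK_cl n Y₁ (Groth.Agent.Lib.helper16.FLF.isFinLocFree_pullback _ hG) hreg']
      haveI := hiso
      exact (cl_iso (asIso (KRR.bcMap n φ hsq G))).symm)
  exact DFunLike.congr_fun this x

/-- `p_!([O(d)] · p^* v) = cc n d • v` for `d ≥ 0` -/
theorem prK_tauK_pullK (d : ℕ) (v : SGA6.Kvb Y) :
    prK n Y (tauK n Y (d : ℤ) (pullK (KRR.pr n Y) v)) = cc n (d : ℤ) • v := by
  have := hom_ext_vb (((prK n Y).comp (tauK n Y (d : ℤ))).comp (pullK (KRR.pr n Y)))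
    (cc n (d : ℤ) • AddMonoidHom.id (SGA6.Kvb Y)) (fun V hV => by
      show prK n Y (tauK n Y (d : ℤ) (pullK (KRR.pr n Y) (KRR.cl Y V))) = cc n (d : ℤ) • KRR.cl Y V
      have hpV := Groth.Agent.Lib.helper16.FLF.isFinLocFree_pullback (KRR.pr n Y) hV
      set OP := Coh.structureModule (KRR.PY n Y) with hOP
      have hO : FlatMod.IsFinLocFree (KRR.twF n Y (d : ℤ) OP) :=
        isFinLocFree_twF n Y (Groth.Agent.Lib.helper16.FLF.isFinLocFree_structureModule _) _
      have hreg : KRR.IsRegSheaf n Y (KRR.twF n Y (d : ℤ) OP) :=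
        Groth.Agent.S19428.result n Y OP inferInstance
          (Groth.Agent.Lib.Helper20.PushOPn.isRegSheaf_structureModule n Y) d
      have hpO : FlatMod.IsFinLocFree ((Scheme.Modules.pushforward (KRR.pr n Y)).obj
          (KRR.twF n Y (d : ℤ) OP)) := Groth.Agent.S3756.result n Y _ hO hreg
      have e1 : KRR.cl (KRR.PY n Y) (KRR.twF n Y (d : ℤ) ((Scheme.Modules.pullback (KRR.pr n Y)).obj V)) =
          tensK hpV (KRR.cl (KRR.PY n Y) (KRR.twF n Y (d : ℤ) OP)) := by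
        rw [tensK_cl hpV hO]
        exact (cl_iso (tensorIso (rightUnitor (Twist.twistOver n Y (d : ℤ))) (Iso.refl _))).symm
      rw [pullK_cl _ hV, tauK_cl n Y _ hpV, e1, prK_tensK_pull hV, prK_cl n Y hO hreg,
        cl_push_twF_unit n Y (d : ℤ) (by omega), map_zsmul,
        tensK_cl hV (Groth.Agent.Lib.helper16.FLF.isFinLocFree_structureModule Y)]
      congr 1
      exact cl_iso (leftUnitor V))
  exact DFunLike.congr_fun this v

end Pn

end

end Groth.Agent.Lib.Helper20.KPr
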