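import Groth.Agent.Lib.Helper20.SectionPush
import Groth.Agent.Lib.Helper20.KPr

/-!
# `Kvb`-level versions of the push-forward theorems (no models on the target side) (helper20)

* `isPushCl_iff'`: characterisation of `IsPushCl` through `Ctx.pushK`, without a model.
* `pushCl_pushPr_K`: `i_! ∘ p_! = p_! ∘ j_!` for `j : P^n_X ⟶ P^n_Y` induced by a regular closed immersion `i`.
* `section_K`: `p_! ∘ s_! = id` for a section `s` of `P^n_Y ⟶ Y` (the base `Y` having a model).
-/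

set_option autoImplicit false
universe v u

open CategoryTheory CategoryTheory.Limits AlgebraicGeometry Opposite TopologicalSpace

namespace Groth.Agent.Lib.Helper20.KPushCl

open Groth.Agent.Lib.helper16.FLF Groth.Agent.Lib.Helper20.K0Reg Groth.Agent.Lib.Helper20.K0LFRes
  Groth.Agent.Lib.helper8.Dev Groth.Agent.Lib.Helper20.KosPY KZero
  Groth.Agent.Lib.Helper20.EulerRes Groth.Agent.Lib.Helper20.TensorEquiv
  Groth.Agent.Lib.Lead.ModTensor Groth.Agent.Lib.Helper20.PushRes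
  Groth.Agent.Lib.Helper20.PushClK Groth.Agent.Lib.Helper20.FibreReg
  Groth.Agent.Lib.Helper20.PushClPr Groth.Agent.Lib.Helper20.SectionPush
  Groth.Agent.Lib.Helper20.KPr Groth.Agent.Lib.helper7.K0API

noncomputable section

section Iff

variable {X Y : Scheme.{u}} {f : X ⟶ Y} [IsClosedImmersion f] [IsLocallyNoetherian Y] (c : Ctx f)
  (hYe : KRR.HasEnoughLocFree Y)
  {KX : Type v} [CommRing KX] {KY : Type v} [CommRing KY]
  (φX : SGA6.Kvb X →+ KX) (φY : SGA6.Kvb Y →+ KY)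

/-- characterisation of the push-forward on models, without a model hypothesis -/
theorem isPushCl_iff' (h : KX →+ KY) :
    KRR.IsPushCl f φX φY h ↔ ∀ x : SGA6.Kvb X, h (φX x) = φY (c.pushK hYe x) := by
  constructor
  · intro hh x
    have := hom_ext_vb (h.comp φX) (φY.comp (c.pushK hYe)) (fun F hF => by
      obtain ⟨n, L, π, hL⟩ := c.hasLFRes hYe (c.Q_push F hF)
      show h (φX (KRR.cl X F)) = φY (c.pushK hYe (KRR.cl X F))
      rw [hh F hF n L π hL, c.pushK_eq_of_isLFRes hYe F hF hL, map_sum]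
      refine Finset.sum_congr rfl (fun k _ => ?_)
      rw [map_zsmul])
    exact DFunLike.congr_fun this x
  · intro hh F hF n L π hL
    rw [hh, c.pushK_eq_of_isLFRes hYe F hF hL, map_sum]
    refine Finset.sum_congr rfl (fun k _ => ?_)
    rw [map_zsmul]

end Iff

section PushPr

variable {n : ℕ} {X Y : Scheme.{u}} (i : X ⟶ Y) [IsNoetherian X] [IsNoetherian Y]
  [IsClosedImmersion i] [IsClosedImmersion (KRR.projSpaceMap n i)]
  (ci : Ctx i) (cj : Ctx (KRR.projSpaceMap n i))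
  (hYe : KRR.HasEnoughLocFree Y) (hPe : KRR.HasEnoughLocFree (KRR.PY n Y))

/-- **`i_! ∘ p_! = p_! ∘ j_!`** on `Kvb` -/
theorem pushCl_pushPr_K (x : SGA6.Kvb (KRR.PY n X)) :
    ci.pushK hYe (prK n X x) = prK n Y (cj.pushK hPe x) := by
  let T : AddSubgroup (SGA6.Kvb (KRR.PY n X)) :=
    ((ci.pushK hYe).comp (prK n X)).eqLocus ((prK n Y).comp (cj.pushK hPe))
  have hT : T = ⊤ := by
    refine twist_induction n X T (fun G hG => ?_)
    obtain ⟨N, L, π, hL⟩ := cj.hasLFRes hPe (cj.Q_push G hG)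
    haveI := hL.quasiIso
    obtain ⟨m₁, hm₁⟩ := exists_twist_bound n Y _ (cj.Q_push G hG).1 hL
    obtain ⟨m₂, hm₂⟩ := exists_isRegSheaf_twF n X G (isCoh_of_vb hG)
    refine ⟨max m₁ m₂, fun m hm => ?_⟩
    obtain ⟨hreg, hS0, hS1, hS2⟩ := hm₁ m (by omega)
    have hGm := hm₂ m (by omega)
    have hGmvb : FlatMod.IsFinLocFree (KRR.twF n X (m : ℤ) G) := isFinLocFree_twF n X hG _
    have hLvb : ∀ k, FlatMod.IsFinLocFree (KRR.twF n Y (m : ℤ) (L.X k)) := fun k =>
      isFinLocFree_twF n Y (hL.finLocFree k) _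
    have hpvb : ∀ k, FlatMod.IsFinLocFree ((Scheme.Modules.pushforward (KRR.pr n Y)).obj
        (KRR.twF n Y (m : ℤ) (L.X k))) := fun k =>
      Groth.Agent.S3756.result n Y _ (hLvb k) (hreg k)
    have hgvb : FlatMod.IsFinLocFree ((Scheme.Modules.pushforward (KRR.pr n X)).obj
        (KRR.twF n X (m : ℤ) G)) := Groth.Agent.S3756.result n X _ hGmvb hGm
    show ci.pushK hYe (prK n X (KRR.cl (KRR.PY n X) (KRR.twF n X (m : ℤ) G))) =
      prK n Y (cj.pushK hPe (KRR.cl (KRR.PY n X) (KRR.twF n X (m : ℤ) G)))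
    -- the class of `j_*(G(m))`
    have e1 : cj.pushK hPe (KRR.cl (KRR.PY n X) (KRR.twF n X (m : ℤ) G)) =
        ∑ k ∈ Finset.range (N + 1), (-1 : ℤ) ^ k •
          KRR.cl (KRR.PY n Y) (KRR.twF n Y (m : ℤ) (L.X k)) := by
      apply (cj.eQ hPe).injective
      rw [cj.pushK_cl hPe _ hGmvb, map_sum]
      obtain ⟨-, h2⟩ := clSub_map_eq_alt_sum (TwF n Y (m : ℤ))
        (fun S hS => shortExact_map_TwF n Y (m : ℤ) S hS)
        (fun N hN => (TwF n Y (m : ℤ)).map_isZero hN) cj.Q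
        (P1_coker cj.t) cj.Q_zero L _ π (fun k => cj.le _ (hLvb k)) N hL.isZero
      rw [← clSub_iso cj.Q cj.Q_zero (fun _ _ e h => P1_of_iso cj.t e h) (pushTwFIso i G (m : ℤ))]
      refine h2.trans (Finset.sum_congr rfl (fun k _ => ?_))
      rw [map_zsmul, cj.eQ_cl hPe _ (hLvb k)]
      rfl
    -- the class of `i_*(g_*(G(m)))`
    have e2 : ci.pushK hYe (KRR.cl X ((Scheme.Modules.pushforward (KRR.pr n X)).obj
        (KRR.twF n X (m : ℤ) G))) =
        ∑ k ∈ Finset.range (N + 1), (-1 : ℤ) ^ k •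
          KRR.cl Y ((Scheme.Modules.pushforward (KRR.pr n Y)).obj
            (KRR.twF n Y (m : ℤ) (L.X k))) := by
      apply (ci.eQ hYe).injective
      rw [ci.pushK_cl hYe _ hgvb, map_sum]
      obtain ⟨-, h3⟩ := clSub_map_eq_alt_sum_of_exact (Gm n Y (m : ℤ))
        (fun N hN => (Gm n Y (m : ℤ)).map_isZero hN) ci.Q
        (P1_coker ci.t) ci.Q_zero L _ π hS0 hS1 hS2 (fun k => ci.le _ (hpvb k)) N hL.isZero
      let e : (Gm n Y (m : ℤ)).obj ((Scheme.Modules.pushforward (KRR.projSpaceMap n i)).obj G) ≅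
          (Scheme.Modules.pushforward i).obj ((Scheme.Modules.pushforward (KRR.pr n X)).obj
            (KRR.twF n X (m : ℤ) G)) :=
        (Scheme.Modules.pushforward (KRR.pr n Y)).mapIso (pushTwFIso i G (m : ℤ)) ≪≫
          pushSquareIso i _
      rw [← clSub_iso ci.Q ci.Q_zero (fun _ _ e h => P1_of_iso ci.t e h) e]
      refine h3.trans (Finset.sum_congr rfl (fun k _ => ?_))
      rw [map_zsmul, ci.eQ_cl hYe _ (hpvb k)]
      rfl
    rw [prK_cl n X hGmvb hGm, e2, e1, map_sum]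
    refine Finset.sum_congr rfl (fun k _ => ?_)
    rw [map_zsmul, prK_cl n Y (hLvb k) (hreg k)]
  have hx : x ∈ T := by rw [hT]; trivial
  exact hx

end PushPr

section Section

variable {n : ℕ} {Y : Scheme.{u}} (s : Y ⟶ KRR.PY n Y) (hs : s ≫ KRR.pr n Y = 𝟙 Y)
  [IsNoetherian Y] [IsClosedImmersion s] (c : Ctx s)
  (hPe : KRR.HasEnoughLocFree (KRR.PY n Y))
  {KY : Type v} [CommRing KY] [LambdaRing.LambdaOps KY] {PY : LambdaRing.PosStructure KY}
  {φY : SGA6.Kvb Y →+ KY} (hKY : KRR.IsModel Y KY PY φY)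

include hs hKY in
/-- **`p_! ∘ s_! = id`** on `Kvb` -/
theorem section_K (x : SGA6.Kvb Y) : prK n Y (c.pushK hPe x) = x := by
  have hQ0 : ∀ N : Y.Modules, IsZero N → KRR.vbP Y N :=
    fun N hN => Groth.Agent.Lib.helper25.FLFKernel.isFinLocFree_of_isZero hN
  have hQiso : ∀ M N : Y.Modules, (M ≅ N) → KRR.vbP Y M → KRR.vbP Y N :=
    fun M N e h => Groth.Agent.Lib.helper16.FLF.isFinLocFree_of_iso e h
  let T : AddSubgroup (SGA6.Kvb Y) :=
    ((prK n Y).comp (c.pushK hPe)).eqLocus (AddMonoidHom.id _)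
  have hT : T = ⊤ := by
    rw [eq_top_iff, ← Groth.Agent.Lib.helper7.K0API.closure_clSub (KRR.vbP Y)]
    refine (AddSubgroup.closure_le _).2 ?_
    rintro x ⟨F, hF, rfl⟩
    have hA : ∀ m : ℤ, FlatMod.IsFinLocFree (tw s F m) := fun m => isFinLocFree_tw s hF m
    -- large twists
    have hlarge : ∃ m₁ : ℕ, ∀ m : ℕ, m₁ ≤ m → KRR.cl Y (tw s F (m : ℤ)) ∈ T := by
      have hB := c.Q_push F hF
      obtain ⟨N, L, π, hL⟩ := c.hasLFRes hPe hB
      haveI := hL.quasiIso
      obtain ⟨m₁, hm₁⟩ := exists_twist_bound n Y _ hB.1 hL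
      refine ⟨m₁, fun m hm => ?_⟩
      obtain ⟨hreg, hS0, hS1, hS2⟩ := hm₁ m hm
      have hLvb : ∀ k, FlatMod.IsFinLocFree (KRR.twF n Y (m : ℤ) (L.X k)) := fun k =>
        isFinLocFree_twF n Y (hL.finLocFree k) _
      have hpvb : ∀ k, FlatMod.IsFinLocFree ((Scheme.Modules.pushforward (KRR.pr n Y)).obj
          (KRR.twF n Y (m : ℤ) (L.X k))) := fun k =>
        Groth.Agent.S3756.result n Y _ (hLvb k) (hreg k)
      show prK n Y (c.pushK hPe (KRR.cl Y (tw s F (m : ℤ)))) = KRR.cl Y (tw s F (m : ℤ))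
      -- the class of `s_*(F ⊗ s^*O(m))`
      have e1 : c.pushK hPe (KRR.cl Y (tw s F (m : ℤ))) =
          ∑ k ∈ Finset.range (N + 1), (-1 : ℤ) ^ k •
            KRR.cl (KRR.PY n Y) (KRR.twF n Y (m : ℤ) (L.X k)) := by
        apply (c.eQ hPe).injective
        rw [c.pushK_cl hPe _ (hA m), map_sum]
        obtain ⟨-, h2⟩ := clSub_map_eq_alt_sum (TwF n Y (m : ℤ))
          (fun S hS => shortExact_map_TwF n Y (m : ℤ) S hS)
          (fun N hN => (TwF n Y (m : ℤ)).map_isZero hN) c.Q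
          (P1_coker c.t) c.Q_zero L _ π (fun k => c.le _ (hLvb k)) N hL.isZero
        rw [← clSub_iso c.Q c.Q_zero (fun _ _ e h => P1_of_iso c.t e h) (pushTwIso s F (m : ℤ))]
        refine h2.trans (Finset.sum_congr rfl (fun k _ => ?_))
        rw [map_zsmul, c.eQ_cl hPe _ (hLvb k)]
        rfl
      -- the class of `F ⊗ s^*O(m)`
      let e : (Gm n Y (m : ℤ)).obj ((Scheme.Modules.pushforward s).obj F) ≅ tw s F (m : ℤ) :=
        (Scheme.Modules.pushforward (KRR.pr n Y)).mapIso (pushTwIso s F (m : ℤ)) ≪≫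
          pushPushIso s hs _
      have e2 : KRR.cl Y (tw s F (m : ℤ)) =
          ∑ k ∈ Finset.range (N + 1), (-1 : ℤ) ^ k •
            KRR.cl Y ((Scheme.Modules.pushforward (KRR.pr n Y)).obj
              (KRR.twF n Y (m : ℤ) (L.X k))) := by
        have h3 := clSub_map_eq_alt_sum_of_ker_exact (Gm n Y (m : ℤ))
          (fun N hN => (Gm n Y (m : ℤ)).map_isZero hN) (KRR.vbP Y)
          (fun S hS h2 h3 => vb_ker S hS h2 h3) hQ0 L _ π hS0 hS1 hS2 hpvb
          (hQiso _ _ e.symm (hA m)) N hL.isZero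
        rw [KRR.cl, ← clSub_iso (KRR.vbP Y) hQ0 hQiso e]
        exact h3
      rw [e1, map_sum]
      conv_rhs => rw [e2]
      refine Finset.sum_congr rfl (fun k _ => ?_)
      rw [map_zsmul, prK_cl n Y (hLvb k) (hreg k)]
    -- downward induction through the Koszul relation
    obtain ⟨m₁, hm⟩ := hlarge
    have key : ∀ (D : ℕ) (k : ℤ), (m₁ : ℤ) - D ≤ k → KRR.cl Y (tw s F k) ∈ T := by
      intro D
      induction D with
      | zero =>
        intro k hk
        obtain ⟨m, rfl⟩ := Int.eq_ofNat_of_zero_le (show 0 ≤ k by simp at hk; omega)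
        exact hm m (by simp at hk; omega)
      | succ D ih =>
        intro k hk
        by_cases hk' : (m₁ : ℤ) - D ≤ k
        · exact ih k hk'
        have hrel := koszul_relation_tw s hKY hF k
        rw [Finset.sum_range_succ'] at hrel
        simp only [pow_zero, Nat.choose_zero_right, one_smul, Nat.cast_zero, add_zero] at hrel
        have h2 : KRR.cl Y (tw s F k) =
            -∑ j ∈ Finset.range (n + 1), (-1 : ℤ) ^ (j + 1) • ((n + 1).choose (j + 1) •
              KRR.cl Y (tw s F (k + ((j + 1 : ℕ) : ℤ)))) :=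
          eq_neg_of_add_eq_zero_right hrel
        rw [h2]
        refine AddSubgroup.neg_mem _ (AddSubgroup.sum_mem _ fun j _ => ?_)
        refine AddSubgroup.zsmul_mem _ (AddSubgroup.nsmul_mem _ ?_ _) _
        exact ih _ (by push_cast at hk ⊢; omega)
    have h0 := key ((m₁ : ℤ) - 0).toNat 0 (by omega)
    rw [KRR.cl, clSub_iso (KRR.vbP Y) hQ0 hQiso (twZeroIso s F)] at h0
    exact h0
  have hx : x ∈ T := by rw [hT]; trivial
  exact hx

end Section

end

end Groth.Agent.Lib.Helper20.KPushCl
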