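import Groth.Agent.Lib.Helper20.PushClK
import Groth.Agent.Lib.Helper20.EulerRes2
import Groth.Agent.Lib.Helper25.RelPC

/-!
# Functoriality of the push-forward of regular closed immersions on `K` (helper20)

`pushCl_comp`: `(f ≫ g)_K = g_K ∘ f_K`.
-/

set_option autoImplicit false
universe v u

open CategoryTheory CategoryTheory.Limits AlgebraicGeometry Opposite TopologicalSpace

namespace Groth.Agent.Lib.Helper20.PushClK

open Groth.Agent.Lib.helper16.FLF Groth.Agent.Lib.Helper20.K0Reg Groth.Agent.Lib.Helper20.K0LFRes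
  Groth.Agent.Lib.Helper20.PushClPd Groth.Agent.Lib.helper13.K0Res Groth.Agent.Lib.helper8.Dev
  Groth.Agent.Lib.helper7.K0API Groth.Agent.Lib.Helper20.KosPY KZero
  Groth.Agent.Lib.Helper20.EulerRes

noncomputable section

variable {X Y Z : Scheme.{u}}

/-- the direct image along a closed immersion is exact -/
theorem shortExact_map_push (g : Y ⟶ Z) [IsClosedImmersion g] (S : ShortComplex Y.Modules)
    (hS : S.ShortExact) : (S.map (Scheme.Modules.pushforward g)).ShortExact := by
  haveI := Groth.Agent.Lib.Helper25.RelPC.preservesFiniteColimits_push g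
  haveI := Groth.Agent.Lib.Helper25.RelPC.preservesFiniteLimits_push g
  exact hS.map_of_exact _

variable {f : X ⟶ Y} {g : Y ⟶ Z} [IsClosedImmersion f] [IsClosedImmersion g]
  [IsLocallyNoetherian Y] [IsLocallyNoetherian Z] (cf : Ctx f) (cg : Ctx g)
  (hYe : KRR.HasEnoughLocFree Y) (hZe : KRR.HasEnoughLocFree Z)

include hYe in
/-- the direct image under `g` of a module of `Q_Y` coming from `X` lies in `Q_Z`, with the expected class -/
theorem eQ_pushK_pushK (F : X.Modules) (hF : FlatMod.IsFinLocFree F) :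
    cg.Q ((Scheme.Modules.pushforward g).obj ((Scheme.Modules.pushforward f).obj F)) ∧
    cg.eQ hZe (cg.pushK hZe (cf.pushK hYe (KRR.cl X F))) =
      KZero.clSub cg.Q ((Scheme.Modules.pushforward g).obj ((Scheme.Modules.pushforward f).obj F)) := by
  obtain ⟨n, L, π, hL⟩ := cf.hasLFRes hYe (cf.Q_push F hF)
  haveI := hL.quasiIso
  obtain ⟨h1, h2⟩ := clSub_map_eq_alt_sum (Scheme.Modules.pushforward g)
    (fun S hS => shortExact_map_push g S hS)
    (fun N hN => (Scheme.Modules.pushforward g).map_isZero hN) cg.Q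
    (P1_coker cg.t) cg.Q_zero L _ π (fun k => cg.Q_push _ (hL.finLocFree k)) n hL.isZero
  refine ⟨h1, ?_⟩
  rw [cf.pushK_eq_of_isLFRes hYe F hF hL, map_sum, map_sum, h2]
  refine Finset.sum_congr rfl (fun k _ => ?_)
  rw [map_zsmul, map_zsmul, cg.pushK_cl hZe _ (hL.finLocFree k)]

variable {KX : Type v} [CommRing KX] [LambdaRing.LambdaOps KX] {PX : LambdaRing.PosStructure KX}
  {φX : SGA6.Kvb X →+ KX} (hKX : KRR.IsModel X KX PX φX)
  {KY : Type v} [CommRing KY] [LambdaRing.LambdaOps KY] {PY : LambdaRing.PosStructure KY}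
  {φY : SGA6.Kvb Y →+ KY} (hKY : KRR.IsModel Y KY PY φY)
  {KZ : Type v} [CommRing KZ] [LambdaRing.LambdaOps KZ] {PZ : LambdaRing.PosStructure KZ}
  {φZ : SGA6.Kvb Z →+ KZ}

include cf cg hYe hZe hKX hKY in
/-- **`(f ≫ g)_K = g_K ∘ f_K`** -/
theorem pushCl_comp {a : KX →+ KY} (ha : KRR.IsPushCl f φX φY a) {b : KY →+ KZ}
    (hb : KRR.IsPushCl g φY φZ b) {c : KX →+ KZ} (hc : KRR.IsPushCl (f ≫ g) φX φZ c) :
    c = b.comp a := by
  rw [cf.isPushCl_iff hYe hKX] at ha
  rw [cg.isPushCl_iff hZe hKY] at hb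
  ext z
  let S : AddSubgroup KX := c.eqLocus (b.comp a)
  have hz : z ∈ S := by
    refine model_induction_base hKX S (fun F hF => ?_) z
    show c (φX (KRR.cl X F)) = b (a (φX (KRR.cl X F)))
    rw [ha, hb]
    obtain ⟨hQ, hcl⟩ := eQ_pushK_pushK cf cg hYe hZe F hF
    let e : (Scheme.Modules.pushforward g).obj ((Scheme.Modules.pushforward f).obj F) ≅
        (Scheme.Modules.pushforward (f ≫ g)).obj F :=
      (Scheme.Modules.pushforwardComp f g).app F
    have hQ' : cg.Q ((Scheme.Modules.pushforward (f ≫ g)).obj F) := P1_of_iso cg.t e hQ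
    obtain ⟨m, M, ρ, hM⟩ := cg.hasLFRes hZe hQ'
    rw [hc F hF m M ρ hM]
    have h3 := cg.clSub_eq_of_isLFRes hZe hQ' hM
    have h4 : KZero.clSub cg.Q ((Scheme.Modules.pushforward g).obj
        ((Scheme.Modules.pushforward f).obj F)) =
        KZero.clSub cg.Q ((Scheme.Modules.pushforward (f ≫ g)).obj F) :=
      clSub_iso cg.Q cg.Q_zero (fun _ _ e h => P1_of_iso cg.t e h) e
    have h5 : cg.pushK hZe (cf.pushK hYe (KRR.cl X F)) =
        ∑ k ∈ Finset.range (m + 1), (-1 : ℤ) ^ k • KRR.cl Z (M.X k) := by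
      apply (cg.eQ hZe).injective
      rw [hcl, h4, h3]
    rw [h5, map_sum]
    refine Finset.sum_congr rfl (fun k _ => ?_)
    rw [map_zsmul]
  exact hz

end

end Groth.Agent.Lib.Helper20.PushClK
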