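import Mathlib
import Groth.Agent.S0022
import Groth.Agent.Lib.Helper20.FreeSpan
import Groth.Agent.Lib.Helper20.FlatPn
import Groth.Agent.Lib.Helper20.RegRing
import Groth.Agent.Lib.Helper20.TwistEquivPn
import Groth.Agent.Lib.Helper25.PullFlatExact
import Groth.Agent.Lib.Helper11.CounitEpi
import Groth.Agent.Lib.Helper16.CohFinite
import Groth.Agent.Lib.Helper16.QCohPullback
import Groth.Agent.Lib.Helper16.QCohPullback2
import Groth.Agent.Lib.Helper7.CohKer
import Groth.Agent.Lib.Lead.SerreVan
import Groth.Agent.Lib.Helper18.HHConseq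
import Groth.Agent.Lib.Helper20.BoundedQuot

/-!
# Cohomology of `π^* M (d)` on `P^n_A` (helper20)

`A` Noetherian, `π : P^n_A ⟶ Spec A`, `M` coherent on `Spec A`.
* `exists_epi_free_of_isAffine`: a coherent module on an affine scheme is a quotient of a finite
  free module.
* `subsingleton_HH_pull_twist`: `H^i(P^n_A, π^* M ⊗ O(d)) = 0` for `i ≥ 1`, `d ≥ -n`.
* `isReg_pull`: `π^* M` is `0`-regular.
-/

set_option autoImplicit false
universe u
open CategoryTheory CategoryTheory.Limits AlgebraicGeometry Opposite TopologicalSpace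

namespace Groth.Agent.Lib.Helper20.PullVanish

open Groth.Agent.Lib.Helper20.FreeSpan Groth.Agent.Lib.helper11.SerreGG
  Groth.Agent.Lib.helper12.AmpleBasis Groth.Agent.Lib.Lead.ModTensor
  Groth.Agent.Lib.Helper20.TwistEquivPn Groth.Agent.Lib.Helper20.RegRing
  Groth.Agent.Lib.Helper18.HH

section Affine

/-- a coherent module on an affine scheme is a quotient of a finite free module -/
theorem exists_epi_free_of_isAffine {X : Scheme.{u}} [IsAffine X] (M : X.Modules)
    (hM : Coh.IsCoh M) :
    ∃ (m : ℕ) (g : (SheafOfModules.free (ULift.{u} (Fin m)) : X.Modules) ⟶ M), Epi g := by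
  haveI : M.IsQuasicoherent := hM.1
  obtain ⟨ι, p, hp⟩ := Groth.Agent.Lib.helper11.CounitEpi.isGloballyGenerated_of_isAffine M
  haveI hfin : Module.Finite Γ(X, ⊤) Γ(M, ⊤) :=
    Groth.Agent.Lib.helper16.CohFinite.finite_sections_of_isCoh M hM (isAffineOpen_top X)
  obtain ⟨m, w, hw⟩ := Module.Finite.exists_fin (R := Γ(X, ⊤)) (M := Γ(M, ⊤))
  let w' : ULift.{u} (Fin m) → M.val.obj (op ⊤) := fun l => w l.down
  obtain ⟨c, hc⟩ := exists_factor (M := M)
    (fun i : ι => SecTwist.val ((SheafOfModules.ιFree i :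
      Coh.structureModule X ⟶ (SheafOfModules.free ι : X.Modules)) ≫ p) ⊤) w' (fun i => by
    have hmem : (show Γ(M, ⊤) from SecTwist.val ((SheafOfModules.ιFree i :
        Coh.structureModule X ⟶ (SheafOfModules.free ι : X.Modules)) ≫ p) ⊤) ∈
        Submodule.span Γ(X, ⊤) (Set.range w) := by rw [hw]; trivial
    obtain ⟨a, ha⟩ := (Submodule.mem_span_range_iff_exists_fun _).1 hmem
    refine ⟨Finset.univ, fun l => a l.down, ?_⟩
    exact ha.symm.trans (Fintype.sum_equiv Equiv.ulift _ _ (fun l => rfl)).symm)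
  refine ⟨m, canonBy M w', ?_⟩
  have h1 : Epi (c ≫ canonBy M w') := by
    rw [hc, ← eq_canonBy]
    exact hp
  exact epi_of_epi c _

end Affine

section Pn

variable (n : ℕ) (A : Type u) [CommRing A]

/-- `π^*` of a finite free module, twisted -/
noncomputable def pullFreeTwistIso (m : ℕ) (d : ℤ) :
    CohB1.tensorMod ((Scheme.Modules.pullback (CohB1.ProjSpace.toSpec n A)).obj
      (SheafOfModules.free (ULift.{u} (Fin m)) : (Spec (CommRingCat.of A)).Modules))
      (Twist.twistProjSpace n A d) ≅
    CohB1.tensorMod (∐ fun _ : Fin m => Twist.twistProjSpace n A 0) (Twist.twistProjSpace n A d) :=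
  tensorIso
    (Groth.Agent.Lib.helper11.CounitEpi.pullbackFreeIso (CohB1.ProjSpace.toSpec n A) _ ≪≫
      Sigma.whiskerEquiv (f := fun _ : ULift.{u} (Fin m) => Coh.structureModule _)
        (g := fun _ : Fin m => Twist.twistProjSpace n A 0) Equiv.ulift
        (fun _ => (Groth.Agent.Lib.helper28.TwistPn.zeroIso n A).symm))
    (Iso.refl _)

variable [IsNoetherianRing A]

/-- **`H^i(P^n_A, π^* M ⊗ O(d)) = 0` for `i ≥ 1` and `d ≥ -n`** (`M` coherent on `Spec A`). -/
theorem subsingleton_HH_pull_twist (i : ℕ) (hi : 1 ≤ i)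
    (M : (Spec (CommRingCat.of A)).Modules) (hM : Coh.IsCoh M) (d : ℤ) (hd : -(n : ℤ) ≤ d) :
    Subsingleton (Coh.HH (CohB1.ProjSpace n A)
      (CohB1.tensorMod ((Scheme.Modules.pullback (CohB1.ProjSpace.toSpec n A)).obj M)
        (Twist.twistProjSpace n A d)) i) := by
  suffices key : ∀ (t i : ℕ), 1 ≤ i → n + 1 ≤ i + t →
      ∀ (M : (Spec (CommRingCat.of A)).Modules), Coh.IsCoh M →
      Subsingleton (Coh.HH (CohB1.ProjSpace n A)
        (CohB1.tensorMod ((Scheme.Modules.pullback (CohB1.ProjSpace.toSpec n A)).obj M)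
          (Twist.twistProjSpace n A d)) i) from key (n + 1) i hi (by omega) M hM
  intro t
  induction t with
  | zero =>
    intro i hi hit M hM
    haveI : M.IsQuasicoherent := hM.1
    haveI : ((Scheme.Modules.pullback (CohB1.ProjSpace.toSpec n A)).obj M).IsQuasicoherent :=
      Groth.Agent.Lib.helper16.QCohPullback.isQuasicoherent_pullback _ _
    haveI : (Twist.twistProjSpace n A d).IsQuasicoherent :=
      Groth.Agent.Lib.helper28.TwistPn.isQuasicoherent n A d
    haveI : Coh.IsQCoh (CohB1.tensorMod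
        ((Scheme.Modules.pullback (CohB1.ProjSpace.toSpec n A)).obj M)
        (Twist.twistProjSpace n A d)) :=
      Groth.Agent.Lib.helper2.TensorQCoh.isQuasicoherent_tensorMod _ _
    exact Groth.Agent.S0022.result n A _ i (by omega)
  | succ t ih =>
    intro i hi hit M hM
    have : IsLocallyNoetherian (Spec (CommRingCat.of A)) := inferInstance
    obtain ⟨m, g, hg⟩ := exists_epi_free_of_isAffine M hM
    have hfree : Coh.IsCoh (SheafOfModules.free (ULift.{u} (Fin m)) :
        (Spec (CommRingCat.of A)).Modules) :=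
      Groth.Agent.Lib.Helper20.BoundedQuot.isCoh_free _ m
    have hK : Coh.IsCoh (kernel g) := Groth.Agent.Lib.helper7.CohKer.isCoh_kernel hfree hM g
    let S : ShortComplex (Spec (CommRingCat.of A)).Modules :=
      ShortComplex.mk (kernel.ι g) g (kernel.condition g)
    have hS : S.ShortExact :=
      ShortComplex.ShortExact.mk' (ShortComplex.exact_of_f_is_kernel S (kernelIsKernel g))
        (inferInstanceAs (Mono (kernel.ι g))) hg
    have hS' : (S.map (Scheme.Modules.pullback (CohB1.ProjSpace.toSpec n A))).ShortExact :=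
      hS.map_of_exact _
    have hS'' := shortExact_twistSC n A d hS'
    have h1 : Subsingleton (Coh.HH (CohB1.ProjSpace n A)
        (twistSC n A d (S.map (Scheme.Modules.pullback (CohB1.ProjSpace.toSpec n A)))).X₁
        (i + 1)) := ih (i + 1) (by omega) (by omega) (kernel g) hK
    have h2 : Subsingleton (Coh.HH (CohB1.ProjSpace n A)
        (twistSC n A d (S.map (Scheme.Modules.pullback (CohB1.ProjSpace.toSpec n A)))).X₂ i) :=
      subsingleton_of_iso (pullFreeTwistIso n A m d).symm i
        (Groth.Agent.Lib.Lead.SerreVan.subsingleton_HH_sigma_twist n A m 0 d i hi (by omega))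
    exact subsingleton_X₃ hS'' i h2 h1

/-- `π^* M` is `0`-regular -/
theorem isReg_pull (M : (Spec (CommRingCat.of A)).Modules) (hM : Coh.IsCoh M) :
    IsReg n A ((Scheme.Modules.pullback (CohB1.ProjSpace.toSpec n A)).obj M) 0 := by
  intro i hi
  by_cases hin : i ≤ n
  · exact subsingleton_HH_pull_twist n A i hi M hM _ (by omega)
  · haveI : M.IsQuasicoherent := hM.1
    haveI : ((Scheme.Modules.pullback (CohB1.ProjSpace.toSpec n A)).obj M).IsQuasicoherent :=
      Groth.Agent.Lib.helper16.QCohPullback.isQuasicoherent_pullback _ _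
    haveI : (Twist.twistProjSpace n A (0 - (i : ℤ))).IsQuasicoherent :=
      Groth.Agent.Lib.helper28.TwistPn.isQuasicoherent n A _
    haveI : Coh.IsQCoh (CohB1.tensorMod
        ((Scheme.Modules.pullback (CohB1.ProjSpace.toSpec n A)).obj M)
        (Twist.twistProjSpace n A (0 - (i : ℤ)))) :=
      Groth.Agent.Lib.helper2.TensorQCoh.isQuasicoherent_tensorMod _ _
    exact Groth.Agent.S0022.result n A _ i (by omega)

end Pn

end Groth.Agent.Lib.Helper20.PullVanish
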