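import Mathlib
import Groth.Agent.Lib.Helper20.PullVanish
import Groth.Agent.Lib.Helper20.RelReg
import Groth.Agent.Lib.Helper28.CanonIso
import Groth.Agent.Lib.Helper21.ShHomCoh2

/-!
# Regularity of `p^* M` on `P^n_Y` (helper20)

`Y` locally Noetherian, `p : P^n_Y ⟶ Y`, `M` coherent on `Y`.
* `nonempty_GV_pullback_iso`: `G_V (p^* M) ≅ π^* (j^* M)` for `V ⊆ Y` affine open,
  `π : P^n_{Γ(Y,V)} ⟶ Spec Γ(Y,V)`, `j : Spec Γ(Y,V) ⟶ Y`.
* `isRegSheaf_pullback`, `isRegSheaf_tw_pullback`: `p^* M` and `(p^* M)(1)` are regular.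
-/

set_option autoImplicit false
universe u
open CategoryTheory CategoryTheory.Limits AlgebraicGeometry Opposite TopologicalSpace

namespace Groth.Agent.Lib.Helper20.RegKer

open Groth.Agent.Lib.Helper20.RegRing Groth.Agent.Lib.helper12.PnLocal
  Groth.Agent.Lib.Helper20.RelReg Groth.Agent.Lib.Helper20.PullVanish

variable (n : ℕ) {Y : Scheme.{u}} (V : Y.Opens) (hV : IsAffineOpen V)

lemma inv_theta_comp :
    inv (theta n V hV).hom ≫ (KRR.pr n Y ⁻¹ᵁ V).ι ≫ KRR.pr n Y =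
      CohB1.ProjSpace.toSpec n Γ(Y, V) ≫ hV.fromSpec := by
  rw [IsIso.inv_comp_eq]
  have h := theta_hom_toSpec n V hV
  have h1 : (KRR.pr n Y ⁻¹ᵁ V).ι ≫ KRR.pr n Y = (KRR.pr n Y ∣_ V) ≫ V.ι :=
    (morphismRestrict_ι _ _).symm
  rw [h1, ← hV.isoSpec_hom_fromSpec, ← Category.assoc]
  exact (congrArg (· ≫ hV.fromSpec) h.symm).trans (Category.assoc _ _ _)

/-- `G_V (p^* M) ≅ π^* (j^* M)` -/
theorem nonempty_GV_pullback_iso (M : Y.Modules) :
    Nonempty (GV n V hV ((Scheme.Modules.pullback (KRR.pr n Y)).obj M) ≅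
      (Scheme.Modules.pullback (CohB1.ProjSpace.toSpec n Γ(Y, V))).obj
        ((Scheme.Modules.pullback hV.fromSpec).obj M)) := by
  let e1 := (Groth.Agent.Lib.helper28.CanonIso.pullbackInvIso (theta n V hV).hom).symm.app
    (((Scheme.Modules.pullback (KRR.pr n Y)).obj M).restrict (KRR.pr n Y ⁻¹ᵁ V).ι)
  let e2 := (Scheme.Modules.pullback (inv (theta n V hV).hom)).mapIso
    ((Scheme.Modules.restrictFunctorIsoPullback (KRR.pr n Y ⁻¹ᵁ V).ι).app
      ((Scheme.Modules.pullback (KRR.pr n Y)).obj M))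
  let e3 := (Scheme.Modules.pullback (inv (theta n V hV).hom)).mapIso
    ((Scheme.Modules.pullbackComp (KRR.pr n Y ⁻¹ᵁ V).ι (KRR.pr n Y)).app M)
  let e4 := (Scheme.Modules.pullbackComp (inv (theta n V hV).hom)
    ((KRR.pr n Y ⁻¹ᵁ V).ι ≫ KRR.pr n Y)).app M
  let e5 := (Scheme.Modules.pullbackCongr (inv_theta_comp n V hV)).app M
  let e6 := ((Scheme.Modules.pullbackComp (CohB1.ProjSpace.toSpec n Γ(Y, V)) hV.fromSpec).app M).symm
  exact ⟨e1 ≪≫ e2 ≪≫ e3 ≪≫ e4 ≪≫ e5 ≪≫ e6⟩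

include hV in
theorem isCoh_pullback_fromSpec {M : Y.Modules} (hM : Coh.IsCoh M) :
    Coh.IsCoh ((Scheme.Modules.pullback hV.fromSpec).obj M) := by
  haveI : M.IsQuasicoherent := hM.1
  exact ⟨Groth.Agent.Lib.helper16.QCohPullback.isQuasicoherent_pullback _ _,
    Groth.Agent.Lib.helper16.QCohPullback2.isFiniteType_pullback hV.fromSpec M hM.2⟩

variable [IsLocallyNoetherian Y]

/-- `G_V (p^* M)` is `0`-regular -/
theorem isReg_GV_pullback {M : Y.Modules} (hM : Coh.IsCoh M) :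
    IsReg n Γ(Y, V) (GV n V hV ((Scheme.Modules.pullback (KRR.pr n Y)).obj M)) 0 := by
  haveI : IsNoetherianRing Γ(Y, V) := IsLocallyNoetherian.component_noetherian ⟨V, hV⟩
  obtain ⟨e⟩ := nonempty_GV_pullback_iso n V hV M
  exact isReg_of_iso e.symm (isReg_pull n Γ(Y, V) _ (isCoh_pullback_fromSpec V hV hM))

variable (Y)

/-- `p^* M` is regular -/
theorem isRegSheaf_pullback {M : Y.Modules} (hM : Coh.IsCoh M) :
    KRR.IsRegSheaf n Y ((Scheme.Modules.pullback (KRR.pr n Y)).obj M) := by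
  haveI : M.IsQuasicoherent := hM.1
  haveI : ((Scheme.Modules.pullback (KRR.pr n Y)).obj M).IsQuasicoherent :=
    Groth.Agent.Lib.helper16.QCohPullback.isQuasicoherent_pullback _ _
  exact (isRegSheaf_iff n Y _).2 fun V hV => isReg_GV_pullback n V hV hM

/-- `(p^* M)(1)` is regular -/
theorem isRegSheaf_tw_pullback {M : Y.Modules} (hM : Coh.IsCoh M) :
    KRR.IsRegSheaf n Y (KRR.twF n Y 1 ((Scheme.Modules.pullback (KRR.pr n Y)).obj M)) := by
  haveI : M.IsQuasicoherent := hM.1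
  haveI hq : ((Scheme.Modules.pullback (KRR.pr n Y)).obj M).IsQuasicoherent :=
    Groth.Agent.Lib.helper16.QCohPullback.isQuasicoherent_pullback _ _
  haveI := isQuasicoherent_twF n Y ((Scheme.Modules.pullback (KRR.pr n Y)).obj M) 1
  refine (isRegSheaf_iff n Y _).2 fun V hV => ?_
  obtain ⟨e⟩ := nonempty_GV_twF_iso n V hV ((Scheme.Modules.pullback (KRR.pr n Y)).obj M) 1
  refine isReg_of_iso e.symm ?_
  rw [isReg_twist_iff]
  haveI := isQuasicoherent_GV n V hV ((Scheme.Modules.pullback (KRR.pr n Y)).obj M)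
  exact isReg_of_le (isQuasicoherent_GV n V hV _) (isReg_GV_pullback n V hV hM) _ (by norm_num)

end Groth.Agent.Lib.Helper20.RegKer
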