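import Mathlib
import Groth.Agent.Lib.Helper20.RegRing
import Groth.Agent.Lib.Helper20.GGDescent
import Groth.Agent.Lib.Helper7.QCohZero
import Groth.Agent.Lib.Helper16.QCohEpi
import Groth.Agent.Lib.Helper25.QCohCoprod

/-!
# A `0`-regular quasi-coherent module on `P^n_A` is globally generated (helper20)

`A` any commutative ring, no finiteness hypothesis on the module.
* `twistHom_naturality`.
* `gg_of_isReg`.
-/

set_option autoImplicit false
universe u

open CategoryTheory CategoryTheory.Limits AlgebraicGeometry Opposite TopologicalSpace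

namespace Groth.Agent.Lib.Helper20.RegGG

open Groth.Agent.Lib.helper20.KosSurj Groth.Agent.Lib.helper20.GGDescent
  Groth.Agent.Lib.helper11.SerreGG Groth.Agent.Lib.Lead.ModTensor
  Groth.Agent.Lib.Helper20.TensorEquiv Groth.Agent.Lib.helper12.TwistExtend
  Groth.Agent.Lib.helper12.AmpleBasis Groth.Agent.Lib.Helper20.RegRing
  Groth.Agent.Lib.helper28 Groth.Agent.Lib.helper11.IsoLocus

section General

variable {X : Scheme.{u}}

/-- multiplication by `s^{⊗ m}` is natural -/
lemma twistHom_naturality {L : X.Modules} (s : Coh.structureModule X ⟶ L) (m : ℕ)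
    {G Q : X.Modules} (φ : G ⟶ Q) :
    twistHom s m G ≫ tensorMap φ (𝟙 (CohB1.tensorPow L m)) = φ ≫ twistHom s m Q := by
  unfold twistHom
  have h1 : tensorMap (𝟙 G) (SecTwist.powHom s m) ≫ tensorMap φ (𝟙 (CohB1.tensorPow L m)) =
      tensorMap φ (𝟙 (Coh.structureModule X)) ≫ tensorMap (𝟙 Q) (SecTwist.powHom s m) := by
    rw [← tensorMap_comp, ← tensorMap_comp, Category.id_comp, Category.comp_id, Category.id_comp,
      Category.comp_id]
  have h2 : (SecTwist.unitorR G).inv ≫ tensorMap φ (𝟙 (Coh.structureModule X)) =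
      φ ≫ (SecTwist.unitorR Q).inv := by
    rw [Iso.inv_comp_eq, ← Category.assoc, Iso.eq_comp_inv]
    exact rightUnitor_naturality φ
  rw [Category.assoc, h1, ← Category.assoc, h2, Category.assoc]

end General

section Pn

variable {n : ℕ} {A : Type u} [CommRing A]

open Groth.Agent.Lib.helper12.TensorPowAdd Groth.Agent.Lib.helper12.TensorInv in
/-- **A `0`-regular quasi-coherent module on `P^n_A` is globally generated.** -/
theorem gg_of_isReg (G : (CohB1.ProjSpace n A).Modules) (hq : Coh.IsQCoh G)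
    (h : IsReg n A G 0) : Curv2.IsGloballyGenerated G := by
  haveI : G.IsQuasicoherent := hq
  haveI hfree : (SheafOfModules.free (G.val.obj (op ⊤)) :
      (CohB1.ProjSpace n A).Modules).IsQuasicoherent :=
    Groth.Agent.Lib.helper25.QCohCoprod.isQuasicoherent_coproduct _
      (fun _ : G.val.obj (op ⊤) => SheafOfModules.unit (CohB1.ProjSpace n A).ringCatSheaf)
      (fun _ => structureModule_qcoh _)
  haveI hQq : (cokernel (ev G)).IsQuasicoherent :=
    Groth.Agent.Lib.helper7.CohKer.isQuasicoherent_cokernel (ev G)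
  haveI hqs : QuasiSeparatedSpace (CohB1.ProjSpace n A) :=
    inferInstanceAs (QuasiSeparatedSpace (Proj (CohB1.polyGrading n A)))
  have hL : PicF.IsInvertible (Twist.twistProjSpace n A ((1 : ℕ) : ℤ)) :=
    TwistPn.isInvertible n A _
  obtain ⟨-, -, hamp⟩ := TwistPn.isAmple n A 1 Nat.one_pos
  -- all global sections of `G ⊗ (L^{d+1})^m` come from `Γ(G) ⊗ Γ`
  have hT : ∀ (d m : ℕ) (τ : (CohB1.tensorMod G (CohB1.tensorPow
      (CohB1.tensorPow (Twist.twistProjSpace n A ((1 : ℕ) : ℤ)) (d + 1)) m)).val.obj (op ⊤)),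
      τ ∈ (T G _).range := by
    intro d m τ
    let eL : CohB1.tensorPow (CohB1.tensorPow (Twist.twistProjSpace n A ((1 : ℕ) : ℤ)) (d + 1)) m ≅
        Twist.twistProjSpace n A ((((d + 1) * m : ℕ)) : ℤ) :=
      Groth.Agent.Lib.helper12.TensorPowAdd.tensorPowMul _ (d + 1) m ≪≫
        (TwistPn.powIso n A ((d + 1) * m)).symm
    have h1 := mem_range_T n A G ((d + 1) * m)
      (fun e' _ p hp => vanish_of_isReg hq h p hp _ (by omega))
      (((tensorMap (𝟙 G) eL.hom).val.app (op ⊤)).hom τ)
    have h2 := tensorMap_mem_range (𝟙 G) eL.inv _ h1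
    have h3 : tensorMap (𝟙 G) eL.hom ≫ tensorMap (𝟙 G) eL.inv = 𝟙 _ := by
      rw [← tensorMap_comp, Category.comp_id, Iso.hom_inv_id, tensorMap_id]
    have h4 : ((tensorMap (𝟙 G) eL.inv).val.app (op ⊤)).hom
        (((tensorMap (𝟙 G) eL.hom).val.app (op ⊤)).hom τ) = τ :=
      congrArg (fun φ : CohB1.tensorMod G _ ⟶ CohB1.tensorMod G _ => (φ.val.app (op ⊤)).hom τ) h3
    rwa [h4] at h2
  -- the cokernel of `ev G` has no sections on the affine opens `X_s`
  have hzero : IsZero (cokernel (ev G)) := by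
    choose d s hs haff using hamp
    refine Groth.Agent.Lib.helper7.QCohZero.isZero_of_subsingleton_sections _
      (fun x => CohB1.genLocus _ (s x)) haff (fun x => ⟨x, hs x⟩) (fun x => ?_)
    suffices key : ∀ t : (cokernel (ev G)).val.obj (op (CohB1.genLocus _ (s x))), t = 0 from
      ⟨fun t t' => (key t).trans (key t').symm⟩
    intro t
    obtain ⟨τ, hτ⟩ := @Groth.Agent.Lib.helper16.QCohEpi.surjective_app_of_epi _ _ _ _ _
      (cokernel.π (ev G)) coequalizer.π_epi _ (haff x) t
    have hL' := isInvertible_tensorPow hL (d x + 1)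
    obtain ⟨m₀, hm₀⟩ := exists_extend_twist_ge G hL' (s x) τ
    obtain ⟨T₀, hT₀⟩ := hm₀ m₀ le_rfl
    have hz := tensorMap_cokernel_T G _ T₀ (hT (d x) m₀ T₀)
    have h5 := res_app (tensorMap (cokernel.π (ev G)) (𝟙 (CohB1.tensorPow
      (CohB1.tensorPow (Twist.twistProjSpace n A ((1 : ℕ) : ℤ)) (d x + 1)) m₀)))
      (le_top : CohB1.genLocus _ (s x) ≤ ⊤) T₀
    rw [hz, hT₀, ← twistHom_apply] at h5
    have h6 := congrArg (fun φ : G ⟶ CohB1.tensorMod (cokernel (ev G)) _ =>
      (φ.val.app (op (CohB1.genLocus _ (s x)))).hom τ)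
      (twistHom_naturality (s x) m₀ (cokernel.π (ev G)))
    have h7 : ((twistHom (s x) m₀ (cokernel (ev G))).val.app
        (op (CohB1.genLocus _ (s x)))).hom t = 0 := by
      rw [← hτ]
      exact h6.symm.trans (h5.symm.trans (by unfold res; exact map_zero _))
    have := isIso_app_of_le_isoLocus (twistHom (s x) m₀ (cokernel (ev G)))
      (genLocus_le_isoLocus_twistHom hL' (s x) m₀ (cokernel (ev G)))
    have hinj : Function.Injective ((twistHom (s x) m₀ (cokernel (ev G))).val.app
        (op (CohB1.genLocus _ (s x)))).hom :=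
      (ConcreteCategory.bijective_of_isIso
        ((twistHom (s x) m₀ (cokernel (ev G))).app (CohB1.genLocus _ (s x)))).injective
    exact hinj (h7.trans (map_zero _).symm)
  exact ⟨_, ev G, Abelian.epi_of_cokernel_π_eq_zero _ (hzero.eq_of_tgt _ _)⟩

end Pn

end Groth.Agent.Lib.Helper20.RegGG
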