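import Groth.Agent.Lib.Helper20.QuillenGen1
import Groth.Agent.Lib.Helper20.RegKer
import Groth.Agent.S3755

/-!
# Quillen generation of `Kvb (P^n_Y)`, part 2 (helper20)

`Y` Noetherian, `p : P^n_Y ⟶ Y`.
* `TV M`: `p_* M = 0` and `R^q p_* M = 0` for `q ≥ 1`; `TV_X₁`, `TV_ker`, `TV_twF_pullback`.
* `isIso_push_counit`: `p_*(p^* p_* R ⟶ R)` is an isomorphism for `R` regular finite locally free.
* `Cond i R`, `step`, `isZero_of_cond`: one step of Quillen's canonical resolution, and its termination.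
* `quillen_generation`: a subgroup of `Kvb (P^n_Y)` containing the classes `[(p^*T)(d)]`, `T` finite locally free
  on `Y`, `0 ≤ d ≤ n`, is everything.
-/

set_option autoImplicit false
universe v u

open CategoryTheory CategoryTheory.Limits AlgebraicGeometry Opposite TopologicalSpace

namespace Groth.Agent.Lib.Helper20.QuillenGen

open Groth.Agent.Lib.Helper20.KosPY Groth.Agent.Lib.Helper20.RegK0 Groth.Agent.Lib.helper8.Dev
  Groth.Agent.Lib.helper7.K0API KZero Groth.Agent.Lib.Helper20.KModelMaps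
  Groth.Agent.Lib.Lead.ModTensor Groth.Agent.Lib.Helper20.PushRes Groth.Agent.Lib.Helper20.KosNum
  Groth.Agent.Lib.Helper20.FibreReg Groth.Agent.Lib.Helper20.KPr
  Groth.Agent.Lib.Helper18.HH Groth.Agent.Lib.helper27 Groth.Agent.Lib.Helper20.RelReg
  Groth.Agent.Lib.Helper20.K0Reg

noncomputable section

section TV

variable {n : ℕ} {Y : Scheme.{u}}

/-- total vanishing of the direct images of `M` -/
def TV (M : (KRR.PY n Y).Modules) : Prop :=
  IsZero ((Scheme.Modules.pushforward (KRR.pr n Y)).obj M) ∧ Acyc (KRR.pr n Y) M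

theorem TV_of_iso {M N : (KRR.PY n Y).Modules} (e : M ≅ N) (h : TV M) : TV N :=
  ⟨h.1.of_iso ((Scheme.Modules.pushforward (KRR.pr n Y)).mapIso e.symm), acyc_of_iso e h.2⟩

theorem TV_X₁ {S : ShortComplex (KRR.PY n Y).Modules} (hS : S.ShortExact) (h2 : TV S.X₂)
    (h3 : TV S.X₃) : TV S.X₁ := by
  haveI := hS.mono_f
  refine ⟨IsZero.of_mono ((Scheme.Modules.pushforward (KRR.pr n Y)).map S.f) h2.1, ?_⟩
  have hz : IsZero ((Coh.pushAb (KRR.pr n Y)).obj (S.map (toAbF (KRR.PY n Y))).X₃) :=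
    (toAbF Y).map_isZero h3.1
  have hepi : Epi ((Coh.pushAb (KRR.pr n Y)).map (S.map (toAbF (KRR.PY n Y))).g) :=
    hz.epi _
  exact ((Horseshoe.rightAcyclic_shortExact (Coh.pushAb (KRR.pr n Y))
    (toAb_shortExact hS)).2.2 h2.2 h3.2 hepi).1

theorem TV_ker {S : ShortComplex (KRR.PY n Y).Modules} (hS : S.ShortExact)
    (h2 : Acyc (KRR.pr n Y) S.X₂) (h3 : Acyc (KRR.pr n Y) S.X₃)
    (hiso : IsIso ((Scheme.Modules.pushforward (KRR.pr n Y)).map S.g)) : TV S.X₁ := by
  haveI := hS.mono_f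
  haveI := hiso
  refine ⟨?_, ?_⟩
  · have hz : (Scheme.Modules.pushforward (KRR.pr n Y)).map S.f ≫
        (Scheme.Modules.pushforward (KRR.pr n Y)).map S.g = 0 := by
      rw [← Functor.map_comp, S.zero, Functor.map_zero]
    have h0 : (Scheme.Modules.pushforward (KRR.pr n Y)).map S.f = 0 := by
      rw [← cancel_mono ((Scheme.Modules.pushforward (KRR.pr n Y)).map S.g), hz, zero_comp]
    exact IsZero.of_mono_eq_zero _ h0
  · have hepi : Epi ((Coh.pushAb (KRR.pr n Y)).map (S.map (toAbF (KRR.PY n Y))).g) := by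
      have : IsIso ((toAbF Y).map ((Scheme.Modules.pushforward (KRR.pr n Y)).map S.g)) :=
        Functor.map_isIso _ _
      exact (inferInstance : Epi ((toAbF Y).map ((Scheme.Modules.pushforward (KRR.pr n Y)).map S.g)))
    exact ((Horseshoe.rightAcyclic_shortExact (Coh.pushAb (KRR.pr n Y))
      (toAb_shortExact hS)).2.2 h2 h3 hepi).1

/-- `G ⊗ p^*E` is acyclic for `G` acyclic, `E` finite locally free on `Y` -/
theorem acyc_tensor_pullback {G : (KRR.PY n Y).Modules} (h : Acyc (KRR.pr n Y) G)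
    {E : Y.Modules} (hE : FlatMod.IsFinLocFree E) :
    Acyc (KRR.pr n Y) (CohB1.tensorMod G ((Scheme.Modules.pullback (KRR.pr n Y)).obj E)) := by
  intro i hi
  have h1 := h i hi
  have h2 : IsZero ((Coh.Rpush (KRR.pr n Y) i).obj G) :=
    Groth.Agent.Lib.helper11.RpushAbBridge.isZero_rpush_of_isZero_rpushAb _ i _ h1
  obtain ⟨e2⟩ := Groth.Agent.Lib.helper11.ProjFormula.nonempty_rpush_tensor_iso (KRR.pr n Y) G hE i
  haveI : (Groth.Agent.Lib.Helper20.TensorEquiv.tensorRight E).Additive :=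
    Groth.Agent.Lib.helper12.TensorCocont.additive_tensorRight E
  have h3 : IsZero (CohB1.tensorMod ((Coh.Rpush (KRR.pr n Y) i).obj G) E) :=
    (Groth.Agent.Lib.Helper20.TensorEquiv.tensorRight E).map_isZero h2
  have h4 : IsZero ((Coh.Rpush (KRR.pr n Y) i).obj (CohB1.tensorMod G
      ((Scheme.Modules.pullback (KRR.pr n Y)).obj E))) := IsZero.of_iso h3 e2.symm
  obtain ⟨e3⟩ := Groth.Agent.Lib.helper11.RpushAbBridge.nonempty_rpush_toSheaf_iso (KRR.pr n Y) i
  exact IsZero.of_iso ((SheafOfModules.toSheaf.{u} Y.ringCatSheaf).map_isZero h4) (e3.app _).symm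

/-- `(p^*T)(-s)` has totally vanishing direct images for `1 ≤ s ≤ n` -/
theorem TV_twF_pullback (s : ℕ) (hs1 : 1 ≤ s) (hsn : s ≤ n) {T : Y.Modules}
    (hT : FlatMod.IsFinLocFree T) :
    TV (KRR.twF n Y (-(s : ℤ)) ((Scheme.Modules.pullback (KRR.pr n Y)).obj T)) := by
  set OP := Coh.structureModule (KRR.PY n Y) with hOP
  set G := KRR.twF n Y (-(s : ℤ)) OP with hG
  have e : CohB1.tensorMod G ((Scheme.Modules.pullback (KRR.pr n Y)).obj T) ≅
      KRR.twF n Y (-(s : ℤ)) ((Scheme.Modules.pullback (KRR.pr n Y)).obj T) :=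
    tensorIso (rightUnitor (Twist.twistOver n Y (-(s : ℤ)))) (Iso.refl _)
  refine TV_of_iso e ⟨?_, ?_⟩
  · have hz : IsZero ((Scheme.Modules.pushforward (KRR.pr n Y)).obj G) :=
      isZero_push_twF_unit n Y (-(s : ℤ)) (by omega) (by omega)
    haveI : (Groth.Agent.Lib.Helper20.TensorEquiv.tensorRight T).Additive :=
      Groth.Agent.Lib.helper12.TensorCocont.additive_tensorRight T
    have h3 : IsZero (CohB1.tensorMod ((Scheme.Modules.pushforward (KRR.pr n Y)).obj G) T) :=
      (Groth.Agent.Lib.Helper20.TensorEquiv.tensorRight T).map_isZero hz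
    exact IsZero.of_iso h3
      ((Groth.Agent.Lib.helper11.ProjFormula.projIso (KRR.pr n Y) hT).app G).symm
  · exact acyc_tensor_pullback (acyc_twF_unit n Y (-(s : ℤ)) (by omega)) hT

end TV

section Step

variable {n : ℕ} {Y : Scheme.{u}} [IsNoetherian Y]

/-- `p_*` of the counit `p^* p_* R ⟶ R` is an isomorphism, for `R` regular finite locally free -/
theorem isIso_push_counit {R : (KRR.PY n Y).Modules} (hR : FlatMod.IsFinLocFree R)
    (hreg : KRR.IsRegSheaf n Y R) :
    IsIso ((Scheme.Modules.pushforward (KRR.pr n Y)).map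
      ((Scheme.Modules.pullbackPushforwardAdjunction (KRR.pr n Y)).counit.app R)) := by
  set adj := Scheme.Modules.pullbackPushforwardAdjunction (KRR.pr n Y) with hadj
  set T := (Scheme.Modules.pushforward (KRR.pr n Y)).obj R with hTdef
  have hT : FlatMod.IsFinLocFree T := Groth.Agent.S3756.result n Y R hR hreg
  have htri : adj.unit.app T ≫ (Scheme.Modules.pushforward (KRR.pr n Y)).map (adj.counit.app R) =
      𝟙 T := adj.right_triangle_components R
  haveI : Epi ((Scheme.Modules.pushforward (KRR.pr n Y)).map (adj.counit.app R)) :=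
    (IsSplitEpi.mk' ⟨adj.unit.app T, htri⟩ : IsSplitEpi _).epi  -- split epi
  let α := pushPullIso n Y hT
  haveI : Epi (α.hom ≫ (Scheme.Modules.pushforward (KRR.pr n Y)).map (adj.counit.app R)) :=
    epi_comp _ _
  haveI := isIso_of_epi_endo (isCoh_of_vb hT)
    (α.hom ≫ (Scheme.Modules.pushforward (KRR.pr n Y)).map (adj.counit.app R))
  exact IsIso.of_isIso_comp_left α.hom _

/-- `twF` along an equality of twists -/
def twFCongr (n : ℕ) (Y : Scheme.{u}) {a b : ℤ} (h : a = b) (F : (KRR.PY n Y).Modules) :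
    KRR.twF n Y a F ≅ KRR.twF n Y b F := eqToIso (by rw [h])

/-- the inductive condition in Quillen's resolution -/
def Cond (i : ℕ) (R : (KRR.PY n Y).Modules) : Prop :=
  FlatMod.IsFinLocFree R ∧ KRR.IsRegSheaf n Y R ∧
    ∀ s : ℕ, 1 ≤ s → s ≤ i → TV (KRR.twF n Y (-(s : ℤ)) R)

/-- one step of Quillen's canonical resolution -/
theorem step {i : ℕ} (hi : i ≤ n) {R : (KRR.PY n Y).Modules} (h : Cond i R) :
    ∃ (T : Y.Modules) (R' : (KRR.PY n Y).Modules), FlatMod.IsFinLocFree T ∧ Cond (i + 1) R' ∧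
      KRR.cl (KRR.PY n Y) R = KRR.cl (KRR.PY n Y) ((Scheme.Modules.pullback (KRR.pr n Y)).obj T) -
        tauK n Y (-1) (KRR.cl (KRR.PY n Y) R') := by
  obtain ⟨hR, hreg, hTV⟩ := h
  have hcohR : Coh.IsCoh R := isCoh_of_vb hR
  set adj := Scheme.Modules.pullbackPushforwardAdjunction (KRR.pr n Y) with hadj
  set T := (Scheme.Modules.pushforward (KRR.pr n Y)).obj R with hTdef
  have hT : FlatMod.IsFinLocFree T := Groth.Agent.S3756.result n Y R hR hreg
  have hpT : FlatMod.IsFinLocFree ((Scheme.Modules.pullback (KRR.pr n Y)).obj T) :=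
    Groth.Agent.Lib.helper16.FLF.isFinLocFree_pullback _ hT
  obtain ⟨hepi, hregK⟩ := Groth.Agent.S3755.result n Y R hcohR hreg
  set ε := adj.counit.app R with hε
  haveI : Epi ε := hepi
  set K := kernel ε with hK
  let S : ShortComplex (KRR.PY n Y).Modules := ShortComplex.mk (kernel.ι ε) ε (kernel.condition ε)
  have hS : S.ShortExact :=
    { exact := ShortComplex.exact_kernel ε
      mono_f := inferInstanceAs (Mono (kernel.ι ε))
      epi_g := inferInstanceAs (Epi ε) }
  have hKvb : FlatMod.IsFinLocFree K := vb_ker S hS hpT hR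
  set R' := KRR.twF n Y 1 K with hR'
  have hR'vb : FlatMod.IsFinLocFree R' := isFinLocFree_twF n Y hKvb 1
  -- `K ≅ R'(-1)`
  let eK : KRR.twF n Y (-1) R' ≅ K :=
    twFAddIso n Y (-1) 1 K ≪≫ twFCongr n Y (by norm_num) K ≪≫ twFZeroIso n Y K
  refine ⟨T, R', hT, ⟨hR'vb, hregK, ?_⟩, ?_⟩
  · intro s hs1 hsi
    have hacT : Acyc (KRR.pr n Y) ((Scheme.Modules.pullback (KRR.pr n Y)).obj T) :=
      fun q hq => (Groth.Agent.S3754.result n Y _ (isCoh_of_vb hpT)
        (Groth.Agent.Lib.Helper20.RegKer.isRegSheaf_pullback n Y (isCoh_of_vb hT))).2 q hq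
    have hacR : Acyc (KRR.pr n Y) R :=
      fun q hq => (Groth.Agent.S3754.result n Y R hcohR hreg).2 q hq
    rcases Nat.eq_or_lt_of_le hs1 with rfl | hs2
    · -- `s = 1`
      have hTVK : TV K := TV_ker hS hacT hacR (isIso_push_counit hR hreg)
      exact TV_of_iso (twFCongr n Y (by norm_num) R' ≪≫ eK).symm hTVK
    · -- `s ≥ 2`
      obtain ⟨t, rfl⟩ : ∃ t, s = t + 1 := ⟨s - 1, by omega⟩
      have hSt := shortExact_map_TwF n Y (-(t : ℤ)) S hS
      have hTVt : TV (KRR.twF n Y (-(t : ℤ)) K) :=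
        TV_X₁ hSt (TV_twF_pullback t (by omega) (by omega) hT) (hTV t (by omega) (by omega))
      exact TV_of_iso (twFAddIso n Y (-((t + 1 : ℕ) : ℤ)) 1 K ≪≫
        twFCongr n Y (by push_cast; ring) K).symm hTVt
  · have hrel := clSub_rel (KRR.vbP (KRR.PY n Y)) S hS hKvb hpT hR
    have h1 : tauK n Y (-1) (KRR.cl (KRR.PY n Y) R') = KRR.cl (KRR.PY n Y) K := by
      rw [tauK_cl n Y (-1) hR'vb]
      exact cl_iso eK
    rw [h1]
    have hrel' : KRR.cl (KRR.PY n Y) ((Scheme.Modules.pullback (KRR.pr n Y)).obj T) =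
        KRR.cl (KRR.PY n Y) K + KRR.cl (KRR.PY n Y) R := hrel
    rw [hrel']
    abel

/-- termination of Quillen's resolution -/
theorem isZero_of_cond {R : (KRR.PY n Y).Modules} (h : Cond (n + 1) R) : IsZero R := by
  obtain ⟨hR, hreg, hTV⟩ := h
  set G := KRR.twF n Y (-1) R with hG
  have hGvb : FlatMod.IsFinLocFree G := isFinLocFree_twF n Y hR (-1)
  haveI : G.IsQuasicoherent := isQC_of_vb hGvb
  have hregG : KRR.IsRegSheaf n Y G := by
    intro q hq
    by_cases hqn : q ≤ n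
    · have h1 := hTV (q + 1) (by omega) (by omega)
      have h2 : TV (KRR.twF n Y (-(q : ℤ)) G) :=
        TV_of_iso (twFAddIso n Y (-(q : ℤ)) (-1) R ≪≫
          twFCongr n Y (by push_cast; ring) R).symm h1
      exact h2.2 q (by omega)
    · haveI := isQuasicoherent_twF n Y G (-(q : ℤ))
      exact isZero_rpushAb_of_gt n Y _ q (by omega)
  have hpG : IsZero ((Scheme.Modules.pushforward (KRR.pr n Y)).obj G) :=
    (TV_of_iso (twFCongr n Y (by norm_num) R) (hTV 1 (by omega) (by omega))).1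
  obtain ⟨hepi, -⟩ := Groth.Agent.S3755.result n Y G (isCoh_of_vb hGvb) hregG
  haveI := hepi
  have hz : IsZero ((Scheme.Modules.pullback (KRR.pr n Y)).obj
      ((Scheme.Modules.pushforward (KRR.pr n Y)).obj G)) :=
    (Scheme.Modules.pullback (KRR.pr n Y)).map_isZero hpG
  have hGz : IsZero G :=
    IsZero.of_epi ((Scheme.Modules.pullbackPushforwardAdjunction (KRR.pr n Y)).counit.app G) hz
  have e : KRR.twF n Y 1 G ≅ R :=
    twFAddIso n Y 1 (-1) R ≪≫ twFCongr n Y (by norm_num) R ≪≫ twFZeroIso n Y R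
  exact IsZero.of_iso ((TwF n Y 1).map_isZero hGz) e.symm

/-- **Quillen generation**: a subgroup of `Kvb (P^n_Y)` containing the classes of `(p^*T)(d)`, `0 ≤ d ≤ n`,
`T` finite locally free on `Y`, is everything -/
theorem quillen_generation (S : AddSubgroup (SGA6.Kvb (KRR.PY n Y)))
    (h : ∀ T : Y.Modules, FlatMod.IsFinLocFree T → ∀ d : ℕ, d ≤ n →
      tauK n Y (d : ℤ) (pullK (KRR.pr n Y) (KRR.cl Y T)) ∈ S) : S = ⊤ := by
  have hall : ∀ T : Y.Modules, FlatMod.IsFinLocFree T → ∀ e : ℤ,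
      tauK n Y e (pullK (KRR.pr n Y) (KRR.cl Y T)) ∈ S :=
    fun T hT e => tauK_mem n Y S _ (h T hT) e
  have key : ∀ (j : ℕ), j ≤ n + 1 → ∀ R : (KRR.PY n Y).Modules, Cond (n + 1 - j) R → ∀ e : ℤ,
      tauK n Y e (KRR.cl (KRR.PY n Y) R) ∈ S := by
    intro j
    induction j with
    | zero =>
      intro _ R hR e
      have hz := isZero_of_cond hR
      rw [show KRR.cl (KRR.PY n Y) R = 0 from clSub_zero (KRR.vbP (KRR.PY n Y)) vb_zero R hz,
        _root_.map_zero]
      exact S.zero_mem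
    | succ j ih =>
      intro hj R hR e
      obtain ⟨T, R', hT, hR', hrel⟩ := step (i := n + 1 - (j + 1)) (by omega) hR
      have e1 : n + 1 - (j + 1) + 1 = n + 1 - j := by omega
      rw [e1] at hR'
      rw [hrel, _root_.map_sub, tauK_tauK, ← pullK_cl _ hT]
      exact S.sub_mem (hall T hT e) (ih (by omega) R' hR' _)
  rw [eq_top_iff, ← closure_regular_eq_top n Y]
  refine (AddSubgroup.closure_le _).2 ?_
  rintro _ ⟨F, hF, hreg, rfl⟩
  have := key (n + 1) le_rfl F ⟨hF, hreg, fun s hs1 hs0 => by omega⟩ 0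
  rwa [tauK_zero] at this

end Step

end

end Groth.Agent.Lib.Helper20.QuillenGen
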