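import Groth.Agent.Lib.Helper20.SwapPP
import Groth.Agent.Lib.Helper20.QuillenGen2
import Groth.Agent.Lib.Helper20.KPushCl
import Groth.Agent.Lib.Helper20.PushClComp

/-!
# Fubini for the push-forwards `P^n_{P^m_Y} → P^m_Y → Y` and `P^m_{P^n_Y} → P^n_Y → Y` on `Kvb` (helper20)

* `sigK σ`: `[G] ↦ [σ_* G]` for an isomorphism `σ`.
* `fubini`: `p'_! q_! = p_! q'_! σ_!` on `Kvb (P^n_{P^m_Y})`, `σ` the swap.
* `sigK_emb`: `σ_! (ĩ₂)_! s_! = (ĩ₁)_! s'_!` for the two diagonal embeddings of `X`.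
-/

set_option autoImplicit false
universe v u

open CategoryTheory CategoryTheory.Limits AlgebraicGeometry Opposite TopologicalSpace

namespace Groth.Agent.Lib.Helper20.Fubini

open Groth.Agent.Lib.Helper20.KosPY Groth.Agent.Lib.Helper20.RegK0 Groth.Agent.Lib.helper8.Dev
  Groth.Agent.Lib.helper7.K0API KZero Groth.Agent.Lib.Helper20.KModelMaps
  Groth.Agent.Lib.Lead.ModTensor Groth.Agent.Lib.Helper20.PushRes Groth.Agent.Lib.Helper20.KosNum
  Groth.Agent.Lib.Helper20.FibreReg Groth.Agent.Lib.Helper20.KPr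
  Groth.Agent.Lib.Helper20.QuillenGen Groth.Agent.Lib.Helper20.SwapPP
  Groth.Agent.Lib.Helper20.PushClK Groth.Agent.Lib.Helper20.PushClPr
  Groth.Agent.Lib.Helper20.EulerRes Groth.Agent.Lib.Helper20.K0Reg

noncomputable section

instance isNoetherian_PY (n : ℕ) (Y : Scheme.{u}) [IsNoetherian Y] : IsNoetherian (KRR.PY n Y) :=
  { toIsLocallyNoetherian := inferInstance
    toCompactSpace := inferInstance }

section SigK

variable {A B : Scheme.{u}} (σ : A ⟶ B) [IsIso σ]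

theorem isFinLocFree_push_iso {G : A.Modules} (hG : FlatMod.IsFinLocFree G) :
    FlatMod.IsFinLocFree ((Scheme.Modules.pushforward σ).obj G) :=
  vb_iso _ _ ((pushIsoPull σ (inv σ) (IsIso.hom_inv_id σ) (IsIso.inv_hom_id σ)).app G).symm
    (Groth.Agent.Lib.helper16.FLF.isFinLocFree_pullback _ hG)

/-- `[G] ↦ [σ_* G]` -/
theorem exists_sigK : ∃ ψ : SGA6.Kvb A →+ SGA6.Kvb B, ∀ G : A.Modules, FlatMod.IsFinLocFree G →
    ψ (KRR.cl A G) = KRR.cl B ((Scheme.Modules.pushforward σ).obj G) := by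
  refine exists_lift_K0sub (KRR.vbP A) (fun G => KRR.cl B ((Scheme.Modules.pushforward σ).obj G)) ?_
  intro S hS h1 h2 h3
  exact clSub_rel (KRR.vbP B) _ (shortExact_map_push σ S hS)
    (isFinLocFree_push_iso σ h1) (isFinLocFree_push_iso σ h2) (isFinLocFree_push_iso σ h3)

/-- `[G] ↦ [σ_* G]` -/
def sigK : SGA6.Kvb A →+ SGA6.Kvb B := (exists_sigK σ).choose

theorem sigK_cl {G : A.Modules} (hG : FlatMod.IsFinLocFree G) :
    sigK σ (KRR.cl A G) = KRR.cl B ((Scheme.Modules.pushforward σ).obj G) :=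
  (exists_sigK σ).choose_spec G hG

end SigK

section Fub

variable (n m : ℕ) (Y : Scheme.{u})

/-- `[p^*V ⊗ O(d)] = [O(d) ⊗ p^*V]` -/
theorem tensK_twist_pullK (d : ℤ) (v : SGA6.Kvb Y) :
    tensK (isFinLocFree_twistOver n Y d) (pullK (KRR.pr n Y) v) =
      tauK n Y d (pullK (KRR.pr n Y) v) := by
  have := hom_ext_vb ((tensK (isFinLocFree_twistOver n Y d)).comp (pullK (KRR.pr n Y)))
    ((tauK n Y d).comp (pullK (KRR.pr n Y))) (fun V hV => by
      have hpV := Groth.Agent.Lib.helper16.FLF.isFinLocFree_pullback (KRR.pr n Y) hV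
      show tensK (isFinLocFree_twistOver n Y d) (pullK (KRR.pr n Y) (KRR.cl Y V)) =
        tauK n Y d (pullK (KRR.pr n Y) (KRR.cl Y V))
      rw [pullK_cl _ hV, tensK_cl _ hpV, tauK_cl n Y d hpV]
      exact cl_iso (braid _ _))
  exact DFunLike.congr_fun this v

variable [IsNoetherian Y]

/-- **Fubini** -/
theorem fubini (x : SGA6.Kvb (KRR.PY n (KRR.PY m Y))) :
    prK m Y (prK n (KRR.PY m Y) x) =
      prK n Y (prK m (KRR.PY n Y) (sigK (swap n m Y) x)) := by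
  let S : AddSubgroup (SGA6.Kvb (KRR.PY n (KRR.PY m Y))) :=
    ((prK m Y).comp (prK n (KRR.PY m Y))).eqLocus
      (((prK n Y).comp (prK m (KRR.PY n Y))).comp (sigK (swap n m Y)))
  have hS : S = ⊤ := by
    refine quillen_generation S (fun E hE d _ => ?_)
    have hqE := Groth.Agent.Lib.helper16.FLF.isFinLocFree_pullback (KRR.pr n (KRR.PY m Y)) hE
    have hψE := Groth.Agent.Lib.helper16.FLF.isFinLocFree_pullback
      (KRR.projSpaceMap m (KRR.pr n Y)) hE
    have hO := isFinLocFree_twistOver n Y (d : ℤ)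
    show prK m Y (prK n (KRR.PY m Y) (tauK n (KRR.PY m Y) (d : ℤ)
        (pullK (KRR.pr n (KRR.PY m Y)) (KRR.cl _ E)))) =
      prK n Y (prK m (KRR.PY n Y) (sigK (swap n m Y) (tauK n (KRR.PY m Y) (d : ℤ)
        (pullK (KRR.pr n (KRR.PY m Y)) (KRR.cl _ E)))))
    rw [prK_tauK_pullK, map_zsmul]
    rw [pullK_cl _ hE, tauK_cl n (KRR.PY m Y) _ hqE, sigK_cl _ (isFinLocFree_twF n _ hqE _),
      cl_iso (genIso n m Y E (d : ℤ)),
      ← tensK_cl (Groth.Agent.Lib.helper16.FLF.isFinLocFree_pullback (KRR.pr m (KRR.PY n Y)) hO) hψE,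
      ← pullK_cl (KRR.projSpaceMap m (KRR.pr n Y)) hE, prK_tensK_pull hO, prK_pullK (KRR.pr n Y),
      tensK_twist_pullK, prK_tauK_pullK]
  have hx : x ∈ S := by rw [hS]; trivial
  exact hx

end Fub

section Emb

variable {n m : ℕ} {X Y : Scheme.{u}} [IsNoetherian X] [IsNoetherian Y]
  (i₁ : X ⟶ KRR.PY n Y) (i₂ : X ⟶ KRR.PY m Y) (h : i₁ ≫ KRR.pr n Y = i₂ ≫ KRR.pr m Y)
  [IsClosedImmersion (sec n (i₁ ≫ q1 n Y))] [IsClosedImmersion (KRR.projSpaceMap n i₂)]
  [IsClosedImmersion (sec m (i₂ ≫ q1 m Y))] [IsClosedImmersion (KRR.projSpaceMap m i₁)]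
  (cs : Ctx (sec n (i₁ ≫ q1 n Y))) (c2 : Ctx (KRR.projSpaceMap n i₂))
  (cs' : Ctx (sec m (i₂ ≫ q1 m Y))) (c1 : Ctx (KRR.projSpaceMap m i₁))
  (hPX : KRR.HasEnoughLocFree (KRR.PY n X)) (hW : KRR.HasEnoughLocFree (KRR.PY n (KRR.PY m Y)))
  (hPX' : KRR.HasEnoughLocFree (KRR.PY m X)) (hW' : KRR.HasEnoughLocFree (KRR.PY m (KRR.PY n Y)))

include h in
/-- `σ_! (ĩ₂)_! s_! = (ĩ₁)_! s'_!` -/
theorem sigK_emb (x : SGA6.Kvb X) :
    sigK (swap n m Y) (c2.pushK hW (cs.pushK hPX x)) = c1.pushK hW' (cs'.pushK hPX' x) := by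
  have := hom_ext_vb ((sigK (swap n m Y)).comp ((c2.pushK hW).comp (cs.pushK hPX)))
    ((c1.pushK hW').comp (cs'.pushK hPX')) (fun F hF => by
      show sigK (swap n m Y) (c2.pushK hW (cs.pushK hPX (KRR.cl X F))) =
        c1.pushK hW' (cs'.pushK hPX' (KRR.cl X F))
      obtain ⟨hQ, hcl⟩ := eQ_pushK_pushK cs c2 hPX hW F hF
      obtain ⟨hQ', hcl'⟩ := eQ_pushK_pushK cs' c1 hPX' hW' F hF
      obtain ⟨N, M, ρ, hM⟩ := c2.hasLFRes hW hQ
      haveI := hM.quasiIso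
      have h3 := c2.clSub_eq_of_isLFRes hW hQ hM
      have h5 : c2.pushK hW (cs.pushK hPX (KRR.cl X F)) =
          ∑ k ∈ Finset.range (N + 1), (-1 : ℤ) ^ k • KRR.cl _ (M.X k) := by
        apply (c2.eQ hW).injective
        rw [hcl, h3]
      have hσM : ∀ k, FlatMod.IsFinLocFree ((Scheme.Modules.pushforward (swap n m Y)).obj (M.X k)) :=
        fun k => isFinLocFree_push_iso _ (hM.finLocFree k)
      obtain ⟨h6, h7⟩ := clSub_map_eq_alt_sum (Scheme.Modules.pushforward (swap n m Y))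
        (fun S hS => shortExact_map_push (swap n m Y) S hS)
        (fun N hN => (Scheme.Modules.pushforward (swap n m Y)).map_isZero hN) c1.Q
        (P1_coker c1.t) c1.Q_zero M _ ρ (fun k => c1.le _ (hσM k)) N hM.isZero
      -- `σ_* ĩ₂_* s_* F ≅ ĩ₁_* s'_* F`
      let e : (Scheme.Modules.pushforward (swap n m Y)).obj
            ((Scheme.Modules.pushforward (KRR.projSpaceMap n i₂)).obj
              ((Scheme.Modules.pushforward (sec n (i₁ ≫ q1 n Y))).obj F)) ≅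
          (Scheme.Modules.pushforward (KRR.projSpaceMap m i₁)).obj
            ((Scheme.Modules.pushforward (sec m (i₂ ≫ q1 m Y))).obj F) :=
        (Scheme.Modules.pushforward (swap n m Y)).mapIso
            ((Scheme.Modules.pushforwardComp (sec n (i₁ ≫ q1 n Y)) (KRR.projSpaceMap n i₂)).app F) ≪≫
          (Scheme.Modules.pushforwardComp (sec n (i₁ ≫ q1 n Y) ≫ KRR.projSpaceMap n i₂)
            (swap n m Y)).app F ≪≫
          (Scheme.Modules.pushforwardCongr (emb_swap i₁ i₂ h)).app F ≪≫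
          ((Scheme.Modules.pushforwardComp (sec m (i₂ ≫ q1 m Y)) (KRR.projSpaceMap m i₁)).app F).symm
      apply (c1.eQ hW').injective
      rw [hcl', h5, map_sum, map_sum,
        ← clSub_iso c1.Q c1.Q_zero (fun _ _ e h => P1_of_iso c1.t e h) e, h7]
      refine Finset.sum_congr rfl (fun k _ => ?_)
      rw [map_zsmul, map_zsmul, sigK_cl _ (hM.finLocFree k), c1.eQ_cl hW' _ (hσM k)])
  exact DFunLike.congr_fun this x

end Emb

end

end Groth.Agent.Lib.Helper20.Fubini
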