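import Mathlib
import Groth.Prelude.Def_Models

set_option autoImplicit false
open Finset
open Models Models.NumericalType

namespace Groth.Agent.Lib.helper20.G1n5

/-- an opaque wrapper hiding a hypothesis from `omega` -/
def Hide (P : Prop) : Prop := P

theorem Hide.out {P : Prop} (h : Hide P) : P := h

theorem Hide.intro {P : Prop} (h : P) : Hide P := h

theorem pair_cases (α β p q : ℤ) (hp : 0 < p) (hq : 0 < q) (hα : 0 ≤ α) (hβ : 0 ≤ β)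
    (h : p * α = q * β) (hb : α * β ≤ 4) :
    (α = 0 ∧ β = 0) ∨ (α = 1 ∧ β = 1) ∨ (α = 1 ∧ β = 2) ∨ (α = 2 ∧ β = 1) ∨ (α = 1 ∧ β = 3) ∨
      (α = 3 ∧ β = 1) ∨ (α = 1 ∧ β = 4) ∨ (α = 4 ∧ β = 1) ∨ (α = 2 ∧ β = 2) := by
  have ub : ∀ (x y p q : ℤ), 0 < p → 0 < q → 0 ≤ x → 0 ≤ y → p * x = q * y → x * y ≤ 4 → x ≤ 4 := by
    intro x y p q hp hq hx hy h1 h2
    by_contra hcon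
    have hx5 : 5 ≤ x := by omega
    rcases eq_or_lt_of_le hy with h0 | hpos
    · rw [← h0, mul_zero] at h1
      rcases mul_eq_zero.1 h1 with h' | h'
      · omega
      · omega
    · nlinarith
  have u1 := ub α β p q hp hq hα hβ h hb
  have u2 := ub β α q p hq hp hβ hα h.symm (by rw [mul_comm]; exact hb)
  interval_cases α <;> interval_cases β <;> omega

theorem bnd (x y p q : ℤ) (hp : 0 < p) (hq : 0 < q) (hx : 0 ≤ x) (hy : 0 ≤ y)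
    (h1 : x * q ≤ 2 * p) (h2 : y * p ≤ 2 * q) : x * y ≤ 4 := by
  by_contra hcon
  have h3 : (x * q) * (y * p) ≤ (2 * p) * (2 * q) :=
    mul_le_mul h1 h2 (mul_nonneg hy hp.le) (by positivity)
  have h4 : 0 < p * q := mul_pos hp hq
  nlinarith

theorem pc0 (α β : ℤ) (c : (α = 0 ∧ β = 0) ∨ (α = 1 ∧ β = 1) ∨ (α = 1 ∧ β = 2) ∨ (α = 2 ∧ β = 1) ∨ (α = 1 ∧ β = 3) ∨ (α = 3 ∧ β = 1) ∨ (α = 1 ∧ β = 4) ∨ (α = 4 ∧ β = 1) ∨ (α = 2 ∧ β = 2)) (hb : α * β ≤ 0) :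
    (α = 0 ∧ β = 0) := by
  rcases c with ⟨rfl, rfl⟩ | ⟨rfl, rfl⟩ | ⟨rfl, rfl⟩ | ⟨rfl, rfl⟩ | ⟨rfl, rfl⟩ | ⟨rfl, rfl⟩ | ⟨rfl, rfl⟩ | ⟨rfl, rfl⟩ | ⟨rfl, rfl⟩ <;> simp_all

theorem pc1 (α β : ℤ) (c : (α = 0 ∧ β = 0) ∨ (α = 1 ∧ β = 1) ∨ (α = 1 ∧ β = 2) ∨ (α = 2 ∧ β = 1) ∨ (α = 1 ∧ β = 3) ∨ (α = 3 ∧ β = 1) ∨ (α = 1 ∧ β = 4) ∨ (α = 4 ∧ β = 1) ∨ (α = 2 ∧ β = 2)) (hb : α * β ≤ 1) :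
    (α = 0 ∧ β = 0) ∨ (α = 1 ∧ β = 1) := by
  rcases c with ⟨rfl, rfl⟩ | ⟨rfl, rfl⟩ | ⟨rfl, rfl⟩ | ⟨rfl, rfl⟩ | ⟨rfl, rfl⟩ | ⟨rfl, rfl⟩ | ⟨rfl, rfl⟩ | ⟨rfl, rfl⟩ | ⟨rfl, rfl⟩ <;> simp_all

theorem pc2 (α β : ℤ) (c : (α = 0 ∧ β = 0) ∨ (α = 1 ∧ β = 1) ∨ (α = 1 ∧ β = 2) ∨ (α = 2 ∧ β = 1) ∨ (α = 1 ∧ β = 3) ∨ (α = 3 ∧ β = 1) ∨ (α = 1 ∧ β = 4) ∨ (α = 4 ∧ β = 1) ∨ (α = 2 ∧ β = 2)) (hb : α * β ≤ 2) :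
    (α = 0 ∧ β = 0) ∨ (α = 1 ∧ β = 1) ∨ (α = 1 ∧ β = 2) ∨ (α = 2 ∧ β = 1) := by
  rcases c with ⟨rfl, rfl⟩ | ⟨rfl, rfl⟩ | ⟨rfl, rfl⟩ | ⟨rfl, rfl⟩ | ⟨rfl, rfl⟩ | ⟨rfl, rfl⟩ | ⟨rfl, rfl⟩ | ⟨rfl, rfl⟩ | ⟨rfl, rfl⟩ <;> simp_all

theorem pc3 (α β : ℤ) (c : (α = 0 ∧ β = 0) ∨ (α = 1 ∧ β = 1) ∨ (α = 1 ∧ β = 2) ∨ (α = 2 ∧ β = 1) ∨ (α = 1 ∧ β = 3) ∨ (α = 3 ∧ β = 1) ∨ (α = 1 ∧ β = 4) ∨ (α = 4 ∧ β = 1) ∨ (α = 2 ∧ β = 2)) (hb : α * β ≤ 3) :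
    (α = 0 ∧ β = 0) ∨ (α = 1 ∧ β = 1) ∨ (α = 1 ∧ β = 2) ∨ (α = 2 ∧ β = 1) ∨ (α = 1 ∧ β = 3) ∨ (α = 3 ∧ β = 1) := by
  rcases c with ⟨rfl, rfl⟩ | ⟨rfl, rfl⟩ | ⟨rfl, rfl⟩ | ⟨rfl, rfl⟩ | ⟨rfl, rfl⟩ | ⟨rfl, rfl⟩ | ⟨rfl, rfl⟩ | ⟨rfl, rfl⟩ | ⟨rfl, rfl⟩ <;> simp_all

theorem vsum (m0 m1 m2 m3 m4 x1 x2 x3 x4 y1 y2 y3 y4 : ℤ) (hm0 : 0 < m0)
    (hx1 : 0 ≤ x1) (hx2 : 0 ≤ x2) (hx3 : 0 ≤ x3) (hx4 : 0 ≤ x4)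
    (e0 : x1 * m1 + x2 * m2 + x3 * m3 + x4 * m4 = 2 * m0)
    (h1 : y1 * m0 ≤ 2 * m1) (h2 : y2 * m0 ≤ 2 * m2) (h3 : y3 * m0 ≤ 2 * m3) (h4 : y4 * m0 ≤ 2 * m4) :
    x1 * y1 + x2 * y2 + x3 * y3 + x4 * y4 ≤ 4 := by
  have k1 := mul_le_mul_of_nonneg_left h1 hx1
  have k2 := mul_le_mul_of_nonneg_left h2 hx2
  have k3 := mul_le_mul_of_nonneg_left h3 hx3
  have k4 := mul_le_mul_of_nonneg_left h4 hx4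
  have : (x1 * y1 + x2 * y2 + x3 * y3 + x4 * y4) * m0 ≤ 4 * m0 := by nlinarith
  exact le_of_mul_le_mul_right this hm0

def p01234 : Equiv.Perm (Fin 5) := ⟨![0,1,2,3,4], ![0,1,2,3,4], by decide, by decide⟩
def p01243 : Equiv.Perm (Fin 5) := ⟨![0,1,2,4,3], ![0,1,2,4,3], by decide, by decide⟩
def p01324 : Equiv.Perm (Fin 5) := ⟨![0,1,3,2,4], ![0,1,3,2,4], by decide, by decide⟩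
def p01342 : Equiv.Perm (Fin 5) := ⟨![0,1,3,4,2], ![0,1,4,2,3], by decide, by decide⟩
def p01423 : Equiv.Perm (Fin 5) := ⟨![0,1,4,2,3], ![0,1,3,4,2], by decide, by decide⟩
def p01432 : Equiv.Perm (Fin 5) := ⟨![0,1,4,3,2], ![0,1,4,3,2], by decide, by decide⟩
def p02134 : Equiv.Perm (Fin 5) := ⟨![0,2,1,3,4], ![0,2,1,3,4], by decide, by decide⟩
def p02143 : Equiv.Perm (Fin 5) := ⟨![0,2,1,4,3], ![0,2,1,4,3], by decide, by decide⟩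
def p02314 : Equiv.Perm (Fin 5) := ⟨![0,2,3,1,4], ![0,3,1,2,4], by decide, by decide⟩
def p02341 : Equiv.Perm (Fin 5) := ⟨![0,2,3,4,1], ![0,4,1,2,3], by decide, by decide⟩
def p02413 : Equiv.Perm (Fin 5) := ⟨![0,2,4,1,3], ![0,3,1,4,2], by decide, by decide⟩
def p02431 : Equiv.Perm (Fin 5) := ⟨![0,2,4,3,1], ![0,4,1,3,2], by decide, by decide⟩
def p03124 : Equiv.Perm (Fin 5) := ⟨![0,3,1,2,4], ![0,2,3,1,4], by decide, by decide⟩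
def p03142 : Equiv.Perm (Fin 5) := ⟨![0,3,1,4,2], ![0,2,4,1,3], by decide, by decide⟩
def p03214 : Equiv.Perm (Fin 5) := ⟨![0,3,2,1,4], ![0,3,2,1,4], by decide, by decide⟩
def p03241 : Equiv.Perm (Fin 5) := ⟨![0,3,2,4,1], ![0,4,2,1,3], by decide, by decide⟩
def p03412 : Equiv.Perm (Fin 5) := ⟨![0,3,4,1,2], ![0,3,4,1,2], by decide, by decide⟩
def p03421 : Equiv.Perm (Fin 5) := ⟨![0,3,4,2,1], ![0,4,3,1,2], by decide, by decide⟩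
def p04123 : Equiv.Perm (Fin 5) := ⟨![0,4,1,2,3], ![0,2,3,4,1], by decide, by decide⟩
def p04132 : Equiv.Perm (Fin 5) := ⟨![0,4,1,3,2], ![0,2,4,3,1], by decide, by decide⟩
def p04213 : Equiv.Perm (Fin 5) := ⟨![0,4,2,1,3], ![0,3,2,4,1], by decide, by decide⟩
def p04231 : Equiv.Perm (Fin 5) := ⟨![0,4,2,3,1], ![0,4,2,3,1], by decide, by decide⟩
def p04312 : Equiv.Perm (Fin 5) := ⟨![0,4,3,1,2], ![0,3,4,2,1], by decide, by decide⟩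
def p04321 : Equiv.Perm (Fin 5) := ⟨![0,4,3,2,1], ![0,4,3,2,1], by decide, by decide⟩
def p10234 : Equiv.Perm (Fin 5) := ⟨![1,0,2,3,4], ![1,0,2,3,4], by decide, by decide⟩
def p10243 : Equiv.Perm (Fin 5) := ⟨![1,0,2,4,3], ![1,0,2,4,3], by decide, by decide⟩
def p10324 : Equiv.Perm (Fin 5) := ⟨![1,0,3,2,4], ![1,0,3,2,4], by decide, by decide⟩
def p10342 : Equiv.Perm (Fin 5) := ⟨![1,0,3,4,2], ![1,0,4,2,3], by decide, by decide⟩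
def p10423 : Equiv.Perm (Fin 5) := ⟨![1,0,4,2,3], ![1,0,3,4,2], by decide, by decide⟩
def p10432 : Equiv.Perm (Fin 5) := ⟨![1,0,4,3,2], ![1,0,4,3,2], by decide, by decide⟩
def p12034 : Equiv.Perm (Fin 5) := ⟨![1,2,0,3,4], ![2,0,1,3,4], by decide, by decide⟩
def p12043 : Equiv.Perm (Fin 5) := ⟨![1,2,0,4,3], ![2,0,1,4,3], by decide, by decide⟩
def p12304 : Equiv.Perm (Fin 5) := ⟨![1,2,3,0,4], ![3,0,1,2,4], by decide, by decide⟩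
def p12340 : Equiv.Perm (Fin 5) := ⟨![1,2,3,4,0], ![4,0,1,2,3], by decide, by decide⟩
def p12403 : Equiv.Perm (Fin 5) := ⟨![1,2,4,0,3], ![3,0,1,4,2], by decide, by decide⟩
def p12430 : Equiv.Perm (Fin 5) := ⟨![1,2,4,3,0], ![4,0,1,3,2], by decide, by decide⟩
def p13024 : Equiv.Perm (Fin 5) := ⟨![1,3,0,2,4], ![2,0,3,1,4], by decide, by decide⟩
def p13042 : Equiv.Perm (Fin 5) := ⟨![1,3,0,4,2], ![2,0,4,1,3], by decide, by decide⟩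
def p13204 : Equiv.Perm (Fin 5) := ⟨![1,3,2,0,4], ![3,0,2,1,4], by decide, by decide⟩
def p13240 : Equiv.Perm (Fin 5) := ⟨![1,3,2,4,0], ![4,0,2,1,3], by decide, by decide⟩
def p13402 : Equiv.Perm (Fin 5) := ⟨![1,3,4,0,2], ![3,0,4,1,2], by decide, by decide⟩
def p13420 : Equiv.Perm (Fin 5) := ⟨![1,3,4,2,0], ![4,0,3,1,2], by decide, by decide⟩
def p14023 : Equiv.Perm (Fin 5) := ⟨![1,4,0,2,3], ![2,0,3,4,1], by decide, by decide⟩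
def p14032 : Equiv.Perm (Fin 5) := ⟨![1,4,0,3,2], ![2,0,4,3,1], by decide, by decide⟩
def p14203 : Equiv.Perm (Fin 5) := ⟨![1,4,2,0,3], ![3,0,2,4,1], by decide, by decide⟩
def p14230 : Equiv.Perm (Fin 5) := ⟨![1,4,2,3,0], ![4,0,2,3,1], by decide, by decide⟩
def p14302 : Equiv.Perm (Fin 5) := ⟨![1,4,3,0,2], ![3,0,4,2,1], by decide, by decide⟩
def p14320 : Equiv.Perm (Fin 5) := ⟨![1,4,3,2,0], ![4,0,3,2,1], by decide, by decide⟩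
def p20134 : Equiv.Perm (Fin 5) := ⟨![2,0,1,3,4], ![1,2,0,3,4], by decide, by decide⟩
def p20143 : Equiv.Perm (Fin 5) := ⟨![2,0,1,4,3], ![1,2,0,4,3], by decide, by decide⟩
def p20314 : Equiv.Perm (Fin 5) := ⟨![2,0,3,1,4], ![1,3,0,2,4], by decide, by decide⟩
def p20341 : Equiv.Perm (Fin 5) := ⟨![2,0,3,4,1], ![1,4,0,2,3], by decide, by decide⟩
def p20413 : Equiv.Perm (Fin 5) := ⟨![2,0,4,1,3], ![1,3,0,4,2], by decide, by decide⟩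
def p20431 : Equiv.Perm (Fin 5) := ⟨![2,0,4,3,1], ![1,4,0,3,2], by decide, by decide⟩
def p21034 : Equiv.Perm (Fin 5) := ⟨![2,1,0,3,4], ![2,1,0,3,4], by decide, by decide⟩
def p21043 : Equiv.Perm (Fin 5) := ⟨![2,1,0,4,3], ![2,1,0,4,3], by decide, by decide⟩
def p21304 : Equiv.Perm (Fin 5) := ⟨![2,1,3,0,4], ![3,1,0,2,4], by decide, by decide⟩
def p21340 : Equiv.Perm (Fin 5) := ⟨![2,1,3,4,0], ![4,1,0,2,3], by decide, by decide⟩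
def p21403 : Equiv.Perm (Fin 5) := ⟨![2,1,4,0,3], ![3,1,0,4,2], by decide, by decide⟩
def p21430 : Equiv.Perm (Fin 5) := ⟨![2,1,4,3,0], ![4,1,0,3,2], by decide, by decide⟩
def p23014 : Equiv.Perm (Fin 5) := ⟨![2,3,0,1,4], ![2,3,0,1,4], by decide, by decide⟩
def p23041 : Equiv.Perm (Fin 5) := ⟨![2,3,0,4,1], ![2,4,0,1,3], by decide, by decide⟩
def p23104 : Equiv.Perm (Fin 5) := ⟨![2,3,1,0,4], ![3,2,0,1,4], by decide, by decide⟩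
def p23140 : Equiv.Perm (Fin 5) := ⟨![2,3,1,4,0], ![4,2,0,1,3], by decide, by decide⟩
def p23401 : Equiv.Perm (Fin 5) := ⟨![2,3,4,0,1], ![3,4,0,1,2], by decide, by decide⟩
def p23410 : Equiv.Perm (Fin 5) := ⟨![2,3,4,1,0], ![4,3,0,1,2], by decide, by decide⟩
def p24013 : Equiv.Perm (Fin 5) := ⟨![2,4,0,1,3], ![2,3,0,4,1], by decide, by decide⟩
def p24031 : Equiv.Perm (Fin 5) := ⟨![2,4,0,3,1], ![2,4,0,3,1], by decide, by decide⟩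
def p24103 : Equiv.Perm (Fin 5) := ⟨![2,4,1,0,3], ![3,2,0,4,1], by decide, by decide⟩
def p24130 : Equiv.Perm (Fin 5) := ⟨![2,4,1,3,0], ![4,2,0,3,1], by decide, by decide⟩
def p24301 : Equiv.Perm (Fin 5) := ⟨![2,4,3,0,1], ![3,4,0,2,1], by decide, by decide⟩
def p24310 : Equiv.Perm (Fin 5) := ⟨![2,4,3,1,0], ![4,3,0,2,1], by decide, by decide⟩
def p30124 : Equiv.Perm (Fin 5) := ⟨![3,0,1,2,4], ![1,2,3,0,4], by decide, by decide⟩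
def p30142 : Equiv.Perm (Fin 5) := ⟨![3,0,1,4,2], ![1,2,4,0,3], by decide, by decide⟩
def p30214 : Equiv.Perm (Fin 5) := ⟨![3,0,2,1,4], ![1,3,2,0,4], by decide, by decide⟩
def p30241 : Equiv.Perm (Fin 5) := ⟨![3,0,2,4,1], ![1,4,2,0,3], by decide, by decide⟩
def p30412 : Equiv.Perm (Fin 5) := ⟨![3,0,4,1,2], ![1,3,4,0,2], by decide, by decide⟩
def p30421 : Equiv.Perm (Fin 5) := ⟨![3,0,4,2,1], ![1,4,3,0,2], by decide, by decide⟩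
def p31024 : Equiv.Perm (Fin 5) := ⟨![3,1,0,2,4], ![2,1,3,0,4], by decide, by decide⟩
def p31042 : Equiv.Perm (Fin 5) := ⟨![3,1,0,4,2], ![2,1,4,0,3], by decide, by decide⟩
def p31204 : Equiv.Perm (Fin 5) := ⟨![3,1,2,0,4], ![3,1,2,0,4], by decide, by decide⟩
def p31240 : Equiv.Perm (Fin 5) := ⟨![3,1,2,4,0], ![4,1,2,0,3], by decide, by decide⟩
def p31402 : Equiv.Perm (Fin 5) := ⟨![3,1,4,0,2], ![3,1,4,0,2], by decide, by decide⟩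
def p31420 : Equiv.Perm (Fin 5) := ⟨![3,1,4,2,0], ![4,1,3,0,2], by decide, by decide⟩
def p32014 : Equiv.Perm (Fin 5) := ⟨![3,2,0,1,4], ![2,3,1,0,4], by decide, by decide⟩
def p32041 : Equiv.Perm (Fin 5) := ⟨![3,2,0,4,1], ![2,4,1,0,3], by decide, by decide⟩
def p32104 : Equiv.Perm (Fin 5) := ⟨![3,2,1,0,4], ![3,2,1,0,4], by decide, by decide⟩
def p32140 : Equiv.Perm (Fin 5) := ⟨![3,2,1,4,0], ![4,2,1,0,3], by decide, by decide⟩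
def p32401 : Equiv.Perm (Fin 5) := ⟨![3,2,4,0,1], ![3,4,1,0,2], by decide, by decide⟩
def p32410 : Equiv.Perm (Fin 5) := ⟨![3,2,4,1,0], ![4,3,1,0,2], by decide, by decide⟩
def p34012 : Equiv.Perm (Fin 5) := ⟨![3,4,0,1,2], ![2,3,4,0,1], by decide, by decide⟩
def p34021 : Equiv.Perm (Fin 5) := ⟨![3,4,0,2,1], ![2,4,3,0,1], by decide, by decide⟩
def p34102 : Equiv.Perm (Fin 5) := ⟨![3,4,1,0,2], ![3,2,4,0,1], by decide, by decide⟩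
def p34120 : Equiv.Perm (Fin 5) := ⟨![3,4,1,2,0], ![4,2,3,0,1], by decide, by decide⟩
def p34201 : Equiv.Perm (Fin 5) := ⟨![3,4,2,0,1], ![3,4,2,0,1], by decide, by decide⟩
def p34210 : Equiv.Perm (Fin 5) := ⟨![3,4,2,1,0], ![4,3,2,0,1], by decide, by decide⟩
def p40123 : Equiv.Perm (Fin 5) := ⟨![4,0,1,2,3], ![1,2,3,4,0], by decide, by decide⟩
def p40132 : Equiv.Perm (Fin 5) := ⟨![4,0,1,3,2], ![1,2,4,3,0], by decide, by decide⟩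
def p40213 : Equiv.Perm (Fin 5) := ⟨![4,0,2,1,3], ![1,3,2,4,0], by decide, by decide⟩
def p40231 : Equiv.Perm (Fin 5) := ⟨![4,0,2,3,1], ![1,4,2,3,0], by decide, by decide⟩
def p40312 : Equiv.Perm (Fin 5) := ⟨![4,0,3,1,2], ![1,3,4,2,0], by decide, by decide⟩
def p40321 : Equiv.Perm (Fin 5) := ⟨![4,0,3,2,1], ![1,4,3,2,0], by decide, by decide⟩
def p41023 : Equiv.Perm (Fin 5) := ⟨![4,1,0,2,3], ![2,1,3,4,0], by decide, by decide⟩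
def p41032 : Equiv.Perm (Fin 5) := ⟨![4,1,0,3,2], ![2,1,4,3,0], by decide, by decide⟩
def p41203 : Equiv.Perm (Fin 5) := ⟨![4,1,2,0,3], ![3,1,2,4,0], by decide, by decide⟩
def p41230 : Equiv.Perm (Fin 5) := ⟨![4,1,2,3,0], ![4,1,2,3,0], by decide, by decide⟩
def p41302 : Equiv.Perm (Fin 5) := ⟨![4,1,3,0,2], ![3,1,4,2,0], by decide, by decide⟩
def p41320 : Equiv.Perm (Fin 5) := ⟨![4,1,3,2,0], ![4,1,3,2,0], by decide, by decide⟩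
def p42013 : Equiv.Perm (Fin 5) := ⟨![4,2,0,1,3], ![2,3,1,4,0], by decide, by decide⟩
def p42031 : Equiv.Perm (Fin 5) := ⟨![4,2,0,3,1], ![2,4,1,3,0], by decide, by decide⟩
def p42103 : Equiv.Perm (Fin 5) := ⟨![4,2,1,0,3], ![3,2,1,4,0], by decide, by decide⟩
def p42130 : Equiv.Perm (Fin 5) := ⟨![4,2,1,3,0], ![4,2,1,3,0], by decide, by decide⟩
def p42301 : Equiv.Perm (Fin 5) := ⟨![4,2,3,0,1], ![3,4,1,2,0], by decide, by decide⟩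
def p42310 : Equiv.Perm (Fin 5) := ⟨![4,2,3,1,0], ![4,3,1,2,0], by decide, by decide⟩
def p43012 : Equiv.Perm (Fin 5) := ⟨![4,3,0,1,2], ![2,3,4,1,0], by decide, by decide⟩
def p43021 : Equiv.Perm (Fin 5) := ⟨![4,3,0,2,1], ![2,4,3,1,0], by decide, by decide⟩
def p43102 : Equiv.Perm (Fin 5) := ⟨![4,3,1,0,2], ![3,2,4,1,0], by decide, by decide⟩
def p43120 : Equiv.Perm (Fin 5) := ⟨![4,3,1,2,0], ![4,2,3,1,0], by decide, by decide⟩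
def p43201 : Equiv.Perm (Fin 5) := ⟨![4,3,2,0,1], ![3,4,2,1,0], by decide, by decide⟩
def p43210 : Equiv.Perm (Fin 5) := ⟨![4,3,2,1,0], ![4,3,2,1,0], by decide, by decide⟩

/-- the arithmetic context of a genus one type on 5 indices with all indices (-2) -/
@[reducible] def Ctx (T : Models.NumericalType 5) (α01 α02 α03 α04 α10 α12 α13 α14 α20 α21 α23 α24 α30 α31 α32 α34 α40 α41 α42 α43 : ℤ) : Prop :=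
  (0 < T.m 0) ∧
  (0 < T.m 1) ∧
  (0 < T.m 2) ∧
  (0 < T.m 3) ∧
  (0 < T.m 4) ∧
  (0 < T.w 0) ∧
  (0 < T.w 1) ∧
  (0 < T.w 2) ∧
  (0 < T.w 3) ∧
  (0 < T.w 4) ∧
  (α01 * T.m 1 + α02 * T.m 2 + α03 * T.m 3 + α04 * T.m 4 = 2 * T.m 0) ∧
  (α10 * T.m 0 + α12 * T.m 2 + α13 * T.m 3 + α14 * T.m 4 = 2 * T.m 1) ∧
  (α20 * T.m 0 + α21 * T.m 1 + α23 * T.m 3 + α24 * T.m 4 = 2 * T.m 2) ∧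
  (α30 * T.m 0 + α31 * T.m 1 + α32 * T.m 2 + α34 * T.m 4 = 2 * T.m 3) ∧
  (α40 * T.m 0 + α41 * T.m 1 + α42 * T.m 2 + α43 * T.m 3 = 2 * T.m 4) ∧
  (0 ≤ α01 * T.m 1) ∧
  (0 ≤ α02 * T.m 2) ∧
  (0 ≤ α03 * T.m 3) ∧
  (0 ≤ α04 * T.m 4) ∧
  (0 ≤ α10 * T.m 0) ∧
  (0 ≤ α12 * T.m 2) ∧
  (0 ≤ α13 * T.m 3) ∧
  (0 ≤ α14 * T.m 4) ∧
  (0 ≤ α20 * T.m 0) ∧
  (0 ≤ α21 * T.m 1) ∧
  (0 ≤ α23 * T.m 3) ∧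
  (0 ≤ α24 * T.m 4) ∧
  (0 ≤ α30 * T.m 0) ∧
  (0 ≤ α31 * T.m 1) ∧
  (0 ≤ α32 * T.m 2) ∧
  (0 ≤ α34 * T.m 4) ∧
  (0 ≤ α40 * T.m 0) ∧
  (0 ≤ α41 * T.m 1) ∧
  (0 ≤ α42 * T.m 2) ∧
  (0 ≤ α43 * T.m 3) ∧
  (T.w 0 * α01 = T.w 1 * α10) ∧
  (T.w 0 * α02 = T.w 2 * α20) ∧
  (T.w 0 * α03 = T.w 3 * α30) ∧
  (T.w 0 * α04 = T.w 4 * α40) ∧
  (T.w 1 * α12 = T.w 2 * α21) ∧
  (T.w 1 * α13 = T.w 3 * α31) ∧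
  (T.w 1 * α14 = T.w 4 * α41) ∧
  (T.w 2 * α23 = T.w 3 * α32) ∧
  (T.w 2 * α24 = T.w 4 * α42) ∧
  (T.w 3 * α34 = T.w 4 * α43) ∧
  (0 ≤ α01 * α10) ∧
  (0 ≤ α02 * α20) ∧
  (0 ≤ α03 * α30) ∧
  (0 ≤ α04 * α40) ∧
  (0 ≤ α12 * α21) ∧
  (0 ≤ α13 * α31) ∧
  (0 ≤ α14 * α41) ∧
  (0 ≤ α23 * α32) ∧
  (0 ≤ α24 * α42) ∧
  (0 ≤ α34 * α43) ∧
  (α01 * α10 + α02 * α20 + α03 * α30 + α04 * α40 ≤ 4) ∧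
  (α01 * α10 + α12 * α21 + α13 * α31 + α14 * α41 ≤ 4) ∧
  (α02 * α20 + α12 * α21 + α23 * α32 + α24 * α42 ≤ 4) ∧
  (α03 * α30 + α13 * α31 + α23 * α32 + α34 * α43 ≤ 4) ∧
  (α04 * α40 + α14 * α41 + α24 * α42 + α34 * α43 ≤ 4) ∧
  (0 < α02 + α03 + α04 + α12 + α13 + α14) ∧
  (0 < α01 + α03 + α04 + α21 + α23 + α24) ∧
  (0 < α01 + α02 + α04 + α31 + α32 + α34) ∧
  (0 < α01 + α02 + α03 + α41 + α42 + α43) ∧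
  (0 < α10 + α13 + α14 + α20 + α23 + α24) ∧
  (0 < α10 + α12 + α14 + α30 + α32 + α34) ∧
  (0 < α10 + α12 + α13 + α40 + α42 + α43) ∧
  (0 < α20 + α21 + α24 + α30 + α31 + α34) ∧
  (0 < α20 + α21 + α23 + α40 + α41 + α43) ∧
  (0 < α30 + α31 + α32 + α40 + α41 + α42) ∧
  (Hide ((α01 = 0 ∧ α10 = 0) ∨ (α01 = 1 ∧ α10 = 1) ∨ (α01 = 1 ∧ α10 = 2) ∨ (α01 = 2 ∧ α10 = 1) ∨ (α01 = 1 ∧ α10 = 3) ∨ (α01 = 3 ∧ α10 = 1) ∨ (α01 = 1 ∧ α10 = 4) ∨ (α01 = 4 ∧ α10 = 1) ∨ (α01 = 2 ∧ α10 = 2))) ∧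
  (Hide ((α02 = 0 ∧ α20 = 0) ∨ (α02 = 1 ∧ α20 = 1) ∨ (α02 = 1 ∧ α20 = 2) ∨ (α02 = 2 ∧ α20 = 1) ∨ (α02 = 1 ∧ α20 = 3) ∨ (α02 = 3 ∧ α20 = 1) ∨ (α02 = 1 ∧ α20 = 4) ∨ (α02 = 4 ∧ α20 = 1) ∨ (α02 = 2 ∧ α20 = 2))) ∧
  (Hide ((α03 = 0 ∧ α30 = 0) ∨ (α03 = 1 ∧ α30 = 1) ∨ (α03 = 1 ∧ α30 = 2) ∨ (α03 = 2 ∧ α30 = 1) ∨ (α03 = 1 ∧ α30 = 3) ∨ (α03 = 3 ∧ α30 = 1) ∨ (α03 = 1 ∧ α30 = 4) ∨ (α03 = 4 ∧ α30 = 1) ∨ (α03 = 2 ∧ α30 = 2))) ∧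
  (Hide ((α04 = 0 ∧ α40 = 0) ∨ (α04 = 1 ∧ α40 = 1) ∨ (α04 = 1 ∧ α40 = 2) ∨ (α04 = 2 ∧ α40 = 1) ∨ (α04 = 1 ∧ α40 = 3) ∨ (α04 = 3 ∧ α40 = 1) ∨ (α04 = 1 ∧ α40 = 4) ∨ (α04 = 4 ∧ α40 = 1) ∨ (α04 = 2 ∧ α40 = 2))) ∧
  (Hide ((α12 = 0 ∧ α21 = 0) ∨ (α12 = 1 ∧ α21 = 1) ∨ (α12 = 1 ∧ α21 = 2) ∨ (α12 = 2 ∧ α21 = 1) ∨ (α12 = 1 ∧ α21 = 3) ∨ (α12 = 3 ∧ α21 = 1) ∨ (α12 = 1 ∧ α21 = 4) ∨ (α12 = 4 ∧ α21 = 1) ∨ (α12 = 2 ∧ α21 = 2))) ∧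
  (Hide ((α13 = 0 ∧ α31 = 0) ∨ (α13 = 1 ∧ α31 = 1) ∨ (α13 = 1 ∧ α31 = 2) ∨ (α13 = 2 ∧ α31 = 1) ∨ (α13 = 1 ∧ α31 = 3) ∨ (α13 = 3 ∧ α31 = 1) ∨ (α13 = 1 ∧ α31 = 4) ∨ (α13 = 4 ∧ α31 = 1) ∨ (α13 = 2 ∧ α31 = 2))) ∧
  (Hide ((α14 = 0 ∧ α41 = 0) ∨ (α14 = 1 ∧ α41 = 1) ∨ (α14 = 1 ∧ α41 = 2) ∨ (α14 = 2 ∧ α41 = 1) ∨ (α14 = 1 ∧ α41 = 3) ∨ (α14 = 3 ∧ α41 = 1) ∨ (α14 = 1 ∧ α41 = 4) ∨ (α14 = 4 ∧ α41 = 1) ∨ (α14 = 2 ∧ α41 = 2))) ∧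
  (Hide ((α23 = 0 ∧ α32 = 0) ∨ (α23 = 1 ∧ α32 = 1) ∨ (α23 = 1 ∧ α32 = 2) ∨ (α23 = 2 ∧ α32 = 1) ∨ (α23 = 1 ∧ α32 = 3) ∨ (α23 = 3 ∧ α32 = 1) ∨ (α23 = 1 ∧ α32 = 4) ∨ (α23 = 4 ∧ α32 = 1) ∨ (α23 = 2 ∧ α32 = 2))) ∧
  (Hide ((α24 = 0 ∧ α42 = 0) ∨ (α24 = 1 ∧ α42 = 1) ∨ (α24 = 1 ∧ α42 = 2) ∨ (α24 = 2 ∧ α42 = 1) ∨ (α24 = 1 ∧ α42 = 3) ∨ (α24 = 3 ∧ α42 = 1) ∨ (α24 = 1 ∧ α42 = 4) ∨ (α24 = 4 ∧ α42 = 1) ∨ (α24 = 2 ∧ α42 = 2))) ∧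
  (Hide ((α34 = 0 ∧ α43 = 0) ∨ (α34 = 1 ∧ α43 = 1) ∨ (α34 = 1 ∧ α43 = 2) ∨ (α34 = 2 ∧ α43 = 1) ∨ (α34 = 1 ∧ α43 = 3) ∨ (α34 = 3 ∧ α43 = 1) ∨ (α34 = 1 ∧ α43 = 4) ∨ (α34 = 4 ∧ α43 = 1) ∨ (α34 = 2 ∧ α43 = 2))) ∧
  (Hide (T.a 0 0 = -2 * T.w 0 ∧ T.a 1 1 = -2 * T.w 1 ∧ T.a 2 2 = -2 * T.w 2 ∧ T.a 3 3 = -2 * T.w 3 ∧ T.a 4 4 = -2 * T.w 4 ∧ T.a 0 1 = T.w 0 * α01 ∧ T.a 0 2 = T.w 0 * α02 ∧ T.a 0 3 = T.w 0 * α03 ∧ T.a 0 4 = T.w 0 * α04 ∧ T.a 1 0 = T.w 1 * α10 ∧ T.a 1 2 = T.w 1 * α12 ∧ T.a 1 3 = T.w 1 * α13 ∧ T.a 1 4 = T.w 1 * α14 ∧ T.a 2 0 = T.w 2 * α20 ∧ T.a 2 1 = T.w 2 * α21 ∧ T.a 2 3 = T.w 2 * α23 ∧ T.a 2 4 = T.w 2 * α24 ∧ T.a 3 0 = T.w 3 * α30 ∧ T.a 3 1 = T.w 3 * α31 ∧ T.a 3 2 = T.w 3 * α32 ∧ T.a 3 4 = T.w 3 * α34 ∧ T.a 4 0 = T.w 4 *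 α40 ∧ T.a 4 1 = T.w 4 * α41 ∧ T.a 4 2 = T.w 4 * α42 ∧ T.a 4 3 = T.w 4 * α43))

/-- the list of types -/
@[reducible] def Goal (T : Models.NumericalType 5) : Prop :=
  ∃ (σ : Equiv.Perm (Fin 5)) (m w : ℤ),
      ((T.m (σ 0) = m ∧ T.m (σ 1) = m ∧ T.m (σ 2) = m ∧ T.m (σ 3) = m ∧ T.m (σ 4) = m ∧ T.w (σ 0) = w ∧ T.w (σ 1) = w ∧ T.w (σ 2) = w ∧ T.w (σ 3) = w ∧ T.w (σ 4) = w ∧ T.a (σ 0) (σ 0) = -2 * w ∧ T.a (σ 0) (σ 1) = w ∧ T.a (σ 0) (σ 2) = 0 ∧ T.a (σ 0) (σ 3) = 0 ∧ T.a (σ 0) (σ 4) = w ∧ T.a (σ 1) (σ 1) = -2 * w ∧ T.a (σ 1) (σ 2) = w ∧ T.a (σ 1) (σ 3) = 0 ∧ T.a (σ 1) (σ 4) = 0 ∧ T.a (σ 2) (σ 2) = -2 * w ∧ T.a (σ 2) (σ 3) = w ∧ T.a (σ 2) (σ 4) = 0 ∧ T.a (σ 3) (σ 3) = -2 * w ∧ T.a (σ 3) (σ 4) = w ∧ T.a (σ 4) (σ 4) = -2 * w) ∨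
      (T.m (σ 0) = m ∧ T.m (σ 1) = 2 * m ∧ T.m (σ 2) = 3 * m ∧ T.m (σ 3) = 2 * m ∧ T.m (σ 4) = m ∧ T.w (σ 0) = w ∧ T.w (σ 1) = w ∧ T.w (σ 2) = w ∧ T.w (σ 3) = 2 * w ∧ T.w (σ 4) = 2 * w ∧ T.a (σ 0) (σ 0) = -2 * w ∧ T.a (σ 0) (σ 1) = w ∧ T.a (σ 0) (σ 2) = 0 ∧ T.a (σ 0) (σ 3) = 0 ∧ T.a (σ 0) (σ 4) = 0 ∧ T.a (σ 1) (σ 1) = -2 * w ∧ T.a (σ 1) (σ 2) = w ∧ T.a (σ 1) (σ 3) = 0 ∧ T.a (σ 1) (σ 4) = 0 ∧ T.a (σ 2) (σ 2) = -2 * w ∧ T.a (σ 2) (σ 3) = 2 * w ∧ T.a (σ 2) (σ 4) = 0 ∧ T.a (σ 3) (σ 3) = -4 * w ∧ T.a (σ 3) (σ 4) = 2 * w ∧ T.a (σ 4) (σ 4) = -4 * w) ∨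
      (T.m (σ 0) = m ∧ T.m (σ 1) = 2 * m ∧ T.m (σ 2) = 3 * m ∧ T.m (σ 3) = 4 * m ∧ T.m (σ 4) = 2 * m ∧ T.w (σ 0) = 2 * w ∧ T.w (σ 1) = 2 * w ∧ T.w (σ 2) = 2 * w ∧ T.w (σ 3) = w ∧ T.w (σ 4) = w ∧ T.a (σ 0) (σ 0) = -4 * w ∧ T.a (σ 0) (σ 1) = 2 * w ∧ T.a (σ 0) (σ 2) = 0 ∧ T.a (σ 0) (σ 3) = 0 ∧ T.a (σ 0) (σ 4) = 0 ∧ T.a (σ 1) (σ 1) = -4 * w ∧ T.a (σ 1) (σ 2) = 2 * w ∧ T.a (σ 1) (σ 3) = 0 ∧ T.a (σ 1) (σ 4) = 0 ∧ T.a (σ 2) (σ 2) = -4 * w ∧ T.a (σ 2) (σ 3) = 2 * w ∧ T.a (σ 2) (σ 4) = 0 ∧ T.a (σ 3) (σ 3) = -2 * w ∧ T.a (σ 3) (σ 4) = w ∧ T.a (σ 4) (σ 4) = -2 * w) ∨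
      (T.m (σ 0) = 2 * m ∧ T.m (σ 1) = 2 * m ∧ T.m (σ 2) = 2 * m ∧ T.m (σ 3) = 2 * m ∧ T.m (σ 4) = m ∧ T.w (σ 0) = w ∧ T.w (σ 1) = 2 * w ∧ T.w (σ 2) = 2 * w ∧ T.w (σ 3) = 2 * w ∧ T.w (σ 4) = 4 * w ∧ T.a (σ 0) (σ 0) = -2 * w ∧ T.a (σ 0) (σ 1) = 2 * w ∧ T.a (σ 0) (σ 2) = 0 ∧ T.a (σ 0) (σ 3) = 0 ∧ T.a (σ 0) (σ 4) = 0 ∧ T.a (σ 1) (σ 1) = -4 * w ∧ T.a (σ 1) (σ 2) = 2 * w ∧ T.a (σ 1) (σ 3) = 0 ∧ T.a (σ 1) (σ 4) = 0 ∧ T.a (σ 2) (σ 2) = -4 * w ∧ T.a (σ 2) (σ 3) = 2 * w ∧ T.a (σ 2) (σ 4) = 0 ∧ T.a (σ 3) (σ 3) = -4 * w ∧ T.a (σ 3) (σ 4) = 4 * w ∧ T.a (σ 4) (σ 4) = -8 * w) ∨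
      (T.m (σ 0) = m ∧ T.m (σ 1) = m ∧ T.m (σ 2) = m ∧ T.m (σ 3) = m ∧ T.m (σ 4) = m ∧ T.w (σ 0) = w ∧ T.w (σ 1) = 2 * w ∧ T.w (σ 2) = 2 * w ∧ T.w (σ 3) = 2 * w ∧ T.w (σ 4) = w ∧ T.a (σ 0) (σ 0) = -2 * w ∧ T.a (σ 0) (σ 1) = 2 * w ∧ T.a (σ 0) (σ 2) = 0 ∧ T.a (σ 0) (σ 3) = 0 ∧ T.a (σ 0) (σ 4) = 0 ∧ T.a (σ 1) (σ 1) = -4 * w ∧ T.a (σ 1) (σ 2) = 2 * w ∧ T.a (σ 1) (σ 3) = 0 ∧ T.a (σ 1) (σ 4) = 0 ∧ T.a (σ 2) (σ 2) = -4 * w ∧ T.a (σ 2) (σ 3) = 2 * w ∧ T.a (σ 2) (σ 4) = 0 ∧ T.a (σ 3) (σ 3) = -4 * w ∧ T.a (σ 3) (σ 4) = 2 * w ∧ T.a (σ 4) (σ 4) = -2 * w) ∨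
      (T.m (σ 0) = m ∧ T.m (σ 1) = 2 * m ∧ T.m (σ 2) = 2 * m ∧ T.m (σ 3) = 2 * m ∧ T.m (σ 4) = m ∧ T.w (σ 0) = 2 * w ∧ T.w (σ 1) = w ∧ T.w (σ 2) = w ∧ T.w (σ 3) = w ∧ T.w (σ 4) = 2 * w ∧ T.a (σ 0) (σ 0) = -4 * w ∧ T.a (σ 0) (σ 1) = 2 * w ∧ T.a (σ 0) (σ 2) = 0 ∧ T.a (σ 0) (σ 3) = 0 ∧ T.a (σ 0) (σ 4) = 0 ∧ T.a (σ 1) (σ 1) = -2 * w ∧ T.a (σ 1) (σ 2) = w ∧ T.a (σ 1) (σ 3) = 0 ∧ T.a (σ 1) (σ 4) = 0 ∧ T.a (σ 2) (σ 2) = -2 * w ∧ T.a (σ 2) (σ 3) = w ∧ T.a (σ 2) (σ 4) = 0 ∧ T.a (σ 3) (σ 3) = -2 * w ∧ T.a (σ 3) (σ 4) = 2 * w ∧ T.a (σ 4) (σ 4) = -4 * w) ∨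
      (T.m (σ 0) = 2 * m ∧ T.m (σ 1) = m ∧ T.m (σ 2) = m ∧ T.m (σ 3) = m ∧ T.m (σ 4) = m ∧ T.w (σ 0) = w ∧ T.w (σ 1) = w ∧ T.w (σ 2) = w ∧ T.w (σ 3) = w ∧ T.w (σ 4) = w ∧ T.a (σ 0) (σ 0) = -2 * w ∧ T.a (σ 0) (σ 1) = w ∧ T.a (σ 0) (σ 2) = w ∧ T.a (σ 0) (σ 3) = w ∧ T.a (σ 0) (σ 4) = w ∧ T.a (σ 1) (σ 1) = -2 * w ∧ T.a (σ 1) (σ 2) = 0 ∧ T.a (σ 1) (σ 3) = 0 ∧ T.a (σ 1) (σ 4) = 0 ∧ T.a (σ 2) (σ 2) = -2 * w ∧ T.a (σ 2) (σ 3) = 0 ∧ T.a (σ 2) (σ 4) = 0 ∧ T.a (σ 3) (σ 3) = -2 * w ∧ T.a (σ 3) (σ 4) = 0 ∧ T.a (σ 4) (σ 4) = -2 * w) ∨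
      (T.m (σ 0) = m ∧ T.m (σ 1) = 2 * m ∧ T.m (σ 2) = 2 * m ∧ T.m (σ 3) = m ∧ T.m (σ 4) = m ∧ T.w (σ 0) = 2 * w ∧ T.w (σ 1) = w ∧ T.w (σ 2) = w ∧ T.w (σ 3) = w ∧ T.w (σ 4) = w ∧ T.a (σ 0) (σ 0) = -4 * w ∧ T.a (σ 0) (σ 1) = 2 * w ∧ T.a (σ 0) (σ 2) = 0 ∧ T.a (σ 0) (σ 3) = 0 ∧ T.a (σ 0) (σ 4) = 0 ∧ T.a (σ 1) (σ 1) = -2 * w ∧ T.a (σ 1) (σ 2) = w ∧ T.a (σ 1) (σ 3) = 0 ∧ T.a (σ 1) (σ 4) = 0 ∧ T.a (σ 2) (σ 2) = -2 * w ∧ T.a (σ 2) (σ 3) = w ∧ T.a (σ 2) (σ 4) = w ∧ T.a (σ 3) (σ 3) = -2 * w ∧ T.a (σ 3) (σ 4) = 0 ∧ T.a (σ 4) (σ 4) = -2 * w) ∨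
      (T.m (σ 0) = 2 * m ∧ T.m (σ 1) = 2 * m ∧ T.m (σ 2) = 2 * m ∧ T.m (σ 3) = m ∧ T.m (σ 4) = m ∧ T.w (σ 0) = w ∧ T.w (σ 1) = 2 * w ∧ T.w (σ 2) = 2 * w ∧ T.w (σ 3) = 2 * w ∧ T.w (σ 4) = 2 * w ∧ T.a (σ 0) (σ 0) = -2 * w ∧ T.a (σ 0) (σ 1) = 2 * w ∧ T.a (σ 0) (σ 2) = 0 ∧ T.a (σ 0) (σ 3) = 0 ∧ T.a (σ 0) (σ 4) = 0 ∧ T.a (σ 1) (σ 1) = -4 * w ∧ T.a (σ 1) (σ 2) = 2 * w ∧ T.a (σ 1) (σ 3) = 0 ∧ T.a (σ 1) (σ 4) = 0 ∧ T.a (σ 2) (σ 2) = -4 * w ∧ T.a (σ 2) (σ 3) = 2 * w ∧ T.a (σ 2) (σ 4) = 2 * w ∧ T.a (σ 3) (σ 3) = -4 * w ∧ T.a (σ 3) (σ 4) = 0 ∧ T.a (σ 4) (σ 4) = -4 * w))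

end Groth.Agent.Lib.helper20.G1n5
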