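import Groth.Agent.Lib.Helper20.G1n5Base

set_option autoImplicit false
open Finset
open Models Models.NumericalType

namespace Groth.Agent.Lib.helper20.G1n5

set_option maxHeartbeats 0 in
theorem part9 (T : Models.NumericalType 5) (α12 α13 α14 α21 α23 α24 α31 α32 α34 α41 α42 α43 : ℤ)
    (H : Ctx T 0 0 1 1 0 α12 α13 α14 0 α21 α23 α24 1 α31 α32 α34 1 α41 α42 α43) : Goal T := by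
  obtain ⟨hm0, hm1, hm2, hm3, hm4, hw0, hw1, hw2, hw3, hw4, e0, e1, e2, e3, e4, r01, r02, r03, r04, r10, r12, r13, r14, r20, r21, r23, r24, r30, r31, r32, r34, r40, r41, r42, r43, s01, s02, s03, s04, s12, s13, s14, s23, s24, s34, p01, p02, p03, p04, p12, p13, p14, p23, p24, p34, v0, v1, v2, v3, v4, k01, k02, k03, k04, k12, k13, k14, k23, k24, k34, c01, c02, c03, c04, c12, c13, c14, c23, c24, c34, HA⟩ := H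
  rcases pc3 _ _ c34.out (by omega) with ⟨rfl, rfl⟩ | ⟨rfl, rfl⟩ | ⟨rfl, rfl⟩ | ⟨rfl, rfl⟩ | ⟨rfl, rfl⟩ | ⟨rfl, rfl⟩
  · rcases pc3 _ _ c13.out (by omega) with ⟨rfl, rfl⟩ | ⟨rfl, rfl⟩ | ⟨rfl, rfl⟩ | ⟨rfl, rfl⟩ | ⟨rfl, rfl⟩ | ⟨rfl, rfl⟩
    · rcases pc3 _ _ c14.out (by omega) with ⟨rfl, rfl⟩ | ⟨rfl, rfl⟩ | ⟨rfl, rfl⟩ | ⟨rfl, rfl⟩ | ⟨rfl, rfl⟩ | ⟨rfl, rfl⟩
      · rcases pc3 _ _ c23.out (by omega) with ⟨rfl, rfl⟩ | ⟨rfl, rfl⟩ | ⟨rfl, rfl⟩ | ⟨rfl, rfl⟩ | ⟨rfl, rfl⟩ | ⟨rfl, rfl⟩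
        · rcases pc3 _ _ c24.out (by omega) with ⟨rfl, rfl⟩ | ⟨rfl, rfl⟩ | ⟨rfl, rfl⟩ | ⟨rfl, rfl⟩ | ⟨rfl, rfl⟩ | ⟨rfl, rfl⟩
          · omega
          · rcases pc3 _ _ c12.out (by omega) with ⟨rfl, rfl⟩ | ⟨rfl, rfl⟩ | ⟨rfl, rfl⟩ | ⟨rfl, rfl⟩ | ⟨rfl, rfl⟩ | ⟨rfl, rfl⟩
            · omega
            · omega
            · omega
            · omega
            · omega
            · omega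
          · rcases pc2 _ _ c12.out (by omega) with ⟨rfl, rfl⟩ | ⟨rfl, rfl⟩ | ⟨rfl, rfl⟩ | ⟨rfl, rfl⟩
            · omega
            · exact ⟨p30421, T.m 3, T.w 3, Or.inr (Or.inl ((show T.m 3 = T.m 3 ∧ T.m 0 = 2 * T.m 3 ∧ T.m 4 = 3 * T.m 3 ∧ T.m 2 = 2 * T.m 3 ∧ T.m 1 = T.m 3 ∧ T.w 3 = T.w 3 ∧ T.w 0 = T.w 3 ∧ T.w 4 = T.w 3 ∧ T.w 2 = 2 * T.w 3 ∧ T.w 1 = 2 * T.w 3 ∧ T.a 3 3 = -2 * T.w 3 ∧ T.a 3 0 = T.w 3 ∧ T.a 3 4 = 0 ∧ T.a 3 2 = 0 ∧ T.a 3 1 = 0 ∧ T.a 0 0 = -2 * T.w 3 ∧ T.a 0 4 = T.w 3 ∧ T.a 0 2 = 0 ∧ T.a 0 1 = 0 ∧ T.a 4 4 = -2 * T.w 3 ∧ T.a 4 2 = 2 * T.w 3 ∧ T.a 4 1 = 0 ∧ T.a 2 2 = -4 * T.w 3 ∧ T.a 2 1 = 2 * T.w 3 ∧ T.a 1 1 = -4 * T.w 3 from by have HA' := HA.out; omega)))⟩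
            · omega
            · omega
          · rcases pc2 _ _ c12.out (by omega) with ⟨rfl, rfl⟩ | ⟨rfl, rfl⟩ | ⟨rfl, rfl⟩ | ⟨rfl, rfl⟩
            · omega
            · exact ⟨p30421, T.m 3, T.w 2, Or.inr (Or.inr (Or.inl ((show T.m 3 = T.m 3 ∧ T.m 0 = 2 * T.m 3 ∧ T.m 4 = 3 * T.m 3 ∧ T.m 2 = 4 * T.m 3 ∧ T.m 1 = 2 * T.m 3 ∧ T.w 3 = 2 * T.w 2 ∧ T.w 0 = 2 * T.w 2 ∧ T.w 4 = 2 * T.w 2 ∧ T.w 2 = T.w 2 ∧ T.w 1 = T.w 2 ∧ T.a 3 3 = -4 * T.w 2 ∧ T.a 3 0 = 2 * T.w 2 ∧ T.a 3 4 = 0 ∧ T.a 3 2 = 0 ∧ T.a 3 1 = 0 ∧ T.a 0 0 = -4 * T.w 2 ∧ T.a 0 4 = 2 * T.w 2 ∧ T.a 0 2 = 0 ∧ T.a 0 1 = 0 ∧ T.a 4 4 = -4 * T.w 2 ∧ T.a 4 2 = 2 * T.w 2 ∧ T.a 4 1 = 0 ∧ T.a 2 2 = -2 * T.w 2 ∧ T.a 2 1 = T.w 2 ∧ T.a 1 1 = -2 * T.w 2 from by have HA' := HA.out; omega))))⟩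
            · omega
            · omega
          · omega
          · omega
        · rcases pc3 _ _ c24.out (by omega) with ⟨rfl, rfl⟩ | ⟨rfl, rfl⟩ | ⟨rfl, rfl⟩ | ⟨rfl, rfl⟩ | ⟨rfl, rfl⟩ | ⟨rfl, rfl⟩
          · rcases pc3 _ _ c12.out (by omega) with ⟨rfl, rfl⟩ | ⟨rfl, rfl⟩ | ⟨rfl, rfl⟩ | ⟨rfl, rfl⟩ | ⟨rfl, rfl⟩ | ⟨rfl, rfl⟩
            · omega
            · omega
            · omega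
            · omega
            · omega
            · omega
          · rcases pc2 _ _ c12.out (by omega) with ⟨rfl, rfl⟩ | ⟨rfl, rfl⟩ | ⟨rfl, rfl⟩ | ⟨rfl, rfl⟩
            · omega
            · omega
            · omega
            · omega
          · omega
          · omega
          · omega
          · omega
        · rcases pc2 _ _ c12.out (by omega) with ⟨rfl, rfl⟩ | ⟨rfl, rfl⟩ | ⟨rfl, rfl⟩ | ⟨rfl, rfl⟩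
          · omega
          · rcases pc1 _ _ c24.out (by omega) with ⟨rfl, rfl⟩ | ⟨rfl, rfl⟩
            · exact ⟨p40321, T.m 4, T.w 4, Or.inr (Or.inl ((show T.m 4 = T.m 4 ∧ T.m 0 = 2 * T.m 4 ∧ T.m 3 = 3 * T.m 4 ∧ T.m 2 = 2 * T.m 4 ∧ T.m 1 = T.m 4 ∧ T.w 4 = T.w 4 ∧ T.w 0 = T.w 4 ∧ T.w 3 = T.w 4 ∧ T.w 2 = 2 * T.w 4 ∧ T.w 1 = 2 * T.w 4 ∧ T.a 4 4 = -2 * T.w 4 ∧ T.a 4 0 = T.w 4 ∧ T.a 4 3 = 0 ∧ T.a 4 2 = 0 ∧ T.a 4 1 = 0 ∧ T.a 0 0 = -2 * T.w 4 ∧ T.a 0 3 = T.w 4 ∧ T.a 0 2 = 0 ∧ T.a 0 1 = 0 ∧ T.a 3 3 = -2 * T.w 4 ∧ T.a 3 2 = 2 * T.w 4 ∧ T.a 3 1 = 0 ∧ T.a 2 2 = -4 * T.w 4 ∧ T.a 2 1 = 2 * T.w 4 ∧ T.a 1 1 = -4 * T.w 4 from by have HA' := HA.out; omega)))⟩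
            · omega
          · omega
          · omega
        · rcases pc2 _ _ c12.out (by omega) with ⟨rfl, rfl⟩ | ⟨rfl, rfl⟩ | ⟨rfl, rfl⟩ | ⟨rfl, rfl⟩
          · omega
          · rcases pc1 _ _ c24.out (by omega) with ⟨rfl, rfl⟩ | ⟨rfl, rfl⟩
            · exact ⟨p40321, T.m 4, T.w 2, Or.inr (Or.inr (Or.inl ((show T.m 4 = T.m 4 ∧ T.m 0 = 2 * T.m 4 ∧ T.m 3 = 3 * T.m 4 ∧ T.m 2 = 4 * T.m 4 ∧ T.m 1 = 2 * T.m 4 ∧ T.w 4 = 2 * T.w 2 ∧ T.w 0 = 2 * T.w 2 ∧ T.w 3 = 2 * T.w 2 ∧ T.w 2 = T.w 2 ∧ T.w 1 = T.w 2 ∧ T.a 4 4 = -4 * T.w 2 ∧ T.a 4 0 = 2 * T.w 2 ∧ T.a 4 3 = 0 ∧ T.a 4 2 = 0 ∧ T.a 4 1 = 0 ∧ T.a 0 0 = -4 * T.w 2 ∧ T.a 0 3 = 2 * T.w 2 ∧ T.a 0 2 = 0 ∧ T.a 0 1 = 0 ∧ T.a 3 3 = -4 * T.w 2 ∧ T.a 3 2 = 2 * T.w 2 ∧ T.a 3 1 = 0 ∧ T.a 2 2 = -2 * T.w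 2 ∧ T.a 2 1 = T.w 2 ∧ T.a 1 1 = -2 * T.w 2 from by have HA' := HA.out; omega))))⟩
            · omega
          · omega
          · omega
        · omega
        · omega
      · rcases pc2 _ _ c24.out (by omega) with ⟨rfl, rfl⟩ | ⟨rfl, rfl⟩ | ⟨rfl, rfl⟩ | ⟨rfl, rfl⟩
        · rcases pc3 _ _ c12.out (by omega) with ⟨rfl, rfl⟩ | ⟨rfl, rfl⟩ | ⟨rfl, rfl⟩ | ⟨rfl, rfl⟩ | ⟨rfl, rfl⟩ | ⟨rfl, rfl⟩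
          · rcases pc3 _ _ c23.out (by omega) with ⟨rfl, rfl⟩ | ⟨rfl, rfl⟩ | ⟨rfl, rfl⟩ | ⟨rfl, rfl⟩ | ⟨rfl, rfl⟩ | ⟨rfl, rfl⟩
            · omega
            · omega
            · omega
            · omega
            · omega
            · omega
          · rcases pc3 _ _ c23.out (by omega) with ⟨rfl, rfl⟩ | ⟨rfl, rfl⟩ | ⟨rfl, rfl⟩ | ⟨rfl, rfl⟩ | ⟨rfl, rfl⟩ | ⟨rfl, rfl⟩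
            · omega
            · exact ⟨p03214, T.m 0, T.w 0, Or.inl ((show T.m 0 = T.m 0 ∧ T.m 3 = T.m 0 ∧ T.m 2 = T.m 0 ∧ T.m 1 = T.m 0 ∧ T.m 4 = T.m 0 ∧ T.w 0 = T.w 0 ∧ T.w 3 = T.w 0 ∧ T.w 2 = T.w 0 ∧ T.w 1 = T.w 0 ∧ T.w 4 = T.w 0 ∧ T.a 0 0 = -2 * T.w 0 ∧ T.a 0 3 = T.w 0 ∧ T.a 0 2 = 0 ∧ T.a 0 1 = 0 ∧ T.a 0 4 = T.w 0 ∧ T.a 3 3 = -2 * T.w 0 ∧ T.a 3 2 = T.w 0 ∧ T.a 3 1 = 0 ∧ T.a 3 4 = 0 ∧ T.a 2 2 = -2 * T.w 0 ∧ T.a 2 1 = T.w 0 ∧ T.a 2 4 = 0 ∧ T.a 1 1 = -2 * T.w 0 ∧ T.a 1 4 = T.w 0 ∧ T.a 4 4 = -2 * T.w 0 from by have HA' := HA.out; omega))⟩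
            · omega
            · omega
            · omega
            · omega
          · rcases pc2 _ _ c23.out (by omega) with ⟨rfl, rfl⟩ | ⟨rfl, rfl⟩ | ⟨rfl, rfl⟩ | ⟨rfl, rfl⟩
            · omega
            · omega
            · omega
            · omega
          · rcases pc2 _ _ c23.out (by omega) with ⟨rfl, rfl⟩ | ⟨rfl, rfl⟩ | ⟨rfl, rfl⟩ | ⟨rfl, rfl⟩
            · omega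
            · omega
            · omega
            · omega
          · omega
          · omega
        · rcases pc3 _ _ c12.out (by omega) with ⟨rfl, rfl⟩ | ⟨rfl, rfl⟩ | ⟨rfl, rfl⟩ | ⟨rfl, rfl⟩ | ⟨rfl, rfl⟩ | ⟨rfl, rfl⟩
          · rcases pc3 _ _ c23.out (by omega) with ⟨rfl, rfl⟩ | ⟨rfl, rfl⟩ | ⟨rfl, rfl⟩ | ⟨rfl, rfl⟩ | ⟨rfl, rfl⟩ | ⟨rfl, rfl⟩
            · omega
            · omega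
            · omega
            · omega
            · omega
            · omega
          · omega
          · omega
          · omega
          · omega
          · omega
        · omega
        · omega
      · rcases pc1 _ _ c24.out (by omega) with ⟨rfl, rfl⟩ | ⟨rfl, rfl⟩
        · rcases pc2 _ _ c12.out (by omega) with ⟨rfl, rfl⟩ | ⟨rfl, rfl⟩ | ⟨rfl, rfl⟩ | ⟨rfl, rfl⟩
          · rcases pc3 _ _ c23.out (by omega) with ⟨rfl, rfl⟩ | ⟨rfl, rfl⟩ | ⟨rfl, rfl⟩ | ⟨rfl, rfl⟩ | ⟨rfl, rfl⟩ | ⟨rfl, rfl⟩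
            · omega
            · omega
            · exact ⟨p14032, T.m 1, T.w 4, Or.inr (Or.inr (Or.inr (Or.inr (Or.inr (Or.inl ((show T.m 1 = T.m 1 ∧ T.m 4 = 2 * T.m 1 ∧ T.m 0 = 2 * T.m 1 ∧ T.m 3 = 2 * T.m 1 ∧ T.m 2 = T.m 1 ∧ T.w 1 = 2 * T.w 4 ∧ T.w 4 = T.w 4 ∧ T.w 0 = T.w 4 ∧ T.w 3 = T.w 4 ∧ T.w 2 = 2 * T.w 4 ∧ T.a 1 1 = -4 * T.w 4 ∧ T.a 1 4 = 2 * T.w 4 ∧ T.a 1 0 = 0 ∧ T.a 1 3 = 0 ∧ T.a 1 2 = 0 ∧ T.a 4 4 = -2 * T.w 4 ∧ T.a 4 0 = T.w 4 ∧ T.a 4 3 = 0 ∧ T.a 4 2 = 0 ∧ T.a 0 0 = -2 * T.w 4 ∧ T.a 0 3 = T.w 4 ∧ T.a 0 2 = 0 ∧ T.a 3 3 = -2 * T.w 4 ∧ T.a 3 2 = 2 * T.w 4 ∧ T.a 2 2 = -4 * T.w 4 from by have HA' := HA.out; omega)))))))⟩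
            · exact ⟨p23041, T.m 1, T.w 2, Or.inr (Or.inr (Or.inr (Or.inl ((show T.m 2 = 2 * T.m 1 ∧ T.m 3 = 2 * T.m 1 ∧ T.m 0 = 2 * T.m 1 ∧ T.m 4 = 2 * T.m 1 ∧ T.m 1 = T.m 1 ∧ T.w 2 = T.w 2 ∧ T.w 3 = 2 * T.w 2 ∧ T.w 0 = 2 * T.w 2 ∧ T.w 4 = 2 * T.w 2 ∧ T.w 1 = 4 * T.w 2 ∧ T.a 2 2 = -2 * T.w 2 ∧ T.a 2 3 = 2 * T.w 2 ∧ T.a 2 0 = 0 ∧ T.a 2 4 = 0 ∧ T.a 2 1 = 0 ∧ T.a 3 3 = -4 * T.w 2 ∧ T.a 3 0 = 2 * T.w 2 ∧ T.a 3 4 = 0 ∧ T.a 3 1 = 0 ∧ T.a 0 0 = -4 * T.w 2 ∧ T.a 0 4 = 2 * T.w 2 ∧ T.a 0 1 = 0 ∧ T.a 4 4 = -4 * T.w 2 ∧ T.a 4 1 = 4 * T.w 2 ∧ T.a 1 1 = -8 * T.w 2 from by have HA' := HA.out; omega)))))⟩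
            · omega
            · omega
          · rcases pc3 _ _ c23.out (by omega) with ⟨rfl, rfl⟩ | ⟨rfl, rfl⟩ | ⟨rfl, rfl⟩ | ⟨rfl, rfl⟩ | ⟨rfl, rfl⟩ | ⟨rfl, rfl⟩
            · exact ⟨p30412, T.m 3, T.w 3, Or.inr (Or.inl ((show T.m 3 = T.m 3 ∧ T.m 0 = 2 * T.m 3 ∧ T.m 4 = 3 * T.m 3 ∧ T.m 1 = 2 * T.m 3 ∧ T.m 2 = T.m 3 ∧ T.w 3 = T.w 3 ∧ T.w 0 = T.w 3 ∧ T.w 4 = T.w 3 ∧ T.w 1 = 2 * T.w 3 ∧ T.w 2 = 2 * T.w 3 ∧ T.a 3 3 = -2 * T.w 3 ∧ T.a 3 0 = T.w 3 ∧ T.a 3 4 = 0 ∧ T.a 3 1 = 0 ∧ T.a 3 2 = 0 ∧ T.a 0 0 = -2 * T.w 3 ∧ T.a 0 4 = T.w 3 ∧ T.a 0 1 = 0 ∧ T.a 0 2 = 0 ∧ T.a 4 4 = -2 * T.w 3 ∧ T.a 4 1 = 2 * T.w 3 ∧ T.a 4 2 = 0 ∧ T.a 1 1 = -4 * T.w 3 ∧ T.a 1 2 = 2 * T.w 3 ∧ T.a 2 2 = -4 * T.w 3 from by have HA' := HA.out; omega)))⟩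
            · omega
            · omega
            · omega
            · omega
            · omega
          · omega
          · omega
        · omega
      · rcases pc1 _ _ c24.out (by omega) with ⟨rfl, rfl⟩ | ⟨rfl, rfl⟩
        · rcases pc2 _ _ c12.out (by omega) with ⟨rfl, rfl⟩ | ⟨rfl, rfl⟩ | ⟨rfl, rfl⟩ | ⟨rfl, rfl⟩
          · rcases pc3 _ _ c23.out (by omega) with ⟨rfl, rfl⟩ | ⟨rfl, rfl⟩ | ⟨rfl, rfl⟩ | ⟨rfl, rfl⟩ | ⟨rfl, rfl⟩ | ⟨rfl, rfl⟩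
            · omega
            · omega
            · exact ⟨p14032, T.m 2, T.w 1, Or.inr (Or.inr (Or.inr (Or.inl ((show T.m 1 = 2 * T.m 2 ∧ T.m 4 = 2 * T.m 2 ∧ T.m 0 = 2 * T.m 2 ∧ T.m 3 = 2 * T.m 2 ∧ T.m 2 = T.m 2 ∧ T.w 1 = T.w 1 ∧ T.w 4 = 2 * T.w 1 ∧ T.w 0 = 2 * T.w 1 ∧ T.w 3 = 2 * T.w 1 ∧ T.w 2 = 4 * T.w 1 ∧ T.a 1 1 = -2 * T.w 1 ∧ T.a 1 4 = 2 * T.w 1 ∧ T.a 1 0 = 0 ∧ T.a 1 3 = 0 ∧ T.a 1 2 = 0 ∧ T.a 4 4 = -4 * T.w 1 ∧ T.a 4 0 = 2 * T.w 1 ∧ T.a 4 3 = 0 ∧ T.a 4 2 = 0 ∧ T.a 0 0 = -4 * T.w 1 ∧ T.a 0 3 = 2 * T.w 1 ∧ T.a 0 2 = 0 ∧ T.a 3 3 = -4 * T.w 1 ∧ T.a 3 2 = 4 * T.w 1 ∧ T.a 2 2 = -8 * T.w 1 from by have HA' := HA.out; omega)))))⟩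
            · exact ⟨p14032, T.m 1, T.w 1, Or.inr (Or.inr (Or.inr (Or.inr (Or.inl ((show T.m 1 = T.m 1 ∧ T.m 4 = T.m 1 ∧ T.m 0 = T.m 1 ∧ T.m 3 = T.m 1 ∧ T.m 2 = T.m 1 ∧ T.w 1 = T.w 1 ∧ T.w 4 = 2 * T.w 1 ∧ T.w 0 = 2 * T.w 1 ∧ T.w 3 = 2 * T.w 1 ∧ T.w 2 = T.w 1 ∧ T.a 1 1 = -2 * T.w 1 ∧ T.a 1 4 = 2 * T.w 1 ∧ T.a 1 0 = 0 ∧ T.a 1 3 = 0 ∧ T.a 1 2 = 0 ∧ T.a 4 4 = -4 * T.w 1 ∧ T.a 4 0 = 2 * T.w 1 ∧ T.a 4 3 = 0 ∧ T.a 4 2 = 0 ∧ T.a 0 0 = -4 * T.w 1 ∧ T.a 0 3 = 2 * T.w 1 ∧ T.a 0 2 = 0 ∧ T.a 3 3 = -4 * T.w 1 ∧ T.a 3 2 = 2 * T.w 1 ∧ T.a 2 2 = -2 * T.w 1 from by have HA' := HA.out; omega))))))⟩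
            · omega
            · omega
          · rcases pc3 _ _ c23.out (by omega) with ⟨rfl, rfl⟩ | ⟨rfl, rfl⟩ | ⟨rfl, rfl⟩ | ⟨rfl, rfl⟩ | ⟨rfl, rfl⟩ | ⟨rfl, rfl⟩
            · exact ⟨p30412, T.m 3, T.w 1, Or.inr (Or.inr (Or.inl ((show T.m 3 = T.m 3 ∧ T.m 0 = 2 * T.m 3 ∧ T.m 4 = 3 * T.m 3 ∧ T.m 1 = 4 * T.m 3 ∧ T.m 2 = 2 * T.m 3 ∧ T.w 3 = 2 * T.w 1 ∧ T.w 0 = 2 * T.w 1 ∧ T.w 4 = 2 * T.w 1 ∧ T.w 1 = T.w 1 ∧ T.w 2 = T.w 1 ∧ T.a 3 3 = -4 * T.w 1 ∧ T.a 3 0 = 2 * T.w 1 ∧ T.a 3 4 = 0 ∧ T.a 3 1 = 0 ∧ T.a 3 2 = 0 ∧ T.a 0 0 = -4 * T.w 1 ∧ T.a 0 4 = 2 * T.w 1 ∧ T.a 0 1 = 0 ∧ T.a 0 2 = 0 ∧ T.a 4 4 = -4 * T.w 1 ∧ T.a 4 1 = 2 * T.w 1 ∧ T.a 4 2 = 0 ∧ T.a 1 1 = -2 * T.w 1 ∧ T.a 1 2 = T.w 1 ∧ T.a 2 2 = -2 * T.w 1 from by have HA' := HA.out; omega))))⟩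
            · omega
            · omega
            · omega
            · omega
            · omega
          · omega
          · omega
        · omega
      · omega
      · omega
    · rcases pc2 _ _ c23.out (by omega) with ⟨rfl, rfl⟩ | ⟨rfl, rfl⟩ | ⟨rfl, rfl⟩ | ⟨rfl, rfl⟩
      · rcases pc3 _ _ c14.out (by omega) with ⟨rfl, rfl⟩ | ⟨rfl, rfl⟩ | ⟨rfl, rfl⟩ | ⟨rfl, rfl⟩ | ⟨rfl, rfl⟩ | ⟨rfl, rfl⟩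
        · rcases pc3 _ _ c12.out (by omega) with ⟨rfl, rfl⟩ | ⟨rfl, rfl⟩ | ⟨rfl, rfl⟩ | ⟨rfl, rfl⟩ | ⟨rfl, rfl⟩ | ⟨rfl, rfl⟩
          · rcases pc3 _ _ c24.out (by omega) with ⟨rfl, rfl⟩ | ⟨rfl, rfl⟩ | ⟨rfl, rfl⟩ | ⟨rfl, rfl⟩ | ⟨rfl, rfl⟩ | ⟨rfl, rfl⟩
            · omega
            · omega
            · omega
            · omega
            · omega
            · omega
          · rcases pc3 _ _ c24.out (by omega) with ⟨rfl, rfl⟩ | ⟨rfl, rfl⟩ | ⟨rfl, rfl⟩ | ⟨rfl, rfl⟩ | ⟨rfl, rfl⟩ | ⟨rfl, rfl⟩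
            · omega
            · exact ⟨p03124, T.m 0, T.w 0, Or.inl ((show T.m 0 = T.m 0 ∧ T.m 3 = T.m 0 ∧ T.m 1 = T.m 0 ∧ T.m 2 = T.m 0 ∧ T.m 4 = T.m 0 ∧ T.w 0 = T.w 0 ∧ T.w 3 = T.w 0 ∧ T.w 1 = T.w 0 ∧ T.w 2 = T.w 0 ∧ T.w 4 = T.w 0 ∧ T.a 0 0 = -2 * T.w 0 ∧ T.a 0 3 = T.w 0 ∧ T.a 0 1 = 0 ∧ T.a 0 2 = 0 ∧ T.a 0 4 = T.w 0 ∧ T.a 3 3 = -2 * T.w 0 ∧ T.a 3 1 = T.w 0 ∧ T.a 3 2 = 0 ∧ T.a 3 4 = 0 ∧ T.a 1 1 = -2 * T.w 0 ∧ T.a 1 2 = T.w 0 ∧ T.a 1 4 = 0 ∧ T.a 2 2 = -2 * T.w 0 ∧ T.a 2 4 = T.w 0 ∧ T.a 4 4 = -2 * T.w 0 from by have HA' := HA.out; omega))⟩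
            · omega
            · omega
            · omega
            · omega
          · rcases pc2 _ _ c24.out (by omega) with ⟨rfl, rfl⟩ | ⟨rfl, rfl⟩ | ⟨rfl, rfl⟩ | ⟨rfl, rfl⟩
            · omega
            · omega
            · omega
            · omega
          · rcases pc2 _ _ c24.out (by omega) with ⟨rfl, rfl⟩ | ⟨rfl, rfl⟩ | ⟨rfl, rfl⟩ | ⟨rfl, rfl⟩
            · omega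
            · omega
            · omega
            · omega
          · omega
          · omega
        · rcases pc2 _ _ c12.out (by omega) with ⟨rfl, rfl⟩ | ⟨rfl, rfl⟩ | ⟨rfl, rfl⟩ | ⟨rfl, rfl⟩
          · rcases pc2 _ _ c24.out (by omega) with ⟨rfl, rfl⟩ | ⟨rfl, rfl⟩ | ⟨rfl, rfl⟩ | ⟨rfl, rfl⟩
            · omega
            · omega
            · omega
            · omega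
          · omega
          · omega
          · omega
        · omega
        · omega
        · omega
        · omega
      · rcases pc3 _ _ c12.out (by omega) with ⟨rfl, rfl⟩ | ⟨rfl, rfl⟩ | ⟨rfl, rfl⟩ | ⟨rfl, rfl⟩ | ⟨rfl, rfl⟩ | ⟨rfl, rfl⟩
        · rcases pc3 _ _ c14.out (by omega) with ⟨rfl, rfl⟩ | ⟨rfl, rfl⟩ | ⟨rfl, rfl⟩ | ⟨rfl, rfl⟩ | ⟨rfl, rfl⟩ | ⟨rfl, rfl⟩
          · rcases pc3 _ _ c24.out (by omega) with ⟨rfl, rfl⟩ | ⟨rfl, rfl⟩ | ⟨rfl, rfl⟩ | ⟨rfl, rfl⟩ | ⟨rfl, rfl⟩ | ⟨rfl, rfl⟩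
            · omega
            · omega
            · omega
            · omega
            · omega
            · omega
          · omega
          · omega
          · omega
          · omega
          · omega
        · omega
        · omega
        · omega
        · omega
        · omega
      · omega
      · omega
    · rcases pc1 _ _ c23.out (by omega) with ⟨rfl, rfl⟩ | ⟨rfl, rfl⟩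
      · rcases pc2 _ _ c14.out (by omega) with ⟨rfl, rfl⟩ | ⟨rfl, rfl⟩ | ⟨rfl, rfl⟩ | ⟨rfl, rfl⟩
        · rcases pc2 _ _ c12.out (by omega) with ⟨rfl, rfl⟩ | ⟨rfl, rfl⟩ | ⟨rfl, rfl⟩ | ⟨rfl, rfl⟩
          · rcases pc3 _ _ c24.out (by omega) with ⟨rfl, rfl⟩ | ⟨rfl, rfl⟩ | ⟨rfl, rfl⟩ | ⟨rfl, rfl⟩ | ⟨rfl, rfl⟩ | ⟨rfl, rfl⟩
            · omega
            · omega
            · exact ⟨p13042, T.m 1, T.w 3, Or.inr (Or.inr (Or.inr (Or.inr (Or.inr (Or.inl ((show T.m 1 = T.m 1 ∧ T.m 3 = 2 * T.m 1 ∧ T.m 0 = 2 * T.m 1 ∧ T.m 4 = 2 * T.m 1 ∧ T.m 2 = T.m 1 ∧ T.w 1 = 2 * T.w 3 ∧ T.w 3 = T.w 3 ∧ T.w 0 = T.w 3 ∧ T.w 4 = T.w 3 ∧ T.w 2 = 2 * T.w 3 ∧ T.a 1 1 = -4 * T.w 3 ∧ T.a 1 3 = 2 * T.w 3 ∧ T.a 1 0 = 0 ∧ T.a 1 4 = 0 ∧ T.a 1 2 = 0 ∧ T.a 3 3 = -2 * T.w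 3 ∧ T.a 3 0 = T.w 3 ∧ T.a 3 4 = 0 ∧ T.a 3 2 = 0 ∧ T.a 0 0 = -2 * T.w 3 ∧ T.a 0 4 = T.w 3 ∧ T.a 0 2 = 0 ∧ T.a 4 4 = -2 * T.w 3 ∧ T.a 4 2 = 2 * T.w 3 ∧ T.a 2 2 = -4 * T.w 3 from by have HA' := HA.out; omega)))))))⟩
            · exact ⟨p24031, T.m 1, T.w 2, Or.inr (Or.inr (Or.inr (Or.inl ((show T.m 2 = 2 * T.m 1 ∧ T.m 4 = 2 * T.m 1 ∧ T.m 0 = 2 * T.m 1 ∧ T.m 3 = 2 * T.m 1 ∧ T.m 1 = T.m 1 ∧ T.w 2 = T.w 2 ∧ T.w 4 = 2 * T.w 2 ∧ T.w 0 = 2 * T.w 2 ∧ T.w 3 = 2 * T.w 2 ∧ T.w 1 = 4 * T.w 2 ∧ T.a 2 2 = -2 * T.w 2 ∧ T.a 2 4 = 2 * T.w 2 ∧ T.a 2 0 = 0 ∧ T.a 2 3 = 0 ∧ T.a 2 1 = 0 ∧ T.a 4 4 = -4 * T.w 2 ∧ T.a 4 0 = 2 * T.w 2 ∧ T.a 4 3 = 0 ∧ T.a 4 1 = 0 ∧ T.a 0 0 = -4 * T.w 2 ∧ T.a 0 3 = 2 * T.w 2 ∧ T.a 0 1 = 0 ∧ T.a 3 3 = -4 * T.w 2 ∧ T.a 3 1 = 4 * T.w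 2 ∧ T.a 1 1 = -8 * T.w 2 from by have HA' := HA.out; omega)))))⟩
            · omega
            · omega
          · rcases pc3 _ _ c24.out (by omega) with ⟨rfl, rfl⟩ | ⟨rfl, rfl⟩ | ⟨rfl, rfl⟩ | ⟨rfl, rfl⟩ | ⟨rfl, rfl⟩ | ⟨rfl, rfl⟩
            · exact ⟨p40312, T.m 4, T.w 4, Or.inr (Or.inl ((show T.m 4 = T.m 4 ∧ T.m 0 = 2 * T.m 4 ∧ T.m 3 = 3 * T.m 4 ∧ T.m 1 = 2 * T.m 4 ∧ T.m 2 = T.m 4 ∧ T.w 4 = T.w 4 ∧ T.w 0 = T.w 4 ∧ T.w 3 = T.w 4 ∧ T.w 1 = 2 * T.w 4 ∧ T.w 2 = 2 * T.w 4 ∧ T.a 4 4 = -2 * T.w 4 ∧ T.a 4 0 = T.w 4 ∧ T.a 4 3 = 0 ∧ T.a 4 1 = 0 ∧ T.a 4 2 = 0 ∧ T.a 0 0 = -2 * T.w 4 ∧ T.a 0 3 = T.w 4 ∧ T.a 0 1 = 0 ∧ T.a 0 2 = 0 ∧ T.a 3 3 = -2 * T.w 4 ∧ T.a 3 1 = 2 * T.w 4 ∧ T.a 3 2 = 0 ∧ T.a 1 1 = -4 * T.w 4 ∧ T.a 1 2 = 2 * T.w 4 ∧ T.a 2 2 = -4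 * T.w 4 from by have HA' := HA.out; omega)))⟩
            · omega
            · omega
            · omega
            · omega
            · omega
          · omega
          · omega
        · omega
        · omega
        · omega
      · omega
    · rcases pc1 _ _ c23.out (by omega) with ⟨rfl, rfl⟩ | ⟨rfl, rfl⟩
      · rcases pc2 _ _ c14.out (by omega) with ⟨rfl, rfl⟩ | ⟨rfl, rfl⟩ | ⟨rfl, rfl⟩ | ⟨rfl, rfl⟩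
        · rcases pc2 _ _ c12.out (by omega) with ⟨rfl, rfl⟩ | ⟨rfl, rfl⟩ | ⟨rfl, rfl⟩ | ⟨rfl, rfl⟩
          · rcases pc3 _ _ c24.out (by omega) with ⟨rfl, rfl⟩ | ⟨rfl, rfl⟩ | ⟨rfl, rfl⟩ | ⟨rfl, rfl⟩ | ⟨rfl, rfl⟩ | ⟨rfl, rfl⟩
            · omega
            · omega
            · exact ⟨p13042, T.m 2, T.w 1, Or.inr (Or.inr (Or.inr (Or.inl ((show T.m 1 = 2 * T.m 2 ∧ T.m 3 = 2 * T.m 2 ∧ T.m 0 = 2 * T.m 2 ∧ T.m 4 = 2 * T.m 2 ∧ T.m 2 = T.m 2 ∧ T.w 1 = T.w 1 ∧ T.w 3 = 2 * T.w 1 ∧ T.w 0 = 2 * T.w 1 ∧ T.w 4 = 2 * T.w 1 ∧ T.w 2 = 4 * T.w 1 ∧ T.a 1 1 = -2 * T.w 1 ∧ T.a 1 3 = 2 * T.w 1 ∧ T.a 1 0 = 0 ∧ T.a 1 4 = 0 ∧ T.a 1 2 = 0 ∧ T.a 3 3 = -4 * T.w 1 ∧ T.a 3 0 = 2 * T.w 1 ∧ T.a 3 4 = 0 ∧ T.a 3 2 = 0 ∧ T.a 0 0 = -4 * T.w 1 ∧ T.a 0 4 = 2 * T.w 1 ∧ T.a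 0 2 = 0 ∧ T.a 4 4 = -4 * T.w 1 ∧ T.a 4 2 = 4 * T.w 1 ∧ T.a 2 2 = -8 * T.w 1 from by have HA' := HA.out; omega)))))⟩
            · exact ⟨p13042, T.m 1, T.w 1, Or.inr (Or.inr (Or.inr (Or.inr (Or.inl ((show T.m 1 = T.m 1 ∧ T.m 3 = T.m 1 ∧ T.m 0 = T.m 1 ∧ T.m 4 = T.m 1 ∧ T.m 2 = T.m 1 ∧ T.w 1 = T.w 1 ∧ T.w 3 = 2 * T.w 1 ∧ T.w 0 = 2 * T.w 1 ∧ T.w 4 = 2 * T.w 1 ∧ T.w 2 = T.w 1 ∧ T.a 1 1 = -2 * T.w 1 ∧ T.a 1 3 = 2 * T.w 1 ∧ T.a 1 0 = 0 ∧ T.a 1 4 = 0 ∧ T.a 1 2 = 0 ∧ T.a 3 3 = -4 * T.w 1 ∧ T.a 3 0 = 2 * T.w 1 ∧ T.a 3 4 = 0 ∧ T.a 3 2 = 0 ∧ T.a 0 0 = -4 * T.w 1 ∧ T.a 0 4 = 2 * T.w 1 ∧ T.a 0 2 = 0 ∧ T.a 4 4 = -4 * T.w 1 ∧ T.a 4 2 = 2 * T.w 1 ∧ T.a 2 2 = -2 * T.w 1 from by have HA' := HA.out; omega))))))⟩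
            · omega
            · omega
          · rcases pc3 _ _ c24.out (by omega) with ⟨rfl, rfl⟩ | ⟨rfl, rfl⟩ | ⟨rfl, rfl⟩ | ⟨rfl, rfl⟩ | ⟨rfl, rfl⟩ | ⟨rfl, rfl⟩
            · exact ⟨p40312, T.m 4, T.w 1, Or.inr (Or.inr (Or.inl ((show T.m 4 = T.m 4 ∧ T.m 0 = 2 * T.m 4 ∧ T.m 3 = 3 * T.m 4 ∧ T.m 1 = 4 * T.m 4 ∧ T.m 2 = 2 * T.m 4 ∧ T.w 4 = 2 * T.w 1 ∧ T.w 0 = 2 * T.w 1 ∧ T.w 3 = 2 * T.w 1 ∧ T.w 1 = T.w 1 ∧ T.w 2 = T.w 1 ∧ T.a 4 4 = -4 * T.w 1 ∧ T.a 4 0 = 2 * T.w 1 ∧ T.a 4 3 = 0 ∧ T.a 4 1 = 0 ∧ T.a 4 2 = 0 ∧ T.a 0 0 = -4 * T.w 1 ∧ T.a 0 3 = 2 * T.w 1 ∧ T.a 0 1 = 0 ∧ T.a 0 2 = 0 ∧ T.a 3 3 = -4 * T.w 1 ∧ T.a 3 1 = 2 * T.w 1 ∧ T.a 3 2 = 0 ∧ T.a 1 1 = -2 * T.w 1 ∧ T.a 1 2 = T.w 1 ∧ T.a 2 2 = -2 * T.w 1 from by have HA' := HA.out; omega))))⟩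
            · omega
            · omega
            · omega
            · omega
            · omega
          · omega
          · omega
        · omega
        · omega
        · omega
      · omega
    · omega
    · omega
  · rcases pc2 _ _ c13.out (by omega) with ⟨rfl, rfl⟩ | ⟨rfl, rfl⟩ | ⟨rfl, rfl⟩ | ⟨rfl, rfl⟩
    · rcases pc2 _ _ c14.out (by omega) with ⟨rfl, rfl⟩ | ⟨rfl, rfl⟩ | ⟨rfl, rfl⟩ | ⟨rfl, rfl⟩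
      · rcases pc2 _ _ c23.out (by omega) with ⟨rfl, rfl⟩ | ⟨rfl, rfl⟩ | ⟨rfl, rfl⟩ | ⟨rfl, rfl⟩
        · rcases pc2 _ _ c24.out (by omega) with ⟨rfl, rfl⟩ | ⟨rfl, rfl⟩ | ⟨rfl, rfl⟩ | ⟨rfl, rfl⟩
          · omega
          · omega
          · omega
          · omega
        · omega
        · omega
        · omega
      · omega
      · omega
      · omega
    · omega
    · omega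
    · omega
  · omega
  · omega
  · omega
  · omega

set_option maxHeartbeats 0 in
theorem part10 (T : Models.NumericalType 5) (α12 α13 α14 α21 α23 α24 α31 α32 α34 α41 α42 α43 : ℤ)
    (H : Ctx T 0 0 1 1 0 α12 α13 α14 0 α21 α23 α24 1 α31 α32 α34 2 α41 α42 α43) : Goal T := by
  obtain ⟨hm0, hm1, hm2, hm3, hm4, hw0, hw1, hw2, hw3, hw4, e0, e1, e2, e3, e4, r01, r02, r03, r04, r10, r12, r13, r14, r20, r21, r23, r24, r30, r31, r32, r34, r40, r41, r42, r43, s01, s02, s03, s04, s12, s13, s14, s23, s24, s34, p01, p02, p03, p04, p12, p13, p14, p23, p24, p34, v0, v1, v2, v3, v4, k01, k02, k03, k04, k12, k13, k14, k23, k24, k34, c01, c02, c03, c04, c12, c13, c14, c23, c24, c34, HA⟩ := H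
  rcases pc2 _ _ c34.out (by omega) with ⟨rfl, rfl⟩ | ⟨rfl, rfl⟩ | ⟨rfl, rfl⟩ | ⟨rfl, rfl⟩
  · rcases pc2 _ _ c14.out (by omega) with ⟨rfl, rfl⟩ | ⟨rfl, rfl⟩ | ⟨rfl, rfl⟩ | ⟨rfl, rfl⟩
    · rcases pc2 _ _ c24.out (by omega) with ⟨rfl, rfl⟩ | ⟨rfl, rfl⟩ | ⟨rfl, rfl⟩ | ⟨rfl, rfl⟩
      · rcases pc3 _ _ c13.out (by omega) with ⟨rfl, rfl⟩ | ⟨rfl, rfl⟩ | ⟨rfl, rfl⟩ | ⟨rfl, rfl⟩ | ⟨rfl, rfl⟩ | ⟨rfl, rfl⟩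
        · rcases pc3 _ _ c23.out (by omega) with ⟨rfl, rfl⟩ | ⟨rfl, rfl⟩ | ⟨rfl, rfl⟩ | ⟨rfl, rfl⟩ | ⟨rfl, rfl⟩ | ⟨rfl, rfl⟩
          · omega
          · rcases pc3 _ _ c12.out (by omega) with ⟨rfl, rfl⟩ | ⟨rfl, rfl⟩ | ⟨rfl, rfl⟩ | ⟨rfl, rfl⟩ | ⟨rfl, rfl⟩ | ⟨rfl, rfl⟩
            · omega
            · omega
            · exact ⟨p40321, T.m 1, T.w 4, Or.inr (Or.inr (Or.inr (Or.inl ((show T.m 4 = 2 * T.m 1 ∧ T.m 0 = 2 * T.m 1 ∧ T.m 3 = 2 * T.m 1 ∧ T.m 2 = 2 * T.m 1 ∧ T.m 1 = T.m 1 ∧ T.w 4 = T.w 4 ∧ T.w 0 = 2 * T.w 4 ∧ T.w 3 = 2 * T.w 4 ∧ T.w 2 = 2 * T.w 4 ∧ T.w 1 = 4 * T.w 4 ∧ T.a 4 4 = -2 * T.w 4 ∧ T.a 4 0 = 2 * T.w 4 ∧ T.a 4 3 = 0 ∧ T.a 4 2 = 0 ∧ T.a 4 1 = 0 ∧ T.a 0 0 = -4 * T.w 4 ∧ T.a 0 3 = 2 * T.w 4 ∧ T.a 0 2 = 0 ∧ T.a 0 1 = 0 ∧ T.a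 3 3 = -4 * T.w 4 ∧ T.a 3 2 = 2 * T.w 4 ∧ T.a 3 1 = 0 ∧ T.a 2 2 = -4 * T.w 4 ∧ T.a 2 1 = 4 * T.w 4 ∧ T.a 1 1 = -8 * T.w 4 from by have HA' := HA.out; omega)))))⟩
            · exact ⟨p12304, T.m 1, T.w 1, Or.inr (Or.inr (Or.inr (Or.inr (Or.inl ((show T.m 1 = T.m 1 ∧ T.m 2 = T.m 1 ∧ T.m 3 = T.m 1 ∧ T.m 0 = T.m 1 ∧ T.m 4 = T.m 1 ∧ T.w 1 = T.w 1 ∧ T.w 2 = 2 * T.w 1 ∧ T.w 3 = 2 * T.w 1 ∧ T.w 0 = 2 * T.w 1 ∧ T.w 4 = T.w 1 ∧ T.a 1 1 = -2 * T.w 1 ∧ T.a 1 2 = 2 * T.w 1 ∧ T.a 1 3 = 0 ∧ T.a 1 0 = 0 ∧ T.a 1 4 = 0 ∧ T.a 2 2 = -4 * T.w 1 ∧ T.a 2 3 = 2 * T.w 1 ∧ T.a 2 0 = 0 ∧ T.a 2 4 = 0 ∧ T.a 3 3 = -4 * T.w 1 ∧ T.a 3 0 = 2 * T.w 1 ∧ T.a 3 4 = 0 ∧ T.a 0 0 = -4 * T.w 1 ∧ T.a 0 4 = 2 * T.w 1 ∧ T.a 4 4 = -2 * T.w 1 from by have HA' := HA.out; omega))))))⟩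
            · omega
            · omega
          · rcases pc2 _ _ c12.out (by omega) with ⟨rfl, rfl⟩ | ⟨rfl, rfl⟩ | ⟨rfl, rfl⟩ | ⟨rfl, rfl⟩
            · omega
            · omega
            · omega
            · omega
          · rcases pc2 _ _ c12.out (by omega) with ⟨rfl, rfl⟩ | ⟨rfl, rfl⟩ | ⟨rfl, rfl⟩ | ⟨rfl, rfl⟩
            · omega
            · omega
            · omega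
            · omega
          · omega
          · omega
        · rcases pc2 _ _ c23.out (by omega) with ⟨rfl, rfl⟩ | ⟨rfl, rfl⟩ | ⟨rfl, rfl⟩ | ⟨rfl, rfl⟩
          · rcases pc3 _ _ c12.out (by omega) with ⟨rfl, rfl⟩ | ⟨rfl, rfl⟩ | ⟨rfl, rfl⟩ | ⟨rfl, rfl⟩ | ⟨rfl, rfl⟩ | ⟨rfl, rfl⟩
            · omega
            · omega
            · exact ⟨p21304, T.m 2, T.w 2, Or.inr (Or.inr (Or.inr (Or.inr (Or.inl ((show T.m 2 = T.m 2 ∧ T.m 1 = T.m 2 ∧ T.m 3 = T.m 2 ∧ T.m 0 = T.m 2 ∧ T.m 4 = T.m 2 ∧ T.w 2 = T.w 2 ∧ T.w 1 = 2 * T.w 2 ∧ T.w 3 = 2 * T.w 2 ∧ T.w 0 = 2 * T.w 2 ∧ T.w 4 = T.w 2 ∧ T.a 2 2 = -2 * T.w 2 ∧ T.a 2 1 = 2 * T.w 2 ∧ T.a 2 3 = 0 ∧ T.a 2 0 = 0 ∧ T.a 2 4 = 0 ∧ T.a 1 1 = -4 * T.w 2 ∧ T.a 1 3 = 2 * T.w 2 ∧ T.a 1 0 = 0 ∧ T.a 1 4 = 0 ∧ T.a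 3 3 = -4 * T.w 2 ∧ T.a 3 0 = 2 * T.w 2 ∧ T.a 3 4 = 0 ∧ T.a 0 0 = -4 * T.w 2 ∧ T.a 0 4 = 2 * T.w 2 ∧ T.a 4 4 = -2 * T.w 2 from by have HA' := HA.out; omega))))))⟩
            · exact ⟨p40312, T.m 2, T.w 4, Or.inr (Or.inr (Or.inr (Or.inl ((show T.m 4 = 2 * T.m 2 ∧ T.m 0 = 2 * T.m 2 ∧ T.m 3 = 2 * T.m 2 ∧ T.m 1 = 2 * T.m 2 ∧ T.m 2 = T.m 2 ∧ T.w 4 = T.w 4 ∧ T.w 0 = 2 * T.w 4 ∧ T.w 3 = 2 * T.w 4 ∧ T.w 1 = 2 * T.w 4 ∧ T.w 2 = 4 * T.w 4 ∧ T.a 4 4 = -2 * T.w 4 ∧ T.a 4 0 = 2 * T.w 4 ∧ T.a 4 3 = 0 ∧ T.a 4 1 = 0 ∧ T.a 4 2 = 0 ∧ T.a 0 0 = -4 * T.w 4 ∧ T.a 0 3 = 2 * T.w 4 ∧ T.a 0 1 = 0 ∧ T.a 0 2 = 0 ∧ T.a 3 3 = -4 * T.w 4 ∧ T.a 3 1 = 2 * T.w 4 ∧ T.a 3 2 = 0 ∧ T.a 1 1 = -4 * T.w 4 ∧ T.a 1 2 = 4 * T.w 4 ∧ T.a 2 2 = -8 * T.w 4 from by have HA' := HA.out;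 omega)))))⟩
            · omega
            · omega
          · rcases pc3 _ _ c12.out (by omega) with ⟨rfl, rfl⟩ | ⟨rfl, rfl⟩ | ⟨rfl, rfl⟩ | ⟨rfl, rfl⟩ | ⟨rfl, rfl⟩ | ⟨rfl, rfl⟩
            · exact ⟨p40312, T.m 1, T.w 4, Or.inr (Or.inr (Or.inr (Or.inr (Or.inr (Or.inr (Or.inr (Or.inr ((show T.m 4 = 2 * T.m 1 ∧ T.m 0 = 2 * T.m 1 ∧ T.m 3 = 2 * T.m 1 ∧ T.m 1 = T.m 1 ∧ T.m 2 = T.m 1 ∧ T.w 4 = T.w 4 ∧ T.w 0 = 2 * T.w 4 ∧ T.w 3 = 2 * T.w 4 ∧ T.w 1 = 2 * T.w 4 ∧ T.w 2 = 2 * T.w 4 ∧ T.a 4 4 = -2 * T.w 4 ∧ T.a 4 0 = 2 * T.w 4 ∧ T.a 4 3 = 0 ∧ T.a 4 1 = 0 ∧ T.a 4 2 = 0 ∧ T.a 0 0 = -4 * T.w 4 ∧ T.a 0 3 = 2 * T.w 4 ∧ T.a 0 1 = 0 ∧ T.a 0 2 = 0 ∧ T.a 3 3 = -4 * T.w 4 ∧ T.a 3 1 = 2 * T.w 4 ∧ T.a 3 2 = 2 * T.w 4 ∧ T.a 1 1 = -4 * T.w 4 ∧ T.a 1 2 = 0 ∧ T.a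 2 2 = -4 * T.w 4 from by have HA' := HA.out; omega)))))))))⟩
            · omega
            · omega
            · omega
            · omega
            · omega
          · omega
          · omega
        · rcases pc1 _ _ c23.out (by omega) with ⟨rfl, rfl⟩ | ⟨rfl, rfl⟩
          · rcases pc2 _ _ c12.out (by omega) with ⟨rfl, rfl⟩ | ⟨rfl, rfl⟩ | ⟨rfl, rfl⟩ | ⟨rfl, rfl⟩
            · omega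
            · omega
            · omega
            · omega
          · omega
        · rcases pc1 _ _ c23.out (by omega) with ⟨rfl, rfl⟩ | ⟨rfl, rfl⟩
          · rcases pc2 _ _ c12.out (by omega) with ⟨rfl, rfl⟩ | ⟨rfl, rfl⟩ | ⟨rfl, rfl⟩ | ⟨rfl, rfl⟩
            · omega
            · omega
            · omega
            · omega
          · omega
        · omega
        · omega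
      · rcases pc3 _ _ c23.out (by omega) with ⟨rfl, rfl⟩ | ⟨rfl, rfl⟩ | ⟨rfl, rfl⟩ | ⟨rfl, rfl⟩ | ⟨rfl, rfl⟩ | ⟨rfl, rfl⟩
        · rcases pc3 _ _ c12.out (by omega) with ⟨rfl, rfl⟩ | ⟨rfl, rfl⟩ | ⟨rfl, rfl⟩ | ⟨rfl, rfl⟩ | ⟨rfl, rfl⟩ | ⟨rfl, rfl⟩
          · rcases pc3 _ _ c13.out (by omega) with ⟨rfl, rfl⟩ | ⟨rfl, rfl⟩ | ⟨rfl, rfl⟩ | ⟨rfl, rfl⟩ | ⟨rfl, rfl⟩ | ⟨rfl, rfl⟩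
            · omega
            · exact ⟨p13042, T.m 1, T.w 4, Or.inr (Or.inr (Or.inl ((show T.m 1 = T.m 1 ∧ T.m 3 = 2 * T.m 1 ∧ T.m 0 = 3 * T.m 1 ∧ T.m 4 = 4 * T.m 1 ∧ T.m 2 = 2 * T.m 1 ∧ T.w 1 = 2 * T.w 4 ∧ T.w 3 = 2 * T.w 4 ∧ T.w 0 = 2 * T.w 4 ∧ T.w 4 = T.w 4 ∧ T.w 2 = T.w 4 ∧ T.a 1 1 = -4 * T.w 4 ∧ T.a 1 3 = 2 * T.w 4 ∧ T.a 1 0 = 0 ∧ T.a 1 4 = 0 ∧ T.a 1 2 = 0 ∧ T.a 3 3 = -4 * T.w 4 ∧ T.a 3 0 = 2 * T.w 4 ∧ T.a 3 4 = 0 ∧ T.a 3 2 = 0 ∧ T.a 0 0 = -4 * T.w 4 ∧ T.a 0 4 = 2 * T.w 4 ∧ T.a 0 2 = 0 ∧ T.a 4 4 = -2 * T.w 4 ∧ T.a 4 2 = T.w 4 ∧ T.a 2 2 = -2 * T.w 4 from by have HA' := HA.out; omega))))⟩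
            · omega
            · omega
            · omega
            · omega
          · rcases pc3 _ _ c13.out (by omega) with ⟨rfl, rfl⟩ | ⟨rfl, rfl⟩ | ⟨rfl, rfl⟩ | ⟨rfl, rfl⟩ | ⟨rfl, rfl⟩ | ⟨rfl, rfl⟩
            · exact ⟨p12403, T.m 1, T.w 1, Or.inr (Or.inl ((show T.m 1 = T.m 1 ∧ T.m 2 = 2 * T.m 1 ∧ T.m 4 = 3 * T.m 1 ∧ T.m 0 = 2 * T.m 1 ∧ T.m 3 = T.m 1 ∧ T.w 1 = T.w 1 ∧ T.w 2 = T.w 1 ∧ T.w 4 = T.w 1 ∧ T.w 0 = 2 * T.w 1 ∧ T.w 3 = 2 * T.w 1 ∧ T.a 1 1 = -2 * T.w 1 ∧ T.a 1 2 = T.w 1 ∧ T.a 1 4 = 0 ∧ T.a 1 0 = 0 ∧ T.a 1 3 = 0 ∧ T.a 2 2 = -2 * T.w 1 ∧ T.a 2 4 = T.w 1 ∧ T.a 2 0 = 0 ∧ T.a 2 3 = 0 ∧ T.a 4 4 = -2 * T.w 1 ∧ T.a 4 0 = 2 * T.w 1 ∧ T.a 4 3 = 0 ∧ T.a 0 0 = -4 * T.w 1 ∧ T.a 0 3 = 2 * T.w 1 ∧ T.a 3 3 = -4 * T.w 1 from by have HA'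 := HA.out; omega)))⟩
            · omega
            · omega
            · omega
            · omega
            · omega
          · omega
          · omega
          · omega
          · omega
        · omega
        · omega
        · omega
        · omega
        · omega
      · omega
      · omega
    · rcases pc1 _ _ c24.out (by omega) with ⟨rfl, rfl⟩ | ⟨rfl, rfl⟩
      · rcases pc3 _ _ c13.out (by omega) with ⟨rfl, rfl⟩ | ⟨rfl, rfl⟩ | ⟨rfl, rfl⟩ | ⟨rfl, rfl⟩ | ⟨rfl, rfl⟩ | ⟨rfl, rfl⟩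
        · rcases pc3 _ _ c12.out (by omega) with ⟨rfl, rfl⟩ | ⟨rfl, rfl⟩ | ⟨rfl, rfl⟩ | ⟨rfl, rfl⟩ | ⟨rfl, rfl⟩ | ⟨rfl, rfl⟩
          · rcases pc3 _ _ c23.out (by omega) with ⟨rfl, rfl⟩ | ⟨rfl, rfl⟩ | ⟨rfl, rfl⟩ | ⟨rfl, rfl⟩ | ⟨rfl, rfl⟩ | ⟨rfl, rfl⟩
            · omega
            · exact ⟨p23041, T.m 2, T.w 4, Or.inr (Or.inr (Or.inl ((show T.m 2 = T.m 2 ∧ T.m 3 = 2 * T.m 2 ∧ T.m 0 = 3 * T.m 2 ∧ T.m 4 = 4 * T.m 2 ∧ T.m 1 = 2 * T.m 2 ∧ T.w 2 = 2 * T.w 4 ∧ T.w 3 = 2 * T.w 4 ∧ T.w 0 = 2 * T.w 4 ∧ T.w 4 = T.w 4 ∧ T.w 1 = T.w 4 ∧ T.a 2 2 = -4 * T.w 4 ∧ T.a 2 3 = 2 * T.w 4 ∧ T.a 2 0 = 0 ∧ T.a 2 4 = 0 ∧ T.a 2 1 = 0 ∧ T.a 3 3 = -4 * T.w 4 ∧ T.a 3 0 = 2 * T.w 4 ∧ T.a 3 4 = 0 ∧ T.a 3 1 = 0 ∧ T.a 0 0 = -4 * T.w 4 ∧ T.a 0 4 = 2 * T.w 4 ∧ T.a 0 1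 = 0 ∧ T.a 4 4 = -2 * T.w 4 ∧ T.a 4 1 = T.w 4 ∧ T.a 1 1 = -2 * T.w 4 from by have HA' := HA.out; omega))))⟩
            · omega
            · omega
            · omega
            · omega
          · rcases pc3 _ _ c23.out (by omega) with ⟨rfl, rfl⟩ | ⟨rfl, rfl⟩ | ⟨rfl, rfl⟩ | ⟨rfl, rfl⟩ | ⟨rfl, rfl⟩ | ⟨rfl, rfl⟩
            · exact ⟨p21403, T.m 2, T.w 2, Or.inr (Or.inl ((show T.m 2 = T.m 2 ∧ T.m 1 = 2 * T.m 2 ∧ T.m 4 = 3 * T.m 2 ∧ T.m 0 = 2 * T.m 2 ∧ T.m 3 = T.m 2 ∧ T.w 2 = T.w 2 ∧ T.w 1 = T.w 2 ∧ T.w 4 = T.w 2 ∧ T.w 0 = 2 * T.w 2 ∧ T.w 3 = 2 * T.w 2 ∧ T.a 2 2 = -2 * T.w 2 ∧ T.a 2 1 = T.w 2 ∧ T.a 2 4 = 0 ∧ T.a 2 0 = 0 ∧ T.a 2 3 = 0 ∧ T.a 1 1 = -2 * T.w 2 ∧ T.a 1 4 = T.w 2 ∧ T.a 1 0 = 0 ∧ T.a 1 3 = 0 ∧ T.a 4 4 = -2 * T.w 2 ∧ T.a 4 0 = 2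 * T.w 2 ∧ T.a 4 3 = 0 ∧ T.a 0 0 = -4 * T.w 2 ∧ T.a 0 3 = 2 * T.w 2 ∧ T.a 3 3 = -4 * T.w 2 from by have HA' := HA.out; omega)))⟩
            · omega
            · omega
            · omega
            · omega
            · omega
          · omega
          · omega
          · omega
          · omega
        · omega
        · omega
        · omega
        · omega
        · omega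
      · omega
    · omega
    · omega
  · omega
  · omega
  · omega

set_option maxHeartbeats 0 in
theorem part11 (T : Models.NumericalType 5) (α12 α13 α14 α21 α23 α24 α31 α32 α34 α41 α42 α43 : ℤ)
    (H : Ctx T 0 0 1 2 0 α12 α13 α14 0 α21 α23 α24 1 α31 α32 α34 1 α41 α42 α43) : Goal T := by
  obtain ⟨hm0, hm1, hm2, hm3, hm4, hw0, hw1, hw2, hw3, hw4, e0, e1, e2, e3, e4, r01, r02, r03, r04, r10, r12, r13, r14, r20, r21, r23, r24, r30, r31, r32, r34, r40, r41, r42, r43, s01, s02, s03, s04, s12, s13, s14, s23, s24, s34, p01, p02, p03, p04, p12, p13, p14, p23, p24, p34, v0, v1, v2, v3, v4, k01, k02, k03, k04, k12, k13, k14, k23, k24, k34, c01, c02, c03, c04, c12, c13, c14, c23, c24, c34, HA⟩ := H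
  rcases pc2 _ _ c34.out (by omega) with ⟨rfl, rfl⟩ | ⟨rfl, rfl⟩ | ⟨rfl, rfl⟩ | ⟨rfl, rfl⟩
  · rcases pc2 _ _ c14.out (by omega) with ⟨rfl, rfl⟩ | ⟨rfl, rfl⟩ | ⟨rfl, rfl⟩ | ⟨rfl, rfl⟩
    · rcases pc2 _ _ c24.out (by omega) with ⟨rfl, rfl⟩ | ⟨rfl, rfl⟩ | ⟨rfl, rfl⟩ | ⟨rfl, rfl⟩
      · rcases pc3 _ _ c13.out (by omega) with ⟨rfl, rfl⟩ | ⟨rfl, rfl⟩ | ⟨rfl, rfl⟩ | ⟨rfl, rfl⟩ | ⟨rfl, rfl⟩ | ⟨rfl, rfl⟩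
        · rcases pc3 _ _ c23.out (by omega) with ⟨rfl, rfl⟩ | ⟨rfl, rfl⟩ | ⟨rfl, rfl⟩ | ⟨rfl, rfl⟩ | ⟨rfl, rfl⟩ | ⟨rfl, rfl⟩
          · omega
          · rcases pc3 _ _ c12.out (by omega) with ⟨rfl, rfl⟩ | ⟨rfl, rfl⟩ | ⟨rfl, rfl⟩ | ⟨rfl, rfl⟩ | ⟨rfl, rfl⟩ | ⟨rfl, rfl⟩
            · omega
            · omega
            · exact ⟨p12304, T.m 1, T.w 2, Or.inr (Or.inr (Or.inr (Or.inr (Or.inr (Or.inl ((show T.m 1 = T.m 1 ∧ T.m 2 = 2 * T.m 1 ∧ T.m 3 = 2 * T.m 1 ∧ T.m 0 = 2 * T.m 1 ∧ T.m 4 = T.m 1 ∧ T.w 1 = 2 * T.w 2 ∧ T.w 2 = T.w 2 ∧ T.w 3 = T.w 2 ∧ T.w 0 = T.w 2 ∧ T.w 4 = 2 * T.w 2 ∧ T.a 1 1 = -4 * T.w 2 ∧ T.a 1 2 = 2 * T.w 2 ∧ T.a 1 3 = 0 ∧ T.a 1 0 = 0 ∧ T.a 1 4 = 0 ∧ T.a 2 2 = -2 * T.w 2 ∧ T.a 2 3 = T.w 2 ∧ T.a 2 0 = 0 ∧ T.a 2 4 = 0 ∧ T.a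 3 3 = -2 * T.w 2 ∧ T.a 3 0 = T.w 2 ∧ T.a 3 4 = 0 ∧ T.a 0 0 = -2 * T.w 2 ∧ T.a 0 4 = 2 * T.w 2 ∧ T.a 4 4 = -4 * T.w 2 from by have HA' := HA.out; omega)))))))⟩
            · exact ⟨p12304, T.m 4, T.w 1, Or.inr (Or.inr (Or.inr (Or.inl ((show T.m 1 = 2 * T.m 4 ∧ T.m 2 = 2 * T.m 4 ∧ T.m 3 = 2 * T.m 4 ∧ T.m 0 = 2 * T.m 4 ∧ T.m 4 = T.m 4 ∧ T.w 1 = T.w 1 ∧ T.w 2 = 2 * T.w 1 ∧ T.w 3 = 2 * T.w 1 ∧ T.w 0 = 2 * T.w 1 ∧ T.w 4 = 4 * T.w 1 ∧ T.a 1 1 = -2 * T.w 1 ∧ T.a 1 2 = 2 * T.w 1 ∧ T.a 1 3 = 0 ∧ T.a 1 0 = 0 ∧ T.a 1 4 = 0 ∧ T.a 2 2 = -4 * T.w 1 ∧ T.a 2 3 = 2 * T.w 1 ∧ T.a 2 0 = 0 ∧ T.a 2 4 = 0 ∧ T.a 3 3 = -4 * T.w 1 ∧ T.a 3 0 = 2 * T.w 1 ∧ T.a 3 4 = 0 ∧ T.a 0 0 = -4 * T.w 1 ∧ T.a 0 4 = 4 * T.w 1 ∧ T.a 4 4 = -8 * T.w 1 from by have HA' := HA.out;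 omega)))))⟩
            · omega
            · omega
          · rcases pc2 _ _ c12.out (by omega) with ⟨rfl, rfl⟩ | ⟨rfl, rfl⟩ | ⟨rfl, rfl⟩ | ⟨rfl, rfl⟩
            · omega
            · omega
            · omega
            · omega
          · rcases pc2 _ _ c12.out (by omega) with ⟨rfl, rfl⟩ | ⟨rfl, rfl⟩ | ⟨rfl, rfl⟩ | ⟨rfl, rfl⟩
            · omega
            · omega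
            · omega
            · omega
          · omega
          · omega
        · rcases pc2 _ _ c23.out (by omega) with ⟨rfl, rfl⟩ | ⟨rfl, rfl⟩ | ⟨rfl, rfl⟩ | ⟨rfl, rfl⟩
          · rcases pc3 _ _ c12.out (by omega) with ⟨rfl, rfl⟩ | ⟨rfl, rfl⟩ | ⟨rfl, rfl⟩ | ⟨rfl, rfl⟩ | ⟨rfl, rfl⟩ | ⟨rfl, rfl⟩
            · omega
            · omega
            · exact ⟨p21304, T.m 4, T.w 2, Or.inr (Or.inr (Or.inr (Or.inl ((show T.m 2 = 2 * T.m 4 ∧ T.m 1 = 2 * T.m 4 ∧ T.m 3 = 2 * T.m 4 ∧ T.m 0 = 2 * T.m 4 ∧ T.m 4 = T.m 4 ∧ T.w 2 = T.w 2 ∧ T.w 1 = 2 * T.w 2 ∧ T.w 3 = 2 * T.w 2 ∧ T.w 0 = 2 * T.w 2 ∧ T.w 4 = 4 * T.w 2 ∧ T.a 2 2 = -2 * T.w 2 ∧ T.a 2 1 = 2 * T.w 2 ∧ T.a 2 3 = 0 ∧ T.a 2 0 = 0 ∧ T.a 2 4 = 0 ∧ T.a 1 1 = -4 * T.w 2 ∧ T.a 1 3 = 2 * T.w 2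 ∧ T.a 1 0 = 0 ∧ T.a 1 4 = 0 ∧ T.a 3 3 = -4 * T.w 2 ∧ T.a 3 0 = 2 * T.w 2 ∧ T.a 3 4 = 0 ∧ T.a 0 0 = -4 * T.w 2 ∧ T.a 0 4 = 4 * T.w 2 ∧ T.a 4 4 = -8 * T.w 2 from by have HA' := HA.out; omega)))))⟩
            · exact ⟨p21304, T.m 2, T.w 1, Or.inr (Or.inr (Or.inr (Or.inr (Or.inr (Or.inl ((show T.m 2 = T.m 2 ∧ T.m 1 = 2 * T.m 2 ∧ T.m 3 = 2 * T.m 2 ∧ T.m 0 = 2 * T.m 2 ∧ T.m 4 = T.m 2 ∧ T.w 2 = 2 * T.w 1 ∧ T.w 1 = T.w 1 ∧ T.w 3 = T.w 1 ∧ T.w 0 = T.w 1 ∧ T.w 4 = 2 * T.w 1 ∧ T.a 2 2 = -4 * T.w 1 ∧ T.a 2 1 = 2 * T.w 1 ∧ T.a 2 3 = 0 ∧ T.a 2 0 = 0 ∧ T.a 2 4 = 0 ∧ T.a 1 1 = -2 * T.w 1 ∧ T.a 1 3 = T.w 1 ∧ T.a 1 0 = 0 ∧ T.a 1 4 = 0 ∧ T.a 3 3 = -2 * T.w 1 ∧ T.a 3 0 = T.w 1 ∧ T.a 3 4 = 0 ∧ T.a 0 0 = -2 * T.w 1 ∧ T.a 0 4 = 2 * T.w 1 ∧ T.a 4 4 = -4 * T.w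 1 from by have HA' := HA.out; omega)))))))⟩
            · omega
            · omega
          · rcases pc3 _ _ c12.out (by omega) with ⟨rfl, rfl⟩ | ⟨rfl, rfl⟩ | ⟨rfl, rfl⟩ | ⟨rfl, rfl⟩ | ⟨rfl, rfl⟩ | ⟨rfl, rfl⟩
            · exact ⟨p40312, T.m 4, T.w 0, Or.inr (Or.inr (Or.inr (Or.inr (Or.inr (Or.inr (Or.inr (Or.inl ((show T.m 4 = T.m 4 ∧ T.m 0 = 2 * T.m 4 ∧ T.m 3 = 2 * T.m 4 ∧ T.m 1 = T.m 4 ∧ T.m 2 = T.m 4 ∧ T.w 4 = 2 * T.w 0 ∧ T.w 0 = T.w 0 ∧ T.w 3 = T.w 0 ∧ T.w 1 = T.w 0 ∧ T.w 2 = T.w 0 ∧ T.a 4 4 = -4 * T.w 0 ∧ T.a 4 0 = 2 * T.w 0 ∧ T.a 4 3 = 0 ∧ T.a 4 1 = 0 ∧ T.a 4 2 = 0 ∧ T.a 0 0 = -2 * T.w 0 ∧ T.a 0 3 = T.w 0 ∧ T.a 0 1 = 0 ∧ T.a 0 2 = 0 ∧ T.a 3 3 = -2 * T.w 0 ∧ T.a 3 1 = T.w 0 ∧ T.a 3 2 = T.w 0 ∧ T.a 1 1 = -2 * T.w 0 ∧ T.a 1 2 = 0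 ∧ T.a 2 2 = -2 * T.w 0 from by have HA' := HA.out; omega)))))))))⟩
            · omega
            · omega
            · omega
            · omega
            · omega
          · omega
          · omega
        · rcases pc1 _ _ c23.out (by omega) with ⟨rfl, rfl⟩ | ⟨rfl, rfl⟩
          · rcases pc2 _ _ c12.out (by omega) with ⟨rfl, rfl⟩ | ⟨rfl, rfl⟩ | ⟨rfl, rfl⟩ | ⟨rfl, rfl⟩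
            · omega
            · omega
            · omega
            · omega
          · omega
        · rcases pc1 _ _ c23.out (by omega) with ⟨rfl, rfl⟩ | ⟨rfl, rfl⟩
          · rcases pc2 _ _ c12.out (by omega) with ⟨rfl, rfl⟩ | ⟨rfl, rfl⟩ | ⟨rfl, rfl⟩ | ⟨rfl, rfl⟩
            · omega
            · omega
            · omega
            · omega
          · omega
        · omega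
        · omega
      · rcases pc3 _ _ c23.out (by omega) with ⟨rfl, rfl⟩ | ⟨rfl, rfl⟩ | ⟨rfl, rfl⟩ | ⟨rfl, rfl⟩ | ⟨rfl, rfl⟩ | ⟨rfl, rfl⟩
        · rcases pc3 _ _ c12.out (by omega) with ⟨rfl, rfl⟩ | ⟨rfl, rfl⟩ | ⟨rfl, rfl⟩ | ⟨rfl, rfl⟩ | ⟨rfl, rfl⟩ | ⟨rfl, rfl⟩
          · rcases pc3 _ _ c13.out (by omega) with ⟨rfl, rfl⟩ | ⟨rfl, rfl⟩ | ⟨rfl, rfl⟩ | ⟨rfl, rfl⟩ | ⟨rfl, rfl⟩ | ⟨rfl, rfl⟩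
            · omega
            · exact ⟨p13042, T.m 1, T.w 1, Or.inr (Or.inl ((show T.m 1 = T.m 1 ∧ T.m 3 = 2 * T.m 1 ∧ T.m 0 = 3 * T.m 1 ∧ T.m 4 = 2 * T.m 1 ∧ T.m 2 = T.m 1 ∧ T.w 1 = T.w 1 ∧ T.w 3 = T.w 1 ∧ T.w 0 = T.w 1 ∧ T.w 4 = 2 * T.w 1 ∧ T.w 2 = 2 * T.w 1 ∧ T.a 1 1 = -2 * T.w 1 ∧ T.a 1 3 = T.w 1 ∧ T.a 1 0 = 0 ∧ T.a 1 4 = 0 ∧ T.a 1 2 = 0 ∧ T.a 3 3 = -2 * T.w 1 ∧ T.a 3 0 = T.w 1 ∧ T.a 3 4 = 0 ∧ T.a 3 2 = 0 ∧ T.a 0 0 = -2 * T.w 1 ∧ T.a 0 4 = 2 * T.w 1 ∧ T.a 0 2 = 0 ∧ T.a 4 4 = -4 * T.w 1 ∧ T.a 4 2 = 2 * T.w 1 ∧ T.a 2 2 = -4 * T.w 1 from by have HA' := HA.out; omega)))⟩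
            · omega
            · omega
            · omega
            · omega
          · rcases pc3 _ _ c13.out (by omega) with ⟨rfl, rfl⟩ | ⟨rfl, rfl⟩ | ⟨rfl, rfl⟩ | ⟨rfl, rfl⟩ | ⟨rfl, rfl⟩ | ⟨rfl, rfl⟩
            · exact ⟨p12403, T.m 1, T.w 0, Or.inr (Or.inr (Or.inl ((show T.m 1 = T.m 1 ∧ T.m 2 = 2 * T.m 1 ∧ T.m 4 = 3 * T.m 1 ∧ T.m 0 = 4 * T.m 1 ∧ T.m 3 = 2 * T.m 1 ∧ T.w 1 = 2 * T.w 0 ∧ T.w 2 = 2 * T.w 0 ∧ T.w 4 = 2 * T.w 0 ∧ T.w 0 = T.w 0 ∧ T.w 3 = T.w 0 ∧ T.a 1 1 = -4 * T.w 0 ∧ T.a 1 2 = 2 * T.w 0 ∧ T.a 1 4 = 0 ∧ T.a 1 0 = 0 ∧ T.a 1 3 = 0 ∧ T.a 2 2 = -4 * T.w 0 ∧ T.a 2 4 = 2 * T.w 0 ∧ T.a 2 0 = 0 ∧ T.a 2 3 = 0 ∧ T.a 4 4 = -4 * T.w 0 ∧ T.a 4 0 = 2 * T.w 0 ∧ T.a 4 3 = 0 ∧ T.a 0 0 = -2 * T.w 0 ∧ T.a 0 3 = T.w 0 ∧ T.a 3 3 = -2 * T.w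 0 from by have HA' := HA.out; omega))))⟩
            · omega
            · omega
            · omega
            · omega
            · omega
          · omega
          · omega
          · omega
          · omega
        · omega
        · omega
        · omega
        · omega
        · omega
      · omega
      · omega
    · rcases pc1 _ _ c24.out (by omega) with ⟨rfl, rfl⟩ | ⟨rfl, rfl⟩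
      · rcases pc3 _ _ c13.out (by omega) with ⟨rfl, rfl⟩ | ⟨rfl, rfl⟩ | ⟨rfl, rfl⟩ | ⟨rfl, rfl⟩ | ⟨rfl, rfl⟩ | ⟨rfl, rfl⟩
        · rcases pc3 _ _ c12.out (by omega) with ⟨rfl, rfl⟩ | ⟨rfl, rfl⟩ | ⟨rfl, rfl⟩ | ⟨rfl, rfl⟩ | ⟨rfl, rfl⟩ | ⟨rfl, rfl⟩
          · rcases pc3 _ _ c23.out (by omega) with ⟨rfl, rfl⟩ | ⟨rfl, rfl⟩ | ⟨rfl, rfl⟩ | ⟨rfl, rfl⟩ | ⟨rfl, rfl⟩ | ⟨rfl, rfl⟩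
            · omega
            · exact ⟨p23041, T.m 2, T.w 2, Or.inr (Or.inl ((show T.m 2 = T.m 2 ∧ T.m 3 = 2 * T.m 2 ∧ T.m 0 = 3 * T.m 2 ∧ T.m 4 = 2 * T.m 2 ∧ T.m 1 = T.m 2 ∧ T.w 2 = T.w 2 ∧ T.w 3 = T.w 2 ∧ T.w 0 = T.w 2 ∧ T.w 4 = 2 * T.w 2 ∧ T.w 1 = 2 * T.w 2 ∧ T.a 2 2 = -2 * T.w 2 ∧ T.a 2 3 = T.w 2 ∧ T.a 2 0 = 0 ∧ T.a 2 4 = 0 ∧ T.a 2 1 = 0 ∧ T.a 3 3 = -2 * T.w 2 ∧ T.a 3 0 = T.w 2 ∧ T.a 3 4 = 0 ∧ T.a 3 1 = 0 ∧ T.a 0 0 = -2 * T.w 2 ∧ T.a 0 4 = 2 * T.w 2 ∧ T.a 0 1 = 0 ∧ T.a 4 4 = -4 * T.w 2 ∧ T.a 4 1 = 2 * T.w 2 ∧ T.a 1 1 = -4 * T.w 2 from by have HA' := HA.out; omega)))⟩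
            · omega
            · omega
            · omega
            · omega
          · rcases pc3 _ _ c23.out (by omega) with ⟨rfl, rfl⟩ | ⟨rfl, rfl⟩ | ⟨rfl, rfl⟩ | ⟨rfl, rfl⟩ | ⟨rfl, rfl⟩ | ⟨rfl, rfl⟩
            · exact ⟨p21403, T.m 2, T.w 0, Or.inr (Or.inr (Or.inl ((show T.m 2 = T.m 2 ∧ T.m 1 = 2 * T.m 2 ∧ T.m 4 = 3 * T.m 2 ∧ T.m 0 = 4 * T.m 2 ∧ T.m 3 = 2 * T.m 2 ∧ T.w 2 = 2 * T.w 0 ∧ T.w 1 = 2 * T.w 0 ∧ T.w 4 = 2 * T.w 0 ∧ T.w 0 = T.w 0 ∧ T.w 3 = T.w 0 ∧ T.a 2 2 = -4 * T.w 0 ∧ T.a 2 1 = 2 * T.w 0 ∧ T.a 2 4 = 0 ∧ T.a 2 0 = 0 ∧ T.a 2 3 = 0 ∧ T.a 1 1 = -4 * T.w 0 ∧ T.a 1 4 = 2 * T.w 0 ∧ T.a 1 0 = 0 ∧ T.a 1 3 = 0 ∧ T.a 4 4 = -4 * T.w 0 ∧ T.a 4 0 = 2 * T.w 0 ∧ T.a 4 3 = 0 ∧ T.a 0 0 = -2 * T.w 0 ∧ T.a 0 3 = T.w 0 ∧ T.a 3 3 = -2 * T.w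 0 from by have HA' := HA.out; omega))))⟩
            · omega
            · omega
            · omega
            · omega
            · omega
          · omega
          · omega
          · omega
          · omega
        · omega
        · omega
        · omega
        · omega
        · omega
      · omega
    · omega
    · omega
  · omega
  · omega
  · omega

set_option maxHeartbeats 0 in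
theorem part12 (T : Models.NumericalType 5) (α12 α13 α14 α21 α23 α24 α31 α32 α34 α41 α42 α43 : ℤ)
    (H : Ctx T 0 0 1 1 0 α12 α13 α14 0 α21 α23 α24 1 α31 α32 α34 3 α41 α42 α43) : Goal T := by
  obtain ⟨hm0, hm1, hm2, hm3, hm4, hw0, hw1, hw2, hw3, hw4, e0, e1, e2, e3, e4, r01, r02, r03, r04, r10, r12, r13, r14, r20, r21, r23, r24, r30, r31, r32, r34, r40, r41, r42, r43, s01, s02, s03, s04, s12, s13, s14, s23, s24, s34, p01, p02, p03, p04, p12, p13, p14, p23, p24, p34, v0, v1, v2, v3, v4, k01, k02, k03, k04, k12, k13, k14, k23, k24, k34, c01, c02, c03, c04, c12, c13, c14, c23, c24, c34, HA⟩ := H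
  rcases pc1 _ _ c14.out (by omega) with ⟨rfl, rfl⟩ | ⟨rfl, rfl⟩
  · rcases pc1 _ _ c24.out (by omega) with ⟨rfl, rfl⟩ | ⟨rfl, rfl⟩
    · rcases pc1 _ _ c34.out (by omega) with ⟨rfl, rfl⟩ | ⟨rfl, rfl⟩
      · rcases pc3 _ _ c13.out (by omega) with ⟨rfl, rfl⟩ | ⟨rfl, rfl⟩ | ⟨rfl, rfl⟩ | ⟨rfl, rfl⟩ | ⟨rfl, rfl⟩ | ⟨rfl, rfl⟩
        · rcases pc3 _ _ c23.out (by omega) with ⟨rfl, rfl⟩ | ⟨rfl, rfl⟩ | ⟨rfl, rfl⟩ | ⟨rfl, rfl⟩ | ⟨rfl, rfl⟩ | ⟨rfl, rfl⟩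
          · omega
          · omega
          · omega
          · omega
          · omega
          · omega
        · omega
        · omega
        · omega
        · omega
        · omega
      · omega
    · omega
  · omega

set_option maxHeartbeats 0 in
theorem part13 (T : Models.NumericalType 5) (α12 α13 α14 α21 α23 α24 α31 α32 α34 α41 α42 α43 : ℤ)
    (H : Ctx T 0 0 1 3 0 α12 α13 α14 0 α21 α23 α24 1 α31 α32 α34 1 α41 α42 α43) : Goal T := by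
  obtain ⟨hm0, hm1, hm2, hm3, hm4, hw0, hw1, hw2, hw3, hw4, e0, e1, e2, e3, e4, r01, r02, r03, r04, r10, r12, r13, r14, r20, r21, r23, r24, r30, r31, r32, r34, r40, r41, r42, r43, s01, s02, s03, s04, s12, s13, s14, s23, s24, s34, p01, p02, p03, p04, p12, p13, p14, p23, p24, p34, v0, v1, v2, v3, v4, k01, k02, k03, k04, k12, k13, k14, k23, k24, k34, c01, c02, c03, c04, c12, c13, c14, c23, c24, c34, HA⟩ := H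
  rcases pc1 _ _ c14.out (by omega) with ⟨rfl, rfl⟩ | ⟨rfl, rfl⟩
  · rcases pc1 _ _ c24.out (by omega) with ⟨rfl, rfl⟩ | ⟨rfl, rfl⟩
    · rcases pc1 _ _ c34.out (by omega) with ⟨rfl, rfl⟩ | ⟨rfl, rfl⟩
      · rcases pc3 _ _ c13.out (by omega) with ⟨rfl, rfl⟩ | ⟨rfl, rfl⟩ | ⟨rfl, rfl⟩ | ⟨rfl, rfl⟩ | ⟨rfl, rfl⟩ | ⟨rfl, rfl⟩
        · rcases pc3 _ _ c23.out (by omega) with ⟨rfl, rfl⟩ | ⟨rfl, rfl⟩ | ⟨rfl, rfl⟩ | ⟨rfl, rfl⟩ | ⟨rfl, rfl⟩ | ⟨rfl, rfl⟩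
          · omega
          · omega
          · omega
          · omega
          · omega
          · omega
        · omega
        · omega
        · omega
        · omega
        · omega
      · omega
    · omega
  · omega

end Groth.Agent.Lib.helper20.G1n5
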