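import Groth.Agent.Lib.Helper20.G1n6Base

set_option autoImplicit false
set_option linter.unusedVariables false
open Finset
open Models Models.NumericalType

namespace Groth.Agent.Lib.helper20.G1n6

set_option maxHeartbeats 0 in
theorem part0 (T : Models.NumericalType 6) (α15 α23 α24 α25 α32 α34 α35 α42 α43 α45 α51 α52 α53 α54 x15 x23 x24 x25 x32 x34 x35 x42 x43 x45 x51 x52 x53 x54 q15 q23 q24 q25 q34 q35 q45 : ℤ)
    (hm0 : Hide (0 < T.m 0))
    (hm1 : Hide (0 < T.m 1))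
    (hm2 : Hide (0 < T.m 2))
    (hm3 : Hide (0 < T.m 3))
    (hm4 : Hide (0 < T.m 4))
    (hm5 : Hide (0 < T.m 5))
    (om1 : Hide (T.m 0 ≤ T.m 1))
    (om2 : Hide (T.m 0 ≤ T.m 2))
    (om3 : Hide (T.m 0 ≤ T.m 3))
    (om4 : Hide (T.m 0 ≤ T.m 4))
    (om5 : Hide (T.m 0 ≤ T.m 5))
    (e0 : Hide (T.m 1 + (0 : ℤ) + (0 : ℤ) + (0 : ℤ) + (0 : ℤ) = 2 * T.m 0))
    (e1 : Hide (T.m 0 + T.m 2 + (0 : ℤ) + (0 : ℤ) + x15 = 2 * T.m 1))
    (e2 : Hide ((0 : ℤ) + T.m 1 + x23 + x24 + x25 = 2 * T.m 2))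
    (e3 : Hide ((0 : ℤ) + (0 : ℤ) + x32 + x34 + x35 = 2 * T.m 3))
    (e4 : Hide ((0 : ℤ) + (0 : ℤ) + x42 + x43 + x45 = 2 * T.m 4))
    (e5 : Hide ((0 : ℤ) + x51 + x52 + x53 + x54 = 2 * T.m 5))
    (r01 : Hide (0 ≤ T.m 1))
    (r02 : Hide (0 ≤ (0 : ℤ)))
    (r03 : Hide (0 ≤ (0 : ℤ)))
    (r04 : Hide (0 ≤ (0 : ℤ)))
    (r05 : Hide (0 ≤ (0 : ℤ)))
    (r10 : Hide (0 ≤ T.m 0))
    (r12 : Hide (0 ≤ T.m 2))
    (r13 : Hide (0 ≤ (0 : ℤ)))
    (r14 : Hide (0 ≤ (0 : ℤ)))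
    (r15 : Hide (0 ≤ x15))
    (r20 : Hide (0 ≤ (0 : ℤ)))
    (r21 : Hide (0 ≤ T.m 1))
    (r23 : Hide (0 ≤ x23))
    (r24 : Hide (0 ≤ x24))
    (r25 : Hide (0 ≤ x25))
    (r30 : Hide (0 ≤ (0 : ℤ)))
    (r31 : Hide (0 ≤ (0 : ℤ)))
    (r32 : Hide (0 ≤ x32))
    (r34 : Hide (0 ≤ x34))
    (r35 : Hide (0 ≤ x35))
    (r40 : Hide (0 ≤ (0 : ℤ)))
    (r41 : Hide (0 ≤ (0 : ℤ)))
    (r42 : Hide (0 ≤ x42))
    (r43 : Hide (0 ≤ x43))
    (r45 : Hide (0 ≤ x45))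
    (r50 : Hide (0 ≤ (0 : ℤ)))
    (r51 : Hide (0 ≤ x51))
    (r52 : Hide (0 ≤ x52))
    (r53 : Hide (0 ≤ x53))
    (r54 : Hide (0 ≤ x54))
    (hw0 : Hide (0 < T.w 0))
    (hw1 : Hide (0 < T.w 1))
    (hw2 : Hide (0 < T.w 2))
    (hw3 : Hide (0 < T.w 3))
    (hw4 : Hide (0 < T.w 4))
    (hw5 : Hide (0 < T.w 5))
    (hs01 : Hide (T.a 0 1 = T.a 1 0))
    (hs02 : Hide (T.a 0 2 = T.a 2 0))
    (hs03 : Hide (T.a 0 3 = T.a 3 0))
    (hs04 : Hide (T.a 0 4 = T.a 4 0))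
    (hs05 : Hide (T.a 0 5 = T.a 5 0))
    (hs12 : Hide (T.a 1 2 = T.a 2 1))
    (hs13 : Hide (T.a 1 3 = T.a 3 1))
    (hs14 : Hide (T.a 1 4 = T.a 4 1))
    (hs15 : Hide (T.a 1 5 = T.a 5 1))
    (hs23 : Hide (T.a 2 3 = T.a 3 2))
    (hs24 : Hide (T.a 2 4 = T.a 4 2))
    (hs25 : Hide (T.a 2 5 = T.a 5 2))
    (hs34 : Hide (T.a 3 4 = T.a 4 3))
    (hs35 : Hide (T.a 3 5 = T.a 5 3))
    (hs45 : Hide (T.a 4 5 = T.a 5 4))
    (ha00 : Hide (T.a 0 0 = -2 * T.w 0))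
    (ha11 : Hide (T.a 1 1 = -2 * T.w 1))
    (ha22 : Hide (T.a 2 2 = -2 * T.w 2))
    (ha33 : Hide (T.a 3 3 = -2 * T.w 3))
    (ha44 : Hide (T.a 4 4 = -2 * T.w 4))
    (ha55 : Hide (T.a 5 5 = -2 * T.w 5))
    (v0 : Hide ((1 : ℤ) + (0 : ℤ) + (0 : ℤ) + (0 : ℤ) + (0 : ℤ) ≤ 4))
    (v1 : Hide ((1 : ℤ) + (1 : ℤ) + (0 : ℤ) + (0 : ℤ) + q15 ≤ 4))
    (v2 : Hide ((0 : ℤ) + (1 : ℤ) + q23 + q24 + q25 ≤ 4))
    (v3 : Hide ((0 : ℤ) + (0 : ℤ) + q23 + q34 + q35 ≤ 4))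
    (v4 : Hide ((0 : ℤ) + (0 : ℤ) + q24 + q34 + q45 ≤ 4))
    (v5 : Hide ((0 : ℤ) + q15 + q25 + q35 + q45 ≤ 4))
    (qn01 : Hide (0 ≤ (1 : ℤ)))
    (qn02 : Hide (0 ≤ (0 : ℤ)))
    (qn03 : Hide (0 ≤ (0 : ℤ)))
    (qn04 : Hide (0 ≤ (0 : ℤ)))
    (qn05 : Hide (0 ≤ (0 : ℤ)))
    (qn12 : Hide (0 ≤ (1 : ℤ)))
    (qn13 : Hide (0 ≤ (0 : ℤ)))
    (qn14 : Hide (0 ≤ (0 : ℤ)))
    (qn15 : Hide (0 ≤ q15))
    (qn23 : Hide (0 ≤ q23))
    (qn24 : Hide (0 ≤ q24))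
    (qn25 : Hide (0 ≤ q25))
    (qn34 : Hide (0 ≤ q34))
    (qn35 : Hide (0 ≤ q35))
    (qn45 : Hide (0 ≤ q45))
    (od1 : Hide (0 < (1 : ℤ)))
    (od2 : Hide (0 < (0 : ℤ) + (1 : ℤ)))
    (od3 : Hide (0 < (0 : ℤ) + (0 : ℤ) + α23))
    (od4 : Hide (0 < (0 : ℤ) + (0 : ℤ) + α24 + α34))
    (od5 : Hide (0 < (0 : ℤ) + α15 + α25 + α35 + α45))
    (c15 : Hide (((Hide (x15 = 0 ∧ x51 = 0) ∧ Hide (T.a 1 5 = 0 ∧ T.a 5 1 = 0) ∧ Hide (α15 = 0 ∧ α51 = 0)) ∧ q15 = 0) ∨ ((Hide (x15 = T.m 5 ∧ x51 = T.m 1) ∧ Hide (T.a 1 5 = T.w 1 ∧ T.a 5 1 = T.w 5) ∧ Hide (α15 = 1 ∧ α51 = 1)) ∧ q15 = 1) ∨ ((Hide (x15 = T.m 5 ∧ x51 = 2 * T.m 1) ∧ Hide (T.a 1 5 = T.w 1 ∧ T.a 5 1 = 2 * T.w 5) ∧ Hide (α15 = 1 ∧ α51 = 2)) ∧ q15 = 2) ∨ ((Hide (x15 = 2 * T.m 5 ∧ x51 = T.m 1) ∧ Hide (T.a 1 5 = 2 * T.w 1 ∧ T.a 5 1 = T.w 5) ∧ Hide (α15 = 2 ∧ α51 = 1)) ∧ q15 = 2) ∨ ((Hide (x15 = T.m 5 ∧ x51 = 3 * T.m 1) ∧ Hide (T.a 1 5 = T.w 1 ∧ T.a 5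 1 = 3 * T.w 5) ∧ Hide (α15 = 1 ∧ α51 = 3)) ∧ q15 = 3) ∨ ((Hide (x15 = 3 * T.m 5 ∧ x51 = T.m 1) ∧ Hide (T.a 1 5 = 3 * T.w 1 ∧ T.a 5 1 = T.w 5) ∧ Hide (α15 = 3 ∧ α51 = 1)) ∧ q15 = 3) ∨ ((Hide (x15 = T.m 5 ∧ x51 = 4 * T.m 1) ∧ Hide (T.a 1 5 = T.w 1 ∧ T.a 5 1 = 4 * T.w 5) ∧ Hide (α15 = 1 ∧ α51 = 4)) ∧ q15 = 4) ∨ ((Hide (x15 = 4 * T.m 5 ∧ x51 = T.m 1) ∧ Hide (T.a 1 5 = 4 * T.w 1 ∧ T.a 5 1 = T.w 5) ∧ Hide (α15 = 4 ∧ α51 = 1)) ∧ q15 = 4) ∨ ((Hide (x15 = 2 * T.m 5 ∧ x51 = 2 * T.m 1) ∧ Hide (T.a 1 5 = 2 * T.w 1 ∧ T.a 5 1 = 2 * T.w 5) ∧ Hide (α15 = 2 ∧ α51 = 2)) ∧ q15 = 4)))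
    (c23 : Hide (((Hide (x23 = 0 ∧ x32 = 0) ∧ Hide (T.a 2 3 = 0 ∧ T.a 3 2 = 0) ∧ Hide (α23 = 0 ∧ α32 = 0)) ∧ q23 = 0) ∨ ((Hide (x23 = T.m 3 ∧ x32 = T.m 2) ∧ Hide (T.a 2 3 = T.w 2 ∧ T.a 3 2 = T.w 3) ∧ Hide (α23 = 1 ∧ α32 = 1)) ∧ q23 = 1) ∨ ((Hide (x23 = T.m 3 ∧ x32 = 2 * T.m 2) ∧ Hide (T.a 2 3 = T.w 2 ∧ T.a 3 2 = 2 * T.w 3) ∧ Hide (α23 = 1 ∧ α32 = 2)) ∧ q23 = 2) ∨ ((Hide (x23 = 2 * T.m 3 ∧ x32 = T.m 2) ∧ Hide (T.a 2 3 = 2 * T.w 2 ∧ T.a 3 2 = T.w 3) ∧ Hide (α23 = 2 ∧ α32 = 1)) ∧ q23 = 2) ∨ ((Hide (x23 = T.m 3 ∧ x32 = 3 * T.m 2) ∧ Hide (T.a 2 3 = T.w 2 ∧ T.a 3 2 = 3 * T.w 3) ∧ Hide (α23 = 1 ∧ α32 = 3)) ∧ q23 = 3) ∨ ((Hide (x23 = 3 * T.m 3 ∧ x32 = T.m 2) ∧ Hide (T.a 2 3 = 3 * T.w 2 ∧ T.a 3 2 = T.w 3) ∧ Hide (α23 = 3 ∧ α32 = 1)) ∧ q23 = 3) ∨ ((Hide (x23 = T.m 3 ∧ x32 = 4 * T.m 2) ∧ Hide (T.a 2 3 = T.w 2 ∧ T.a 3 2 = 4 * T.w 3) ∧ Hide (α23 = 1 ∧ α32 = 4)) ∧ q23 = 4) ∨ ((Hide (x23 = 4 * T.m 3 ∧ x32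 = T.m 2) ∧ Hide (T.a 2 3 = 4 * T.w 2 ∧ T.a 3 2 = T.w 3) ∧ Hide (α23 = 4 ∧ α32 = 1)) ∧ q23 = 4) ∨ ((Hide (x23 = 2 * T.m 3 ∧ x32 = 2 * T.m 2) ∧ Hide (T.a 2 3 = 2 * T.w 2 ∧ T.a 3 2 = 2 * T.w 3) ∧ Hide (α23 = 2 ∧ α32 = 2)) ∧ q23 = 4)))
    (c24 : Hide (((Hide (x24 = 0 ∧ x42 = 0) ∧ Hide (T.a 2 4 = 0 ∧ T.a 4 2 = 0) ∧ Hide (α24 = 0 ∧ α42 = 0)) ∧ q24 = 0) ∨ ((Hide (x24 = T.m 4 ∧ x42 = T.m 2) ∧ Hide (T.a 2 4 = T.w 2 ∧ T.a 4 2 = T.w 4) ∧ Hide (α24 = 1 ∧ α42 = 1)) ∧ q24 = 1) ∨ ((Hide (x24 = T.m 4 ∧ x42 = 2 * T.m 2) ∧ Hide (T.a 2 4 = T.w 2 ∧ T.a 4 2 = 2 * T.w 4) ∧ Hide (α24 = 1 ∧ α42 = 2)) ∧ q24 = 2) ∨ ((Hide (x24 = 2 * T.m 4 ∧ x42 = T.m 2) ∧ Hide (T.a 2 4 = 2 * T.w 2 ∧ T.a 4 2 = T.w 4) ∧ Hide (α24 = 2 ∧ α42 = 1)) ∧ q24 = 2) ∨ ((Hide (x24 = T.m 4 ∧ x42 = 3 * T.m 2) ∧ Hide (T.a 2 4 = T.w 2 ∧ T.a 4 2 = 3 * T.w 4) ∧ Hide (α24 = 1 ∧ α42 = 3)) ∧ q24 = 3) ∨ ((Hide (x24 = 3 * T.m 4 ∧ x42 = T.m 2) ∧ Hide (T.a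 2 4 = 3 * T.w 2 ∧ T.a 4 2 = T.w 4) ∧ Hide (α24 = 3 ∧ α42 = 1)) ∧ q24 = 3) ∨ ((Hide (x24 = T.m 4 ∧ x42 = 4 * T.m 2) ∧ Hide (T.a 2 4 = T.w 2 ∧ T.a 4 2 = 4 * T.w 4) ∧ Hide (α24 = 1 ∧ α42 = 4)) ∧ q24 = 4) ∨ ((Hide (x24 = 4 * T.m 4 ∧ x42 = T.m 2) ∧ Hide (T.a 2 4 = 4 * T.w 2 ∧ T.a 4 2 = T.w 4) ∧ Hide (α24 = 4 ∧ α42 = 1)) ∧ q24 = 4) ∨ ((Hide (x24 = 2 * T.m 4 ∧ x42 = 2 * T.m 2) ∧ Hide (T.a 2 4 = 2 * T.w 2 ∧ T.a 4 2 = 2 * T.w 4) ∧ Hide (α24 = 2 ∧ α42 = 2)) ∧ q24 = 4)))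
    (c25 : Hide (((Hide (x25 = 0 ∧ x52 = 0) ∧ Hide (T.a 2 5 = 0 ∧ T.a 5 2 = 0) ∧ Hide (α25 = 0 ∧ α52 = 0)) ∧ q25 = 0) ∨ ((Hide (x25 = T.m 5 ∧ x52 = T.m 2) ∧ Hide (T.a 2 5 = T.w 2 ∧ T.a 5 2 = T.w 5) ∧ Hide (α25 = 1 ∧ α52 = 1)) ∧ q25 = 1) ∨ ((Hide (x25 = T.m 5 ∧ x52 = 2 * T.m 2) ∧ Hide (T.a 2 5 = T.w 2 ∧ T.a 5 2 = 2 * T.w 5) ∧ Hide (α25 = 1 ∧ α52 = 2)) ∧ q25 = 2) ∨ ((Hide (x25 = 2 * T.m 5 ∧ x52 = T.m 2) ∧ Hide (T.a 2 5 = 2 * T.w 2 ∧ T.a 5 2 = T.w 5) ∧ Hide (α25 = 2 ∧ α52 = 1)) ∧ q25 = 2) ∨ ((Hide (x25 = T.m 5 ∧ x52 = 3 * T.m 2) ∧ Hide (T.a 2 5 = T.w 2 ∧ T.a 5 2 = 3 * T.w 5) ∧ Hide (α25 = 1 ∧ α52 = 3)) ∧ q25 = 3) ∨ ((Hide (x25 = 3 * T.m 5 ∧ x52 = T.m 2) ∧ Hide (T.a 2 5 = 3 * T.w 2 ∧ T.a 5 2 = T.w 5) ∧ Hide (α25 = 3 ∧ α52 = 1)) ∧ q25 = 3) ∨ ((Hide (x25 = T.m 5 ∧ x52 = 4 * T.m 2) ∧ Hide (T.a 2 5 = T.w 2 ∧ T.a 5 2 = 4 * T.w 5) ∧ Hide (α25 = 1 ∧ α52 = 4)) ∧ q25 = 4) ∨ ((Hide (x25 = 4 * T.m 5 ∧ x52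 = T.m 2) ∧ Hide (T.a 2 5 = 4 * T.w 2 ∧ T.a 5 2 = T.w 5) ∧ Hide (α25 = 4 ∧ α52 = 1)) ∧ q25 = 4) ∨ ((Hide (x25 = 2 * T.m 5 ∧ x52 = 2 * T.m 2) ∧ Hide (T.a 2 5 = 2 * T.w 2 ∧ T.a 5 2 = 2 * T.w 5) ∧ Hide (α25 = 2 ∧ α52 = 2)) ∧ q25 = 4)))
    (c34 : Hide (((Hide (x34 = 0 ∧ x43 = 0) ∧ Hide (T.a 3 4 = 0 ∧ T.a 4 3 = 0) ∧ Hide (α34 = 0 ∧ α43 = 0)) ∧ q34 = 0) ∨ ((Hide (x34 = T.m 4 ∧ x43 = T.m 3) ∧ Hide (T.a 3 4 = T.w 3 ∧ T.a 4 3 = T.w 4) ∧ Hide (α34 = 1 ∧ α43 = 1)) ∧ q34 = 1) ∨ ((Hide (x34 = T.m 4 ∧ x43 = 2 * T.m 3) ∧ Hide (T.a 3 4 = T.w 3 ∧ T.a 4 3 = 2 * T.w 4) ∧ Hide (α34 = 1 ∧ α43 = 2)) ∧ q34 = 2) ∨ ((Hide (x34 = 2 * T.m 4 ∧ x43 = T.m 3) ∧ Hide (T.a 3 4 = 2 * T.w 3 ∧ T.a 4 3 = T.w 4) ∧ Hide (α34 = 2 ∧ α43 = 1)) ∧ q34 = 2) ∨ ((Hide (x34 = T.m 4 ∧ x43 = 3 * T.m 3) ∧ Hide (T.a 3 4 = T.w 3 ∧ T.a 4 3 = 3 * T.w 4) ∧ Hide (α34 = 1 ∧ α43 = 3)) ∧ q34 = 3) ∨ ((Hide (x34 = 3 * T.m 4 ∧ x43 = T.m 3) ∧ Hide (T.a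 3 4 = 3 * T.w 3 ∧ T.a 4 3 = T.w 4) ∧ Hide (α34 = 3 ∧ α43 = 1)) ∧ q34 = 3) ∨ ((Hide (x34 = T.m 4 ∧ x43 = 4 * T.m 3) ∧ Hide (T.a 3 4 = T.w 3 ∧ T.a 4 3 = 4 * T.w 4) ∧ Hide (α34 = 1 ∧ α43 = 4)) ∧ q34 = 4) ∨ ((Hide (x34 = 4 * T.m 4 ∧ x43 = T.m 3) ∧ Hide (T.a 3 4 = 4 * T.w 3 ∧ T.a 4 3 = T.w 4) ∧ Hide (α34 = 4 ∧ α43 = 1)) ∧ q34 = 4) ∨ ((Hide (x34 = 2 * T.m 4 ∧ x43 = 2 * T.m 3) ∧ Hide (T.a 3 4 = 2 * T.w 3 ∧ T.a 4 3 = 2 * T.w 4) ∧ Hide (α34 = 2 ∧ α43 = 2)) ∧ q34 = 4)))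
    (c35 : Hide (((Hide (x35 = 0 ∧ x53 = 0) ∧ Hide (T.a 3 5 = 0 ∧ T.a 5 3 = 0) ∧ Hide (α35 = 0 ∧ α53 = 0)) ∧ q35 = 0) ∨ ((Hide (x35 = T.m 5 ∧ x53 = T.m 3) ∧ Hide (T.a 3 5 = T.w 3 ∧ T.a 5 3 = T.w 5) ∧ Hide (α35 = 1 ∧ α53 = 1)) ∧ q35 = 1) ∨ ((Hide (x35 = T.m 5 ∧ x53 = 2 * T.m 3) ∧ Hide (T.a 3 5 = T.w 3 ∧ T.a 5 3 = 2 * T.w 5) ∧ Hide (α35 = 1 ∧ α53 = 2)) ∧ q35 = 2) ∨ ((Hide (x35 = 2 * T.m 5 ∧ x53 = T.m 3) ∧ Hide (T.a 3 5 = 2 * T.w 3 ∧ T.a 5 3 = T.w 5) ∧ Hide (α35 = 2 ∧ α53 = 1)) ∧ q35 = 2) ∨ ((Hide (x35 = T.m 5 ∧ x53 = 3 * T.m 3) ∧ Hide (T.a 3 5 = T.w 3 ∧ T.a 5 3 = 3 * T.w 5) ∧ Hide (α35 = 1 ∧ α53 = 3)) ∧ q35 = 3) ∨ ((Hide (x35 = 3 * T.m 5 ∧ x53 = T.m 3) ∧ Hide (T.a 3 5 = 3 * T.w 3 ∧ T.a 5 3 = T.w 5) ∧ Hide (α35 = 3 ∧ α53 = 1)) ∧ q35 = 3) ∨ ((Hide (x35 = T.m 5 ∧ x53 = 4 * T.m 3) ∧ Hide (T.a 3 5 = T.w 3 ∧ T.a 5 3 = 4 * T.w 5) ∧ Hide (α35 = 1 ∧ α53 = 4)) ∧ q35 = 4) ∨ ((Hide (x35 = 4 * T.m 5 ∧ x53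 = T.m 3) ∧ Hide (T.a 3 5 = 4 * T.w 3 ∧ T.a 5 3 = T.w 5) ∧ Hide (α35 = 4 ∧ α53 = 1)) ∧ q35 = 4) ∨ ((Hide (x35 = 2 * T.m 5 ∧ x53 = 2 * T.m 3) ∧ Hide (T.a 3 5 = 2 * T.w 3 ∧ T.a 5 3 = 2 * T.w 5) ∧ Hide (α35 = 2 ∧ α53 = 2)) ∧ q35 = 4)))
    (c45 : Hide (((Hide (x45 = 0 ∧ x54 = 0) ∧ Hide (T.a 4 5 = 0 ∧ T.a 5 4 = 0) ∧ Hide (α45 = 0 ∧ α54 = 0)) ∧ q45 = 0) ∨ ((Hide (x45 = T.m 5 ∧ x54 = T.m 4) ∧ Hide (T.a 4 5 = T.w 4 ∧ T.a 5 4 = T.w 5) ∧ Hide (α45 = 1 ∧ α54 = 1)) ∧ q45 = 1) ∨ ((Hide (x45 = T.m 5 ∧ x54 = 2 * T.m 4) ∧ Hide (T.a 4 5 = T.w 4 ∧ T.a 5 4 = 2 * T.w 5) ∧ Hide (α45 = 1 ∧ α54 = 2)) ∧ q45 = 2) ∨ ((Hide (x45 = 2 * T.m 5 ∧ x54 = T.m 4) ∧ Hide (T.a 4 5 = 2 * T.w 4 ∧ T.a 5 4 = T.w 5) ∧ Hide (α45 = 2 ∧ α54 = 1)) ∧ q45 = 2) ∨ ((Hide (x45 = T.m 5 ∧ x54 = 3 * T.m 4) ∧ Hide (T.a 4 5 = T.w 4 ∧ T.a 5 4 = 3 * T.w 5) ∧ Hide (α45 = 1 ∧ α54 = 3)) ∧ q45 = 3) ∨ ((Hide (x45 = 3 * T.m 5 ∧ x54 = T.m 4) ∧ Hide (T.a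 4 5 = 3 * T.w 4 ∧ T.a 5 4 = T.w 5) ∧ Hide (α45 = 3 ∧ α54 = 1)) ∧ q45 = 3) ∨ ((Hide (x45 = T.m 5 ∧ x54 = 4 * T.m 4) ∧ Hide (T.a 4 5 = T.w 4 ∧ T.a 5 4 = 4 * T.w 5) ∧ Hide (α45 = 1 ∧ α54 = 4)) ∧ q45 = 4) ∨ ((Hide (x45 = 4 * T.m 5 ∧ x54 = T.m 4) ∧ Hide (T.a 4 5 = 4 * T.w 4 ∧ T.a 5 4 = T.w 5) ∧ Hide (α45 = 4 ∧ α54 = 1)) ∧ q45 = 4) ∨ ((Hide (x45 = 2 * T.m 5 ∧ x54 = 2 * T.m 4) ∧ Hide (T.a 4 5 = 2 * T.w 4 ∧ T.a 5 4 = 2 * T.w 5) ∧ Hide (α45 = 2 ∧ α54 = 2)) ∧ q45 = 4)))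
    (gw01 : Hide (T.a 0 1 = T.w 0 ∧ T.a 1 0 = T.w 1))
    (gw02 : Hide (T.a 0 2 = 0 ∧ T.a 2 0 = 0))
    (gw03 : Hide (T.a 0 3 = 0 ∧ T.a 3 0 = 0))
    (gw04 : Hide (T.a 0 4 = 0 ∧ T.a 4 0 = 0))
    (gw05 : Hide (T.a 0 5 = 0 ∧ T.a 5 0 = 0))
    (gw12 : Hide (T.a 1 2 = T.w 1 ∧ T.a 2 1 = T.w 2))
    (gw13 : Hide (T.a 1 3 = 0 ∧ T.a 3 1 = 0))
    (gw14 : Hide (T.a 1 4 = 0 ∧ T.a 4 1 = 0)) : Goal T := by
  have t := pc2 q15 c15.out (by have := v1.out; omega)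
  clear c15
  rcases t with ⟨⟨⟨rfl, rfl⟩, gw15, ⟨rfl, rfl⟩⟩, rfl⟩ | ⟨⟨⟨rfl, rfl⟩, gw15, ⟨rfl, rfl⟩⟩, rfl⟩ | ⟨⟨⟨rfl, rfl⟩, gw15, ⟨rfl, rfl⟩⟩, rfl⟩ | ⟨⟨⟨rfl, rfl⟩, gw15, ⟨rfl, rfl⟩⟩, rfl⟩
  · have t := pc3 q23 c23.out (by have := v2.out; have := qn24.out; have := qn25.out; omega)
    clear c23
    rcases t with ⟨⟨⟨rfl, rfl⟩, gw23, ⟨rfl, rfl⟩⟩, rfl⟩ | ⟨⟨⟨rfl, rfl⟩, gw23, ⟨rfl, rfl⟩⟩, rfl⟩ | ⟨⟨⟨rfl, rfl⟩, gw23, ⟨rfl, rfl⟩⟩, rfl⟩ | ⟨⟨⟨rfl, rfl⟩, gw23, ⟨rfl, rfl⟩⟩, rfl⟩ | ⟨⟨⟨rfl, rfl⟩, gw23, ⟨rfl, rfl⟩⟩, rfl⟩ | ⟨⟨⟨rfl, rfl⟩, gw23, ⟨rfl, rfl⟩⟩, rfl⟩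
    · (have := od3.out; omega)
    · have t := pc2 q24 c24.out (by have := v2.out; have := qn25.out; omega)
      clear c24
      rcases t with ⟨⟨⟨rfl, rfl⟩, gw24, ⟨rfl, rfl⟩⟩, rfl⟩ | ⟨⟨⟨rfl, rfl⟩, gw24, ⟨rfl, rfl⟩⟩, rfl⟩ | ⟨⟨⟨rfl, rfl⟩, gw24, ⟨rfl, rfl⟩⟩, rfl⟩ | ⟨⟨⟨rfl, rfl⟩, gw24, ⟨rfl, rfl⟩⟩, rfl⟩
      · have t := pc2 q25 c25.out (by have := v2.out; omega)
        clear c25
        rcases t with ⟨⟨⟨rfl, rfl⟩, gw25, ⟨rfl, rfl⟩⟩, rfl⟩ | ⟨⟨⟨rfl, rfl⟩, gw25, ⟨rfl, rfl⟩⟩, rfl⟩ | ⟨⟨⟨rfl, rfl⟩, gw25, ⟨rfl, rfl⟩⟩, rfl⟩ | ⟨⟨⟨rfl, rfl⟩, gw25, ⟨rfl, rfl⟩⟩, rfl⟩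
        · have t := pc3 q34 c34.out (by have := v3.out; have := qn35.out; omega)
          clear c34
          rcases t with ⟨⟨⟨rfl, rfl⟩, gw34, ⟨rfl, rfl⟩⟩, rfl⟩ | ⟨⟨⟨rfl, rfl⟩, gw34, ⟨rfl, rfl⟩⟩, rfl⟩ | ⟨⟨⟨rfl, rfl⟩, gw34, ⟨rfl, rfl⟩⟩, rfl⟩ | ⟨⟨⟨rfl, rfl⟩, gw34, ⟨rfl, rfl⟩⟩, rfl⟩ | ⟨⟨⟨rfl, rfl⟩, gw34, ⟨rfl, rfl⟩⟩, rfl⟩ | ⟨⟨⟨rfl, rfl⟩, gw34, ⟨rfl, rfl⟩⟩, rfl⟩
          · (have := od4.out; omega)
          · have t := pc2 q35 c35.out (by have := v3.out; omega)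
            clear c35
            rcases t with ⟨⟨⟨rfl, rfl⟩, gw35, ⟨rfl, rfl⟩⟩, rfl⟩ | ⟨⟨⟨rfl, rfl⟩, gw35, ⟨rfl, rfl⟩⟩, rfl⟩ | ⟨⟨⟨rfl, rfl⟩, gw35, ⟨rfl, rfl⟩⟩, rfl⟩ | ⟨⟨⟨rfl, rfl⟩, gw35, ⟨rfl, rfl⟩⟩, rfl⟩
            · have t := pc3 q45 c45.out (by have := v4.out; omega)
              clear c45
              rcases t with ⟨⟨⟨rfl, rfl⟩, gw45, ⟨rfl, rfl⟩⟩, rfl⟩ | ⟨⟨⟨rfl, rfl⟩, gw45, ⟨rfl, rfl⟩⟩, rfl⟩ | ⟨⟨⟨rfl, rfl⟩, gw45, ⟨rfl, rfl⟩⟩, rfl⟩ | ⟨⟨⟨rfl, rfl⟩, gw45, ⟨rfl, rfl⟩⟩, rfl⟩ | ⟨⟨⟨rfl, rfl⟩, gw45, ⟨rfl, rfl⟩⟩, rfl⟩ | ⟨⟨⟨rfl, rfl⟩, gw45, ⟨rfl, rfl⟩⟩, rfl⟩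
              · (have := od5.out; omega)
              · (have := hm2.out; have := om5.out; have := e0.out; have := e1.out; have := e3.out; have := e4.out; have := e5.out; omega)
              · (have := hm0.out; have := e0.out; have := e1.out; have := e2.out; have := e3.out; have := e4.out; have := e5.out; omega)
              · (have := hm2.out; have := e0.out; have := e1.out; have := e2.out; have := e3.out; have := e4.out; have := e5.out; omega)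
              · (have := hm2.out; have := e3.out; have := e4.out; have := e5.out; omega)
              · (have := hm2.out; have := e3.out; have := e4.out; have := e5.out; omega)
            · have t := pc3 q45 c45.out (by have := v4.out; omega)
              clear c45
              rcases t with ⟨⟨⟨rfl, rfl⟩, gw45, ⟨rfl, rfl⟩⟩, rfl⟩ | ⟨⟨⟨rfl, rfl⟩, gw45, ⟨rfl, rfl⟩⟩, rfl⟩ | ⟨⟨⟨rfl, rfl⟩, gw45, ⟨rfl, rfl⟩⟩, rfl⟩ | ⟨⟨⟨rfl, rfl⟩, gw45, ⟨rfl, rfl⟩⟩, rfl⟩ | ⟨⟨⟨rfl, rfl⟩, gw45, ⟨rfl, rfl⟩⟩, rfl⟩ | ⟨⟨⟨rfl, rfl⟩, gw45, ⟨rfl, rfl⟩⟩, rfl⟩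
              · (have := hm4.out; have := om5.out; have := e1.out; have := e2.out; have := e3.out; have := e4.out; have := e5.out; omega)
              · (have := hm2.out; have := e3.out; have := e4.out; have := e5.out; omega)
              · (have := hm1.out; have := om4.out; have := e1.out; have := e3.out; have := e4.out; have := e5.out; omega)
              · (have := hm1.out; have := hm4.out; have := e2.out; have := e3.out; have := e4.out; have := e5.out; omega)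
              · (have := hm1.out; have := hm3.out; have := om4.out; have := e1.out; have := e3.out; have := e4.out; have := e5.out; omega)
              · (have := hm1.out; have := hm3.out; have := om4.out; have := e1.out; have := e3.out; have := e4.out; have := e5.out; omega)
            · (have := hm1.out; have := e2.out; have := e3.out; have := e4.out; have := r45.out; have := e5.out; have := r54.out; omega)
            · (have := hm1.out; have := e2.out; have := e3.out; have := e4.out; have := r45.out; have := e5.out; have := r54.out; omega)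
          · have t := pc1 q35 c35.out (by have := v3.out; omega)
            clear c35
            rcases t with ⟨⟨⟨rfl, rfl⟩, gw35, ⟨rfl, rfl⟩⟩, rfl⟩ | ⟨⟨⟨rfl, rfl⟩, gw35, ⟨rfl, rfl⟩⟩, rfl⟩
            · have t := pc2 q45 c45.out (by have := v4.out; omega)
              clear c45
              rcases t with ⟨⟨⟨rfl, rfl⟩, gw45, ⟨rfl, rfl⟩⟩, rfl⟩ | ⟨⟨⟨rfl, rfl⟩, gw45, ⟨rfl, rfl⟩⟩, rfl⟩ | ⟨⟨⟨rfl, rfl⟩, gw45, ⟨rfl, rfl⟩⟩, rfl⟩ | ⟨⟨⟨rfl, rfl⟩, gw45, ⟨rfl, rfl⟩⟩, rfl⟩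
              · (have := od5.out; omega)
              · (have := hm0.out; have := e1.out; have := e2.out; have := e3.out; have := e4.out; have := e5.out; omega)
              · (have := hm2.out; have := e3.out; have := e4.out; have := e5.out; omega)
              · (have := hm2.out; have := e3.out; have := e4.out; have := e5.out; omega)
            · (have := hm1.out; have := e2.out; have := e3.out; have := e4.out; have := r45.out; have := e5.out; have := r54.out; omega)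
          · have t := pc1 q35 c35.out (by have := v3.out; omega)
            clear c35
            rcases t with ⟨⟨⟨rfl, rfl⟩, gw35, ⟨rfl, rfl⟩⟩, rfl⟩ | ⟨⟨⟨rfl, rfl⟩, gw35, ⟨rfl, rfl⟩⟩, rfl⟩
            · have t := pc2 q45 c45.out (by have := v4.out; omega)
              clear c45
              rcases t with ⟨⟨⟨rfl, rfl⟩, gw45, ⟨rfl, rfl⟩⟩, rfl⟩ | ⟨⟨⟨rfl, rfl⟩, gw45, ⟨rfl, rfl⟩⟩, rfl⟩ | ⟨⟨⟨rfl, rfl⟩, gw45, ⟨rfl, rfl⟩⟩, rfl⟩ | ⟨⟨⟨rfl, rfl⟩, gw45, ⟨rfl, rfl⟩⟩, rfl⟩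
              · (have := od5.out; omega)
              · (have := hm0.out; have := e1.out; have := e2.out; have := e3.out; have := e4.out; have := e5.out; omega)
              · (have := hm2.out; have := e3.out; have := e4.out; have := e5.out; omega)
              · (have := hm2.out; have := e3.out; have := e4.out; have := e5.out; omega)
            · (have := hm1.out; have := e2.out; have := e3.out; have := e4.out; have := r45.out; have := e5.out; have := r54.out; omega)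
          · (have := hm1.out; have := e2.out; have := e3.out; have := r35.out; have := e4.out; have := r45.out; omega)
          · (have := hm1.out; have := e2.out; have := e3.out; have := r35.out; have := e4.out; have := r45.out; omega)
        · have t := pc3 q34 c34.out (by have := v3.out; have := qn35.out; omega)
          clear c34
          rcases t with ⟨⟨⟨rfl, rfl⟩, gw34, ⟨rfl, rfl⟩⟩, rfl⟩ | ⟨⟨⟨rfl, rfl⟩, gw34, ⟨rfl, rfl⟩⟩, rfl⟩ | ⟨⟨⟨rfl, rfl⟩, gw34, ⟨rfl, rfl⟩⟩, rfl⟩ | ⟨⟨⟨rfl, rfl⟩, gw34, ⟨rfl, rfl⟩⟩, rfl⟩ | ⟨⟨⟨rfl, rfl⟩, gw34, ⟨rfl, rfl⟩⟩, rfl⟩ | ⟨⟨⟨rfl, rfl⟩, gw34, ⟨rfl, rfl⟩⟩, rfl⟩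
          · (have := od4.out; omega)
          · have t := pc2 q35 c35.out (by have := v3.out; omega)
            clear c35
            rcases t with ⟨⟨⟨rfl, rfl⟩, gw35, ⟨rfl, rfl⟩⟩, rfl⟩ | ⟨⟨⟨rfl, rfl⟩, gw35, ⟨rfl, rfl⟩⟩, rfl⟩ | ⟨⟨⟨rfl, rfl⟩, gw35, ⟨rfl, rfl⟩⟩, rfl⟩ | ⟨⟨⟨rfl, rfl⟩, gw35, ⟨rfl, rfl⟩⟩, rfl⟩
            · have t := pc3 q45 c45.out (by have := v4.out; omega)
              clear c45
              rcases t with ⟨⟨⟨rfl, rfl⟩, gw45, ⟨rfl, rfl⟩⟩, rfl⟩ | ⟨⟨⟨rfl, rfl⟩, gw45, ⟨rfl, rfl⟩⟩, rfl⟩ | ⟨⟨⟨rfl, rfl⟩, gw45, ⟨rfl, rfl⟩⟩, rfl⟩ | ⟨⟨⟨rfl, rfl⟩, gw45, ⟨rfl, rfl⟩⟩, rfl⟩ | ⟨⟨⟨rfl, rfl⟩, gw45, ⟨rfl, rfl⟩⟩, rfl⟩ | ⟨⟨⟨rfl, rfl⟩, gw45, ⟨rfl, rfl⟩⟩, rfl⟩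
              · (have := hm4.out; have := om5.out; have := e1.out; have := e2.out; have := e3.out; have := e4.out; have := e5.out; omega)
              · (have := hm1.out; have := e2.out; have := e3.out; have := e4.out; have := e5.out; omega)
              · (have := hm1.out; have := hm3.out; have := e2.out; have := e3.out; have := e4.out; have := e5.out; omega)
              · (have := hm1.out; have := hm3.out; have := e2.out; have := e3.out; have := e4.out; have := e5.out; omega)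
              · (have := hm2.out; have := e3.out; have := e4.out; have := e5.out; omega)
              · (have := hm2.out; have := e3.out; have := e4.out; have := e5.out; omega)
            · (have := hm1.out; have := hm4.out; have := e2.out; have := e3.out; have := e5.out; have := r54.out; omega)
            · (have := hm1.out; have := hm3.out; have := hm4.out; have := e2.out; have := e3.out; have := e5.out; have := r54.out; omega)
            · (have := hm1.out; have := om4.out; have := e1.out; have := e2.out; have := e3.out; have := e5.out; have := r54.out; omega)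
          · (have := hm0.out; have := e1.out; have := e2.out; have := e3.out; have := r35.out; have := e4.out; have := r45.out; have := e5.out; have := r53.out; have := r54.out; omega)
          · (have := hm0.out; have := e1.out; have := e2.out; have := e3.out; have := r35.out; have := e4.out; have := r45.out; have := e5.out; have := r53.out; have := r54.out; omega)
          · (have := hm1.out; have := hm5.out; have := e2.out; have := e3.out; have := r35.out; have := e4.out; have := r45.out; omega)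
          · (have := hm4.out; have := om4.out; have := e0.out; have := e1.out; have := e2.out; have := e3.out; have := r35.out; have := e5.out; have := r53.out; have := r54.out; omega)
        · (have := hm0.out; have := e1.out; have := e2.out; have := e3.out; have := r34.out; have := r35.out; have := e5.out; have := r53.out; have := r54.out; omega)
        · (have := hm0.out; have := e1.out; have := e2.out; have := e3.out; have := r34.out; have := r35.out; have := e5.out; have := r53.out; have := r54.out; omega)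
      · have t := pc1 q25 c25.out (by have := v2.out; omega)
        clear c25
        rcases t with ⟨⟨⟨rfl, rfl⟩, gw25, ⟨rfl, rfl⟩⟩, rfl⟩ | ⟨⟨⟨rfl, rfl⟩, gw25, ⟨rfl, rfl⟩⟩, rfl⟩
        · have t := pc3 q34 c34.out (by have := v3.out; have := qn35.out; omega)
          clear c34
          rcases t with ⟨⟨⟨rfl, rfl⟩, gw34, ⟨rfl, rfl⟩⟩, rfl⟩ | ⟨⟨⟨rfl, rfl⟩, gw34, ⟨rfl, rfl⟩⟩, rfl⟩ | ⟨⟨⟨rfl, rfl⟩, gw34, ⟨rfl, rfl⟩⟩, rfl⟩ | ⟨⟨⟨rfl, rfl⟩, gw34, ⟨rfl, rfl⟩⟩, rfl⟩ | ⟨⟨⟨rfl, rfl⟩, gw34, ⟨rfl, rfl⟩⟩, rfl⟩ | ⟨⟨⟨rfl, rfl⟩, gw34, ⟨rfl, rfl⟩⟩, rfl⟩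
          · have t := pc3 q35 c35.out (by have := v3.out; omega)
            clear c35
            rcases t with ⟨⟨⟨rfl, rfl⟩, gw35, ⟨rfl, rfl⟩⟩, rfl⟩ | ⟨⟨⟨rfl, rfl⟩, gw35, ⟨rfl, rfl⟩⟩, rfl⟩ | ⟨⟨⟨rfl, rfl⟩, gw35, ⟨rfl, rfl⟩⟩, rfl⟩ | ⟨⟨⟨rfl, rfl⟩, gw35, ⟨rfl, rfl⟩⟩, rfl⟩ | ⟨⟨⟨rfl, rfl⟩, gw35, ⟨rfl, rfl⟩⟩, rfl⟩ | ⟨⟨⟨rfl, rfl⟩, gw35, ⟨rfl, rfl⟩⟩, rfl⟩
            · have t := pc3 q45 c45.out (by have := v4.out; omega)
              clear c45
              rcases t with ⟨⟨⟨rfl, rfl⟩, gw45, ⟨rfl, rfl⟩⟩, rfl⟩ | ⟨⟨⟨rfl, rfl⟩, gw45, ⟨rfl, rfl⟩⟩, rfl⟩ | ⟨⟨⟨rfl, rfl⟩, gw45, ⟨rfl, rfl⟩⟩, rfl⟩ | ⟨⟨⟨rfl, rfl⟩, gw45, ⟨rfl, rfl⟩⟩, rfl⟩ | ⟨⟨⟨rfl, rfl⟩, gw45, ⟨rfl, rfl⟩⟩, rfl⟩ | ⟨⟨⟨rfl, rfl⟩, gw45, ⟨rfl, rfl⟩⟩, rfl⟩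
              · (have := od5.out; omega)
              · (have := hm5.out; have := om3.out; have := e1.out; have := e2.out; have := e3.out; have := e4.out; have := e5.out; omega)
              · (have := hm0.out; have := e1.out; have := e2.out; have := e3.out; have := e4.out; have := e5.out; omega)
              · (have := hm0.out; have := e1.out; have := e2.out; have := e3.out; have := e4.out; have := e5.out; omega)
              · (have := hm1.out; have := hm3.out; have := e2.out; have := e4.out; have := e5.out; omega)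
              · (have := hm1.out; have := hm3.out; have := e2.out; have := e4.out; have := e5.out; omega)
            · have t := pc3 q45 c45.out (by have := v4.out; omega)
              clear c45
              rcases t with ⟨⟨⟨rfl, rfl⟩, gw45, ⟨rfl, rfl⟩⟩, rfl⟩ | ⟨⟨⟨rfl, rfl⟩, gw45, ⟨rfl, rfl⟩⟩, rfl⟩ | ⟨⟨⟨rfl, rfl⟩, gw45, ⟨rfl, rfl⟩⟩, rfl⟩ | ⟨⟨⟨rfl, rfl⟩, gw45, ⟨rfl, rfl⟩⟩, rfl⟩ | ⟨⟨⟨rfl, rfl⟩, gw45, ⟨rfl, rfl⟩⟩, rfl⟩ | ⟨⟨⟨rfl, rfl⟩, gw45, ⟨rfl, rfl⟩⟩, rfl⟩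
              · (have := hm5.out; have := om4.out; have := e1.out; have := e2.out; have := e3.out; have := e4.out; have := e5.out; omega)
              · (have := hm1.out; have := e2.out; have := e3.out; have := e4.out; have := e5.out; omega)
              · (have := hm1.out; have := hm3.out; have := e2.out; have := e3.out; have := e4.out; have := e5.out; omega)
              · (have := hm1.out; have := hm3.out; have := e2.out; have := e3.out; have := e4.out; have := e5.out; omega)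
              · (have := hm2.out; have := e3.out; have := e4.out; have := e5.out; omega)
              · (have := hm2.out; have := e3.out; have := e4.out; have := e5.out; omega)
            · (have := hm0.out; have := e1.out; have := e2.out; have := e3.out; have := e4.out; have := r45.out; have := e5.out; have := r54.out; omega)
            · (have := hm0.out; have := e1.out; have := e2.out; have := e3.out; have := e4.out; have := r45.out; have := e5.out; have := r54.out; omega)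
            · (have := hm1.out; have := hm4.out; have := e2.out; have := e3.out; have := e5.out; have := r54.out; omega)
            · (have := hm1.out; have := hm4.out; have := e2.out; have := e3.out; have := e5.out; have := r54.out; omega)
          · (have := hm1.out; have := e2.out; have := e3.out; have := r35.out; have := e4.out; have := r45.out; omega)
          · (have := hm1.out; have := hm3.out; have := e2.out; have := e3.out; have := r35.out; have := e4.out; have := r45.out; omega)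
          · (have := hm0.out; have := om3.out; have := e1.out; have := e2.out; have := e3.out; have := r35.out; have := e4.out; have := r45.out; omega)
          · (have := hm1.out; have := hm2.out; have := e2.out; have := e3.out; have := r35.out; have := e4.out; have := r45.out; omega)
          · (have := hm1.out; have := om3.out; have := e1.out; have := e2.out; have := e3.out; have := r35.out; have := e4.out; have := r45.out; omega)
        · (have := hm0.out; have := e1.out; have := e2.out; have := e3.out; have := r34.out; have := r35.out; have := e4.out; have := r43.out; have := r45.out; have := e5.out; have := r53.out; have := r54.out; omega)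
      · (have := hm0.out; have := e1.out; have := e2.out; have := r25.out; have := e3.out; have := r34.out; have := r35.out; have := e4.out; have := r43.out; have := r45.out; omega)
      · (have := hm0.out; have := e1.out; have := e2.out; have := r25.out; have := e3.out; have := r34.out; have := r35.out; have := e4.out; have := r43.out; have := r45.out; omega)
    · have t := pc1 q24 c24.out (by have := v2.out; have := qn25.out; omega)
      clear c24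
      rcases t with ⟨⟨⟨rfl, rfl⟩, gw24, ⟨rfl, rfl⟩⟩, rfl⟩ | ⟨⟨⟨rfl, rfl⟩, gw24, ⟨rfl, rfl⟩⟩, rfl⟩
      · have t := pc1 q25 c25.out (by have := v2.out; omega)
        clear c25
        rcases t with ⟨⟨⟨rfl, rfl⟩, gw25, ⟨rfl, rfl⟩⟩, rfl⟩ | ⟨⟨⟨rfl, rfl⟩, gw25, ⟨rfl, rfl⟩⟩, rfl⟩
        · have t := pc2 q34 c34.out (by have := v3.out; have := qn35.out; omega)
          clear c34
          rcases t with ⟨⟨⟨rfl, rfl⟩, gw34, ⟨rfl, rfl⟩⟩, rfl⟩ | ⟨⟨⟨rfl, rfl⟩, gw34, ⟨rfl, rfl⟩⟩, rfl⟩ | ⟨⟨⟨rfl, rfl⟩, gw34, ⟨rfl, rfl⟩⟩, rfl⟩ | ⟨⟨⟨rfl, rfl⟩, gw34, ⟨rfl, rfl⟩⟩, rfl⟩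
          · (have := od4.out; omega)
          · have t := pc1 q35 c35.out (by have := v3.out; omega)
            clear c35
            rcases t with ⟨⟨⟨rfl, rfl⟩, gw35, ⟨rfl, rfl⟩⟩, rfl⟩ | ⟨⟨⟨rfl, rfl⟩, gw35, ⟨rfl, rfl⟩⟩, rfl⟩
            · have t := pc3 q45 c45.out (by have := v4.out; omega)
              clear c45
              rcases t with ⟨⟨⟨rfl, rfl⟩, gw45, ⟨rfl, rfl⟩⟩, rfl⟩ | ⟨⟨⟨rfl, rfl⟩, gw45, ⟨rfl, rfl⟩⟩, rfl⟩ | ⟨⟨⟨rfl, rfl⟩, gw45, ⟨rfl, rfl⟩⟩, rfl⟩ | ⟨⟨⟨rfl, rfl⟩, gw45, ⟨rfl, rfl⟩⟩, rfl⟩ | ⟨⟨⟨rfl, rfl⟩, gw45, ⟨rfl, rfl⟩⟩, rfl⟩ | ⟨⟨⟨rfl, rfl⟩, gw45, ⟨rfl, rfl⟩⟩, rfl⟩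
              · (have := od5.out; omega)
              · (have := hm5.out; have := e0.out; have := e1.out; have := e2.out; have := e3.out; have := e4.out; omega)
              · (have := hm5.out; have := e0.out; have := e1.out; have := e2.out; have := e3.out; have := e4.out; omega)
              · (have := hm1.out; have := e2.out; have := e3.out; have := e4.out; have := e5.out; omega)
              · (have := hm2.out; have := e3.out; have := e4.out; have := e5.out; omega)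
              · (have := hm2.out; have := e3.out; have := e4.out; have := e5.out; omega)
            · (have := hm5.out; have := e0.out; have := e1.out; have := e2.out; have := e3.out; have := e4.out; have := r45.out; omega)
          · (have := hm1.out; have := e2.out; have := e3.out; have := r35.out; have := e4.out; have := r45.out; omega)
          · (have := hm1.out; have := e2.out; have := e3.out; have := r35.out; have := e4.out; have := r45.out; omega)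
        · (have := hm0.out; have := e1.out; have := e2.out; have := e3.out; have := r34.out; have := r35.out; have := e5.out; have := r53.out; have := r54.out; omega)
      · (have := hm0.out; have := e1.out; have := e2.out; have := r25.out; have := e3.out; have := r34.out; have := r35.out; have := e4.out; have := r43.out; have := r45.out; omega)
    · have t := pc1 q24 c24.out (by have := v2.out; have := qn25.out; omega)
      clear c24
      rcases t with ⟨⟨⟨rfl, rfl⟩, gw24, ⟨rfl, rfl⟩⟩, rfl⟩ | ⟨⟨⟨rfl, rfl⟩, gw24, ⟨rfl, rfl⟩⟩, rfl⟩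
      · have t := pc1 q25 c25.out (by have := v2.out; omega)
        clear c25
        rcases t with ⟨⟨⟨rfl, rfl⟩, gw25, ⟨rfl, rfl⟩⟩, rfl⟩ | ⟨⟨⟨rfl, rfl⟩, gw25, ⟨rfl, rfl⟩⟩, rfl⟩
        · have t := pc2 q34 c34.out (by have := v3.out; have := qn35.out; omega)
          clear c34
          rcases t with ⟨⟨⟨rfl, rfl⟩, gw34, ⟨rfl, rfl⟩⟩, rfl⟩ | ⟨⟨⟨rfl, rfl⟩, gw34, ⟨rfl, rfl⟩⟩, rfl⟩ | ⟨⟨⟨rfl, rfl⟩, gw34, ⟨rfl, rfl⟩⟩, rfl⟩ | ⟨⟨⟨rfl, rfl⟩, gw34, ⟨rfl, rfl⟩⟩, rfl⟩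
          · (have := od4.out; omega)
          · have t := pc1 q35 c35.out (by have := v3.out; omega)
            clear c35
            rcases t with ⟨⟨⟨rfl, rfl⟩, gw35, ⟨rfl, rfl⟩⟩, rfl⟩ | ⟨⟨⟨rfl, rfl⟩, gw35, ⟨rfl, rfl⟩⟩, rfl⟩
            · have t := pc3 q45 c45.out (by have := v4.out; omega)
              clear c45
              rcases t with ⟨⟨⟨rfl, rfl⟩, gw45, ⟨rfl, rfl⟩⟩, rfl⟩ | ⟨⟨⟨rfl, rfl⟩, gw45, ⟨rfl, rfl⟩⟩, rfl⟩ | ⟨⟨⟨rfl, rfl⟩, gw45, ⟨rfl, rfl⟩⟩, rfl⟩ | ⟨⟨⟨rfl, rfl⟩, gw45, ⟨rfl, rfl⟩⟩, rfl⟩ | ⟨⟨⟨rfl, rfl⟩, gw45, ⟨rfl, rfl⟩⟩, rfl⟩ | ⟨⟨⟨rfl, rfl⟩, gw45, ⟨rfl, rfl⟩⟩, rfl⟩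
              · (have := od5.out; omega)
              · (have := hm5.out; have := e0.out; have := e1.out; have := e2.out; have := e3.out; have := e4.out; omega)
              · (have := hm5.out; have := e0.out; have := e1.out; have := e2.out; have := e3.out; have := e4.out; omega)
              · (have := hm1.out; have := e2.out; have := e3.out; have := e4.out; have := e5.out; omega)
              · (have := hm2.out; have := e3.out; have := e4.out; have := e5.out; omega)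
              · (have := hm2.out; have := e3.out; have := e4.out; have := e5.out; omega)
            · (have := hm4.out; have := om5.out; have := e0.out; have := e1.out; have := e2.out; have := e3.out; omega)
          · (have := hm1.out; have := e2.out; have := e3.out; have := r35.out; have := e4.out; have := r45.out; omega)
          · (have := hm1.out; have := e2.out; have := e3.out; have := r35.out; have := e4.out; have := r45.out; omega)
        · (have := hm0.out; have := e1.out; have := e2.out; have := e3.out; have := r34.out; have := r35.out; have := e5.out; have := r53.out; have := r54.out; omega)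
      · (have := hm0.out; have := e1.out; have := e2.out; have := r25.out; have := e3.out; have := r34.out; have := r35.out; have := e4.out; have := r43.out; have := r45.out; omega)
    · (have := hm0.out; have := e1.out; have := e2.out; have := r24.out; have := r25.out; have := e3.out; have := r34.out; have := r35.out; omega)
    · (have := hm0.out; have := e1.out; have := e2.out; have := r24.out; have := r25.out; have := e3.out; have := r34.out; have := r35.out; omega)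
  · have t := pc3 q23 c23.out (by have := v2.out; have := qn24.out; have := qn25.out; omega)
    clear c23
    rcases t with ⟨⟨⟨rfl, rfl⟩, gw23, ⟨rfl, rfl⟩⟩, rfl⟩ | ⟨⟨⟨rfl, rfl⟩, gw23, ⟨rfl, rfl⟩⟩, rfl⟩ | ⟨⟨⟨rfl, rfl⟩, gw23, ⟨rfl, rfl⟩⟩, rfl⟩ | ⟨⟨⟨rfl, rfl⟩, gw23, ⟨rfl, rfl⟩⟩, rfl⟩ | ⟨⟨⟨rfl, rfl⟩, gw23, ⟨rfl, rfl⟩⟩, rfl⟩ | ⟨⟨⟨rfl, rfl⟩, gw23, ⟨rfl, rfl⟩⟩, rfl⟩
    · (have := od3.out; omega)
    · have t := pc2 q24 c24.out (by have := v2.out; have := qn25.out; omega)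
      clear c24
      rcases t with ⟨⟨⟨rfl, rfl⟩, gw24, ⟨rfl, rfl⟩⟩, rfl⟩ | ⟨⟨⟨rfl, rfl⟩, gw24, ⟨rfl, rfl⟩⟩, rfl⟩ | ⟨⟨⟨rfl, rfl⟩, gw24, ⟨rfl, rfl⟩⟩, rfl⟩ | ⟨⟨⟨rfl, rfl⟩, gw24, ⟨rfl, rfl⟩⟩, rfl⟩
      · have t := pc2 q25 c25.out (by have := v2.out; omega)
        clear c25
        rcases t with ⟨⟨⟨rfl, rfl⟩, gw25, ⟨rfl, rfl⟩⟩, rfl⟩ | ⟨⟨⟨rfl, rfl⟩, gw25, ⟨rfl, rfl⟩⟩, rfl⟩ | ⟨⟨⟨rfl, rfl⟩, gw25, ⟨rfl, rfl⟩⟩, rfl⟩ | ⟨⟨⟨rfl, rfl⟩, gw25, ⟨rfl, rfl⟩⟩, rfl⟩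
        · have t := pc3 q34 c34.out (by have := v3.out; have := qn35.out; omega)
          clear c34
          rcases t with ⟨⟨⟨rfl, rfl⟩, gw34, ⟨rfl, rfl⟩⟩, rfl⟩ | ⟨⟨⟨rfl, rfl⟩, gw34, ⟨rfl, rfl⟩⟩, rfl⟩ | ⟨⟨⟨rfl, rfl⟩, gw34, ⟨rfl, rfl⟩⟩, rfl⟩ | ⟨⟨⟨rfl, rfl⟩, gw34, ⟨rfl, rfl⟩⟩, rfl⟩ | ⟨⟨⟨rfl, rfl⟩, gw34, ⟨rfl, rfl⟩⟩, rfl⟩ | ⟨⟨⟨rfl, rfl⟩, gw34, ⟨rfl, rfl⟩⟩, rfl⟩
          · (have := od4.out; omega)
          · have t := pc2 q35 c35.out (by have := v3.out; omega)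
            clear c35
            rcases t with ⟨⟨⟨rfl, rfl⟩, gw35, ⟨rfl, rfl⟩⟩, rfl⟩ | ⟨⟨⟨rfl, rfl⟩, gw35, ⟨rfl, rfl⟩⟩, rfl⟩ | ⟨⟨⟨rfl, rfl⟩, gw35, ⟨rfl, rfl⟩⟩, rfl⟩ | ⟨⟨⟨rfl, rfl⟩, gw35, ⟨rfl, rfl⟩⟩, rfl⟩
            · have t := pc3 q45 c45.out (by have := v4.out; omega)
              clear c45
              rcases t with ⟨⟨⟨rfl, rfl⟩, gw45, ⟨rfl, rfl⟩⟩, rfl⟩ | ⟨⟨⟨rfl, rfl⟩, gw45, ⟨rfl, rfl⟩⟩, rfl⟩ | ⟨⟨⟨rfl, rfl⟩, gw45, ⟨rfl, rfl⟩⟩, rfl⟩ | ⟨⟨⟨rfl, rfl⟩, gw45, ⟨rfl, rfl⟩⟩, rfl⟩ | ⟨⟨⟨rfl, rfl⟩, gw45, ⟨rfl, rfl⟩⟩, rfl⟩ | ⟨⟨⟨rfl, rfl⟩, gw45, ⟨rfl, rfl⟩⟩, rfl⟩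
              · (have := hm0.out; have := om4.out; have := e0.out; have := e1.out; have := e3.out; have := e4.out; have := e5.out; omega)
              · (have := hm0.out; have := e1.out; have := e2.out; have := e3.out; have := e4.out; have := e5.out; omega)
              · (have := hm3.out; have := om4.out; have := e0.out; have := e1.out; have := e2.out; have := e5.out; omega)
              · (have := hm3.out; have := om2.out; have := e0.out; have := e1.out; have := e4.out; have := e5.out; omega)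
              · (have := hm0.out; have := om4.out; have := e1.out; have := e2.out; have := e3.out; have := e4.out; have := e5.out; omega)
              · (have := hm0.out; have := hm3.out; have := om2.out; have := e1.out; have := e4.out; have := e5.out; omega)
            · (have := hm0.out; have := hm4.out; have := e1.out; have := e2.out; have := e3.out; have := e5.out; have := r54.out; omega)
            · (have := hm1.out; have := e2.out; have := e3.out; have := e4.out; have := r45.out; have := e5.out; have := r54.out; omega)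
            · (have := hm1.out; have := e2.out; have := e3.out; have := e4.out; have := r45.out; have := e5.out; have := r54.out; omega)
          · have t := pc1 q35 c35.out (by have := v3.out; omega)
            clear c35
            rcases t with ⟨⟨⟨rfl, rfl⟩, gw35, ⟨rfl, rfl⟩⟩, rfl⟩ | ⟨⟨⟨rfl, rfl⟩, gw35, ⟨rfl, rfl⟩⟩, rfl⟩
            · have t := pc2 q45 c45.out (by have := v4.out; omega)
              clear c45
              rcases t with ⟨⟨⟨rfl, rfl⟩, gw45, ⟨rfl, rfl⟩⟩, rfl⟩ | ⟨⟨⟨rfl, rfl⟩, gw45, ⟨rfl, rfl⟩⟩, rfl⟩ | ⟨⟨⟨rfl, rfl⟩, gw45, ⟨rfl, rfl⟩⟩, rfl⟩ | ⟨⟨⟨rfl, rfl⟩, gw45, ⟨rfl, rfl⟩⟩, rfl⟩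
              · have := hm0.out
                have := hm1.out
                have := hm2.out
                have := hm3.out
                have := hm4.out
                have := hm5.out
                have := e0.out
                have := e1.out
                have := e2.out
                have := e3.out
                have := e4.out
                have := e5.out
                have := hw0.out
                have := hw1.out
                have := hw2.out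
                have := hw3.out
                have := hw4.out
                have := hw5.out
                have := hs01.out
                have := hs02.out
                have := hs03.out
                have := hs04.out
                have := hs05.out
                have := hs12.out
                have := hs13.out
                have := hs14.out
                have := hs15.out
                have := hs23.out
                have := hs24.out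
                have := hs25.out
                have := hs34.out
                have := hs35.out
                have := hs45.out
                have := ha00.out
                have := ha11.out
                have := ha22.out
                have := ha33.out
                have := ha44.out
                have := ha55.out
                have := gw01.out
                have := gw02.out
                have := gw03.out
                have := gw04.out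
                have := gw05.out
                have := gw12.out
                have := gw13.out
                have := gw14.out
                have := gw15.out
                have := gw23.out
                have := gw24.out
                have := gw25.out
                have := gw34.out
                have := gw35.out
                have := gw45.out
                exact ⟨p432105, T.m 0, T.w 4, Or.inr (Or.inr (Or.inr (Or.inr (Or.inr (Or.inl ((show T.m 4 = 2 * T.m 0 ∧ T.m 3 = 2 * T.m 0 ∧ T.m 2 = 2 * T.m 0 ∧ T.m 1 = 2 * T.m 0 ∧ T.m 0 = T.m 0 ∧ T.m 5 = T.m 0 ∧ T.w 4 = T.w 4 ∧ T.w 3 = 2 * T.w 4 ∧ T.w 2 = 2 * T.w 4 ∧ T.w 1 = 2 * T.w 4 ∧ T.w 0 = 2 * T.w 4 ∧ T.w 5 = 2 * T.w 4 ∧ T.a 4 4 = -2 * T.w 4 ∧ T.a 4 3 = 2 * T.w 4 ∧ T.a 4 2 = 0 ∧ T.a 4 1 = 0 ∧ T.a 4 0 = 0 ∧ T.a 4 5 = 0 ∧ T.a 3 3 = -4 * T.w 4 ∧ T.a 3 2 = 2 * T.w 4 ∧ T.a 3 1 = 0 ∧ T.a 3 0 = 0 ∧ T.a 3 5 = 0 ∧ T.a 2 2 = -4 * T.w 4 ∧ T.a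 2 1 = 2 * T.w 4 ∧ T.a 2 0 = 0 ∧ T.a 2 5 = 0 ∧ T.a 1 1 = -4 * T.w 4 ∧ T.a 1 0 = 2 * T.w 4 ∧ T.a 1 5 = 2 * T.w 4 ∧ T.a 0 0 = -4 * T.w 4 ∧ T.a 0 5 = 0 ∧ T.a 5 5 = -4 * T.w 4 from by omega)))))))⟩
              · (have := hm0.out; have := om2.out; have := e0.out; have := e1.out; have := e3.out; have := e4.out; have := e5.out; omega)
              · (have := hm1.out; have := hm2.out; have := e3.out; have := e4.out; have := e5.out; omega)
              · (have := hm0.out; have := om4.out; have := e1.out; have := e2.out; have := e3.out; have := e4.out; have := e5.out; omega)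
            · (have := hm1.out; have := e2.out; have := e3.out; have := e4.out; have := r45.out; have := e5.out; have := r54.out; omega)
          · have t := pc1 q35 c35.out (by have := v3.out; omega)
            clear c35
            rcases t with ⟨⟨⟨rfl, rfl⟩, gw35, ⟨rfl, rfl⟩⟩, rfl⟩ | ⟨⟨⟨rfl, rfl⟩, gw35, ⟨rfl, rfl⟩⟩, rfl⟩
            · have t := pc2 q45 c45.out (by have := v4.out; omega)
              clear c45
              rcases t with ⟨⟨⟨rfl, rfl⟩, gw45, ⟨rfl, rfl⟩⟩, rfl⟩ | ⟨⟨⟨rfl, rfl⟩, gw45, ⟨rfl, rfl⟩⟩, rfl⟩ | ⟨⟨⟨rfl, rfl⟩, gw45, ⟨rfl, rfl⟩⟩, rfl⟩ | ⟨⟨⟨rfl, rfl⟩, gw45, ⟨rfl, rfl⟩⟩, rfl⟩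
              · have := hm0.out
                have := hm1.out
                have := hm2.out
                have := hm3.out
                have := hm4.out
                have := hm5.out
                have := e0.out
                have := e1.out
                have := e2.out
                have := e3.out
                have := e4.out
                have := e5.out
                have := hw0.out
                have := hw1.out
                have := hw2.out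
                have := hw3.out
                have := hw4.out
                have := hw5.out
                have := hs01.out
                have := hs02.out
                have := hs03.out
                have := hs04.out
                have := hs05.out
                have := hs12.out
                have := hs13.out
                have := hs14.out
                have := hs15.out
                have := hs23.out
                have := hs24.out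
                have := hs25.out
                have := hs34.out
                have := hs35.out
                have := hs45.out
                have := ha00.out
                have := ha11.out
                have := ha22.out
                have := ha33.out
                have := ha44.out
                have := ha55.out
                have := gw01.out
                have := gw02.out
                have := gw03.out
                have := gw04.out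
                have := gw05.out
                have := gw12.out
                have := gw13.out
                have := gw14.out
                have := gw15.out
                have := gw23.out
                have := gw24.out
                have := gw25.out
                have := gw34.out
                have := gw35.out
                have := gw45.out
                exact ⟨p432105, T.m 4, T.w 3, Or.inr (Or.inr (Or.inr (Or.inr (Or.inl ((show T.m 4 = T.m 4 ∧ T.m 3 = 2 * T.m 4 ∧ T.m 2 = 2 * T.m 4 ∧ T.m 1 = 2 * T.m 4 ∧ T.m 0 = T.m 4 ∧ T.m 5 = T.m 4 ∧ T.w 4 = 2 * T.w 3 ∧ T.w 3 = T.w 3 ∧ T.w 2 = T.w 3 ∧ T.w 1 = T.w 3 ∧ T.w 0 = T.w 3 ∧ T.w 5 = T.w 3 ∧ T.a 4 4 = -4 * T.w 3 ∧ T.a 4 3 = 2 * T.w 3 ∧ T.a 4 2 = 0 ∧ T.a 4 1 = 0 ∧ T.a 4 0 = 0 ∧ T.a 4 5 = 0 ∧ T.a 3 3 = -2 * T.w 3 ∧ T.a 3 2 = T.w 3 ∧ T.a 3 1 = 0 ∧ T.a 3 0 = 0 ∧ T.a 3 5 = 0 ∧ T.a 2 2 = -2 * T.w 3 ∧ T.a 2 1 = T.w 3 ∧ T.a 2 0 = 0 ∧ T.a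 2 5 = 0 ∧ T.a 1 1 = -2 * T.w 3 ∧ T.a 1 0 = T.w 3 ∧ T.a 1 5 = T.w 3 ∧ T.a 0 0 = -2 * T.w 3 ∧ T.a 0 5 = 0 ∧ T.a 5 5 = -2 * T.w 3 from by omega))))))⟩
              · (have := hm0.out; have := om4.out; have := e1.out; have := e2.out; have := e3.out; have := e4.out; have := e5.out; omega)
              · (have := hm3.out; have := om4.out; have := e0.out; have := e1.out; have := e2.out; have := e5.out; omega)
              · (have := hm3.out; have := om2.out; have := e0.out; have := e1.out; have := e4.out; have := e5.out; omega)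
            · (have := hm1.out; have := e2.out; have := e3.out; have := e4.out; have := r45.out; have := e5.out; have := r54.out; omega)
          · (have := hm1.out; have := e2.out; have := e3.out; have := r35.out; have := e4.out; have := r45.out; omega)
          · (have := hm1.out; have := e2.out; have := e3.out; have := r35.out; have := e4.out; have := r45.out; omega)
        · (have := hm0.out; have := om3.out; have := e1.out; have := e2.out; have := e5.out; have := r53.out; have := r54.out; omega)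
        · (have := hm2.out; have := om3.out; have := e0.out; have := e1.out; have := e2.out; have := e5.out; have := r53.out; have := r54.out; omega)
        · (have := hm3.out; have := om5.out; have := e0.out; have := e1.out; have := e2.out; omega)
      · have t := pc1 q25 c25.out (by have := v2.out; omega)
        clear c25
        rcases t with ⟨⟨⟨rfl, rfl⟩, gw25, ⟨rfl, rfl⟩⟩, rfl⟩ | ⟨⟨⟨rfl, rfl⟩, gw25, ⟨rfl, rfl⟩⟩, rfl⟩
        · have t := pc3 q34 c34.out (by have := v3.out; have := qn35.out; omega)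
          clear c34
          rcases t with ⟨⟨⟨rfl, rfl⟩, gw34, ⟨rfl, rfl⟩⟩, rfl⟩ | ⟨⟨⟨rfl, rfl⟩, gw34, ⟨rfl, rfl⟩⟩, rfl⟩ | ⟨⟨⟨rfl, rfl⟩, gw34, ⟨rfl, rfl⟩⟩, rfl⟩ | ⟨⟨⟨rfl, rfl⟩, gw34, ⟨rfl, rfl⟩⟩, rfl⟩ | ⟨⟨⟨rfl, rfl⟩, gw34, ⟨rfl, rfl⟩⟩, rfl⟩ | ⟨⟨⟨rfl, rfl⟩, gw34, ⟨rfl, rfl⟩⟩, rfl⟩
          · have t := pc3 q35 c35.out (by have := v3.out; omega)
            clear c35
            rcases t with ⟨⟨⟨rfl, rfl⟩, gw35, ⟨rfl, rfl⟩⟩, rfl⟩ | ⟨⟨⟨rfl, rfl⟩, gw35, ⟨rfl, rfl⟩⟩, rfl⟩ | ⟨⟨⟨rfl, rfl⟩, gw35, ⟨rfl, rfl⟩⟩, rfl⟩ | ⟨⟨⟨rfl, rfl⟩, gw35, ⟨rfl, rfl⟩⟩, rfl⟩ | ⟨⟨⟨rfl, rfl⟩, gw35, ⟨rfl, rfl⟩⟩, rfl⟩ | ⟨⟨⟨rfl, rfl⟩, gw35, ⟨rfl, rfl⟩⟩, rfl⟩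
            · have t := pc3 q45 c45.out (by have := v4.out; omega)
              clear c45
              rcases t with ⟨⟨⟨rfl, rfl⟩, gw45, ⟨rfl, rfl⟩⟩, rfl⟩ | ⟨⟨⟨rfl, rfl⟩, gw45, ⟨rfl, rfl⟩⟩, rfl⟩ | ⟨⟨⟨rfl, rfl⟩, gw45, ⟨rfl, rfl⟩⟩, rfl⟩ | ⟨⟨⟨rfl, rfl⟩, gw45, ⟨rfl, rfl⟩⟩, rfl⟩ | ⟨⟨⟨rfl, rfl⟩, gw45, ⟨rfl, rfl⟩⟩, rfl⟩ | ⟨⟨⟨rfl, rfl⟩, gw45, ⟨rfl, rfl⟩⟩, rfl⟩
              · have := hm0.out
                have := hm1.out
                have := hm2.out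
                have := hm3.out
                have := hm4.out
                have := hm5.out
                have := e0.out
                have := e1.out
                have := e2.out
                have := e3.out
                have := e4.out
                have := e5.out
                have := hw0.out
                have := hw1.out
                have := hw2.out
                have := hw3.out
                have := hw4.out
                have := hw5.out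
                have := hs01.out
                have := hs02.out
                have := hs03.out
                have := hs04.out
                have := hs05.out
                have := hs12.out
                have := hs13.out
                have := hs14.out
                have := hs15.out
                have := hs23.out
                have := hs24.out
                have := hs25.out
                have := hs34.out
                have := hs35.out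
                have := hs45.out
                have := ha00.out
                have := ha11.out
                have := ha22.out
                have := ha33.out
                have := ha44.out
                have := ha55.out
                have := gw01.out
                have := gw02.out
                have := gw03.out
                have := gw04.out
                have := gw05.out
                have := gw12.out
                have := gw13.out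
                have := gw14.out
                have := gw15.out
                have := gw23.out
                have := gw24.out
                have := gw25.out
                have := gw34.out
                have := gw35.out
                have := gw45.out
                exact ⟨p051234, T.m 0, T.w 0, Or.inr (Or.inr (Or.inr (Or.inr (Or.inr (Or.inr ((show T.m 0 = T.m 0 ∧ T.m 5 = T.m 0 ∧ T.m 1 = 2 * T.m 0 ∧ T.m 2 = 2 * T.m 0 ∧ T.m 3 = T.m 0 ∧ T.m 4 = T.m 0 ∧ T.w 0 = T.w 0 ∧ T.w 5 = T.w 0 ∧ T.w 1 = T.w 0 ∧ T.w 2 = T.w 0 ∧ T.w 3 = T.w 0 ∧ T.w 4 = T.w 0 ∧ T.a 0 0 = -2 * T.w 0 ∧ T.a 0 5 = 0 ∧ T.a 0 1 = T.w 0 ∧ T.a 0 2 = 0 ∧ T.a 0 3 = 0 ∧ T.a 0 4 = 0 ∧ T.a 5 5 = -2 * T.w 0 ∧ T.a 5 1 = T.w 0 ∧ T.a 5 2 = 0 ∧ T.a 5 3 = 0 ∧ T.a 5 4 = 0 ∧ T.a 1 1 = -2 * T.w 0 ∧ T.a 1 2 = T.w 0 ∧ T.a 1 3 = 0 ∧ T.a 1 4 = 0 ∧ T.a 2 2 = -2 * T.w 0 ∧ T.a 2 3 = T.w 0 ∧ T.a 2 4 = T.w 0 ∧ T.a 3 3 = -2 * T.w 0 ∧ T.a 3 4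 = 0 ∧ T.a 4 4 = -2 * T.w 0 from by omega)))))))⟩
              · (have := hm0.out; have := om3.out; have := e1.out; have := e2.out; have := e4.out; have := e5.out; omega)
              · (have := hm2.out; have := om2.out; have := e0.out; have := e1.out; have := e4.out; have := e5.out; omega)
              · (have := hm2.out; have := om2.out; have := e0.out; have := e1.out; have := e4.out; have := e5.out; omega)
              · (have := hm1.out; have := hm3.out; have := e2.out; have := e4.out; have := e5.out; omega)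
              · (have := hm0.out; have := hm2.out; have := e1.out; have := e4.out; have := e5.out; omega)
            · (have := hm0.out; have := om4.out; have := e1.out; have := e2.out; have := e3.out; have := e5.out; have := r54.out; omega)
            · (have := hm0.out; have := om2.out; have := e0.out; have := e1.out; have := e3.out; have := e5.out; have := r54.out; omega)
            · (have := hm0.out; have := hm4.out; have := om5.out; have := e1.out; have := e2.out; have := e3.out; have := e5.out; have := r54.out; omega)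
            · (have := hm0.out; have := hm2.out; have := e1.out; have := e3.out; have := e5.out; have := r54.out; omega)
            · (have := hm1.out; have := hm4.out; have := e2.out; have := e3.out; have := e5.out; have := r54.out; omega)
          · (have := hm3.out; have := om5.out; have := e0.out; have := e1.out; have := e2.out; have := e3.out; have := r35.out; have := e4.out; have := r45.out; omega)
          · (have := hm3.out; have := om3.out; have := om5.out; have := e0.out; have := e1.out; have := e2.out; have := e4.out; have := r45.out; omega)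
          · (have := hm0.out; have := hm3.out; have := om5.out; have := e1.out; have := e2.out; have := e3.out; have := r35.out; have := e4.out; have := r45.out; omega)
          · (have := hm0.out; have := om3.out; have := e0.out; have := e1.out; have := e2.out; have := e4.out; have := r45.out; have := e5.out; have := r53.out; have := r54.out; omega)
          · (have := hm0.out; have := om4.out; have := e0.out; have := e1.out; have := e2.out; have := e3.out; have := r35.out; have := e5.out; have := r53.out; have := r54.out; omega)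
        · (have := hm0.out; have := om3.out; have := om4.out; have := e1.out; have := e2.out; have := e5.out; have := r53.out; have := r54.out; omega)
      · (have := hm3.out; have := om5.out; have := e0.out; have := e1.out; have := e2.out; have := r25.out; have := e4.out; have := r43.out; have := r45.out; omega)
      · (have := hm3.out; have := om5.out; have := e0.out; have := e1.out; have := e2.out; have := r25.out; have := e4.out; have := r43.out; have := r45.out; omega)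
    · have t := pc1 q24 c24.out (by have := v2.out; have := qn25.out; omega)
      clear c24
      rcases t with ⟨⟨⟨rfl, rfl⟩, gw24, ⟨rfl, rfl⟩⟩, rfl⟩ | ⟨⟨⟨rfl, rfl⟩, gw24, ⟨rfl, rfl⟩⟩, rfl⟩
      · have t := pc1 q25 c25.out (by have := v2.out; omega)
        clear c25
        rcases t with ⟨⟨⟨rfl, rfl⟩, gw25, ⟨rfl, rfl⟩⟩, rfl⟩ | ⟨⟨⟨rfl, rfl⟩, gw25, ⟨rfl, rfl⟩⟩, rfl⟩
        · have t := pc2 q34 c34.out (by have := v3.out; have := qn35.out; omega)
          clear c34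
          rcases t with ⟨⟨⟨rfl, rfl⟩, gw34, ⟨rfl, rfl⟩⟩, rfl⟩ | ⟨⟨⟨rfl, rfl⟩, gw34, ⟨rfl, rfl⟩⟩, rfl⟩ | ⟨⟨⟨rfl, rfl⟩, gw34, ⟨rfl, rfl⟩⟩, rfl⟩ | ⟨⟨⟨rfl, rfl⟩, gw34, ⟨rfl, rfl⟩⟩, rfl⟩
          · (have := od4.out; omega)
          · (have := hm0.out; have := e1.out; have := e2.out; have := e3.out; have := r35.out; have := e4.out; have := r45.out; have := e5.out; have := r53.out; have := r54.out; omega)
          · (have := hm4.out; have := e0.out; have := e1.out; have := e2.out; have := e3.out; have := r35.out; have := e5.out; have := r53.out; have := r54.out; omega)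
          · (have := hm1.out; have := e2.out; have := e3.out; have := r35.out; have := e4.out; have := r45.out; omega)
        · (have := hm0.out; have := om3.out; have := e1.out; have := e2.out; have := e5.out; have := r53.out; have := r54.out; omega)
      · (have := hm4.out; have := om5.out; have := e0.out; have := e1.out; have := e2.out; have := r25.out; have := e3.out; have := r34.out; have := r35.out; omega)
    · have t := pc1 q24 c24.out (by have := v2.out; have := qn25.out; omega)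
      clear c24
      rcases t with ⟨⟨⟨rfl, rfl⟩, gw24, ⟨rfl, rfl⟩⟩, rfl⟩ | ⟨⟨⟨rfl, rfl⟩, gw24, ⟨rfl, rfl⟩⟩, rfl⟩
      · have t := pc1 q25 c25.out (by have := v2.out; omega)
        clear c25
        rcases t with ⟨⟨⟨rfl, rfl⟩, gw25, ⟨rfl, rfl⟩⟩, rfl⟩ | ⟨⟨⟨rfl, rfl⟩, gw25, ⟨rfl, rfl⟩⟩, rfl⟩
        · have t := pc2 q34 c34.out (by have := v3.out; have := qn35.out; omega)
          clear c34
          rcases t with ⟨⟨⟨rfl, rfl⟩, gw34, ⟨rfl, rfl⟩⟩, rfl⟩ | ⟨⟨⟨rfl, rfl⟩, gw34, ⟨rfl, rfl⟩⟩, rfl⟩ | ⟨⟨⟨rfl, rfl⟩, gw34, ⟨rfl, rfl⟩⟩, rfl⟩ | ⟨⟨⟨rfl, rfl⟩, gw34, ⟨rfl, rfl⟩⟩, rfl⟩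
          · (have := od4.out; omega)
          · (have := hm0.out; have := e1.out; have := e2.out; have := e3.out; have := r35.out; have := e4.out; have := r45.out; have := e5.out; have := r53.out; have := r54.out; omega)
          · (have := hm1.out; have := e2.out; have := e3.out; have := r35.out; have := e4.out; have := r45.out; omega)
          · (have := hm4.out; have := e0.out; have := e1.out; have := e2.out; have := e3.out; have := r35.out; have := e5.out; have := r53.out; have := r54.out; omega)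
        · (have := hm0.out; have := om3.out; have := e1.out; have := e2.out; have := e5.out; have := r53.out; have := r54.out; omega)
      · (have := hm4.out; have := om5.out; have := e0.out; have := e1.out; have := e2.out; have := r25.out; have := e3.out; have := r34.out; have := r35.out; omega)
    · (have := hm0.out; have := hm5.out; have := e1.out; have := e2.out; have := r24.out; have := r25.out; have := e3.out; have := r34.out; have := r35.out; omega)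
    · (have := hm3.out; have := om3.out; have := e0.out; have := e1.out; have := e2.out; have := r24.out; have := r25.out; have := e5.out; have := r52.out; have := r53.out; have := r54.out; omega)
  · have t := pc3 q23 c23.out (by have := v2.out; have := qn24.out; have := qn25.out; omega)
    clear c23
    rcases t with ⟨⟨⟨rfl, rfl⟩, gw23, ⟨rfl, rfl⟩⟩, rfl⟩ | ⟨⟨⟨rfl, rfl⟩, gw23, ⟨rfl, rfl⟩⟩, rfl⟩ | ⟨⟨⟨rfl, rfl⟩, gw23, ⟨rfl, rfl⟩⟩, rfl⟩ | ⟨⟨⟨rfl, rfl⟩, gw23, ⟨rfl, rfl⟩⟩, rfl⟩ | ⟨⟨⟨rfl, rfl⟩, gw23, ⟨rfl, rfl⟩⟩, rfl⟩ | ⟨⟨⟨rfl, rfl⟩, gw23, ⟨rfl, rfl⟩⟩, rfl⟩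
    · (have := od3.out; omega)
    · (have := hm3.out; have := e0.out; have := e1.out; have := e2.out; have := r24.out; have := r25.out; have := e5.out; have := r52.out; have := r53.out; have := r54.out; omega)
    · (have := hm0.out; have := e1.out; have := e2.out; have := r24.out; have := r25.out; have := e3.out; have := r34.out; have := r35.out; have := e5.out; have := r52.out; have := r53.out; have := r54.out; omega)
    · (have := hm0.out; have := e1.out; have := e2.out; have := r24.out; have := r25.out; have := e3.out; have := r34.out; have := r35.out; have := e5.out; have := r52.out; have := r53.out; have := r54.out; omega)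
    · (have := hm3.out; have := e0.out; have := e1.out; have := e2.out; have := r24.out; have := r25.out; have := e5.out; have := r52.out; have := r53.out; have := r54.out; omega)
    · (have := hm3.out; have := e0.out; have := e1.out; have := e2.out; have := r24.out; have := r25.out; have := e5.out; have := r52.out; have := r53.out; have := r54.out; omega)
  · have t := pc3 q23 c23.out (by have := v2.out; have := qn24.out; have := qn25.out; omega)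
    clear c23
    rcases t with ⟨⟨⟨rfl, rfl⟩, gw23, ⟨rfl, rfl⟩⟩, rfl⟩ | ⟨⟨⟨rfl, rfl⟩, gw23, ⟨rfl, rfl⟩⟩, rfl⟩ | ⟨⟨⟨rfl, rfl⟩, gw23, ⟨rfl, rfl⟩⟩, rfl⟩ | ⟨⟨⟨rfl, rfl⟩, gw23, ⟨rfl, rfl⟩⟩, rfl⟩ | ⟨⟨⟨rfl, rfl⟩, gw23, ⟨rfl, rfl⟩⟩, rfl⟩ | ⟨⟨⟨rfl, rfl⟩, gw23, ⟨rfl, rfl⟩⟩, rfl⟩
    · (have := od3.out; omega)
    · (have := hm3.out; have := e0.out; have := e1.out; have := e2.out; have := r24.out; have := r25.out; have := e5.out; have := r52.out; have := r53.out; have := r54.out; omega)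
    · (have := hm0.out; have := e1.out; have := e2.out; have := r24.out; have := r25.out; have := e3.out; have := r34.out; have := r35.out; have := e5.out; have := r52.out; have := r53.out; have := r54.out; omega)
    · (have := hm0.out; have := e1.out; have := e2.out; have := r24.out; have := r25.out; have := e3.out; have := r34.out; have := r35.out; have := e5.out; have := r52.out; have := r53.out; have := r54.out; omega)
    · (have := hm3.out; have := om5.out; have := e0.out; have := e1.out; have := e2.out; have := r24.out; have := r25.out; omega)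
    · (have := hm3.out; have := om5.out; have := e0.out; have := e1.out; have := e2.out; have := r24.out; have := r25.out; omega)

end Groth.Agent.Lib.helper20.G1n6
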