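import Groth.Agent.Lib.Helper20.G1n6Base

set_option autoImplicit false
set_option linter.unusedVariables false
open Finset
open Models Models.NumericalType

namespace Groth.Agent.Lib.helper20.G1n6

set_option maxHeartbeats 0 in
theorem part22 (T : Models.NumericalType 6) (α03 α04 α05 α12 α13 α14 α15 α21 α23 α24 α25 α30 α31 α32 α34 α35 α40 α41 α42 α43 α45 α50 α51 α52 α53 α54 x03 x04 x05 x12 x13 x14 x15 x21 x23 x24 x25 x30 x31 x32 x34 x35 x40 x41 x42 x43 x45 x50 x51 x52 x53 x54 q03 q04 q05 q12 q13 q14 q15 q23 q24 q25 q34 q35 q45 : ℤ)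
    (hm0 : Hide (0 < T.m 0))
    (hm1 : Hide (0 < T.m 1))
    (hm2 : Hide (0 < T.m 2))
    (hm3 : Hide (0 < T.m 3))
    (hm4 : Hide (0 < T.m 4))
    (hm5 : Hide (0 < T.m 5))
    (om1 : Hide (T.m 0 ≤ T.m 1))
    (om2 : Hide (T.m 0 ≤ T.m 2))
    (om3 : Hide (T.m 0 ≤ T.m 3))
    (om4 : Hide (T.m 0 ≤ T.m 4))
    (om5 : Hide (T.m 0 ≤ T.m 5))
    (e0 : Hide (T.m 1 + (0 : ℤ) + x03 + x04 + x05 = 2 * T.m 0))
    (e1 : Hide (2 * T.m 0 + x12 + x13 + x14 + x15 = 2 * T.m 1))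
    (e2 : Hide ((0 : ℤ) + x21 + x23 + x24 + x25 = 2 * T.m 2))
    (e3 : Hide (x30 + x31 + x32 + x34 + x35 = 2 * T.m 3))
    (e4 : Hide (x40 + x41 + x42 + x43 + x45 = 2 * T.m 4))
    (e5 : Hide (x50 + x51 + x52 + x53 + x54 = 2 * T.m 5))
    (r01 : Hide (0 ≤ T.m 1))
    (r02 : Hide (0 ≤ (0 : ℤ)))
    (r03 : Hide (0 ≤ x03))
    (r04 : Hide (0 ≤ x04))
    (r05 : Hide (0 ≤ x05))
    (r10 : Hide (0 ≤ 2 * T.m 0))
    (r12 : Hide (0 ≤ x12))
    (r13 : Hide (0 ≤ x13))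
    (r14 : Hide (0 ≤ x14))
    (r15 : Hide (0 ≤ x15))
    (r20 : Hide (0 ≤ (0 : ℤ)))
    (r21 : Hide (0 ≤ x21))
    (r23 : Hide (0 ≤ x23))
    (r24 : Hide (0 ≤ x24))
    (r25 : Hide (0 ≤ x25))
    (r30 : Hide (0 ≤ x30))
    (r31 : Hide (0 ≤ x31))
    (r32 : Hide (0 ≤ x32))
    (r34 : Hide (0 ≤ x34))
    (r35 : Hide (0 ≤ x35))
    (r40 : Hide (0 ≤ x40))
    (r41 : Hide (0 ≤ x41))
    (r42 : Hide (0 ≤ x42))
    (r43 : Hide (0 ≤ x43))
    (r45 : Hide (0 ≤ x45))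
    (r50 : Hide (0 ≤ x50))
    (r51 : Hide (0 ≤ x51))
    (r52 : Hide (0 ≤ x52))
    (r53 : Hide (0 ≤ x53))
    (r54 : Hide (0 ≤ x54))
    (hw0 : Hide (0 < T.w 0))
    (hw1 : Hide (0 < T.w 1))
    (hw2 : Hide (0 < T.w 2))
    (hw3 : Hide (0 < T.w 3))
    (hw4 : Hide (0 < T.w 4))
    (hw5 : Hide (0 < T.w 5))
    (hs01 : Hide (T.a 0 1 = T.a 1 0))
    (hs02 : Hide (T.a 0 2 = T.a 2 0))
    (hs03 : Hide (T.a 0 3 = T.a 3 0))
    (hs04 : Hide (T.a 0 4 = T.a 4 0))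
    (hs05 : Hide (T.a 0 5 = T.a 5 0))
    (hs12 : Hide (T.a 1 2 = T.a 2 1))
    (hs13 : Hide (T.a 1 3 = T.a 3 1))
    (hs14 : Hide (T.a 1 4 = T.a 4 1))
    (hs15 : Hide (T.a 1 5 = T.a 5 1))
    (hs23 : Hide (T.a 2 3 = T.a 3 2))
    (hs24 : Hide (T.a 2 4 = T.a 4 2))
    (hs25 : Hide (T.a 2 5 = T.a 5 2))
    (hs34 : Hide (T.a 3 4 = T.a 4 3))
    (hs35 : Hide (T.a 3 5 = T.a 5 3))
    (hs45 : Hide (T.a 4 5 = T.a 5 4))
    (ha00 : Hide (T.a 0 0 = -2 * T.w 0))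
    (ha11 : Hide (T.a 1 1 = -2 * T.w 1))
    (ha22 : Hide (T.a 2 2 = -2 * T.w 2))
    (ha33 : Hide (T.a 3 3 = -2 * T.w 3))
    (ha44 : Hide (T.a 4 4 = -2 * T.w 4))
    (ha55 : Hide (T.a 5 5 = -2 * T.w 5))
    (v0 : Hide ((2 : ℤ) + (0 : ℤ) + q03 + q04 + q05 ≤ 4))
    (v1 : Hide ((2 : ℤ) + q12 + q13 + q14 + q15 ≤ 4))
    (v2 : Hide ((0 : ℤ) + q12 + q23 + q24 + q25 ≤ 4))
    (v3 : Hide (q03 + q13 + q23 + q34 + q35 ≤ 4))
    (v4 : Hide (q04 + q14 + q24 + q34 + q45 ≤ 4))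
    (v5 : Hide (q05 + q15 + q25 + q35 + q45 ≤ 4))
    (qn01 : Hide (0 ≤ (2 : ℤ)))
    (qn02 : Hide (0 ≤ (0 : ℤ)))
    (qn03 : Hide (0 ≤ q03))
    (qn04 : Hide (0 ≤ q04))
    (qn05 : Hide (0 ≤ q05))
    (qn12 : Hide (0 ≤ q12))
    (qn13 : Hide (0 ≤ q13))
    (qn14 : Hide (0 ≤ q14))
    (qn15 : Hide (0 ≤ q15))
    (qn23 : Hide (0 ≤ q23))
    (qn24 : Hide (0 ≤ q24))
    (qn25 : Hide (0 ≤ q25))
    (qn34 : Hide (0 ≤ q34))
    (qn35 : Hide (0 ≤ q35))
    (qn45 : Hide (0 ≤ q45))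
    (od1 : Hide (0 < (1 : ℤ)))
    (od2 : Hide (0 < (0 : ℤ) + α12))
    (od3 : Hide (0 < α03 + α13 + α23))
    (od4 : Hide (0 < α04 + α14 + α24 + α34))
    (od5 : Hide (0 < α05 + α15 + α25 + α35 + α45))
    (c03 : Hide (((Hide (x03 = 0 ∧ x30 = 0) ∧ Hide (T.a 0 3 = 0 ∧ T.a 3 0 = 0) ∧ Hide (α03 = 0 ∧ α30 = 0)) ∧ q03 = 0) ∨ ((Hide (x03 = T.m 3 ∧ x30 = T.m 0) ∧ Hide (T.a 0 3 = T.w 0 ∧ T.a 3 0 = T.w 3) ∧ Hide (α03 = 1 ∧ α30 = 1)) ∧ q03 = 1) ∨ ((Hide (x03 = T.m 3 ∧ x30 = 2 * T.m 0) ∧ Hide (T.a 0 3 = T.w 0 ∧ T.a 3 0 = 2 * T.w 3) ∧ Hide (α03 = 1 ∧ α30 = 2)) ∧ q03 = 2) ∨ ((Hide (x03 = 2 * T.m 3 ∧ x30 = T.m 0) ∧ Hide (T.a 0 3 = 2 * T.w 0 ∧ T.a 3 0 = T.w 3) ∧ Hide (α03 = 2 ∧ α30 = 1)) ∧ q03 = 2) ∨ ((Hide (x03 = T.m 3 ∧ x30 = 3 * T.m 0) ∧ Hide (T.a 0 3 = T.w 0 ∧ T.a 3 0 = 3 * T.w 3) ∧ Hide (α03 = 1 ∧ α30 = 3)) ∧ q03 = 3) ∨ ((Hide (x03 = 3 * T.m 3 ∧ x30 = T.m 0) ∧ Hide (T.a 0 3 = 3 * T.w 0 ∧ T.a 3 0 =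 T.w 3) ∧ Hide (α03 = 3 ∧ α30 = 1)) ∧ q03 = 3) ∨ ((Hide (x03 = T.m 3 ∧ x30 = 4 * T.m 0) ∧ Hide (T.a 0 3 = T.w 0 ∧ T.a 3 0 = 4 * T.w 3) ∧ Hide (α03 = 1 ∧ α30 = 4)) ∧ q03 = 4) ∨ ((Hide (x03 = 4 * T.m 3 ∧ x30 = T.m 0) ∧ Hide (T.a 0 3 = 4 * T.w 0 ∧ T.a 3 0 = T.w 3) ∧ Hide (α03 = 4 ∧ α30 = 1)) ∧ q03 = 4) ∨ ((Hide (x03 = 2 * T.m 3 ∧ x30 = 2 * T.m 0) ∧ Hide (T.a 0 3 = 2 * T.w 0 ∧ T.a 3 0 = 2 * T.w 3) ∧ Hide (α03 = 2 ∧ α30 = 2)) ∧ q03 = 4)))
    (c04 : Hide (((Hide (x04 = 0 ∧ x40 = 0) ∧ Hide (T.a 0 4 = 0 ∧ T.a 4 0 = 0) ∧ Hide (α04 = 0 ∧ α40 = 0)) ∧ q04 = 0) ∨ ((Hide (x04 = T.m 4 ∧ x40 = T.m 0) ∧ Hide (T.a 0 4 = T.w 0 ∧ T.a 4 0 = T.w 4) ∧ Hide (α04 = 1 ∧ α40 = 1)) ∧ q04 = 1) ∨ ((Hide (x04 = T.m 4 ∧ x40 = 2 * T.m 0) ∧ Hide (T.a 0 4 = T.w 0 ∧ T.a 4 0 = 2 * T.w 4) ∧ Hide (α04 = 1 ∧ α40 = 2)) ∧ q04 = 2) ∨ ((Hide (x04 = 2 * T.m 4 ∧ x40 = T.m 0) ∧ Hide (T.a 0 4 = 2 * T.w 0 ∧ T.a 4 0 = T.w 4) ∧ Hide (α04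 = 2 ∧ α40 = 1)) ∧ q04 = 2) ∨ ((Hide (x04 = T.m 4 ∧ x40 = 3 * T.m 0) ∧ Hide (T.a 0 4 = T.w 0 ∧ T.a 4 0 = 3 * T.w 4) ∧ Hide (α04 = 1 ∧ α40 = 3)) ∧ q04 = 3) ∨ ((Hide (x04 = 3 * T.m 4 ∧ x40 = T.m 0) ∧ Hide (T.a 0 4 = 3 * T.w 0 ∧ T.a 4 0 = T.w 4) ∧ Hide (α04 = 3 ∧ α40 = 1)) ∧ q04 = 3) ∨ ((Hide (x04 = T.m 4 ∧ x40 = 4 * T.m 0) ∧ Hide (T.a 0 4 = T.w 0 ∧ T.a 4 0 = 4 * T.w 4) ∧ Hide (α04 = 1 ∧ α40 = 4)) ∧ q04 = 4) ∨ ((Hide (x04 = 4 * T.m 4 ∧ x40 = T.m 0) ∧ Hide (T.a 0 4 = 4 * T.w 0 ∧ T.a 4 0 = T.w 4) ∧ Hide (α04 = 4 ∧ α40 = 1)) ∧ q04 = 4) ∨ ((Hide (x04 = 2 * T.m 4 ∧ x40 = 2 * T.m 0) ∧ Hide (T.a 0 4 = 2 * T.w 0 ∧ T.a 4 0 = 2 * T.w 4) ∧ Hide (α04 = 2 ∧ α40 = 2)) ∧ q04 = 4)))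
    (c05 : Hide (((Hide (x05 = 0 ∧ x50 = 0) ∧ Hide (T.a 0 5 = 0 ∧ T.a 5 0 = 0) ∧ Hide (α05 = 0 ∧ α50 = 0)) ∧ q05 = 0) ∨ ((Hide (x05 = T.m 5 ∧ x50 = T.m 0) ∧ Hide (T.a 0 5 = T.w 0 ∧ T.a 5 0 = T.w 5) ∧ Hide (α05 = 1 ∧ α50 = 1)) ∧ q05 = 1) ∨ ((Hide (x05 = T.m 5 ∧ x50 = 2 * T.m 0) ∧ Hide (T.a 0 5 = T.w 0 ∧ T.a 5 0 = 2 * T.w 5) ∧ Hide (α05 = 1 ∧ α50 = 2)) ∧ q05 = 2) ∨ ((Hide (x05 = 2 * T.m 5 ∧ x50 = T.m 0) ∧ Hide (T.a 0 5 = 2 * T.w 0 ∧ T.a 5 0 = T.w 5) ∧ Hide (α05 = 2 ∧ α50 = 1)) ∧ q05 = 2) ∨ ((Hide (x05 = T.m 5 ∧ x50 = 3 * T.m 0) ∧ Hide (T.a 0 5 = T.w 0 ∧ T.a 5 0 = 3 * T.w 5) ∧ Hide (α05 = 1 ∧ α50 = 3)) ∧ q05 = 3) ∨ ((Hide (x05 = 3 * T.m 5 ∧ x50 = T.m 0) ∧ Hide (T.a 0 5 = 3 * T.w 0 ∧ T.a 5 0 = T.w 5) ∧ Hide (α05 = 3 ∧ α50 = 1)) ∧ q05 = 3) ∨ ((Hide (x05 = T.m 5 ∧ x50 = 4 * T.m 0) ∧ Hide (T.a 0 5 = T.w 0 ∧ T.a 5 0 = 4 * T.w 5) ∧ Hide (α05 = 1 ∧ α50 = 4)) ∧ q05 = 4) ∨ ((Hide (x05 = 4 * T.m 5 ∧ x50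 = T.m 0) ∧ Hide (T.a 0 5 = 4 * T.w 0 ∧ T.a 5 0 = T.w 5) ∧ Hide (α05 = 4 ∧ α50 = 1)) ∧ q05 = 4) ∨ ((Hide (x05 = 2 * T.m 5 ∧ x50 = 2 * T.m 0) ∧ Hide (T.a 0 5 = 2 * T.w 0 ∧ T.a 5 0 = 2 * T.w 5) ∧ Hide (α05 = 2 ∧ α50 = 2)) ∧ q05 = 4)))
    (c12 : Hide (((Hide (x12 = 0 ∧ x21 = 0) ∧ Hide (T.a 1 2 = 0 ∧ T.a 2 1 = 0) ∧ Hide (α12 = 0 ∧ α21 = 0)) ∧ q12 = 0) ∨ ((Hide (x12 = T.m 2 ∧ x21 = T.m 1) ∧ Hide (T.a 1 2 = T.w 1 ∧ T.a 2 1 = T.w 2) ∧ Hide (α12 = 1 ∧ α21 = 1)) ∧ q12 = 1) ∨ ((Hide (x12 = T.m 2 ∧ x21 = 2 * T.m 1) ∧ Hide (T.a 1 2 = T.w 1 ∧ T.a 2 1 = 2 * T.w 2) ∧ Hide (α12 = 1 ∧ α21 = 2)) ∧ q12 = 2) ∨ ((Hide (x12 = 2 * T.m 2 ∧ x21 = T.m 1) ∧ Hide (T.a 1 2 = 2 * T.w 1 ∧ T.a 2 1 = T.w 2) ∧ Hide (α12 = 2 ∧ α21 = 1)) ∧ q12 = 2) ∨ ((Hide (x12 = T.m 2 ∧ x21 = 3 * T.m 1) ∧ Hide (T.a 1 2 = T.w 1 ∧ T.a 2 1 = 3 * T.w 2) ∧ Hide (α12 = 1 ∧ α21 = 3)) ∧ q12 = 3) ∨ ((Hide (x12 = 3 * T.m 2 ∧ x21 = T.m 1) ∧ Hide (T.a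 1 2 = 3 * T.w 1 ∧ T.a 2 1 = T.w 2) ∧ Hide (α12 = 3 ∧ α21 = 1)) ∧ q12 = 3) ∨ ((Hide (x12 = T.m 2 ∧ x21 = 4 * T.m 1) ∧ Hide (T.a 1 2 = T.w 1 ∧ T.a 2 1 = 4 * T.w 2) ∧ Hide (α12 = 1 ∧ α21 = 4)) ∧ q12 = 4) ∨ ((Hide (x12 = 4 * T.m 2 ∧ x21 = T.m 1) ∧ Hide (T.a 1 2 = 4 * T.w 1 ∧ T.a 2 1 = T.w 2) ∧ Hide (α12 = 4 ∧ α21 = 1)) ∧ q12 = 4) ∨ ((Hide (x12 = 2 * T.m 2 ∧ x21 = 2 * T.m 1) ∧ Hide (T.a 1 2 = 2 * T.w 1 ∧ T.a 2 1 = 2 * T.w 2) ∧ Hide (α12 = 2 ∧ α21 = 2)) ∧ q12 = 4)))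
    (c13 : Hide (((Hide (x13 = 0 ∧ x31 = 0) ∧ Hide (T.a 1 3 = 0 ∧ T.a 3 1 = 0) ∧ Hide (α13 = 0 ∧ α31 = 0)) ∧ q13 = 0) ∨ ((Hide (x13 = T.m 3 ∧ x31 = T.m 1) ∧ Hide (T.a 1 3 = T.w 1 ∧ T.a 3 1 = T.w 3) ∧ Hide (α13 = 1 ∧ α31 = 1)) ∧ q13 = 1) ∨ ((Hide (x13 = T.m 3 ∧ x31 = 2 * T.m 1) ∧ Hide (T.a 1 3 = T.w 1 ∧ T.a 3 1 = 2 * T.w 3) ∧ Hide (α13 = 1 ∧ α31 = 2)) ∧ q13 = 2) ∨ ((Hide (x13 = 2 * T.m 3 ∧ x31 = T.m 1) ∧ Hide (T.a 1 3 = 2 * T.w 1 ∧ T.a 3 1 = T.w 3) ∧ Hide (α13 = 2 ∧ α31 = 1)) ∧ q13 = 2) ∨ ((Hide (x13 = T.m 3 ∧ x31 = 3 * T.m 1) ∧ Hide (T.a 1 3 = T.w 1 ∧ T.a 3 1 = 3 * T.w 3) ∧ Hide (α13 = 1 ∧ α31 = 3)) ∧ q13 = 3) ∨ ((Hide (x13 = 3 * T.m 3 ∧ x31 = T.m 1) ∧ Hide (T.a 1 3 = 3 * T.w 1 ∧ T.a 3 1 = T.w 3) ∧ Hide (α13 = 3 ∧ α31 = 1)) ∧ q13 = 3) ∨ ((Hide (x13 = T.m 3 ∧ x31 = 4 * T.m 1) ∧ Hide (T.a 1 3 = T.w 1 ∧ T.a 3 1 = 4 * T.w 3) ∧ Hide (α13 = 1 ∧ α31 = 4)) ∧ q13 = 4) ∨ ((Hide (x13 = 4 * T.m 3 ∧ x31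 = T.m 1) ∧ Hide (T.a 1 3 = 4 * T.w 1 ∧ T.a 3 1 = T.w 3) ∧ Hide (α13 = 4 ∧ α31 = 1)) ∧ q13 = 4) ∨ ((Hide (x13 = 2 * T.m 3 ∧ x31 = 2 * T.m 1) ∧ Hide (T.a 1 3 = 2 * T.w 1 ∧ T.a 3 1 = 2 * T.w 3) ∧ Hide (α13 = 2 ∧ α31 = 2)) ∧ q13 = 4)))
    (c14 : Hide (((Hide (x14 = 0 ∧ x41 = 0) ∧ Hide (T.a 1 4 = 0 ∧ T.a 4 1 = 0) ∧ Hide (α14 = 0 ∧ α41 = 0)) ∧ q14 = 0) ∨ ((Hide (x14 = T.m 4 ∧ x41 = T.m 1) ∧ Hide (T.a 1 4 = T.w 1 ∧ T.a 4 1 = T.w 4) ∧ Hide (α14 = 1 ∧ α41 = 1)) ∧ q14 = 1) ∨ ((Hide (x14 = T.m 4 ∧ x41 = 2 * T.m 1) ∧ Hide (T.a 1 4 = T.w 1 ∧ T.a 4 1 = 2 * T.w 4) ∧ Hide (α14 = 1 ∧ α41 = 2)) ∧ q14 = 2) ∨ ((Hide (x14 = 2 * T.m 4 ∧ x41 = T.m 1) ∧ Hide (T.a 1 4 = 2 * T.w 1 ∧ T.a 4 1 = T.w 4) ∧ Hide (α14 = 2 ∧ α41 = 1)) ∧ q14 = 2) ∨ ((Hide (x14 = T.m 4 ∧ x41 = 3 * T.m 1) ∧ Hide (T.a 1 4 = T.w 1 ∧ T.a 4 1 = 3 * T.w 4) ∧ Hide (α14 = 1 ∧ α41 = 3)) ∧ q14 = 3) ∨ ((Hide (x14 = 3 * T.m 4 ∧ x41 = T.m 1) ∧ Hide (T.a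 1 4 = 3 * T.w 1 ∧ T.a 4 1 = T.w 4) ∧ Hide (α14 = 3 ∧ α41 = 1)) ∧ q14 = 3) ∨ ((Hide (x14 = T.m 4 ∧ x41 = 4 * T.m 1) ∧ Hide (T.a 1 4 = T.w 1 ∧ T.a 4 1 = 4 * T.w 4) ∧ Hide (α14 = 1 ∧ α41 = 4)) ∧ q14 = 4) ∨ ((Hide (x14 = 4 * T.m 4 ∧ x41 = T.m 1) ∧ Hide (T.a 1 4 = 4 * T.w 1 ∧ T.a 4 1 = T.w 4) ∧ Hide (α14 = 4 ∧ α41 = 1)) ∧ q14 = 4) ∨ ((Hide (x14 = 2 * T.m 4 ∧ x41 = 2 * T.m 1) ∧ Hide (T.a 1 4 = 2 * T.w 1 ∧ T.a 4 1 = 2 * T.w 4) ∧ Hide (α14 = 2 ∧ α41 = 2)) ∧ q14 = 4)))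
    (c15 : Hide (((Hide (x15 = 0 ∧ x51 = 0) ∧ Hide (T.a 1 5 = 0 ∧ T.a 5 1 = 0) ∧ Hide (α15 = 0 ∧ α51 = 0)) ∧ q15 = 0) ∨ ((Hide (x15 = T.m 5 ∧ x51 = T.m 1) ∧ Hide (T.a 1 5 = T.w 1 ∧ T.a 5 1 = T.w 5) ∧ Hide (α15 = 1 ∧ α51 = 1)) ∧ q15 = 1) ∨ ((Hide (x15 = T.m 5 ∧ x51 = 2 * T.m 1) ∧ Hide (T.a 1 5 = T.w 1 ∧ T.a 5 1 = 2 * T.w 5) ∧ Hide (α15 = 1 ∧ α51 = 2)) ∧ q15 = 2) ∨ ((Hide (x15 = 2 * T.m 5 ∧ x51 = T.m 1) ∧ Hide (T.a 1 5 = 2 * T.w 1 ∧ T.a 5 1 = T.w 5) ∧ Hide (α15 = 2 ∧ α51 = 1)) ∧ q15 = 2) ∨ ((Hide (x15 = T.m 5 ∧ x51 = 3 * T.m 1) ∧ Hide (T.a 1 5 = T.w 1 ∧ T.a 5 1 = 3 * T.w 5) ∧ Hide (α15 = 1 ∧ α51 = 3)) ∧ q15 = 3) ∨ ((Hide (x15 = 3 * T.m 5 ∧ x51 = T.m 1) ∧ Hide (T.a 1 5 = 3 * T.w 1 ∧ T.a 5 1 = T.w 5) ∧ Hide (α15 = 3 ∧ α51 = 1)) ∧ q15 = 3) ∨ ((Hide (x15 = T.m 5 ∧ x51 = 4 * T.m 1) ∧ Hide (T.a 1 5 = T.w 1 ∧ T.a 5 1 = 4 * T.w 5) ∧ Hide (α15 = 1 ∧ α51 = 4)) ∧ q15 = 4) ∨ ((Hide (x15 = 4 * T.m 5 ∧ x51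 = T.m 1) ∧ Hide (T.a 1 5 = 4 * T.w 1 ∧ T.a 5 1 = T.w 5) ∧ Hide (α15 = 4 ∧ α51 = 1)) ∧ q15 = 4) ∨ ((Hide (x15 = 2 * T.m 5 ∧ x51 = 2 * T.m 1) ∧ Hide (T.a 1 5 = 2 * T.w 1 ∧ T.a 5 1 = 2 * T.w 5) ∧ Hide (α15 = 2 ∧ α51 = 2)) ∧ q15 = 4)))
    (c23 : Hide (((Hide (x23 = 0 ∧ x32 = 0) ∧ Hide (T.a 2 3 = 0 ∧ T.a 3 2 = 0) ∧ Hide (α23 = 0 ∧ α32 = 0)) ∧ q23 = 0) ∨ ((Hide (x23 = T.m 3 ∧ x32 = T.m 2) ∧ Hide (T.a 2 3 = T.w 2 ∧ T.a 3 2 = T.w 3) ∧ Hide (α23 = 1 ∧ α32 = 1)) ∧ q23 = 1) ∨ ((Hide (x23 = T.m 3 ∧ x32 = 2 * T.m 2) ∧ Hide (T.a 2 3 = T.w 2 ∧ T.a 3 2 = 2 * T.w 3) ∧ Hide (α23 = 1 ∧ α32 = 2)) ∧ q23 = 2) ∨ ((Hide (x23 = 2 * T.m 3 ∧ x32 = T.m 2) ∧ Hide (T.a 2 3 = 2 * T.w 2 ∧ T.a 3 2 = T.w 3) ∧ Hide (α23 = 2 ∧ α32 = 1)) ∧ q23 = 2) ∨ ((Hide (x23 = T.m 3 ∧ x32 = 3 * T.m 2) ∧ Hide (T.a 2 3 = T.w 2 ∧ T.a 3 2 = 3 * T.w 3) ∧ Hide (α23 = 1 ∧ α32 = 3)) ∧ q23 = 3) ∨ ((Hide (x23 = 3 * T.m 3 ∧ x32 = T.m 2) ∧ Hide (T.a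 2 3 = 3 * T.w 2 ∧ T.a 3 2 = T.w 3) ∧ Hide (α23 = 3 ∧ α32 = 1)) ∧ q23 = 3) ∨ ((Hide (x23 = T.m 3 ∧ x32 = 4 * T.m 2) ∧ Hide (T.a 2 3 = T.w 2 ∧ T.a 3 2 = 4 * T.w 3) ∧ Hide (α23 = 1 ∧ α32 = 4)) ∧ q23 = 4) ∨ ((Hide (x23 = 4 * T.m 3 ∧ x32 = T.m 2) ∧ Hide (T.a 2 3 = 4 * T.w 2 ∧ T.a 3 2 = T.w 3) ∧ Hide (α23 = 4 ∧ α32 = 1)) ∧ q23 = 4) ∨ ((Hide (x23 = 2 * T.m 3 ∧ x32 = 2 * T.m 2) ∧ Hide (T.a 2 3 = 2 * T.w 2 ∧ T.a 3 2 = 2 * T.w 3) ∧ Hide (α23 = 2 ∧ α32 = 2)) ∧ q23 = 4)))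
    (c24 : Hide (((Hide (x24 = 0 ∧ x42 = 0) ∧ Hide (T.a 2 4 = 0 ∧ T.a 4 2 = 0) ∧ Hide (α24 = 0 ∧ α42 = 0)) ∧ q24 = 0) ∨ ((Hide (x24 = T.m 4 ∧ x42 = T.m 2) ∧ Hide (T.a 2 4 = T.w 2 ∧ T.a 4 2 = T.w 4) ∧ Hide (α24 = 1 ∧ α42 = 1)) ∧ q24 = 1) ∨ ((Hide (x24 = T.m 4 ∧ x42 = 2 * T.m 2) ∧ Hide (T.a 2 4 = T.w 2 ∧ T.a 4 2 = 2 * T.w 4) ∧ Hide (α24 = 1 ∧ α42 = 2)) ∧ q24 = 2) ∨ ((Hide (x24 = 2 * T.m 4 ∧ x42 = T.m 2) ∧ Hide (T.a 2 4 = 2 * T.w 2 ∧ T.a 4 2 = T.w 4) ∧ Hide (α24 = 2 ∧ α42 = 1)) ∧ q24 = 2) ∨ ((Hide (x24 = T.m 4 ∧ x42 = 3 * T.m 2) ∧ Hide (T.a 2 4 = T.w 2 ∧ T.a 4 2 = 3 * T.w 4) ∧ Hide (α24 = 1 ∧ α42 = 3)) ∧ q24 = 3) ∨ ((Hide (x24 = 3 * T.m 4 ∧ x42 = T.m 2) ∧ Hide (T.a 2 4 = 3 * T.w 2 ∧ T.a 4 2 = T.w 4) ∧ Hide (α24 = 3 ∧ α42 = 1)) ∧ q24 = 3) ∨ ((Hide (x24 = T.m 4 ∧ x42 = 4 * T.m 2) ∧ Hide (T.a 2 4 = T.w 2 ∧ T.a 4 2 = 4 * T.w 4) ∧ Hide (α24 = 1 ∧ α42 = 4)) ∧ q24 = 4) ∨ ((Hide (x24 = 4 * T.m 4 ∧ x42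 = T.m 2) ∧ Hide (T.a 2 4 = 4 * T.w 2 ∧ T.a 4 2 = T.w 4) ∧ Hide (α24 = 4 ∧ α42 = 1)) ∧ q24 = 4) ∨ ((Hide (x24 = 2 * T.m 4 ∧ x42 = 2 * T.m 2) ∧ Hide (T.a 2 4 = 2 * T.w 2 ∧ T.a 4 2 = 2 * T.w 4) ∧ Hide (α24 = 2 ∧ α42 = 2)) ∧ q24 = 4)))
    (c25 : Hide (((Hide (x25 = 0 ∧ x52 = 0) ∧ Hide (T.a 2 5 = 0 ∧ T.a 5 2 = 0) ∧ Hide (α25 = 0 ∧ α52 = 0)) ∧ q25 = 0) ∨ ((Hide (x25 = T.m 5 ∧ x52 = T.m 2) ∧ Hide (T.a 2 5 = T.w 2 ∧ T.a 5 2 = T.w 5) ∧ Hide (α25 = 1 ∧ α52 = 1)) ∧ q25 = 1) ∨ ((Hide (x25 = T.m 5 ∧ x52 = 2 * T.m 2) ∧ Hide (T.a 2 5 = T.w 2 ∧ T.a 5 2 = 2 * T.w 5) ∧ Hide (α25 = 1 ∧ α52 = 2)) ∧ q25 = 2) ∨ ((Hide (x25 = 2 * T.m 5 ∧ x52 = T.m 2) ∧ Hide (T.a 2 5 = 2 * T.w 2 ∧ T.a 5 2 = T.w 5) ∧ Hide (α25 = 2 ∧ α52 = 1)) ∧ q25 = 2) ∨ ((Hide (x25 = T.m 5 ∧ x52 = 3 * T.m 2) ∧ Hide (T.a 2 5 = T.w 2 ∧ T.a 5 2 = 3 * T.w 5) ∧ Hide (α25 = 1 ∧ α52 = 3)) ∧ q25 = 3) ∨ ((Hide (x25 = 3 * T.m 5 ∧ x52 = T.m 2) ∧ Hide (T.a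 2 5 = 3 * T.w 2 ∧ T.a 5 2 = T.w 5) ∧ Hide (α25 = 3 ∧ α52 = 1)) ∧ q25 = 3) ∨ ((Hide (x25 = T.m 5 ∧ x52 = 4 * T.m 2) ∧ Hide (T.a 2 5 = T.w 2 ∧ T.a 5 2 = 4 * T.w 5) ∧ Hide (α25 = 1 ∧ α52 = 4)) ∧ q25 = 4) ∨ ((Hide (x25 = 4 * T.m 5 ∧ x52 = T.m 2) ∧ Hide (T.a 2 5 = 4 * T.w 2 ∧ T.a 5 2 = T.w 5) ∧ Hide (α25 = 4 ∧ α52 = 1)) ∧ q25 = 4) ∨ ((Hide (x25 = 2 * T.m 5 ∧ x52 = 2 * T.m 2) ∧ Hide (T.a 2 5 = 2 * T.w 2 ∧ T.a 5 2 = 2 * T.w 5) ∧ Hide (α25 = 2 ∧ α52 = 2)) ∧ q25 = 4)))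
    (c34 : Hide (((Hide (x34 = 0 ∧ x43 = 0) ∧ Hide (T.a 3 4 = 0 ∧ T.a 4 3 = 0) ∧ Hide (α34 = 0 ∧ α43 = 0)) ∧ q34 = 0) ∨ ((Hide (x34 = T.m 4 ∧ x43 = T.m 3) ∧ Hide (T.a 3 4 = T.w 3 ∧ T.a 4 3 = T.w 4) ∧ Hide (α34 = 1 ∧ α43 = 1)) ∧ q34 = 1) ∨ ((Hide (x34 = T.m 4 ∧ x43 = 2 * T.m 3) ∧ Hide (T.a 3 4 = T.w 3 ∧ T.a 4 3 = 2 * T.w 4) ∧ Hide (α34 = 1 ∧ α43 = 2)) ∧ q34 = 2) ∨ ((Hide (x34 = 2 * T.m 4 ∧ x43 = T.m 3) ∧ Hide (T.a 3 4 = 2 * T.w 3 ∧ T.a 4 3 = T.w 4) ∧ Hide (α34 = 2 ∧ α43 = 1)) ∧ q34 = 2) ∨ ((Hide (x34 = T.m 4 ∧ x43 = 3 * T.m 3) ∧ Hide (T.a 3 4 = T.w 3 ∧ T.a 4 3 = 3 * T.w 4) ∧ Hide (α34 = 1 ∧ α43 = 3)) ∧ q34 = 3) ∨ ((Hide (x34 = 3 * T.m 4 ∧ x43 = T.m 3) ∧ Hide (T.a 3 4 = 3 * T.w 3 ∧ T.a 4 3 = T.w 4) ∧ Hide (α34 = 3 ∧ α43 = 1)) ∧ q34 = 3) ∨ ((Hide (x34 = T.m 4 ∧ x43 = 4 * T.m 3) ∧ Hide (T.a 3 4 = T.w 3 ∧ T.a 4 3 = 4 * T.w 4) ∧ Hide (α34 = 1 ∧ α43 = 4)) ∧ q34 = 4) ∨ ((Hide (x34 = 4 * T.m 4 ∧ x43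 = T.m 3) ∧ Hide (T.a 3 4 = 4 * T.w 3 ∧ T.a 4 3 = T.w 4) ∧ Hide (α34 = 4 ∧ α43 = 1)) ∧ q34 = 4) ∨ ((Hide (x34 = 2 * T.m 4 ∧ x43 = 2 * T.m 3) ∧ Hide (T.a 3 4 = 2 * T.w 3 ∧ T.a 4 3 = 2 * T.w 4) ∧ Hide (α34 = 2 ∧ α43 = 2)) ∧ q34 = 4)))
    (c35 : Hide (((Hide (x35 = 0 ∧ x53 = 0) ∧ Hide (T.a 3 5 = 0 ∧ T.a 5 3 = 0) ∧ Hide (α35 = 0 ∧ α53 = 0)) ∧ q35 = 0) ∨ ((Hide (x35 = T.m 5 ∧ x53 = T.m 3) ∧ Hide (T.a 3 5 = T.w 3 ∧ T.a 5 3 = T.w 5) ∧ Hide (α35 = 1 ∧ α53 = 1)) ∧ q35 = 1) ∨ ((Hide (x35 = T.m 5 ∧ x53 = 2 * T.m 3) ∧ Hide (T.a 3 5 = T.w 3 ∧ T.a 5 3 = 2 * T.w 5) ∧ Hide (α35 = 1 ∧ α53 = 2)) ∧ q35 = 2) ∨ ((Hide (x35 = 2 * T.m 5 ∧ x53 = T.m 3) ∧ Hide (T.a 3 5 = 2 * T.w 3 ∧ T.a 5 3 = T.w 5) ∧ Hide (α35 = 2 ∧ α53 = 1)) ∧ q35 = 2) ∨ ((Hide (x35 = T.m 5 ∧ x53 = 3 * T.m 3) ∧ Hide (T.a 3 5 = T.w 3 ∧ T.a 5 3 = 3 * T.w 5) ∧ Hide (α35 = 1 ∧ α53 = 3)) ∧ q35 = 3) ∨ ((Hide (x35 = 3 * T.m 5 ∧ x53 = T.m 3) ∧ Hide (T.a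 3 5 = 3 * T.w 3 ∧ T.a 5 3 = T.w 5) ∧ Hide (α35 = 3 ∧ α53 = 1)) ∧ q35 = 3) ∨ ((Hide (x35 = T.m 5 ∧ x53 = 4 * T.m 3) ∧ Hide (T.a 3 5 = T.w 3 ∧ T.a 5 3 = 4 * T.w 5) ∧ Hide (α35 = 1 ∧ α53 = 4)) ∧ q35 = 4) ∨ ((Hide (x35 = 4 * T.m 5 ∧ x53 = T.m 3) ∧ Hide (T.a 3 5 = 4 * T.w 3 ∧ T.a 5 3 = T.w 5) ∧ Hide (α35 = 4 ∧ α53 = 1)) ∧ q35 = 4) ∨ ((Hide (x35 = 2 * T.m 5 ∧ x53 = 2 * T.m 3) ∧ Hide (T.a 3 5 = 2 * T.w 3 ∧ T.a 5 3 = 2 * T.w 5) ∧ Hide (α35 = 2 ∧ α53 = 2)) ∧ q35 = 4)))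
    (c45 : Hide (((Hide (x45 = 0 ∧ x54 = 0) ∧ Hide (T.a 4 5 = 0 ∧ T.a 5 4 = 0) ∧ Hide (α45 = 0 ∧ α54 = 0)) ∧ q45 = 0) ∨ ((Hide (x45 = T.m 5 ∧ x54 = T.m 4) ∧ Hide (T.a 4 5 = T.w 4 ∧ T.a 5 4 = T.w 5) ∧ Hide (α45 = 1 ∧ α54 = 1)) ∧ q45 = 1) ∨ ((Hide (x45 = T.m 5 ∧ x54 = 2 * T.m 4) ∧ Hide (T.a 4 5 = T.w 4 ∧ T.a 5 4 = 2 * T.w 5) ∧ Hide (α45 = 1 ∧ α54 = 2)) ∧ q45 = 2) ∨ ((Hide (x45 = 2 * T.m 5 ∧ x54 = T.m 4) ∧ Hide (T.a 4 5 = 2 * T.w 4 ∧ T.a 5 4 = T.w 5) ∧ Hide (α45 = 2 ∧ α54 = 1)) ∧ q45 = 2) ∨ ((Hide (x45 = T.m 5 ∧ x54 = 3 * T.m 4) ∧ Hide (T.a 4 5 = T.w 4 ∧ T.a 5 4 = 3 * T.w 5) ∧ Hide (α45 = 1 ∧ α54 = 3)) ∧ q45 = 3) ∨ ((Hide (x45 = 3 * T.m 5 ∧ x54 = T.m 4) ∧ Hide (T.a 4 5 = 3 * T.w 4 ∧ T.a 5 4 = T.w 5) ∧ Hide (α45 = 3 ∧ α54 = 1)) ∧ q45 = 3) ∨ ((Hide (x45 = T.m 5 ∧ x54 = 4 * T.m 4) ∧ Hide (T.a 4 5 = T.w 4 ∧ T.a 5 4 = 4 * T.w 5) ∧ Hide (α45 = 1 ∧ α54 = 4)) ∧ q45 = 4) ∨ ((Hide (x45 = 4 * T.m 5 ∧ x54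 = T.m 4) ∧ Hide (T.a 4 5 = 4 * T.w 4 ∧ T.a 5 4 = T.w 5) ∧ Hide (α45 = 4 ∧ α54 = 1)) ∧ q45 = 4) ∨ ((Hide (x45 = 2 * T.m 5 ∧ x54 = 2 * T.m 4) ∧ Hide (T.a 4 5 = 2 * T.w 4 ∧ T.a 5 4 = 2 * T.w 5) ∧ Hide (α45 = 2 ∧ α54 = 2)) ∧ q45 = 4)))
    (gw01 : Hide (T.a 0 1 = T.w 0 ∧ T.a 1 0 = 2 * T.w 1))
    (gw02 : Hide (T.a 0 2 = 0 ∧ T.a 2 0 = 0)) : Goal T := by
  have t := pc2 q03 c03.out (by have := v0.out; have := qn04.out; have := qn05.out; omega)
  clear c03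
  rcases t with ⟨⟨⟨rfl, rfl⟩, gw03, ⟨rfl, rfl⟩⟩, rfl⟩ | ⟨⟨⟨rfl, rfl⟩, gw03, ⟨rfl, rfl⟩⟩, rfl⟩ | ⟨⟨⟨rfl, rfl⟩, gw03, ⟨rfl, rfl⟩⟩, rfl⟩ | ⟨⟨⟨rfl, rfl⟩, gw03, ⟨rfl, rfl⟩⟩, rfl⟩
  · have t := pc2 q04 c04.out (by have := v0.out; have := qn05.out; omega)
    clear c04
    rcases t with ⟨⟨⟨rfl, rfl⟩, gw04, ⟨rfl, rfl⟩⟩, rfl⟩ | ⟨⟨⟨rfl, rfl⟩, gw04, ⟨rfl, rfl⟩⟩, rfl⟩ | ⟨⟨⟨rfl, rfl⟩, gw04, ⟨rfl, rfl⟩⟩, rfl⟩ | ⟨⟨⟨rfl, rfl⟩, gw04, ⟨rfl, rfl⟩⟩, rfl⟩
    · have t := pc2 q05 c05.out (by have := v0.out; omega)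
      clear c05
      rcases t with ⟨⟨⟨rfl, rfl⟩, gw05, ⟨rfl, rfl⟩⟩, rfl⟩ | ⟨⟨⟨rfl, rfl⟩, gw05, ⟨rfl, rfl⟩⟩, rfl⟩ | ⟨⟨⟨rfl, rfl⟩, gw05, ⟨rfl, rfl⟩⟩, rfl⟩ | ⟨⟨⟨rfl, rfl⟩, gw05, ⟨rfl, rfl⟩⟩, rfl⟩
      · have t := pc2 q12 c12.out (by have := v1.out; have := qn13.out; have := qn14.out; have := qn15.out; omega)
        clear c12
        rcases t with ⟨⟨⟨rfl, rfl⟩, gw12, ⟨rfl, rfl⟩⟩, rfl⟩ | ⟨⟨⟨rfl, rfl⟩, gw12, ⟨rfl, rfl⟩⟩, rfl⟩ | ⟨⟨⟨rfl, rfl⟩, gw12, ⟨rfl, rfl⟩⟩, rfl⟩ | ⟨⟨⟨rfl, rfl⟩, gw12, ⟨rfl, rfl⟩⟩, rfl⟩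
        · (have := od2.out; omega)
        · have t := pc1 q13 c13.out (by have := v1.out; have := qn14.out; have := qn15.out; omega)
          clear c13
          rcases t with ⟨⟨⟨rfl, rfl⟩, gw13, ⟨rfl, rfl⟩⟩, rfl⟩ | ⟨⟨⟨rfl, rfl⟩, gw13, ⟨rfl, rfl⟩⟩, rfl⟩
          · have t := pc1 q14 c14.out (by have := v1.out; have := qn15.out; omega)
            clear c14
            rcases t with ⟨⟨⟨rfl, rfl⟩, gw14, ⟨rfl, rfl⟩⟩, rfl⟩ | ⟨⟨⟨rfl, rfl⟩, gw14, ⟨rfl, rfl⟩⟩, rfl⟩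
            · have t := pc1 q15 c15.out (by have := v1.out; omega)
              clear c15
              rcases t with ⟨⟨⟨rfl, rfl⟩, gw15, ⟨rfl, rfl⟩⟩, rfl⟩ | ⟨⟨⟨rfl, rfl⟩, gw15, ⟨rfl, rfl⟩⟩, rfl⟩
              · have t := pc3 q23 c23.out (by have := v2.out; have := qn24.out; have := qn25.out; omega)
                clear c23
                rcases t with ⟨⟨⟨rfl, rfl⟩, gw23, ⟨rfl, rfl⟩⟩, rfl⟩ | ⟨⟨⟨rfl, rfl⟩, gw23, ⟨rfl, rfl⟩⟩, rfl⟩ | ⟨⟨⟨rfl, rfl⟩, gw23, ⟨rfl, rfl⟩⟩, rfl⟩ | ⟨⟨⟨rfl, rfl⟩, gw23, ⟨rfl, rfl⟩⟩, rfl⟩ | ⟨⟨⟨rfl, rfl⟩, gw23, ⟨rfl, rfl⟩⟩, rfl⟩ | ⟨⟨⟨rfl, rfl⟩, gw23, ⟨rfl, rfl⟩⟩, rfl⟩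
                · (have := od3.out; omega)
                · have t := pc2 q24 c24.out (by have := v2.out; have := qn25.out; omega)
                  clear c24
                  rcases t with ⟨⟨⟨rfl, rfl⟩, gw24, ⟨rfl, rfl⟩⟩, rfl⟩ | ⟨⟨⟨rfl, rfl⟩, gw24, ⟨rfl, rfl⟩⟩, rfl⟩ | ⟨⟨⟨rfl, rfl⟩, gw24, ⟨rfl, rfl⟩⟩, rfl⟩ | ⟨⟨⟨rfl, rfl⟩, gw24, ⟨rfl, rfl⟩⟩, rfl⟩
                  · have t := pc2 q25 c25.out (by have := v2.out; omega)
                    clear c25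
                    rcases t with ⟨⟨⟨rfl, rfl⟩, gw25, ⟨rfl, rfl⟩⟩, rfl⟩ | ⟨⟨⟨rfl, rfl⟩, gw25, ⟨rfl, rfl⟩⟩, rfl⟩ | ⟨⟨⟨rfl, rfl⟩, gw25, ⟨rfl, rfl⟩⟩, rfl⟩ | ⟨⟨⟨rfl, rfl⟩, gw25, ⟨rfl, rfl⟩⟩, rfl⟩
                    · have t := pc3 q34 c34.out (by have := v3.out; have := qn35.out; omega)
                      clear c34
                      rcases t with ⟨⟨⟨rfl, rfl⟩, gw34, ⟨rfl, rfl⟩⟩, rfl⟩ | ⟨⟨⟨rfl, rfl⟩, gw34, ⟨rfl, rfl⟩⟩, rfl⟩ | ⟨⟨⟨rfl, rfl⟩, gw34, ⟨rfl, rfl⟩⟩, rfl⟩ | ⟨⟨⟨rfl, rfl⟩, gw34, ⟨rfl, rfl⟩⟩, rfl⟩ | ⟨⟨⟨rfl, rfl⟩, gw34, ⟨rfl, rfl⟩⟩, rfl⟩ | ⟨⟨⟨rfl, rfl⟩, gw34, ⟨rfl, rfl⟩⟩, rfl⟩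
                      · (have := od4.out; omega)
                      · have t := pc2 q35 c35.out (by have := v3.out; omega)
                        clear c35
                        rcases t with ⟨⟨⟨rfl, rfl⟩, gw35, ⟨rfl, rfl⟩⟩, rfl⟩ | ⟨⟨⟨rfl, rfl⟩, gw35, ⟨rfl, rfl⟩⟩, rfl⟩ | ⟨⟨⟨rfl, rfl⟩, gw35, ⟨rfl, rfl⟩⟩, rfl⟩ | ⟨⟨⟨rfl, rfl⟩, gw35, ⟨rfl, rfl⟩⟩, rfl⟩
                        · have t := pc3 q45 c45.out (by have := v4.out; omega)
                          clear c45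
                          rcases t with ⟨⟨⟨rfl, rfl⟩, gw45, ⟨rfl, rfl⟩⟩, rfl⟩ | ⟨⟨⟨rfl, rfl⟩, gw45, ⟨rfl, rfl⟩⟩, rfl⟩ | ⟨⟨⟨rfl, rfl⟩, gw45, ⟨rfl, rfl⟩⟩, rfl⟩ | ⟨⟨⟨rfl, rfl⟩, gw45, ⟨rfl, rfl⟩⟩, rfl⟩ | ⟨⟨⟨rfl, rfl⟩, gw45, ⟨rfl, rfl⟩⟩, rfl⟩ | ⟨⟨⟨rfl, rfl⟩, gw45, ⟨rfl, rfl⟩⟩, rfl⟩
                          · (have := od5.out; omega)
                          · (have := hm0.out; have := om5.out; have := e0.out; have := e1.out; have := e2.out; have := e4.out; have := e5.out; omega)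
                          · have := hm0.out
                            have := hm1.out
                            have := hm2.out
                            have := hm3.out
                            have := hm4.out
                            have := hm5.out
                            have := e0.out
                            have := e1.out
                            have := e2.out
                            have := e3.out
                            have := e4.out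
                            have := e5.out
                            have := hw0.out
                            have := hw1.out
                            have := hw2.out
                            have := hw3.out
                            have := hw4.out
                            have := hw5.out
                            have := hs01.out
                            have := hs02.out
                            have := hs03.out
                            have := hs04.out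
                            have := hs05.out
                            have := hs12.out
                            have := hs13.out
                            have := hs14.out
                            have := hs15.out
                            have := hs23.out
                            have := hs24.out
                            have := hs25.out
                            have := hs34.out
                            have := hs35.out
                            have := hs45.out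
                            have := ha00.out
                            have := ha11.out
                            have := ha22.out
                            have := ha33.out
                            have := ha44.out
                            have := ha55.out
                            have := gw01.out
                            have := gw02.out
                            have := gw03.out
                            have := gw04.out
                            have := gw05.out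
                            have := gw12.out
                            have := gw13.out
                            have := gw14.out
                            have := gw15.out
                            have := gw23.out
                            have := gw24.out
                            have := gw25.out
                            have := gw34.out
                            have := gw35.out
                            have := gw45.out
                            exact ⟨p543210, T.m 0, T.w 5, Or.inr (Or.inl ((show T.m 5 = 2 * T.m 0 ∧ T.m 4 = 2 * T.m 0 ∧ T.m 3 = 2 * T.m 0 ∧ T.m 2 = 2 * T.m 0 ∧ T.m 1 = 2 * T.m 0 ∧ T.m 0 = T.m 0 ∧ T.w 5 = T.w 5 ∧ T.w 4 = 2 * T.w 5 ∧ T.w 3 = 2 * T.w 5 ∧ T.w 2 = 2 * T.w 5 ∧ T.w 1 = 2 * T.w 5 ∧ T.w 0 = 4 * T.w 5 ∧ T.a 5 5 = -2 * T.w 5 ∧ T.a 5 4 = 2 * T.w 5 ∧ T.a 5 3 = 0 ∧ T.a 5 2 = 0 ∧ T.a 5 1 = 0 ∧ T.a 5 0 = 0 ∧ T.a 4 4 = -4 * T.w 5 ∧ T.a 4 3 = 2 * T.w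 5 ∧ T.a 4 2 = 0 ∧ T.a 4 1 = 0 ∧ T.a 4 0 = 0 ∧ T.a 3 3 = -4 * T.w 5 ∧ T.a 3 2 = 2 * T.w 5 ∧ T.a 3 1 = 0 ∧ T.a 3 0 = 0 ∧ T.a 2 2 = -4 * T.w 5 ∧ T.a 2 1 = 2 * T.w 5 ∧ T.a 2 0 = 0 ∧ T.a 1 1 = -4 * T.w 5 ∧ T.a 1 0 = 4 * T.w 5 ∧ T.a 0 0 = -8 * T.w 5 from by omega)))⟩
                          · have := hm0.out
                            have := hm1.out
                            have := hm2.out
                            have := hm3.out
                            have := hm4.out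
                            have := hm5.out
                            have := e0.out
                            have := e1.out
                            have := e2.out
                            have := e3.out
                            have := e4.out
                            have := e5.out
                            have := hw0.out
                            have := hw1.out
                            have := hw2.out
                            have := hw3.out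
                            have := hw4.out
                            have := hw5.out
                            have := hs01.out
                            have := hs02.out
                            have := hs03.out
                            have := hs04.out
                            have := hs05.out
                            have := hs12.out
                            have := hs13.out
                            have := hs14.out
                            have := hs15.out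
                            have := hs23.out
                            have := hs24.out
                            have := hs25.out
                            have := hs34.out
                            have := hs35.out
                            have := hs45.out
                            have := ha00.out
                            have := ha11.out
                            have := ha22.out
                            have := ha33.out
                            have := ha44.out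
                            have := ha55.out
                            have := gw01.out
                            have := gw02.out
                            have := gw03.out
                            have := gw04.out
                            have := gw05.out
                            have := gw12.out
                            have := gw13.out
                            have := gw14.out
                            have := gw15.out
                            have := gw23.out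
                            have := gw24.out
                            have := gw25.out
                            have := gw34.out
                            have := gw35.out
                            have := gw45.out
                            exact ⟨p012345, T.m 0, T.w 1, Or.inr (Or.inr (Or.inr (Or.inl ((show T.m 0 = T.m 0 ∧ T.m 1 = 2 * T.m 0 ∧ T.m 2 = 2 * T.m 0 ∧ T.m 3 = 2 * T.m 0 ∧ T.m 4 = 2 * T.m 0 ∧ T.m 5 = T.m 0 ∧ T.w 0 = 2 * T.w 1 ∧ T.w 1 = T.w 1 ∧ T.w 2 = T.w 1 ∧ T.w 3 = T.w 1 ∧ T.w 4 = T.w 1 ∧ T.w 5 = 2 * T.w 1 ∧ T.a 0 0 = -4 * T.w 1 ∧ T.a 0 1 = 2 * T.w 1 ∧ T.a 0 2 = 0 ∧ T.a 0 3 = 0 ∧ T.a 0 4 = 0 ∧ T.a 0 5 = 0 ∧ T.a 1 1 = -2 * T.w 1 ∧ T.a 1 2 = T.w 1 ∧ T.a 1 3 = 0 ∧ T.a 1 4 = 0 ∧ T.a 1 5 = 0 ∧ T.a 2 2 = -2 * T.w 1 ∧ T.a 2 3 = T.w 1 ∧ T.a 2 4 = 0 ∧ T.a 2 5 = 0 ∧ T.a 3 3 = -2 * T.w 1 ∧ T.a 3 4 = T.w 1 ∧ T.a 3 5 = 0 ∧ T.a 4 4 = -2 * T.w 1 ∧ T.a 4 5 = 2 * T.w 1 ∧ T.a 5 5 = -4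 * T.w 1 from by omega)))))⟩
                          · (have := hm2.out; have := e3.out; have := e4.out; have := e5.out; omega)
                          · (have := hm2.out; have := e3.out; have := e4.out; have := e5.out; omega)
                        · have t := pc3 q45 c45.out (by have := v4.out; omega)
                          clear c45
                          rcases t with ⟨⟨⟨rfl, rfl⟩, gw45, ⟨rfl, rfl⟩⟩, rfl⟩ | ⟨⟨⟨rfl, rfl⟩, gw45, ⟨rfl, rfl⟩⟩, rfl⟩ | ⟨⟨⟨rfl, rfl⟩, gw45, ⟨rfl, rfl⟩⟩, rfl⟩ | ⟨⟨⟨rfl, rfl⟩, gw45, ⟨rfl, rfl⟩⟩, rfl⟩ | ⟨⟨⟨rfl, rfl⟩, gw45, ⟨rfl, rfl⟩⟩, rfl⟩ | ⟨⟨⟨rfl, rfl⟩, gw45, ⟨rfl, rfl⟩⟩, rfl⟩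
                          · have := hm0.out
                            have := hm1.out
                            have := hm2.out
                            have := hm3.out
                            have := hm4.out
                            have := hm5.out
                            have := e0.out
                            have := e1.out
                            have := e2.out
                            have := e3.out
                            have := e4.out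
                            have := e5.out
                            have := hw0.out
                            have := hw1.out
                            have := hw2.out
                            have := hw3.out
                            have := hw4.out
                            have := hw5.out
                            have := hs01.out
                            have := hs02.out
                            have := hs03.out
                            have := hs04.out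
                            have := hs05.out
                            have := hs12.out
                            have := hs13.out
                            have := hs14.out
                            have := hs15.out
                            have := hs23.out
                            have := hs24.out
                            have := hs25.out
                            have := hs34.out
                            have := hs35.out
                            have := hs45.out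
                            have := ha00.out
                            have := ha11.out
                            have := ha22.out
                            have := ha33.out
                            have := ha44.out
                            have := ha55.out
                            have := gw01.out
                            have := gw02.out
                            have := gw03.out
                            have := gw04.out
                            have := gw05.out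
                            have := gw12.out
                            have := gw13.out
                            have := gw14.out
                            have := gw15.out
                            have := gw23.out
                            have := gw24.out
                            have := gw25.out
                            have := gw34.out
                            have := gw35.out
                            have := gw45.out
                            exact ⟨p012345, T.m 0, T.w 1, Or.inr (Or.inr (Or.inr (Or.inr (Or.inl ((show T.m 0 = T.m 0 ∧ T.m 1 = 2 * T.m 0 ∧ T.m 2 = 2 * T.m 0 ∧ T.m 3 = 2 * T.m 0 ∧ T.m 4 = T.m 0 ∧ T.m 5 = T.m 0 ∧ T.w 0 = 2 * T.w 1 ∧ T.w 1 = T.w 1 ∧ T.w 2 = T.w 1 ∧ T.w 3 = T.w 1 ∧ T.w 4 = T.w 1 ∧ T.w 5 = T.w 1 ∧ T.a 0 0 = -4 * T.w 1 ∧ T.a 0 1 = 2 * T.w 1 ∧ T.a 0 2 = 0 ∧ T.a 0 3 = 0 ∧ T.a 0 4 = 0 ∧ T.a 0 5 = 0 ∧ T.a 1 1 = -2 * T.w 1 ∧ T.a 1 2 = T.w 1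 ∧ T.a 1 3 = 0 ∧ T.a 1 4 = 0 ∧ T.a 1 5 = 0 ∧ T.a 2 2 = -2 * T.w 1 ∧ T.a 2 3 = T.w 1 ∧ T.a 2 4 = 0 ∧ T.a 2 5 = 0 ∧ T.a 3 3 = -2 * T.w 1 ∧ T.a 3 4 = T.w 1 ∧ T.a 3 5 = T.w 1 ∧ T.a 4 4 = -2 * T.w 1 ∧ T.a 4 5 = 0 ∧ T.a 5 5 = -2 * T.w 1 from by omega))))))⟩
                          · (have := hm2.out; have := e3.out; have := e4.out; have := e5.out; omega)
                          · (have := hm4.out; have := om4.out; have := e0.out; have := e1.out; have := e2.out; have := e3.out; have := e5.out; omega)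
                          · (have := hm1.out; have := hm4.out; have := e2.out; have := e3.out; have := e4.out; have := e5.out; omega)
                          · (have := hm1.out; have := om4.out; have := e1.out; have := e3.out; have := e4.out; have := e5.out; omega)
                          · (have := hm1.out; have := om5.out; have := e1.out; have := e3.out; have := e4.out; have := e5.out; omega)
                        · (have := hm4.out; have := e0.out; have := e1.out; have := e2.out; have := e3.out; have := e5.out; have := r54.out; omega)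
                        · (have := hm4.out; have := om5.out; have := e0.out; have := e1.out; have := e2.out; have := e3.out; omega)
                      · have t := pc1 q35 c35.out (by have := v3.out; omega)
                        clear c35
                        rcases t with ⟨⟨⟨rfl, rfl⟩, gw35, ⟨rfl, rfl⟩⟩, rfl⟩ | ⟨⟨⟨rfl, rfl⟩, gw35, ⟨rfl, rfl⟩⟩, rfl⟩
                        · have t := pc2 q45 c45.out (by have := v4.out; omega)
                          clear c45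
                          rcases t with ⟨⟨⟨rfl, rfl⟩, gw45, ⟨rfl, rfl⟩⟩, rfl⟩ | ⟨⟨⟨rfl, rfl⟩, gw45, ⟨rfl, rfl⟩⟩, rfl⟩ | ⟨⟨⟨rfl, rfl⟩, gw45, ⟨rfl, rfl⟩⟩, rfl⟩ | ⟨⟨⟨rfl, rfl⟩, gw45, ⟨rfl, rfl⟩⟩, rfl⟩
                          · (have := od5.out; omega)
                          · (have := hm5.out; have := e0.out; have := e1.out; have := e2.out; have := e3.out; have := e4.out; omega)
                          · (have := hm2.out; have := e3.out; have := e4.out; have := e5.out; omega)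
                          · (have := hm2.out; have := e3.out; have := e4.out; have := e5.out; omega)
                        · (have := hm5.out; have := e0.out; have := e1.out; have := e2.out; have := e3.out; have := e4.out; have := r45.out; omega)
                      · have t := pc1 q35 c35.out (by have := v3.out; omega)
                        clear c35
                        rcases t with ⟨⟨⟨rfl, rfl⟩, gw35, ⟨rfl, rfl⟩⟩, rfl⟩ | ⟨⟨⟨rfl, rfl⟩, gw35, ⟨rfl, rfl⟩⟩, rfl⟩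
                        · have t := pc2 q45 c45.out (by have := v4.out; omega)
                          clear c45
                          rcases t with ⟨⟨⟨rfl, rfl⟩, gw45, ⟨rfl, rfl⟩⟩, rfl⟩ | ⟨⟨⟨rfl, rfl⟩, gw45, ⟨rfl, rfl⟩⟩, rfl⟩ | ⟨⟨⟨rfl, rfl⟩, gw45, ⟨rfl, rfl⟩⟩, rfl⟩ | ⟨⟨⟨rfl, rfl⟩, gw45, ⟨rfl, rfl⟩⟩, rfl⟩
                          · (have := od5.out; omega)
                          · (have := hm5.out; have := e0.out; have := e1.out; have := e2.out; have := e3.out; have := e4.out; omega)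
                          · (have := hm2.out; have := e3.out; have := e4.out; have := e5.out; omega)
                          · (have := hm2.out; have := e3.out; have := e4.out; have := e5.out; omega)
                        · (have := hm5.out; have := om4.out; have := e0.out; have := e1.out; have := e2.out; have := e3.out; omega)
                      · (have := hm1.out; have := e2.out; have := e3.out; have := r35.out; have := e4.out; have := r45.out; omega)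
                      · (have := hm1.out; have := e2.out; have := e3.out; have := r35.out; have := e4.out; have := r45.out; omega)
                    · have t := pc3 q34 c34.out (by have := v3.out; have := qn35.out; omega)
                      clear c34
                      rcases t with ⟨⟨⟨rfl, rfl⟩, gw34, ⟨rfl, rfl⟩⟩, rfl⟩ | ⟨⟨⟨rfl, rfl⟩, gw34, ⟨rfl, rfl⟩⟩, rfl⟩ | ⟨⟨⟨rfl, rfl⟩, gw34, ⟨rfl, rfl⟩⟩, rfl⟩ | ⟨⟨⟨rfl, rfl⟩, gw34, ⟨rfl, rfl⟩⟩, rfl⟩ | ⟨⟨⟨rfl, rfl⟩, gw34, ⟨rfl, rfl⟩⟩, rfl⟩ | ⟨⟨⟨rfl, rfl⟩, gw34, ⟨rfl, rfl⟩⟩, rfl⟩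
                      · (have := od4.out; omega)
                      · (have := hm4.out; have := e0.out; have := e1.out; have := e2.out; have := e3.out; have := r35.out; have := e5.out; have := r53.out; have := r54.out; omega)
                      · (have := hm4.out; have := e0.out; have := e1.out; have := e2.out; have := e3.out; have := r35.out; have := e5.out; have := r53.out; have := r54.out; omega)
                      · (have := hm4.out; have := e0.out; have := e1.out; have := e2.out; have := e3.out; have := r35.out; have := e5.out; have := r53.out; have := r54.out; omega)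
                      · (have := hm4.out; have := e0.out; have := e1.out; have := e2.out; have := e3.out; have := r35.out; have := e5.out; have := r53.out; have := r54.out; omega)
                      · (have := hm4.out; have := e0.out; have := e1.out; have := e2.out; have := e3.out; have := r35.out; have := e5.out; have := r53.out; have := r54.out; omega)
                    · (have := hm3.out; have := e0.out; have := e1.out; have := e2.out; have := e5.out; have := r53.out; have := r54.out; omega)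
                    · (have := hm3.out; have := om5.out; have := e0.out; have := e1.out; have := e2.out; omega)
                  · have t := pc1 q25 c25.out (by have := v2.out; omega)
                    clear c25
                    rcases t with ⟨⟨⟨rfl, rfl⟩, gw25, ⟨rfl, rfl⟩⟩, rfl⟩ | ⟨⟨⟨rfl, rfl⟩, gw25, ⟨rfl, rfl⟩⟩, rfl⟩
                    · have t := pc3 q34 c34.out (by have := v3.out; have := qn35.out; omega)
                      clear c34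
                      rcases t with ⟨⟨⟨rfl, rfl⟩, gw34, ⟨rfl, rfl⟩⟩, rfl⟩ | ⟨⟨⟨rfl, rfl⟩, gw34, ⟨rfl, rfl⟩⟩, rfl⟩ | ⟨⟨⟨rfl, rfl⟩, gw34, ⟨rfl, rfl⟩⟩, rfl⟩ | ⟨⟨⟨rfl, rfl⟩, gw34, ⟨rfl, rfl⟩⟩, rfl⟩ | ⟨⟨⟨rfl, rfl⟩, gw34, ⟨rfl, rfl⟩⟩, rfl⟩ | ⟨⟨⟨rfl, rfl⟩, gw34, ⟨rfl, rfl⟩⟩, rfl⟩
                      · have t := pc3 q35 c35.out (by have := v3.out; omega)
                        clear c35
                        rcases t with ⟨⟨⟨rfl, rfl⟩, gw35, ⟨rfl, rfl⟩⟩, rfl⟩ | ⟨⟨⟨rfl, rfl⟩, gw35, ⟨rfl, rfl⟩⟩, rfl⟩ | ⟨⟨⟨rfl, rfl⟩, gw35, ⟨rfl, rfl⟩⟩, rfl⟩ | ⟨⟨⟨rfl, rfl⟩, gw35, ⟨rfl, rfl⟩⟩, rfl⟩ | ⟨⟨⟨rfl, rfl⟩, gw35, ⟨rfl, rfl⟩⟩, rfl⟩ | ⟨⟨⟨rfl, rfl⟩, gw35, ⟨rfl, rfl⟩⟩, rfl⟩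
                        · have t := pc3 q45 c45.out (by have := v4.out; omega)
                          clear c45
                          rcases t with ⟨⟨⟨rfl, rfl⟩, gw45, ⟨rfl, rfl⟩⟩, rfl⟩ | ⟨⟨⟨rfl, rfl⟩, gw45, ⟨rfl, rfl⟩⟩, rfl⟩ | ⟨⟨⟨rfl, rfl⟩, gw45, ⟨rfl, rfl⟩⟩, rfl⟩ | ⟨⟨⟨rfl, rfl⟩, gw45, ⟨rfl, rfl⟩⟩, rfl⟩ | ⟨⟨⟨rfl, rfl⟩, gw45, ⟨rfl, rfl⟩⟩, rfl⟩ | ⟨⟨⟨rfl, rfl⟩, gw45, ⟨rfl, rfl⟩⟩, rfl⟩
                          · (have := od5.out; omega)
                          · (have := hm5.out; have := e0.out; have := e1.out; have := e2.out; have := e3.out; have := e4.out; omega)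
                          · (have := hm5.out; have := e0.out; have := e1.out; have := e2.out; have := e3.out; have := e4.out; omega)
                          · (have := hm5.out; have := e0.out; have := e1.out; have := e2.out; have := e3.out; have := e4.out; omega)
                          · (have := hm1.out; have := hm3.out; have := e2.out; have := e4.out; have := e5.out; omega)
                          · (have := hm1.out; have := hm3.out; have := e2.out; have := e4.out; have := e5.out; omega)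
                        · (have := hm5.out; have := om4.out; have := e0.out; have := e1.out; have := e2.out; have := e3.out; omega)
                        · (have := hm5.out; have := om4.out; have := e0.out; have := e1.out; have := e2.out; have := e3.out; omega)
                        · (have := hm4.out; have := om5.out; have := e0.out; have := e1.out; have := e2.out; have := e3.out; omega)
                        · (have := hm5.out; have := om4.out; have := e0.out; have := e1.out; have := e2.out; have := e3.out; omega)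
                        · (have := hm5.out; have := om4.out; have := e0.out; have := e1.out; have := e2.out; have := e3.out; omega)
                      · (have := hm3.out; have := om3.out; have := e0.out; have := e1.out; have := e2.out; have := e4.out; have := r45.out; omega)
                      · (have := hm3.out; have := om3.out; have := e0.out; have := e1.out; have := e2.out; have := e4.out; have := r45.out; omega)
                      · (have := hm0.out; have := om3.out; have := e1.out; have := e2.out; have := e3.out; have := r35.out; have := e4.out; have := r45.out; omega)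
                      · (have := hm3.out; have := om3.out; have := e0.out; have := e1.out; have := e2.out; have := e4.out; have := r45.out; omega)
                      · (have := hm3.out; have := om3.out; have := e0.out; have := e1.out; have := e2.out; have := e4.out; have := r45.out; omega)
                    · (have := hm0.out; have := e1.out; have := e2.out; have := e3.out; have := r34.out; have := r35.out; have := e4.out; have := r43.out; have := r45.out; have := e5.out; have := r53.out; have := r54.out; omega)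
                  · (have := hm3.out; have := e0.out; have := e1.out; have := e2.out; have := r25.out; have := e4.out; have := r43.out; have := r45.out; omega)
                  · (have := hm3.out; have := om4.out; have := e0.out; have := e1.out; have := e2.out; have := r25.out; omega)
                · have t := pc1 q24 c24.out (by have := v2.out; have := qn25.out; omega)
                  clear c24
                  rcases t with ⟨⟨⟨rfl, rfl⟩, gw24, ⟨rfl, rfl⟩⟩, rfl⟩ | ⟨⟨⟨rfl, rfl⟩, gw24, ⟨rfl, rfl⟩⟩, rfl⟩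
                  · have t := pc1 q25 c25.out (by have := v2.out; omega)
                    clear c25
                    rcases t with ⟨⟨⟨rfl, rfl⟩, gw25, ⟨rfl, rfl⟩⟩, rfl⟩ | ⟨⟨⟨rfl, rfl⟩, gw25, ⟨rfl, rfl⟩⟩, rfl⟩
                    · have t := pc2 q34 c34.out (by have := v3.out; have := qn35.out; omega)
                      clear c34
                      rcases t with ⟨⟨⟨rfl, rfl⟩, gw34, ⟨rfl, rfl⟩⟩, rfl⟩ | ⟨⟨⟨rfl, rfl⟩, gw34, ⟨rfl, rfl⟩⟩, rfl⟩ | ⟨⟨⟨rfl, rfl⟩, gw34, ⟨rfl, rfl⟩⟩, rfl⟩ | ⟨⟨⟨rfl, rfl⟩, gw34, ⟨rfl, rfl⟩⟩, rfl⟩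
                      · (have := od4.out; omega)
                      · (have := hm4.out; have := e0.out; have := e1.out; have := e2.out; have := e3.out; have := r35.out; omega)
                      · (have := hm4.out; have := e0.out; have := e1.out; have := e2.out; have := e3.out; have := r35.out; omega)
                      · (have := hm4.out; have := e0.out; have := e1.out; have := e2.out; have := e3.out; have := r35.out; omega)
                    · (have := hm5.out; have := e0.out; have := e1.out; have := e2.out; have := e3.out; have := r34.out; have := r35.out; omega)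
                  · (have := hm4.out; have := e0.out; have := e1.out; have := e2.out; have := r25.out; have := e3.out; have := r34.out; have := r35.out; omega)
                · have t := pc1 q24 c24.out (by have := v2.out; have := qn25.out; omega)
                  clear c24
                  rcases t with ⟨⟨⟨rfl, rfl⟩, gw24, ⟨rfl, rfl⟩⟩, rfl⟩ | ⟨⟨⟨rfl, rfl⟩, gw24, ⟨rfl, rfl⟩⟩, rfl⟩
                  · have t := pc1 q25 c25.out (by have := v2.out; omega)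
                    clear c25
                    rcases t with ⟨⟨⟨rfl, rfl⟩, gw25, ⟨rfl, rfl⟩⟩, rfl⟩ | ⟨⟨⟨rfl, rfl⟩, gw25, ⟨rfl, rfl⟩⟩, rfl⟩
                    · have t := pc2 q34 c34.out (by have := v3.out; have := qn35.out; omega)
                      clear c34
                      rcases t with ⟨⟨⟨rfl, rfl⟩, gw34, ⟨rfl, rfl⟩⟩, rfl⟩ | ⟨⟨⟨rfl, rfl⟩, gw34, ⟨rfl, rfl⟩⟩, rfl⟩ | ⟨⟨⟨rfl, rfl⟩, gw34, ⟨rfl, rfl⟩⟩, rfl⟩ | ⟨⟨⟨rfl, rfl⟩, gw34, ⟨rfl, rfl⟩⟩, rfl⟩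
                      · (have := od4.out; omega)
                      · (have := hm4.out; have := e0.out; have := e1.out; have := e2.out; have := e3.out; have := r35.out; omega)
                      · (have := hm4.out; have := e0.out; have := e1.out; have := e2.out; have := e3.out; have := r35.out; omega)
                      · (have := hm4.out; have := e0.out; have := e1.out; have := e2.out; have := e3.out; have := r35.out; omega)
                    · (have := hm5.out; have := om3.out; have := e0.out; have := e1.out; have := e2.out; omega)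
                  · (have := hm4.out; have := om3.out; have := e0.out; have := e1.out; have := e2.out; have := r25.out; omega)
                · (have := hm0.out; have := e1.out; have := e2.out; have := r24.out; have := r25.out; have := e3.out; have := r34.out; have := r35.out; omega)
                · (have := hm0.out; have := e1.out; have := e2.out; have := r24.out; have := r25.out; have := e3.out; have := r34.out; have := r35.out; omega)
              · have t := pc3 q23 c23.out (by have := v2.out; have := qn24.out; have := qn25.out; omega)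
                clear c23
                rcases t with ⟨⟨⟨rfl, rfl⟩, gw23, ⟨rfl, rfl⟩⟩, rfl⟩ | ⟨⟨⟨rfl, rfl⟩, gw23, ⟨rfl, rfl⟩⟩, rfl⟩ | ⟨⟨⟨rfl, rfl⟩, gw23, ⟨rfl, rfl⟩⟩, rfl⟩ | ⟨⟨⟨rfl, rfl⟩, gw23, ⟨rfl, rfl⟩⟩, rfl⟩ | ⟨⟨⟨rfl, rfl⟩, gw23, ⟨rfl, rfl⟩⟩, rfl⟩ | ⟨⟨⟨rfl, rfl⟩, gw23, ⟨rfl, rfl⟩⟩, rfl⟩
                · (have := od3.out; omega)
                · (have := hm3.out; have := e0.out; have := e1.out; have := e2.out; have := r24.out; have := r25.out; have := e5.out; have := r52.out; have := r53.out; have := r54.out; omega)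
                · (have := hm3.out; have := e0.out; have := e1.out; have := e2.out; have := r24.out; have := r25.out; have := e5.out; have := r52.out; have := r53.out; have := r54.out; omega)
                · (have := hm3.out; have := e0.out; have := e1.out; have := e2.out; have := r24.out; have := r25.out; have := e5.out; have := r52.out; have := r53.out; have := r54.out; omega)
                · (have := hm3.out; have := om5.out; have := e0.out; have := e1.out; have := e2.out; have := r24.out; have := r25.out; omega)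
                · (have := hm3.out; have := om5.out; have := e0.out; have := e1.out; have := e2.out; have := r24.out; have := r25.out; omega)
            · have t := pc0 q15 c15.out (by have := v1.out; omega)
              clear c15
              obtain ⟨⟨⟨rfl, rfl⟩, gw15, ⟨rfl, rfl⟩⟩, rfl⟩ := t
              have t := pc3 q23 c23.out (by have := v2.out; have := qn24.out; have := qn25.out; omega)
              clear c23
              rcases t with ⟨⟨⟨rfl, rfl⟩, gw23, ⟨rfl, rfl⟩⟩, rfl⟩ | ⟨⟨⟨rfl, rfl⟩, gw23, ⟨rfl, rfl⟩⟩, rfl⟩ | ⟨⟨⟨rfl, rfl⟩, gw23, ⟨rfl, rfl⟩⟩, rfl⟩ | ⟨⟨⟨rfl, rfl⟩, gw23, ⟨rfl, rfl⟩⟩, rfl⟩ | ⟨⟨⟨rfl, rfl⟩, gw23, ⟨rfl, rfl⟩⟩, rfl⟩ | ⟨⟨⟨rfl, rfl⟩, gw23, ⟨rfl, rfl⟩⟩, rfl⟩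
              · (have := od3.out; omega)
              · (have := hm3.out; have := e0.out; have := e1.out; have := e2.out; have := r24.out; have := r25.out; have := e4.out; have := r42.out; have := r43.out; have := r45.out; omega)
              · (have := hm3.out; have := e0.out; have := e1.out; have := e2.out; have := r24.out; have := r25.out; have := e4.out; have := r42.out; have := r43.out; have := r45.out; omega)
              · (have := hm3.out; have := e0.out; have := e1.out; have := e2.out; have := r24.out; have := r25.out; have := e4.out; have := r42.out; have := r43.out; have := r45.out; omega)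
              · (have := hm3.out; have := om4.out; have := e0.out; have := e1.out; have := e2.out; have := r24.out; have := r25.out; omega)
              · (have := hm3.out; have := om4.out; have := e0.out; have := e1.out; have := e2.out; have := r24.out; have := r25.out; omega)
          · have t := pc0 q14 c14.out (by have := v1.out; have := qn15.out; omega)
            clear c14
            obtain ⟨⟨⟨rfl, rfl⟩, gw14, ⟨rfl, rfl⟩⟩, rfl⟩ := t
            have t := pc0 q15 c15.out (by have := v1.out; omega)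
            clear c15
            obtain ⟨⟨⟨rfl, rfl⟩, gw15, ⟨rfl, rfl⟩⟩, rfl⟩ := t
            have t := pc3 q23 c23.out (by have := v2.out; have := qn24.out; have := qn25.out; omega)
            clear c23
            rcases t with ⟨⟨⟨rfl, rfl⟩, gw23, ⟨rfl, rfl⟩⟩, rfl⟩ | ⟨⟨⟨rfl, rfl⟩, gw23, ⟨rfl, rfl⟩⟩, rfl⟩ | ⟨⟨⟨rfl, rfl⟩, gw23, ⟨rfl, rfl⟩⟩, rfl⟩ | ⟨⟨⟨rfl, rfl⟩, gw23, ⟨rfl, rfl⟩⟩, rfl⟩ | ⟨⟨⟨rfl, rfl⟩, gw23, ⟨rfl, rfl⟩⟩, rfl⟩ | ⟨⟨⟨rfl, rfl⟩, gw23, ⟨rfl, rfl⟩⟩, rfl⟩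
            · have t := pc3 q24 c24.out (by have := v2.out; have := qn25.out; omega)
              clear c24
              rcases t with ⟨⟨⟨rfl, rfl⟩, gw24, ⟨rfl, rfl⟩⟩, rfl⟩ | ⟨⟨⟨rfl, rfl⟩, gw24, ⟨rfl, rfl⟩⟩, rfl⟩ | ⟨⟨⟨rfl, rfl⟩, gw24, ⟨rfl, rfl⟩⟩, rfl⟩ | ⟨⟨⟨rfl, rfl⟩, gw24, ⟨rfl, rfl⟩⟩, rfl⟩ | ⟨⟨⟨rfl, rfl⟩, gw24, ⟨rfl, rfl⟩⟩, rfl⟩ | ⟨⟨⟨rfl, rfl⟩, gw24, ⟨rfl, rfl⟩⟩, rfl⟩
              · have t := pc3 q25 c25.out (by have := v2.out; omega)
                clear c25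
                rcases t with ⟨⟨⟨rfl, rfl⟩, gw25, ⟨rfl, rfl⟩⟩, rfl⟩ | ⟨⟨⟨rfl, rfl⟩, gw25, ⟨rfl, rfl⟩⟩, rfl⟩ | ⟨⟨⟨rfl, rfl⟩, gw25, ⟨rfl, rfl⟩⟩, rfl⟩ | ⟨⟨⟨rfl, rfl⟩, gw25, ⟨rfl, rfl⟩⟩, rfl⟩ | ⟨⟨⟨rfl, rfl⟩, gw25, ⟨rfl, rfl⟩⟩, rfl⟩ | ⟨⟨⟨rfl, rfl⟩, gw25, ⟨rfl, rfl⟩⟩, rfl⟩
                · have t := pc3 q34 c34.out (by have := v3.out; have := qn35.out; omega)
                  clear c34
                  rcases t with ⟨⟨⟨rfl, rfl⟩, gw34, ⟨rfl, rfl⟩⟩, rfl⟩ | ⟨⟨⟨rfl, rfl⟩, gw34, ⟨rfl, rfl⟩⟩, rfl⟩ | ⟨⟨⟨rfl, rfl⟩, gw34, ⟨rfl, rfl⟩⟩, rfl⟩ | ⟨⟨⟨rfl, rfl⟩, gw34, ⟨rfl, rfl⟩⟩, rfl⟩ | ⟨⟨⟨rfl, rfl⟩, gw34, ⟨rfl, rfl⟩⟩, rfl⟩ | ⟨⟨⟨rfl, rfl⟩, gw34, ⟨rfl, rfl⟩⟩, rfl⟩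
                  · (have := od4.out; omega)
                  · (have := hm4.out; have := e0.out; have := e1.out; have := e2.out; have := e3.out; have := r35.out; omega)
                  · (have := hm4.out; have := e0.out; have := e1.out; have := e2.out; have := e3.out; have := r35.out; omega)
                  · (have := hm4.out; have := e0.out; have := e1.out; have := e2.out; have := e3.out; have := r35.out; omega)
                  · (have := hm4.out; have := e0.out; have := e1.out; have := e2.out; have := e3.out; have := r35.out; omega)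
                  · (have := hm0.out; have := hm2.out; have := e1.out; have := e3.out; have := r35.out; have := e4.out; have := r45.out; omega)
                · (have := hm5.out; have := om3.out; have := e0.out; have := e1.out; have := e2.out; omega)
                · (have := hm5.out; have := om3.out; have := e0.out; have := e1.out; have := e2.out; omega)
                · (have := hm5.out; have := om3.out; have := e0.out; have := e1.out; have := e2.out; omega)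
                · (have := hm0.out; have := om3.out; have := e1.out; have := e2.out; have := e5.out; have := r53.out; have := r54.out; omega)
                · (have := hm0.out; have := om3.out; have := e1.out; have := e2.out; have := e5.out; have := r53.out; have := r54.out; omega)
              · (have := hm4.out; have := om3.out; have := e0.out; have := e1.out; have := e2.out; have := r25.out; omega)
              · (have := hm4.out; have := om3.out; have := e0.out; have := e1.out; have := e2.out; have := r25.out; omega)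
              · (have := hm4.out; have := om3.out; have := e0.out; have := e1.out; have := e2.out; have := r25.out; omega)
              · (have := hm0.out; have := om3.out; have := e1.out; have := e2.out; have := r25.out; have := e4.out; have := r43.out; have := r45.out; omega)
              · (have := hm0.out; have := om3.out; have := e1.out; have := e2.out; have := r25.out; have := e4.out; have := r43.out; have := r45.out; omega)
            · (have := hm2.out; have := om2.out; have := e0.out; have := e1.out; have := e3.out; have := r34.out; have := r35.out; omega)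
            · (have := hm2.out; have := om2.out; have := e0.out; have := e1.out; have := e3.out; have := r34.out; have := r35.out; omega)
            · (have := hm2.out; have := om2.out; have := e0.out; have := e1.out; have := e3.out; have := r34.out; have := r35.out; omega)
            · (have := hm2.out; have := om2.out; have := e0.out; have := e1.out; have := e3.out; have := r34.out; have := r35.out; omega)
            · (have := hm2.out; have := om2.out; have := e0.out; have := e1.out; have := e3.out; have := r34.out; have := r35.out; omega)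
        · have t := pc0 q13 c13.out (by have := v1.out; have := qn14.out; have := qn15.out; omega)
          clear c13
          obtain ⟨⟨⟨rfl, rfl⟩, gw13, ⟨rfl, rfl⟩⟩, rfl⟩ := t
          have t := pc0 q14 c14.out (by have := v1.out; have := qn15.out; omega)
          clear c14
          obtain ⟨⟨⟨rfl, rfl⟩, gw14, ⟨rfl, rfl⟩⟩, rfl⟩ := t
          have t := pc0 q15 c15.out (by have := v1.out; omega)
          clear c15
          obtain ⟨⟨⟨rfl, rfl⟩, gw15, ⟨rfl, rfl⟩⟩, rfl⟩ := t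
          have t := pc2 q23 c23.out (by have := v2.out; have := qn24.out; have := qn25.out; omega)
          clear c23
          rcases t with ⟨⟨⟨rfl, rfl⟩, gw23, ⟨rfl, rfl⟩⟩, rfl⟩ | ⟨⟨⟨rfl, rfl⟩, gw23, ⟨rfl, rfl⟩⟩, rfl⟩ | ⟨⟨⟨rfl, rfl⟩, gw23, ⟨rfl, rfl⟩⟩, rfl⟩ | ⟨⟨⟨rfl, rfl⟩, gw23, ⟨rfl, rfl⟩⟩, rfl⟩
          · (have := od3.out; omega)
          · (have := hm3.out; have := e0.out; have := e1.out; have := e2.out; have := r24.out; have := r25.out; omega)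
          · (have := hm3.out; have := e0.out; have := e1.out; have := e2.out; have := r24.out; have := r25.out; omega)
          · (have := hm3.out; have := e0.out; have := e1.out; have := e2.out; have := r24.out; have := r25.out; omega)
        · have t := pc0 q13 c13.out (by have := v1.out; have := qn14.out; have := qn15.out; omega)
          clear c13
          obtain ⟨⟨⟨rfl, rfl⟩, gw13, ⟨rfl, rfl⟩⟩, rfl⟩ := t
          have t := pc0 q14 c14.out (by have := v1.out; have := qn15.out; omega)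
          clear c14
          obtain ⟨⟨⟨rfl, rfl⟩, gw14, ⟨rfl, rfl⟩⟩, rfl⟩ := t
          have t := pc0 q15 c15.out (by have := v1.out; omega)
          clear c15
          obtain ⟨⟨⟨rfl, rfl⟩, gw15, ⟨rfl, rfl⟩⟩, rfl⟩ := t
          have t := pc2 q23 c23.out (by have := v2.out; have := qn24.out; have := qn25.out; omega)
          clear c23
          rcases t with ⟨⟨⟨rfl, rfl⟩, gw23, ⟨rfl, rfl⟩⟩, rfl⟩ | ⟨⟨⟨rfl, rfl⟩, gw23, ⟨rfl, rfl⟩⟩, rfl⟩ | ⟨⟨⟨rfl, rfl⟩, gw23, ⟨rfl, rfl⟩⟩, rfl⟩ | ⟨⟨⟨rfl, rfl⟩, gw23, ⟨rfl, rfl⟩⟩, rfl⟩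
          · (have := od3.out; omega)
          · (have := hm3.out; have := e0.out; have := e1.out; have := e2.out; have := r24.out; have := r25.out; omega)
          · (have := hm3.out; have := e0.out; have := e1.out; have := e2.out; have := r24.out; have := r25.out; omega)
          · (have := hm3.out; have := e0.out; have := e1.out; have := e2.out; have := r24.out; have := r25.out; omega)
      · have t := pc2 q12 c12.out (by have := v1.out; have := qn13.out; have := qn14.out; have := qn15.out; omega)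
        clear c12
        rcases t with ⟨⟨⟨rfl, rfl⟩, gw12, ⟨rfl, rfl⟩⟩, rfl⟩ | ⟨⟨⟨rfl, rfl⟩, gw12, ⟨rfl, rfl⟩⟩, rfl⟩ | ⟨⟨⟨rfl, rfl⟩, gw12, ⟨rfl, rfl⟩⟩, rfl⟩ | ⟨⟨⟨rfl, rfl⟩, gw12, ⟨rfl, rfl⟩⟩, rfl⟩
        · (have := od2.out; omega)
        · (have := hm2.out; have := om5.out; have := e0.out; have := e1.out; have := r13.out; have := r14.out; have := r15.out; omega)
        · (have := hm2.out; have := om5.out; have := e0.out; have := e1.out; have := r13.out; have := r14.out; have := r15.out; omega)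
        · (have := hm2.out; have := om5.out; have := e0.out; have := e1.out; have := r13.out; have := r14.out; have := r15.out; omega)
      · have t := pc2 q12 c12.out (by have := v1.out; have := qn13.out; have := qn14.out; have := qn15.out; omega)
        clear c12
        rcases t with ⟨⟨⟨rfl, rfl⟩, gw12, ⟨rfl, rfl⟩⟩, rfl⟩ | ⟨⟨⟨rfl, rfl⟩, gw12, ⟨rfl, rfl⟩⟩, rfl⟩ | ⟨⟨⟨rfl, rfl⟩, gw12, ⟨rfl, rfl⟩⟩, rfl⟩ | ⟨⟨⟨rfl, rfl⟩, gw12, ⟨rfl, rfl⟩⟩, rfl⟩
        · (have := od2.out; omega)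
        · (have := hm2.out; have := om5.out; have := e0.out; have := e1.out; have := r13.out; have := r14.out; have := r15.out; omega)
        · (have := hm2.out; have := om5.out; have := e0.out; have := e1.out; have := r13.out; have := r14.out; have := r15.out; omega)
        · (have := hm2.out; have := om5.out; have := e0.out; have := e1.out; have := r13.out; have := r14.out; have := r15.out; omega)
      · (have := hm1.out; have := om5.out; have := e0.out; omega)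
    · have t := pc1 q05 c05.out (by have := v0.out; omega)
      clear c05
      rcases t with ⟨⟨⟨rfl, rfl⟩, gw05, ⟨rfl, rfl⟩⟩, rfl⟩ | ⟨⟨⟨rfl, rfl⟩, gw05, ⟨rfl, rfl⟩⟩, rfl⟩
      · have t := pc2 q12 c12.out (by have := v1.out; have := qn13.out; have := qn14.out; have := qn15.out; omega)
        clear c12
        rcases t with ⟨⟨⟨rfl, rfl⟩, gw12, ⟨rfl, rfl⟩⟩, rfl⟩ | ⟨⟨⟨rfl, rfl⟩, gw12, ⟨rfl, rfl⟩⟩, rfl⟩ | ⟨⟨⟨rfl, rfl⟩, gw12, ⟨rfl, rfl⟩⟩, rfl⟩ | ⟨⟨⟨rfl, rfl⟩, gw12, ⟨rfl, rfl⟩⟩, rfl⟩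
        · (have := od2.out; omega)
        · (have := hm2.out; have := om4.out; have := e0.out; have := e1.out; have := r13.out; have := r14.out; have := r15.out; omega)
        · (have := hm2.out; have := om4.out; have := e0.out; have := e1.out; have := r13.out; have := r14.out; have := r15.out; omega)
        · (have := hm2.out; have := om4.out; have := e0.out; have := e1.out; have := r13.out; have := r14.out; have := r15.out; omega)
      · (have := hm1.out; have := om4.out; have := om5.out; have := e0.out; omega)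
    · have t := pc0 q05 c05.out (by have := v0.out; omega)
      clear c05
      obtain ⟨⟨⟨rfl, rfl⟩, gw05, ⟨rfl, rfl⟩⟩, rfl⟩ := t
      have t := pc2 q12 c12.out (by have := v1.out; have := qn13.out; have := qn14.out; have := qn15.out; omega)
      clear c12
      rcases t with ⟨⟨⟨rfl, rfl⟩, gw12, ⟨rfl, rfl⟩⟩, rfl⟩ | ⟨⟨⟨rfl, rfl⟩, gw12, ⟨rfl, rfl⟩⟩, rfl⟩ | ⟨⟨⟨rfl, rfl⟩, gw12, ⟨rfl, rfl⟩⟩, rfl⟩ | ⟨⟨⟨rfl, rfl⟩, gw12, ⟨rfl, rfl⟩⟩, rfl⟩
      · (have := od2.out; omega)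
      · (have := hm2.out; have := om4.out; have := e0.out; have := e1.out; have := r13.out; have := r14.out; have := r15.out; omega)
      · (have := hm2.out; have := om4.out; have := e0.out; have := e1.out; have := r13.out; have := r14.out; have := r15.out; omega)
      · (have := hm2.out; have := om4.out; have := e0.out; have := e1.out; have := r13.out; have := r14.out; have := r15.out; omega)
    · (have := hm1.out; have := om4.out; have := e0.out; have := r05.out; omega)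
  · have t := pc1 q04 c04.out (by have := v0.out; have := qn05.out; omega)
    clear c04
    rcases t with ⟨⟨⟨rfl, rfl⟩, gw04, ⟨rfl, rfl⟩⟩, rfl⟩ | ⟨⟨⟨rfl, rfl⟩, gw04, ⟨rfl, rfl⟩⟩, rfl⟩
    · have t := pc1 q05 c05.out (by have := v0.out; omega)
      clear c05
      rcases t with ⟨⟨⟨rfl, rfl⟩, gw05, ⟨rfl, rfl⟩⟩, rfl⟩ | ⟨⟨⟨rfl, rfl⟩, gw05, ⟨rfl, rfl⟩⟩, rfl⟩
      · have t := pc2 q12 c12.out (by have := v1.out; have := qn13.out; have := qn14.out; have := qn15.out; omega)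
        clear c12
        rcases t with ⟨⟨⟨rfl, rfl⟩, gw12, ⟨rfl, rfl⟩⟩, rfl⟩ | ⟨⟨⟨rfl, rfl⟩, gw12, ⟨rfl, rfl⟩⟩, rfl⟩ | ⟨⟨⟨rfl, rfl⟩, gw12, ⟨rfl, rfl⟩⟩, rfl⟩ | ⟨⟨⟨rfl, rfl⟩, gw12, ⟨rfl, rfl⟩⟩, rfl⟩
        · (have := od2.out; omega)
        · (have := hm2.out; have := om3.out; have := e0.out; have := e1.out; have := r13.out; have := r14.out; have := r15.out; omega)
        · (have := hm2.out; have := om3.out; have := e0.out; have := e1.out; have := r13.out; have := r14.out; have := r15.out; omega)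
        · (have := hm2.out; have := om3.out; have := e0.out; have := e1.out; have := r13.out; have := r14.out; have := r15.out; omega)
      · (have := hm1.out; have := om3.out; have := om5.out; have := e0.out; omega)
    · (have := hm1.out; have := om3.out; have := om4.out; have := e0.out; have := r05.out; omega)
  · have t := pc0 q04 c04.out (by have := v0.out; have := qn05.out; omega)
    clear c04
    obtain ⟨⟨⟨rfl, rfl⟩, gw04, ⟨rfl, rfl⟩⟩, rfl⟩ := t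
    have t := pc0 q05 c05.out (by have := v0.out; omega)
    clear c05
    obtain ⟨⟨⟨rfl, rfl⟩, gw05, ⟨rfl, rfl⟩⟩, rfl⟩ := t
    have t := pc2 q12 c12.out (by have := v1.out; have := qn13.out; have := qn14.out; have := qn15.out; omega)
    clear c12
    rcases t with ⟨⟨⟨rfl, rfl⟩, gw12, ⟨rfl, rfl⟩⟩, rfl⟩ | ⟨⟨⟨rfl, rfl⟩, gw12, ⟨rfl, rfl⟩⟩, rfl⟩ | ⟨⟨⟨rfl, rfl⟩, gw12, ⟨rfl, rfl⟩⟩, rfl⟩ | ⟨⟨⟨rfl, rfl⟩, gw12, ⟨rfl, rfl⟩⟩, rfl⟩
    · (have := od2.out; omega)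
    · (have := hm2.out; have := om3.out; have := e0.out; have := e1.out; have := r13.out; have := r14.out; have := r15.out; omega)
    · (have := hm2.out; have := om3.out; have := e0.out; have := e1.out; have := r13.out; have := r14.out; have := r15.out; omega)
    · (have := hm2.out; have := om3.out; have := e0.out; have := e1.out; have := r13.out; have := r14.out; have := r15.out; omega)
  · (have := hm1.out; have := om3.out; have := e0.out; have := r04.out; have := r05.out; omega)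

end Groth.Agent.Lib.helper20.G1n6
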