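import Groth.Agent.Lib.Helper20.G1n6Base

set_option autoImplicit false
set_option linter.unusedVariables false
open Finset
open Models Models.NumericalType

namespace Groth.Agent.Lib.helper20.G1n6

set_option maxHeartbeats 0 in
theorem part5 (T : Models.NumericalType 6) (α14 α15 α23 α24 α25 α32 α34 α35 α41 α42 α43 α45 α51 α52 α53 α54 x14 x15 x23 x24 x25 x32 x34 x35 x41 x42 x43 x45 x51 x52 x53 x54 q14 q15 q23 q24 q25 q34 q35 q45 : ℤ)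
    (hm0 : Hide (0 < T.m 0))
    (hm1 : Hide (0 < T.m 1))
    (hm2 : Hide (0 < T.m 2))
    (hm3 : Hide (0 < T.m 3))
    (hm4 : Hide (0 < T.m 4))
    (hm5 : Hide (0 < T.m 5))
    (om1 : Hide (T.m 0 ≤ T.m 1))
    (om2 : Hide (T.m 0 ≤ T.m 2))
    (om3 : Hide (T.m 0 ≤ T.m 3))
    (om4 : Hide (T.m 0 ≤ T.m 4))
    (om5 : Hide (T.m 0 ≤ T.m 5))
    (e0 : Hide (T.m 1 + (0 : ℤ) + (0 : ℤ) + (0 : ℤ) + (0 : ℤ) = 2 * T.m 0))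
    (e1 : Hide (T.m 0 + T.m 2 + T.m 3 + x14 + x15 = 2 * T.m 1))
    (e2 : Hide ((0 : ℤ) + T.m 1 + x23 + x24 + x25 = 2 * T.m 2))
    (e3 : Hide ((0 : ℤ) + 2 * T.m 1 + x32 + x34 + x35 = 2 * T.m 3))
    (e4 : Hide ((0 : ℤ) + x41 + x42 + x43 + x45 = 2 * T.m 4))
    (e5 : Hide ((0 : ℤ) + x51 + x52 + x53 + x54 = 2 * T.m 5))
    (r01 : Hide (0 ≤ T.m 1))
    (r02 : Hide (0 ≤ (0 : ℤ)))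
    (r03 : Hide (0 ≤ (0 : ℤ)))
    (r04 : Hide (0 ≤ (0 : ℤ)))
    (r05 : Hide (0 ≤ (0 : ℤ)))
    (r10 : Hide (0 ≤ T.m 0))
    (r12 : Hide (0 ≤ T.m 2))
    (r13 : Hide (0 ≤ T.m 3))
    (r14 : Hide (0 ≤ x14))
    (r15 : Hide (0 ≤ x15))
    (r20 : Hide (0 ≤ (0 : ℤ)))
    (r21 : Hide (0 ≤ T.m 1))
    (r23 : Hide (0 ≤ x23))
    (r24 : Hide (0 ≤ x24))
    (r25 : Hide (0 ≤ x25))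
    (r30 : Hide (0 ≤ (0 : ℤ)))
    (r31 : Hide (0 ≤ 2 * T.m 1))
    (r32 : Hide (0 ≤ x32))
    (r34 : Hide (0 ≤ x34))
    (r35 : Hide (0 ≤ x35))
    (r40 : Hide (0 ≤ (0 : ℤ)))
    (r41 : Hide (0 ≤ x41))
    (r42 : Hide (0 ≤ x42))
    (r43 : Hide (0 ≤ x43))
    (r45 : Hide (0 ≤ x45))
    (r50 : Hide (0 ≤ (0 : ℤ)))
    (r51 : Hide (0 ≤ x51))
    (r52 : Hide (0 ≤ x52))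
    (r53 : Hide (0 ≤ x53))
    (r54 : Hide (0 ≤ x54))
    (hw0 : Hide (0 < T.w 0))
    (hw1 : Hide (0 < T.w 1))
    (hw2 : Hide (0 < T.w 2))
    (hw3 : Hide (0 < T.w 3))
    (hw4 : Hide (0 < T.w 4))
    (hw5 : Hide (0 < T.w 5))
    (hs01 : Hide (T.a 0 1 = T.a 1 0))
    (hs02 : Hide (T.a 0 2 = T.a 2 0))
    (hs03 : Hide (T.a 0 3 = T.a 3 0))
    (hs04 : Hide (T.a 0 4 = T.a 4 0))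
    (hs05 : Hide (T.a 0 5 = T.a 5 0))
    (hs12 : Hide (T.a 1 2 = T.a 2 1))
    (hs13 : Hide (T.a 1 3 = T.a 3 1))
    (hs14 : Hide (T.a 1 4 = T.a 4 1))
    (hs15 : Hide (T.a 1 5 = T.a 5 1))
    (hs23 : Hide (T.a 2 3 = T.a 3 2))
    (hs24 : Hide (T.a 2 4 = T.a 4 2))
    (hs25 : Hide (T.a 2 5 = T.a 5 2))
    (hs34 : Hide (T.a 3 4 = T.a 4 3))
    (hs35 : Hide (T.a 3 5 = T.a 5 3))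
    (hs45 : Hide (T.a 4 5 = T.a 5 4))
    (ha00 : Hide (T.a 0 0 = -2 * T.w 0))
    (ha11 : Hide (T.a 1 1 = -2 * T.w 1))
    (ha22 : Hide (T.a 2 2 = -2 * T.w 2))
    (ha33 : Hide (T.a 3 3 = -2 * T.w 3))
    (ha44 : Hide (T.a 4 4 = -2 * T.w 4))
    (ha55 : Hide (T.a 5 5 = -2 * T.w 5))
    (v0 : Hide ((1 : ℤ) + (0 : ℤ) + (0 : ℤ) + (0 : ℤ) + (0 : ℤ) ≤ 4))
    (v1 : Hide ((1 : ℤ) + (1 : ℤ) + (2 : ℤ) + q14 + q15 ≤ 4))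
    (v2 : Hide ((0 : ℤ) + (1 : ℤ) + q23 + q24 + q25 ≤ 4))
    (v3 : Hide ((0 : ℤ) + (2 : ℤ) + q23 + q34 + q35 ≤ 4))
    (v4 : Hide ((0 : ℤ) + q14 + q24 + q34 + q45 ≤ 4))
    (v5 : Hide ((0 : ℤ) + q15 + q25 + q35 + q45 ≤ 4))
    (qn01 : Hide (0 ≤ (1 : ℤ)))
    (qn02 : Hide (0 ≤ (0 : ℤ)))
    (qn03 : Hide (0 ≤ (0 : ℤ)))
    (qn04 : Hide (0 ≤ (0 : ℤ)))
    (qn05 : Hide (0 ≤ (0 : ℤ)))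
    (qn12 : Hide (0 ≤ (1 : ℤ)))
    (qn13 : Hide (0 ≤ (2 : ℤ)))
    (qn14 : Hide (0 ≤ q14))
    (qn15 : Hide (0 ≤ q15))
    (qn23 : Hide (0 ≤ q23))
    (qn24 : Hide (0 ≤ q24))
    (qn25 : Hide (0 ≤ q25))
    (qn34 : Hide (0 ≤ q34))
    (qn35 : Hide (0 ≤ q35))
    (qn45 : Hide (0 ≤ q45))
    (od1 : Hide (0 < (1 : ℤ)))
    (od2 : Hide (0 < (0 : ℤ) + (1 : ℤ)))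
    (od3 : Hide (0 < (0 : ℤ) + (1 : ℤ) + α23))
    (od4 : Hide (0 < (0 : ℤ) + α14 + α24 + α34))
    (od5 : Hide (0 < (0 : ℤ) + α15 + α25 + α35 + α45))
    (c14 : Hide (((Hide (x14 = 0 ∧ x41 = 0) ∧ Hide (T.a 1 4 = 0 ∧ T.a 4 1 = 0) ∧ Hide (α14 = 0 ∧ α41 = 0)) ∧ q14 = 0) ∨ ((Hide (x14 = T.m 4 ∧ x41 = T.m 1) ∧ Hide (T.a 1 4 = T.w 1 ∧ T.a 4 1 = T.w 4) ∧ Hide (α14 = 1 ∧ α41 = 1)) ∧ q14 = 1) ∨ ((Hide (x14 = T.m 4 ∧ x41 = 2 * T.m 1) ∧ Hide (T.a 1 4 = T.w 1 ∧ T.a 4 1 = 2 * T.w 4) ∧ Hide (α14 = 1 ∧ α41 = 2)) ∧ q14 = 2) ∨ ((Hide (x14 = 2 * T.m 4 ∧ x41 = T.m 1) ∧ Hide (T.a 1 4 = 2 * T.w 1 ∧ T.a 4 1 = T.w 4) ∧ Hide (α14 = 2 ∧ α41 = 1)) ∧ q14 = 2) ∨ ((Hide (x14 = T.m 4 ∧ x41 = 3 * T.m 1) ∧ Hide (T.a 1 4 = T.w 1 ∧ T.a 4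 1 = 3 * T.w 4) ∧ Hide (α14 = 1 ∧ α41 = 3)) ∧ q14 = 3) ∨ ((Hide (x14 = 3 * T.m 4 ∧ x41 = T.m 1) ∧ Hide (T.a 1 4 = 3 * T.w 1 ∧ T.a 4 1 = T.w 4) ∧ Hide (α14 = 3 ∧ α41 = 1)) ∧ q14 = 3) ∨ ((Hide (x14 = T.m 4 ∧ x41 = 4 * T.m 1) ∧ Hide (T.a 1 4 = T.w 1 ∧ T.a 4 1 = 4 * T.w 4) ∧ Hide (α14 = 1 ∧ α41 = 4)) ∧ q14 = 4) ∨ ((Hide (x14 = 4 * T.m 4 ∧ x41 = T.m 1) ∧ Hide (T.a 1 4 = 4 * T.w 1 ∧ T.a 4 1 = T.w 4) ∧ Hide (α14 = 4 ∧ α41 = 1)) ∧ q14 = 4) ∨ ((Hide (x14 = 2 * T.m 4 ∧ x41 = 2 * T.m 1) ∧ Hide (T.a 1 4 = 2 * T.w 1 ∧ T.a 4 1 = 2 * T.w 4) ∧ Hide (α14 = 2 ∧ α41 = 2)) ∧ q14 = 4)))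
    (c15 : Hide (((Hide (x15 = 0 ∧ x51 = 0) ∧ Hide (T.a 1 5 = 0 ∧ T.a 5 1 = 0) ∧ Hide (α15 = 0 ∧ α51 = 0)) ∧ q15 = 0) ∨ ((Hide (x15 = T.m 5 ∧ x51 = T.m 1) ∧ Hide (T.a 1 5 = T.w 1 ∧ T.a 5 1 = T.w 5) ∧ Hide (α15 = 1 ∧ α51 = 1)) ∧ q15 = 1) ∨ ((Hide (x15 = T.m 5 ∧ x51 = 2 * T.m 1) ∧ Hide (T.a 1 5 = T.w 1 ∧ T.a 5 1 = 2 * T.w 5) ∧ Hide (α15 = 1 ∧ α51 = 2)) ∧ q15 = 2) ∨ ((Hide (x15 = 2 * T.m 5 ∧ x51 = T.m 1) ∧ Hide (T.a 1 5 = 2 * T.w 1 ∧ T.a 5 1 = T.w 5) ∧ Hide (α15 = 2 ∧ α51 = 1)) ∧ q15 = 2) ∨ ((Hide (x15 = T.m 5 ∧ x51 = 3 * T.m 1) ∧ Hide (T.a 1 5 = T.w 1 ∧ T.a 5 1 = 3 * T.w 5) ∧ Hide (α15 = 1 ∧ α51 = 3)) ∧ q15 = 3) ∨ ((Hide (x15 = 3 * T.m 5 ∧ x51 = T.m 1) ∧ Hide (T.a 1 5 = 3 * T.w 1 ∧ T.a 5 1 = T.w 5) ∧ Hide (α15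 = 3 ∧ α51 = 1)) ∧ q15 = 3) ∨ ((Hide (x15 = T.m 5 ∧ x51 = 4 * T.m 1) ∧ Hide (T.a 1 5 = T.w 1 ∧ T.a 5 1 = 4 * T.w 5) ∧ Hide (α15 = 1 ∧ α51 = 4)) ∧ q15 = 4) ∨ ((Hide (x15 = 4 * T.m 5 ∧ x51 = T.m 1) ∧ Hide (T.a 1 5 = 4 * T.w 1 ∧ T.a 5 1 = T.w 5) ∧ Hide (α15 = 4 ∧ α51 = 1)) ∧ q15 = 4) ∨ ((Hide (x15 = 2 * T.m 5 ∧ x51 = 2 * T.m 1) ∧ Hide (T.a 1 5 = 2 * T.w 1 ∧ T.a 5 1 = 2 * T.w 5) ∧ Hide (α15 = 2 ∧ α51 = 2)) ∧ q15 = 4)))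
    (c23 : Hide (((Hide (x23 = 0 ∧ x32 = 0) ∧ Hide (T.a 2 3 = 0 ∧ T.a 3 2 = 0) ∧ Hide (α23 = 0 ∧ α32 = 0)) ∧ q23 = 0) ∨ ((Hide (x23 = T.m 3 ∧ x32 = T.m 2) ∧ Hide (T.a 2 3 = T.w 2 ∧ T.a 3 2 = T.w 3) ∧ Hide (α23 = 1 ∧ α32 = 1)) ∧ q23 = 1) ∨ ((Hide (x23 = T.m 3 ∧ x32 = 2 * T.m 2) ∧ Hide (T.a 2 3 = T.w 2 ∧ T.a 3 2 = 2 * T.w 3) ∧ Hide (α23 = 1 ∧ α32 = 2)) ∧ q23 = 2) ∨ ((Hide (x23 = 2 * T.m 3 ∧ x32 = T.m 2) ∧ Hide (T.a 2 3 = 2 * T.w 2 ∧ T.a 3 2 = T.w 3) ∧ Hide (α23 = 2 ∧ α32 = 1)) ∧ q23 = 2) ∨ ((Hide (x23 = T.m 3 ∧ x32 = 3 * T.m 2) ∧ Hide (T.a 2 3 = T.w 2 ∧ T.a 3 2 = 3 * T.w 3) ∧ Hide (α23 = 1 ∧ α32 = 3)) ∧ q23 = 3) ∨ ((Hide (x23 = 3 * T.m 3 ∧ x32 = T.m 2) ∧ Hide (T.a 2 3 = 3 * T.w 2 ∧ T.a 3 2 = T.w 3) ∧ Hide (α23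 = 3 ∧ α32 = 1)) ∧ q23 = 3) ∨ ((Hide (x23 = T.m 3 ∧ x32 = 4 * T.m 2) ∧ Hide (T.a 2 3 = T.w 2 ∧ T.a 3 2 = 4 * T.w 3) ∧ Hide (α23 = 1 ∧ α32 = 4)) ∧ q23 = 4) ∨ ((Hide (x23 = 4 * T.m 3 ∧ x32 = T.m 2) ∧ Hide (T.a 2 3 = 4 * T.w 2 ∧ T.a 3 2 = T.w 3) ∧ Hide (α23 = 4 ∧ α32 = 1)) ∧ q23 = 4) ∨ ((Hide (x23 = 2 * T.m 3 ∧ x32 = 2 * T.m 2) ∧ Hide (T.a 2 3 = 2 * T.w 2 ∧ T.a 3 2 = 2 * T.w 3) ∧ Hide (α23 = 2 ∧ α32 = 2)) ∧ q23 = 4)))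
    (c24 : Hide (((Hide (x24 = 0 ∧ x42 = 0) ∧ Hide (T.a 2 4 = 0 ∧ T.a 4 2 = 0) ∧ Hide (α24 = 0 ∧ α42 = 0)) ∧ q24 = 0) ∨ ((Hide (x24 = T.m 4 ∧ x42 = T.m 2) ∧ Hide (T.a 2 4 = T.w 2 ∧ T.a 4 2 = T.w 4) ∧ Hide (α24 = 1 ∧ α42 = 1)) ∧ q24 = 1) ∨ ((Hide (x24 = T.m 4 ∧ x42 = 2 * T.m 2) ∧ Hide (T.a 2 4 = T.w 2 ∧ T.a 4 2 = 2 * T.w 4) ∧ Hide (α24 = 1 ∧ α42 = 2)) ∧ q24 = 2) ∨ ((Hide (x24 = 2 * T.m 4 ∧ x42 = T.m 2) ∧ Hide (T.a 2 4 = 2 * T.w 2 ∧ T.a 4 2 = T.w 4) ∧ Hide (α24 = 2 ∧ α42 = 1)) ∧ q24 = 2) ∨ ((Hide (x24 = T.m 4 ∧ x42 = 3 * T.m 2) ∧ Hide (T.a 2 4 = T.w 2 ∧ T.a 4 2 = 3 * T.w 4) ∧ Hide (α24 = 1 ∧ α42 = 3)) ∧ q24 = 3) ∨ ((Hide (x24 = 3 * T.m 4 ∧ x42 = T.m 2) ∧ Hide (T.a 2 4 = 3 * T.w 2 ∧ T.a 4 2 = T.w 4) ∧ Hide (α24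 = 3 ∧ α42 = 1)) ∧ q24 = 3) ∨ ((Hide (x24 = T.m 4 ∧ x42 = 4 * T.m 2) ∧ Hide (T.a 2 4 = T.w 2 ∧ T.a 4 2 = 4 * T.w 4) ∧ Hide (α24 = 1 ∧ α42 = 4)) ∧ q24 = 4) ∨ ((Hide (x24 = 4 * T.m 4 ∧ x42 = T.m 2) ∧ Hide (T.a 2 4 = 4 * T.w 2 ∧ T.a 4 2 = T.w 4) ∧ Hide (α24 = 4 ∧ α42 = 1)) ∧ q24 = 4) ∨ ((Hide (x24 = 2 * T.m 4 ∧ x42 = 2 * T.m 2) ∧ Hide (T.a 2 4 = 2 * T.w 2 ∧ T.a 4 2 = 2 * T.w 4) ∧ Hide (α24 = 2 ∧ α42 = 2)) ∧ q24 = 4)))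
    (c25 : Hide (((Hide (x25 = 0 ∧ x52 = 0) ∧ Hide (T.a 2 5 = 0 ∧ T.a 5 2 = 0) ∧ Hide (α25 = 0 ∧ α52 = 0)) ∧ q25 = 0) ∨ ((Hide (x25 = T.m 5 ∧ x52 = T.m 2) ∧ Hide (T.a 2 5 = T.w 2 ∧ T.a 5 2 = T.w 5) ∧ Hide (α25 = 1 ∧ α52 = 1)) ∧ q25 = 1) ∨ ((Hide (x25 = T.m 5 ∧ x52 = 2 * T.m 2) ∧ Hide (T.a 2 5 = T.w 2 ∧ T.a 5 2 = 2 * T.w 5) ∧ Hide (α25 = 1 ∧ α52 = 2)) ∧ q25 = 2) ∨ ((Hide (x25 = 2 * T.m 5 ∧ x52 = T.m 2) ∧ Hide (T.a 2 5 = 2 * T.w 2 ∧ T.a 5 2 = T.w 5) ∧ Hide (α25 = 2 ∧ α52 = 1)) ∧ q25 = 2) ∨ ((Hide (x25 = T.m 5 ∧ x52 = 3 * T.m 2) ∧ Hide (T.a 2 5 = T.w 2 ∧ T.a 5 2 = 3 * T.w 5) ∧ Hide (α25 = 1 ∧ α52 = 3)) ∧ q25 = 3) ∨ ((Hide (x25 = 3 * T.m 5 ∧ x52 = T.m 2) ∧ Hide (T.a 2 5 = 3 * T.w 2 ∧ T.a 5 2 = T.w 5) ∧ Hide (α25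 = 3 ∧ α52 = 1)) ∧ q25 = 3) ∨ ((Hide (x25 = T.m 5 ∧ x52 = 4 * T.m 2) ∧ Hide (T.a 2 5 = T.w 2 ∧ T.a 5 2 = 4 * T.w 5) ∧ Hide (α25 = 1 ∧ α52 = 4)) ∧ q25 = 4) ∨ ((Hide (x25 = 4 * T.m 5 ∧ x52 = T.m 2) ∧ Hide (T.a 2 5 = 4 * T.w 2 ∧ T.a 5 2 = T.w 5) ∧ Hide (α25 = 4 ∧ α52 = 1)) ∧ q25 = 4) ∨ ((Hide (x25 = 2 * T.m 5 ∧ x52 = 2 * T.m 2) ∧ Hide (T.a 2 5 = 2 * T.w 2 ∧ T.a 5 2 = 2 * T.w 5) ∧ Hide (α25 = 2 ∧ α52 = 2)) ∧ q25 = 4)))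
    (c34 : Hide (((Hide (x34 = 0 ∧ x43 = 0) ∧ Hide (T.a 3 4 = 0 ∧ T.a 4 3 = 0) ∧ Hide (α34 = 0 ∧ α43 = 0)) ∧ q34 = 0) ∨ ((Hide (x34 = T.m 4 ∧ x43 = T.m 3) ∧ Hide (T.a 3 4 = T.w 3 ∧ T.a 4 3 = T.w 4) ∧ Hide (α34 = 1 ∧ α43 = 1)) ∧ q34 = 1) ∨ ((Hide (x34 = T.m 4 ∧ x43 = 2 * T.m 3) ∧ Hide (T.a 3 4 = T.w 3 ∧ T.a 4 3 = 2 * T.w 4) ∧ Hide (α34 = 1 ∧ α43 = 2)) ∧ q34 = 2) ∨ ((Hide (x34 = 2 * T.m 4 ∧ x43 = T.m 3) ∧ Hide (T.a 3 4 = 2 * T.w 3 ∧ T.a 4 3 = T.w 4) ∧ Hide (α34 = 2 ∧ α43 = 1)) ∧ q34 = 2) ∨ ((Hide (x34 = T.m 4 ∧ x43 = 3 * T.m 3) ∧ Hide (T.a 3 4 = T.w 3 ∧ T.a 4 3 = 3 * T.w 4) ∧ Hide (α34 = 1 ∧ α43 = 3)) ∧ q34 = 3) ∨ ((Hide (x34 = 3 * T.m 4 ∧ x43 = T.m 3) ∧ Hide (T.a 3 4 = 3 * T.w 3 ∧ T.a 4 3 = T.w 4) ∧ Hide (α34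 = 3 ∧ α43 = 1)) ∧ q34 = 3) ∨ ((Hide (x34 = T.m 4 ∧ x43 = 4 * T.m 3) ∧ Hide (T.a 3 4 = T.w 3 ∧ T.a 4 3 = 4 * T.w 4) ∧ Hide (α34 = 1 ∧ α43 = 4)) ∧ q34 = 4) ∨ ((Hide (x34 = 4 * T.m 4 ∧ x43 = T.m 3) ∧ Hide (T.a 3 4 = 4 * T.w 3 ∧ T.a 4 3 = T.w 4) ∧ Hide (α34 = 4 ∧ α43 = 1)) ∧ q34 = 4) ∨ ((Hide (x34 = 2 * T.m 4 ∧ x43 = 2 * T.m 3) ∧ Hide (T.a 3 4 = 2 * T.w 3 ∧ T.a 4 3 = 2 * T.w 4) ∧ Hide (α34 = 2 ∧ α43 = 2)) ∧ q34 = 4)))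
    (c35 : Hide (((Hide (x35 = 0 ∧ x53 = 0) ∧ Hide (T.a 3 5 = 0 ∧ T.a 5 3 = 0) ∧ Hide (α35 = 0 ∧ α53 = 0)) ∧ q35 = 0) ∨ ((Hide (x35 = T.m 5 ∧ x53 = T.m 3) ∧ Hide (T.a 3 5 = T.w 3 ∧ T.a 5 3 = T.w 5) ∧ Hide (α35 = 1 ∧ α53 = 1)) ∧ q35 = 1) ∨ ((Hide (x35 = T.m 5 ∧ x53 = 2 * T.m 3) ∧ Hide (T.a 3 5 = T.w 3 ∧ T.a 5 3 = 2 * T.w 5) ∧ Hide (α35 = 1 ∧ α53 = 2)) ∧ q35 = 2) ∨ ((Hide (x35 = 2 * T.m 5 ∧ x53 = T.m 3) ∧ Hide (T.a 3 5 = 2 * T.w 3 ∧ T.a 5 3 = T.w 5) ∧ Hide (α35 = 2 ∧ α53 = 1)) ∧ q35 = 2) ∨ ((Hide (x35 = T.m 5 ∧ x53 = 3 * T.m 3) ∧ Hide (T.a 3 5 = T.w 3 ∧ T.a 5 3 = 3 * T.w 5) ∧ Hide (α35 = 1 ∧ α53 = 3)) ∧ q35 = 3) ∨ ((Hide (x35 = 3 * T.m 5 ∧ x53 = T.m 3) ∧ Hide (T.a 3 5 = 3 * T.w 3 ∧ T.a 5 3 = T.w 5) ∧ Hide (α35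 = 3 ∧ α53 = 1)) ∧ q35 = 3) ∨ ((Hide (x35 = T.m 5 ∧ x53 = 4 * T.m 3) ∧ Hide (T.a 3 5 = T.w 3 ∧ T.a 5 3 = 4 * T.w 5) ∧ Hide (α35 = 1 ∧ α53 = 4)) ∧ q35 = 4) ∨ ((Hide (x35 = 4 * T.m 5 ∧ x53 = T.m 3) ∧ Hide (T.a 3 5 = 4 * T.w 3 ∧ T.a 5 3 = T.w 5) ∧ Hide (α35 = 4 ∧ α53 = 1)) ∧ q35 = 4) ∨ ((Hide (x35 = 2 * T.m 5 ∧ x53 = 2 * T.m 3) ∧ Hide (T.a 3 5 = 2 * T.w 3 ∧ T.a 5 3 = 2 * T.w 5) ∧ Hide (α35 = 2 ∧ α53 = 2)) ∧ q35 = 4)))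
    (c45 : Hide (((Hide (x45 = 0 ∧ x54 = 0) ∧ Hide (T.a 4 5 = 0 ∧ T.a 5 4 = 0) ∧ Hide (α45 = 0 ∧ α54 = 0)) ∧ q45 = 0) ∨ ((Hide (x45 = T.m 5 ∧ x54 = T.m 4) ∧ Hide (T.a 4 5 = T.w 4 ∧ T.a 5 4 = T.w 5) ∧ Hide (α45 = 1 ∧ α54 = 1)) ∧ q45 = 1) ∨ ((Hide (x45 = T.m 5 ∧ x54 = 2 * T.m 4) ∧ Hide (T.a 4 5 = T.w 4 ∧ T.a 5 4 = 2 * T.w 5) ∧ Hide (α45 = 1 ∧ α54 = 2)) ∧ q45 = 2) ∨ ((Hide (x45 = 2 * T.m 5 ∧ x54 = T.m 4) ∧ Hide (T.a 4 5 = 2 * T.w 4 ∧ T.a 5 4 = T.w 5) ∧ Hide (α45 = 2 ∧ α54 = 1)) ∧ q45 = 2) ∨ ((Hide (x45 = T.m 5 ∧ x54 = 3 * T.m 4) ∧ Hide (T.a 4 5 = T.w 4 ∧ T.a 5 4 = 3 * T.w 5) ∧ Hide (α45 = 1 ∧ α54 = 3)) ∧ q45 = 3) ∨ ((Hide (x45 = 3 * T.m 5 ∧ x54 = T.m 4) ∧ Hide (T.a 4 5 = 3 * T.w 4 ∧ T.a 5 4 = T.w 5) ∧ Hide (α45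 = 3 ∧ α54 = 1)) ∧ q45 = 3) ∨ ((Hide (x45 = T.m 5 ∧ x54 = 4 * T.m 4) ∧ Hide (T.a 4 5 = T.w 4 ∧ T.a 5 4 = 4 * T.w 5) ∧ Hide (α45 = 1 ∧ α54 = 4)) ∧ q45 = 4) ∨ ((Hide (x45 = 4 * T.m 5 ∧ x54 = T.m 4) ∧ Hide (T.a 4 5 = 4 * T.w 4 ∧ T.a 5 4 = T.w 5) ∧ Hide (α45 = 4 ∧ α54 = 1)) ∧ q45 = 4) ∨ ((Hide (x45 = 2 * T.m 5 ∧ x54 = 2 * T.m 4) ∧ Hide (T.a 4 5 = 2 * T.w 4 ∧ T.a 5 4 = 2 * T.w 5) ∧ Hide (α45 = 2 ∧ α54 = 2)) ∧ q45 = 4)))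
    (gw01 : Hide (T.a 0 1 = T.w 0 ∧ T.a 1 0 = T.w 1))
    (gw02 : Hide (T.a 0 2 = 0 ∧ T.a 2 0 = 0))
    (gw03 : Hide (T.a 0 3 = 0 ∧ T.a 3 0 = 0))
    (gw04 : Hide (T.a 0 4 = 0 ∧ T.a 4 0 = 0))
    (gw05 : Hide (T.a 0 5 = 0 ∧ T.a 5 0 = 0))
    (gw12 : Hide (T.a 1 2 = T.w 1 ∧ T.a 2 1 = T.w 2))
    (gw13 : Hide (T.a 1 3 = T.w 1 ∧ T.a 3 1 = 2 * T.w 3)) : Goal T := by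
  have t := pc0 q14 c14.out (by have := v1.out; have := qn15.out; omega)
  clear c14
  obtain ⟨⟨⟨rfl, rfl⟩, gw14, ⟨rfl, rfl⟩⟩, rfl⟩ := t
  have t := pc0 q15 c15.out (by have := v1.out; omega)
  clear c15
  obtain ⟨⟨⟨rfl, rfl⟩, gw15, ⟨rfl, rfl⟩⟩, rfl⟩ := t
  have t := pc2 q23 c23.out (by have := v3.out; have := qn34.out; have := qn35.out; omega)
  clear c23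
  rcases t with ⟨⟨⟨rfl, rfl⟩, gw23, ⟨rfl, rfl⟩⟩, rfl⟩ | ⟨⟨⟨rfl, rfl⟩, gw23, ⟨rfl, rfl⟩⟩, rfl⟩ | ⟨⟨⟨rfl, rfl⟩, gw23, ⟨rfl, rfl⟩⟩, rfl⟩ | ⟨⟨⟨rfl, rfl⟩, gw23, ⟨rfl, rfl⟩⟩, rfl⟩
  · have t := pc3 q24 c24.out (by have := v2.out; have := qn25.out; omega)
    clear c24
    rcases t with ⟨⟨⟨rfl, rfl⟩, gw24, ⟨rfl, rfl⟩⟩, rfl⟩ | ⟨⟨⟨rfl, rfl⟩, gw24, ⟨rfl, rfl⟩⟩, rfl⟩ | ⟨⟨⟨rfl, rfl⟩, gw24, ⟨rfl, rfl⟩⟩, rfl⟩ | ⟨⟨⟨rfl, rfl⟩, gw24, ⟨rfl, rfl⟩⟩, rfl⟩ | ⟨⟨⟨rfl, rfl⟩, gw24, ⟨rfl, rfl⟩⟩, rfl⟩ | ⟨⟨⟨rfl, rfl⟩, gw24, ⟨rfl, rfl⟩⟩, rfl⟩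
    · have t := pc3 q25 c25.out (by have := v2.out; omega)
      clear c25
      rcases t with ⟨⟨⟨rfl, rfl⟩, gw25, ⟨rfl, rfl⟩⟩, rfl⟩ | ⟨⟨⟨rfl, rfl⟩, gw25, ⟨rfl, rfl⟩⟩, rfl⟩ | ⟨⟨⟨rfl, rfl⟩, gw25, ⟨rfl, rfl⟩⟩, rfl⟩ | ⟨⟨⟨rfl, rfl⟩, gw25, ⟨rfl, rfl⟩⟩, rfl⟩ | ⟨⟨⟨rfl, rfl⟩, gw25, ⟨rfl, rfl⟩⟩, rfl⟩ | ⟨⟨⟨rfl, rfl⟩, gw25, ⟨rfl, rfl⟩⟩, rfl⟩
      · have t := pc2 q34 c34.out (by have := v3.out; have := qn35.out; omega)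
        clear c34
        rcases t with ⟨⟨⟨rfl, rfl⟩, gw34, ⟨rfl, rfl⟩⟩, rfl⟩ | ⟨⟨⟨rfl, rfl⟩, gw34, ⟨rfl, rfl⟩⟩, rfl⟩ | ⟨⟨⟨rfl, rfl⟩, gw34, ⟨rfl, rfl⟩⟩, rfl⟩ | ⟨⟨⟨rfl, rfl⟩, gw34, ⟨rfl, rfl⟩⟩, rfl⟩
        · (have := od4.out; omega)
        · (have := hm4.out; have := e0.out; have := e1.out; have := e2.out; have := e3.out; have := r35.out; omega)
        · (have := hm4.out; have := e0.out; have := e1.out; have := e2.out; have := e3.out; have := r35.out; omega)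
        · (have := hm4.out; have := e0.out; have := e1.out; have := e2.out; have := e3.out; have := r35.out; omega)
      · (have := hm5.out; have := e0.out; have := e1.out; have := e2.out; have := e3.out; have := r34.out; have := r35.out; omega)
      · (have := hm0.out; have := e1.out; have := e2.out; have := e3.out; have := r34.out; have := r35.out; have := e5.out; have := r53.out; have := r54.out; omega)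
      · (have := hm0.out; have := e1.out; have := e2.out; have := e3.out; have := r34.out; have := r35.out; have := e5.out; have := r53.out; have := r54.out; omega)
      · (have := hm0.out; have := om3.out; have := e1.out; have := e2.out; have := e5.out; have := r53.out; have := r54.out; omega)
      · (have := hm0.out; have := om3.out; have := e1.out; have := e2.out; have := e5.out; have := r53.out; have := r54.out; omega)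
    · (have := hm4.out; have := e0.out; have := e1.out; have := e2.out; have := r25.out; have := e3.out; have := r34.out; have := r35.out; omega)
    · (have := hm0.out; have := e1.out; have := e2.out; have := r25.out; have := e3.out; have := r34.out; have := r35.out; have := e4.out; have := r43.out; have := r45.out; omega)
    · (have := hm0.out; have := e1.out; have := e2.out; have := r25.out; have := e3.out; have := r34.out; have := r35.out; have := e4.out; have := r43.out; have := r45.out; omega)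
    · (have := hm0.out; have := om3.out; have := e1.out; have := e2.out; have := r25.out; have := e4.out; have := r43.out; have := r45.out; omega)
    · (have := hm0.out; have := om3.out; have := e1.out; have := e2.out; have := r25.out; have := e4.out; have := r43.out; have := r45.out; omega)
  · (have := hm2.out; have := om2.out; have := e0.out; have := e1.out; have := e3.out; have := r34.out; have := r35.out; omega)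
  · (have := hm0.out; have := om2.out; have := e1.out; have := e2.out; have := r24.out; have := r25.out; have := e3.out; have := r34.out; have := r35.out; omega)
  · (have := hm2.out; have := om2.out; have := e0.out; have := e1.out; have := e3.out; have := r34.out; have := r35.out; omega)

set_option maxHeartbeats 0 in
theorem part6 (T : Models.NumericalType 6) (α14 α15 α23 α24 α25 α32 α34 α35 α41 α42 α43 α45 α51 α52 α53 α54 x14 x15 x23 x24 x25 x32 x34 x35 x41 x42 x43 x45 x51 x52 x53 x54 q14 q15 q23 q24 q25 q34 q35 q45 : ℤ)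
    (hm0 : Hide (0 < T.m 0))
    (hm1 : Hide (0 < T.m 1))
    (hm2 : Hide (0 < T.m 2))
    (hm3 : Hide (0 < T.m 3))
    (hm4 : Hide (0 < T.m 4))
    (hm5 : Hide (0 < T.m 5))
    (om1 : Hide (T.m 0 ≤ T.m 1))
    (om2 : Hide (T.m 0 ≤ T.m 2))
    (om3 : Hide (T.m 0 ≤ T.m 3))
    (om4 : Hide (T.m 0 ≤ T.m 4))
    (om5 : Hide (T.m 0 ≤ T.m 5))
    (e0 : Hide (T.m 1 + (0 : ℤ) + (0 : ℤ) + (0 : ℤ) + (0 : ℤ) = 2 * T.m 0))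
    (e1 : Hide (T.m 0 + T.m 2 + 2 * T.m 3 + x14 + x15 = 2 * T.m 1))
    (e2 : Hide ((0 : ℤ) + T.m 1 + x23 + x24 + x25 = 2 * T.m 2))
    (e3 : Hide ((0 : ℤ) + T.m 1 + x32 + x34 + x35 = 2 * T.m 3))
    (e4 : Hide ((0 : ℤ) + x41 + x42 + x43 + x45 = 2 * T.m 4))
    (e5 : Hide ((0 : ℤ) + x51 + x52 + x53 + x54 = 2 * T.m 5))
    (r01 : Hide (0 ≤ T.m 1))
    (r02 : Hide (0 ≤ (0 : ℤ)))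
    (r03 : Hide (0 ≤ (0 : ℤ)))
    (r04 : Hide (0 ≤ (0 : ℤ)))
    (r05 : Hide (0 ≤ (0 : ℤ)))
    (r10 : Hide (0 ≤ T.m 0))
    (r12 : Hide (0 ≤ T.m 2))
    (r13 : Hide (0 ≤ 2 * T.m 3))
    (r14 : Hide (0 ≤ x14))
    (r15 : Hide (0 ≤ x15))
    (r20 : Hide (0 ≤ (0 : ℤ)))
    (r21 : Hide (0 ≤ T.m 1))
    (r23 : Hide (0 ≤ x23))
    (r24 : Hide (0 ≤ x24))
    (r25 : Hide (0 ≤ x25))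
    (r30 : Hide (0 ≤ (0 : ℤ)))
    (r31 : Hide (0 ≤ T.m 1))
    (r32 : Hide (0 ≤ x32))
    (r34 : Hide (0 ≤ x34))
    (r35 : Hide (0 ≤ x35))
    (r40 : Hide (0 ≤ (0 : ℤ)))
    (r41 : Hide (0 ≤ x41))
    (r42 : Hide (0 ≤ x42))
    (r43 : Hide (0 ≤ x43))
    (r45 : Hide (0 ≤ x45))
    (r50 : Hide (0 ≤ (0 : ℤ)))
    (r51 : Hide (0 ≤ x51))
    (r52 : Hide (0 ≤ x52))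
    (r53 : Hide (0 ≤ x53))
    (r54 : Hide (0 ≤ x54))
    (hw0 : Hide (0 < T.w 0))
    (hw1 : Hide (0 < T.w 1))
    (hw2 : Hide (0 < T.w 2))
    (hw3 : Hide (0 < T.w 3))
    (hw4 : Hide (0 < T.w 4))
    (hw5 : Hide (0 < T.w 5))
    (hs01 : Hide (T.a 0 1 = T.a 1 0))
    (hs02 : Hide (T.a 0 2 = T.a 2 0))
    (hs03 : Hide (T.a 0 3 = T.a 3 0))
    (hs04 : Hide (T.a 0 4 = T.a 4 0))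
    (hs05 : Hide (T.a 0 5 = T.a 5 0))
    (hs12 : Hide (T.a 1 2 = T.a 2 1))
    (hs13 : Hide (T.a 1 3 = T.a 3 1))
    (hs14 : Hide (T.a 1 4 = T.a 4 1))
    (hs15 : Hide (T.a 1 5 = T.a 5 1))
    (hs23 : Hide (T.a 2 3 = T.a 3 2))
    (hs24 : Hide (T.a 2 4 = T.a 4 2))
    (hs25 : Hide (T.a 2 5 = T.a 5 2))
    (hs34 : Hide (T.a 3 4 = T.a 4 3))
    (hs35 : Hide (T.a 3 5 = T.a 5 3))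
    (hs45 : Hide (T.a 4 5 = T.a 5 4))
    (ha00 : Hide (T.a 0 0 = -2 * T.w 0))
    (ha11 : Hide (T.a 1 1 = -2 * T.w 1))
    (ha22 : Hide (T.a 2 2 = -2 * T.w 2))
    (ha33 : Hide (T.a 3 3 = -2 * T.w 3))
    (ha44 : Hide (T.a 4 4 = -2 * T.w 4))
    (ha55 : Hide (T.a 5 5 = -2 * T.w 5))
    (v0 : Hide ((1 : ℤ) + (0 : ℤ) + (0 : ℤ) + (0 : ℤ) + (0 : ℤ) ≤ 4))
    (v1 : Hide ((1 : ℤ) + (1 : ℤ) + (2 : ℤ) + q14 + q15 ≤ 4))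
    (v2 : Hide ((0 : ℤ) + (1 : ℤ) + q23 + q24 + q25 ≤ 4))
    (v3 : Hide ((0 : ℤ) + (2 : ℤ) + q23 + q34 + q35 ≤ 4))
    (v4 : Hide ((0 : ℤ) + q14 + q24 + q34 + q45 ≤ 4))
    (v5 : Hide ((0 : ℤ) + q15 + q25 + q35 + q45 ≤ 4))
    (qn01 : Hide (0 ≤ (1 : ℤ)))
    (qn02 : Hide (0 ≤ (0 : ℤ)))
    (qn03 : Hide (0 ≤ (0 : ℤ)))
    (qn04 : Hide (0 ≤ (0 : ℤ)))
    (qn05 : Hide (0 ≤ (0 : ℤ)))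
    (qn12 : Hide (0 ≤ (1 : ℤ)))
    (qn13 : Hide (0 ≤ (2 : ℤ)))
    (qn14 : Hide (0 ≤ q14))
    (qn15 : Hide (0 ≤ q15))
    (qn23 : Hide (0 ≤ q23))
    (qn24 : Hide (0 ≤ q24))
    (qn25 : Hide (0 ≤ q25))
    (qn34 : Hide (0 ≤ q34))
    (qn35 : Hide (0 ≤ q35))
    (qn45 : Hide (0 ≤ q45))
    (od1 : Hide (0 < (1 : ℤ)))
    (od2 : Hide (0 < (0 : ℤ) + (1 : ℤ)))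
    (od3 : Hide (0 < (0 : ℤ) + (2 : ℤ) + α23))
    (od4 : Hide (0 < (0 : ℤ) + α14 + α24 + α34))
    (od5 : Hide (0 < (0 : ℤ) + α15 + α25 + α35 + α45))
    (c14 : Hide (((Hide (x14 = 0 ∧ x41 = 0) ∧ Hide (T.a 1 4 = 0 ∧ T.a 4 1 = 0) ∧ Hide (α14 = 0 ∧ α41 = 0)) ∧ q14 = 0) ∨ ((Hide (x14 = T.m 4 ∧ x41 = T.m 1) ∧ Hide (T.a 1 4 = T.w 1 ∧ T.a 4 1 = T.w 4) ∧ Hide (α14 = 1 ∧ α41 = 1)) ∧ q14 = 1) ∨ ((Hide (x14 = T.m 4 ∧ x41 = 2 * T.m 1) ∧ Hide (T.a 1 4 = T.w 1 ∧ T.a 4 1 = 2 * T.w 4) ∧ Hide (α14 = 1 ∧ α41 = 2)) ∧ q14 = 2) ∨ ((Hide (x14 = 2 * T.m 4 ∧ x41 = T.m 1) ∧ Hide (T.a 1 4 = 2 * T.w 1 ∧ T.a 4 1 = T.w 4) ∧ Hide (α14 = 2 ∧ α41 = 1)) ∧ q14 = 2) ∨ ((Hide (x14 = T.m 4 ∧ x41 = 3 * T.m 1) ∧ Hide (T.a 1 4 = T.w 1 ∧ T.a 4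 1 = 3 * T.w 4) ∧ Hide (α14 = 1 ∧ α41 = 3)) ∧ q14 = 3) ∨ ((Hide (x14 = 3 * T.m 4 ∧ x41 = T.m 1) ∧ Hide (T.a 1 4 = 3 * T.w 1 ∧ T.a 4 1 = T.w 4) ∧ Hide (α14 = 3 ∧ α41 = 1)) ∧ q14 = 3) ∨ ((Hide (x14 = T.m 4 ∧ x41 = 4 * T.m 1) ∧ Hide (T.a 1 4 = T.w 1 ∧ T.a 4 1 = 4 * T.w 4) ∧ Hide (α14 = 1 ∧ α41 = 4)) ∧ q14 = 4) ∨ ((Hide (x14 = 4 * T.m 4 ∧ x41 = T.m 1) ∧ Hide (T.a 1 4 = 4 * T.w 1 ∧ T.a 4 1 = T.w 4) ∧ Hide (α14 = 4 ∧ α41 = 1)) ∧ q14 = 4) ∨ ((Hide (x14 = 2 * T.m 4 ∧ x41 = 2 * T.m 1) ∧ Hide (T.a 1 4 = 2 * T.w 1 ∧ T.a 4 1 = 2 * T.w 4) ∧ Hide (α14 = 2 ∧ α41 = 2)) ∧ q14 = 4)))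
    (c15 : Hide (((Hide (x15 = 0 ∧ x51 = 0) ∧ Hide (T.a 1 5 = 0 ∧ T.a 5 1 = 0) ∧ Hide (α15 = 0 ∧ α51 = 0)) ∧ q15 = 0) ∨ ((Hide (x15 = T.m 5 ∧ x51 = T.m 1) ∧ Hide (T.a 1 5 = T.w 1 ∧ T.a 5 1 = T.w 5) ∧ Hide (α15 = 1 ∧ α51 = 1)) ∧ q15 = 1) ∨ ((Hide (x15 = T.m 5 ∧ x51 = 2 * T.m 1) ∧ Hide (T.a 1 5 = T.w 1 ∧ T.a 5 1 = 2 * T.w 5) ∧ Hide (α15 = 1 ∧ α51 = 2)) ∧ q15 = 2) ∨ ((Hide (x15 = 2 * T.m 5 ∧ x51 = T.m 1) ∧ Hide (T.a 1 5 = 2 * T.w 1 ∧ T.a 5 1 = T.w 5) ∧ Hide (α15 = 2 ∧ α51 = 1)) ∧ q15 = 2) ∨ ((Hide (x15 = T.m 5 ∧ x51 = 3 * T.m 1) ∧ Hide (T.a 1 5 = T.w 1 ∧ T.a 5 1 = 3 * T.w 5) ∧ Hide (α15 = 1 ∧ α51 = 3)) ∧ q15 = 3) ∨ ((Hide (x15 = 3 * T.m 5 ∧ x51 = T.m 1) ∧ Hide (T.a 1 5 = 3 * T.w 1 ∧ T.a 5 1 = T.w 5) ∧ Hide (α15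 = 3 ∧ α51 = 1)) ∧ q15 = 3) ∨ ((Hide (x15 = T.m 5 ∧ x51 = 4 * T.m 1) ∧ Hide (T.a 1 5 = T.w 1 ∧ T.a 5 1 = 4 * T.w 5) ∧ Hide (α15 = 1 ∧ α51 = 4)) ∧ q15 = 4) ∨ ((Hide (x15 = 4 * T.m 5 ∧ x51 = T.m 1) ∧ Hide (T.a 1 5 = 4 * T.w 1 ∧ T.a 5 1 = T.w 5) ∧ Hide (α15 = 4 ∧ α51 = 1)) ∧ q15 = 4) ∨ ((Hide (x15 = 2 * T.m 5 ∧ x51 = 2 * T.m 1) ∧ Hide (T.a 1 5 = 2 * T.w 1 ∧ T.a 5 1 = 2 * T.w 5) ∧ Hide (α15 = 2 ∧ α51 = 2)) ∧ q15 = 4)))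
    (c23 : Hide (((Hide (x23 = 0 ∧ x32 = 0) ∧ Hide (T.a 2 3 = 0 ∧ T.a 3 2 = 0) ∧ Hide (α23 = 0 ∧ α32 = 0)) ∧ q23 = 0) ∨ ((Hide (x23 = T.m 3 ∧ x32 = T.m 2) ∧ Hide (T.a 2 3 = T.w 2 ∧ T.a 3 2 = T.w 3) ∧ Hide (α23 = 1 ∧ α32 = 1)) ∧ q23 = 1) ∨ ((Hide (x23 = T.m 3 ∧ x32 = 2 * T.m 2) ∧ Hide (T.a 2 3 = T.w 2 ∧ T.a 3 2 = 2 * T.w 3) ∧ Hide (α23 = 1 ∧ α32 = 2)) ∧ q23 = 2) ∨ ((Hide (x23 = 2 * T.m 3 ∧ x32 = T.m 2) ∧ Hide (T.a 2 3 = 2 * T.w 2 ∧ T.a 3 2 = T.w 3) ∧ Hide (α23 = 2 ∧ α32 = 1)) ∧ q23 = 2) ∨ ((Hide (x23 = T.m 3 ∧ x32 = 3 * T.m 2) ∧ Hide (T.a 2 3 = T.w 2 ∧ T.a 3 2 = 3 * T.w 3) ∧ Hide (α23 = 1 ∧ α32 = 3)) ∧ q23 = 3) ∨ ((Hide (x23 = 3 * T.m 3 ∧ x32 = T.m 2) ∧ Hide (T.a 2 3 = 3 * T.w 2 ∧ T.a 3 2 = T.w 3) ∧ Hide (α23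 = 3 ∧ α32 = 1)) ∧ q23 = 3) ∨ ((Hide (x23 = T.m 3 ∧ x32 = 4 * T.m 2) ∧ Hide (T.a 2 3 = T.w 2 ∧ T.a 3 2 = 4 * T.w 3) ∧ Hide (α23 = 1 ∧ α32 = 4)) ∧ q23 = 4) ∨ ((Hide (x23 = 4 * T.m 3 ∧ x32 = T.m 2) ∧ Hide (T.a 2 3 = 4 * T.w 2 ∧ T.a 3 2 = T.w 3) ∧ Hide (α23 = 4 ∧ α32 = 1)) ∧ q23 = 4) ∨ ((Hide (x23 = 2 * T.m 3 ∧ x32 = 2 * T.m 2) ∧ Hide (T.a 2 3 = 2 * T.w 2 ∧ T.a 3 2 = 2 * T.w 3) ∧ Hide (α23 = 2 ∧ α32 = 2)) ∧ q23 = 4)))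
    (c24 : Hide (((Hide (x24 = 0 ∧ x42 = 0) ∧ Hide (T.a 2 4 = 0 ∧ T.a 4 2 = 0) ∧ Hide (α24 = 0 ∧ α42 = 0)) ∧ q24 = 0) ∨ ((Hide (x24 = T.m 4 ∧ x42 = T.m 2) ∧ Hide (T.a 2 4 = T.w 2 ∧ T.a 4 2 = T.w 4) ∧ Hide (α24 = 1 ∧ α42 = 1)) ∧ q24 = 1) ∨ ((Hide (x24 = T.m 4 ∧ x42 = 2 * T.m 2) ∧ Hide (T.a 2 4 = T.w 2 ∧ T.a 4 2 = 2 * T.w 4) ∧ Hide (α24 = 1 ∧ α42 = 2)) ∧ q24 = 2) ∨ ((Hide (x24 = 2 * T.m 4 ∧ x42 = T.m 2) ∧ Hide (T.a 2 4 = 2 * T.w 2 ∧ T.a 4 2 = T.w 4) ∧ Hide (α24 = 2 ∧ α42 = 1)) ∧ q24 = 2) ∨ ((Hide (x24 = T.m 4 ∧ x42 = 3 * T.m 2) ∧ Hide (T.a 2 4 = T.w 2 ∧ T.a 4 2 = 3 * T.w 4) ∧ Hide (α24 = 1 ∧ α42 = 3)) ∧ q24 = 3) ∨ ((Hide (x24 = 3 * T.m 4 ∧ x42 = T.m 2) ∧ Hide (T.a 2 4 = 3 * T.w 2 ∧ T.a 4 2 = T.w 4) ∧ Hide (α24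 = 3 ∧ α42 = 1)) ∧ q24 = 3) ∨ ((Hide (x24 = T.m 4 ∧ x42 = 4 * T.m 2) ∧ Hide (T.a 2 4 = T.w 2 ∧ T.a 4 2 = 4 * T.w 4) ∧ Hide (α24 = 1 ∧ α42 = 4)) ∧ q24 = 4) ∨ ((Hide (x24 = 4 * T.m 4 ∧ x42 = T.m 2) ∧ Hide (T.a 2 4 = 4 * T.w 2 ∧ T.a 4 2 = T.w 4) ∧ Hide (α24 = 4 ∧ α42 = 1)) ∧ q24 = 4) ∨ ((Hide (x24 = 2 * T.m 4 ∧ x42 = 2 * T.m 2) ∧ Hide (T.a 2 4 = 2 * T.w 2 ∧ T.a 4 2 = 2 * T.w 4) ∧ Hide (α24 = 2 ∧ α42 = 2)) ∧ q24 = 4)))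
    (c25 : Hide (((Hide (x25 = 0 ∧ x52 = 0) ∧ Hide (T.a 2 5 = 0 ∧ T.a 5 2 = 0) ∧ Hide (α25 = 0 ∧ α52 = 0)) ∧ q25 = 0) ∨ ((Hide (x25 = T.m 5 ∧ x52 = T.m 2) ∧ Hide (T.a 2 5 = T.w 2 ∧ T.a 5 2 = T.w 5) ∧ Hide (α25 = 1 ∧ α52 = 1)) ∧ q25 = 1) ∨ ((Hide (x25 = T.m 5 ∧ x52 = 2 * T.m 2) ∧ Hide (T.a 2 5 = T.w 2 ∧ T.a 5 2 = 2 * T.w 5) ∧ Hide (α25 = 1 ∧ α52 = 2)) ∧ q25 = 2) ∨ ((Hide (x25 = 2 * T.m 5 ∧ x52 = T.m 2) ∧ Hide (T.a 2 5 = 2 * T.w 2 ∧ T.a 5 2 = T.w 5) ∧ Hide (α25 = 2 ∧ α52 = 1)) ∧ q25 = 2) ∨ ((Hide (x25 = T.m 5 ∧ x52 = 3 * T.m 2) ∧ Hide (T.a 2 5 = T.w 2 ∧ T.a 5 2 = 3 * T.w 5) ∧ Hide (α25 = 1 ∧ α52 = 3)) ∧ q25 = 3) ∨ ((Hide (x25 = 3 * T.m 5 ∧ x52 = T.m 2) ∧ Hide (T.a 2 5 = 3 * T.w 2 ∧ T.a 5 2 = T.w 5) ∧ Hide (α25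 = 3 ∧ α52 = 1)) ∧ q25 = 3) ∨ ((Hide (x25 = T.m 5 ∧ x52 = 4 * T.m 2) ∧ Hide (T.a 2 5 = T.w 2 ∧ T.a 5 2 = 4 * T.w 5) ∧ Hide (α25 = 1 ∧ α52 = 4)) ∧ q25 = 4) ∨ ((Hide (x25 = 4 * T.m 5 ∧ x52 = T.m 2) ∧ Hide (T.a 2 5 = 4 * T.w 2 ∧ T.a 5 2 = T.w 5) ∧ Hide (α25 = 4 ∧ α52 = 1)) ∧ q25 = 4) ∨ ((Hide (x25 = 2 * T.m 5 ∧ x52 = 2 * T.m 2) ∧ Hide (T.a 2 5 = 2 * T.w 2 ∧ T.a 5 2 = 2 * T.w 5) ∧ Hide (α25 = 2 ∧ α52 = 2)) ∧ q25 = 4)))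
    (c34 : Hide (((Hide (x34 = 0 ∧ x43 = 0) ∧ Hide (T.a 3 4 = 0 ∧ T.a 4 3 = 0) ∧ Hide (α34 = 0 ∧ α43 = 0)) ∧ q34 = 0) ∨ ((Hide (x34 = T.m 4 ∧ x43 = T.m 3) ∧ Hide (T.a 3 4 = T.w 3 ∧ T.a 4 3 = T.w 4) ∧ Hide (α34 = 1 ∧ α43 = 1)) ∧ q34 = 1) ∨ ((Hide (x34 = T.m 4 ∧ x43 = 2 * T.m 3) ∧ Hide (T.a 3 4 = T.w 3 ∧ T.a 4 3 = 2 * T.w 4) ∧ Hide (α34 = 1 ∧ α43 = 2)) ∧ q34 = 2) ∨ ((Hide (x34 = 2 * T.m 4 ∧ x43 = T.m 3) ∧ Hide (T.a 3 4 = 2 * T.w 3 ∧ T.a 4 3 = T.w 4) ∧ Hide (α34 = 2 ∧ α43 = 1)) ∧ q34 = 2) ∨ ((Hide (x34 = T.m 4 ∧ x43 = 3 * T.m 3) ∧ Hide (T.a 3 4 = T.w 3 ∧ T.a 4 3 = 3 * T.w 4) ∧ Hide (α34 = 1 ∧ α43 = 3)) ∧ q34 = 3) ∨ ((Hide (x34 = 3 * T.m 4 ∧ x43 = T.m 3) ∧ Hide (T.a 3 4 = 3 * T.w 3 ∧ T.a 4 3 = T.w 4) ∧ Hide (α34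 = 3 ∧ α43 = 1)) ∧ q34 = 3) ∨ ((Hide (x34 = T.m 4 ∧ x43 = 4 * T.m 3) ∧ Hide (T.a 3 4 = T.w 3 ∧ T.a 4 3 = 4 * T.w 4) ∧ Hide (α34 = 1 ∧ α43 = 4)) ∧ q34 = 4) ∨ ((Hide (x34 = 4 * T.m 4 ∧ x43 = T.m 3) ∧ Hide (T.a 3 4 = 4 * T.w 3 ∧ T.a 4 3 = T.w 4) ∧ Hide (α34 = 4 ∧ α43 = 1)) ∧ q34 = 4) ∨ ((Hide (x34 = 2 * T.m 4 ∧ x43 = 2 * T.m 3) ∧ Hide (T.a 3 4 = 2 * T.w 3 ∧ T.a 4 3 = 2 * T.w 4) ∧ Hide (α34 = 2 ∧ α43 = 2)) ∧ q34 = 4)))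
    (c35 : Hide (((Hide (x35 = 0 ∧ x53 = 0) ∧ Hide (T.a 3 5 = 0 ∧ T.a 5 3 = 0) ∧ Hide (α35 = 0 ∧ α53 = 0)) ∧ q35 = 0) ∨ ((Hide (x35 = T.m 5 ∧ x53 = T.m 3) ∧ Hide (T.a 3 5 = T.w 3 ∧ T.a 5 3 = T.w 5) ∧ Hide (α35 = 1 ∧ α53 = 1)) ∧ q35 = 1) ∨ ((Hide (x35 = T.m 5 ∧ x53 = 2 * T.m 3) ∧ Hide (T.a 3 5 = T.w 3 ∧ T.a 5 3 = 2 * T.w 5) ∧ Hide (α35 = 1 ∧ α53 = 2)) ∧ q35 = 2) ∨ ((Hide (x35 = 2 * T.m 5 ∧ x53 = T.m 3) ∧ Hide (T.a 3 5 = 2 * T.w 3 ∧ T.a 5 3 = T.w 5) ∧ Hide (α35 = 2 ∧ α53 = 1)) ∧ q35 = 2) ∨ ((Hide (x35 = T.m 5 ∧ x53 = 3 * T.m 3) ∧ Hide (T.a 3 5 = T.w 3 ∧ T.a 5 3 = 3 * T.w 5) ∧ Hide (α35 = 1 ∧ α53 = 3)) ∧ q35 = 3) ∨ ((Hide (x35 = 3 * T.m 5 ∧ x53 = T.m 3) ∧ Hide (T.a 3 5 = 3 * T.w 3 ∧ T.a 5 3 = T.w 5) ∧ Hide (α35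 = 3 ∧ α53 = 1)) ∧ q35 = 3) ∨ ((Hide (x35 = T.m 5 ∧ x53 = 4 * T.m 3) ∧ Hide (T.a 3 5 = T.w 3 ∧ T.a 5 3 = 4 * T.w 5) ∧ Hide (α35 = 1 ∧ α53 = 4)) ∧ q35 = 4) ∨ ((Hide (x35 = 4 * T.m 5 ∧ x53 = T.m 3) ∧ Hide (T.a 3 5 = 4 * T.w 3 ∧ T.a 5 3 = T.w 5) ∧ Hide (α35 = 4 ∧ α53 = 1)) ∧ q35 = 4) ∨ ((Hide (x35 = 2 * T.m 5 ∧ x53 = 2 * T.m 3) ∧ Hide (T.a 3 5 = 2 * T.w 3 ∧ T.a 5 3 = 2 * T.w 5) ∧ Hide (α35 = 2 ∧ α53 = 2)) ∧ q35 = 4)))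
    (c45 : Hide (((Hide (x45 = 0 ∧ x54 = 0) ∧ Hide (T.a 4 5 = 0 ∧ T.a 5 4 = 0) ∧ Hide (α45 = 0 ∧ α54 = 0)) ∧ q45 = 0) ∨ ((Hide (x45 = T.m 5 ∧ x54 = T.m 4) ∧ Hide (T.a 4 5 = T.w 4 ∧ T.a 5 4 = T.w 5) ∧ Hide (α45 = 1 ∧ α54 = 1)) ∧ q45 = 1) ∨ ((Hide (x45 = T.m 5 ∧ x54 = 2 * T.m 4) ∧ Hide (T.a 4 5 = T.w 4 ∧ T.a 5 4 = 2 * T.w 5) ∧ Hide (α45 = 1 ∧ α54 = 2)) ∧ q45 = 2) ∨ ((Hide (x45 = 2 * T.m 5 ∧ x54 = T.m 4) ∧ Hide (T.a 4 5 = 2 * T.w 4 ∧ T.a 5 4 = T.w 5) ∧ Hide (α45 = 2 ∧ α54 = 1)) ∧ q45 = 2) ∨ ((Hide (x45 = T.m 5 ∧ x54 = 3 * T.m 4) ∧ Hide (T.a 4 5 = T.w 4 ∧ T.a 5 4 = 3 * T.w 5) ∧ Hide (α45 = 1 ∧ α54 = 3)) ∧ q45 = 3) ∨ ((Hide (x45 = 3 * T.m 5 ∧ x54 = T.m 4) ∧ Hide (T.a 4 5 = 3 * T.w 4 ∧ T.a 5 4 = T.w 5) ∧ Hide (α45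 = 3 ∧ α54 = 1)) ∧ q45 = 3) ∨ ((Hide (x45 = T.m 5 ∧ x54 = 4 * T.m 4) ∧ Hide (T.a 4 5 = T.w 4 ∧ T.a 5 4 = 4 * T.w 5) ∧ Hide (α45 = 1 ∧ α54 = 4)) ∧ q45 = 4) ∨ ((Hide (x45 = 4 * T.m 5 ∧ x54 = T.m 4) ∧ Hide (T.a 4 5 = 4 * T.w 4 ∧ T.a 5 4 = T.w 5) ∧ Hide (α45 = 4 ∧ α54 = 1)) ∧ q45 = 4) ∨ ((Hide (x45 = 2 * T.m 5 ∧ x54 = 2 * T.m 4) ∧ Hide (T.a 4 5 = 2 * T.w 4 ∧ T.a 5 4 = 2 * T.w 5) ∧ Hide (α45 = 2 ∧ α54 = 2)) ∧ q45 = 4)))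
    (gw01 : Hide (T.a 0 1 = T.w 0 ∧ T.a 1 0 = T.w 1))
    (gw02 : Hide (T.a 0 2 = 0 ∧ T.a 2 0 = 0))
    (gw03 : Hide (T.a 0 3 = 0 ∧ T.a 3 0 = 0))
    (gw04 : Hide (T.a 0 4 = 0 ∧ T.a 4 0 = 0))
    (gw05 : Hide (T.a 0 5 = 0 ∧ T.a 5 0 = 0))
    (gw12 : Hide (T.a 1 2 = T.w 1 ∧ T.a 2 1 = T.w 2))
    (gw13 : Hide (T.a 1 3 = 2 * T.w 1 ∧ T.a 3 1 = T.w 3)) : Goal T := by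
  have t := pc0 q14 c14.out (by have := v1.out; have := qn15.out; omega)
  clear c14
  obtain ⟨⟨⟨rfl, rfl⟩, gw14, ⟨rfl, rfl⟩⟩, rfl⟩ := t
  have t := pc0 q15 c15.out (by have := v1.out; omega)
  clear c15
  obtain ⟨⟨⟨rfl, rfl⟩, gw15, ⟨rfl, rfl⟩⟩, rfl⟩ := t
  have t := pc2 q23 c23.out (by have := v3.out; have := qn34.out; have := qn35.out; omega)
  clear c23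
  rcases t with ⟨⟨⟨rfl, rfl⟩, gw23, ⟨rfl, rfl⟩⟩, rfl⟩ | ⟨⟨⟨rfl, rfl⟩, gw23, ⟨rfl, rfl⟩⟩, rfl⟩ | ⟨⟨⟨rfl, rfl⟩, gw23, ⟨rfl, rfl⟩⟩, rfl⟩ | ⟨⟨⟨rfl, rfl⟩, gw23, ⟨rfl, rfl⟩⟩, rfl⟩
  · have t := pc3 q24 c24.out (by have := v2.out; have := qn25.out; omega)
    clear c24
    rcases t with ⟨⟨⟨rfl, rfl⟩, gw24, ⟨rfl, rfl⟩⟩, rfl⟩ | ⟨⟨⟨rfl, rfl⟩, gw24, ⟨rfl, rfl⟩⟩, rfl⟩ | ⟨⟨⟨rfl, rfl⟩, gw24, ⟨rfl, rfl⟩⟩, rfl⟩ | ⟨⟨⟨rfl, rfl⟩, gw24, ⟨rfl, rfl⟩⟩, rfl⟩ | ⟨⟨⟨rfl, rfl⟩, gw24, ⟨rfl, rfl⟩⟩, rfl⟩ | ⟨⟨⟨rfl, rfl⟩, gw24, ⟨rfl, rfl⟩⟩, rfl⟩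
    · have t := pc3 q25 c25.out (by have := v2.out; omega)
      clear c25
      rcases t with ⟨⟨⟨rfl, rfl⟩, gw25, ⟨rfl, rfl⟩⟩, rfl⟩ | ⟨⟨⟨rfl, rfl⟩, gw25, ⟨rfl, rfl⟩⟩, rfl⟩ | ⟨⟨⟨rfl, rfl⟩, gw25, ⟨rfl, rfl⟩⟩, rfl⟩ | ⟨⟨⟨rfl, rfl⟩, gw25, ⟨rfl, rfl⟩⟩, rfl⟩ | ⟨⟨⟨rfl, rfl⟩, gw25, ⟨rfl, rfl⟩⟩, rfl⟩ | ⟨⟨⟨rfl, rfl⟩, gw25, ⟨rfl, rfl⟩⟩, rfl⟩
      · have t := pc2 q34 c34.out (by have := v3.out; have := qn35.out; omega)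
        clear c34
        rcases t with ⟨⟨⟨rfl, rfl⟩, gw34, ⟨rfl, rfl⟩⟩, rfl⟩ | ⟨⟨⟨rfl, rfl⟩, gw34, ⟨rfl, rfl⟩⟩, rfl⟩ | ⟨⟨⟨rfl, rfl⟩, gw34, ⟨rfl, rfl⟩⟩, rfl⟩ | ⟨⟨⟨rfl, rfl⟩, gw34, ⟨rfl, rfl⟩⟩, rfl⟩
        · (have := od4.out; omega)
        · (have := hm4.out; have := e0.out; have := e1.out; have := e2.out; have := e3.out; have := r35.out; omega)
        · (have := hm4.out; have := e0.out; have := e1.out; have := e2.out; have := e3.out; have := r35.out; omega)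
        · (have := hm4.out; have := e0.out; have := e1.out; have := e2.out; have := e3.out; have := r35.out; omega)
      · (have := hm5.out; have := om3.out; have := e0.out; have := e1.out; have := e2.out; omega)
      · (have := hm0.out; have := e1.out; have := e2.out; have := e3.out; have := r34.out; have := r35.out; have := e5.out; have := r53.out; have := r54.out; omega)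
      · (have := hm0.out; have := e1.out; have := e2.out; have := e3.out; have := r34.out; have := r35.out; have := e5.out; have := r53.out; have := r54.out; omega)
      · (have := hm0.out; have := om3.out; have := e1.out; have := e2.out; have := e5.out; have := r53.out; have := r54.out; omega)
      · (have := hm0.out; have := om3.out; have := e1.out; have := e2.out; have := e5.out; have := r53.out; have := r54.out; omega)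
    · (have := hm4.out; have := om3.out; have := e0.out; have := e1.out; have := e2.out; have := r25.out; omega)
    · (have := hm0.out; have := e1.out; have := e2.out; have := r25.out; have := e3.out; have := r34.out; have := r35.out; have := e4.out; have := r43.out; have := r45.out; omega)
    · (have := hm0.out; have := e1.out; have := e2.out; have := r25.out; have := e3.out; have := r34.out; have := r35.out; have := e4.out; have := r43.out; have := r45.out; omega)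
    · (have := hm0.out; have := om3.out; have := e1.out; have := e2.out; have := r25.out; have := e4.out; have := r43.out; have := r45.out; omega)
    · (have := hm0.out; have := om3.out; have := e1.out; have := e2.out; have := r25.out; have := e4.out; have := r43.out; have := r45.out; omega)
  · (have := hm2.out; have := om2.out; have := e0.out; have := e1.out; have := e3.out; have := r34.out; have := r35.out; omega)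
  · (have := hm2.out; have := om2.out; have := e0.out; have := e1.out; have := e3.out; have := r34.out; have := r35.out; omega)
  · (have := hm0.out; have := om2.out; have := e1.out; have := e2.out; have := r24.out; have := r25.out; have := e3.out; have := r34.out; have := r35.out; omega)

set_option maxHeartbeats 0 in
theorem part7 (T : Models.NumericalType 6) (α13 α14 α15 α23 α24 α25 α31 α32 α34 α35 α41 α42 α43 α45 α51 α52 α53 α54 x13 x14 x15 x23 x24 x25 x31 x32 x34 x35 x41 x42 x43 x45 x51 x52 x53 x54 q13 q14 q15 q23 q24 q25 q34 q35 q45 : ℤ)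
    (hm0 : Hide (0 < T.m 0))
    (hm1 : Hide (0 < T.m 1))
    (hm2 : Hide (0 < T.m 2))
    (hm3 : Hide (0 < T.m 3))
    (hm4 : Hide (0 < T.m 4))
    (hm5 : Hide (0 < T.m 5))
    (om1 : Hide (T.m 0 ≤ T.m 1))
    (om2 : Hide (T.m 0 ≤ T.m 2))
    (om3 : Hide (T.m 0 ≤ T.m 3))
    (om4 : Hide (T.m 0 ≤ T.m 4))
    (om5 : Hide (T.m 0 ≤ T.m 5))
    (e0 : Hide (T.m 1 + (0 : ℤ) + (0 : ℤ) + (0 : ℤ) + (0 : ℤ) = 2 * T.m 0))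
    (e1 : Hide (T.m 0 + T.m 2 + x13 + x14 + x15 = 2 * T.m 1))
    (e2 : Hide ((0 : ℤ) + 2 * T.m 1 + x23 + x24 + x25 = 2 * T.m 2))
    (e3 : Hide ((0 : ℤ) + x31 + x32 + x34 + x35 = 2 * T.m 3))
    (e4 : Hide ((0 : ℤ) + x41 + x42 + x43 + x45 = 2 * T.m 4))
    (e5 : Hide ((0 : ℤ) + x51 + x52 + x53 + x54 = 2 * T.m 5))
    (r01 : Hide (0 ≤ T.m 1))
    (r02 : Hide (0 ≤ (0 : ℤ)))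
    (r03 : Hide (0 ≤ (0 : ℤ)))
    (r04 : Hide (0 ≤ (0 : ℤ)))
    (r05 : Hide (0 ≤ (0 : ℤ)))
    (r10 : Hide (0 ≤ T.m 0))
    (r12 : Hide (0 ≤ T.m 2))
    (r13 : Hide (0 ≤ x13))
    (r14 : Hide (0 ≤ x14))
    (r15 : Hide (0 ≤ x15))
    (r20 : Hide (0 ≤ (0 : ℤ)))
    (r21 : Hide (0 ≤ 2 * T.m 1))
    (r23 : Hide (0 ≤ x23))
    (r24 : Hide (0 ≤ x24))
    (r25 : Hide (0 ≤ x25))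
    (r30 : Hide (0 ≤ (0 : ℤ)))
    (r31 : Hide (0 ≤ x31))
    (r32 : Hide (0 ≤ x32))
    (r34 : Hide (0 ≤ x34))
    (r35 : Hide (0 ≤ x35))
    (r40 : Hide (0 ≤ (0 : ℤ)))
    (r41 : Hide (0 ≤ x41))
    (r42 : Hide (0 ≤ x42))
    (r43 : Hide (0 ≤ x43))
    (r45 : Hide (0 ≤ x45))
    (r50 : Hide (0 ≤ (0 : ℤ)))
    (r51 : Hide (0 ≤ x51))
    (r52 : Hide (0 ≤ x52))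
    (r53 : Hide (0 ≤ x53))
    (r54 : Hide (0 ≤ x54))
    (hw0 : Hide (0 < T.w 0))
    (hw1 : Hide (0 < T.w 1))
    (hw2 : Hide (0 < T.w 2))
    (hw3 : Hide (0 < T.w 3))
    (hw4 : Hide (0 < T.w 4))
    (hw5 : Hide (0 < T.w 5))
    (hs01 : Hide (T.a 0 1 = T.a 1 0))
    (hs02 : Hide (T.a 0 2 = T.a 2 0))
    (hs03 : Hide (T.a 0 3 = T.a 3 0))
    (hs04 : Hide (T.a 0 4 = T.a 4 0))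
    (hs05 : Hide (T.a 0 5 = T.a 5 0))
    (hs12 : Hide (T.a 1 2 = T.a 2 1))
    (hs13 : Hide (T.a 1 3 = T.a 3 1))
    (hs14 : Hide (T.a 1 4 = T.a 4 1))
    (hs15 : Hide (T.a 1 5 = T.a 5 1))
    (hs23 : Hide (T.a 2 3 = T.a 3 2))
    (hs24 : Hide (T.a 2 4 = T.a 4 2))
    (hs25 : Hide (T.a 2 5 = T.a 5 2))
    (hs34 : Hide (T.a 3 4 = T.a 4 3))
    (hs35 : Hide (T.a 3 5 = T.a 5 3))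
    (hs45 : Hide (T.a 4 5 = T.a 5 4))
    (ha00 : Hide (T.a 0 0 = -2 * T.w 0))
    (ha11 : Hide (T.a 1 1 = -2 * T.w 1))
    (ha22 : Hide (T.a 2 2 = -2 * T.w 2))
    (ha33 : Hide (T.a 3 3 = -2 * T.w 3))
    (ha44 : Hide (T.a 4 4 = -2 * T.w 4))
    (ha55 : Hide (T.a 5 5 = -2 * T.w 5))
    (v0 : Hide ((1 : ℤ) + (0 : ℤ) + (0 : ℤ) + (0 : ℤ) + (0 : ℤ) ≤ 4))
    (v1 : Hide ((1 : ℤ) + (2 : ℤ) + q13 + q14 + q15 ≤ 4))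
    (v2 : Hide ((0 : ℤ) + (2 : ℤ) + q23 + q24 + q25 ≤ 4))
    (v3 : Hide ((0 : ℤ) + q13 + q23 + q34 + q35 ≤ 4))
    (v4 : Hide ((0 : ℤ) + q14 + q24 + q34 + q45 ≤ 4))
    (v5 : Hide ((0 : ℤ) + q15 + q25 + q35 + q45 ≤ 4))
    (qn01 : Hide (0 ≤ (1 : ℤ)))
    (qn02 : Hide (0 ≤ (0 : ℤ)))
    (qn03 : Hide (0 ≤ (0 : ℤ)))
    (qn04 : Hide (0 ≤ (0 : ℤ)))
    (qn05 : Hide (0 ≤ (0 : ℤ)))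
    (qn12 : Hide (0 ≤ (2 : ℤ)))
    (qn13 : Hide (0 ≤ q13))
    (qn14 : Hide (0 ≤ q14))
    (qn15 : Hide (0 ≤ q15))
    (qn23 : Hide (0 ≤ q23))
    (qn24 : Hide (0 ≤ q24))
    (qn25 : Hide (0 ≤ q25))
    (qn34 : Hide (0 ≤ q34))
    (qn35 : Hide (0 ≤ q35))
    (qn45 : Hide (0 ≤ q45))
    (od1 : Hide (0 < (1 : ℤ)))
    (od2 : Hide (0 < (0 : ℤ) + (1 : ℤ)))
    (od3 : Hide (0 < (0 : ℤ) + α13 + α23))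
    (od4 : Hide (0 < (0 : ℤ) + α14 + α24 + α34))
    (od5 : Hide (0 < (0 : ℤ) + α15 + α25 + α35 + α45))
    (c13 : Hide (((Hide (x13 = 0 ∧ x31 = 0) ∧ Hide (T.a 1 3 = 0 ∧ T.a 3 1 = 0) ∧ Hide (α13 = 0 ∧ α31 = 0)) ∧ q13 = 0) ∨ ((Hide (x13 = T.m 3 ∧ x31 = T.m 1) ∧ Hide (T.a 1 3 = T.w 1 ∧ T.a 3 1 = T.w 3) ∧ Hide (α13 = 1 ∧ α31 = 1)) ∧ q13 = 1) ∨ ((Hide (x13 = T.m 3 ∧ x31 = 2 * T.m 1) ∧ Hide (T.a 1 3 = T.w 1 ∧ T.a 3 1 = 2 * T.w 3) ∧ Hide (α13 = 1 ∧ α31 = 2)) ∧ q13 = 2) ∨ ((Hide (x13 = 2 * T.m 3 ∧ x31 = T.m 1) ∧ Hide (T.a 1 3 = 2 * T.w 1 ∧ T.a 3 1 = T.w 3) ∧ Hide (α13 = 2 ∧ α31 = 1)) ∧ q13 = 2) ∨ ((Hide (x13 = T.m 3 ∧ x31 = 3 * T.m 1) ∧ Hide (T.a 1 3 = T.w 1 ∧ T.a 3 1 = 3 * T.w 3) ∧ Hide (α13 = 1 ∧ α31 = 3)) ∧ q13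 = 3) ∨ ((Hide (x13 = 3 * T.m 3 ∧ x31 = T.m 1) ∧ Hide (T.a 1 3 = 3 * T.w 1 ∧ T.a 3 1 = T.w 3) ∧ Hide (α13 = 3 ∧ α31 = 1)) ∧ q13 = 3) ∨ ((Hide (x13 = T.m 3 ∧ x31 = 4 * T.m 1) ∧ Hide (T.a 1 3 = T.w 1 ∧ T.a 3 1 = 4 * T.w 3) ∧ Hide (α13 = 1 ∧ α31 = 4)) ∧ q13 = 4) ∨ ((Hide (x13 = 4 * T.m 3 ∧ x31 = T.m 1) ∧ Hide (T.a 1 3 = 4 * T.w 1 ∧ T.a 3 1 = T.w 3) ∧ Hide (α13 = 4 ∧ α31 = 1)) ∧ q13 = 4) ∨ ((Hide (x13 = 2 * T.m 3 ∧ x31 = 2 * T.m 1) ∧ Hide (T.a 1 3 = 2 * T.w 1 ∧ T.a 3 1 = 2 * T.w 3) ∧ Hide (α13 = 2 ∧ α31 = 2)) ∧ q13 = 4)))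
    (c14 : Hide (((Hide (x14 = 0 ∧ x41 = 0) ∧ Hide (T.a 1 4 = 0 ∧ T.a 4 1 = 0) ∧ Hide (α14 = 0 ∧ α41 = 0)) ∧ q14 = 0) ∨ ((Hide (x14 = T.m 4 ∧ x41 = T.m 1) ∧ Hide (T.a 1 4 = T.w 1 ∧ T.a 4 1 = T.w 4) ∧ Hide (α14 = 1 ∧ α41 = 1)) ∧ q14 = 1) ∨ ((Hide (x14 = T.m 4 ∧ x41 = 2 * T.m 1) ∧ Hide (T.a 1 4 = T.w 1 ∧ T.a 4 1 = 2 * T.w 4) ∧ Hide (α14 = 1 ∧ α41 = 2)) ∧ q14 = 2) ∨ ((Hide (x14 = 2 * T.m 4 ∧ x41 = T.m 1) ∧ Hide (T.a 1 4 = 2 * T.w 1 ∧ T.a 4 1 = T.w 4) ∧ Hide (α14 = 2 ∧ α41 = 1)) ∧ q14 = 2) ∨ ((Hide (x14 = T.m 4 ∧ x41 = 3 * T.m 1) ∧ Hide (T.a 1 4 = T.w 1 ∧ T.a 4 1 = 3 * T.w 4) ∧ Hide (α14 = 1 ∧ α41 = 3)) ∧ q14 = 3) ∨ ((Hide (x14 = 3 * T.m 4 ∧ x41 = T.m 1) ∧ Hide (T.a 1 4 = 3 * T.w 1 ∧ T.a 4 1 = T.w 4) ∧ Hide (α14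 = 3 ∧ α41 = 1)) ∧ q14 = 3) ∨ ((Hide (x14 = T.m 4 ∧ x41 = 4 * T.m 1) ∧ Hide (T.a 1 4 = T.w 1 ∧ T.a 4 1 = 4 * T.w 4) ∧ Hide (α14 = 1 ∧ α41 = 4)) ∧ q14 = 4) ∨ ((Hide (x14 = 4 * T.m 4 ∧ x41 = T.m 1) ∧ Hide (T.a 1 4 = 4 * T.w 1 ∧ T.a 4 1 = T.w 4) ∧ Hide (α14 = 4 ∧ α41 = 1)) ∧ q14 = 4) ∨ ((Hide (x14 = 2 * T.m 4 ∧ x41 = 2 * T.m 1) ∧ Hide (T.a 1 4 = 2 * T.w 1 ∧ T.a 4 1 = 2 * T.w 4) ∧ Hide (α14 = 2 ∧ α41 = 2)) ∧ q14 = 4)))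
    (c15 : Hide (((Hide (x15 = 0 ∧ x51 = 0) ∧ Hide (T.a 1 5 = 0 ∧ T.a 5 1 = 0) ∧ Hide (α15 = 0 ∧ α51 = 0)) ∧ q15 = 0) ∨ ((Hide (x15 = T.m 5 ∧ x51 = T.m 1) ∧ Hide (T.a 1 5 = T.w 1 ∧ T.a 5 1 = T.w 5) ∧ Hide (α15 = 1 ∧ α51 = 1)) ∧ q15 = 1) ∨ ((Hide (x15 = T.m 5 ∧ x51 = 2 * T.m 1) ∧ Hide (T.a 1 5 = T.w 1 ∧ T.a 5 1 = 2 * T.w 5) ∧ Hide (α15 = 1 ∧ α51 = 2)) ∧ q15 = 2) ∨ ((Hide (x15 = 2 * T.m 5 ∧ x51 = T.m 1) ∧ Hide (T.a 1 5 = 2 * T.w 1 ∧ T.a 5 1 = T.w 5) ∧ Hide (α15 = 2 ∧ α51 = 1)) ∧ q15 = 2) ∨ ((Hide (x15 = T.m 5 ∧ x51 = 3 * T.m 1) ∧ Hide (T.a 1 5 = T.w 1 ∧ T.a 5 1 = 3 * T.w 5) ∧ Hide (α15 = 1 ∧ α51 = 3)) ∧ q15 = 3) ∨ ((Hide (x15 = 3 * T.m 5 ∧ x51 = T.m 1) ∧ Hide (T.a 1 5 = 3 * T.w 1 ∧ T.a 5 1 = T.w 5) ∧ Hide (α15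 = 3 ∧ α51 = 1)) ∧ q15 = 3) ∨ ((Hide (x15 = T.m 5 ∧ x51 = 4 * T.m 1) ∧ Hide (T.a 1 5 = T.w 1 ∧ T.a 5 1 = 4 * T.w 5) ∧ Hide (α15 = 1 ∧ α51 = 4)) ∧ q15 = 4) ∨ ((Hide (x15 = 4 * T.m 5 ∧ x51 = T.m 1) ∧ Hide (T.a 1 5 = 4 * T.w 1 ∧ T.a 5 1 = T.w 5) ∧ Hide (α15 = 4 ∧ α51 = 1)) ∧ q15 = 4) ∨ ((Hide (x15 = 2 * T.m 5 ∧ x51 = 2 * T.m 1) ∧ Hide (T.a 1 5 = 2 * T.w 1 ∧ T.a 5 1 = 2 * T.w 5) ∧ Hide (α15 = 2 ∧ α51 = 2)) ∧ q15 = 4)))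
    (c23 : Hide (((Hide (x23 = 0 ∧ x32 = 0) ∧ Hide (T.a 2 3 = 0 ∧ T.a 3 2 = 0) ∧ Hide (α23 = 0 ∧ α32 = 0)) ∧ q23 = 0) ∨ ((Hide (x23 = T.m 3 ∧ x32 = T.m 2) ∧ Hide (T.a 2 3 = T.w 2 ∧ T.a 3 2 = T.w 3) ∧ Hide (α23 = 1 ∧ α32 = 1)) ∧ q23 = 1) ∨ ((Hide (x23 = T.m 3 ∧ x32 = 2 * T.m 2) ∧ Hide (T.a 2 3 = T.w 2 ∧ T.a 3 2 = 2 * T.w 3) ∧ Hide (α23 = 1 ∧ α32 = 2)) ∧ q23 = 2) ∨ ((Hide (x23 = 2 * T.m 3 ∧ x32 = T.m 2) ∧ Hide (T.a 2 3 = 2 * T.w 2 ∧ T.a 3 2 = T.w 3) ∧ Hide (α23 = 2 ∧ α32 = 1)) ∧ q23 = 2) ∨ ((Hide (x23 = T.m 3 ∧ x32 = 3 * T.m 2) ∧ Hide (T.a 2 3 = T.w 2 ∧ T.a 3 2 = 3 * T.w 3) ∧ Hide (α23 = 1 ∧ α32 = 3)) ∧ q23 = 3) ∨ ((Hide (x23 = 3 * T.m 3 ∧ x32 = T.m 2) ∧ Hide (T.a 2 3 = 3 * T.w 2 ∧ T.a 3 2 = T.w 3) ∧ Hide (α23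 = 3 ∧ α32 = 1)) ∧ q23 = 3) ∨ ((Hide (x23 = T.m 3 ∧ x32 = 4 * T.m 2) ∧ Hide (T.a 2 3 = T.w 2 ∧ T.a 3 2 = 4 * T.w 3) ∧ Hide (α23 = 1 ∧ α32 = 4)) ∧ q23 = 4) ∨ ((Hide (x23 = 4 * T.m 3 ∧ x32 = T.m 2) ∧ Hide (T.a 2 3 = 4 * T.w 2 ∧ T.a 3 2 = T.w 3) ∧ Hide (α23 = 4 ∧ α32 = 1)) ∧ q23 = 4) ∨ ((Hide (x23 = 2 * T.m 3 ∧ x32 = 2 * T.m 2) ∧ Hide (T.a 2 3 = 2 * T.w 2 ∧ T.a 3 2 = 2 * T.w 3) ∧ Hide (α23 = 2 ∧ α32 = 2)) ∧ q23 = 4)))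
    (c24 : Hide (((Hide (x24 = 0 ∧ x42 = 0) ∧ Hide (T.a 2 4 = 0 ∧ T.a 4 2 = 0) ∧ Hide (α24 = 0 ∧ α42 = 0)) ∧ q24 = 0) ∨ ((Hide (x24 = T.m 4 ∧ x42 = T.m 2) ∧ Hide (T.a 2 4 = T.w 2 ∧ T.a 4 2 = T.w 4) ∧ Hide (α24 = 1 ∧ α42 = 1)) ∧ q24 = 1) ∨ ((Hide (x24 = T.m 4 ∧ x42 = 2 * T.m 2) ∧ Hide (T.a 2 4 = T.w 2 ∧ T.a 4 2 = 2 * T.w 4) ∧ Hide (α24 = 1 ∧ α42 = 2)) ∧ q24 = 2) ∨ ((Hide (x24 = 2 * T.m 4 ∧ x42 = T.m 2) ∧ Hide (T.a 2 4 = 2 * T.w 2 ∧ T.a 4 2 = T.w 4) ∧ Hide (α24 = 2 ∧ α42 = 1)) ∧ q24 = 2) ∨ ((Hide (x24 = T.m 4 ∧ x42 = 3 * T.m 2) ∧ Hide (T.a 2 4 = T.w 2 ∧ T.a 4 2 = 3 * T.w 4) ∧ Hide (α24 = 1 ∧ α42 = 3)) ∧ q24 = 3) ∨ ((Hide (x24 = 3 * T.m 4 ∧ x42 = T.m 2) ∧ Hide (T.a 2 4 = 3 * T.w 2 ∧ T.a 4 2 = T.w 4) ∧ Hide (α24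 = 3 ∧ α42 = 1)) ∧ q24 = 3) ∨ ((Hide (x24 = T.m 4 ∧ x42 = 4 * T.m 2) ∧ Hide (T.a 2 4 = T.w 2 ∧ T.a 4 2 = 4 * T.w 4) ∧ Hide (α24 = 1 ∧ α42 = 4)) ∧ q24 = 4) ∨ ((Hide (x24 = 4 * T.m 4 ∧ x42 = T.m 2) ∧ Hide (T.a 2 4 = 4 * T.w 2 ∧ T.a 4 2 = T.w 4) ∧ Hide (α24 = 4 ∧ α42 = 1)) ∧ q24 = 4) ∨ ((Hide (x24 = 2 * T.m 4 ∧ x42 = 2 * T.m 2) ∧ Hide (T.a 2 4 = 2 * T.w 2 ∧ T.a 4 2 = 2 * T.w 4) ∧ Hide (α24 = 2 ∧ α42 = 2)) ∧ q24 = 4)))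
    (c25 : Hide (((Hide (x25 = 0 ∧ x52 = 0) ∧ Hide (T.a 2 5 = 0 ∧ T.a 5 2 = 0) ∧ Hide (α25 = 0 ∧ α52 = 0)) ∧ q25 = 0) ∨ ((Hide (x25 = T.m 5 ∧ x52 = T.m 2) ∧ Hide (T.a 2 5 = T.w 2 ∧ T.a 5 2 = T.w 5) ∧ Hide (α25 = 1 ∧ α52 = 1)) ∧ q25 = 1) ∨ ((Hide (x25 = T.m 5 ∧ x52 = 2 * T.m 2) ∧ Hide (T.a 2 5 = T.w 2 ∧ T.a 5 2 = 2 * T.w 5) ∧ Hide (α25 = 1 ∧ α52 = 2)) ∧ q25 = 2) ∨ ((Hide (x25 = 2 * T.m 5 ∧ x52 = T.m 2) ∧ Hide (T.a 2 5 = 2 * T.w 2 ∧ T.a 5 2 = T.w 5) ∧ Hide (α25 = 2 ∧ α52 = 1)) ∧ q25 = 2) ∨ ((Hide (x25 = T.m 5 ∧ x52 = 3 * T.m 2) ∧ Hide (T.a 2 5 = T.w 2 ∧ T.a 5 2 = 3 * T.w 5) ∧ Hide (α25 = 1 ∧ α52 = 3)) ∧ q25 = 3) ∨ ((Hide (x25 = 3 * T.m 5 ∧ x52 = T.m 2) ∧ Hide (T.a 2 5 = 3 * T.w 2 ∧ T.a 5 2 = T.w 5) ∧ Hide (α25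 = 3 ∧ α52 = 1)) ∧ q25 = 3) ∨ ((Hide (x25 = T.m 5 ∧ x52 = 4 * T.m 2) ∧ Hide (T.a 2 5 = T.w 2 ∧ T.a 5 2 = 4 * T.w 5) ∧ Hide (α25 = 1 ∧ α52 = 4)) ∧ q25 = 4) ∨ ((Hide (x25 = 4 * T.m 5 ∧ x52 = T.m 2) ∧ Hide (T.a 2 5 = 4 * T.w 2 ∧ T.a 5 2 = T.w 5) ∧ Hide (α25 = 4 ∧ α52 = 1)) ∧ q25 = 4) ∨ ((Hide (x25 = 2 * T.m 5 ∧ x52 = 2 * T.m 2) ∧ Hide (T.a 2 5 = 2 * T.w 2 ∧ T.a 5 2 = 2 * T.w 5) ∧ Hide (α25 = 2 ∧ α52 = 2)) ∧ q25 = 4)))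
    (c34 : Hide (((Hide (x34 = 0 ∧ x43 = 0) ∧ Hide (T.a 3 4 = 0 ∧ T.a 4 3 = 0) ∧ Hide (α34 = 0 ∧ α43 = 0)) ∧ q34 = 0) ∨ ((Hide (x34 = T.m 4 ∧ x43 = T.m 3) ∧ Hide (T.a 3 4 = T.w 3 ∧ T.a 4 3 = T.w 4) ∧ Hide (α34 = 1 ∧ α43 = 1)) ∧ q34 = 1) ∨ ((Hide (x34 = T.m 4 ∧ x43 = 2 * T.m 3) ∧ Hide (T.a 3 4 = T.w 3 ∧ T.a 4 3 = 2 * T.w 4) ∧ Hide (α34 = 1 ∧ α43 = 2)) ∧ q34 = 2) ∨ ((Hide (x34 = 2 * T.m 4 ∧ x43 = T.m 3) ∧ Hide (T.a 3 4 = 2 * T.w 3 ∧ T.a 4 3 = T.w 4) ∧ Hide (α34 = 2 ∧ α43 = 1)) ∧ q34 = 2) ∨ ((Hide (x34 = T.m 4 ∧ x43 = 3 * T.m 3) ∧ Hide (T.a 3 4 = T.w 3 ∧ T.a 4 3 = 3 * T.w 4) ∧ Hide (α34 = 1 ∧ α43 = 3)) ∧ q34 = 3) ∨ ((Hide (x34 = 3 * T.m 4 ∧ x43 = T.m 3) ∧ Hide (T.a 3 4 = 3 * T.w 3 ∧ T.a 4 3 = T.w 4) ∧ Hide (α34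 = 3 ∧ α43 = 1)) ∧ q34 = 3) ∨ ((Hide (x34 = T.m 4 ∧ x43 = 4 * T.m 3) ∧ Hide (T.a 3 4 = T.w 3 ∧ T.a 4 3 = 4 * T.w 4) ∧ Hide (α34 = 1 ∧ α43 = 4)) ∧ q34 = 4) ∨ ((Hide (x34 = 4 * T.m 4 ∧ x43 = T.m 3) ∧ Hide (T.a 3 4 = 4 * T.w 3 ∧ T.a 4 3 = T.w 4) ∧ Hide (α34 = 4 ∧ α43 = 1)) ∧ q34 = 4) ∨ ((Hide (x34 = 2 * T.m 4 ∧ x43 = 2 * T.m 3) ∧ Hide (T.a 3 4 = 2 * T.w 3 ∧ T.a 4 3 = 2 * T.w 4) ∧ Hide (α34 = 2 ∧ α43 = 2)) ∧ q34 = 4)))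
    (c35 : Hide (((Hide (x35 = 0 ∧ x53 = 0) ∧ Hide (T.a 3 5 = 0 ∧ T.a 5 3 = 0) ∧ Hide (α35 = 0 ∧ α53 = 0)) ∧ q35 = 0) ∨ ((Hide (x35 = T.m 5 ∧ x53 = T.m 3) ∧ Hide (T.a 3 5 = T.w 3 ∧ T.a 5 3 = T.w 5) ∧ Hide (α35 = 1 ∧ α53 = 1)) ∧ q35 = 1) ∨ ((Hide (x35 = T.m 5 ∧ x53 = 2 * T.m 3) ∧ Hide (T.a 3 5 = T.w 3 ∧ T.a 5 3 = 2 * T.w 5) ∧ Hide (α35 = 1 ∧ α53 = 2)) ∧ q35 = 2) ∨ ((Hide (x35 = 2 * T.m 5 ∧ x53 = T.m 3) ∧ Hide (T.a 3 5 = 2 * T.w 3 ∧ T.a 5 3 = T.w 5) ∧ Hide (α35 = 2 ∧ α53 = 1)) ∧ q35 = 2) ∨ ((Hide (x35 = T.m 5 ∧ x53 = 3 * T.m 3) ∧ Hide (T.a 3 5 = T.w 3 ∧ T.a 5 3 = 3 * T.w 5) ∧ Hide (α35 = 1 ∧ α53 = 3)) ∧ q35 = 3) ∨ ((Hide (x35 = 3 * T.m 5 ∧ x53 = T.m 3) ∧ Hide (T.a 3 5 = 3 * T.w 3 ∧ T.a 5 3 = T.w 5) ∧ Hide (α35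 = 3 ∧ α53 = 1)) ∧ q35 = 3) ∨ ((Hide (x35 = T.m 5 ∧ x53 = 4 * T.m 3) ∧ Hide (T.a 3 5 = T.w 3 ∧ T.a 5 3 = 4 * T.w 5) ∧ Hide (α35 = 1 ∧ α53 = 4)) ∧ q35 = 4) ∨ ((Hide (x35 = 4 * T.m 5 ∧ x53 = T.m 3) ∧ Hide (T.a 3 5 = 4 * T.w 3 ∧ T.a 5 3 = T.w 5) ∧ Hide (α35 = 4 ∧ α53 = 1)) ∧ q35 = 4) ∨ ((Hide (x35 = 2 * T.m 5 ∧ x53 = 2 * T.m 3) ∧ Hide (T.a 3 5 = 2 * T.w 3 ∧ T.a 5 3 = 2 * T.w 5) ∧ Hide (α35 = 2 ∧ α53 = 2)) ∧ q35 = 4)))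
    (c45 : Hide (((Hide (x45 = 0 ∧ x54 = 0) ∧ Hide (T.a 4 5 = 0 ∧ T.a 5 4 = 0) ∧ Hide (α45 = 0 ∧ α54 = 0)) ∧ q45 = 0) ∨ ((Hide (x45 = T.m 5 ∧ x54 = T.m 4) ∧ Hide (T.a 4 5 = T.w 4 ∧ T.a 5 4 = T.w 5) ∧ Hide (α45 = 1 ∧ α54 = 1)) ∧ q45 = 1) ∨ ((Hide (x45 = T.m 5 ∧ x54 = 2 * T.m 4) ∧ Hide (T.a 4 5 = T.w 4 ∧ T.a 5 4 = 2 * T.w 5) ∧ Hide (α45 = 1 ∧ α54 = 2)) ∧ q45 = 2) ∨ ((Hide (x45 = 2 * T.m 5 ∧ x54 = T.m 4) ∧ Hide (T.a 4 5 = 2 * T.w 4 ∧ T.a 5 4 = T.w 5) ∧ Hide (α45 = 2 ∧ α54 = 1)) ∧ q45 = 2) ∨ ((Hide (x45 = T.m 5 ∧ x54 = 3 * T.m 4) ∧ Hide (T.a 4 5 = T.w 4 ∧ T.a 5 4 = 3 * T.w 5) ∧ Hide (α45 = 1 ∧ α54 = 3)) ∧ q45 = 3) ∨ ((Hide (x45 = 3 * T.m 5 ∧ x54 = T.m 4) ∧ Hide (T.a 4 5 = 3 * T.w 4 ∧ T.a 5 4 = T.w 5) ∧ Hide (α45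 = 3 ∧ α54 = 1)) ∧ q45 = 3) ∨ ((Hide (x45 = T.m 5 ∧ x54 = 4 * T.m 4) ∧ Hide (T.a 4 5 = T.w 4 ∧ T.a 5 4 = 4 * T.w 5) ∧ Hide (α45 = 1 ∧ α54 = 4)) ∧ q45 = 4) ∨ ((Hide (x45 = 4 * T.m 5 ∧ x54 = T.m 4) ∧ Hide (T.a 4 5 = 4 * T.w 4 ∧ T.a 5 4 = T.w 5) ∧ Hide (α45 = 4 ∧ α54 = 1)) ∧ q45 = 4) ∨ ((Hide (x45 = 2 * T.m 5 ∧ x54 = 2 * T.m 4) ∧ Hide (T.a 4 5 = 2 * T.w 4 ∧ T.a 5 4 = 2 * T.w 5) ∧ Hide (α45 = 2 ∧ α54 = 2)) ∧ q45 = 4)))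
    (gw01 : Hide (T.a 0 1 = T.w 0 ∧ T.a 1 0 = T.w 1))
    (gw02 : Hide (T.a 0 2 = 0 ∧ T.a 2 0 = 0))
    (gw03 : Hide (T.a 0 3 = 0 ∧ T.a 3 0 = 0))
    (gw04 : Hide (T.a 0 4 = 0 ∧ T.a 4 0 = 0))
    (gw05 : Hide (T.a 0 5 = 0 ∧ T.a 5 0 = 0))
    (gw12 : Hide (T.a 1 2 = T.w 1 ∧ T.a 2 1 = 2 * T.w 2)) : Goal T := by
  have t := pc1 q13 c13.out (by have := v1.out; have := qn14.out; have := qn15.out; omega)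
  clear c13
  rcases t with ⟨⟨⟨rfl, rfl⟩, gw13, ⟨rfl, rfl⟩⟩, rfl⟩ | ⟨⟨⟨rfl, rfl⟩, gw13, ⟨rfl, rfl⟩⟩, rfl⟩
  · have t := pc1 q14 c14.out (by have := v1.out; have := qn15.out; omega)
    clear c14
    rcases t with ⟨⟨⟨rfl, rfl⟩, gw14, ⟨rfl, rfl⟩⟩, rfl⟩ | ⟨⟨⟨rfl, rfl⟩, gw14, ⟨rfl, rfl⟩⟩, rfl⟩
    · have t := pc1 q15 c15.out (by have := v1.out; omega)
      clear c15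
      rcases t with ⟨⟨⟨rfl, rfl⟩, gw15, ⟨rfl, rfl⟩⟩, rfl⟩ | ⟨⟨⟨rfl, rfl⟩, gw15, ⟨rfl, rfl⟩⟩, rfl⟩
      · have t := pc2 q23 c23.out (by have := v2.out; have := qn24.out; have := qn25.out; omega)
        clear c23
        rcases t with ⟨⟨⟨rfl, rfl⟩, gw23, ⟨rfl, rfl⟩⟩, rfl⟩ | ⟨⟨⟨rfl, rfl⟩, gw23, ⟨rfl, rfl⟩⟩, rfl⟩ | ⟨⟨⟨rfl, rfl⟩, gw23, ⟨rfl, rfl⟩⟩, rfl⟩ | ⟨⟨⟨rfl, rfl⟩, gw23, ⟨rfl, rfl⟩⟩, rfl⟩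
        · (have := od3.out; omega)
        · have t := pc1 q24 c24.out (by have := v2.out; have := qn25.out; omega)
          clear c24
          rcases t with ⟨⟨⟨rfl, rfl⟩, gw24, ⟨rfl, rfl⟩⟩, rfl⟩ | ⟨⟨⟨rfl, rfl⟩, gw24, ⟨rfl, rfl⟩⟩, rfl⟩
          · have t := pc1 q25 c25.out (by have := v2.out; omega)
            clear c25
            rcases t with ⟨⟨⟨rfl, rfl⟩, gw25, ⟨rfl, rfl⟩⟩, rfl⟩ | ⟨⟨⟨rfl, rfl⟩, gw25, ⟨rfl, rfl⟩⟩, rfl⟩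
            · have t := pc3 q34 c34.out (by have := v3.out; have := qn35.out; omega)
              clear c34
              rcases t with ⟨⟨⟨rfl, rfl⟩, gw34, ⟨rfl, rfl⟩⟩, rfl⟩ | ⟨⟨⟨rfl, rfl⟩, gw34, ⟨rfl, rfl⟩⟩, rfl⟩ | ⟨⟨⟨rfl, rfl⟩, gw34, ⟨rfl, rfl⟩⟩, rfl⟩ | ⟨⟨⟨rfl, rfl⟩, gw34, ⟨rfl, rfl⟩⟩, rfl⟩ | ⟨⟨⟨rfl, rfl⟩, gw34, ⟨rfl, rfl⟩⟩, rfl⟩ | ⟨⟨⟨rfl, rfl⟩, gw34, ⟨rfl, rfl⟩⟩, rfl⟩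
              · (have := od4.out; omega)
              · have t := pc2 q35 c35.out (by have := v3.out; omega)
                clear c35
                rcases t with ⟨⟨⟨rfl, rfl⟩, gw35, ⟨rfl, rfl⟩⟩, rfl⟩ | ⟨⟨⟨rfl, rfl⟩, gw35, ⟨rfl, rfl⟩⟩, rfl⟩ | ⟨⟨⟨rfl, rfl⟩, gw35, ⟨rfl, rfl⟩⟩, rfl⟩ | ⟨⟨⟨rfl, rfl⟩, gw35, ⟨rfl, rfl⟩⟩, rfl⟩
                · have t := pc3 q45 c45.out (by have := v4.out; omega)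
                  clear c45
                  rcases t with ⟨⟨⟨rfl, rfl⟩, gw45, ⟨rfl, rfl⟩⟩, rfl⟩ | ⟨⟨⟨rfl, rfl⟩, gw45, ⟨rfl, rfl⟩⟩, rfl⟩ | ⟨⟨⟨rfl, rfl⟩, gw45, ⟨rfl, rfl⟩⟩, rfl⟩ | ⟨⟨⟨rfl, rfl⟩, gw45, ⟨rfl, rfl⟩⟩, rfl⟩ | ⟨⟨⟨rfl, rfl⟩, gw45, ⟨rfl, rfl⟩⟩, rfl⟩ | ⟨⟨⟨rfl, rfl⟩, gw45, ⟨rfl, rfl⟩⟩, rfl⟩
                  · (have := od5.out; omega)
                  · (have := hm5.out; have := e0.out; have := e1.out; have := e2.out; have := e3.out; have := e4.out; omega)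
                  · (have := hm5.out; have := e0.out; have := e1.out; have := e2.out; have := e3.out; have := e4.out; omega)
                  · (have := hm5.out; have := e0.out; have := e1.out; have := e2.out; have := e3.out; have := e4.out; omega)
                  · (have := hm2.out; have := e3.out; have := e4.out; have := e5.out; omega)
                  · (have := hm2.out; have := e3.out; have := e4.out; have := e5.out; omega)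
                · (have := hm4.out; have := om5.out; have := e0.out; have := e1.out; have := e2.out; have := e3.out; omega)
                · (have := hm1.out; have := e2.out; have := e3.out; have := e4.out; have := r45.out; have := e5.out; have := r54.out; omega)
                · (have := hm1.out; have := e2.out; have := e3.out; have := e4.out; have := r45.out; have := e5.out; have := r54.out; omega)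
              · (have := hm0.out; have := e1.out; have := e2.out; have := e3.out; have := r35.out; have := e4.out; have := r45.out; omega)
              · (have := hm0.out; have := e1.out; have := e2.out; have := e3.out; have := r35.out; have := e4.out; have := r45.out; omega)
              · (have := hm1.out; have := e2.out; have := e3.out; have := r35.out; have := e4.out; have := r45.out; omega)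
              · (have := hm1.out; have := e2.out; have := e3.out; have := r35.out; have := e4.out; have := r45.out; omega)
            · (have := hm0.out; have := e1.out; have := e2.out; have := e3.out; have := r34.out; have := r35.out; have := e5.out; have := r53.out; have := r54.out; omega)
          · (have := hm0.out; have := e1.out; have := e2.out; have := r25.out; have := e3.out; have := r34.out; have := r35.out; have := e4.out; have := r43.out; have := r45.out; omega)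
        · (have := hm0.out; have := e1.out; have := e2.out; have := r24.out; have := r25.out; have := e3.out; have := r34.out; have := r35.out; omega)
        · (have := hm0.out; have := e1.out; have := e2.out; have := r24.out; have := r25.out; have := e3.out; have := r34.out; have := r35.out; omega)
      · have t := pc2 q23 c23.out (by have := v2.out; have := qn24.out; have := qn25.out; omega)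
        clear c23
        rcases t with ⟨⟨⟨rfl, rfl⟩, gw23, ⟨rfl, rfl⟩⟩, rfl⟩ | ⟨⟨⟨rfl, rfl⟩, gw23, ⟨rfl, rfl⟩⟩, rfl⟩ | ⟨⟨⟨rfl, rfl⟩, gw23, ⟨rfl, rfl⟩⟩, rfl⟩ | ⟨⟨⟨rfl, rfl⟩, gw23, ⟨rfl, rfl⟩⟩, rfl⟩
        · (have := od3.out; omega)
        · (have := hm3.out; have := e0.out; have := e1.out; have := e2.out; have := r24.out; have := r25.out; have := e5.out; have := r52.out; have := r53.out; have := r54.out; omega)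
        · (have := hm3.out; have := om5.out; have := e0.out; have := e1.out; have := e2.out; have := r24.out; have := r25.out; omega)
        · (have := hm3.out; have := om5.out; have := e0.out; have := e1.out; have := e2.out; have := r24.out; have := r25.out; omega)
    · have t := pc0 q15 c15.out (by have := v1.out; omega)
      clear c15
      obtain ⟨⟨⟨rfl, rfl⟩, gw15, ⟨rfl, rfl⟩⟩, rfl⟩ := t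
      have t := pc2 q23 c23.out (by have := v2.out; have := qn24.out; have := qn25.out; omega)
      clear c23
      rcases t with ⟨⟨⟨rfl, rfl⟩, gw23, ⟨rfl, rfl⟩⟩, rfl⟩ | ⟨⟨⟨rfl, rfl⟩, gw23, ⟨rfl, rfl⟩⟩, rfl⟩ | ⟨⟨⟨rfl, rfl⟩, gw23, ⟨rfl, rfl⟩⟩, rfl⟩ | ⟨⟨⟨rfl, rfl⟩, gw23, ⟨rfl, rfl⟩⟩, rfl⟩
      · (have := od3.out; omega)
      · (have := hm3.out; have := e0.out; have := e1.out; have := e2.out; have := r24.out; have := r25.out; have := e4.out; have := r42.out; have := r43.out; have := r45.out; omega)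
      · (have := hm3.out; have := om4.out; have := e0.out; have := e1.out; have := e2.out; have := r24.out; have := r25.out; omega)
      · (have := hm3.out; have := om4.out; have := e0.out; have := e1.out; have := e2.out; have := r24.out; have := r25.out; omega)
  · have t := pc0 q14 c14.out (by have := v1.out; have := qn15.out; omega)
    clear c14
    obtain ⟨⟨⟨rfl, rfl⟩, gw14, ⟨rfl, rfl⟩⟩, rfl⟩ := t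
    have t := pc0 q15 c15.out (by have := v1.out; omega)
    clear c15
    obtain ⟨⟨⟨rfl, rfl⟩, gw15, ⟨rfl, rfl⟩⟩, rfl⟩ := t
    have t := pc2 q23 c23.out (by have := v2.out; have := qn24.out; have := qn25.out; omega)
    clear c23
    rcases t with ⟨⟨⟨rfl, rfl⟩, gw23, ⟨rfl, rfl⟩⟩, rfl⟩ | ⟨⟨⟨rfl, rfl⟩, gw23, ⟨rfl, rfl⟩⟩, rfl⟩ | ⟨⟨⟨rfl, rfl⟩, gw23, ⟨rfl, rfl⟩⟩, rfl⟩ | ⟨⟨⟨rfl, rfl⟩, gw23, ⟨rfl, rfl⟩⟩, rfl⟩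
    · have t := pc2 q24 c24.out (by have := v2.out; have := qn25.out; omega)
      clear c24
      rcases t with ⟨⟨⟨rfl, rfl⟩, gw24, ⟨rfl, rfl⟩⟩, rfl⟩ | ⟨⟨⟨rfl, rfl⟩, gw24, ⟨rfl, rfl⟩⟩, rfl⟩ | ⟨⟨⟨rfl, rfl⟩, gw24, ⟨rfl, rfl⟩⟩, rfl⟩ | ⟨⟨⟨rfl, rfl⟩, gw24, ⟨rfl, rfl⟩⟩, rfl⟩
      · have t := pc2 q25 c25.out (by have := v2.out; omega)
        clear c25
        rcases t with ⟨⟨⟨rfl, rfl⟩, gw25, ⟨rfl, rfl⟩⟩, rfl⟩ | ⟨⟨⟨rfl, rfl⟩, gw25, ⟨rfl, rfl⟩⟩, rfl⟩ | ⟨⟨⟨rfl, rfl⟩, gw25, ⟨rfl, rfl⟩⟩, rfl⟩ | ⟨⟨⟨rfl, rfl⟩, gw25, ⟨rfl, rfl⟩⟩, rfl⟩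
        · have t := pc3 q34 c34.out (by have := v3.out; have := qn35.out; omega)
          clear c34
          rcases t with ⟨⟨⟨rfl, rfl⟩, gw34, ⟨rfl, rfl⟩⟩, rfl⟩ | ⟨⟨⟨rfl, rfl⟩, gw34, ⟨rfl, rfl⟩⟩, rfl⟩ | ⟨⟨⟨rfl, rfl⟩, gw34, ⟨rfl, rfl⟩⟩, rfl⟩ | ⟨⟨⟨rfl, rfl⟩, gw34, ⟨rfl, rfl⟩⟩, rfl⟩ | ⟨⟨⟨rfl, rfl⟩, gw34, ⟨rfl, rfl⟩⟩, rfl⟩ | ⟨⟨⟨rfl, rfl⟩, gw34, ⟨rfl, rfl⟩⟩, rfl⟩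
          · (have := od4.out; omega)
          · (have := hm4.out; have := e0.out; have := e1.out; have := e2.out; have := e3.out; have := r35.out; omega)
          · (have := hm0.out; have := e1.out; have := e2.out; have := e3.out; have := r35.out; have := e4.out; have := r45.out; omega)
          · (have := hm0.out; have := e1.out; have := e2.out; have := e3.out; have := r35.out; have := e4.out; have := r45.out; omega)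
          · (have := hm4.out; have := e0.out; have := e1.out; have := e2.out; have := e3.out; have := r35.out; omega)
          · (have := hm4.out; have := e0.out; have := e1.out; have := e2.out; have := e3.out; have := r35.out; omega)
        · (have := hm5.out; have := om3.out; have := e0.out; have := e1.out; have := e2.out; omega)
        · (have := hm5.out; have := om3.out; have := e0.out; have := e1.out; have := e2.out; omega)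
        · (have := hm5.out; have := om3.out; have := e0.out; have := e1.out; have := e2.out; omega)
      · (have := hm4.out; have := om3.out; have := e0.out; have := e1.out; have := e2.out; have := r25.out; omega)
      · (have := hm4.out; have := om3.out; have := e0.out; have := e1.out; have := e2.out; have := r25.out; omega)
      · (have := hm4.out; have := om3.out; have := e0.out; have := e1.out; have := e2.out; have := r25.out; omega)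
    · (have := hm0.out; have := hm1.out; have := e1.out; have := e2.out; have := r24.out; have := r25.out; have := e3.out; have := r34.out; have := r35.out; omega)
    · (have := hm0.out; have := hm1.out; have := e1.out; have := e2.out; have := r24.out; have := r25.out; have := e3.out; have := r34.out; have := r35.out; omega)
    · (have := hm0.out; have := om2.out; have := e1.out; have := e2.out; have := r24.out; have := r25.out; have := e3.out; have := r34.out; have := r35.out; omega)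

set_option maxHeartbeats 0 in
theorem part8 (T : Models.NumericalType 6) (α13 α14 α15 α23 α24 α25 α31 α32 α34 α35 α41 α42 α43 α45 α51 α52 α53 α54 x13 x14 x15 x23 x24 x25 x31 x32 x34 x35 x41 x42 x43 x45 x51 x52 x53 x54 q13 q14 q15 q23 q24 q25 q34 q35 q45 : ℤ)
    (hm0 : Hide (0 < T.m 0))
    (hm1 : Hide (0 < T.m 1))
    (hm2 : Hide (0 < T.m 2))
    (hm3 : Hide (0 < T.m 3))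
    (hm4 : Hide (0 < T.m 4))
    (hm5 : Hide (0 < T.m 5))
    (om1 : Hide (T.m 0 ≤ T.m 1))
    (om2 : Hide (T.m 0 ≤ T.m 2))
    (om3 : Hide (T.m 0 ≤ T.m 3))
    (om4 : Hide (T.m 0 ≤ T.m 4))
    (om5 : Hide (T.m 0 ≤ T.m 5))
    (e0 : Hide (T.m 1 + (0 : ℤ) + (0 : ℤ) + (0 : ℤ) + (0 : ℤ) = 2 * T.m 0))
    (e1 : Hide (T.m 0 + 2 * T.m 2 + x13 + x14 + x15 = 2 * T.m 1))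
    (e2 : Hide ((0 : ℤ) + T.m 1 + x23 + x24 + x25 = 2 * T.m 2))
    (e3 : Hide ((0 : ℤ) + x31 + x32 + x34 + x35 = 2 * T.m 3))
    (e4 : Hide ((0 : ℤ) + x41 + x42 + x43 + x45 = 2 * T.m 4))
    (e5 : Hide ((0 : ℤ) + x51 + x52 + x53 + x54 = 2 * T.m 5))
    (r01 : Hide (0 ≤ T.m 1))
    (r02 : Hide (0 ≤ (0 : ℤ)))
    (r03 : Hide (0 ≤ (0 : ℤ)))
    (r04 : Hide (0 ≤ (0 : ℤ)))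
    (r05 : Hide (0 ≤ (0 : ℤ)))
    (r10 : Hide (0 ≤ T.m 0))
    (r12 : Hide (0 ≤ 2 * T.m 2))
    (r13 : Hide (0 ≤ x13))
    (r14 : Hide (0 ≤ x14))
    (r15 : Hide (0 ≤ x15))
    (r20 : Hide (0 ≤ (0 : ℤ)))
    (r21 : Hide (0 ≤ T.m 1))
    (r23 : Hide (0 ≤ x23))
    (r24 : Hide (0 ≤ x24))
    (r25 : Hide (0 ≤ x25))
    (r30 : Hide (0 ≤ (0 : ℤ)))
    (r31 : Hide (0 ≤ x31))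
    (r32 : Hide (0 ≤ x32))
    (r34 : Hide (0 ≤ x34))
    (r35 : Hide (0 ≤ x35))
    (r40 : Hide (0 ≤ (0 : ℤ)))
    (r41 : Hide (0 ≤ x41))
    (r42 : Hide (0 ≤ x42))
    (r43 : Hide (0 ≤ x43))
    (r45 : Hide (0 ≤ x45))
    (r50 : Hide (0 ≤ (0 : ℤ)))
    (r51 : Hide (0 ≤ x51))
    (r52 : Hide (0 ≤ x52))
    (r53 : Hide (0 ≤ x53))
    (r54 : Hide (0 ≤ x54))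
    (hw0 : Hide (0 < T.w 0))
    (hw1 : Hide (0 < T.w 1))
    (hw2 : Hide (0 < T.w 2))
    (hw3 : Hide (0 < T.w 3))
    (hw4 : Hide (0 < T.w 4))
    (hw5 : Hide (0 < T.w 5))
    (hs01 : Hide (T.a 0 1 = T.a 1 0))
    (hs02 : Hide (T.a 0 2 = T.a 2 0))
    (hs03 : Hide (T.a 0 3 = T.a 3 0))
    (hs04 : Hide (T.a 0 4 = T.a 4 0))
    (hs05 : Hide (T.a 0 5 = T.a 5 0))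
    (hs12 : Hide (T.a 1 2 = T.a 2 1))
    (hs13 : Hide (T.a 1 3 = T.a 3 1))
    (hs14 : Hide (T.a 1 4 = T.a 4 1))
    (hs15 : Hide (T.a 1 5 = T.a 5 1))
    (hs23 : Hide (T.a 2 3 = T.a 3 2))
    (hs24 : Hide (T.a 2 4 = T.a 4 2))
    (hs25 : Hide (T.a 2 5 = T.a 5 2))
    (hs34 : Hide (T.a 3 4 = T.a 4 3))
    (hs35 : Hide (T.a 3 5 = T.a 5 3))
    (hs45 : Hide (T.a 4 5 = T.a 5 4))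
    (ha00 : Hide (T.a 0 0 = -2 * T.w 0))
    (ha11 : Hide (T.a 1 1 = -2 * T.w 1))
    (ha22 : Hide (T.a 2 2 = -2 * T.w 2))
    (ha33 : Hide (T.a 3 3 = -2 * T.w 3))
    (ha44 : Hide (T.a 4 4 = -2 * T.w 4))
    (ha55 : Hide (T.a 5 5 = -2 * T.w 5))
    (v0 : Hide ((1 : ℤ) + (0 : ℤ) + (0 : ℤ) + (0 : ℤ) + (0 : ℤ) ≤ 4))
    (v1 : Hide ((1 : ℤ) + (2 : ℤ) + q13 + q14 + q15 ≤ 4))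
    (v2 : Hide ((0 : ℤ) + (2 : ℤ) + q23 + q24 + q25 ≤ 4))
    (v3 : Hide ((0 : ℤ) + q13 + q23 + q34 + q35 ≤ 4))
    (v4 : Hide ((0 : ℤ) + q14 + q24 + q34 + q45 ≤ 4))
    (v5 : Hide ((0 : ℤ) + q15 + q25 + q35 + q45 ≤ 4))
    (qn01 : Hide (0 ≤ (1 : ℤ)))
    (qn02 : Hide (0 ≤ (0 : ℤ)))
    (qn03 : Hide (0 ≤ (0 : ℤ)))
    (qn04 : Hide (0 ≤ (0 : ℤ)))
    (qn05 : Hide (0 ≤ (0 : ℤ)))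
    (qn12 : Hide (0 ≤ (2 : ℤ)))
    (qn13 : Hide (0 ≤ q13))
    (qn14 : Hide (0 ≤ q14))
    (qn15 : Hide (0 ≤ q15))
    (qn23 : Hide (0 ≤ q23))
    (qn24 : Hide (0 ≤ q24))
    (qn25 : Hide (0 ≤ q25))
    (qn34 : Hide (0 ≤ q34))
    (qn35 : Hide (0 ≤ q35))
    (qn45 : Hide (0 ≤ q45))
    (od1 : Hide (0 < (1 : ℤ)))
    (od2 : Hide (0 < (0 : ℤ) + (2 : ℤ)))
    (od3 : Hide (0 < (0 : ℤ) + α13 + α23))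
    (od4 : Hide (0 < (0 : ℤ) + α14 + α24 + α34))
    (od5 : Hide (0 < (0 : ℤ) + α15 + α25 + α35 + α45))
    (c13 : Hide (((Hide (x13 = 0 ∧ x31 = 0) ∧ Hide (T.a 1 3 = 0 ∧ T.a 3 1 = 0) ∧ Hide (α13 = 0 ∧ α31 = 0)) ∧ q13 = 0) ∨ ((Hide (x13 = T.m 3 ∧ x31 = T.m 1) ∧ Hide (T.a 1 3 = T.w 1 ∧ T.a 3 1 = T.w 3) ∧ Hide (α13 = 1 ∧ α31 = 1)) ∧ q13 = 1) ∨ ((Hide (x13 = T.m 3 ∧ x31 = 2 * T.m 1) ∧ Hide (T.a 1 3 = T.w 1 ∧ T.a 3 1 = 2 * T.w 3) ∧ Hide (α13 = 1 ∧ α31 = 2)) ∧ q13 = 2) ∨ ((Hide (x13 = 2 * T.m 3 ∧ x31 = T.m 1) ∧ Hide (T.a 1 3 = 2 * T.w 1 ∧ T.a 3 1 = T.w 3) ∧ Hide (α13 = 2 ∧ α31 = 1)) ∧ q13 = 2) ∨ ((Hide (x13 = T.m 3 ∧ x31 = 3 * T.m 1) ∧ Hide (T.a 1 3 = T.w 1 ∧ T.a 3 1 = 3 * T.w 3) ∧ Hide (α13 = 1 ∧ α31 = 3)) ∧ q13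 = 3) ∨ ((Hide (x13 = 3 * T.m 3 ∧ x31 = T.m 1) ∧ Hide (T.a 1 3 = 3 * T.w 1 ∧ T.a 3 1 = T.w 3) ∧ Hide (α13 = 3 ∧ α31 = 1)) ∧ q13 = 3) ∨ ((Hide (x13 = T.m 3 ∧ x31 = 4 * T.m 1) ∧ Hide (T.a 1 3 = T.w 1 ∧ T.a 3 1 = 4 * T.w 3) ∧ Hide (α13 = 1 ∧ α31 = 4)) ∧ q13 = 4) ∨ ((Hide (x13 = 4 * T.m 3 ∧ x31 = T.m 1) ∧ Hide (T.a 1 3 = 4 * T.w 1 ∧ T.a 3 1 = T.w 3) ∧ Hide (α13 = 4 ∧ α31 = 1)) ∧ q13 = 4) ∨ ((Hide (x13 = 2 * T.m 3 ∧ x31 = 2 * T.m 1) ∧ Hide (T.a 1 3 = 2 * T.w 1 ∧ T.a 3 1 = 2 * T.w 3) ∧ Hide (α13 = 2 ∧ α31 = 2)) ∧ q13 = 4)))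
    (c14 : Hide (((Hide (x14 = 0 ∧ x41 = 0) ∧ Hide (T.a 1 4 = 0 ∧ T.a 4 1 = 0) ∧ Hide (α14 = 0 ∧ α41 = 0)) ∧ q14 = 0) ∨ ((Hide (x14 = T.m 4 ∧ x41 = T.m 1) ∧ Hide (T.a 1 4 = T.w 1 ∧ T.a 4 1 = T.w 4) ∧ Hide (α14 = 1 ∧ α41 = 1)) ∧ q14 = 1) ∨ ((Hide (x14 = T.m 4 ∧ x41 = 2 * T.m 1) ∧ Hide (T.a 1 4 = T.w 1 ∧ T.a 4 1 = 2 * T.w 4) ∧ Hide (α14 = 1 ∧ α41 = 2)) ∧ q14 = 2) ∨ ((Hide (x14 = 2 * T.m 4 ∧ x41 = T.m 1) ∧ Hide (T.a 1 4 = 2 * T.w 1 ∧ T.a 4 1 = T.w 4) ∧ Hide (α14 = 2 ∧ α41 = 1)) ∧ q14 = 2) ∨ ((Hide (x14 = T.m 4 ∧ x41 = 3 * T.m 1) ∧ Hide (T.a 1 4 = T.w 1 ∧ T.a 4 1 = 3 * T.w 4) ∧ Hide (α14 = 1 ∧ α41 = 3)) ∧ q14 = 3) ∨ ((Hide (x14 = 3 * T.m 4 ∧ x41 = T.m 1) ∧ Hide (T.a 1 4 = 3 * T.w 1 ∧ T.a 4 1 = T.w 4) ∧ Hide (α14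 = 3 ∧ α41 = 1)) ∧ q14 = 3) ∨ ((Hide (x14 = T.m 4 ∧ x41 = 4 * T.m 1) ∧ Hide (T.a 1 4 = T.w 1 ∧ T.a 4 1 = 4 * T.w 4) ∧ Hide (α14 = 1 ∧ α41 = 4)) ∧ q14 = 4) ∨ ((Hide (x14 = 4 * T.m 4 ∧ x41 = T.m 1) ∧ Hide (T.a 1 4 = 4 * T.w 1 ∧ T.a 4 1 = T.w 4) ∧ Hide (α14 = 4 ∧ α41 = 1)) ∧ q14 = 4) ∨ ((Hide (x14 = 2 * T.m 4 ∧ x41 = 2 * T.m 1) ∧ Hide (T.a 1 4 = 2 * T.w 1 ∧ T.a 4 1 = 2 * T.w 4) ∧ Hide (α14 = 2 ∧ α41 = 2)) ∧ q14 = 4)))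
    (c15 : Hide (((Hide (x15 = 0 ∧ x51 = 0) ∧ Hide (T.a 1 5 = 0 ∧ T.a 5 1 = 0) ∧ Hide (α15 = 0 ∧ α51 = 0)) ∧ q15 = 0) ∨ ((Hide (x15 = T.m 5 ∧ x51 = T.m 1) ∧ Hide (T.a 1 5 = T.w 1 ∧ T.a 5 1 = T.w 5) ∧ Hide (α15 = 1 ∧ α51 = 1)) ∧ q15 = 1) ∨ ((Hide (x15 = T.m 5 ∧ x51 = 2 * T.m 1) ∧ Hide (T.a 1 5 = T.w 1 ∧ T.a 5 1 = 2 * T.w 5) ∧ Hide (α15 = 1 ∧ α51 = 2)) ∧ q15 = 2) ∨ ((Hide (x15 = 2 * T.m 5 ∧ x51 = T.m 1) ∧ Hide (T.a 1 5 = 2 * T.w 1 ∧ T.a 5 1 = T.w 5) ∧ Hide (α15 = 2 ∧ α51 = 1)) ∧ q15 = 2) ∨ ((Hide (x15 = T.m 5 ∧ x51 = 3 * T.m 1) ∧ Hide (T.a 1 5 = T.w 1 ∧ T.a 5 1 = 3 * T.w 5) ∧ Hide (α15 = 1 ∧ α51 = 3)) ∧ q15 = 3) ∨ ((Hide (x15 = 3 * T.m 5 ∧ x51 = T.m 1) ∧ Hide (T.a 1 5 = 3 * T.w 1 ∧ T.a 5 1 = T.w 5) ∧ Hide (α15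 = 3 ∧ α51 = 1)) ∧ q15 = 3) ∨ ((Hide (x15 = T.m 5 ∧ x51 = 4 * T.m 1) ∧ Hide (T.a 1 5 = T.w 1 ∧ T.a 5 1 = 4 * T.w 5) ∧ Hide (α15 = 1 ∧ α51 = 4)) ∧ q15 = 4) ∨ ((Hide (x15 = 4 * T.m 5 ∧ x51 = T.m 1) ∧ Hide (T.a 1 5 = 4 * T.w 1 ∧ T.a 5 1 = T.w 5) ∧ Hide (α15 = 4 ∧ α51 = 1)) ∧ q15 = 4) ∨ ((Hide (x15 = 2 * T.m 5 ∧ x51 = 2 * T.m 1) ∧ Hide (T.a 1 5 = 2 * T.w 1 ∧ T.a 5 1 = 2 * T.w 5) ∧ Hide (α15 = 2 ∧ α51 = 2)) ∧ q15 = 4)))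
    (c23 : Hide (((Hide (x23 = 0 ∧ x32 = 0) ∧ Hide (T.a 2 3 = 0 ∧ T.a 3 2 = 0) ∧ Hide (α23 = 0 ∧ α32 = 0)) ∧ q23 = 0) ∨ ((Hide (x23 = T.m 3 ∧ x32 = T.m 2) ∧ Hide (T.a 2 3 = T.w 2 ∧ T.a 3 2 = T.w 3) ∧ Hide (α23 = 1 ∧ α32 = 1)) ∧ q23 = 1) ∨ ((Hide (x23 = T.m 3 ∧ x32 = 2 * T.m 2) ∧ Hide (T.a 2 3 = T.w 2 ∧ T.a 3 2 = 2 * T.w 3) ∧ Hide (α23 = 1 ∧ α32 = 2)) ∧ q23 = 2) ∨ ((Hide (x23 = 2 * T.m 3 ∧ x32 = T.m 2) ∧ Hide (T.a 2 3 = 2 * T.w 2 ∧ T.a 3 2 = T.w 3) ∧ Hide (α23 = 2 ∧ α32 = 1)) ∧ q23 = 2) ∨ ((Hide (x23 = T.m 3 ∧ x32 = 3 * T.m 2) ∧ Hide (T.a 2 3 = T.w 2 ∧ T.a 3 2 = 3 * T.w 3) ∧ Hide (α23 = 1 ∧ α32 = 3)) ∧ q23 = 3) ∨ ((Hide (x23 = 3 * T.m 3 ∧ x32 = T.m 2) ∧ Hide (T.a 2 3 = 3 * T.w 2 ∧ T.a 3 2 = T.w 3) ∧ Hide (α23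 = 3 ∧ α32 = 1)) ∧ q23 = 3) ∨ ((Hide (x23 = T.m 3 ∧ x32 = 4 * T.m 2) ∧ Hide (T.a 2 3 = T.w 2 ∧ T.a 3 2 = 4 * T.w 3) ∧ Hide (α23 = 1 ∧ α32 = 4)) ∧ q23 = 4) ∨ ((Hide (x23 = 4 * T.m 3 ∧ x32 = T.m 2) ∧ Hide (T.a 2 3 = 4 * T.w 2 ∧ T.a 3 2 = T.w 3) ∧ Hide (α23 = 4 ∧ α32 = 1)) ∧ q23 = 4) ∨ ((Hide (x23 = 2 * T.m 3 ∧ x32 = 2 * T.m 2) ∧ Hide (T.a 2 3 = 2 * T.w 2 ∧ T.a 3 2 = 2 * T.w 3) ∧ Hide (α23 = 2 ∧ α32 = 2)) ∧ q23 = 4)))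
    (c24 : Hide (((Hide (x24 = 0 ∧ x42 = 0) ∧ Hide (T.a 2 4 = 0 ∧ T.a 4 2 = 0) ∧ Hide (α24 = 0 ∧ α42 = 0)) ∧ q24 = 0) ∨ ((Hide (x24 = T.m 4 ∧ x42 = T.m 2) ∧ Hide (T.a 2 4 = T.w 2 ∧ T.a 4 2 = T.w 4) ∧ Hide (α24 = 1 ∧ α42 = 1)) ∧ q24 = 1) ∨ ((Hide (x24 = T.m 4 ∧ x42 = 2 * T.m 2) ∧ Hide (T.a 2 4 = T.w 2 ∧ T.a 4 2 = 2 * T.w 4) ∧ Hide (α24 = 1 ∧ α42 = 2)) ∧ q24 = 2) ∨ ((Hide (x24 = 2 * T.m 4 ∧ x42 = T.m 2) ∧ Hide (T.a 2 4 = 2 * T.w 2 ∧ T.a 4 2 = T.w 4) ∧ Hide (α24 = 2 ∧ α42 = 1)) ∧ q24 = 2) ∨ ((Hide (x24 = T.m 4 ∧ x42 = 3 * T.m 2) ∧ Hide (T.a 2 4 = T.w 2 ∧ T.a 4 2 = 3 * T.w 4) ∧ Hide (α24 = 1 ∧ α42 = 3)) ∧ q24 = 3) ∨ ((Hide (x24 = 3 * T.m 4 ∧ x42 = T.m 2) ∧ Hide (T.a 2 4 = 3 * T.w 2 ∧ T.a 4 2 = T.w 4) ∧ Hide (α24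 = 3 ∧ α42 = 1)) ∧ q24 = 3) ∨ ((Hide (x24 = T.m 4 ∧ x42 = 4 * T.m 2) ∧ Hide (T.a 2 4 = T.w 2 ∧ T.a 4 2 = 4 * T.w 4) ∧ Hide (α24 = 1 ∧ α42 = 4)) ∧ q24 = 4) ∨ ((Hide (x24 = 4 * T.m 4 ∧ x42 = T.m 2) ∧ Hide (T.a 2 4 = 4 * T.w 2 ∧ T.a 4 2 = T.w 4) ∧ Hide (α24 = 4 ∧ α42 = 1)) ∧ q24 = 4) ∨ ((Hide (x24 = 2 * T.m 4 ∧ x42 = 2 * T.m 2) ∧ Hide (T.a 2 4 = 2 * T.w 2 ∧ T.a 4 2 = 2 * T.w 4) ∧ Hide (α24 = 2 ∧ α42 = 2)) ∧ q24 = 4)))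
    (c25 : Hide (((Hide (x25 = 0 ∧ x52 = 0) ∧ Hide (T.a 2 5 = 0 ∧ T.a 5 2 = 0) ∧ Hide (α25 = 0 ∧ α52 = 0)) ∧ q25 = 0) ∨ ((Hide (x25 = T.m 5 ∧ x52 = T.m 2) ∧ Hide (T.a 2 5 = T.w 2 ∧ T.a 5 2 = T.w 5) ∧ Hide (α25 = 1 ∧ α52 = 1)) ∧ q25 = 1) ∨ ((Hide (x25 = T.m 5 ∧ x52 = 2 * T.m 2) ∧ Hide (T.a 2 5 = T.w 2 ∧ T.a 5 2 = 2 * T.w 5) ∧ Hide (α25 = 1 ∧ α52 = 2)) ∧ q25 = 2) ∨ ((Hide (x25 = 2 * T.m 5 ∧ x52 = T.m 2) ∧ Hide (T.a 2 5 = 2 * T.w 2 ∧ T.a 5 2 = T.w 5) ∧ Hide (α25 = 2 ∧ α52 = 1)) ∧ q25 = 2) ∨ ((Hide (x25 = T.m 5 ∧ x52 = 3 * T.m 2) ∧ Hide (T.a 2 5 = T.w 2 ∧ T.a 5 2 = 3 * T.w 5) ∧ Hide (α25 = 1 ∧ α52 = 3)) ∧ q25 = 3) ∨ ((Hide (x25 = 3 * T.m 5 ∧ x52 = T.m 2) ∧ Hide (T.a 2 5 = 3 * T.w 2 ∧ T.a 5 2 = T.w 5) ∧ Hide (α25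 = 3 ∧ α52 = 1)) ∧ q25 = 3) ∨ ((Hide (x25 = T.m 5 ∧ x52 = 4 * T.m 2) ∧ Hide (T.a 2 5 = T.w 2 ∧ T.a 5 2 = 4 * T.w 5) ∧ Hide (α25 = 1 ∧ α52 = 4)) ∧ q25 = 4) ∨ ((Hide (x25 = 4 * T.m 5 ∧ x52 = T.m 2) ∧ Hide (T.a 2 5 = 4 * T.w 2 ∧ T.a 5 2 = T.w 5) ∧ Hide (α25 = 4 ∧ α52 = 1)) ∧ q25 = 4) ∨ ((Hide (x25 = 2 * T.m 5 ∧ x52 = 2 * T.m 2) ∧ Hide (T.a 2 5 = 2 * T.w 2 ∧ T.a 5 2 = 2 * T.w 5) ∧ Hide (α25 = 2 ∧ α52 = 2)) ∧ q25 = 4)))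
    (c34 : Hide (((Hide (x34 = 0 ∧ x43 = 0) ∧ Hide (T.a 3 4 = 0 ∧ T.a 4 3 = 0) ∧ Hide (α34 = 0 ∧ α43 = 0)) ∧ q34 = 0) ∨ ((Hide (x34 = T.m 4 ∧ x43 = T.m 3) ∧ Hide (T.a 3 4 = T.w 3 ∧ T.a 4 3 = T.w 4) ∧ Hide (α34 = 1 ∧ α43 = 1)) ∧ q34 = 1) ∨ ((Hide (x34 = T.m 4 ∧ x43 = 2 * T.m 3) ∧ Hide (T.a 3 4 = T.w 3 ∧ T.a 4 3 = 2 * T.w 4) ∧ Hide (α34 = 1 ∧ α43 = 2)) ∧ q34 = 2) ∨ ((Hide (x34 = 2 * T.m 4 ∧ x43 = T.m 3) ∧ Hide (T.a 3 4 = 2 * T.w 3 ∧ T.a 4 3 = T.w 4) ∧ Hide (α34 = 2 ∧ α43 = 1)) ∧ q34 = 2) ∨ ((Hide (x34 = T.m 4 ∧ x43 = 3 * T.m 3) ∧ Hide (T.a 3 4 = T.w 3 ∧ T.a 4 3 = 3 * T.w 4) ∧ Hide (α34 = 1 ∧ α43 = 3)) ∧ q34 = 3) ∨ ((Hide (x34 = 3 * T.m 4 ∧ x43 = T.m 3) ∧ Hide (T.a 3 4 = 3 * T.w 3 ∧ T.a 4 3 = T.w 4) ∧ Hide (α34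 = 3 ∧ α43 = 1)) ∧ q34 = 3) ∨ ((Hide (x34 = T.m 4 ∧ x43 = 4 * T.m 3) ∧ Hide (T.a 3 4 = T.w 3 ∧ T.a 4 3 = 4 * T.w 4) ∧ Hide (α34 = 1 ∧ α43 = 4)) ∧ q34 = 4) ∨ ((Hide (x34 = 4 * T.m 4 ∧ x43 = T.m 3) ∧ Hide (T.a 3 4 = 4 * T.w 3 ∧ T.a 4 3 = T.w 4) ∧ Hide (α34 = 4 ∧ α43 = 1)) ∧ q34 = 4) ∨ ((Hide (x34 = 2 * T.m 4 ∧ x43 = 2 * T.m 3) ∧ Hide (T.a 3 4 = 2 * T.w 3 ∧ T.a 4 3 = 2 * T.w 4) ∧ Hide (α34 = 2 ∧ α43 = 2)) ∧ q34 = 4)))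
    (c35 : Hide (((Hide (x35 = 0 ∧ x53 = 0) ∧ Hide (T.a 3 5 = 0 ∧ T.a 5 3 = 0) ∧ Hide (α35 = 0 ∧ α53 = 0)) ∧ q35 = 0) ∨ ((Hide (x35 = T.m 5 ∧ x53 = T.m 3) ∧ Hide (T.a 3 5 = T.w 3 ∧ T.a 5 3 = T.w 5) ∧ Hide (α35 = 1 ∧ α53 = 1)) ∧ q35 = 1) ∨ ((Hide (x35 = T.m 5 ∧ x53 = 2 * T.m 3) ∧ Hide (T.a 3 5 = T.w 3 ∧ T.a 5 3 = 2 * T.w 5) ∧ Hide (α35 = 1 ∧ α53 = 2)) ∧ q35 = 2) ∨ ((Hide (x35 = 2 * T.m 5 ∧ x53 = T.m 3) ∧ Hide (T.a 3 5 = 2 * T.w 3 ∧ T.a 5 3 = T.w 5) ∧ Hide (α35 = 2 ∧ α53 = 1)) ∧ q35 = 2) ∨ ((Hide (x35 = T.m 5 ∧ x53 = 3 * T.m 3) ∧ Hide (T.a 3 5 = T.w 3 ∧ T.a 5 3 = 3 * T.w 5) ∧ Hide (α35 = 1 ∧ α53 = 3)) ∧ q35 = 3) ∨ ((Hide (x35 = 3 * T.m 5 ∧ x53 = T.m 3) ∧ Hide (T.a 3 5 = 3 * T.w 3 ∧ T.a 5 3 = T.w 5) ∧ Hide (α35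 = 3 ∧ α53 = 1)) ∧ q35 = 3) ∨ ((Hide (x35 = T.m 5 ∧ x53 = 4 * T.m 3) ∧ Hide (T.a 3 5 = T.w 3 ∧ T.a 5 3 = 4 * T.w 5) ∧ Hide (α35 = 1 ∧ α53 = 4)) ∧ q35 = 4) ∨ ((Hide (x35 = 4 * T.m 5 ∧ x53 = T.m 3) ∧ Hide (T.a 3 5 = 4 * T.w 3 ∧ T.a 5 3 = T.w 5) ∧ Hide (α35 = 4 ∧ α53 = 1)) ∧ q35 = 4) ∨ ((Hide (x35 = 2 * T.m 5 ∧ x53 = 2 * T.m 3) ∧ Hide (T.a 3 5 = 2 * T.w 3 ∧ T.a 5 3 = 2 * T.w 5) ∧ Hide (α35 = 2 ∧ α53 = 2)) ∧ q35 = 4)))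
    (c45 : Hide (((Hide (x45 = 0 ∧ x54 = 0) ∧ Hide (T.a 4 5 = 0 ∧ T.a 5 4 = 0) ∧ Hide (α45 = 0 ∧ α54 = 0)) ∧ q45 = 0) ∨ ((Hide (x45 = T.m 5 ∧ x54 = T.m 4) ∧ Hide (T.a 4 5 = T.w 4 ∧ T.a 5 4 = T.w 5) ∧ Hide (α45 = 1 ∧ α54 = 1)) ∧ q45 = 1) ∨ ((Hide (x45 = T.m 5 ∧ x54 = 2 * T.m 4) ∧ Hide (T.a 4 5 = T.w 4 ∧ T.a 5 4 = 2 * T.w 5) ∧ Hide (α45 = 1 ∧ α54 = 2)) ∧ q45 = 2) ∨ ((Hide (x45 = 2 * T.m 5 ∧ x54 = T.m 4) ∧ Hide (T.a 4 5 = 2 * T.w 4 ∧ T.a 5 4 = T.w 5) ∧ Hide (α45 = 2 ∧ α54 = 1)) ∧ q45 = 2) ∨ ((Hide (x45 = T.m 5 ∧ x54 = 3 * T.m 4) ∧ Hide (T.a 4 5 = T.w 4 ∧ T.a 5 4 = 3 * T.w 5) ∧ Hide (α45 = 1 ∧ α54 = 3)) ∧ q45 = 3) ∨ ((Hide (x45 = 3 * T.m 5 ∧ x54 = T.m 4) ∧ Hide (T.a 4 5 = 3 * T.w 4 ∧ T.a 5 4 = T.w 5) ∧ Hide (α45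 = 3 ∧ α54 = 1)) ∧ q45 = 3) ∨ ((Hide (x45 = T.m 5 ∧ x54 = 4 * T.m 4) ∧ Hide (T.a 4 5 = T.w 4 ∧ T.a 5 4 = 4 * T.w 5) ∧ Hide (α45 = 1 ∧ α54 = 4)) ∧ q45 = 4) ∨ ((Hide (x45 = 4 * T.m 5 ∧ x54 = T.m 4) ∧ Hide (T.a 4 5 = 4 * T.w 4 ∧ T.a 5 4 = T.w 5) ∧ Hide (α45 = 4 ∧ α54 = 1)) ∧ q45 = 4) ∨ ((Hide (x45 = 2 * T.m 5 ∧ x54 = 2 * T.m 4) ∧ Hide (T.a 4 5 = 2 * T.w 4 ∧ T.a 5 4 = 2 * T.w 5) ∧ Hide (α45 = 2 ∧ α54 = 2)) ∧ q45 = 4)))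
    (gw01 : Hide (T.a 0 1 = T.w 0 ∧ T.a 1 0 = T.w 1))
    (gw02 : Hide (T.a 0 2 = 0 ∧ T.a 2 0 = 0))
    (gw03 : Hide (T.a 0 3 = 0 ∧ T.a 3 0 = 0))
    (gw04 : Hide (T.a 0 4 = 0 ∧ T.a 4 0 = 0))
    (gw05 : Hide (T.a 0 5 = 0 ∧ T.a 5 0 = 0))
    (gw12 : Hide (T.a 1 2 = 2 * T.w 1 ∧ T.a 2 1 = T.w 2)) : Goal T := by
  have t := pc1 q13 c13.out (by have := v1.out; have := qn14.out; have := qn15.out; omega)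
  clear c13
  rcases t with ⟨⟨⟨rfl, rfl⟩, gw13, ⟨rfl, rfl⟩⟩, rfl⟩ | ⟨⟨⟨rfl, rfl⟩, gw13, ⟨rfl, rfl⟩⟩, rfl⟩
  · have t := pc1 q14 c14.out (by have := v1.out; have := qn15.out; omega)
    clear c14
    rcases t with ⟨⟨⟨rfl, rfl⟩, gw14, ⟨rfl, rfl⟩⟩, rfl⟩ | ⟨⟨⟨rfl, rfl⟩, gw14, ⟨rfl, rfl⟩⟩, rfl⟩
    · have t := pc1 q15 c15.out (by have := v1.out; omega)
      clear c15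
      rcases t with ⟨⟨⟨rfl, rfl⟩, gw15, ⟨rfl, rfl⟩⟩, rfl⟩ | ⟨⟨⟨rfl, rfl⟩, gw15, ⟨rfl, rfl⟩⟩, rfl⟩
      · have t := pc2 q23 c23.out (by have := v2.out; have := qn24.out; have := qn25.out; omega)
        clear c23
        rcases t with ⟨⟨⟨rfl, rfl⟩, gw23, ⟨rfl, rfl⟩⟩, rfl⟩ | ⟨⟨⟨rfl, rfl⟩, gw23, ⟨rfl, rfl⟩⟩, rfl⟩ | ⟨⟨⟨rfl, rfl⟩, gw23, ⟨rfl, rfl⟩⟩, rfl⟩ | ⟨⟨⟨rfl, rfl⟩, gw23, ⟨rfl, rfl⟩⟩, rfl⟩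
        · (have := od3.out; omega)
        · have t := pc1 q24 c24.out (by have := v2.out; have := qn25.out; omega)
          clear c24
          rcases t with ⟨⟨⟨rfl, rfl⟩, gw24, ⟨rfl, rfl⟩⟩, rfl⟩ | ⟨⟨⟨rfl, rfl⟩, gw24, ⟨rfl, rfl⟩⟩, rfl⟩
          · have t := pc1 q25 c25.out (by have := v2.out; omega)
            clear c25
            rcases t with ⟨⟨⟨rfl, rfl⟩, gw25, ⟨rfl, rfl⟩⟩, rfl⟩ | ⟨⟨⟨rfl, rfl⟩, gw25, ⟨rfl, rfl⟩⟩, rfl⟩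
            · have t := pc3 q34 c34.out (by have := v3.out; have := qn35.out; omega)
              clear c34
              rcases t with ⟨⟨⟨rfl, rfl⟩, gw34, ⟨rfl, rfl⟩⟩, rfl⟩ | ⟨⟨⟨rfl, rfl⟩, gw34, ⟨rfl, rfl⟩⟩, rfl⟩ | ⟨⟨⟨rfl, rfl⟩, gw34, ⟨rfl, rfl⟩⟩, rfl⟩ | ⟨⟨⟨rfl, rfl⟩, gw34, ⟨rfl, rfl⟩⟩, rfl⟩ | ⟨⟨⟨rfl, rfl⟩, gw34, ⟨rfl, rfl⟩⟩, rfl⟩ | ⟨⟨⟨rfl, rfl⟩, gw34, ⟨rfl, rfl⟩⟩, rfl⟩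
              · (have := od4.out; omega)
              · (have := hm0.out; have := om4.out; have := e0.out; have := e1.out; have := e2.out; have := e3.out; have := r35.out; omega)
              · (have := hm0.out; have := e1.out; have := e2.out; have := e3.out; have := r35.out; have := e4.out; have := r45.out; omega)
              · (have := hm0.out; have := e1.out; have := e2.out; have := e3.out; have := r35.out; have := e4.out; have := r45.out; omega)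
              · (have := hm1.out; have := e2.out; have := e3.out; have := r35.out; have := e4.out; have := r45.out; omega)
              · (have := hm1.out; have := e2.out; have := e3.out; have := r35.out; have := e4.out; have := r45.out; omega)
            · (have := hm3.out; have := om5.out; have := e0.out; have := e1.out; have := e2.out; omega)
          · (have := hm3.out; have := om4.out; have := e0.out; have := e1.out; have := e2.out; have := r25.out; omega)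
        · (have := hm0.out; have := e1.out; have := e2.out; have := r24.out; have := r25.out; have := e3.out; have := r34.out; have := r35.out; omega)
        · (have := hm0.out; have := e1.out; have := e2.out; have := r24.out; have := r25.out; have := e3.out; have := r34.out; have := r35.out; omega)
      · have t := pc2 q23 c23.out (by have := v2.out; have := qn24.out; have := qn25.out; omega)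
        clear c23
        rcases t with ⟨⟨⟨rfl, rfl⟩, gw23, ⟨rfl, rfl⟩⟩, rfl⟩ | ⟨⟨⟨rfl, rfl⟩, gw23, ⟨rfl, rfl⟩⟩, rfl⟩ | ⟨⟨⟨rfl, rfl⟩, gw23, ⟨rfl, rfl⟩⟩, rfl⟩ | ⟨⟨⟨rfl, rfl⟩, gw23, ⟨rfl, rfl⟩⟩, rfl⟩
        · (have := od3.out; omega)
        · (have := hm3.out; have := e0.out; have := e1.out; have := e2.out; have := r24.out; have := r25.out; have := e5.out; have := r52.out; have := r53.out; have := r54.out; omega)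
        · (have := hm3.out; have := om5.out; have := e0.out; have := e1.out; have := e2.out; have := r24.out; have := r25.out; omega)
        · (have := hm3.out; have := om5.out; have := e0.out; have := e1.out; have := e2.out; have := r24.out; have := r25.out; omega)
    · have t := pc0 q15 c15.out (by have := v1.out; omega)
      clear c15
      obtain ⟨⟨⟨rfl, rfl⟩, gw15, ⟨rfl, rfl⟩⟩, rfl⟩ := t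
      have t := pc2 q23 c23.out (by have := v2.out; have := qn24.out; have := qn25.out; omega)
      clear c23
      rcases t with ⟨⟨⟨rfl, rfl⟩, gw23, ⟨rfl, rfl⟩⟩, rfl⟩ | ⟨⟨⟨rfl, rfl⟩, gw23, ⟨rfl, rfl⟩⟩, rfl⟩ | ⟨⟨⟨rfl, rfl⟩, gw23, ⟨rfl, rfl⟩⟩, rfl⟩ | ⟨⟨⟨rfl, rfl⟩, gw23, ⟨rfl, rfl⟩⟩, rfl⟩
      · (have := od3.out; omega)
      · (have := hm3.out; have := e0.out; have := e1.out; have := e2.out; have := r24.out; have := r25.out; have := e4.out; have := r42.out; have := r43.out; have := r45.out; omega)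
      · (have := hm3.out; have := om4.out; have := e0.out; have := e1.out; have := e2.out; have := r24.out; have := r25.out; omega)
      · (have := hm3.out; have := om4.out; have := e0.out; have := e1.out; have := e2.out; have := r24.out; have := r25.out; omega)
  · have t := pc0 q14 c14.out (by have := v1.out; have := qn15.out; omega)
    clear c14
    obtain ⟨⟨⟨rfl, rfl⟩, gw14, ⟨rfl, rfl⟩⟩, rfl⟩ := t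
    have t := pc0 q15 c15.out (by have := v1.out; omega)
    clear c15
    obtain ⟨⟨⟨rfl, rfl⟩, gw15, ⟨rfl, rfl⟩⟩, rfl⟩ := t
    have t := pc2 q23 c23.out (by have := v2.out; have := qn24.out; have := qn25.out; omega)
    clear c23
    rcases t with ⟨⟨⟨rfl, rfl⟩, gw23, ⟨rfl, rfl⟩⟩, rfl⟩ | ⟨⟨⟨rfl, rfl⟩, gw23, ⟨rfl, rfl⟩⟩, rfl⟩ | ⟨⟨⟨rfl, rfl⟩, gw23, ⟨rfl, rfl⟩⟩, rfl⟩ | ⟨⟨⟨rfl, rfl⟩, gw23, ⟨rfl, rfl⟩⟩, rfl⟩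
    · have t := pc2 q24 c24.out (by have := v2.out; have := qn25.out; omega)
      clear c24
      rcases t with ⟨⟨⟨rfl, rfl⟩, gw24, ⟨rfl, rfl⟩⟩, rfl⟩ | ⟨⟨⟨rfl, rfl⟩, gw24, ⟨rfl, rfl⟩⟩, rfl⟩ | ⟨⟨⟨rfl, rfl⟩, gw24, ⟨rfl, rfl⟩⟩, rfl⟩ | ⟨⟨⟨rfl, rfl⟩, gw24, ⟨rfl, rfl⟩⟩, rfl⟩
      · have t := pc2 q25 c25.out (by have := v2.out; omega)
        clear c25
        rcases t with ⟨⟨⟨rfl, rfl⟩, gw25, ⟨rfl, rfl⟩⟩, rfl⟩ | ⟨⟨⟨rfl, rfl⟩, gw25, ⟨rfl, rfl⟩⟩, rfl⟩ | ⟨⟨⟨rfl, rfl⟩, gw25, ⟨rfl, rfl⟩⟩, rfl⟩ | ⟨⟨⟨rfl, rfl⟩, gw25, ⟨rfl, rfl⟩⟩, rfl⟩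
        · have t := pc3 q34 c34.out (by have := v3.out; have := qn35.out; omega)
          clear c34
          rcases t with ⟨⟨⟨rfl, rfl⟩, gw34, ⟨rfl, rfl⟩⟩, rfl⟩ | ⟨⟨⟨rfl, rfl⟩, gw34, ⟨rfl, rfl⟩⟩, rfl⟩ | ⟨⟨⟨rfl, rfl⟩, gw34, ⟨rfl, rfl⟩⟩, rfl⟩ | ⟨⟨⟨rfl, rfl⟩, gw34, ⟨rfl, rfl⟩⟩, rfl⟩ | ⟨⟨⟨rfl, rfl⟩, gw34, ⟨rfl, rfl⟩⟩, rfl⟩ | ⟨⟨⟨rfl, rfl⟩, gw34, ⟨rfl, rfl⟩⟩, rfl⟩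
          · (have := od4.out; omega)
          · (have := hm4.out; have := e0.out; have := e1.out; have := e2.out; have := e3.out; have := r35.out; omega)
          · (have := hm0.out; have := e1.out; have := e2.out; have := e3.out; have := r35.out; have := e4.out; have := r45.out; omega)
          · (have := hm0.out; have := e1.out; have := e2.out; have := e3.out; have := r35.out; have := e4.out; have := r45.out; omega)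
          · (have := hm4.out; have := e0.out; have := e1.out; have := e2.out; have := e3.out; have := r35.out; omega)
          · (have := hm4.out; have := e0.out; have := e1.out; have := e2.out; have := e3.out; have := r35.out; omega)
        · (have := hm5.out; have := om3.out; have := e0.out; have := e1.out; have := e2.out; omega)
        · (have := hm5.out; have := om3.out; have := e0.out; have := e1.out; have := e2.out; omega)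
        · (have := hm0.out; have := om3.out; have := e1.out; have := e2.out; have := e5.out; have := r53.out; have := r54.out; omega)
      · (have := hm4.out; have := om3.out; have := e0.out; have := e1.out; have := e2.out; have := r25.out; omega)
      · (have := hm4.out; have := om3.out; have := e0.out; have := e1.out; have := e2.out; have := r25.out; omega)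
      · (have := hm0.out; have := om3.out; have := e1.out; have := e2.out; have := r25.out; have := e4.out; have := r43.out; have := r45.out; omega)
    · (have := hm2.out; have := om2.out; have := e0.out; have := e1.out; have := e3.out; have := r34.out; have := r35.out; omega)
    · (have := hm2.out; have := om2.out; have := e0.out; have := e1.out; have := e3.out; have := r34.out; have := r35.out; omega)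
    · (have := hm2.out; have := om2.out; have := e0.out; have := e1.out; have := e3.out; have := r34.out; have := r35.out; omega)

set_option maxHeartbeats 0 in
theorem part9 (T : Models.NumericalType 6) (α13 α14 α15 α23 α24 α25 α31 α32 α34 α35 α41 α42 α43 α45 α51 α52 α53 α54 x13 x14 x15 x23 x24 x25 x31 x32 x34 x35 x41 x42 x43 x45 x51 x52 x53 x54 q13 q14 q15 q23 q24 q25 q34 q35 q45 : ℤ)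
    (hm0 : Hide (0 < T.m 0))
    (hm1 : Hide (0 < T.m 1))
    (hm2 : Hide (0 < T.m 2))
    (hm3 : Hide (0 < T.m 3))
    (hm4 : Hide (0 < T.m 4))
    (hm5 : Hide (0 < T.m 5))
    (om1 : Hide (T.m 0 ≤ T.m 1))
    (om2 : Hide (T.m 0 ≤ T.m 2))
    (om3 : Hide (T.m 0 ≤ T.m 3))
    (om4 : Hide (T.m 0 ≤ T.m 4))
    (om5 : Hide (T.m 0 ≤ T.m 5))
    (e0 : Hide (T.m 1 + (0 : ℤ) + (0 : ℤ) + (0 : ℤ) + (0 : ℤ) = 2 * T.m 0))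
    (e1 : Hide (T.m 0 + T.m 2 + x13 + x14 + x15 = 2 * T.m 1))
    (e2 : Hide ((0 : ℤ) + 3 * T.m 1 + x23 + x24 + x25 = 2 * T.m 2))
    (e3 : Hide ((0 : ℤ) + x31 + x32 + x34 + x35 = 2 * T.m 3))
    (e4 : Hide ((0 : ℤ) + x41 + x42 + x43 + x45 = 2 * T.m 4))
    (e5 : Hide ((0 : ℤ) + x51 + x52 + x53 + x54 = 2 * T.m 5))
    (r01 : Hide (0 ≤ T.m 1))
    (r02 : Hide (0 ≤ (0 : ℤ)))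
    (r03 : Hide (0 ≤ (0 : ℤ)))
    (r04 : Hide (0 ≤ (0 : ℤ)))
    (r05 : Hide (0 ≤ (0 : ℤ)))
    (r10 : Hide (0 ≤ T.m 0))
    (r12 : Hide (0 ≤ T.m 2))
    (r13 : Hide (0 ≤ x13))
    (r14 : Hide (0 ≤ x14))
    (r15 : Hide (0 ≤ x15))
    (r20 : Hide (0 ≤ (0 : ℤ)))
    (r21 : Hide (0 ≤ 3 * T.m 1))
    (r23 : Hide (0 ≤ x23))
    (r24 : Hide (0 ≤ x24))
    (r25 : Hide (0 ≤ x25))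
    (r30 : Hide (0 ≤ (0 : ℤ)))
    (r31 : Hide (0 ≤ x31))
    (r32 : Hide (0 ≤ x32))
    (r34 : Hide (0 ≤ x34))
    (r35 : Hide (0 ≤ x35))
    (r40 : Hide (0 ≤ (0 : ℤ)))
    (r41 : Hide (0 ≤ x41))
    (r42 : Hide (0 ≤ x42))
    (r43 : Hide (0 ≤ x43))
    (r45 : Hide (0 ≤ x45))
    (r50 : Hide (0 ≤ (0 : ℤ)))
    (r51 : Hide (0 ≤ x51))
    (r52 : Hide (0 ≤ x52))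
    (r53 : Hide (0 ≤ x53))
    (r54 : Hide (0 ≤ x54))
    (hw0 : Hide (0 < T.w 0))
    (hw1 : Hide (0 < T.w 1))
    (hw2 : Hide (0 < T.w 2))
    (hw3 : Hide (0 < T.w 3))
    (hw4 : Hide (0 < T.w 4))
    (hw5 : Hide (0 < T.w 5))
    (hs01 : Hide (T.a 0 1 = T.a 1 0))
    (hs02 : Hide (T.a 0 2 = T.a 2 0))
    (hs03 : Hide (T.a 0 3 = T.a 3 0))
    (hs04 : Hide (T.a 0 4 = T.a 4 0))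
    (hs05 : Hide (T.a 0 5 = T.a 5 0))
    (hs12 : Hide (T.a 1 2 = T.a 2 1))
    (hs13 : Hide (T.a 1 3 = T.a 3 1))
    (hs14 : Hide (T.a 1 4 = T.a 4 1))
    (hs15 : Hide (T.a 1 5 = T.a 5 1))
    (hs23 : Hide (T.a 2 3 = T.a 3 2))
    (hs24 : Hide (T.a 2 4 = T.a 4 2))
    (hs25 : Hide (T.a 2 5 = T.a 5 2))
    (hs34 : Hide (T.a 3 4 = T.a 4 3))
    (hs35 : Hide (T.a 3 5 = T.a 5 3))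
    (hs45 : Hide (T.a 4 5 = T.a 5 4))
    (ha00 : Hide (T.a 0 0 = -2 * T.w 0))
    (ha11 : Hide (T.a 1 1 = -2 * T.w 1))
    (ha22 : Hide (T.a 2 2 = -2 * T.w 2))
    (ha33 : Hide (T.a 3 3 = -2 * T.w 3))
    (ha44 : Hide (T.a 4 4 = -2 * T.w 4))
    (ha55 : Hide (T.a 5 5 = -2 * T.w 5))
    (v0 : Hide ((1 : ℤ) + (0 : ℤ) + (0 : ℤ) + (0 : ℤ) + (0 : ℤ) ≤ 4))
    (v1 : Hide ((1 : ℤ) + (3 : ℤ) + q13 + q14 + q15 ≤ 4))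
    (v2 : Hide ((0 : ℤ) + (3 : ℤ) + q23 + q24 + q25 ≤ 4))
    (v3 : Hide ((0 : ℤ) + q13 + q23 + q34 + q35 ≤ 4))
    (v4 : Hide ((0 : ℤ) + q14 + q24 + q34 + q45 ≤ 4))
    (v5 : Hide ((0 : ℤ) + q15 + q25 + q35 + q45 ≤ 4))
    (qn01 : Hide (0 ≤ (1 : ℤ)))
    (qn02 : Hide (0 ≤ (0 : ℤ)))
    (qn03 : Hide (0 ≤ (0 : ℤ)))
    (qn04 : Hide (0 ≤ (0 : ℤ)))
    (qn05 : Hide (0 ≤ (0 : ℤ)))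
    (qn12 : Hide (0 ≤ (3 : ℤ)))
    (qn13 : Hide (0 ≤ q13))
    (qn14 : Hide (0 ≤ q14))
    (qn15 : Hide (0 ≤ q15))
    (qn23 : Hide (0 ≤ q23))
    (qn24 : Hide (0 ≤ q24))
    (qn25 : Hide (0 ≤ q25))
    (qn34 : Hide (0 ≤ q34))
    (qn35 : Hide (0 ≤ q35))
    (qn45 : Hide (0 ≤ q45))
    (od1 : Hide (0 < (1 : ℤ)))
    (od2 : Hide (0 < (0 : ℤ) + (1 : ℤ)))
    (od3 : Hide (0 < (0 : ℤ) + α13 + α23))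
    (od4 : Hide (0 < (0 : ℤ) + α14 + α24 + α34))
    (od5 : Hide (0 < (0 : ℤ) + α15 + α25 + α35 + α45))
    (c13 : Hide (((Hide (x13 = 0 ∧ x31 = 0) ∧ Hide (T.a 1 3 = 0 ∧ T.a 3 1 = 0) ∧ Hide (α13 = 0 ∧ α31 = 0)) ∧ q13 = 0) ∨ ((Hide (x13 = T.m 3 ∧ x31 = T.m 1) ∧ Hide (T.a 1 3 = T.w 1 ∧ T.a 3 1 = T.w 3) ∧ Hide (α13 = 1 ∧ α31 = 1)) ∧ q13 = 1) ∨ ((Hide (x13 = T.m 3 ∧ x31 = 2 * T.m 1) ∧ Hide (T.a 1 3 = T.w 1 ∧ T.a 3 1 = 2 * T.w 3) ∧ Hide (α13 = 1 ∧ α31 = 2)) ∧ q13 = 2) ∨ ((Hide (x13 = 2 * T.m 3 ∧ x31 = T.m 1) ∧ Hide (T.a 1 3 = 2 * T.w 1 ∧ T.a 3 1 = T.w 3) ∧ Hide (α13 = 2 ∧ α31 = 1)) ∧ q13 = 2) ∨ ((Hide (x13 = T.m 3 ∧ x31 = 3 * T.m 1) ∧ Hide (T.a 1 3 = T.w 1 ∧ T.a 3 1 = 3 * T.w 3) ∧ Hide (α13 = 1 ∧ α31 = 3)) ∧ q13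 = 3) ∨ ((Hide (x13 = 3 * T.m 3 ∧ x31 = T.m 1) ∧ Hide (T.a 1 3 = 3 * T.w 1 ∧ T.a 3 1 = T.w 3) ∧ Hide (α13 = 3 ∧ α31 = 1)) ∧ q13 = 3) ∨ ((Hide (x13 = T.m 3 ∧ x31 = 4 * T.m 1) ∧ Hide (T.a 1 3 = T.w 1 ∧ T.a 3 1 = 4 * T.w 3) ∧ Hide (α13 = 1 ∧ α31 = 4)) ∧ q13 = 4) ∨ ((Hide (x13 = 4 * T.m 3 ∧ x31 = T.m 1) ∧ Hide (T.a 1 3 = 4 * T.w 1 ∧ T.a 3 1 = T.w 3) ∧ Hide (α13 = 4 ∧ α31 = 1)) ∧ q13 = 4) ∨ ((Hide (x13 = 2 * T.m 3 ∧ x31 = 2 * T.m 1) ∧ Hide (T.a 1 3 = 2 * T.w 1 ∧ T.a 3 1 = 2 * T.w 3) ∧ Hide (α13 = 2 ∧ α31 = 2)) ∧ q13 = 4)))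
    (c14 : Hide (((Hide (x14 = 0 ∧ x41 = 0) ∧ Hide (T.a 1 4 = 0 ∧ T.a 4 1 = 0) ∧ Hide (α14 = 0 ∧ α41 = 0)) ∧ q14 = 0) ∨ ((Hide (x14 = T.m 4 ∧ x41 = T.m 1) ∧ Hide (T.a 1 4 = T.w 1 ∧ T.a 4 1 = T.w 4) ∧ Hide (α14 = 1 ∧ α41 = 1)) ∧ q14 = 1) ∨ ((Hide (x14 = T.m 4 ∧ x41 = 2 * T.m 1) ∧ Hide (T.a 1 4 = T.w 1 ∧ T.a 4 1 = 2 * T.w 4) ∧ Hide (α14 = 1 ∧ α41 = 2)) ∧ q14 = 2) ∨ ((Hide (x14 = 2 * T.m 4 ∧ x41 = T.m 1) ∧ Hide (T.a 1 4 = 2 * T.w 1 ∧ T.a 4 1 = T.w 4) ∧ Hide (α14 = 2 ∧ α41 = 1)) ∧ q14 = 2) ∨ ((Hide (x14 = T.m 4 ∧ x41 = 3 * T.m 1) ∧ Hide (T.a 1 4 = T.w 1 ∧ T.a 4 1 = 3 * T.w 4) ∧ Hide (α14 = 1 ∧ α41 = 3)) ∧ q14 = 3) ∨ ((Hide (x14 = 3 * T.m 4 ∧ x41 = T.m 1) ∧ Hide (T.a 1 4 = 3 * T.w 1 ∧ T.a 4 1 = T.w 4) ∧ Hide (α14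 = 3 ∧ α41 = 1)) ∧ q14 = 3) ∨ ((Hide (x14 = T.m 4 ∧ x41 = 4 * T.m 1) ∧ Hide (T.a 1 4 = T.w 1 ∧ T.a 4 1 = 4 * T.w 4) ∧ Hide (α14 = 1 ∧ α41 = 4)) ∧ q14 = 4) ∨ ((Hide (x14 = 4 * T.m 4 ∧ x41 = T.m 1) ∧ Hide (T.a 1 4 = 4 * T.w 1 ∧ T.a 4 1 = T.w 4) ∧ Hide (α14 = 4 ∧ α41 = 1)) ∧ q14 = 4) ∨ ((Hide (x14 = 2 * T.m 4 ∧ x41 = 2 * T.m 1) ∧ Hide (T.a 1 4 = 2 * T.w 1 ∧ T.a 4 1 = 2 * T.w 4) ∧ Hide (α14 = 2 ∧ α41 = 2)) ∧ q14 = 4)))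
    (c15 : Hide (((Hide (x15 = 0 ∧ x51 = 0) ∧ Hide (T.a 1 5 = 0 ∧ T.a 5 1 = 0) ∧ Hide (α15 = 0 ∧ α51 = 0)) ∧ q15 = 0) ∨ ((Hide (x15 = T.m 5 ∧ x51 = T.m 1) ∧ Hide (T.a 1 5 = T.w 1 ∧ T.a 5 1 = T.w 5) ∧ Hide (α15 = 1 ∧ α51 = 1)) ∧ q15 = 1) ∨ ((Hide (x15 = T.m 5 ∧ x51 = 2 * T.m 1) ∧ Hide (T.a 1 5 = T.w 1 ∧ T.a 5 1 = 2 * T.w 5) ∧ Hide (α15 = 1 ∧ α51 = 2)) ∧ q15 = 2) ∨ ((Hide (x15 = 2 * T.m 5 ∧ x51 = T.m 1) ∧ Hide (T.a 1 5 = 2 * T.w 1 ∧ T.a 5 1 = T.w 5) ∧ Hide (α15 = 2 ∧ α51 = 1)) ∧ q15 = 2) ∨ ((Hide (x15 = T.m 5 ∧ x51 = 3 * T.m 1) ∧ Hide (T.a 1 5 = T.w 1 ∧ T.a 5 1 = 3 * T.w 5) ∧ Hide (α15 = 1 ∧ α51 = 3)) ∧ q15 = 3) ∨ ((Hide (x15 = 3 * T.m 5 ∧ x51 = T.m 1) ∧ Hide (T.a 1 5 = 3 * T.w 1 ∧ T.a 5 1 = T.w 5) ∧ Hide (α15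 = 3 ∧ α51 = 1)) ∧ q15 = 3) ∨ ((Hide (x15 = T.m 5 ∧ x51 = 4 * T.m 1) ∧ Hide (T.a 1 5 = T.w 1 ∧ T.a 5 1 = 4 * T.w 5) ∧ Hide (α15 = 1 ∧ α51 = 4)) ∧ q15 = 4) ∨ ((Hide (x15 = 4 * T.m 5 ∧ x51 = T.m 1) ∧ Hide (T.a 1 5 = 4 * T.w 1 ∧ T.a 5 1 = T.w 5) ∧ Hide (α15 = 4 ∧ α51 = 1)) ∧ q15 = 4) ∨ ((Hide (x15 = 2 * T.m 5 ∧ x51 = 2 * T.m 1) ∧ Hide (T.a 1 5 = 2 * T.w 1 ∧ T.a 5 1 = 2 * T.w 5) ∧ Hide (α15 = 2 ∧ α51 = 2)) ∧ q15 = 4)))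
    (c23 : Hide (((Hide (x23 = 0 ∧ x32 = 0) ∧ Hide (T.a 2 3 = 0 ∧ T.a 3 2 = 0) ∧ Hide (α23 = 0 ∧ α32 = 0)) ∧ q23 = 0) ∨ ((Hide (x23 = T.m 3 ∧ x32 = T.m 2) ∧ Hide (T.a 2 3 = T.w 2 ∧ T.a 3 2 = T.w 3) ∧ Hide (α23 = 1 ∧ α32 = 1)) ∧ q23 = 1) ∨ ((Hide (x23 = T.m 3 ∧ x32 = 2 * T.m 2) ∧ Hide (T.a 2 3 = T.w 2 ∧ T.a 3 2 = 2 * T.w 3) ∧ Hide (α23 = 1 ∧ α32 = 2)) ∧ q23 = 2) ∨ ((Hide (x23 = 2 * T.m 3 ∧ x32 = T.m 2) ∧ Hide (T.a 2 3 = 2 * T.w 2 ∧ T.a 3 2 = T.w 3) ∧ Hide (α23 = 2 ∧ α32 = 1)) ∧ q23 = 2) ∨ ((Hide (x23 = T.m 3 ∧ x32 = 3 * T.m 2) ∧ Hide (T.a 2 3 = T.w 2 ∧ T.a 3 2 = 3 * T.w 3) ∧ Hide (α23 = 1 ∧ α32 = 3)) ∧ q23 = 3) ∨ ((Hide (x23 = 3 * T.m 3 ∧ x32 = T.m 2) ∧ Hide (T.a 2 3 = 3 * T.w 2 ∧ T.a 3 2 = T.w 3) ∧ Hide (α23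 = 3 ∧ α32 = 1)) ∧ q23 = 3) ∨ ((Hide (x23 = T.m 3 ∧ x32 = 4 * T.m 2) ∧ Hide (T.a 2 3 = T.w 2 ∧ T.a 3 2 = 4 * T.w 3) ∧ Hide (α23 = 1 ∧ α32 = 4)) ∧ q23 = 4) ∨ ((Hide (x23 = 4 * T.m 3 ∧ x32 = T.m 2) ∧ Hide (T.a 2 3 = 4 * T.w 2 ∧ T.a 3 2 = T.w 3) ∧ Hide (α23 = 4 ∧ α32 = 1)) ∧ q23 = 4) ∨ ((Hide (x23 = 2 * T.m 3 ∧ x32 = 2 * T.m 2) ∧ Hide (T.a 2 3 = 2 * T.w 2 ∧ T.a 3 2 = 2 * T.w 3) ∧ Hide (α23 = 2 ∧ α32 = 2)) ∧ q23 = 4)))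
    (c24 : Hide (((Hide (x24 = 0 ∧ x42 = 0) ∧ Hide (T.a 2 4 = 0 ∧ T.a 4 2 = 0) ∧ Hide (α24 = 0 ∧ α42 = 0)) ∧ q24 = 0) ∨ ((Hide (x24 = T.m 4 ∧ x42 = T.m 2) ∧ Hide (T.a 2 4 = T.w 2 ∧ T.a 4 2 = T.w 4) ∧ Hide (α24 = 1 ∧ α42 = 1)) ∧ q24 = 1) ∨ ((Hide (x24 = T.m 4 ∧ x42 = 2 * T.m 2) ∧ Hide (T.a 2 4 = T.w 2 ∧ T.a 4 2 = 2 * T.w 4) ∧ Hide (α24 = 1 ∧ α42 = 2)) ∧ q24 = 2) ∨ ((Hide (x24 = 2 * T.m 4 ∧ x42 = T.m 2) ∧ Hide (T.a 2 4 = 2 * T.w 2 ∧ T.a 4 2 = T.w 4) ∧ Hide (α24 = 2 ∧ α42 = 1)) ∧ q24 = 2) ∨ ((Hide (x24 = T.m 4 ∧ x42 = 3 * T.m 2) ∧ Hide (T.a 2 4 = T.w 2 ∧ T.a 4 2 = 3 * T.w 4) ∧ Hide (α24 = 1 ∧ α42 = 3)) ∧ q24 = 3) ∨ ((Hide (x24 = 3 * T.m 4 ∧ x42 = T.m 2) ∧ Hide (T.a 2 4 = 3 * T.w 2 ∧ T.a 4 2 = T.w 4) ∧ Hide (α24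 = 3 ∧ α42 = 1)) ∧ q24 = 3) ∨ ((Hide (x24 = T.m 4 ∧ x42 = 4 * T.m 2) ∧ Hide (T.a 2 4 = T.w 2 ∧ T.a 4 2 = 4 * T.w 4) ∧ Hide (α24 = 1 ∧ α42 = 4)) ∧ q24 = 4) ∨ ((Hide (x24 = 4 * T.m 4 ∧ x42 = T.m 2) ∧ Hide (T.a 2 4 = 4 * T.w 2 ∧ T.a 4 2 = T.w 4) ∧ Hide (α24 = 4 ∧ α42 = 1)) ∧ q24 = 4) ∨ ((Hide (x24 = 2 * T.m 4 ∧ x42 = 2 * T.m 2) ∧ Hide (T.a 2 4 = 2 * T.w 2 ∧ T.a 4 2 = 2 * T.w 4) ∧ Hide (α24 = 2 ∧ α42 = 2)) ∧ q24 = 4)))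
    (c25 : Hide (((Hide (x25 = 0 ∧ x52 = 0) ∧ Hide (T.a 2 5 = 0 ∧ T.a 5 2 = 0) ∧ Hide (α25 = 0 ∧ α52 = 0)) ∧ q25 = 0) ∨ ((Hide (x25 = T.m 5 ∧ x52 = T.m 2) ∧ Hide (T.a 2 5 = T.w 2 ∧ T.a 5 2 = T.w 5) ∧ Hide (α25 = 1 ∧ α52 = 1)) ∧ q25 = 1) ∨ ((Hide (x25 = T.m 5 ∧ x52 = 2 * T.m 2) ∧ Hide (T.a 2 5 = T.w 2 ∧ T.a 5 2 = 2 * T.w 5) ∧ Hide (α25 = 1 ∧ α52 = 2)) ∧ q25 = 2) ∨ ((Hide (x25 = 2 * T.m 5 ∧ x52 = T.m 2) ∧ Hide (T.a 2 5 = 2 * T.w 2 ∧ T.a 5 2 = T.w 5) ∧ Hide (α25 = 2 ∧ α52 = 1)) ∧ q25 = 2) ∨ ((Hide (x25 = T.m 5 ∧ x52 = 3 * T.m 2) ∧ Hide (T.a 2 5 = T.w 2 ∧ T.a 5 2 = 3 * T.w 5) ∧ Hide (α25 = 1 ∧ α52 = 3)) ∧ q25 = 3) ∨ ((Hide (x25 = 3 * T.m 5 ∧ x52 = T.m 2) ∧ Hide (T.a 2 5 = 3 * T.w 2 ∧ T.a 5 2 = T.w 5) ∧ Hide (α25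 = 3 ∧ α52 = 1)) ∧ q25 = 3) ∨ ((Hide (x25 = T.m 5 ∧ x52 = 4 * T.m 2) ∧ Hide (T.a 2 5 = T.w 2 ∧ T.a 5 2 = 4 * T.w 5) ∧ Hide (α25 = 1 ∧ α52 = 4)) ∧ q25 = 4) ∨ ((Hide (x25 = 4 * T.m 5 ∧ x52 = T.m 2) ∧ Hide (T.a 2 5 = 4 * T.w 2 ∧ T.a 5 2 = T.w 5) ∧ Hide (α25 = 4 ∧ α52 = 1)) ∧ q25 = 4) ∨ ((Hide (x25 = 2 * T.m 5 ∧ x52 = 2 * T.m 2) ∧ Hide (T.a 2 5 = 2 * T.w 2 ∧ T.a 5 2 = 2 * T.w 5) ∧ Hide (α25 = 2 ∧ α52 = 2)) ∧ q25 = 4)))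
    (c34 : Hide (((Hide (x34 = 0 ∧ x43 = 0) ∧ Hide (T.a 3 4 = 0 ∧ T.a 4 3 = 0) ∧ Hide (α34 = 0 ∧ α43 = 0)) ∧ q34 = 0) ∨ ((Hide (x34 = T.m 4 ∧ x43 = T.m 3) ∧ Hide (T.a 3 4 = T.w 3 ∧ T.a 4 3 = T.w 4) ∧ Hide (α34 = 1 ∧ α43 = 1)) ∧ q34 = 1) ∨ ((Hide (x34 = T.m 4 ∧ x43 = 2 * T.m 3) ∧ Hide (T.a 3 4 = T.w 3 ∧ T.a 4 3 = 2 * T.w 4) ∧ Hide (α34 = 1 ∧ α43 = 2)) ∧ q34 = 2) ∨ ((Hide (x34 = 2 * T.m 4 ∧ x43 = T.m 3) ∧ Hide (T.a 3 4 = 2 * T.w 3 ∧ T.a 4 3 = T.w 4) ∧ Hide (α34 = 2 ∧ α43 = 1)) ∧ q34 = 2) ∨ ((Hide (x34 = T.m 4 ∧ x43 = 3 * T.m 3) ∧ Hide (T.a 3 4 = T.w 3 ∧ T.a 4 3 = 3 * T.w 4) ∧ Hide (α34 = 1 ∧ α43 = 3)) ∧ q34 = 3) ∨ ((Hide (x34 = 3 * T.m 4 ∧ x43 = T.m 3) ∧ Hide (T.a 3 4 = 3 * T.w 3 ∧ T.a 4 3 = T.w 4) ∧ Hide (α34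 = 3 ∧ α43 = 1)) ∧ q34 = 3) ∨ ((Hide (x34 = T.m 4 ∧ x43 = 4 * T.m 3) ∧ Hide (T.a 3 4 = T.w 3 ∧ T.a 4 3 = 4 * T.w 4) ∧ Hide (α34 = 1 ∧ α43 = 4)) ∧ q34 = 4) ∨ ((Hide (x34 = 4 * T.m 4 ∧ x43 = T.m 3) ∧ Hide (T.a 3 4 = 4 * T.w 3 ∧ T.a 4 3 = T.w 4) ∧ Hide (α34 = 4 ∧ α43 = 1)) ∧ q34 = 4) ∨ ((Hide (x34 = 2 * T.m 4 ∧ x43 = 2 * T.m 3) ∧ Hide (T.a 3 4 = 2 * T.w 3 ∧ T.a 4 3 = 2 * T.w 4) ∧ Hide (α34 = 2 ∧ α43 = 2)) ∧ q34 = 4)))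
    (c35 : Hide (((Hide (x35 = 0 ∧ x53 = 0) ∧ Hide (T.a 3 5 = 0 ∧ T.a 5 3 = 0) ∧ Hide (α35 = 0 ∧ α53 = 0)) ∧ q35 = 0) ∨ ((Hide (x35 = T.m 5 ∧ x53 = T.m 3) ∧ Hide (T.a 3 5 = T.w 3 ∧ T.a 5 3 = T.w 5) ∧ Hide (α35 = 1 ∧ α53 = 1)) ∧ q35 = 1) ∨ ((Hide (x35 = T.m 5 ∧ x53 = 2 * T.m 3) ∧ Hide (T.a 3 5 = T.w 3 ∧ T.a 5 3 = 2 * T.w 5) ∧ Hide (α35 = 1 ∧ α53 = 2)) ∧ q35 = 2) ∨ ((Hide (x35 = 2 * T.m 5 ∧ x53 = T.m 3) ∧ Hide (T.a 3 5 = 2 * T.w 3 ∧ T.a 5 3 = T.w 5) ∧ Hide (α35 = 2 ∧ α53 = 1)) ∧ q35 = 2) ∨ ((Hide (x35 = T.m 5 ∧ x53 = 3 * T.m 3) ∧ Hide (T.a 3 5 = T.w 3 ∧ T.a 5 3 = 3 * T.w 5) ∧ Hide (α35 = 1 ∧ α53 = 3)) ∧ q35 = 3) ∨ ((Hide (x35 = 3 * T.m 5 ∧ x53 = T.m 3) ∧ Hide (T.a 3 5 = 3 * T.w 3 ∧ T.a 5 3 = T.w 5) ∧ Hide (α35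 = 3 ∧ α53 = 1)) ∧ q35 = 3) ∨ ((Hide (x35 = T.m 5 ∧ x53 = 4 * T.m 3) ∧ Hide (T.a 3 5 = T.w 3 ∧ T.a 5 3 = 4 * T.w 5) ∧ Hide (α35 = 1 ∧ α53 = 4)) ∧ q35 = 4) ∨ ((Hide (x35 = 4 * T.m 5 ∧ x53 = T.m 3) ∧ Hide (T.a 3 5 = 4 * T.w 3 ∧ T.a 5 3 = T.w 5) ∧ Hide (α35 = 4 ∧ α53 = 1)) ∧ q35 = 4) ∨ ((Hide (x35 = 2 * T.m 5 ∧ x53 = 2 * T.m 3) ∧ Hide (T.a 3 5 = 2 * T.w 3 ∧ T.a 5 3 = 2 * T.w 5) ∧ Hide (α35 = 2 ∧ α53 = 2)) ∧ q35 = 4)))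
    (c45 : Hide (((Hide (x45 = 0 ∧ x54 = 0) ∧ Hide (T.a 4 5 = 0 ∧ T.a 5 4 = 0) ∧ Hide (α45 = 0 ∧ α54 = 0)) ∧ q45 = 0) ∨ ((Hide (x45 = T.m 5 ∧ x54 = T.m 4) ∧ Hide (T.a 4 5 = T.w 4 ∧ T.a 5 4 = T.w 5) ∧ Hide (α45 = 1 ∧ α54 = 1)) ∧ q45 = 1) ∨ ((Hide (x45 = T.m 5 ∧ x54 = 2 * T.m 4) ∧ Hide (T.a 4 5 = T.w 4 ∧ T.a 5 4 = 2 * T.w 5) ∧ Hide (α45 = 1 ∧ α54 = 2)) ∧ q45 = 2) ∨ ((Hide (x45 = 2 * T.m 5 ∧ x54 = T.m 4) ∧ Hide (T.a 4 5 = 2 * T.w 4 ∧ T.a 5 4 = T.w 5) ∧ Hide (α45 = 2 ∧ α54 = 1)) ∧ q45 = 2) ∨ ((Hide (x45 = T.m 5 ∧ x54 = 3 * T.m 4) ∧ Hide (T.a 4 5 = T.w 4 ∧ T.a 5 4 = 3 * T.w 5) ∧ Hide (α45 = 1 ∧ α54 = 3)) ∧ q45 = 3) ∨ ((Hide (x45 = 3 * T.m 5 ∧ x54 = T.m 4) ∧ Hide (T.a 4 5 = 3 * T.w 4 ∧ T.a 5 4 = T.w 5) ∧ Hide (α45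 = 3 ∧ α54 = 1)) ∧ q45 = 3) ∨ ((Hide (x45 = T.m 5 ∧ x54 = 4 * T.m 4) ∧ Hide (T.a 4 5 = T.w 4 ∧ T.a 5 4 = 4 * T.w 5) ∧ Hide (α45 = 1 ∧ α54 = 4)) ∧ q45 = 4) ∨ ((Hide (x45 = 4 * T.m 5 ∧ x54 = T.m 4) ∧ Hide (T.a 4 5 = 4 * T.w 4 ∧ T.a 5 4 = T.w 5) ∧ Hide (α45 = 4 ∧ α54 = 1)) ∧ q45 = 4) ∨ ((Hide (x45 = 2 * T.m 5 ∧ x54 = 2 * T.m 4) ∧ Hide (T.a 4 5 = 2 * T.w 4 ∧ T.a 5 4 = 2 * T.w 5) ∧ Hide (α45 = 2 ∧ α54 = 2)) ∧ q45 = 4)))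
    (gw01 : Hide (T.a 0 1 = T.w 0 ∧ T.a 1 0 = T.w 1))
    (gw02 : Hide (T.a 0 2 = 0 ∧ T.a 2 0 = 0))
    (gw03 : Hide (T.a 0 3 = 0 ∧ T.a 3 0 = 0))
    (gw04 : Hide (T.a 0 4 = 0 ∧ T.a 4 0 = 0))
    (gw05 : Hide (T.a 0 5 = 0 ∧ T.a 5 0 = 0))
    (gw12 : Hide (T.a 1 2 = T.w 1 ∧ T.a 2 1 = 3 * T.w 2)) : Goal T := by
  have t := pc0 q13 c13.out (by have := v1.out; have := qn14.out; have := qn15.out; omega)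
  clear c13
  obtain ⟨⟨⟨rfl, rfl⟩, gw13, ⟨rfl, rfl⟩⟩, rfl⟩ := t
  have t := pc0 q14 c14.out (by have := v1.out; have := qn15.out; omega)
  clear c14
  obtain ⟨⟨⟨rfl, rfl⟩, gw14, ⟨rfl, rfl⟩⟩, rfl⟩ := t
  have t := pc0 q15 c15.out (by have := v1.out; omega)
  clear c15
  obtain ⟨⟨⟨rfl, rfl⟩, gw15, ⟨rfl, rfl⟩⟩, rfl⟩ := t
  have t := pc1 q23 c23.out (by have := v2.out; have := qn24.out; have := qn25.out; omega)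
  clear c23
  rcases t with ⟨⟨⟨rfl, rfl⟩, gw23, ⟨rfl, rfl⟩⟩, rfl⟩ | ⟨⟨⟨rfl, rfl⟩, gw23, ⟨rfl, rfl⟩⟩, rfl⟩
  · (have := od3.out; omega)
  · (have := hm3.out; have := e0.out; have := e1.out; have := e2.out; have := r24.out; have := r25.out; omega)

set_option maxHeartbeats 0 in
theorem part10 (T : Models.NumericalType 6) (α13 α14 α15 α23 α24 α25 α31 α32 α34 α35 α41 α42 α43 α45 α51 α52 α53 α54 x13 x14 x15 x23 x24 x25 x31 x32 x34 x35 x41 x42 x43 x45 x51 x52 x53 x54 q13 q14 q15 q23 q24 q25 q34 q35 q45 : ℤ)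
    (hm0 : Hide (0 < T.m 0))
    (hm1 : Hide (0 < T.m 1))
    (hm2 : Hide (0 < T.m 2))
    (hm3 : Hide (0 < T.m 3))
    (hm4 : Hide (0 < T.m 4))
    (hm5 : Hide (0 < T.m 5))
    (om1 : Hide (T.m 0 ≤ T.m 1))
    (om2 : Hide (T.m 0 ≤ T.m 2))
    (om3 : Hide (T.m 0 ≤ T.m 3))
    (om4 : Hide (T.m 0 ≤ T.m 4))
    (om5 : Hide (T.m 0 ≤ T.m 5))
    (e0 : Hide (T.m 1 + (0 : ℤ) + (0 : ℤ) + (0 : ℤ) + (0 : ℤ) = 2 * T.m 0))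
    (e1 : Hide (T.m 0 + 3 * T.m 2 + x13 + x14 + x15 = 2 * T.m 1))
    (e2 : Hide ((0 : ℤ) + T.m 1 + x23 + x24 + x25 = 2 * T.m 2))
    (e3 : Hide ((0 : ℤ) + x31 + x32 + x34 + x35 = 2 * T.m 3))
    (e4 : Hide ((0 : ℤ) + x41 + x42 + x43 + x45 = 2 * T.m 4))
    (e5 : Hide ((0 : ℤ) + x51 + x52 + x53 + x54 = 2 * T.m 5))
    (r01 : Hide (0 ≤ T.m 1))
    (r02 : Hide (0 ≤ (0 : ℤ)))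
    (r03 : Hide (0 ≤ (0 : ℤ)))
    (r04 : Hide (0 ≤ (0 : ℤ)))
    (r05 : Hide (0 ≤ (0 : ℤ)))
    (r10 : Hide (0 ≤ T.m 0))
    (r12 : Hide (0 ≤ 3 * T.m 2))
    (r13 : Hide (0 ≤ x13))
    (r14 : Hide (0 ≤ x14))
    (r15 : Hide (0 ≤ x15))
    (r20 : Hide (0 ≤ (0 : ℤ)))
    (r21 : Hide (0 ≤ T.m 1))
    (r23 : Hide (0 ≤ x23))
    (r24 : Hide (0 ≤ x24))
    (r25 : Hide (0 ≤ x25))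
    (r30 : Hide (0 ≤ (0 : ℤ)))
    (r31 : Hide (0 ≤ x31))
    (r32 : Hide (0 ≤ x32))
    (r34 : Hide (0 ≤ x34))
    (r35 : Hide (0 ≤ x35))
    (r40 : Hide (0 ≤ (0 : ℤ)))
    (r41 : Hide (0 ≤ x41))
    (r42 : Hide (0 ≤ x42))
    (r43 : Hide (0 ≤ x43))
    (r45 : Hide (0 ≤ x45))
    (r50 : Hide (0 ≤ (0 : ℤ)))
    (r51 : Hide (0 ≤ x51))
    (r52 : Hide (0 ≤ x52))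
    (r53 : Hide (0 ≤ x53))
    (r54 : Hide (0 ≤ x54))
    (hw0 : Hide (0 < T.w 0))
    (hw1 : Hide (0 < T.w 1))
    (hw2 : Hide (0 < T.w 2))
    (hw3 : Hide (0 < T.w 3))
    (hw4 : Hide (0 < T.w 4))
    (hw5 : Hide (0 < T.w 5))
    (hs01 : Hide (T.a 0 1 = T.a 1 0))
    (hs02 : Hide (T.a 0 2 = T.a 2 0))
    (hs03 : Hide (T.a 0 3 = T.a 3 0))
    (hs04 : Hide (T.a 0 4 = T.a 4 0))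
    (hs05 : Hide (T.a 0 5 = T.a 5 0))
    (hs12 : Hide (T.a 1 2 = T.a 2 1))
    (hs13 : Hide (T.a 1 3 = T.a 3 1))
    (hs14 : Hide (T.a 1 4 = T.a 4 1))
    (hs15 : Hide (T.a 1 5 = T.a 5 1))
    (hs23 : Hide (T.a 2 3 = T.a 3 2))
    (hs24 : Hide (T.a 2 4 = T.a 4 2))
    (hs25 : Hide (T.a 2 5 = T.a 5 2))
    (hs34 : Hide (T.a 3 4 = T.a 4 3))
    (hs35 : Hide (T.a 3 5 = T.a 5 3))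
    (hs45 : Hide (T.a 4 5 = T.a 5 4))
    (ha00 : Hide (T.a 0 0 = -2 * T.w 0))
    (ha11 : Hide (T.a 1 1 = -2 * T.w 1))
    (ha22 : Hide (T.a 2 2 = -2 * T.w 2))
    (ha33 : Hide (T.a 3 3 = -2 * T.w 3))
    (ha44 : Hide (T.a 4 4 = -2 * T.w 4))
    (ha55 : Hide (T.a 5 5 = -2 * T.w 5))
    (v0 : Hide ((1 : ℤ) + (0 : ℤ) + (0 : ℤ) + (0 : ℤ) + (0 : ℤ) ≤ 4))
    (v1 : Hide ((1 : ℤ) + (3 : ℤ) + q13 + q14 + q15 ≤ 4))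
    (v2 : Hide ((0 : ℤ) + (3 : ℤ) + q23 + q24 + q25 ≤ 4))
    (v3 : Hide ((0 : ℤ) + q13 + q23 + q34 + q35 ≤ 4))
    (v4 : Hide ((0 : ℤ) + q14 + q24 + q34 + q45 ≤ 4))
    (v5 : Hide ((0 : ℤ) + q15 + q25 + q35 + q45 ≤ 4))
    (qn01 : Hide (0 ≤ (1 : ℤ)))
    (qn02 : Hide (0 ≤ (0 : ℤ)))
    (qn03 : Hide (0 ≤ (0 : ℤ)))
    (qn04 : Hide (0 ≤ (0 : ℤ)))
    (qn05 : Hide (0 ≤ (0 : ℤ)))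
    (qn12 : Hide (0 ≤ (3 : ℤ)))
    (qn13 : Hide (0 ≤ q13))
    (qn14 : Hide (0 ≤ q14))
    (qn15 : Hide (0 ≤ q15))
    (qn23 : Hide (0 ≤ q23))
    (qn24 : Hide (0 ≤ q24))
    (qn25 : Hide (0 ≤ q25))
    (qn34 : Hide (0 ≤ q34))
    (qn35 : Hide (0 ≤ q35))
    (qn45 : Hide (0 ≤ q45))
    (od1 : Hide (0 < (1 : ℤ)))
    (od2 : Hide (0 < (0 : ℤ) + (3 : ℤ)))
    (od3 : Hide (0 < (0 : ℤ) + α13 + α23))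
    (od4 : Hide (0 < (0 : ℤ) + α14 + α24 + α34))
    (od5 : Hide (0 < (0 : ℤ) + α15 + α25 + α35 + α45))
    (c13 : Hide (((Hide (x13 = 0 ∧ x31 = 0) ∧ Hide (T.a 1 3 = 0 ∧ T.a 3 1 = 0) ∧ Hide (α13 = 0 ∧ α31 = 0)) ∧ q13 = 0) ∨ ((Hide (x13 = T.m 3 ∧ x31 = T.m 1) ∧ Hide (T.a 1 3 = T.w 1 ∧ T.a 3 1 = T.w 3) ∧ Hide (α13 = 1 ∧ α31 = 1)) ∧ q13 = 1) ∨ ((Hide (x13 = T.m 3 ∧ x31 = 2 * T.m 1) ∧ Hide (T.a 1 3 = T.w 1 ∧ T.a 3 1 = 2 * T.w 3) ∧ Hide (α13 = 1 ∧ α31 = 2)) ∧ q13 = 2) ∨ ((Hide (x13 = 2 * T.m 3 ∧ x31 = T.m 1) ∧ Hide (T.a 1 3 = 2 * T.w 1 ∧ T.a 3 1 = T.w 3) ∧ Hide (α13 = 2 ∧ α31 = 1)) ∧ q13 = 2) ∨ ((Hide (x13 = T.m 3 ∧ x31 = 3 * T.m 1) ∧ Hide (T.a 1 3 = T.w 1 ∧ T.a 3 1 = 3 * T.w 3) ∧ Hide (α13 = 1 ∧ α31 = 3)) ∧ q13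 = 3) ∨ ((Hide (x13 = 3 * T.m 3 ∧ x31 = T.m 1) ∧ Hide (T.a 1 3 = 3 * T.w 1 ∧ T.a 3 1 = T.w 3) ∧ Hide (α13 = 3 ∧ α31 = 1)) ∧ q13 = 3) ∨ ((Hide (x13 = T.m 3 ∧ x31 = 4 * T.m 1) ∧ Hide (T.a 1 3 = T.w 1 ∧ T.a 3 1 = 4 * T.w 3) ∧ Hide (α13 = 1 ∧ α31 = 4)) ∧ q13 = 4) ∨ ((Hide (x13 = 4 * T.m 3 ∧ x31 = T.m 1) ∧ Hide (T.a 1 3 = 4 * T.w 1 ∧ T.a 3 1 = T.w 3) ∧ Hide (α13 = 4 ∧ α31 = 1)) ∧ q13 = 4) ∨ ((Hide (x13 = 2 * T.m 3 ∧ x31 = 2 * T.m 1) ∧ Hide (T.a 1 3 = 2 * T.w 1 ∧ T.a 3 1 = 2 * T.w 3) ∧ Hide (α13 = 2 ∧ α31 = 2)) ∧ q13 = 4)))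
    (c14 : Hide (((Hide (x14 = 0 ∧ x41 = 0) ∧ Hide (T.a 1 4 = 0 ∧ T.a 4 1 = 0) ∧ Hide (α14 = 0 ∧ α41 = 0)) ∧ q14 = 0) ∨ ((Hide (x14 = T.m 4 ∧ x41 = T.m 1) ∧ Hide (T.a 1 4 = T.w 1 ∧ T.a 4 1 = T.w 4) ∧ Hide (α14 = 1 ∧ α41 = 1)) ∧ q14 = 1) ∨ ((Hide (x14 = T.m 4 ∧ x41 = 2 * T.m 1) ∧ Hide (T.a 1 4 = T.w 1 ∧ T.a 4 1 = 2 * T.w 4) ∧ Hide (α14 = 1 ∧ α41 = 2)) ∧ q14 = 2) ∨ ((Hide (x14 = 2 * T.m 4 ∧ x41 = T.m 1) ∧ Hide (T.a 1 4 = 2 * T.w 1 ∧ T.a 4 1 = T.w 4) ∧ Hide (α14 = 2 ∧ α41 = 1)) ∧ q14 = 2) ∨ ((Hide (x14 = T.m 4 ∧ x41 = 3 * T.m 1) ∧ Hide (T.a 1 4 = T.w 1 ∧ T.a 4 1 = 3 * T.w 4) ∧ Hide (α14 = 1 ∧ α41 = 3)) ∧ q14 = 3) ∨ ((Hide (x14 = 3 * T.m 4 ∧ x41 = T.m 1) ∧ Hide (T.a 1 4 = 3 * T.w 1 ∧ T.a 4 1 = T.w 4) ∧ Hide (α14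 = 3 ∧ α41 = 1)) ∧ q14 = 3) ∨ ((Hide (x14 = T.m 4 ∧ x41 = 4 * T.m 1) ∧ Hide (T.a 1 4 = T.w 1 ∧ T.a 4 1 = 4 * T.w 4) ∧ Hide (α14 = 1 ∧ α41 = 4)) ∧ q14 = 4) ∨ ((Hide (x14 = 4 * T.m 4 ∧ x41 = T.m 1) ∧ Hide (T.a 1 4 = 4 * T.w 1 ∧ T.a 4 1 = T.w 4) ∧ Hide (α14 = 4 ∧ α41 = 1)) ∧ q14 = 4) ∨ ((Hide (x14 = 2 * T.m 4 ∧ x41 = 2 * T.m 1) ∧ Hide (T.a 1 4 = 2 * T.w 1 ∧ T.a 4 1 = 2 * T.w 4) ∧ Hide (α14 = 2 ∧ α41 = 2)) ∧ q14 = 4)))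
    (c15 : Hide (((Hide (x15 = 0 ∧ x51 = 0) ∧ Hide (T.a 1 5 = 0 ∧ T.a 5 1 = 0) ∧ Hide (α15 = 0 ∧ α51 = 0)) ∧ q15 = 0) ∨ ((Hide (x15 = T.m 5 ∧ x51 = T.m 1) ∧ Hide (T.a 1 5 = T.w 1 ∧ T.a 5 1 = T.w 5) ∧ Hide (α15 = 1 ∧ α51 = 1)) ∧ q15 = 1) ∨ ((Hide (x15 = T.m 5 ∧ x51 = 2 * T.m 1) ∧ Hide (T.a 1 5 = T.w 1 ∧ T.a 5 1 = 2 * T.w 5) ∧ Hide (α15 = 1 ∧ α51 = 2)) ∧ q15 = 2) ∨ ((Hide (x15 = 2 * T.m 5 ∧ x51 = T.m 1) ∧ Hide (T.a 1 5 = 2 * T.w 1 ∧ T.a 5 1 = T.w 5) ∧ Hide (α15 = 2 ∧ α51 = 1)) ∧ q15 = 2) ∨ ((Hide (x15 = T.m 5 ∧ x51 = 3 * T.m 1) ∧ Hide (T.a 1 5 = T.w 1 ∧ T.a 5 1 = 3 * T.w 5) ∧ Hide (α15 = 1 ∧ α51 = 3)) ∧ q15 = 3) ∨ ((Hide (x15 = 3 * T.m 5 ∧ x51 = T.m 1) ∧ Hide (T.a 1 5 = 3 * T.w 1 ∧ T.a 5 1 = T.w 5) ∧ Hide (α15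 = 3 ∧ α51 = 1)) ∧ q15 = 3) ∨ ((Hide (x15 = T.m 5 ∧ x51 = 4 * T.m 1) ∧ Hide (T.a 1 5 = T.w 1 ∧ T.a 5 1 = 4 * T.w 5) ∧ Hide (α15 = 1 ∧ α51 = 4)) ∧ q15 = 4) ∨ ((Hide (x15 = 4 * T.m 5 ∧ x51 = T.m 1) ∧ Hide (T.a 1 5 = 4 * T.w 1 ∧ T.a 5 1 = T.w 5) ∧ Hide (α15 = 4 ∧ α51 = 1)) ∧ q15 = 4) ∨ ((Hide (x15 = 2 * T.m 5 ∧ x51 = 2 * T.m 1) ∧ Hide (T.a 1 5 = 2 * T.w 1 ∧ T.a 5 1 = 2 * T.w 5) ∧ Hide (α15 = 2 ∧ α51 = 2)) ∧ q15 = 4)))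
    (c23 : Hide (((Hide (x23 = 0 ∧ x32 = 0) ∧ Hide (T.a 2 3 = 0 ∧ T.a 3 2 = 0) ∧ Hide (α23 = 0 ∧ α32 = 0)) ∧ q23 = 0) ∨ ((Hide (x23 = T.m 3 ∧ x32 = T.m 2) ∧ Hide (T.a 2 3 = T.w 2 ∧ T.a 3 2 = T.w 3) ∧ Hide (α23 = 1 ∧ α32 = 1)) ∧ q23 = 1) ∨ ((Hide (x23 = T.m 3 ∧ x32 = 2 * T.m 2) ∧ Hide (T.a 2 3 = T.w 2 ∧ T.a 3 2 = 2 * T.w 3) ∧ Hide (α23 = 1 ∧ α32 = 2)) ∧ q23 = 2) ∨ ((Hide (x23 = 2 * T.m 3 ∧ x32 = T.m 2) ∧ Hide (T.a 2 3 = 2 * T.w 2 ∧ T.a 3 2 = T.w 3) ∧ Hide (α23 = 2 ∧ α32 = 1)) ∧ q23 = 2) ∨ ((Hide (x23 = T.m 3 ∧ x32 = 3 * T.m 2) ∧ Hide (T.a 2 3 = T.w 2 ∧ T.a 3 2 = 3 * T.w 3) ∧ Hide (α23 = 1 ∧ α32 = 3)) ∧ q23 = 3) ∨ ((Hide (x23 = 3 * T.m 3 ∧ x32 = T.m 2) ∧ Hide (T.a 2 3 = 3 * T.w 2 ∧ T.a 3 2 = T.w 3) ∧ Hide (α23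 = 3 ∧ α32 = 1)) ∧ q23 = 3) ∨ ((Hide (x23 = T.m 3 ∧ x32 = 4 * T.m 2) ∧ Hide (T.a 2 3 = T.w 2 ∧ T.a 3 2 = 4 * T.w 3) ∧ Hide (α23 = 1 ∧ α32 = 4)) ∧ q23 = 4) ∨ ((Hide (x23 = 4 * T.m 3 ∧ x32 = T.m 2) ∧ Hide (T.a 2 3 = 4 * T.w 2 ∧ T.a 3 2 = T.w 3) ∧ Hide (α23 = 4 ∧ α32 = 1)) ∧ q23 = 4) ∨ ((Hide (x23 = 2 * T.m 3 ∧ x32 = 2 * T.m 2) ∧ Hide (T.a 2 3 = 2 * T.w 2 ∧ T.a 3 2 = 2 * T.w 3) ∧ Hide (α23 = 2 ∧ α32 = 2)) ∧ q23 = 4)))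
    (c24 : Hide (((Hide (x24 = 0 ∧ x42 = 0) ∧ Hide (T.a 2 4 = 0 ∧ T.a 4 2 = 0) ∧ Hide (α24 = 0 ∧ α42 = 0)) ∧ q24 = 0) ∨ ((Hide (x24 = T.m 4 ∧ x42 = T.m 2) ∧ Hide (T.a 2 4 = T.w 2 ∧ T.a 4 2 = T.w 4) ∧ Hide (α24 = 1 ∧ α42 = 1)) ∧ q24 = 1) ∨ ((Hide (x24 = T.m 4 ∧ x42 = 2 * T.m 2) ∧ Hide (T.a 2 4 = T.w 2 ∧ T.a 4 2 = 2 * T.w 4) ∧ Hide (α24 = 1 ∧ α42 = 2)) ∧ q24 = 2) ∨ ((Hide (x24 = 2 * T.m 4 ∧ x42 = T.m 2) ∧ Hide (T.a 2 4 = 2 * T.w 2 ∧ T.a 4 2 = T.w 4) ∧ Hide (α24 = 2 ∧ α42 = 1)) ∧ q24 = 2) ∨ ((Hide (x24 = T.m 4 ∧ x42 = 3 * T.m 2) ∧ Hide (T.a 2 4 = T.w 2 ∧ T.a 4 2 = 3 * T.w 4) ∧ Hide (α24 = 1 ∧ α42 = 3)) ∧ q24 = 3) ∨ ((Hide (x24 = 3 * T.m 4 ∧ x42 = T.m 2) ∧ Hide (T.a 2 4 = 3 * T.w 2 ∧ T.a 4 2 = T.w 4) ∧ Hide (α24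 = 3 ∧ α42 = 1)) ∧ q24 = 3) ∨ ((Hide (x24 = T.m 4 ∧ x42 = 4 * T.m 2) ∧ Hide (T.a 2 4 = T.w 2 ∧ T.a 4 2 = 4 * T.w 4) ∧ Hide (α24 = 1 ∧ α42 = 4)) ∧ q24 = 4) ∨ ((Hide (x24 = 4 * T.m 4 ∧ x42 = T.m 2) ∧ Hide (T.a 2 4 = 4 * T.w 2 ∧ T.a 4 2 = T.w 4) ∧ Hide (α24 = 4 ∧ α42 = 1)) ∧ q24 = 4) ∨ ((Hide (x24 = 2 * T.m 4 ∧ x42 = 2 * T.m 2) ∧ Hide (T.a 2 4 = 2 * T.w 2 ∧ T.a 4 2 = 2 * T.w 4) ∧ Hide (α24 = 2 ∧ α42 = 2)) ∧ q24 = 4)))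
    (c25 : Hide (((Hide (x25 = 0 ∧ x52 = 0) ∧ Hide (T.a 2 5 = 0 ∧ T.a 5 2 = 0) ∧ Hide (α25 = 0 ∧ α52 = 0)) ∧ q25 = 0) ∨ ((Hide (x25 = T.m 5 ∧ x52 = T.m 2) ∧ Hide (T.a 2 5 = T.w 2 ∧ T.a 5 2 = T.w 5) ∧ Hide (α25 = 1 ∧ α52 = 1)) ∧ q25 = 1) ∨ ((Hide (x25 = T.m 5 ∧ x52 = 2 * T.m 2) ∧ Hide (T.a 2 5 = T.w 2 ∧ T.a 5 2 = 2 * T.w 5) ∧ Hide (α25 = 1 ∧ α52 = 2)) ∧ q25 = 2) ∨ ((Hide (x25 = 2 * T.m 5 ∧ x52 = T.m 2) ∧ Hide (T.a 2 5 = 2 * T.w 2 ∧ T.a 5 2 = T.w 5) ∧ Hide (α25 = 2 ∧ α52 = 1)) ∧ q25 = 2) ∨ ((Hide (x25 = T.m 5 ∧ x52 = 3 * T.m 2) ∧ Hide (T.a 2 5 = T.w 2 ∧ T.a 5 2 = 3 * T.w 5) ∧ Hide (α25 = 1 ∧ α52 = 3)) ∧ q25 = 3) ∨ ((Hide (x25 = 3 * T.m 5 ∧ x52 = T.m 2) ∧ Hide (T.a 2 5 = 3 * T.w 2 ∧ T.a 5 2 = T.w 5) ∧ Hide (α25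 = 3 ∧ α52 = 1)) ∧ q25 = 3) ∨ ((Hide (x25 = T.m 5 ∧ x52 = 4 * T.m 2) ∧ Hide (T.a 2 5 = T.w 2 ∧ T.a 5 2 = 4 * T.w 5) ∧ Hide (α25 = 1 ∧ α52 = 4)) ∧ q25 = 4) ∨ ((Hide (x25 = 4 * T.m 5 ∧ x52 = T.m 2) ∧ Hide (T.a 2 5 = 4 * T.w 2 ∧ T.a 5 2 = T.w 5) ∧ Hide (α25 = 4 ∧ α52 = 1)) ∧ q25 = 4) ∨ ((Hide (x25 = 2 * T.m 5 ∧ x52 = 2 * T.m 2) ∧ Hide (T.a 2 5 = 2 * T.w 2 ∧ T.a 5 2 = 2 * T.w 5) ∧ Hide (α25 = 2 ∧ α52 = 2)) ∧ q25 = 4)))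
    (c34 : Hide (((Hide (x34 = 0 ∧ x43 = 0) ∧ Hide (T.a 3 4 = 0 ∧ T.a 4 3 = 0) ∧ Hide (α34 = 0 ∧ α43 = 0)) ∧ q34 = 0) ∨ ((Hide (x34 = T.m 4 ∧ x43 = T.m 3) ∧ Hide (T.a 3 4 = T.w 3 ∧ T.a 4 3 = T.w 4) ∧ Hide (α34 = 1 ∧ α43 = 1)) ∧ q34 = 1) ∨ ((Hide (x34 = T.m 4 ∧ x43 = 2 * T.m 3) ∧ Hide (T.a 3 4 = T.w 3 ∧ T.a 4 3 = 2 * T.w 4) ∧ Hide (α34 = 1 ∧ α43 = 2)) ∧ q34 = 2) ∨ ((Hide (x34 = 2 * T.m 4 ∧ x43 = T.m 3) ∧ Hide (T.a 3 4 = 2 * T.w 3 ∧ T.a 4 3 = T.w 4) ∧ Hide (α34 = 2 ∧ α43 = 1)) ∧ q34 = 2) ∨ ((Hide (x34 = T.m 4 ∧ x43 = 3 * T.m 3) ∧ Hide (T.a 3 4 = T.w 3 ∧ T.a 4 3 = 3 * T.w 4) ∧ Hide (α34 = 1 ∧ α43 = 3)) ∧ q34 = 3) ∨ ((Hide (x34 = 3 * T.m 4 ∧ x43 = T.m 3) ∧ Hide (T.a 3 4 = 3 * T.w 3 ∧ T.a 4 3 = T.w 4) ∧ Hide (α34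 = 3 ∧ α43 = 1)) ∧ q34 = 3) ∨ ((Hide (x34 = T.m 4 ∧ x43 = 4 * T.m 3) ∧ Hide (T.a 3 4 = T.w 3 ∧ T.a 4 3 = 4 * T.w 4) ∧ Hide (α34 = 1 ∧ α43 = 4)) ∧ q34 = 4) ∨ ((Hide (x34 = 4 * T.m 4 ∧ x43 = T.m 3) ∧ Hide (T.a 3 4 = 4 * T.w 3 ∧ T.a 4 3 = T.w 4) ∧ Hide (α34 = 4 ∧ α43 = 1)) ∧ q34 = 4) ∨ ((Hide (x34 = 2 * T.m 4 ∧ x43 = 2 * T.m 3) ∧ Hide (T.a 3 4 = 2 * T.w 3 ∧ T.a 4 3 = 2 * T.w 4) ∧ Hide (α34 = 2 ∧ α43 = 2)) ∧ q34 = 4)))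
    (c35 : Hide (((Hide (x35 = 0 ∧ x53 = 0) ∧ Hide (T.a 3 5 = 0 ∧ T.a 5 3 = 0) ∧ Hide (α35 = 0 ∧ α53 = 0)) ∧ q35 = 0) ∨ ((Hide (x35 = T.m 5 ∧ x53 = T.m 3) ∧ Hide (T.a 3 5 = T.w 3 ∧ T.a 5 3 = T.w 5) ∧ Hide (α35 = 1 ∧ α53 = 1)) ∧ q35 = 1) ∨ ((Hide (x35 = T.m 5 ∧ x53 = 2 * T.m 3) ∧ Hide (T.a 3 5 = T.w 3 ∧ T.a 5 3 = 2 * T.w 5) ∧ Hide (α35 = 1 ∧ α53 = 2)) ∧ q35 = 2) ∨ ((Hide (x35 = 2 * T.m 5 ∧ x53 = T.m 3) ∧ Hide (T.a 3 5 = 2 * T.w 3 ∧ T.a 5 3 = T.w 5) ∧ Hide (α35 = 2 ∧ α53 = 1)) ∧ q35 = 2) ∨ ((Hide (x35 = T.m 5 ∧ x53 = 3 * T.m 3) ∧ Hide (T.a 3 5 = T.w 3 ∧ T.a 5 3 = 3 * T.w 5) ∧ Hide (α35 = 1 ∧ α53 = 3)) ∧ q35 = 3) ∨ ((Hide (x35 = 3 * T.m 5 ∧ x53 = T.m 3) ∧ Hide (T.a 3 5 = 3 * T.w 3 ∧ T.a 5 3 = T.w 5) ∧ Hide (α35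 = 3 ∧ α53 = 1)) ∧ q35 = 3) ∨ ((Hide (x35 = T.m 5 ∧ x53 = 4 * T.m 3) ∧ Hide (T.a 3 5 = T.w 3 ∧ T.a 5 3 = 4 * T.w 5) ∧ Hide (α35 = 1 ∧ α53 = 4)) ∧ q35 = 4) ∨ ((Hide (x35 = 4 * T.m 5 ∧ x53 = T.m 3) ∧ Hide (T.a 3 5 = 4 * T.w 3 ∧ T.a 5 3 = T.w 5) ∧ Hide (α35 = 4 ∧ α53 = 1)) ∧ q35 = 4) ∨ ((Hide (x35 = 2 * T.m 5 ∧ x53 = 2 * T.m 3) ∧ Hide (T.a 3 5 = 2 * T.w 3 ∧ T.a 5 3 = 2 * T.w 5) ∧ Hide (α35 = 2 ∧ α53 = 2)) ∧ q35 = 4)))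
    (c45 : Hide (((Hide (x45 = 0 ∧ x54 = 0) ∧ Hide (T.a 4 5 = 0 ∧ T.a 5 4 = 0) ∧ Hide (α45 = 0 ∧ α54 = 0)) ∧ q45 = 0) ∨ ((Hide (x45 = T.m 5 ∧ x54 = T.m 4) ∧ Hide (T.a 4 5 = T.w 4 ∧ T.a 5 4 = T.w 5) ∧ Hide (α45 = 1 ∧ α54 = 1)) ∧ q45 = 1) ∨ ((Hide (x45 = T.m 5 ∧ x54 = 2 * T.m 4) ∧ Hide (T.a 4 5 = T.w 4 ∧ T.a 5 4 = 2 * T.w 5) ∧ Hide (α45 = 1 ∧ α54 = 2)) ∧ q45 = 2) ∨ ((Hide (x45 = 2 * T.m 5 ∧ x54 = T.m 4) ∧ Hide (T.a 4 5 = 2 * T.w 4 ∧ T.a 5 4 = T.w 5) ∧ Hide (α45 = 2 ∧ α54 = 1)) ∧ q45 = 2) ∨ ((Hide (x45 = T.m 5 ∧ x54 = 3 * T.m 4) ∧ Hide (T.a 4 5 = T.w 4 ∧ T.a 5 4 = 3 * T.w 5) ∧ Hide (α45 = 1 ∧ α54 = 3)) ∧ q45 = 3) ∨ ((Hide (x45 = 3 * T.m 5 ∧ x54 = T.m 4) ∧ Hide (T.a 4 5 = 3 * T.w 4 ∧ T.a 5 4 = T.w 5) ∧ Hide (α45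 = 3 ∧ α54 = 1)) ∧ q45 = 3) ∨ ((Hide (x45 = T.m 5 ∧ x54 = 4 * T.m 4) ∧ Hide (T.a 4 5 = T.w 4 ∧ T.a 5 4 = 4 * T.w 5) ∧ Hide (α45 = 1 ∧ α54 = 4)) ∧ q45 = 4) ∨ ((Hide (x45 = 4 * T.m 5 ∧ x54 = T.m 4) ∧ Hide (T.a 4 5 = 4 * T.w 4 ∧ T.a 5 4 = T.w 5) ∧ Hide (α45 = 4 ∧ α54 = 1)) ∧ q45 = 4) ∨ ((Hide (x45 = 2 * T.m 5 ∧ x54 = 2 * T.m 4) ∧ Hide (T.a 4 5 = 2 * T.w 4 ∧ T.a 5 4 = 2 * T.w 5) ∧ Hide (α45 = 2 ∧ α54 = 2)) ∧ q45 = 4)))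
    (gw01 : Hide (T.a 0 1 = T.w 0 ∧ T.a 1 0 = T.w 1))
    (gw02 : Hide (T.a 0 2 = 0 ∧ T.a 2 0 = 0))
    (gw03 : Hide (T.a 0 3 = 0 ∧ T.a 3 0 = 0))
    (gw04 : Hide (T.a 0 4 = 0 ∧ T.a 4 0 = 0))
    (gw05 : Hide (T.a 0 5 = 0 ∧ T.a 5 0 = 0))
    (gw12 : Hide (T.a 1 2 = 3 * T.w 1 ∧ T.a 2 1 = T.w 2)) : Goal T := by
  have t := pc0 q13 c13.out (by have := v1.out; have := qn14.out; have := qn15.out; omega)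
  clear c13
  obtain ⟨⟨⟨rfl, rfl⟩, gw13, ⟨rfl, rfl⟩⟩, rfl⟩ := t
  have t := pc0 q14 c14.out (by have := v1.out; have := qn15.out; omega)
  clear c14
  obtain ⟨⟨⟨rfl, rfl⟩, gw14, ⟨rfl, rfl⟩⟩, rfl⟩ := t
  have t := pc0 q15 c15.out (by have := v1.out; omega)
  clear c15
  obtain ⟨⟨⟨rfl, rfl⟩, gw15, ⟨rfl, rfl⟩⟩, rfl⟩ := t
  have t := pc1 q23 c23.out (by have := v2.out; have := qn24.out; have := qn25.out; omega)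
  clear c23
  rcases t with ⟨⟨⟨rfl, rfl⟩, gw23, ⟨rfl, rfl⟩⟩, rfl⟩ | ⟨⟨⟨rfl, rfl⟩, gw23, ⟨rfl, rfl⟩⟩, rfl⟩
  · (have := od3.out; omega)
  · (have := hm3.out; have := e0.out; have := e1.out; have := e2.out; have := r24.out; have := r25.out; omega)

end Groth.Agent.Lib.helper20.G1n6
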