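import Groth.Agent.Lib.Helper20.G1n6Base

set_option autoImplicit false
set_option linter.unusedVariables false
open Finset
open Models Models.NumericalType

namespace Groth.Agent.Lib.helper20.G1n6

set_option maxHeartbeats 0 in
theorem part11 (T : Models.NumericalType 6) (α12 α13 α14 α15 α21 α23 α24 α25 α31 α32 α34 α35 α41 α42 α43 α45 α51 α52 α53 α54 x12 x13 x14 x15 x21 x23 x24 x25 x31 x32 x34 x35 x41 x42 x43 x45 x51 x52 x53 x54 q12 q13 q14 q15 q23 q24 q25 q34 q35 q45 : ℤ)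
    (hm0 : Hide (0 < T.m 0))
    (hm1 : Hide (0 < T.m 1))
    (hm2 : Hide (0 < T.m 2))
    (hm3 : Hide (0 < T.m 3))
    (hm4 : Hide (0 < T.m 4))
    (hm5 : Hide (0 < T.m 5))
    (om1 : Hide (T.m 0 ≤ T.m 1))
    (om2 : Hide (T.m 0 ≤ T.m 2))
    (om3 : Hide (T.m 0 ≤ T.m 3))
    (om4 : Hide (T.m 0 ≤ T.m 4))
    (om5 : Hide (T.m 0 ≤ T.m 5))
    (e0 : Hide (T.m 1 + (0 : ℤ) + (0 : ℤ) + (0 : ℤ) + T.m 5 = 2 * T.m 0))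
    (e1 : Hide (T.m 0 + x12 + x13 + x14 + x15 = 2 * T.m 1))
    (e2 : Hide ((0 : ℤ) + x21 + x23 + x24 + x25 = 2 * T.m 2))
    (e3 : Hide ((0 : ℤ) + x31 + x32 + x34 + x35 = 2 * T.m 3))
    (e4 : Hide ((0 : ℤ) + x41 + x42 + x43 + x45 = 2 * T.m 4))
    (e5 : Hide (T.m 0 + x51 + x52 + x53 + x54 = 2 * T.m 5))
    (r01 : Hide (0 ≤ T.m 1))
    (r02 : Hide (0 ≤ (0 : ℤ)))
    (r03 : Hide (0 ≤ (0 : ℤ)))
    (r04 : Hide (0 ≤ (0 : ℤ)))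
    (r05 : Hide (0 ≤ T.m 5))
    (r10 : Hide (0 ≤ T.m 0))
    (r12 : Hide (0 ≤ x12))
    (r13 : Hide (0 ≤ x13))
    (r14 : Hide (0 ≤ x14))
    (r15 : Hide (0 ≤ x15))
    (r20 : Hide (0 ≤ (0 : ℤ)))
    (r21 : Hide (0 ≤ x21))
    (r23 : Hide (0 ≤ x23))
    (r24 : Hide (0 ≤ x24))
    (r25 : Hide (0 ≤ x25))
    (r30 : Hide (0 ≤ (0 : ℤ)))
    (r31 : Hide (0 ≤ x31))
    (r32 : Hide (0 ≤ x32))
    (r34 : Hide (0 ≤ x34))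
    (r35 : Hide (0 ≤ x35))
    (r40 : Hide (0 ≤ (0 : ℤ)))
    (r41 : Hide (0 ≤ x41))
    (r42 : Hide (0 ≤ x42))
    (r43 : Hide (0 ≤ x43))
    (r45 : Hide (0 ≤ x45))
    (r50 : Hide (0 ≤ T.m 0))
    (r51 : Hide (0 ≤ x51))
    (r52 : Hide (0 ≤ x52))
    (r53 : Hide (0 ≤ x53))
    (r54 : Hide (0 ≤ x54))
    (hw0 : Hide (0 < T.w 0))
    (hw1 : Hide (0 < T.w 1))
    (hw2 : Hide (0 < T.w 2))
    (hw3 : Hide (0 < T.w 3))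
    (hw4 : Hide (0 < T.w 4))
    (hw5 : Hide (0 < T.w 5))
    (hs01 : Hide (T.a 0 1 = T.a 1 0))
    (hs02 : Hide (T.a 0 2 = T.a 2 0))
    (hs03 : Hide (T.a 0 3 = T.a 3 0))
    (hs04 : Hide (T.a 0 4 = T.a 4 0))
    (hs05 : Hide (T.a 0 5 = T.a 5 0))
    (hs12 : Hide (T.a 1 2 = T.a 2 1))
    (hs13 : Hide (T.a 1 3 = T.a 3 1))
    (hs14 : Hide (T.a 1 4 = T.a 4 1))
    (hs15 : Hide (T.a 1 5 = T.a 5 1))
    (hs23 : Hide (T.a 2 3 = T.a 3 2))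
    (hs24 : Hide (T.a 2 4 = T.a 4 2))
    (hs25 : Hide (T.a 2 5 = T.a 5 2))
    (hs34 : Hide (T.a 3 4 = T.a 4 3))
    (hs35 : Hide (T.a 3 5 = T.a 5 3))
    (hs45 : Hide (T.a 4 5 = T.a 5 4))
    (ha00 : Hide (T.a 0 0 = -2 * T.w 0))
    (ha11 : Hide (T.a 1 1 = -2 * T.w 1))
    (ha22 : Hide (T.a 2 2 = -2 * T.w 2))
    (ha33 : Hide (T.a 3 3 = -2 * T.w 3))
    (ha44 : Hide (T.a 4 4 = -2 * T.w 4))
    (ha55 : Hide (T.a 5 5 = -2 * T.w 5))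
    (v0 : Hide ((1 : ℤ) + (0 : ℤ) + (0 : ℤ) + (0 : ℤ) + (1 : ℤ) ≤ 4))
    (v1 : Hide ((1 : ℤ) + q12 + q13 + q14 + q15 ≤ 4))
    (v2 : Hide ((0 : ℤ) + q12 + q23 + q24 + q25 ≤ 4))
    (v3 : Hide ((0 : ℤ) + q13 + q23 + q34 + q35 ≤ 4))
    (v4 : Hide ((0 : ℤ) + q14 + q24 + q34 + q45 ≤ 4))
    (v5 : Hide ((1 : ℤ) + q15 + q25 + q35 + q45 ≤ 4))
    (qn01 : Hide (0 ≤ (1 : ℤ)))
    (qn02 : Hide (0 ≤ (0 : ℤ)))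
    (qn03 : Hide (0 ≤ (0 : ℤ)))
    (qn04 : Hide (0 ≤ (0 : ℤ)))
    (qn05 : Hide (0 ≤ (1 : ℤ)))
    (qn12 : Hide (0 ≤ q12))
    (qn13 : Hide (0 ≤ q13))
    (qn14 : Hide (0 ≤ q14))
    (qn15 : Hide (0 ≤ q15))
    (qn23 : Hide (0 ≤ q23))
    (qn24 : Hide (0 ≤ q24))
    (qn25 : Hide (0 ≤ q25))
    (qn34 : Hide (0 ≤ q34))
    (qn35 : Hide (0 ≤ q35))
    (qn45 : Hide (0 ≤ q45))
    (od1 : Hide (0 < (1 : ℤ)))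
    (od2 : Hide (0 < (0 : ℤ) + α12))
    (od3 : Hide (0 < (0 : ℤ) + α13 + α23))
    (od4 : Hide (0 < (0 : ℤ) + α14 + α24 + α34))
    (od5 : Hide (0 < (1 : ℤ) + α15 + α25 + α35 + α45))
    (c12 : Hide (((Hide (x12 = 0 ∧ x21 = 0) ∧ Hide (T.a 1 2 = 0 ∧ T.a 2 1 = 0) ∧ Hide (α12 = 0 ∧ α21 = 0)) ∧ q12 = 0) ∨ ((Hide (x12 = T.m 2 ∧ x21 = T.m 1) ∧ Hide (T.a 1 2 = T.w 1 ∧ T.a 2 1 = T.w 2) ∧ Hide (α12 = 1 ∧ α21 = 1)) ∧ q12 = 1) ∨ ((Hide (x12 = T.m 2 ∧ x21 = 2 * T.m 1) ∧ Hide (T.a 1 2 = T.w 1 ∧ T.a 2 1 = 2 * T.w 2) ∧ Hide (α12 = 1 ∧ α21 = 2)) ∧ q12 = 2) ∨ ((Hide (x12 = 2 * T.m 2 ∧ x21 = T.m 1) ∧ Hide (T.a 1 2 = 2 * T.w 1 ∧ T.a 2 1 = T.w 2) ∧ Hide (α12 = 2 ∧ α21 = 1)) ∧ q12 = 2) ∨ ((Hide (x12 = T.m 2 ∧ x21 = 3 * T.m 1) ∧ Hide (T.a 1 2 = T.w 1 ∧ T.a 2 1 = 3 * T.w 2) ∧ Hide (α12 = 1 ∧ α21 = 3)) ∧ q12 = 3)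 ∨ ((Hide (x12 = 3 * T.m 2 ∧ x21 = T.m 1) ∧ Hide (T.a 1 2 = 3 * T.w 1 ∧ T.a 2 1 = T.w 2) ∧ Hide (α12 = 3 ∧ α21 = 1)) ∧ q12 = 3) ∨ ((Hide (x12 = T.m 2 ∧ x21 = 4 * T.m 1) ∧ Hide (T.a 1 2 = T.w 1 ∧ T.a 2 1 = 4 * T.w 2) ∧ Hide (α12 = 1 ∧ α21 = 4)) ∧ q12 = 4) ∨ ((Hide (x12 = 4 * T.m 2 ∧ x21 = T.m 1) ∧ Hide (T.a 1 2 = 4 * T.w 1 ∧ T.a 2 1 = T.w 2) ∧ Hide (α12 = 4 ∧ α21 = 1)) ∧ q12 = 4) ∨ ((Hide (x12 = 2 * T.m 2 ∧ x21 = 2 * T.m 1) ∧ Hide (T.a 1 2 = 2 * T.w 1 ∧ T.a 2 1 = 2 * T.w 2) ∧ Hide (α12 = 2 ∧ α21 = 2)) ∧ q12 = 4)))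
    (c13 : Hide (((Hide (x13 = 0 ∧ x31 = 0) ∧ Hide (T.a 1 3 = 0 ∧ T.a 3 1 = 0) ∧ Hide (α13 = 0 ∧ α31 = 0)) ∧ q13 = 0) ∨ ((Hide (x13 = T.m 3 ∧ x31 = T.m 1) ∧ Hide (T.a 1 3 = T.w 1 ∧ T.a 3 1 = T.w 3) ∧ Hide (α13 = 1 ∧ α31 = 1)) ∧ q13 = 1) ∨ ((Hide (x13 = T.m 3 ∧ x31 = 2 * T.m 1) ∧ Hide (T.a 1 3 = T.w 1 ∧ T.a 3 1 = 2 * T.w 3) ∧ Hide (α13 = 1 ∧ α31 = 2)) ∧ q13 = 2) ∨ ((Hide (x13 = 2 * T.m 3 ∧ x31 = T.m 1) ∧ Hide (T.a 1 3 = 2 * T.w 1 ∧ T.a 3 1 = T.w 3) ∧ Hide (α13 = 2 ∧ α31 = 1)) ∧ q13 = 2) ∨ ((Hide (x13 = T.m 3 ∧ x31 = 3 * T.m 1) ∧ Hide (T.a 1 3 = T.w 1 ∧ T.a 3 1 = 3 * T.w 3) ∧ Hide (α13 = 1 ∧ α31 = 3)) ∧ q13 = 3) ∨ ((Hide (x13 = 3 * T.m 3 ∧ x31 = T.m 1) ∧ Hide (T.a 1 3 = 3 * T.w 1 ∧ T.a 3 1 = T.w 3) ∧ Hide (α13 = 3 ∧ α31 = 1)) ∧ q13 = 3) ∨ ((Hide (x13 = T.m 3 ∧ x31 = 4 * T.m 1) ∧ Hide (T.a 1 3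 = T.w 1 ∧ T.a 3 1 = 4 * T.w 3) ∧ Hide (α13 = 1 ∧ α31 = 4)) ∧ q13 = 4) ∨ ((Hide (x13 = 4 * T.m 3 ∧ x31 = T.m 1) ∧ Hide (T.a 1 3 = 4 * T.w 1 ∧ T.a 3 1 = T.w 3) ∧ Hide (α13 = 4 ∧ α31 = 1)) ∧ q13 = 4) ∨ ((Hide (x13 = 2 * T.m 3 ∧ x31 = 2 * T.m 1) ∧ Hide (T.a 1 3 = 2 * T.w 1 ∧ T.a 3 1 = 2 * T.w 3) ∧ Hide (α13 = 2 ∧ α31 = 2)) ∧ q13 = 4)))
    (c14 : Hide (((Hide (x14 = 0 ∧ x41 = 0) ∧ Hide (T.a 1 4 = 0 ∧ T.a 4 1 = 0) ∧ Hide (α14 = 0 ∧ α41 = 0)) ∧ q14 = 0) ∨ ((Hide (x14 = T.m 4 ∧ x41 = T.m 1) ∧ Hide (T.a 1 4 = T.w 1 ∧ T.a 4 1 = T.w 4) ∧ Hide (α14 = 1 ∧ α41 = 1)) ∧ q14 = 1) ∨ ((Hide (x14 = T.m 4 ∧ x41 = 2 * T.m 1) ∧ Hide (T.a 1 4 = T.w 1 ∧ T.a 4 1 = 2 * T.w 4) ∧ Hide (α14 = 1 ∧ α41 = 2)) ∧ q14 = 2) ∨ ((Hide (x14 = 2 * T.m 4 ∧ x41 = T.m 1) ∧ Hide (T.a 1 4 = 2 * T.w 1 ∧ T.a 4 1 = T.w 4) ∧ Hide (α14 = 2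 ∧ α41 = 1)) ∧ q14 = 2) ∨ ((Hide (x14 = T.m 4 ∧ x41 = 3 * T.m 1) ∧ Hide (T.a 1 4 = T.w 1 ∧ T.a 4 1 = 3 * T.w 4) ∧ Hide (α14 = 1 ∧ α41 = 3)) ∧ q14 = 3) ∨ ((Hide (x14 = 3 * T.m 4 ∧ x41 = T.m 1) ∧ Hide (T.a 1 4 = 3 * T.w 1 ∧ T.a 4 1 = T.w 4) ∧ Hide (α14 = 3 ∧ α41 = 1)) ∧ q14 = 3) ∨ ((Hide (x14 = T.m 4 ∧ x41 = 4 * T.m 1) ∧ Hide (T.a 1 4 = T.w 1 ∧ T.a 4 1 = 4 * T.w 4) ∧ Hide (α14 = 1 ∧ α41 = 4)) ∧ q14 = 4) ∨ ((Hide (x14 = 4 * T.m 4 ∧ x41 = T.m 1) ∧ Hide (T.a 1 4 = 4 * T.w 1 ∧ T.a 4 1 = T.w 4) ∧ Hide (α14 = 4 ∧ α41 = 1)) ∧ q14 = 4) ∨ ((Hide (x14 = 2 * T.m 4 ∧ x41 = 2 * T.m 1) ∧ Hide (T.a 1 4 = 2 * T.w 1 ∧ T.a 4 1 = 2 * T.w 4) ∧ Hide (α14 = 2 ∧ α41 = 2)) ∧ q14 = 4)))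
    (c15 : Hide (((Hide (x15 = 0 ∧ x51 = 0) ∧ Hide (T.a 1 5 = 0 ∧ T.a 5 1 = 0) ∧ Hide (α15 = 0 ∧ α51 = 0)) ∧ q15 = 0) ∨ ((Hide (x15 = T.m 5 ∧ x51 = T.m 1) ∧ Hide (T.a 1 5 = T.w 1 ∧ T.a 5 1 = T.w 5) ∧ Hide (α15 = 1 ∧ α51 = 1)) ∧ q15 = 1) ∨ ((Hide (x15 = T.m 5 ∧ x51 = 2 * T.m 1) ∧ Hide (T.a 1 5 = T.w 1 ∧ T.a 5 1 = 2 * T.w 5) ∧ Hide (α15 = 1 ∧ α51 = 2)) ∧ q15 = 2) ∨ ((Hide (x15 = 2 * T.m 5 ∧ x51 = T.m 1) ∧ Hide (T.a 1 5 = 2 * T.w 1 ∧ T.a 5 1 = T.w 5) ∧ Hide (α15 = 2 ∧ α51 = 1)) ∧ q15 = 2) ∨ ((Hide (x15 = T.m 5 ∧ x51 = 3 * T.m 1) ∧ Hide (T.a 1 5 = T.w 1 ∧ T.a 5 1 = 3 * T.w 5) ∧ Hide (α15 = 1 ∧ α51 = 3)) ∧ q15 = 3) ∨ ((Hide (x15 = 3 * T.m 5 ∧ x51 = T.m 1) ∧ Hide (T.a 1 5 = 3 * T.w 1 ∧ T.a 5 1 = T.w 5) ∧ Hide (α15 = 3 ∧ α51 = 1)) ∧ q15 = 3) ∨ ((Hide (x15 = T.m 5 ∧ x51 = 4 * T.m 1) ∧ Hide (T.a 1 5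 = T.w 1 ∧ T.a 5 1 = 4 * T.w 5) ∧ Hide (α15 = 1 ∧ α51 = 4)) ∧ q15 = 4) ∨ ((Hide (x15 = 4 * T.m 5 ∧ x51 = T.m 1) ∧ Hide (T.a 1 5 = 4 * T.w 1 ∧ T.a 5 1 = T.w 5) ∧ Hide (α15 = 4 ∧ α51 = 1)) ∧ q15 = 4) ∨ ((Hide (x15 = 2 * T.m 5 ∧ x51 = 2 * T.m 1) ∧ Hide (T.a 1 5 = 2 * T.w 1 ∧ T.a 5 1 = 2 * T.w 5) ∧ Hide (α15 = 2 ∧ α51 = 2)) ∧ q15 = 4)))
    (c23 : Hide (((Hide (x23 = 0 ∧ x32 = 0) ∧ Hide (T.a 2 3 = 0 ∧ T.a 3 2 = 0) ∧ Hide (α23 = 0 ∧ α32 = 0)) ∧ q23 = 0) ∨ ((Hide (x23 = T.m 3 ∧ x32 = T.m 2) ∧ Hide (T.a 2 3 = T.w 2 ∧ T.a 3 2 = T.w 3) ∧ Hide (α23 = 1 ∧ α32 = 1)) ∧ q23 = 1) ∨ ((Hide (x23 = T.m 3 ∧ x32 = 2 * T.m 2) ∧ Hide (T.a 2 3 = T.w 2 ∧ T.a 3 2 = 2 * T.w 3) ∧ Hide (α23 = 1 ∧ α32 = 2)) ∧ q23 = 2) ∨ ((Hide (x23 = 2 * T.m 3 ∧ x32 = T.m 2) ∧ Hide (T.a 2 3 = 2 * T.w 2 ∧ T.a 3 2 = T.w 3) ∧ Hide (α23 = 2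 ∧ α32 = 1)) ∧ q23 = 2) ∨ ((Hide (x23 = T.m 3 ∧ x32 = 3 * T.m 2) ∧ Hide (T.a 2 3 = T.w 2 ∧ T.a 3 2 = 3 * T.w 3) ∧ Hide (α23 = 1 ∧ α32 = 3)) ∧ q23 = 3) ∨ ((Hide (x23 = 3 * T.m 3 ∧ x32 = T.m 2) ∧ Hide (T.a 2 3 = 3 * T.w 2 ∧ T.a 3 2 = T.w 3) ∧ Hide (α23 = 3 ∧ α32 = 1)) ∧ q23 = 3) ∨ ((Hide (x23 = T.m 3 ∧ x32 = 4 * T.m 2) ∧ Hide (T.a 2 3 = T.w 2 ∧ T.a 3 2 = 4 * T.w 3) ∧ Hide (α23 = 1 ∧ α32 = 4)) ∧ q23 = 4) ∨ ((Hide (x23 = 4 * T.m 3 ∧ x32 = T.m 2) ∧ Hide (T.a 2 3 = 4 * T.w 2 ∧ T.a 3 2 = T.w 3) ∧ Hide (α23 = 4 ∧ α32 = 1)) ∧ q23 = 4) ∨ ((Hide (x23 = 2 * T.m 3 ∧ x32 = 2 * T.m 2) ∧ Hide (T.a 2 3 = 2 * T.w 2 ∧ T.a 3 2 = 2 * T.w 3) ∧ Hide (α23 = 2 ∧ α32 = 2)) ∧ q23 = 4)))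
    (c24 : Hide (((Hide (x24 = 0 ∧ x42 = 0) ∧ Hide (T.a 2 4 = 0 ∧ T.a 4 2 = 0) ∧ Hide (α24 = 0 ∧ α42 = 0)) ∧ q24 = 0) ∨ ((Hide (x24 = T.m 4 ∧ x42 = T.m 2) ∧ Hide (T.a 2 4 = T.w 2 ∧ T.a 4 2 = T.w 4) ∧ Hide (α24 = 1 ∧ α42 = 1)) ∧ q24 = 1) ∨ ((Hide (x24 = T.m 4 ∧ x42 = 2 * T.m 2) ∧ Hide (T.a 2 4 = T.w 2 ∧ T.a 4 2 = 2 * T.w 4) ∧ Hide (α24 = 1 ∧ α42 = 2)) ∧ q24 = 2) ∨ ((Hide (x24 = 2 * T.m 4 ∧ x42 = T.m 2) ∧ Hide (T.a 2 4 = 2 * T.w 2 ∧ T.a 4 2 = T.w 4) ∧ Hide (α24 = 2 ∧ α42 = 1)) ∧ q24 = 2) ∨ ((Hide (x24 = T.m 4 ∧ x42 = 3 * T.m 2) ∧ Hide (T.a 2 4 = T.w 2 ∧ T.a 4 2 = 3 * T.w 4) ∧ Hide (α24 = 1 ∧ α42 = 3)) ∧ q24 = 3) ∨ ((Hide (x24 = 3 * T.m 4 ∧ x42 = T.m 2) ∧ Hide (T.a 2 4 = 3 * T.w 2 ∧ T.a 4 2 = T.w 4) ∧ Hide (α24 = 3 ∧ α42 = 1)) ∧ q24 = 3) ∨ ((Hide (x24 = T.m 4 ∧ x42 = 4 * T.m 2) ∧ Hide (T.a 2 4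 = T.w 2 ∧ T.a 4 2 = 4 * T.w 4) ∧ Hide (α24 = 1 ∧ α42 = 4)) ∧ q24 = 4) ∨ ((Hide (x24 = 4 * T.m 4 ∧ x42 = T.m 2) ∧ Hide (T.a 2 4 = 4 * T.w 2 ∧ T.a 4 2 = T.w 4) ∧ Hide (α24 = 4 ∧ α42 = 1)) ∧ q24 = 4) ∨ ((Hide (x24 = 2 * T.m 4 ∧ x42 = 2 * T.m 2) ∧ Hide (T.a 2 4 = 2 * T.w 2 ∧ T.a 4 2 = 2 * T.w 4) ∧ Hide (α24 = 2 ∧ α42 = 2)) ∧ q24 = 4)))
    (c25 : Hide (((Hide (x25 = 0 ∧ x52 = 0) ∧ Hide (T.a 2 5 = 0 ∧ T.a 5 2 = 0) ∧ Hide (α25 = 0 ∧ α52 = 0)) ∧ q25 = 0) ∨ ((Hide (x25 = T.m 5 ∧ x52 = T.m 2) ∧ Hide (T.a 2 5 = T.w 2 ∧ T.a 5 2 = T.w 5) ∧ Hide (α25 = 1 ∧ α52 = 1)) ∧ q25 = 1) ∨ ((Hide (x25 = T.m 5 ∧ x52 = 2 * T.m 2) ∧ Hide (T.a 2 5 = T.w 2 ∧ T.a 5 2 = 2 * T.w 5) ∧ Hide (α25 = 1 ∧ α52 = 2)) ∧ q25 = 2) ∨ ((Hide (x25 = 2 * T.m 5 ∧ x52 = T.m 2) ∧ Hide (T.a 2 5 = 2 * T.w 2 ∧ T.a 5 2 = T.w 5) ∧ Hide (α25 = 2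 ∧ α52 = 1)) ∧ q25 = 2) ∨ ((Hide (x25 = T.m 5 ∧ x52 = 3 * T.m 2) ∧ Hide (T.a 2 5 = T.w 2 ∧ T.a 5 2 = 3 * T.w 5) ∧ Hide (α25 = 1 ∧ α52 = 3)) ∧ q25 = 3) ∨ ((Hide (x25 = 3 * T.m 5 ∧ x52 = T.m 2) ∧ Hide (T.a 2 5 = 3 * T.w 2 ∧ T.a 5 2 = T.w 5) ∧ Hide (α25 = 3 ∧ α52 = 1)) ∧ q25 = 3) ∨ ((Hide (x25 = T.m 5 ∧ x52 = 4 * T.m 2) ∧ Hide (T.a 2 5 = T.w 2 ∧ T.a 5 2 = 4 * T.w 5) ∧ Hide (α25 = 1 ∧ α52 = 4)) ∧ q25 = 4) ∨ ((Hide (x25 = 4 * T.m 5 ∧ x52 = T.m 2) ∧ Hide (T.a 2 5 = 4 * T.w 2 ∧ T.a 5 2 = T.w 5) ∧ Hide (α25 = 4 ∧ α52 = 1)) ∧ q25 = 4) ∨ ((Hide (x25 = 2 * T.m 5 ∧ x52 = 2 * T.m 2) ∧ Hide (T.a 2 5 = 2 * T.w 2 ∧ T.a 5 2 = 2 * T.w 5) ∧ Hide (α25 = 2 ∧ α52 = 2)) ∧ q25 = 4)))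
    (c34 : Hide (((Hide (x34 = 0 ∧ x43 = 0) ∧ Hide (T.a 3 4 = 0 ∧ T.a 4 3 = 0) ∧ Hide (α34 = 0 ∧ α43 = 0)) ∧ q34 = 0) ∨ ((Hide (x34 = T.m 4 ∧ x43 = T.m 3) ∧ Hide (T.a 3 4 = T.w 3 ∧ T.a 4 3 = T.w 4) ∧ Hide (α34 = 1 ∧ α43 = 1)) ∧ q34 = 1) ∨ ((Hide (x34 = T.m 4 ∧ x43 = 2 * T.m 3) ∧ Hide (T.a 3 4 = T.w 3 ∧ T.a 4 3 = 2 * T.w 4) ∧ Hide (α34 = 1 ∧ α43 = 2)) ∧ q34 = 2) ∨ ((Hide (x34 = 2 * T.m 4 ∧ x43 = T.m 3) ∧ Hide (T.a 3 4 = 2 * T.w 3 ∧ T.a 4 3 = T.w 4) ∧ Hide (α34 = 2 ∧ α43 = 1)) ∧ q34 = 2) ∨ ((Hide (x34 = T.m 4 ∧ x43 = 3 * T.m 3) ∧ Hide (T.a 3 4 = T.w 3 ∧ T.a 4 3 = 3 * T.w 4) ∧ Hide (α34 = 1 ∧ α43 = 3)) ∧ q34 = 3) ∨ ((Hide (x34 = 3 * T.m 4 ∧ x43 = T.m 3) ∧ Hide (T.a 3 4 = 3 * T.w 3 ∧ T.a 4 3 = T.w 4) ∧ Hide (α34 = 3 ∧ α43 = 1)) ∧ q34 = 3) ∨ ((Hide (x34 = T.m 4 ∧ x43 = 4 * T.m 3) ∧ Hide (T.a 3 4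 = T.w 3 ∧ T.a 4 3 = 4 * T.w 4) ∧ Hide (α34 = 1 ∧ α43 = 4)) ∧ q34 = 4) ∨ ((Hide (x34 = 4 * T.m 4 ∧ x43 = T.m 3) ∧ Hide (T.a 3 4 = 4 * T.w 3 ∧ T.a 4 3 = T.w 4) ∧ Hide (α34 = 4 ∧ α43 = 1)) ∧ q34 = 4) ∨ ((Hide (x34 = 2 * T.m 4 ∧ x43 = 2 * T.m 3) ∧ Hide (T.a 3 4 = 2 * T.w 3 ∧ T.a 4 3 = 2 * T.w 4) ∧ Hide (α34 = 2 ∧ α43 = 2)) ∧ q34 = 4)))
    (c35 : Hide (((Hide (x35 = 0 ∧ x53 = 0) ∧ Hide (T.a 3 5 = 0 ∧ T.a 5 3 = 0) ∧ Hide (α35 = 0 ∧ α53 = 0)) ∧ q35 = 0) ∨ ((Hide (x35 = T.m 5 ∧ x53 = T.m 3) ∧ Hide (T.a 3 5 = T.w 3 ∧ T.a 5 3 = T.w 5) ∧ Hide (α35 = 1 ∧ α53 = 1)) ∧ q35 = 1) ∨ ((Hide (x35 = T.m 5 ∧ x53 = 2 * T.m 3) ∧ Hide (T.a 3 5 = T.w 3 ∧ T.a 5 3 = 2 * T.w 5) ∧ Hide (α35 = 1 ∧ α53 = 2)) ∧ q35 = 2) ∨ ((Hide (x35 = 2 * T.m 5 ∧ x53 = T.m 3) ∧ Hide (T.a 3 5 = 2 * T.w 3 ∧ T.a 5 3 = T.w 5) ∧ Hide (α35 = 2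 ∧ α53 = 1)) ∧ q35 = 2) ∨ ((Hide (x35 = T.m 5 ∧ x53 = 3 * T.m 3) ∧ Hide (T.a 3 5 = T.w 3 ∧ T.a 5 3 = 3 * T.w 5) ∧ Hide (α35 = 1 ∧ α53 = 3)) ∧ q35 = 3) ∨ ((Hide (x35 = 3 * T.m 5 ∧ x53 = T.m 3) ∧ Hide (T.a 3 5 = 3 * T.w 3 ∧ T.a 5 3 = T.w 5) ∧ Hide (α35 = 3 ∧ α53 = 1)) ∧ q35 = 3) ∨ ((Hide (x35 = T.m 5 ∧ x53 = 4 * T.m 3) ∧ Hide (T.a 3 5 = T.w 3 ∧ T.a 5 3 = 4 * T.w 5) ∧ Hide (α35 = 1 ∧ α53 = 4)) ∧ q35 = 4) ∨ ((Hide (x35 = 4 * T.m 5 ∧ x53 = T.m 3) ∧ Hide (T.a 3 5 = 4 * T.w 3 ∧ T.a 5 3 = T.w 5) ∧ Hide (α35 = 4 ∧ α53 = 1)) ∧ q35 = 4) ∨ ((Hide (x35 = 2 * T.m 5 ∧ x53 = 2 * T.m 3) ∧ Hide (T.a 3 5 = 2 * T.w 3 ∧ T.a 5 3 = 2 * T.w 5) ∧ Hide (α35 = 2 ∧ α53 = 2)) ∧ q35 = 4)))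
    (c45 : Hide (((Hide (x45 = 0 ∧ x54 = 0) ∧ Hide (T.a 4 5 = 0 ∧ T.a 5 4 = 0) ∧ Hide (α45 = 0 ∧ α54 = 0)) ∧ q45 = 0) ∨ ((Hide (x45 = T.m 5 ∧ x54 = T.m 4) ∧ Hide (T.a 4 5 = T.w 4 ∧ T.a 5 4 = T.w 5) ∧ Hide (α45 = 1 ∧ α54 = 1)) ∧ q45 = 1) ∨ ((Hide (x45 = T.m 5 ∧ x54 = 2 * T.m 4) ∧ Hide (T.a 4 5 = T.w 4 ∧ T.a 5 4 = 2 * T.w 5) ∧ Hide (α45 = 1 ∧ α54 = 2)) ∧ q45 = 2) ∨ ((Hide (x45 = 2 * T.m 5 ∧ x54 = T.m 4) ∧ Hide (T.a 4 5 = 2 * T.w 4 ∧ T.a 5 4 = T.w 5) ∧ Hide (α45 = 2 ∧ α54 = 1)) ∧ q45 = 2) ∨ ((Hide (x45 = T.m 5 ∧ x54 = 3 * T.m 4) ∧ Hide (T.a 4 5 = T.w 4 ∧ T.a 5 4 = 3 * T.w 5) ∧ Hide (α45 = 1 ∧ α54 = 3)) ∧ q45 = 3) ∨ ((Hide (x45 = 3 * T.m 5 ∧ x54 = T.m 4) ∧ Hide (T.a 4 5 = 3 * T.w 4 ∧ T.a 5 4 = T.w 5) ∧ Hide (α45 = 3 ∧ α54 = 1)) ∧ q45 = 3) ∨ ((Hide (x45 = T.m 5 ∧ x54 = 4 * T.m 4) ∧ Hide (T.a 4 5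 = T.w 4 ∧ T.a 5 4 = 4 * T.w 5) ∧ Hide (α45 = 1 ∧ α54 = 4)) ∧ q45 = 4) ∨ ((Hide (x45 = 4 * T.m 5 ∧ x54 = T.m 4) ∧ Hide (T.a 4 5 = 4 * T.w 4 ∧ T.a 5 4 = T.w 5) ∧ Hide (α45 = 4 ∧ α54 = 1)) ∧ q45 = 4) ∨ ((Hide (x45 = 2 * T.m 5 ∧ x54 = 2 * T.m 4) ∧ Hide (T.a 4 5 = 2 * T.w 4 ∧ T.a 5 4 = 2 * T.w 5) ∧ Hide (α45 = 2 ∧ α54 = 2)) ∧ q45 = 4)))
    (gw01 : Hide (T.a 0 1 = T.w 0 ∧ T.a 1 0 = T.w 1))
    (gw02 : Hide (T.a 0 2 = 0 ∧ T.a 2 0 = 0))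
    (gw03 : Hide (T.a 0 3 = 0 ∧ T.a 3 0 = 0))
    (gw04 : Hide (T.a 0 4 = 0 ∧ T.a 4 0 = 0))
    (gw05 : Hide (T.a 0 5 = T.w 0 ∧ T.a 5 0 = T.w 5)) : Goal T := by
  have t := pc3 q12 c12.out (by have := v1.out; have := qn13.out; have := qn14.out; have := qn15.out; omega)
  clear c12
  rcases t with ⟨⟨⟨rfl, rfl⟩, gw12, ⟨rfl, rfl⟩⟩, rfl⟩ | ⟨⟨⟨rfl, rfl⟩, gw12, ⟨rfl, rfl⟩⟩, rfl⟩ | ⟨⟨⟨rfl, rfl⟩, gw12, ⟨rfl, rfl⟩⟩, rfl⟩ | ⟨⟨⟨rfl, rfl⟩, gw12, ⟨rfl, rfl⟩⟩, rfl⟩ | ⟨⟨⟨rfl, rfl⟩, gw12, ⟨rfl, rfl⟩⟩, rfl⟩ | ⟨⟨⟨rfl, rfl⟩, gw12, ⟨rfl, rfl⟩⟩, rfl⟩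
  · (have := od2.out; omega)
  · have t := pc2 q13 c13.out (by have := v1.out; have := qn14.out; have := qn15.out; omega)
    clear c13
    rcases t with ⟨⟨⟨rfl, rfl⟩, gw13, ⟨rfl, rfl⟩⟩, rfl⟩ | ⟨⟨⟨rfl, rfl⟩, gw13, ⟨rfl, rfl⟩⟩, rfl⟩ | ⟨⟨⟨rfl, rfl⟩, gw13, ⟨rfl, rfl⟩⟩, rfl⟩ | ⟨⟨⟨rfl, rfl⟩, gw13, ⟨rfl, rfl⟩⟩, rfl⟩
    · have t := pc2 q14 c14.out (by have := v1.out; have := qn15.out; omega)
      clear c14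
      rcases t with ⟨⟨⟨rfl, rfl⟩, gw14, ⟨rfl, rfl⟩⟩, rfl⟩ | ⟨⟨⟨rfl, rfl⟩, gw14, ⟨rfl, rfl⟩⟩, rfl⟩ | ⟨⟨⟨rfl, rfl⟩, gw14, ⟨rfl, rfl⟩⟩, rfl⟩ | ⟨⟨⟨rfl, rfl⟩, gw14, ⟨rfl, rfl⟩⟩, rfl⟩
      · have t := pc2 q15 c15.out (by have := v1.out; omega)
        clear c15
        rcases t with ⟨⟨⟨rfl, rfl⟩, gw15, ⟨rfl, rfl⟩⟩, rfl⟩ | ⟨⟨⟨rfl, rfl⟩, gw15, ⟨rfl, rfl⟩⟩, rfl⟩ | ⟨⟨⟨rfl, rfl⟩, gw15, ⟨rfl, rfl⟩⟩, rfl⟩ | ⟨⟨⟨rfl, rfl⟩, gw15, ⟨rfl, rfl⟩⟩, rfl⟩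
        · have t := pc3 q23 c23.out (by have := v2.out; have := qn24.out; have := qn25.out; omega)
          clear c23
          rcases t with ⟨⟨⟨rfl, rfl⟩, gw23, ⟨rfl, rfl⟩⟩, rfl⟩ | ⟨⟨⟨rfl, rfl⟩, gw23, ⟨rfl, rfl⟩⟩, rfl⟩ | ⟨⟨⟨rfl, rfl⟩, gw23, ⟨rfl, rfl⟩⟩, rfl⟩ | ⟨⟨⟨rfl, rfl⟩, gw23, ⟨rfl, rfl⟩⟩, rfl⟩ | ⟨⟨⟨rfl, rfl⟩, gw23, ⟨rfl, rfl⟩⟩, rfl⟩ | ⟨⟨⟨rfl, rfl⟩, gw23, ⟨rfl, rfl⟩⟩, rfl⟩
          · (have := od3.out; omega)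
          · have t := pc2 q24 c24.out (by have := v2.out; have := qn25.out; omega)
            clear c24
            rcases t with ⟨⟨⟨rfl, rfl⟩, gw24, ⟨rfl, rfl⟩⟩, rfl⟩ | ⟨⟨⟨rfl, rfl⟩, gw24, ⟨rfl, rfl⟩⟩, rfl⟩ | ⟨⟨⟨rfl, rfl⟩, gw24, ⟨rfl, rfl⟩⟩, rfl⟩ | ⟨⟨⟨rfl, rfl⟩, gw24, ⟨rfl, rfl⟩⟩, rfl⟩
            · have t := pc2 q25 c25.out (by have := v2.out; omega)
              clear c25
              rcases t with ⟨⟨⟨rfl, rfl⟩, gw25, ⟨rfl, rfl⟩⟩, rfl⟩ | ⟨⟨⟨rfl, rfl⟩, gw25, ⟨rfl, rfl⟩⟩, rfl⟩ | ⟨⟨⟨rfl, rfl⟩, gw25, ⟨rfl, rfl⟩⟩, rfl⟩ | ⟨⟨⟨rfl, rfl⟩, gw25, ⟨rfl, rfl⟩⟩, rfl⟩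
              · have t := pc3 q34 c34.out (by have := v3.out; have := qn35.out; omega)
                clear c34
                rcases t with ⟨⟨⟨rfl, rfl⟩, gw34, ⟨rfl, rfl⟩⟩, rfl⟩ | ⟨⟨⟨rfl, rfl⟩, gw34, ⟨rfl, rfl⟩⟩, rfl⟩ | ⟨⟨⟨rfl, rfl⟩, gw34, ⟨rfl, rfl⟩⟩, rfl⟩ | ⟨⟨⟨rfl, rfl⟩, gw34, ⟨rfl, rfl⟩⟩, rfl⟩ | ⟨⟨⟨rfl, rfl⟩, gw34, ⟨rfl, rfl⟩⟩, rfl⟩ | ⟨⟨⟨rfl, rfl⟩, gw34, ⟨rfl, rfl⟩⟩, rfl⟩
                · (have := od4.out; omega)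
                · have t := pc2 q35 c35.out (by have := v3.out; omega)
                  clear c35
                  rcases t with ⟨⟨⟨rfl, rfl⟩, gw35, ⟨rfl, rfl⟩⟩, rfl⟩ | ⟨⟨⟨rfl, rfl⟩, gw35, ⟨rfl, rfl⟩⟩, rfl⟩ | ⟨⟨⟨rfl, rfl⟩, gw35, ⟨rfl, rfl⟩⟩, rfl⟩ | ⟨⟨⟨rfl, rfl⟩, gw35, ⟨rfl, rfl⟩⟩, rfl⟩
                  · have t := pc3 q45 c45.out (by have := v4.out; omega)
                    clear c45
                    rcases t with ⟨⟨⟨rfl, rfl⟩, gw45, ⟨rfl, rfl⟩⟩, rfl⟩ | ⟨⟨⟨rfl, rfl⟩, gw45, ⟨rfl, rfl⟩⟩, rfl⟩ | ⟨⟨⟨rfl, rfl⟩, gw45, ⟨rfl, rfl⟩⟩, rfl⟩ | ⟨⟨⟨rfl, rfl⟩, gw45, ⟨rfl, rfl⟩⟩, rfl⟩ | ⟨⟨⟨rfl, rfl⟩, gw45, ⟨rfl, rfl⟩⟩, rfl⟩ | ⟨⟨⟨rfl, rfl⟩, gw45, ⟨rfl, rfl⟩⟩, rfl⟩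
                    · (have := hm5.out; have := om3.out; have := e0.out; have := e2.out; have := e3.out; have := e4.out; omega)
                    · have := hm0.out
                      have := hm1.out
                      have := hm2.out
                      have := hm3.out
                      have := hm4.out
                      have := hm5.out
                      have := e0.out
                      have := e1.out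
                      have := e2.out
                      have := e3.out
                      have := e4.out
                      have := e5.out
                      have := hw0.out
                      have := hw1.out
                      have := hw2.out
                      have := hw3.out
                      have := hw4.out
                      have := hw5.out
                      have := hs01.out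
                      have := hs02.out
                      have := hs03.out
                      have := hs04.out
                      have := hs05.out
                      have := hs12.out
                      have := hs13.out
                      have := hs14.out
                      have := hs15.out
                      have := hs23.out
                      have := hs24.out
                      have := hs25.out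
                      have := hs34.out
                      have := hs35.out
                      have := hs45.out
                      have := ha00.out
                      have := ha11.out
                      have := ha22.out
                      have := ha33.out
                      have := ha44.out
                      have := ha55.out
                      have := gw01.out
                      have := gw02.out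
                      have := gw03.out
                      have := gw04.out
                      have := gw05.out
                      have := gw12.out
                      have := gw13.out
                      have := gw14.out
                      have := gw15.out
                      have := gw23.out
                      have := gw24.out
                      have := gw25.out
                      have := gw34.out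
                      have := gw35.out
                      have := gw45.out
                      exact ⟨p012345, T.m 0, T.w 0, Or.inl ((show T.m 0 = T.m 0 ∧ T.m 1 = T.m 0 ∧ T.m 2 = T.m 0 ∧ T.m 3 = T.m 0 ∧ T.m 4 = T.m 0 ∧ T.m 5 = T.m 0 ∧ T.w 0 = T.w 0 ∧ T.w 1 = T.w 0 ∧ T.w 2 = T.w 0 ∧ T.w 3 = T.w 0 ∧ T.w 4 = T.w 0 ∧ T.w 5 = T.w 0 ∧ T.a 0 0 = -2 * T.w 0 ∧ T.a 0 1 = T.w 0 ∧ T.a 0 2 = 0 ∧ T.a 0 3 = 0 ∧ T.a 0 4 = 0 ∧ T.a 0 5 = T.w 0 ∧ T.a 1 1 = -2 * T.w 0 ∧ T.a 1 2 = T.w 0 ∧ T.a 1 3 = 0 ∧ T.a 1 4 = 0 ∧ T.a 1 5 = 0 ∧ T.a 2 2 = -2 * T.w 0 ∧ T.a 2 3 = T.w 0 ∧ T.a 2 4 = 0 ∧ T.a 2 5 = 0 ∧ T.a 3 3 = -2 * T.w 0 ∧ T.a 3 4 = T.w 0 ∧ T.a 3 5 = 0 ∧ T.a 4 4 = -2 * T.w 0 ∧ T.a 4 5 = T.w 0 ∧ T.a 5 5 = -2 * T.w 0 from by omega))⟩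
                    · (have := hm3.out; have := om1.out; have := e0.out; have := e4.out; have := e5.out; omega)
                    · (have := hm1.out; have := e0.out; have := e2.out; have := e3.out; have := e4.out; have := e5.out; omega)
                    · (have := hm1.out; have := e1.out; have := e3.out; have := e4.out; have := e5.out; omega)
                    · (have := hm2.out; have := e0.out; have := e2.out; have := e4.out; have := e5.out; omega)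
                  · (have := hm4.out; have := om1.out; have := om2.out; have := e0.out; have := e3.out; have := e5.out; have := r54.out; omega)
                  · (have := hm0.out; have := om2.out; have := e0.out; have := e2.out; have := e5.out; have := r54.out; omega)
                  · (have := hm0.out; have := om1.out; have := e2.out; have := e3.out; have := e4.out; have := r45.out; have := e5.out; have := r54.out; omega)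
                · have t := pc1 q35 c35.out (by have := v3.out; omega)
                  clear c35
                  rcases t with ⟨⟨⟨rfl, rfl⟩, gw35, ⟨rfl, rfl⟩⟩, rfl⟩ | ⟨⟨⟨rfl, rfl⟩, gw35, ⟨rfl, rfl⟩⟩, rfl⟩
                  · have t := pc2 q45 c45.out (by have := v4.out; omega)
                    clear c45
                    rcases t with ⟨⟨⟨rfl, rfl⟩, gw45, ⟨rfl, rfl⟩⟩, rfl⟩ | ⟨⟨⟨rfl, rfl⟩, gw45, ⟨rfl, rfl⟩⟩, rfl⟩ | ⟨⟨⟨rfl, rfl⟩, gw45, ⟨rfl, rfl⟩⟩, rfl⟩ | ⟨⟨⟨rfl, rfl⟩, gw45, ⟨rfl, rfl⟩⟩, rfl⟩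
                    · (have := hm0.out; have := om5.out; have := e5.out; omega)
                    · (have := hm1.out; have := e0.out; have := e2.out; have := e3.out; have := e4.out; have := e5.out; omega)
                    · (have := hm0.out; have := om2.out; have := e3.out; have := e4.out; have := e5.out; omega)
                    · (have := hm1.out; have := e1.out; have := e3.out; have := e4.out; have := e5.out; omega)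
                  · (have := hm4.out; have := om1.out; have := om2.out; have := e0.out; have := e3.out; have := e5.out; have := r54.out; omega)
                · (have := hm5.out; have := om4.out; have := om5.out; have := e0.out; have := e1.out; have := e2.out; have := e3.out; have := r35.out; omega)
                · (have := hm1.out; have := e2.out; have := e3.out; have := r35.out; have := e4.out; have := r45.out; omega)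
                · (have := hm1.out; have := e2.out; have := e3.out; have := r35.out; have := e4.out; have := r45.out; omega)
              · (have := hm3.out; have := om1.out; have := e0.out; have := e2.out; have := e5.out; have := r53.out; have := r54.out; omega)
              · (have := hm2.out; have := om1.out; have := e0.out; have := e1.out; have := e5.out; have := r53.out; have := r54.out; omega)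
              · (have := hm0.out; have := e1.out; have := e2.out; have := e3.out; have := r34.out; have := r35.out; have := e5.out; have := r53.out; have := r54.out; omega)
            · (have := hm3.out; have := om4.out; have := om5.out; have := e0.out; have := e1.out; have := e2.out; have := r25.out; omega)
            · (have := hm3.out; have := om4.out; have := om5.out; have := e0.out; have := e1.out; have := e2.out; have := r25.out; omega)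
            · (have := hm4.out; have := om3.out; have := om5.out; have := e0.out; have := e1.out; have := e2.out; have := r25.out; omega)
          · have t := pc1 q24 c24.out (by have := v2.out; have := qn25.out; omega)
            clear c24
            rcases t with ⟨⟨⟨rfl, rfl⟩, gw24, ⟨rfl, rfl⟩⟩, rfl⟩ | ⟨⟨⟨rfl, rfl⟩, gw24, ⟨rfl, rfl⟩⟩, rfl⟩
            · have t := pc1 q25 c25.out (by have := v2.out; omega)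
              clear c25
              rcases t with ⟨⟨⟨rfl, rfl⟩, gw25, ⟨rfl, rfl⟩⟩, rfl⟩ | ⟨⟨⟨rfl, rfl⟩, gw25, ⟨rfl, rfl⟩⟩, rfl⟩
              · have t := pc2 q34 c34.out (by have := v3.out; have := qn35.out; omega)
                clear c34
                rcases t with ⟨⟨⟨rfl, rfl⟩, gw34, ⟨rfl, rfl⟩⟩, rfl⟩ | ⟨⟨⟨rfl, rfl⟩, gw34, ⟨rfl, rfl⟩⟩, rfl⟩ | ⟨⟨⟨rfl, rfl⟩, gw34, ⟨rfl, rfl⟩⟩, rfl⟩ | ⟨⟨⟨rfl, rfl⟩, gw34, ⟨rfl, rfl⟩⟩, rfl⟩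
                · (have := od4.out; omega)
                · (have := hm4.out; have := om5.out; have := e0.out; have := e1.out; have := e2.out; have := e3.out; have := r35.out; omega)
                · (have := hm4.out; have := om5.out; have := e0.out; have := e1.out; have := e2.out; have := e3.out; have := r35.out; omega)
                · (have := hm4.out; have := om5.out; have := e0.out; have := e1.out; have := e2.out; have := e3.out; have := r35.out; omega)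
              · (have := hm0.out; have := e1.out; have := e2.out; have := e3.out; have := r34.out; have := r35.out; have := e5.out; have := r53.out; have := r54.out; omega)
            · (have := hm3.out; have := om4.out; have := om5.out; have := e0.out; have := e1.out; have := e2.out; have := r25.out; omega)
          · (have := hm5.out; have := om3.out; have := om5.out; have := e0.out; have := e1.out; have := e2.out; have := r24.out; have := r25.out; omega)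
          · (have := hm0.out; have := e1.out; have := e2.out; have := r24.out; have := r25.out; have := e3.out; have := r34.out; have := r35.out; omega)
          · (have := hm0.out; have := e1.out; have := e2.out; have := r24.out; have := r25.out; have := e3.out; have := r34.out; have := r35.out; omega)
        · (have := hm2.out; have := om5.out; have := e0.out; have := e1.out; omega)
        · (have := hm2.out; have := om5.out; have := e0.out; have := e1.out; omega)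
        · (have := hm1.out; have := om2.out; have := e0.out; have := e1.out; have := e5.out; have := r52.out; have := r53.out; have := r54.out; omega)
      · (have := hm2.out; have := om4.out; have := om5.out; have := e0.out; have := e1.out; have := r15.out; omega)
      · (have := hm2.out; have := om4.out; have := om5.out; have := e0.out; have := e1.out; have := r15.out; omega)
      · (have := hm5.out; have := om2.out; have := om4.out; have := e0.out; have := e1.out; have := r15.out; omega)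
    · (have := hm2.out; have := om3.out; have := om5.out; have := e0.out; have := e1.out; have := r14.out; have := r15.out; omega)
    · (have := hm2.out; have := om3.out; have := om5.out; have := e0.out; have := e1.out; have := r14.out; have := r15.out; omega)
    · (have := hm5.out; have := om2.out; have := om3.out; have := e0.out; have := e1.out; have := r14.out; have := r15.out; omega)
  · have t := pc1 q13 c13.out (by have := v1.out; have := qn14.out; have := qn15.out; omega)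
    clear c13
    rcases t with ⟨⟨⟨rfl, rfl⟩, gw13, ⟨rfl, rfl⟩⟩, rfl⟩ | ⟨⟨⟨rfl, rfl⟩, gw13, ⟨rfl, rfl⟩⟩, rfl⟩
    · have t := pc1 q14 c14.out (by have := v1.out; have := qn15.out; omega)
      clear c14
      rcases t with ⟨⟨⟨rfl, rfl⟩, gw14, ⟨rfl, rfl⟩⟩, rfl⟩ | ⟨⟨⟨rfl, rfl⟩, gw14, ⟨rfl, rfl⟩⟩, rfl⟩
      · have t := pc1 q15 c15.out (by have := v1.out; omega)
        clear c15
        rcases t with ⟨⟨⟨rfl, rfl⟩, gw15, ⟨rfl, rfl⟩⟩, rfl⟩ | ⟨⟨⟨rfl, rfl⟩, gw15, ⟨rfl, rfl⟩⟩, rfl⟩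
        · have t := pc2 q23 c23.out (by have := v2.out; have := qn24.out; have := qn25.out; omega)
          clear c23
          rcases t with ⟨⟨⟨rfl, rfl⟩, gw23, ⟨rfl, rfl⟩⟩, rfl⟩ | ⟨⟨⟨rfl, rfl⟩, gw23, ⟨rfl, rfl⟩⟩, rfl⟩ | ⟨⟨⟨rfl, rfl⟩, gw23, ⟨rfl, rfl⟩⟩, rfl⟩ | ⟨⟨⟨rfl, rfl⟩, gw23, ⟨rfl, rfl⟩⟩, rfl⟩
          · (have := od3.out; omega)
          · (have := hm3.out; have := om5.out; have := e0.out; have := e1.out; have := e2.out; have := r24.out; have := r25.out; omega)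
          · (have := hm3.out; have := om5.out; have := e0.out; have := e1.out; have := e2.out; have := r24.out; have := r25.out; omega)
          · (have := hm0.out; have := e1.out; have := e2.out; have := r24.out; have := r25.out; have := e3.out; have := r34.out; have := r35.out; omega)
        · (have := hm2.out; have := om5.out; have := e0.out; have := e1.out; omega)
      · (have := hm2.out; have := om4.out; have := om5.out; have := e0.out; have := e1.out; have := r15.out; omega)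
    · (have := hm2.out; have := om3.out; have := om5.out; have := e0.out; have := e1.out; have := r14.out; have := r15.out; omega)
  · (have := hm5.out; have := om2.out; have := om5.out; have := e0.out; have := e1.out; have := r13.out; have := r14.out; have := r15.out; omega)
  · (have := hm5.out; have := e0.out; have := e1.out; have := r13.out; have := r14.out; have := r15.out; have := e2.out; have := r23.out; have := r24.out; have := r25.out; omega)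
  · (have := hm5.out; have := om2.out; have := e0.out; have := e1.out; have := r13.out; have := r14.out; have := r15.out; omega)

set_option maxHeartbeats 0 in
theorem part12 (T : Models.NumericalType 6) (α12 α13 α14 α15 α21 α23 α24 α25 α31 α32 α34 α35 α41 α42 α43 α45 α51 α52 α53 α54 x12 x13 x14 x15 x21 x23 x24 x25 x31 x32 x34 x35 x41 x42 x43 x45 x51 x52 x53 x54 q12 q13 q14 q15 q23 q24 q25 q34 q35 q45 : ℤ)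
    (hm0 : Hide (0 < T.m 0))
    (hm1 : Hide (0 < T.m 1))
    (hm2 : Hide (0 < T.m 2))
    (hm3 : Hide (0 < T.m 3))
    (hm4 : Hide (0 < T.m 4))
    (hm5 : Hide (0 < T.m 5))
    (om1 : Hide (T.m 0 ≤ T.m 1))
    (om2 : Hide (T.m 0 ≤ T.m 2))
    (om3 : Hide (T.m 0 ≤ T.m 3))
    (om4 : Hide (T.m 0 ≤ T.m 4))
    (om5 : Hide (T.m 0 ≤ T.m 5))
    (e0 : Hide (T.m 1 + (0 : ℤ) + (0 : ℤ) + (0 : ℤ) + T.m 5 = 2 * T.m 0))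
    (e1 : Hide (T.m 0 + x12 + x13 + x14 + x15 = 2 * T.m 1))
    (e2 : Hide ((0 : ℤ) + x21 + x23 + x24 + x25 = 2 * T.m 2))
    (e3 : Hide ((0 : ℤ) + x31 + x32 + x34 + x35 = 2 * T.m 3))
    (e4 : Hide ((0 : ℤ) + x41 + x42 + x43 + x45 = 2 * T.m 4))
    (e5 : Hide (2 * T.m 0 + x51 + x52 + x53 + x54 = 2 * T.m 5))
    (r01 : Hide (0 ≤ T.m 1))
    (r02 : Hide (0 ≤ (0 : ℤ)))
    (r03 : Hide (0 ≤ (0 : ℤ)))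
    (r04 : Hide (0 ≤ (0 : ℤ)))
    (r05 : Hide (0 ≤ T.m 5))
    (r10 : Hide (0 ≤ T.m 0))
    (r12 : Hide (0 ≤ x12))
    (r13 : Hide (0 ≤ x13))
    (r14 : Hide (0 ≤ x14))
    (r15 : Hide (0 ≤ x15))
    (r20 : Hide (0 ≤ (0 : ℤ)))
    (r21 : Hide (0 ≤ x21))
    (r23 : Hide (0 ≤ x23))
    (r24 : Hide (0 ≤ x24))
    (r25 : Hide (0 ≤ x25))
    (r30 : Hide (0 ≤ (0 : ℤ)))
    (r31 : Hide (0 ≤ x31))
    (r32 : Hide (0 ≤ x32))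
    (r34 : Hide (0 ≤ x34))
    (r35 : Hide (0 ≤ x35))
    (r40 : Hide (0 ≤ (0 : ℤ)))
    (r41 : Hide (0 ≤ x41))
    (r42 : Hide (0 ≤ x42))
    (r43 : Hide (0 ≤ x43))
    (r45 : Hide (0 ≤ x45))
    (r50 : Hide (0 ≤ 2 * T.m 0))
    (r51 : Hide (0 ≤ x51))
    (r52 : Hide (0 ≤ x52))
    (r53 : Hide (0 ≤ x53))
    (r54 : Hide (0 ≤ x54))
    (hw0 : Hide (0 < T.w 0))
    (hw1 : Hide (0 < T.w 1))
    (hw2 : Hide (0 < T.w 2))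
    (hw3 : Hide (0 < T.w 3))
    (hw4 : Hide (0 < T.w 4))
    (hw5 : Hide (0 < T.w 5))
    (hs01 : Hide (T.a 0 1 = T.a 1 0))
    (hs02 : Hide (T.a 0 2 = T.a 2 0))
    (hs03 : Hide (T.a 0 3 = T.a 3 0))
    (hs04 : Hide (T.a 0 4 = T.a 4 0))
    (hs05 : Hide (T.a 0 5 = T.a 5 0))
    (hs12 : Hide (T.a 1 2 = T.a 2 1))
    (hs13 : Hide (T.a 1 3 = T.a 3 1))
    (hs14 : Hide (T.a 1 4 = T.a 4 1))
    (hs15 : Hide (T.a 1 5 = T.a 5 1))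
    (hs23 : Hide (T.a 2 3 = T.a 3 2))
    (hs24 : Hide (T.a 2 4 = T.a 4 2))
    (hs25 : Hide (T.a 2 5 = T.a 5 2))
    (hs34 : Hide (T.a 3 4 = T.a 4 3))
    (hs35 : Hide (T.a 3 5 = T.a 5 3))
    (hs45 : Hide (T.a 4 5 = T.a 5 4))
    (ha00 : Hide (T.a 0 0 = -2 * T.w 0))
    (ha11 : Hide (T.a 1 1 = -2 * T.w 1))
    (ha22 : Hide (T.a 2 2 = -2 * T.w 2))
    (ha33 : Hide (T.a 3 3 = -2 * T.w 3))
    (ha44 : Hide (T.a 4 4 = -2 * T.w 4))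
    (ha55 : Hide (T.a 5 5 = -2 * T.w 5))
    (v0 : Hide ((1 : ℤ) + (0 : ℤ) + (0 : ℤ) + (0 : ℤ) + (2 : ℤ) ≤ 4))
    (v1 : Hide ((1 : ℤ) + q12 + q13 + q14 + q15 ≤ 4))
    (v2 : Hide ((0 : ℤ) + q12 + q23 + q24 + q25 ≤ 4))
    (v3 : Hide ((0 : ℤ) + q13 + q23 + q34 + q35 ≤ 4))
    (v4 : Hide ((0 : ℤ) + q14 + q24 + q34 + q45 ≤ 4))
    (v5 : Hide ((2 : ℤ) + q15 + q25 + q35 + q45 ≤ 4))
    (qn01 : Hide (0 ≤ (1 : ℤ)))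
    (qn02 : Hide (0 ≤ (0 : ℤ)))
    (qn03 : Hide (0 ≤ (0 : ℤ)))
    (qn04 : Hide (0 ≤ (0 : ℤ)))
    (qn05 : Hide (0 ≤ (2 : ℤ)))
    (qn12 : Hide (0 ≤ q12))
    (qn13 : Hide (0 ≤ q13))
    (qn14 : Hide (0 ≤ q14))
    (qn15 : Hide (0 ≤ q15))
    (qn23 : Hide (0 ≤ q23))
    (qn24 : Hide (0 ≤ q24))
    (qn25 : Hide (0 ≤ q25))
    (qn34 : Hide (0 ≤ q34))
    (qn35 : Hide (0 ≤ q35))
    (qn45 : Hide (0 ≤ q45))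
    (od1 : Hide (0 < (1 : ℤ)))
    (od2 : Hide (0 < (0 : ℤ) + α12))
    (od3 : Hide (0 < (0 : ℤ) + α13 + α23))
    (od4 : Hide (0 < (0 : ℤ) + α14 + α24 + α34))
    (od5 : Hide (0 < (1 : ℤ) + α15 + α25 + α35 + α45))
    (c12 : Hide (((Hide (x12 = 0 ∧ x21 = 0) ∧ Hide (T.a 1 2 = 0 ∧ T.a 2 1 = 0) ∧ Hide (α12 = 0 ∧ α21 = 0)) ∧ q12 = 0) ∨ ((Hide (x12 = T.m 2 ∧ x21 = T.m 1) ∧ Hide (T.a 1 2 = T.w 1 ∧ T.a 2 1 = T.w 2) ∧ Hide (α12 = 1 ∧ α21 = 1)) ∧ q12 = 1) ∨ ((Hide (x12 = T.m 2 ∧ x21 = 2 * T.m 1) ∧ Hide (T.a 1 2 = T.w 1 ∧ T.a 2 1 = 2 * T.w 2) ∧ Hide (α12 = 1 ∧ α21 = 2)) ∧ q12 = 2) ∨ ((Hide (x12 = 2 * T.m 2 ∧ x21 = T.m 1) ∧ Hide (T.a 1 2 = 2 * T.w 1 ∧ T.a 2 1 = T.w 2) ∧ Hide (α12 = 2 ∧ α21 = 1)) ∧ q12 = 2) ∨ ((Hide (x12 = T.m 2 ∧ x21 = 3 * T.m 1) ∧ Hide (T.a 1 2 = T.w 1 ∧ T.a 2 1 = 3 * T.w 2) ∧ Hide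 (α12 = 1 ∧ α21 = 3)) ∧ q12 = 3) ∨ ((Hide (x12 = 3 * T.m 2 ∧ x21 = T.m 1) ∧ Hide (T.a 1 2 = 3 * T.w 1 ∧ T.a 2 1 = T.w 2) ∧ Hide (α12 = 3 ∧ α21 = 1)) ∧ q12 = 3) ∨ ((Hide (x12 = T.m 2 ∧ x21 = 4 * T.m 1) ∧ Hide (T.a 1 2 = T.w 1 ∧ T.a 2 1 = 4 * T.w 2) ∧ Hide (α12 = 1 ∧ α21 = 4)) ∧ q12 = 4) ∨ ((Hide (x12 = 4 * T.m 2 ∧ x21 = T.m 1) ∧ Hide (T.a 1 2 = 4 * T.w 1 ∧ T.a 2 1 = T.w 2) ∧ Hide (α12 = 4 ∧ α21 = 1)) ∧ q12 = 4) ∨ ((Hide (x12 = 2 * T.m 2 ∧ x21 = 2 * T.m 1) ∧ Hide (T.a 1 2 = 2 * T.w 1 ∧ T.a 2 1 = 2 * T.w 2) ∧ Hide (α12 = 2 ∧ α21 = 2)) ∧ q12 = 4)))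
    (c13 : Hide (((Hide (x13 = 0 ∧ x31 = 0) ∧ Hide (T.a 1 3 = 0 ∧ T.a 3 1 = 0) ∧ Hide (α13 = 0 ∧ α31 = 0)) ∧ q13 = 0) ∨ ((Hide (x13 = T.m 3 ∧ x31 = T.m 1) ∧ Hide (T.a 1 3 = T.w 1 ∧ T.a 3 1 = T.w 3) ∧ Hide (α13 = 1 ∧ α31 = 1)) ∧ q13 = 1) ∨ ((Hide (x13 = T.m 3 ∧ x31 = 2 * T.m 1) ∧ Hide (T.a 1 3 = T.w 1 ∧ T.a 3 1 = 2 * T.w 3) ∧ Hide (α13 = 1 ∧ α31 = 2)) ∧ q13 = 2) ∨ ((Hide (x13 = 2 * T.m 3 ∧ x31 = T.m 1) ∧ Hide (T.a 1 3 = 2 * T.w 1 ∧ T.a 3 1 = T.w 3) ∧ Hide (α13 = 2 ∧ α31 = 1)) ∧ q13 = 2) ∨ ((Hide (x13 = T.m 3 ∧ x31 = 3 * T.m 1) ∧ Hide (T.a 1 3 = T.w 1 ∧ T.a 3 1 = 3 * T.w 3) ∧ Hide (α13 = 1 ∧ α31 = 3)) ∧ q13 = 3) ∨ ((Hide (x13 = 3 * T.m 3 ∧ x31 = T.m 1) ∧ Hide (T.a 1 3 = 3 * T.w 1 ∧ T.a 3 1 = T.w 3) ∧ Hide (α13 = 3 ∧ α31 = 1)) ∧ q13 = 3) ∨ ((Hide (x13 = T.m 3 ∧ x31 = 4 * T.m 1) ∧ Hide (T.a 1 3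 = T.w 1 ∧ T.a 3 1 = 4 * T.w 3) ∧ Hide (α13 = 1 ∧ α31 = 4)) ∧ q13 = 4) ∨ ((Hide (x13 = 4 * T.m 3 ∧ x31 = T.m 1) ∧ Hide (T.a 1 3 = 4 * T.w 1 ∧ T.a 3 1 = T.w 3) ∧ Hide (α13 = 4 ∧ α31 = 1)) ∧ q13 = 4) ∨ ((Hide (x13 = 2 * T.m 3 ∧ x31 = 2 * T.m 1) ∧ Hide (T.a 1 3 = 2 * T.w 1 ∧ T.a 3 1 = 2 * T.w 3) ∧ Hide (α13 = 2 ∧ α31 = 2)) ∧ q13 = 4)))
    (c14 : Hide (((Hide (x14 = 0 ∧ x41 = 0) ∧ Hide (T.a 1 4 = 0 ∧ T.a 4 1 = 0) ∧ Hide (α14 = 0 ∧ α41 = 0)) ∧ q14 = 0) ∨ ((Hide (x14 = T.m 4 ∧ x41 = T.m 1) ∧ Hide (T.a 1 4 = T.w 1 ∧ T.a 4 1 = T.w 4) ∧ Hide (α14 = 1 ∧ α41 = 1)) ∧ q14 = 1) ∨ ((Hide (x14 = T.m 4 ∧ x41 = 2 * T.m 1) ∧ Hide (T.a 1 4 = T.w 1 ∧ T.a 4 1 = 2 * T.w 4) ∧ Hide (α14 = 1 ∧ α41 = 2)) ∧ q14 = 2) ∨ ((Hide (x14 = 2 * T.m 4 ∧ x41 = T.m 1) ∧ Hide (T.a 1 4 = 2 * T.w 1 ∧ T.a 4 1 = T.w 4) ∧ Hide (α14 = 2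 ∧ α41 = 1)) ∧ q14 = 2) ∨ ((Hide (x14 = T.m 4 ∧ x41 = 3 * T.m 1) ∧ Hide (T.a 1 4 = T.w 1 ∧ T.a 4 1 = 3 * T.w 4) ∧ Hide (α14 = 1 ∧ α41 = 3)) ∧ q14 = 3) ∨ ((Hide (x14 = 3 * T.m 4 ∧ x41 = T.m 1) ∧ Hide (T.a 1 4 = 3 * T.w 1 ∧ T.a 4 1 = T.w 4) ∧ Hide (α14 = 3 ∧ α41 = 1)) ∧ q14 = 3) ∨ ((Hide (x14 = T.m 4 ∧ x41 = 4 * T.m 1) ∧ Hide (T.a 1 4 = T.w 1 ∧ T.a 4 1 = 4 * T.w 4) ∧ Hide (α14 = 1 ∧ α41 = 4)) ∧ q14 = 4) ∨ ((Hide (x14 = 4 * T.m 4 ∧ x41 = T.m 1) ∧ Hide (T.a 1 4 = 4 * T.w 1 ∧ T.a 4 1 = T.w 4) ∧ Hide (α14 = 4 ∧ α41 = 1)) ∧ q14 = 4) ∨ ((Hide (x14 = 2 * T.m 4 ∧ x41 = 2 * T.m 1) ∧ Hide (T.a 1 4 = 2 * T.w 1 ∧ T.a 4 1 = 2 * T.w 4) ∧ Hide (α14 = 2 ∧ α41 = 2)) ∧ q14 = 4)))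
    (c15 : Hide (((Hide (x15 = 0 ∧ x51 = 0) ∧ Hide (T.a 1 5 = 0 ∧ T.a 5 1 = 0) ∧ Hide (α15 = 0 ∧ α51 = 0)) ∧ q15 = 0) ∨ ((Hide (x15 = T.m 5 ∧ x51 = T.m 1) ∧ Hide (T.a 1 5 = T.w 1 ∧ T.a 5 1 = T.w 5) ∧ Hide (α15 = 1 ∧ α51 = 1)) ∧ q15 = 1) ∨ ((Hide (x15 = T.m 5 ∧ x51 = 2 * T.m 1) ∧ Hide (T.a 1 5 = T.w 1 ∧ T.a 5 1 = 2 * T.w 5) ∧ Hide (α15 = 1 ∧ α51 = 2)) ∧ q15 = 2) ∨ ((Hide (x15 = 2 * T.m 5 ∧ x51 = T.m 1) ∧ Hide (T.a 1 5 = 2 * T.w 1 ∧ T.a 5 1 = T.w 5) ∧ Hide (α15 = 2 ∧ α51 = 1)) ∧ q15 = 2) ∨ ((Hide (x15 = T.m 5 ∧ x51 = 3 * T.m 1) ∧ Hide (T.a 1 5 = T.w 1 ∧ T.a 5 1 = 3 * T.w 5) ∧ Hide (α15 = 1 ∧ α51 = 3)) ∧ q15 = 3) ∨ ((Hide (x15 = 3 * T.m 5 ∧ x51 = T.m 1) ∧ Hide (T.a 1 5 = 3 * T.w 1 ∧ T.a 5 1 = T.w 5) ∧ Hide (α15 = 3 ∧ α51 = 1)) ∧ q15 = 3) ∨ ((Hide (x15 = T.m 5 ∧ x51 = 4 * T.m 1) ∧ Hide (T.a 1 5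 = T.w 1 ∧ T.a 5 1 = 4 * T.w 5) ∧ Hide (α15 = 1 ∧ α51 = 4)) ∧ q15 = 4) ∨ ((Hide (x15 = 4 * T.m 5 ∧ x51 = T.m 1) ∧ Hide (T.a 1 5 = 4 * T.w 1 ∧ T.a 5 1 = T.w 5) ∧ Hide (α15 = 4 ∧ α51 = 1)) ∧ q15 = 4) ∨ ((Hide (x15 = 2 * T.m 5 ∧ x51 = 2 * T.m 1) ∧ Hide (T.a 1 5 = 2 * T.w 1 ∧ T.a 5 1 = 2 * T.w 5) ∧ Hide (α15 = 2 ∧ α51 = 2)) ∧ q15 = 4)))
    (c23 : Hide (((Hide (x23 = 0 ∧ x32 = 0) ∧ Hide (T.a 2 3 = 0 ∧ T.a 3 2 = 0) ∧ Hide (α23 = 0 ∧ α32 = 0)) ∧ q23 = 0) ∨ ((Hide (x23 = T.m 3 ∧ x32 = T.m 2) ∧ Hide (T.a 2 3 = T.w 2 ∧ T.a 3 2 = T.w 3) ∧ Hide (α23 = 1 ∧ α32 = 1)) ∧ q23 = 1) ∨ ((Hide (x23 = T.m 3 ∧ x32 = 2 * T.m 2) ∧ Hide (T.a 2 3 = T.w 2 ∧ T.a 3 2 = 2 * T.w 3) ∧ Hide (α23 = 1 ∧ α32 = 2)) ∧ q23 = 2) ∨ ((Hide (x23 = 2 * T.m 3 ∧ x32 = T.m 2) ∧ Hide (T.a 2 3 = 2 * T.w 2 ∧ T.a 3 2 = T.w 3) ∧ Hide (α23 = 2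 ∧ α32 = 1)) ∧ q23 = 2) ∨ ((Hide (x23 = T.m 3 ∧ x32 = 3 * T.m 2) ∧ Hide (T.a 2 3 = T.w 2 ∧ T.a 3 2 = 3 * T.w 3) ∧ Hide (α23 = 1 ∧ α32 = 3)) ∧ q23 = 3) ∨ ((Hide (x23 = 3 * T.m 3 ∧ x32 = T.m 2) ∧ Hide (T.a 2 3 = 3 * T.w 2 ∧ T.a 3 2 = T.w 3) ∧ Hide (α23 = 3 ∧ α32 = 1)) ∧ q23 = 3) ∨ ((Hide (x23 = T.m 3 ∧ x32 = 4 * T.m 2) ∧ Hide (T.a 2 3 = T.w 2 ∧ T.a 3 2 = 4 * T.w 3) ∧ Hide (α23 = 1 ∧ α32 = 4)) ∧ q23 = 4) ∨ ((Hide (x23 = 4 * T.m 3 ∧ x32 = T.m 2) ∧ Hide (T.a 2 3 = 4 * T.w 2 ∧ T.a 3 2 = T.w 3) ∧ Hide (α23 = 4 ∧ α32 = 1)) ∧ q23 = 4) ∨ ((Hide (x23 = 2 * T.m 3 ∧ x32 = 2 * T.m 2) ∧ Hide (T.a 2 3 = 2 * T.w 2 ∧ T.a 3 2 = 2 * T.w 3) ∧ Hide (α23 = 2 ∧ α32 = 2)) ∧ q23 = 4)))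
    (c24 : Hide (((Hide (x24 = 0 ∧ x42 = 0) ∧ Hide (T.a 2 4 = 0 ∧ T.a 4 2 = 0) ∧ Hide (α24 = 0 ∧ α42 = 0)) ∧ q24 = 0) ∨ ((Hide (x24 = T.m 4 ∧ x42 = T.m 2) ∧ Hide (T.a 2 4 = T.w 2 ∧ T.a 4 2 = T.w 4) ∧ Hide (α24 = 1 ∧ α42 = 1)) ∧ q24 = 1) ∨ ((Hide (x24 = T.m 4 ∧ x42 = 2 * T.m 2) ∧ Hide (T.a 2 4 = T.w 2 ∧ T.a 4 2 = 2 * T.w 4) ∧ Hide (α24 = 1 ∧ α42 = 2)) ∧ q24 = 2) ∨ ((Hide (x24 = 2 * T.m 4 ∧ x42 = T.m 2) ∧ Hide (T.a 2 4 = 2 * T.w 2 ∧ T.a 4 2 = T.w 4) ∧ Hide (α24 = 2 ∧ α42 = 1)) ∧ q24 = 2) ∨ ((Hide (x24 = T.m 4 ∧ x42 = 3 * T.m 2) ∧ Hide (T.a 2 4 = T.w 2 ∧ T.a 4 2 = 3 * T.w 4) ∧ Hide (α24 = 1 ∧ α42 = 3)) ∧ q24 = 3) ∨ ((Hide (x24 = 3 * T.m 4 ∧ x42 = T.m 2) ∧ Hide (T.a 2 4 = 3 * T.w 2 ∧ T.a 4 2 = T.w 4) ∧ Hide (α24 = 3 ∧ α42 = 1)) ∧ q24 = 3) ∨ ((Hide (x24 = T.m 4 ∧ x42 = 4 * T.m 2) ∧ Hide (T.a 2 4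 = T.w 2 ∧ T.a 4 2 = 4 * T.w 4) ∧ Hide (α24 = 1 ∧ α42 = 4)) ∧ q24 = 4) ∨ ((Hide (x24 = 4 * T.m 4 ∧ x42 = T.m 2) ∧ Hide (T.a 2 4 = 4 * T.w 2 ∧ T.a 4 2 = T.w 4) ∧ Hide (α24 = 4 ∧ α42 = 1)) ∧ q24 = 4) ∨ ((Hide (x24 = 2 * T.m 4 ∧ x42 = 2 * T.m 2) ∧ Hide (T.a 2 4 = 2 * T.w 2 ∧ T.a 4 2 = 2 * T.w 4) ∧ Hide (α24 = 2 ∧ α42 = 2)) ∧ q24 = 4)))
    (c25 : Hide (((Hide (x25 = 0 ∧ x52 = 0) ∧ Hide (T.a 2 5 = 0 ∧ T.a 5 2 = 0) ∧ Hide (α25 = 0 ∧ α52 = 0)) ∧ q25 = 0) ∨ ((Hide (x25 = T.m 5 ∧ x52 = T.m 2) ∧ Hide (T.a 2 5 = T.w 2 ∧ T.a 5 2 = T.w 5) ∧ Hide (α25 = 1 ∧ α52 = 1)) ∧ q25 = 1) ∨ ((Hide (x25 = T.m 5 ∧ x52 = 2 * T.m 2) ∧ Hide (T.a 2 5 = T.w 2 ∧ T.a 5 2 = 2 * T.w 5) ∧ Hide (α25 = 1 ∧ α52 = 2)) ∧ q25 = 2) ∨ ((Hide (x25 = 2 * T.m 5 ∧ x52 = T.m 2) ∧ Hide (T.a 2 5 = 2 * T.w 2 ∧ T.a 5 2 = T.w 5) ∧ Hide (α25 = 2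 ∧ α52 = 1)) ∧ q25 = 2) ∨ ((Hide (x25 = T.m 5 ∧ x52 = 3 * T.m 2) ∧ Hide (T.a 2 5 = T.w 2 ∧ T.a 5 2 = 3 * T.w 5) ∧ Hide (α25 = 1 ∧ α52 = 3)) ∧ q25 = 3) ∨ ((Hide (x25 = 3 * T.m 5 ∧ x52 = T.m 2) ∧ Hide (T.a 2 5 = 3 * T.w 2 ∧ T.a 5 2 = T.w 5) ∧ Hide (α25 = 3 ∧ α52 = 1)) ∧ q25 = 3) ∨ ((Hide (x25 = T.m 5 ∧ x52 = 4 * T.m 2) ∧ Hide (T.a 2 5 = T.w 2 ∧ T.a 5 2 = 4 * T.w 5) ∧ Hide (α25 = 1 ∧ α52 = 4)) ∧ q25 = 4) ∨ ((Hide (x25 = 4 * T.m 5 ∧ x52 = T.m 2) ∧ Hide (T.a 2 5 = 4 * T.w 2 ∧ T.a 5 2 = T.w 5) ∧ Hide (α25 = 4 ∧ α52 = 1)) ∧ q25 = 4) ∨ ((Hide (x25 = 2 * T.m 5 ∧ x52 = 2 * T.m 2) ∧ Hide (T.a 2 5 = 2 * T.w 2 ∧ T.a 5 2 = 2 * T.w 5) ∧ Hide (α25 = 2 ∧ α52 = 2)) ∧ q25 = 4)))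
    (c34 : Hide (((Hide (x34 = 0 ∧ x43 = 0) ∧ Hide (T.a 3 4 = 0 ∧ T.a 4 3 = 0) ∧ Hide (α34 = 0 ∧ α43 = 0)) ∧ q34 = 0) ∨ ((Hide (x34 = T.m 4 ∧ x43 = T.m 3) ∧ Hide (T.a 3 4 = T.w 3 ∧ T.a 4 3 = T.w 4) ∧ Hide (α34 = 1 ∧ α43 = 1)) ∧ q34 = 1) ∨ ((Hide (x34 = T.m 4 ∧ x43 = 2 * T.m 3) ∧ Hide (T.a 3 4 = T.w 3 ∧ T.a 4 3 = 2 * T.w 4) ∧ Hide (α34 = 1 ∧ α43 = 2)) ∧ q34 = 2) ∨ ((Hide (x34 = 2 * T.m 4 ∧ x43 = T.m 3) ∧ Hide (T.a 3 4 = 2 * T.w 3 ∧ T.a 4 3 = T.w 4) ∧ Hide (α34 = 2 ∧ α43 = 1)) ∧ q34 = 2) ∨ ((Hide (x34 = T.m 4 ∧ x43 = 3 * T.m 3) ∧ Hide (T.a 3 4 = T.w 3 ∧ T.a 4 3 = 3 * T.w 4) ∧ Hide (α34 = 1 ∧ α43 = 3)) ∧ q34 = 3) ∨ ((Hide (x34 = 3 * T.m 4 ∧ x43 = T.m 3) ∧ Hide (T.a 3 4 = 3 * T.w 3 ∧ T.a 4 3 = T.w 4) ∧ Hide (α34 = 3 ∧ α43 = 1)) ∧ q34 = 3) ∨ ((Hide (x34 = T.m 4 ∧ x43 = 4 * T.m 3) ∧ Hide (T.a 3 4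 = T.w 3 ∧ T.a 4 3 = 4 * T.w 4) ∧ Hide (α34 = 1 ∧ α43 = 4)) ∧ q34 = 4) ∨ ((Hide (x34 = 4 * T.m 4 ∧ x43 = T.m 3) ∧ Hide (T.a 3 4 = 4 * T.w 3 ∧ T.a 4 3 = T.w 4) ∧ Hide (α34 = 4 ∧ α43 = 1)) ∧ q34 = 4) ∨ ((Hide (x34 = 2 * T.m 4 ∧ x43 = 2 * T.m 3) ∧ Hide (T.a 3 4 = 2 * T.w 3 ∧ T.a 4 3 = 2 * T.w 4) ∧ Hide (α34 = 2 ∧ α43 = 2)) ∧ q34 = 4)))
    (c35 : Hide (((Hide (x35 = 0 ∧ x53 = 0) ∧ Hide (T.a 3 5 = 0 ∧ T.a 5 3 = 0) ∧ Hide (α35 = 0 ∧ α53 = 0)) ∧ q35 = 0) ∨ ((Hide (x35 = T.m 5 ∧ x53 = T.m 3) ∧ Hide (T.a 3 5 = T.w 3 ∧ T.a 5 3 = T.w 5) ∧ Hide (α35 = 1 ∧ α53 = 1)) ∧ q35 = 1) ∨ ((Hide (x35 = T.m 5 ∧ x53 = 2 * T.m 3) ∧ Hide (T.a 3 5 = T.w 3 ∧ T.a 5 3 = 2 * T.w 5) ∧ Hide (α35 = 1 ∧ α53 = 2)) ∧ q35 = 2) ∨ ((Hide (x35 = 2 * T.m 5 ∧ x53 = T.m 3) ∧ Hide (T.a 3 5 = 2 * T.w 3 ∧ T.a 5 3 = T.w 5) ∧ Hide (α35 = 2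 ∧ α53 = 1)) ∧ q35 = 2) ∨ ((Hide (x35 = T.m 5 ∧ x53 = 3 * T.m 3) ∧ Hide (T.a 3 5 = T.w 3 ∧ T.a 5 3 = 3 * T.w 5) ∧ Hide (α35 = 1 ∧ α53 = 3)) ∧ q35 = 3) ∨ ((Hide (x35 = 3 * T.m 5 ∧ x53 = T.m 3) ∧ Hide (T.a 3 5 = 3 * T.w 3 ∧ T.a 5 3 = T.w 5) ∧ Hide (α35 = 3 ∧ α53 = 1)) ∧ q35 = 3) ∨ ((Hide (x35 = T.m 5 ∧ x53 = 4 * T.m 3) ∧ Hide (T.a 3 5 = T.w 3 ∧ T.a 5 3 = 4 * T.w 5) ∧ Hide (α35 = 1 ∧ α53 = 4)) ∧ q35 = 4) ∨ ((Hide (x35 = 4 * T.m 5 ∧ x53 = T.m 3) ∧ Hide (T.a 3 5 = 4 * T.w 3 ∧ T.a 5 3 = T.w 5) ∧ Hide (α35 = 4 ∧ α53 = 1)) ∧ q35 = 4) ∨ ((Hide (x35 = 2 * T.m 5 ∧ x53 = 2 * T.m 3) ∧ Hide (T.a 3 5 = 2 * T.w 3 ∧ T.a 5 3 = 2 * T.w 5) ∧ Hide (α35 = 2 ∧ α53 = 2)) ∧ q35 = 4)))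
    (c45 : Hide (((Hide (x45 = 0 ∧ x54 = 0) ∧ Hide (T.a 4 5 = 0 ∧ T.a 5 4 = 0) ∧ Hide (α45 = 0 ∧ α54 = 0)) ∧ q45 = 0) ∨ ((Hide (x45 = T.m 5 ∧ x54 = T.m 4) ∧ Hide (T.a 4 5 = T.w 4 ∧ T.a 5 4 = T.w 5) ∧ Hide (α45 = 1 ∧ α54 = 1)) ∧ q45 = 1) ∨ ((Hide (x45 = T.m 5 ∧ x54 = 2 * T.m 4) ∧ Hide (T.a 4 5 = T.w 4 ∧ T.a 5 4 = 2 * T.w 5) ∧ Hide (α45 = 1 ∧ α54 = 2)) ∧ q45 = 2) ∨ ((Hide (x45 = 2 * T.m 5 ∧ x54 = T.m 4) ∧ Hide (T.a 4 5 = 2 * T.w 4 ∧ T.a 5 4 = T.w 5) ∧ Hide (α45 = 2 ∧ α54 = 1)) ∧ q45 = 2) ∨ ((Hide (x45 = T.m 5 ∧ x54 = 3 * T.m 4) ∧ Hide (T.a 4 5 = T.w 4 ∧ T.a 5 4 = 3 * T.w 5) ∧ Hide (α45 = 1 ∧ α54 = 3)) ∧ q45 = 3) ∨ ((Hide (x45 = 3 * T.m 5 ∧ x54 = T.m 4) ∧ Hide (T.a 4 5 = 3 * T.w 4 ∧ T.a 5 4 = T.w 5) ∧ Hide (α45 = 3 ∧ α54 = 1)) ∧ q45 = 3) ∨ ((Hide (x45 = T.m 5 ∧ x54 = 4 * T.m 4) ∧ Hide (T.a 4 5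 = T.w 4 ∧ T.a 5 4 = 4 * T.w 5) ∧ Hide (α45 = 1 ∧ α54 = 4)) ∧ q45 = 4) ∨ ((Hide (x45 = 4 * T.m 5 ∧ x54 = T.m 4) ∧ Hide (T.a 4 5 = 4 * T.w 4 ∧ T.a 5 4 = T.w 5) ∧ Hide (α45 = 4 ∧ α54 = 1)) ∧ q45 = 4) ∨ ((Hide (x45 = 2 * T.m 5 ∧ x54 = 2 * T.m 4) ∧ Hide (T.a 4 5 = 2 * T.w 4 ∧ T.a 5 4 = 2 * T.w 5) ∧ Hide (α45 = 2 ∧ α54 = 2)) ∧ q45 = 4)))
    (gw01 : Hide (T.a 0 1 = T.w 0 ∧ T.a 1 0 = T.w 1))
    (gw02 : Hide (T.a 0 2 = 0 ∧ T.a 2 0 = 0))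
    (gw03 : Hide (T.a 0 3 = 0 ∧ T.a 3 0 = 0))
    (gw04 : Hide (T.a 0 4 = 0 ∧ T.a 4 0 = 0))
    (gw05 : Hide (T.a 0 5 = T.w 0 ∧ T.a 5 0 = 2 * T.w 5)) : Goal T := by
  have t := pc3 q12 c12.out (by have := v1.out; have := qn13.out; have := qn14.out; have := qn15.out; omega)
  clear c12
  rcases t with ⟨⟨⟨rfl, rfl⟩, gw12, ⟨rfl, rfl⟩⟩, rfl⟩ | ⟨⟨⟨rfl, rfl⟩, gw12, ⟨rfl, rfl⟩⟩, rfl⟩ | ⟨⟨⟨rfl, rfl⟩, gw12, ⟨rfl, rfl⟩⟩, rfl⟩ | ⟨⟨⟨rfl, rfl⟩, gw12, ⟨rfl, rfl⟩⟩, rfl⟩ | ⟨⟨⟨rfl, rfl⟩, gw12, ⟨rfl, rfl⟩⟩, rfl⟩ | ⟨⟨⟨rfl, rfl⟩, gw12, ⟨rfl, rfl⟩⟩, rfl⟩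
  · (have := od2.out; omega)
  · have t := pc2 q13 c13.out (by have := v1.out; have := qn14.out; have := qn15.out; omega)
    clear c13
    rcases t with ⟨⟨⟨rfl, rfl⟩, gw13, ⟨rfl, rfl⟩⟩, rfl⟩ | ⟨⟨⟨rfl, rfl⟩, gw13, ⟨rfl, rfl⟩⟩, rfl⟩ | ⟨⟨⟨rfl, rfl⟩, gw13, ⟨rfl, rfl⟩⟩, rfl⟩ | ⟨⟨⟨rfl, rfl⟩, gw13, ⟨rfl, rfl⟩⟩, rfl⟩
    · have t := pc2 q14 c14.out (by have := v1.out; have := qn15.out; omega)
      clear c14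
      rcases t with ⟨⟨⟨rfl, rfl⟩, gw14, ⟨rfl, rfl⟩⟩, rfl⟩ | ⟨⟨⟨rfl, rfl⟩, gw14, ⟨rfl, rfl⟩⟩, rfl⟩ | ⟨⟨⟨rfl, rfl⟩, gw14, ⟨rfl, rfl⟩⟩, rfl⟩ | ⟨⟨⟨rfl, rfl⟩, gw14, ⟨rfl, rfl⟩⟩, rfl⟩
      · have t := pc2 q15 c15.out (by have := v1.out; omega)
        clear c15
        rcases t with ⟨⟨⟨rfl, rfl⟩, gw15, ⟨rfl, rfl⟩⟩, rfl⟩ | ⟨⟨⟨rfl, rfl⟩, gw15, ⟨rfl, rfl⟩⟩, rfl⟩ | ⟨⟨⟨rfl, rfl⟩, gw15, ⟨rfl, rfl⟩⟩, rfl⟩ | ⟨⟨⟨rfl, rfl⟩, gw15, ⟨rfl, rfl⟩⟩, rfl⟩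
        · have t := pc3 q23 c23.out (by have := v2.out; have := qn24.out; have := qn25.out; omega)
          clear c23
          rcases t with ⟨⟨⟨rfl, rfl⟩, gw23, ⟨rfl, rfl⟩⟩, rfl⟩ | ⟨⟨⟨rfl, rfl⟩, gw23, ⟨rfl, rfl⟩⟩, rfl⟩ | ⟨⟨⟨rfl, rfl⟩, gw23, ⟨rfl, rfl⟩⟩, rfl⟩ | ⟨⟨⟨rfl, rfl⟩, gw23, ⟨rfl, rfl⟩⟩, rfl⟩ | ⟨⟨⟨rfl, rfl⟩, gw23, ⟨rfl, rfl⟩⟩, rfl⟩ | ⟨⟨⟨rfl, rfl⟩, gw23, ⟨rfl, rfl⟩⟩, rfl⟩
          · (have := od3.out; omega)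
          · have t := pc2 q24 c24.out (by have := v2.out; have := qn25.out; omega)
            clear c24
            rcases t with ⟨⟨⟨rfl, rfl⟩, gw24, ⟨rfl, rfl⟩⟩, rfl⟩ | ⟨⟨⟨rfl, rfl⟩, gw24, ⟨rfl, rfl⟩⟩, rfl⟩ | ⟨⟨⟨rfl, rfl⟩, gw24, ⟨rfl, rfl⟩⟩, rfl⟩ | ⟨⟨⟨rfl, rfl⟩, gw24, ⟨rfl, rfl⟩⟩, rfl⟩
            · have t := pc2 q25 c25.out (by have := v2.out; omega)
              clear c25
              rcases t with ⟨⟨⟨rfl, rfl⟩, gw25, ⟨rfl, rfl⟩⟩, rfl⟩ | ⟨⟨⟨rfl, rfl⟩, gw25, ⟨rfl, rfl⟩⟩, rfl⟩ | ⟨⟨⟨rfl, rfl⟩, gw25, ⟨rfl, rfl⟩⟩, rfl⟩ | ⟨⟨⟨rfl, rfl⟩, gw25, ⟨rfl, rfl⟩⟩, rfl⟩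
              · have t := pc3 q34 c34.out (by have := v3.out; have := qn35.out; omega)
                clear c34
                rcases t with ⟨⟨⟨rfl, rfl⟩, gw34, ⟨rfl, rfl⟩⟩, rfl⟩ | ⟨⟨⟨rfl, rfl⟩, gw34, ⟨rfl, rfl⟩⟩, rfl⟩ | ⟨⟨⟨rfl, rfl⟩, gw34, ⟨rfl, rfl⟩⟩, rfl⟩ | ⟨⟨⟨rfl, rfl⟩, gw34, ⟨rfl, rfl⟩⟩, rfl⟩ | ⟨⟨⟨rfl, rfl⟩, gw34, ⟨rfl, rfl⟩⟩, rfl⟩ | ⟨⟨⟨rfl, rfl⟩, gw34, ⟨rfl, rfl⟩⟩, rfl⟩
                · (have := od4.out; omega)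
                · have t := pc2 q35 c35.out (by have := v3.out; omega)
                  clear c35
                  rcases t with ⟨⟨⟨rfl, rfl⟩, gw35, ⟨rfl, rfl⟩⟩, rfl⟩ | ⟨⟨⟨rfl, rfl⟩, gw35, ⟨rfl, rfl⟩⟩, rfl⟩ | ⟨⟨⟨rfl, rfl⟩, gw35, ⟨rfl, rfl⟩⟩, rfl⟩ | ⟨⟨⟨rfl, rfl⟩, gw35, ⟨rfl, rfl⟩⟩, rfl⟩
                  · have t := pc2 q45 c45.out (by have := v5.out; omega)
                    clear c45
                    rcases t with ⟨⟨⟨rfl, rfl⟩, gw45, ⟨rfl, rfl⟩⟩, rfl⟩ | ⟨⟨⟨rfl, rfl⟩, gw45, ⟨rfl, rfl⟩⟩, rfl⟩ | ⟨⟨⟨rfl, rfl⟩, gw45, ⟨rfl, rfl⟩⟩, rfl⟩ | ⟨⟨⟨rfl, rfl⟩, gw45, ⟨rfl, rfl⟩⟩, rfl⟩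
                    · (have := hm5.out; have := om3.out; have := e0.out; have := e2.out; have := e3.out; have := e4.out; omega)
                    · (have := hm4.out; have := om2.out; have := e0.out; have := e1.out; have := e5.out; omega)
                    · (have := hm2.out; have := e0.out; have := e2.out; have := e4.out; have := e5.out; omega)
                    · (have := hm4.out; have := om2.out; have := e0.out; have := e1.out; have := e5.out; omega)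
                  · (have := hm3.out; have := om1.out; have := e0.out; have := e5.out; have := r54.out; omega)
                  · (have := hm1.out; have := om3.out; have := e0.out; have := e5.out; have := r54.out; omega)
                  · (have := hm3.out; have := om1.out; have := e0.out; have := e5.out; have := r54.out; omega)
                · have t := pc1 q35 c35.out (by have := v3.out; omega)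
                  clear c35
                  rcases t with ⟨⟨⟨rfl, rfl⟩, gw35, ⟨rfl, rfl⟩⟩, rfl⟩ | ⟨⟨⟨rfl, rfl⟩, gw35, ⟨rfl, rfl⟩⟩, rfl⟩
                  · have t := pc2 q45 c45.out (by have := v4.out; omega)
                    clear c45
                    rcases t with ⟨⟨⟨rfl, rfl⟩, gw45, ⟨rfl, rfl⟩⟩, rfl⟩ | ⟨⟨⟨rfl, rfl⟩, gw45, ⟨rfl, rfl⟩⟩, rfl⟩ | ⟨⟨⟨rfl, rfl⟩, gw45, ⟨rfl, rfl⟩⟩, rfl⟩ | ⟨⟨⟨rfl, rfl⟩, gw45, ⟨rfl, rfl⟩⟩, rfl⟩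
                    · have := hm0.out
                      have := hm1.out
                      have := hm2.out
                      have := hm3.out
                      have := hm4.out
                      have := hm5.out
                      have := e0.out
                      have := e1.out
                      have := e2.out
                      have := e3.out
                      have := e4.out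
                      have := e5.out
                      have := hw0.out
                      have := hw1.out
                      have := hw2.out
                      have := hw3.out
                      have := hw4.out
                      have := hw5.out
                      have := hs01.out
                      have := hs02.out
                      have := hs03.out
                      have := hs04.out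
                      have := hs05.out
                      have := hs12.out
                      have := hs13.out
                      have := hs14.out
                      have := hs15.out
                      have := hs23.out
                      have := hs24.out
                      have := hs25.out
                      have := hs34.out
                      have := hs35.out
                      have := hs45.out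
                      have := ha00.out
                      have := ha11.out
                      have := ha22.out
                      have := ha33.out
                      have := ha44.out
                      have := ha55.out
                      have := gw01.out
                      have := gw02.out
                      have := gw03.out
                      have := gw04.out
                      have := gw05.out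
                      have := gw12.out
                      have := gw13.out
                      have := gw14.out
                      have := gw15.out
                      have := gw23.out
                      have := gw24.out
                      have := gw25.out
                      have := gw34.out
                      have := gw35.out
                      have := gw45.out
                      exact ⟨p432105, T.m 4, T.w 4, Or.inr (Or.inr (Or.inl ((show T.m 4 = T.m 4 ∧ T.m 3 = T.m 4 ∧ T.m 2 = T.m 4 ∧ T.m 1 = T.m 4 ∧ T.m 0 = T.m 4 ∧ T.m 5 = T.m 4 ∧ T.w 4 = T.w 4 ∧ T.w 3 = 2 * T.w 4 ∧ T.w 2 = 2 * T.w 4 ∧ T.w 1 = 2 * T.w 4 ∧ T.w 0 = 2 * T.w 4 ∧ T.w 5 = T.w 4 ∧ T.a 4 4 = -2 * T.w 4 ∧ T.a 4 3 = 2 * T.w 4 ∧ T.a 4 2 = 0 ∧ T.a 4 1 = 0 ∧ T.a 4 0 = 0 ∧ T.a 4 5 = 0 ∧ T.a 3 3 = -4 * T.w 4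 ∧ T.a 3 2 = 2 * T.w 4 ∧ T.a 3 1 = 0 ∧ T.a 3 0 = 0 ∧ T.a 3 5 = 0 ∧ T.a 2 2 = -4 * T.w 4 ∧ T.a 2 1 = 2 * T.w 4 ∧ T.a 2 0 = 0 ∧ T.a 2 5 = 0 ∧ T.a 1 1 = -4 * T.w 4 ∧ T.a 1 0 = 2 * T.w 4 ∧ T.a 1 5 = 0 ∧ T.a 0 0 = -4 * T.w 4 ∧ T.a 0 5 = 2 * T.w 4 ∧ T.a 5 5 = -2 * T.w 4 from by omega))))⟩
                    · (have := hm4.out; have := om2.out; have := e0.out; have := e1.out; have := e5.out; omega)
                    · (have := hm1.out; have := e1.out; have := e3.out; have := e4.out; have := e5.out; omega)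
                    · (have := hm2.out; have := e0.out; have := e2.out; have := e4.out; have := e5.out; omega)
                  · (have := hm3.out; have := om1.out; have := e0.out; have := e5.out; have := r54.out; omega)
                · (have := hm5.out; have := om4.out; have := om5.out; have := e0.out; have := e1.out; have := e2.out; have := e3.out; have := r35.out; omega)
                · (have := hm1.out; have := e2.out; have := e3.out; have := r35.out; have := e4.out; have := r45.out; omega)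
                · (have := hm1.out; have := e2.out; have := e3.out; have := r35.out; have := e4.out; have := r45.out; omega)
              · (have := hm0.out; have := om1.out; have := e0.out; have := e1.out; have := e5.out; have := r53.out; have := r54.out; omega)
              · (have := hm2.out; have := om1.out; have := e0.out; have := e5.out; have := r53.out; have := r54.out; omega)
              · (have := hm0.out; have := e1.out; have := e2.out; have := e3.out; have := r34.out; have := r35.out; have := e5.out; have := r53.out; have := r54.out; omega)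
            · (have := hm3.out; have := om4.out; have := om5.out; have := e0.out; have := e1.out; have := e2.out; have := r25.out; omega)
            · (have := hm3.out; have := om4.out; have := om5.out; have := e0.out; have := e1.out; have := e2.out; have := r25.out; omega)
            · (have := hm4.out; have := om3.out; have := om5.out; have := e0.out; have := e1.out; have := e2.out; have := r25.out; omega)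
          · have t := pc1 q24 c24.out (by have := v2.out; have := qn25.out; omega)
            clear c24
            rcases t with ⟨⟨⟨rfl, rfl⟩, gw24, ⟨rfl, rfl⟩⟩, rfl⟩ | ⟨⟨⟨rfl, rfl⟩, gw24, ⟨rfl, rfl⟩⟩, rfl⟩
            · have t := pc1 q25 c25.out (by have := v2.out; omega)
              clear c25
              rcases t with ⟨⟨⟨rfl, rfl⟩, gw25, ⟨rfl, rfl⟩⟩, rfl⟩ | ⟨⟨⟨rfl, rfl⟩, gw25, ⟨rfl, rfl⟩⟩, rfl⟩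
              · have t := pc2 q34 c34.out (by have := v3.out; have := qn35.out; omega)
                clear c34
                rcases t with ⟨⟨⟨rfl, rfl⟩, gw34, ⟨rfl, rfl⟩⟩, rfl⟩ | ⟨⟨⟨rfl, rfl⟩, gw34, ⟨rfl, rfl⟩⟩, rfl⟩ | ⟨⟨⟨rfl, rfl⟩, gw34, ⟨rfl, rfl⟩⟩, rfl⟩ | ⟨⟨⟨rfl, rfl⟩, gw34, ⟨rfl, rfl⟩⟩, rfl⟩
                · (have := od4.out; omega)
                · (have := hm4.out; have := om5.out; have := e0.out; have := e1.out; have := e2.out; have := e3.out; have := r35.out; omega)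
                · (have := hm4.out; have := om5.out; have := e0.out; have := e1.out; have := e2.out; have := e3.out; have := r35.out; omega)
                · (have := hm4.out; have := om5.out; have := e0.out; have := e1.out; have := e2.out; have := e3.out; have := r35.out; omega)
              · (have := hm0.out; have := e1.out; have := e2.out; have := e3.out; have := r34.out; have := r35.out; have := e5.out; have := r53.out; have := r54.out; omega)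
            · (have := hm3.out; have := om4.out; have := om5.out; have := e0.out; have := e1.out; have := e2.out; have := r25.out; omega)
          · (have := hm5.out; have := om3.out; have := om5.out; have := e0.out; have := e1.out; have := e2.out; have := r24.out; have := r25.out; omega)
          · (have := hm0.out; have := e1.out; have := e2.out; have := r24.out; have := r25.out; have := e3.out; have := r34.out; have := r35.out; omega)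
          · (have := hm0.out; have := e1.out; have := e2.out; have := r24.out; have := r25.out; have := e3.out; have := r34.out; have := r35.out; omega)
        · (have := hm2.out; have := om5.out; have := e0.out; have := e1.out; omega)
        · (have := hm2.out; have := om5.out; have := e0.out; have := e1.out; omega)
        · (have := hm1.out; have := om1.out; have := e0.out; have := e5.out; have := r52.out; have := r53.out; have := r54.out; omega)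
      · (have := hm2.out; have := om4.out; have := om5.out; have := e0.out; have := e1.out; have := r15.out; omega)
      · (have := hm2.out; have := om4.out; have := om5.out; have := e0.out; have := e1.out; have := r15.out; omega)
      · (have := hm5.out; have := om2.out; have := om4.out; have := e0.out; have := e1.out; have := r15.out; omega)
    · (have := hm2.out; have := om3.out; have := om5.out; have := e0.out; have := e1.out; have := r14.out; have := r15.out; omega)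
    · (have := hm2.out; have := om3.out; have := om5.out; have := e0.out; have := e1.out; have := r14.out; have := r15.out; omega)
    · (have := hm5.out; have := om2.out; have := om3.out; have := e0.out; have := e1.out; have := r14.out; have := r15.out; omega)
  · have t := pc1 q13 c13.out (by have := v1.out; have := qn14.out; have := qn15.out; omega)
    clear c13
    rcases t with ⟨⟨⟨rfl, rfl⟩, gw13, ⟨rfl, rfl⟩⟩, rfl⟩ | ⟨⟨⟨rfl, rfl⟩, gw13, ⟨rfl, rfl⟩⟩, rfl⟩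
    · have t := pc1 q14 c14.out (by have := v1.out; have := qn15.out; omega)
      clear c14
      rcases t with ⟨⟨⟨rfl, rfl⟩, gw14, ⟨rfl, rfl⟩⟩, rfl⟩ | ⟨⟨⟨rfl, rfl⟩, gw14, ⟨rfl, rfl⟩⟩, rfl⟩
      · have t := pc1 q15 c15.out (by have := v1.out; omega)
        clear c15
        rcases t with ⟨⟨⟨rfl, rfl⟩, gw15, ⟨rfl, rfl⟩⟩, rfl⟩ | ⟨⟨⟨rfl, rfl⟩, gw15, ⟨rfl, rfl⟩⟩, rfl⟩
        · have t := pc2 q23 c23.out (by have := v2.out; have := qn24.out; have := qn25.out; omega)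
          clear c23
          rcases t with ⟨⟨⟨rfl, rfl⟩, gw23, ⟨rfl, rfl⟩⟩, rfl⟩ | ⟨⟨⟨rfl, rfl⟩, gw23, ⟨rfl, rfl⟩⟩, rfl⟩ | ⟨⟨⟨rfl, rfl⟩, gw23, ⟨rfl, rfl⟩⟩, rfl⟩ | ⟨⟨⟨rfl, rfl⟩, gw23, ⟨rfl, rfl⟩⟩, rfl⟩
          · (have := od3.out; omega)
          · (have := hm3.out; have := om5.out; have := e0.out; have := e1.out; have := e2.out; have := r24.out; have := r25.out; omega)
          · (have := hm3.out; have := om5.out; have := e0.out; have := e1.out; have := e2.out; have := r24.out; have := r25.out; omega)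
          · (have := hm0.out; have := e1.out; have := e2.out; have := r24.out; have := r25.out; have := e3.out; have := r34.out; have := r35.out; omega)
        · (have := hm2.out; have := om5.out; have := e0.out; have := e1.out; omega)
      · (have := hm2.out; have := om4.out; have := om5.out; have := e0.out; have := e1.out; have := r15.out; omega)
    · (have := hm2.out; have := om3.out; have := om5.out; have := e0.out; have := e1.out; have := r14.out; have := r15.out; omega)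
  · (have := hm5.out; have := om2.out; have := om5.out; have := e0.out; have := e1.out; have := r13.out; have := r14.out; have := r15.out; omega)
  · (have := hm5.out; have := e0.out; have := e1.out; have := r13.out; have := r14.out; have := r15.out; have := e2.out; have := r23.out; have := r24.out; have := r25.out; omega)
  · (have := hm5.out; have := om2.out; have := e0.out; have := e1.out; have := r13.out; have := r14.out; have := r15.out; omega)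

end Groth.Agent.Lib.helper20.G1n6
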