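import Groth.Agent.Lib.Helper20.G1n6Base

set_option autoImplicit false
set_option linter.unusedVariables false
open Finset
open Models Models.NumericalType

namespace Groth.Agent.Lib.helper20.G1n6

set_option maxHeartbeats 0 in
theorem part17 (T : Models.NumericalType 6) (α14 α15 α23 α24 α25 α32 α34 α35 α41 α42 α43 α45 α51 α52 α53 α54 x14 x15 x23 x24 x25 x32 x34 x35 x41 x42 x43 x45 x51 x52 x53 x54 q14 q15 q23 q24 q25 q34 q35 q45 : ℤ)
    (hm0 : Hide (0 < T.m 0))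
    (hm1 : Hide (0 < T.m 1))
    (hm2 : Hide (0 < T.m 2))
    (hm3 : Hide (0 < T.m 3))
    (hm4 : Hide (0 < T.m 4))
    (hm5 : Hide (0 < T.m 5))
    (om1 : Hide (T.m 0 ≤ T.m 1))
    (om2 : Hide (T.m 0 ≤ T.m 2))
    (om3 : Hide (T.m 0 ≤ T.m 3))
    (om4 : Hide (T.m 0 ≤ T.m 4))
    (om5 : Hide (T.m 0 ≤ T.m 5))
    (e0 : Hide (T.m 1 + T.m 2 + (0 : ℤ) + (0 : ℤ) + (0 : ℤ) = 2 * T.m 0))
    (e1 : Hide (T.m 0 + (0 : ℤ) + (0 : ℤ) + x14 + x15 = 2 * T.m 1))
    (e2 : Hide (T.m 0 + (0 : ℤ) + x23 + x24 + x25 = 2 * T.m 2))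
    (e3 : Hide ((0 : ℤ) + (0 : ℤ) + x32 + x34 + x35 = 2 * T.m 3))
    (e4 : Hide ((0 : ℤ) + x41 + x42 + x43 + x45 = 2 * T.m 4))
    (e5 : Hide ((0 : ℤ) + x51 + x52 + x53 + x54 = 2 * T.m 5))
    (r01 : Hide (0 ≤ T.m 1))
    (r02 : Hide (0 ≤ T.m 2))
    (r03 : Hide (0 ≤ (0 : ℤ)))
    (r04 : Hide (0 ≤ (0 : ℤ)))
    (r05 : Hide (0 ≤ (0 : ℤ)))
    (r10 : Hide (0 ≤ T.m 0))
    (r12 : Hide (0 ≤ (0 : ℤ)))
    (r13 : Hide (0 ≤ (0 : ℤ)))
    (r14 : Hide (0 ≤ x14))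
    (r15 : Hide (0 ≤ x15))
    (r20 : Hide (0 ≤ T.m 0))
    (r21 : Hide (0 ≤ (0 : ℤ)))
    (r23 : Hide (0 ≤ x23))
    (r24 : Hide (0 ≤ x24))
    (r25 : Hide (0 ≤ x25))
    (r30 : Hide (0 ≤ (0 : ℤ)))
    (r31 : Hide (0 ≤ (0 : ℤ)))
    (r32 : Hide (0 ≤ x32))
    (r34 : Hide (0 ≤ x34))
    (r35 : Hide (0 ≤ x35))
    (r40 : Hide (0 ≤ (0 : ℤ)))
    (r41 : Hide (0 ≤ x41))
    (r42 : Hide (0 ≤ x42))
    (r43 : Hide (0 ≤ x43))
    (r45 : Hide (0 ≤ x45))
    (r50 : Hide (0 ≤ (0 : ℤ)))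
    (r51 : Hide (0 ≤ x51))
    (r52 : Hide (0 ≤ x52))
    (r53 : Hide (0 ≤ x53))
    (r54 : Hide (0 ≤ x54))
    (hw0 : Hide (0 < T.w 0))
    (hw1 : Hide (0 < T.w 1))
    (hw2 : Hide (0 < T.w 2))
    (hw3 : Hide (0 < T.w 3))
    (hw4 : Hide (0 < T.w 4))
    (hw5 : Hide (0 < T.w 5))
    (hs01 : Hide (T.a 0 1 = T.a 1 0))
    (hs02 : Hide (T.a 0 2 = T.a 2 0))
    (hs03 : Hide (T.a 0 3 = T.a 3 0))
    (hs04 : Hide (T.a 0 4 = T.a 4 0))
    (hs05 : Hide (T.a 0 5 = T.a 5 0))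
    (hs12 : Hide (T.a 1 2 = T.a 2 1))
    (hs13 : Hide (T.a 1 3 = T.a 3 1))
    (hs14 : Hide (T.a 1 4 = T.a 4 1))
    (hs15 : Hide (T.a 1 5 = T.a 5 1))
    (hs23 : Hide (T.a 2 3 = T.a 3 2))
    (hs24 : Hide (T.a 2 4 = T.a 4 2))
    (hs25 : Hide (T.a 2 5 = T.a 5 2))
    (hs34 : Hide (T.a 3 4 = T.a 4 3))
    (hs35 : Hide (T.a 3 5 = T.a 5 3))
    (hs45 : Hide (T.a 4 5 = T.a 5 4))
    (ha00 : Hide (T.a 0 0 = -2 * T.w 0))
    (ha11 : Hide (T.a 1 1 = -2 * T.w 1))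
    (ha22 : Hide (T.a 2 2 = -2 * T.w 2))
    (ha33 : Hide (T.a 3 3 = -2 * T.w 3))
    (ha44 : Hide (T.a 4 4 = -2 * T.w 4))
    (ha55 : Hide (T.a 5 5 = -2 * T.w 5))
    (v0 : Hide ((1 : ℤ) + (1 : ℤ) + (0 : ℤ) + (0 : ℤ) + (0 : ℤ) ≤ 4))
    (v1 : Hide ((1 : ℤ) + (0 : ℤ) + (0 : ℤ) + q14 + q15 ≤ 4))
    (v2 : Hide ((1 : ℤ) + (0 : ℤ) + q23 + q24 + q25 ≤ 4))
    (v3 : Hide ((0 : ℤ) + (0 : ℤ) + q23 + q34 + q35 ≤ 4))
    (v4 : Hide ((0 : ℤ) + q14 + q24 + q34 + q45 ≤ 4))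
    (v5 : Hide ((0 : ℤ) + q15 + q25 + q35 + q45 ≤ 4))
    (qn01 : Hide (0 ≤ (1 : ℤ)))
    (qn02 : Hide (0 ≤ (1 : ℤ)))
    (qn03 : Hide (0 ≤ (0 : ℤ)))
    (qn04 : Hide (0 ≤ (0 : ℤ)))
    (qn05 : Hide (0 ≤ (0 : ℤ)))
    (qn12 : Hide (0 ≤ (0 : ℤ)))
    (qn13 : Hide (0 ≤ (0 : ℤ)))
    (qn14 : Hide (0 ≤ q14))
    (qn15 : Hide (0 ≤ q15))
    (qn23 : Hide (0 ≤ q23))
    (qn24 : Hide (0 ≤ q24))
    (qn25 : Hide (0 ≤ q25))
    (qn34 : Hide (0 ≤ q34))
    (qn35 : Hide (0 ≤ q35))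
    (qn45 : Hide (0 ≤ q45))
    (od1 : Hide (0 < (1 : ℤ)))
    (od2 : Hide (0 < (1 : ℤ) + (0 : ℤ)))
    (od3 : Hide (0 < (0 : ℤ) + (0 : ℤ) + α23))
    (od4 : Hide (0 < (0 : ℤ) + α14 + α24 + α34))
    (od5 : Hide (0 < (0 : ℤ) + α15 + α25 + α35 + α45))
    (c14 : Hide (((Hide (x14 = 0 ∧ x41 = 0) ∧ Hide (T.a 1 4 = 0 ∧ T.a 4 1 = 0) ∧ Hide (α14 = 0 ∧ α41 = 0)) ∧ q14 = 0) ∨ ((Hide (x14 = T.m 4 ∧ x41 = T.m 1) ∧ Hide (T.a 1 4 = T.w 1 ∧ T.a 4 1 = T.w 4) ∧ Hide (α14 = 1 ∧ α41 = 1)) ∧ q14 = 1) ∨ ((Hide (x14 = T.m 4 ∧ x41 = 2 * T.m 1) ∧ Hide (T.a 1 4 = T.w 1 ∧ T.a 4 1 = 2 * T.w 4) ∧ Hide (α14 = 1 ∧ α41 = 2)) ∧ q14 = 2) ∨ ((Hide (x14 = 2 * T.m 4 ∧ x41 = T.m 1) ∧ Hide (T.a 1 4 = 2 * T.w 1 ∧ T.a 4 1 = T.w 4) ∧ Hide (α14 = 2 ∧ α41 = 1)) ∧ q14 = 2) ∨ ((Hide (x14 = T.m 4 ∧ x41 = 3 * T.m 1) ∧ Hide (T.a 1 4 = T.w 1 ∧ T.a 4 1 = 3 * T.w 4) ∧ Hide (α14 = 1 ∧ α41 = 3)) ∧ q14 = 3) ∨ ((Hide (x14 = 3 * T.m 4 ∧ x41 = T.m 1)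 ∧ Hide (T.a 1 4 = 3 * T.w 1 ∧ T.a 4 1 = T.w 4) ∧ Hide (α14 = 3 ∧ α41 = 1)) ∧ q14 = 3) ∨ ((Hide (x14 = T.m 4 ∧ x41 = 4 * T.m 1) ∧ Hide (T.a 1 4 = T.w 1 ∧ T.a 4 1 = 4 * T.w 4) ∧ Hide (α14 = 1 ∧ α41 = 4)) ∧ q14 = 4) ∨ ((Hide (x14 = 4 * T.m 4 ∧ x41 = T.m 1) ∧ Hide (T.a 1 4 = 4 * T.w 1 ∧ T.a 4 1 = T.w 4) ∧ Hide (α14 = 4 ∧ α41 = 1)) ∧ q14 = 4) ∨ ((Hide (x14 = 2 * T.m 4 ∧ x41 = 2 * T.m 1) ∧ Hide (T.a 1 4 = 2 * T.w 1 ∧ T.a 4 1 = 2 * T.w 4) ∧ Hide (α14 = 2 ∧ α41 = 2)) ∧ q14 = 4)))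
    (c15 : Hide (((Hide (x15 = 0 ∧ x51 = 0) ∧ Hide (T.a 1 5 = 0 ∧ T.a 5 1 = 0) ∧ Hide (α15 = 0 ∧ α51 = 0)) ∧ q15 = 0) ∨ ((Hide (x15 = T.m 5 ∧ x51 = T.m 1) ∧ Hide (T.a 1 5 = T.w 1 ∧ T.a 5 1 = T.w 5) ∧ Hide (α15 = 1 ∧ α51 = 1)) ∧ q15 = 1) ∨ ((Hide (x15 = T.m 5 ∧ x51 = 2 * T.m 1) ∧ Hide (T.a 1 5 = T.w 1 ∧ T.a 5 1 = 2 * T.w 5) ∧ Hide (α15 = 1 ∧ α51 = 2)) ∧ q15 = 2) ∨ ((Hide (x15 = 2 * T.m 5 ∧ x51 = T.m 1) ∧ Hide (T.a 1 5 = 2 * T.w 1 ∧ T.a 5 1 = T.w 5) ∧ Hide (α15 = 2 ∧ α51 = 1)) ∧ q15 = 2) ∨ ((Hide (x15 = T.m 5 ∧ x51 = 3 * T.m 1) ∧ Hide (T.a 1 5 = T.w 1 ∧ T.a 5 1 = 3 * T.w 5) ∧ Hide (α15 = 1 ∧ α51 = 3)) ∧ q15 = 3) ∨ ((Hide (x15 = 3 * T.m 5 ∧ x51 = T.m 1) ∧ Hide (T.a 1 5 = 3 * T.w 1 ∧ T.a 5 1 = T.w 5) ∧ Hide (α15 = 3 ∧ α51 = 1)) ∧ q15 = 3) ∨ ((Hide (x15 = T.m 5 ∧ x51 = 4 * T.m 1) ∧ Hide (T.a 1 5 = T.w 1 ∧ T.a 5 1 = 4 * T.w 5) ∧ Hide (α15 = 1 ∧ α51 = 4)) ∧ q15 = 4) ∨ ((Hide (x15 = 4 * T.m 5 ∧ x51 = T.m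 1) ∧ Hide (T.a 1 5 = 4 * T.w 1 ∧ T.a 5 1 = T.w 5) ∧ Hide (α15 = 4 ∧ α51 = 1)) ∧ q15 = 4) ∨ ((Hide (x15 = 2 * T.m 5 ∧ x51 = 2 * T.m 1) ∧ Hide (T.a 1 5 = 2 * T.w 1 ∧ T.a 5 1 = 2 * T.w 5) ∧ Hide (α15 = 2 ∧ α51 = 2)) ∧ q15 = 4)))
    (c23 : Hide (((Hide (x23 = 0 ∧ x32 = 0) ∧ Hide (T.a 2 3 = 0 ∧ T.a 3 2 = 0) ∧ Hide (α23 = 0 ∧ α32 = 0)) ∧ q23 = 0) ∨ ((Hide (x23 = T.m 3 ∧ x32 = T.m 2) ∧ Hide (T.a 2 3 = T.w 2 ∧ T.a 3 2 = T.w 3) ∧ Hide (α23 = 1 ∧ α32 = 1)) ∧ q23 = 1) ∨ ((Hide (x23 = T.m 3 ∧ x32 = 2 * T.m 2) ∧ Hide (T.a 2 3 = T.w 2 ∧ T.a 3 2 = 2 * T.w 3) ∧ Hide (α23 = 1 ∧ α32 = 2)) ∧ q23 = 2) ∨ ((Hide (x23 = 2 * T.m 3 ∧ x32 = T.m 2) ∧ Hide (T.a 2 3 = 2 * T.w 2 ∧ T.a 3 2 = T.w 3) ∧ Hide (α23 = 2 ∧ α32 = 1)) ∧ q23 = 2) ∨ ((Hide (x23 = T.m 3 ∧ x32 = 3 * T.m 2) ∧ Hide (T.a 2 3 = T.w 2 ∧ T.a 3 2 = 3 * T.w 3) ∧ Hide (α23 = 1 ∧ α32 = 3)) ∧ q23 = 3) ∨ ((Hide (x23 = 3 * T.m 3 ∧ x32 = T.m 2) ∧ Hide (T.a 2 3 = 3 * T.w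 2 ∧ T.a 3 2 = T.w 3) ∧ Hide (α23 = 3 ∧ α32 = 1)) ∧ q23 = 3) ∨ ((Hide (x23 = T.m 3 ∧ x32 = 4 * T.m 2) ∧ Hide (T.a 2 3 = T.w 2 ∧ T.a 3 2 = 4 * T.w 3) ∧ Hide (α23 = 1 ∧ α32 = 4)) ∧ q23 = 4) ∨ ((Hide (x23 = 4 * T.m 3 ∧ x32 = T.m 2) ∧ Hide (T.a 2 3 = 4 * T.w 2 ∧ T.a 3 2 = T.w 3) ∧ Hide (α23 = 4 ∧ α32 = 1)) ∧ q23 = 4) ∨ ((Hide (x23 = 2 * T.m 3 ∧ x32 = 2 * T.m 2) ∧ Hide (T.a 2 3 = 2 * T.w 2 ∧ T.a 3 2 = 2 * T.w 3) ∧ Hide (α23 = 2 ∧ α32 = 2)) ∧ q23 = 4)))
    (c24 : Hide (((Hide (x24 = 0 ∧ x42 = 0) ∧ Hide (T.a 2 4 = 0 ∧ T.a 4 2 = 0) ∧ Hide (α24 = 0 ∧ α42 = 0)) ∧ q24 = 0) ∨ ((Hide (x24 = T.m 4 ∧ x42 = T.m 2) ∧ Hide (T.a 2 4 = T.w 2 ∧ T.a 4 2 = T.w 4) ∧ Hide (α24 = 1 ∧ α42 = 1)) ∧ q24 = 1) ∨ ((Hide (x24 = T.m 4 ∧ x42 = 2 * T.m 2) ∧ Hide (T.a 2 4 = T.w 2 ∧ T.a 4 2 = 2 * T.w 4) ∧ Hide (α24 = 1 ∧ α42 = 2)) ∧ q24 = 2) ∨ ((Hide (x24 = 2 * T.m 4 ∧ x42 = T.m 2) ∧ Hide (T.a 2 4 = 2 * T.w 2 ∧ T.a 4 2 = T.w 4) ∧ Hide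 (α24 = 2 ∧ α42 = 1)) ∧ q24 = 2) ∨ ((Hide (x24 = T.m 4 ∧ x42 = 3 * T.m 2) ∧ Hide (T.a 2 4 = T.w 2 ∧ T.a 4 2 = 3 * T.w 4) ∧ Hide (α24 = 1 ∧ α42 = 3)) ∧ q24 = 3) ∨ ((Hide (x24 = 3 * T.m 4 ∧ x42 = T.m 2) ∧ Hide (T.a 2 4 = 3 * T.w 2 ∧ T.a 4 2 = T.w 4) ∧ Hide (α24 = 3 ∧ α42 = 1)) ∧ q24 = 3) ∨ ((Hide (x24 = T.m 4 ∧ x42 = 4 * T.m 2) ∧ Hide (T.a 2 4 = T.w 2 ∧ T.a 4 2 = 4 * T.w 4) ∧ Hide (α24 = 1 ∧ α42 = 4)) ∧ q24 = 4) ∨ ((Hide (x24 = 4 * T.m 4 ∧ x42 = T.m 2) ∧ Hide (T.a 2 4 = 4 * T.w 2 ∧ T.a 4 2 = T.w 4) ∧ Hide (α24 = 4 ∧ α42 = 1)) ∧ q24 = 4) ∨ ((Hide (x24 = 2 * T.m 4 ∧ x42 = 2 * T.m 2) ∧ Hide (T.a 2 4 = 2 * T.w 2 ∧ T.a 4 2 = 2 * T.w 4) ∧ Hide (α24 = 2 ∧ α42 = 2)) ∧ q24 = 4)))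
    (c25 : Hide (((Hide (x25 = 0 ∧ x52 = 0) ∧ Hide (T.a 2 5 = 0 ∧ T.a 5 2 = 0) ∧ Hide (α25 = 0 ∧ α52 = 0)) ∧ q25 = 0) ∨ ((Hide (x25 = T.m 5 ∧ x52 = T.m 2) ∧ Hide (T.a 2 5 = T.w 2 ∧ T.a 5 2 = T.w 5) ∧ Hide (α25 = 1 ∧ α52 = 1)) ∧ q25 = 1) ∨ ((Hide (x25 = T.m 5 ∧ x52 = 2 * T.m 2) ∧ Hide (T.a 2 5 = T.w 2 ∧ T.a 5 2 = 2 * T.w 5) ∧ Hide (α25 = 1 ∧ α52 = 2)) ∧ q25 = 2) ∨ ((Hide (x25 = 2 * T.m 5 ∧ x52 = T.m 2) ∧ Hide (T.a 2 5 = 2 * T.w 2 ∧ T.a 5 2 = T.w 5) ∧ Hide (α25 = 2 ∧ α52 = 1)) ∧ q25 = 2) ∨ ((Hide (x25 = T.m 5 ∧ x52 = 3 * T.m 2) ∧ Hide (T.a 2 5 = T.w 2 ∧ T.a 5 2 = 3 * T.w 5) ∧ Hide (α25 = 1 ∧ α52 = 3)) ∧ q25 = 3) ∨ ((Hide (x25 = 3 * T.m 5 ∧ x52 = T.m 2) ∧ Hide (T.a 2 5 = 3 * T.w 2 ∧ T.a 5 2 = T.w 5) ∧ Hide (α25 = 3 ∧ α52 = 1)) ∧ q25 = 3) ∨ ((Hide (x25 = T.m 5 ∧ x52 = 4 * T.m 2) ∧ Hide (T.a 2 5 = T.w 2 ∧ T.a 5 2 = 4 * T.w 5) ∧ Hide (α25 = 1 ∧ α52 = 4)) ∧ q25 = 4) ∨ ((Hide (x25 = 4 * T.m 5 ∧ x52 = T.m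 2) ∧ Hide (T.a 2 5 = 4 * T.w 2 ∧ T.a 5 2 = T.w 5) ∧ Hide (α25 = 4 ∧ α52 = 1)) ∧ q25 = 4) ∨ ((Hide (x25 = 2 * T.m 5 ∧ x52 = 2 * T.m 2) ∧ Hide (T.a 2 5 = 2 * T.w 2 ∧ T.a 5 2 = 2 * T.w 5) ∧ Hide (α25 = 2 ∧ α52 = 2)) ∧ q25 = 4)))
    (c34 : Hide (((Hide (x34 = 0 ∧ x43 = 0) ∧ Hide (T.a 3 4 = 0 ∧ T.a 4 3 = 0) ∧ Hide (α34 = 0 ∧ α43 = 0)) ∧ q34 = 0) ∨ ((Hide (x34 = T.m 4 ∧ x43 = T.m 3) ∧ Hide (T.a 3 4 = T.w 3 ∧ T.a 4 3 = T.w 4) ∧ Hide (α34 = 1 ∧ α43 = 1)) ∧ q34 = 1) ∨ ((Hide (x34 = T.m 4 ∧ x43 = 2 * T.m 3) ∧ Hide (T.a 3 4 = T.w 3 ∧ T.a 4 3 = 2 * T.w 4) ∧ Hide (α34 = 1 ∧ α43 = 2)) ∧ q34 = 2) ∨ ((Hide (x34 = 2 * T.m 4 ∧ x43 = T.m 3) ∧ Hide (T.a 3 4 = 2 * T.w 3 ∧ T.a 4 3 = T.w 4) ∧ Hide (α34 = 2 ∧ α43 = 1)) ∧ q34 = 2) ∨ ((Hide (x34 = T.m 4 ∧ x43 = 3 * T.m 3) ∧ Hide (T.a 3 4 = T.w 3 ∧ T.a 4 3 = 3 * T.w 4) ∧ Hide (α34 = 1 ∧ α43 = 3)) ∧ q34 = 3) ∨ ((Hide (x34 = 3 * T.m 4 ∧ x43 = T.m 3) ∧ Hide (T.a 3 4 = 3 * T.w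 3 ∧ T.a 4 3 = T.w 4) ∧ Hide (α34 = 3 ∧ α43 = 1)) ∧ q34 = 3) ∨ ((Hide (x34 = T.m 4 ∧ x43 = 4 * T.m 3) ∧ Hide (T.a 3 4 = T.w 3 ∧ T.a 4 3 = 4 * T.w 4) ∧ Hide (α34 = 1 ∧ α43 = 4)) ∧ q34 = 4) ∨ ((Hide (x34 = 4 * T.m 4 ∧ x43 = T.m 3) ∧ Hide (T.a 3 4 = 4 * T.w 3 ∧ T.a 4 3 = T.w 4) ∧ Hide (α34 = 4 ∧ α43 = 1)) ∧ q34 = 4) ∨ ((Hide (x34 = 2 * T.m 4 ∧ x43 = 2 * T.m 3) ∧ Hide (T.a 3 4 = 2 * T.w 3 ∧ T.a 4 3 = 2 * T.w 4) ∧ Hide (α34 = 2 ∧ α43 = 2)) ∧ q34 = 4)))
    (c35 : Hide (((Hide (x35 = 0 ∧ x53 = 0) ∧ Hide (T.a 3 5 = 0 ∧ T.a 5 3 = 0) ∧ Hide (α35 = 0 ∧ α53 = 0)) ∧ q35 = 0) ∨ ((Hide (x35 = T.m 5 ∧ x53 = T.m 3) ∧ Hide (T.a 3 5 = T.w 3 ∧ T.a 5 3 = T.w 5) ∧ Hide (α35 = 1 ∧ α53 = 1)) ∧ q35 = 1) ∨ ((Hide (x35 = T.m 5 ∧ x53 = 2 * T.m 3) ∧ Hide (T.a 3 5 = T.w 3 ∧ T.a 5 3 = 2 * T.w 5) ∧ Hide (α35 = 1 ∧ α53 = 2)) ∧ q35 = 2) ∨ ((Hide (x35 = 2 * T.m 5 ∧ x53 = T.m 3) ∧ Hide (T.a 3 5 = 2 * T.w 3 ∧ T.a 5 3 = T.w 5) ∧ Hide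 (α35 = 2 ∧ α53 = 1)) ∧ q35 = 2) ∨ ((Hide (x35 = T.m 5 ∧ x53 = 3 * T.m 3) ∧ Hide (T.a 3 5 = T.w 3 ∧ T.a 5 3 = 3 * T.w 5) ∧ Hide (α35 = 1 ∧ α53 = 3)) ∧ q35 = 3) ∨ ((Hide (x35 = 3 * T.m 5 ∧ x53 = T.m 3) ∧ Hide (T.a 3 5 = 3 * T.w 3 ∧ T.a 5 3 = T.w 5) ∧ Hide (α35 = 3 ∧ α53 = 1)) ∧ q35 = 3) ∨ ((Hide (x35 = T.m 5 ∧ x53 = 4 * T.m 3) ∧ Hide (T.a 3 5 = T.w 3 ∧ T.a 5 3 = 4 * T.w 5) ∧ Hide (α35 = 1 ∧ α53 = 4)) ∧ q35 = 4) ∨ ((Hide (x35 = 4 * T.m 5 ∧ x53 = T.m 3) ∧ Hide (T.a 3 5 = 4 * T.w 3 ∧ T.a 5 3 = T.w 5) ∧ Hide (α35 = 4 ∧ α53 = 1)) ∧ q35 = 4) ∨ ((Hide (x35 = 2 * T.m 5 ∧ x53 = 2 * T.m 3) ∧ Hide (T.a 3 5 = 2 * T.w 3 ∧ T.a 5 3 = 2 * T.w 5) ∧ Hide (α35 = 2 ∧ α53 = 2)) ∧ q35 = 4)))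
    (c45 : Hide (((Hide (x45 = 0 ∧ x54 = 0) ∧ Hide (T.a 4 5 = 0 ∧ T.a 5 4 = 0) ∧ Hide (α45 = 0 ∧ α54 = 0)) ∧ q45 = 0) ∨ ((Hide (x45 = T.m 5 ∧ x54 = T.m 4) ∧ Hide (T.a 4 5 = T.w 4 ∧ T.a 5 4 = T.w 5) ∧ Hide (α45 = 1 ∧ α54 = 1)) ∧ q45 = 1) ∨ ((Hide (x45 = T.m 5 ∧ x54 = 2 * T.m 4) ∧ Hide (T.a 4 5 = T.w 4 ∧ T.a 5 4 = 2 * T.w 5) ∧ Hide (α45 = 1 ∧ α54 = 2)) ∧ q45 = 2) ∨ ((Hide (x45 = 2 * T.m 5 ∧ x54 = T.m 4) ∧ Hide (T.a 4 5 = 2 * T.w 4 ∧ T.a 5 4 = T.w 5) ∧ Hide (α45 = 2 ∧ α54 = 1)) ∧ q45 = 2) ∨ ((Hide (x45 = T.m 5 ∧ x54 = 3 * T.m 4) ∧ Hide (T.a 4 5 = T.w 4 ∧ T.a 5 4 = 3 * T.w 5) ∧ Hide (α45 = 1 ∧ α54 = 3)) ∧ q45 = 3) ∨ ((Hide (x45 = 3 * T.m 5 ∧ x54 = T.m 4) ∧ Hide (T.a 4 5 = 3 * T.w 4 ∧ T.a 5 4 = T.w 5) ∧ Hide (α45 = 3 ∧ α54 = 1)) ∧ q45 = 3) ∨ ((Hide (x45 = T.m 5 ∧ x54 = 4 * T.m 4) ∧ Hide (T.a 4 5 = T.w 4 ∧ T.a 5 4 = 4 * T.w 5) ∧ Hide (α45 = 1 ∧ α54 = 4)) ∧ q45 = 4) ∨ ((Hide (x45 = 4 * T.m 5 ∧ x54 = T.m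 4) ∧ Hide (T.a 4 5 = 4 * T.w 4 ∧ T.a 5 4 = T.w 5) ∧ Hide (α45 = 4 ∧ α54 = 1)) ∧ q45 = 4) ∨ ((Hide (x45 = 2 * T.m 5 ∧ x54 = 2 * T.m 4) ∧ Hide (T.a 4 5 = 2 * T.w 4 ∧ T.a 5 4 = 2 * T.w 5) ∧ Hide (α45 = 2 ∧ α54 = 2)) ∧ q45 = 4)))
    (gw01 : Hide (T.a 0 1 = T.w 0 ∧ T.a 1 0 = T.w 1))
    (gw02 : Hide (T.a 0 2 = T.w 0 ∧ T.a 2 0 = T.w 2))
    (gw03 : Hide (T.a 0 3 = 0 ∧ T.a 3 0 = 0))
    (gw04 : Hide (T.a 0 4 = 0 ∧ T.a 4 0 = 0))
    (gw05 : Hide (T.a 0 5 = 0 ∧ T.a 5 0 = 0))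
    (gw12 : Hide (T.a 1 2 = 0 ∧ T.a 2 1 = 0))
    (gw13 : Hide (T.a 1 3 = 0 ∧ T.a 3 1 = 0)) : Goal T := by
  have t := pc3 q14 c14.out (by have := v1.out; have := qn15.out; omega)
  clear c14
  rcases t with ⟨⟨⟨rfl, rfl⟩, gw14, ⟨rfl, rfl⟩⟩, rfl⟩ | ⟨⟨⟨rfl, rfl⟩, gw14, ⟨rfl, rfl⟩⟩, rfl⟩ | ⟨⟨⟨rfl, rfl⟩, gw14, ⟨rfl, rfl⟩⟩, rfl⟩ | ⟨⟨⟨rfl, rfl⟩, gw14, ⟨rfl, rfl⟩⟩, rfl⟩ | ⟨⟨⟨rfl, rfl⟩, gw14, ⟨rfl, rfl⟩⟩, rfl⟩ | ⟨⟨⟨rfl, rfl⟩, gw14, ⟨rfl, rfl⟩⟩, rfl⟩
  · have t := pc3 q15 c15.out (by have := v1.out; omega)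
    clear c15
    rcases t with ⟨⟨⟨rfl, rfl⟩, gw15, ⟨rfl, rfl⟩⟩, rfl⟩ | ⟨⟨⟨rfl, rfl⟩, gw15, ⟨rfl, rfl⟩⟩, rfl⟩ | ⟨⟨⟨rfl, rfl⟩, gw15, ⟨rfl, rfl⟩⟩, rfl⟩ | ⟨⟨⟨rfl, rfl⟩, gw15, ⟨rfl, rfl⟩⟩, rfl⟩ | ⟨⟨⟨rfl, rfl⟩, gw15, ⟨rfl, rfl⟩⟩, rfl⟩ | ⟨⟨⟨rfl, rfl⟩, gw15, ⟨rfl, rfl⟩⟩, rfl⟩
    · (have := hm1.out; have := om1.out; have := e1.out; omega)
    · have t := pc3 q23 c23.out (by have := v2.out; have := qn24.out; have := qn25.out; omega)
      clear c23
      rcases t with ⟨⟨⟨rfl, rfl⟩, gw23, ⟨rfl, rfl⟩⟩, rfl⟩ | ⟨⟨⟨rfl, rfl⟩, gw23, ⟨rfl, rfl⟩⟩, rfl⟩ | ⟨⟨⟨rfl, rfl⟩, gw23, ⟨rfl, rfl⟩⟩, rfl⟩ | ⟨⟨⟨rfl, rfl⟩, gw23, ⟨rfl, rfl⟩⟩, rfl⟩ | ⟨⟨⟨rfl, rfl⟩, gw23, ⟨rfl, rfl⟩⟩, rfl⟩ | ⟨⟨⟨rfl, rfl⟩, gw23, ⟨rfl, rfl⟩⟩, rfl⟩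
      · (have := od3.out; omega)
      · have t := pc2 q24 c24.out (by have := v2.out; have := qn25.out; omega)
        clear c24
        rcases t with ⟨⟨⟨rfl, rfl⟩, gw24, ⟨rfl, rfl⟩⟩, rfl⟩ | ⟨⟨⟨rfl, rfl⟩, gw24, ⟨rfl, rfl⟩⟩, rfl⟩ | ⟨⟨⟨rfl, rfl⟩, gw24, ⟨rfl, rfl⟩⟩, rfl⟩ | ⟨⟨⟨rfl, rfl⟩, gw24, ⟨rfl, rfl⟩⟩, rfl⟩
        · have t := pc2 q25 c25.out (by have := v2.out; omega)
          clear c25
          rcases t with ⟨⟨⟨rfl, rfl⟩, gw25, ⟨rfl, rfl⟩⟩, rfl⟩ | ⟨⟨⟨rfl, rfl⟩, gw25, ⟨rfl, rfl⟩⟩, rfl⟩ | ⟨⟨⟨rfl, rfl⟩, gw25, ⟨rfl, rfl⟩⟩, rfl⟩ | ⟨⟨⟨rfl, rfl⟩, gw25, ⟨rfl, rfl⟩⟩, rfl⟩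
          · have t := pc3 q34 c34.out (by have := v3.out; have := qn35.out; omega)
            clear c34
            rcases t with ⟨⟨⟨rfl, rfl⟩, gw34, ⟨rfl, rfl⟩⟩, rfl⟩ | ⟨⟨⟨rfl, rfl⟩, gw34, ⟨rfl, rfl⟩⟩, rfl⟩ | ⟨⟨⟨rfl, rfl⟩, gw34, ⟨rfl, rfl⟩⟩, rfl⟩ | ⟨⟨⟨rfl, rfl⟩, gw34, ⟨rfl, rfl⟩⟩, rfl⟩ | ⟨⟨⟨rfl, rfl⟩, gw34, ⟨rfl, rfl⟩⟩, rfl⟩ | ⟨⟨⟨rfl, rfl⟩, gw34, ⟨rfl, rfl⟩⟩, rfl⟩
            · (have := od4.out; omega)
            · have t := pc2 q35 c35.out (by have := v3.out; omega)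
              clear c35
              rcases t with ⟨⟨⟨rfl, rfl⟩, gw35, ⟨rfl, rfl⟩⟩, rfl⟩ | ⟨⟨⟨rfl, rfl⟩, gw35, ⟨rfl, rfl⟩⟩, rfl⟩ | ⟨⟨⟨rfl, rfl⟩, gw35, ⟨rfl, rfl⟩⟩, rfl⟩ | ⟨⟨⟨rfl, rfl⟩, gw35, ⟨rfl, rfl⟩⟩, rfl⟩
              · have t := pc3 q45 c45.out (by have := v4.out; omega)
                clear c45
                rcases t with ⟨⟨⟨rfl, rfl⟩, gw45, ⟨rfl, rfl⟩⟩, rfl⟩ | ⟨⟨⟨rfl, rfl⟩, gw45, ⟨rfl, rfl⟩⟩, rfl⟩ | ⟨⟨⟨rfl, rfl⟩, gw45, ⟨rfl, rfl⟩⟩, rfl⟩ | ⟨⟨⟨rfl, rfl⟩, gw45, ⟨rfl, rfl⟩⟩, rfl⟩ | ⟨⟨⟨rfl, rfl⟩, gw45, ⟨rfl, rfl⟩⟩, rfl⟩ | ⟨⟨⟨rfl, rfl⟩, gw45, ⟨rfl, rfl⟩⟩, rfl⟩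
                · (have := hm0.out; have := om1.out; have := e1.out; have := e5.out; omega)
                · have := hm0.out
                  have := hm1.out
                  have := hm2.out
                  have := hm3.out
                  have := hm4.out
                  have := hm5.out
                  have := e0.out
                  have := e1.out
                  have := e2.out
                  have := e3.out
                  have := e4.out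
                  have := e5.out
                  have := hw0.out
                  have := hw1.out
                  have := hw2.out
                  have := hw3.out
                  have := hw4.out
                  have := hw5.out
                  have := hs01.out
                  have := hs02.out
                  have := hs03.out
                  have := hs04.out
                  have := hs05.out
                  have := hs12.out
                  have := hs13.out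
                  have := hs14.out
                  have := hs15.out
                  have := hs23.out
                  have := hs24.out
                  have := hs25.out
                  have := hs34.out
                  have := hs35.out
                  have := hs45.out
                  have := ha00.out
                  have := ha11.out
                  have := ha22.out
                  have := ha33.out
                  have := ha44.out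
                  have := ha55.out
                  have := gw01.out
                  have := gw02.out
                  have := gw03.out
                  have := gw04.out
                  have := gw05.out
                  have := gw12.out
                  have := gw13.out
                  have := gw14.out
                  have := gw15.out
                  have := gw23.out
                  have := gw24.out
                  have := gw25.out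
                  have := gw34.out
                  have := gw35.out
                  have := gw45.out
                  exact ⟨p015432, T.m 0, T.w 0, Or.inl ((show T.m 0 = T.m 0 ∧ T.m 1 = T.m 0 ∧ T.m 5 = T.m 0 ∧ T.m 4 = T.m 0 ∧ T.m 3 = T.m 0 ∧ T.m 2 = T.m 0 ∧ T.w 0 = T.w 0 ∧ T.w 1 = T.w 0 ∧ T.w 5 = T.w 0 ∧ T.w 4 = T.w 0 ∧ T.w 3 = T.w 0 ∧ T.w 2 = T.w 0 ∧ T.a 0 0 = -2 * T.w 0 ∧ T.a 0 1 = T.w 0 ∧ T.a 0 5 = 0 ∧ T.a 0 4 = 0 ∧ T.a 0 3 = 0 ∧ T.a 0 2 = T.w 0 ∧ T.a 1 1 = -2 * T.w 0 ∧ T.a 1 5 = T.w 0 ∧ T.a 1 4 = 0 ∧ T.a 1 3 = 0 ∧ T.a 1 2 = 0 ∧ T.a 5 5 = -2 * T.w 0 ∧ T.a 5 4 = T.w 0 ∧ T.a 5 3 = 0 ∧ T.a 5 2 = 0 ∧ T.a 4 4 = -2 * T.w 0 ∧ T.a 4 3 = T.w 0 ∧ T.a 4 2 = 0 ∧ T.a 3 3 = -2 * T.w 0 ∧ T.a 3 2 = T.w 0 ∧ T.a 2 2 = -2 * T.w 0 from by omega))⟩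
                · (have := hm1.out; have := om2.out; have := om4.out; have := e0.out; have := e1.out; have := e5.out; omega)
                · (have := hm0.out; have := e1.out; have := e2.out; have := e3.out; have := e4.out; have := e5.out; omega)
                · (have := hm1.out; have := hm2.out; have := e3.out; have := e4.out; have := e5.out; omega)
                · (have := hm2.out; have := e1.out; have := e2.out; have := e4.out; have := e5.out; omega)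
              · (have := hm4.out; have := om2.out; have := e0.out; have := e1.out; have := e3.out; have := e5.out; have := r54.out; omega)
              · (have := hm0.out; have := om1.out; have := e2.out; have := e3.out; have := e4.out; have := r45.out; have := e5.out; have := r54.out; omega)
              · (have := hm0.out; have := om1.out; have := e2.out; have := e3.out; have := e4.out; have := r45.out; have := e5.out; have := r54.out; omega)
            · have t := pc1 q35 c35.out (by have := v3.out; omega)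
              clear c35
              rcases t with ⟨⟨⟨rfl, rfl⟩, gw35, ⟨rfl, rfl⟩⟩, rfl⟩ | ⟨⟨⟨rfl, rfl⟩, gw35, ⟨rfl, rfl⟩⟩, rfl⟩
              · have t := pc2 q45 c45.out (by have := v4.out; omega)
                clear c45
                rcases t with ⟨⟨⟨rfl, rfl⟩, gw45, ⟨rfl, rfl⟩⟩, rfl⟩ | ⟨⟨⟨rfl, rfl⟩, gw45, ⟨rfl, rfl⟩⟩, rfl⟩ | ⟨⟨⟨rfl, rfl⟩, gw45, ⟨rfl, rfl⟩⟩, rfl⟩ | ⟨⟨⟨rfl, rfl⟩, gw45, ⟨rfl, rfl⟩⟩, rfl⟩
                · (have := hm0.out; have := om1.out; have := e1.out; have := e5.out; omega)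
                · (have := hm0.out; have := e1.out; have := e2.out; have := e3.out; have := e4.out; have := e5.out; omega)
                · (have := hm1.out; have := hm2.out; have := e3.out; have := e4.out; have := e5.out; omega)
                · (have := hm1.out; have := hm2.out; have := e3.out; have := e4.out; have := e5.out; omega)
              · (have := hm4.out; have := om2.out; have := e0.out; have := e1.out; have := e3.out; have := e5.out; have := r54.out; omega)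
            · (have := hm1.out; have := om1.out; have := om4.out; have := e0.out; have := e2.out; have := e3.out; have := r35.out; omega)
            · (have := hm0.out; have := e2.out; have := e3.out; have := r35.out; have := e4.out; have := r45.out; omega)
            · (have := hm0.out; have := e2.out; have := e3.out; have := r35.out; have := e4.out; have := r45.out; omega)
          · (have := hm3.out; have := om1.out; have := om5.out; have := e0.out; have := e2.out; omega)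
          · (have := hm3.out; have := om1.out; have := om5.out; have := e0.out; have := e2.out; omega)
          · (have := hm1.out; have := om3.out; have := om5.out; have := e0.out; have := e2.out; omega)
        · (have := hm3.out; have := om1.out; have := om4.out; have := e0.out; have := e2.out; have := r25.out; omega)
        · (have := hm3.out; have := om1.out; have := om4.out; have := e0.out; have := e2.out; have := r25.out; omega)
        · (have := hm1.out; have := om3.out; have := om4.out; have := e0.out; have := e2.out; have := r25.out; omega)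
      · have t := pc1 q24 c24.out (by have := v2.out; have := qn25.out; omega)
        clear c24
        rcases t with ⟨⟨⟨rfl, rfl⟩, gw24, ⟨rfl, rfl⟩⟩, rfl⟩ | ⟨⟨⟨rfl, rfl⟩, gw24, ⟨rfl, rfl⟩⟩, rfl⟩
        · have t := pc1 q25 c25.out (by have := v2.out; omega)
          clear c25
          rcases t with ⟨⟨⟨rfl, rfl⟩, gw25, ⟨rfl, rfl⟩⟩, rfl⟩ | ⟨⟨⟨rfl, rfl⟩, gw25, ⟨rfl, rfl⟩⟩, rfl⟩
          · have t := pc2 q34 c34.out (by have := v3.out; have := qn35.out; omega)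
            clear c34
            rcases t with ⟨⟨⟨rfl, rfl⟩, gw34, ⟨rfl, rfl⟩⟩, rfl⟩ | ⟨⟨⟨rfl, rfl⟩, gw34, ⟨rfl, rfl⟩⟩, rfl⟩ | ⟨⟨⟨rfl, rfl⟩, gw34, ⟨rfl, rfl⟩⟩, rfl⟩ | ⟨⟨⟨rfl, rfl⟩, gw34, ⟨rfl, rfl⟩⟩, rfl⟩
            · (have := od4.out; omega)
            · (have := hm4.out; have := om1.out; have := e0.out; have := e2.out; have := e3.out; have := r35.out; omega)
            · (have := hm4.out; have := om1.out; have := e0.out; have := e2.out; have := e3.out; have := r35.out; omega)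
            · (have := hm0.out; have := e2.out; have := e3.out; have := r35.out; have := e4.out; have := r45.out; omega)
          · (have := hm3.out; have := om1.out; have := om5.out; have := e0.out; have := e2.out; omega)
        · (have := hm3.out; have := om1.out; have := om4.out; have := e0.out; have := e2.out; have := r25.out; omega)
      · (have := hm5.out; have := om3.out; have := e0.out; have := e1.out; have := e2.out; have := r24.out; have := r25.out; omega)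
      · (have := hm1.out; have := e0.out; have := e2.out; have := r24.out; have := r25.out; have := e3.out; have := r34.out; have := r35.out; omega)
      · (have := hm1.out; have := om3.out; have := e0.out; have := e2.out; have := r24.out; have := r25.out; omega)
    · have t := pc3 q23 c23.out (by have := v2.out; have := qn24.out; have := qn25.out; omega)
      clear c23
      rcases t with ⟨⟨⟨rfl, rfl⟩, gw23, ⟨rfl, rfl⟩⟩, rfl⟩ | ⟨⟨⟨rfl, rfl⟩, gw23, ⟨rfl, rfl⟩⟩, rfl⟩ | ⟨⟨⟨rfl, rfl⟩, gw23, ⟨rfl, rfl⟩⟩, rfl⟩ | ⟨⟨⟨rfl, rfl⟩, gw23, ⟨rfl, rfl⟩⟩, rfl⟩ | ⟨⟨⟨rfl, rfl⟩, gw23, ⟨rfl, rfl⟩⟩, rfl⟩ | ⟨⟨⟨rfl, rfl⟩, gw23, ⟨rfl, rfl⟩⟩, rfl⟩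
      · (have := od3.out; omega)
      · have t := pc2 q24 c24.out (by have := v2.out; have := qn25.out; omega)
        clear c24
        rcases t with ⟨⟨⟨rfl, rfl⟩, gw24, ⟨rfl, rfl⟩⟩, rfl⟩ | ⟨⟨⟨rfl, rfl⟩, gw24, ⟨rfl, rfl⟩⟩, rfl⟩ | ⟨⟨⟨rfl, rfl⟩, gw24, ⟨rfl, rfl⟩⟩, rfl⟩ | ⟨⟨⟨rfl, rfl⟩, gw24, ⟨rfl, rfl⟩⟩, rfl⟩
        · have t := pc2 q25 c25.out (by have := v2.out; omega)
          clear c25
          rcases t with ⟨⟨⟨rfl, rfl⟩, gw25, ⟨rfl, rfl⟩⟩, rfl⟩ | ⟨⟨⟨rfl, rfl⟩, gw25, ⟨rfl, rfl⟩⟩, rfl⟩ | ⟨⟨⟨rfl, rfl⟩, gw25, ⟨rfl, rfl⟩⟩, rfl⟩ | ⟨⟨⟨rfl, rfl⟩, gw25, ⟨rfl, rfl⟩⟩, rfl⟩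
          · have t := pc3 q34 c34.out (by have := v3.out; have := qn35.out; omega)
            clear c34
            rcases t with ⟨⟨⟨rfl, rfl⟩, gw34, ⟨rfl, rfl⟩⟩, rfl⟩ | ⟨⟨⟨rfl, rfl⟩, gw34, ⟨rfl, rfl⟩⟩, rfl⟩ | ⟨⟨⟨rfl, rfl⟩, gw34, ⟨rfl, rfl⟩⟩, rfl⟩ | ⟨⟨⟨rfl, rfl⟩, gw34, ⟨rfl, rfl⟩⟩, rfl⟩ | ⟨⟨⟨rfl, rfl⟩, gw34, ⟨rfl, rfl⟩⟩, rfl⟩ | ⟨⟨⟨rfl, rfl⟩, gw34, ⟨rfl, rfl⟩⟩, rfl⟩
            · (have := od4.out; omega)
            · have t := pc2 q35 c35.out (by have := v3.out; omega)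
              clear c35
              rcases t with ⟨⟨⟨rfl, rfl⟩, gw35, ⟨rfl, rfl⟩⟩, rfl⟩ | ⟨⟨⟨rfl, rfl⟩, gw35, ⟨rfl, rfl⟩⟩, rfl⟩ | ⟨⟨⟨rfl, rfl⟩, gw35, ⟨rfl, rfl⟩⟩, rfl⟩ | ⟨⟨⟨rfl, rfl⟩, gw35, ⟨rfl, rfl⟩⟩, rfl⟩
              · have t := pc2 q45 c45.out (by have := v5.out; omega)
                clear c45
                rcases t with ⟨⟨⟨rfl, rfl⟩, gw45, ⟨rfl, rfl⟩⟩, rfl⟩ | ⟨⟨⟨rfl, rfl⟩, gw45, ⟨rfl, rfl⟩⟩, rfl⟩ | ⟨⟨⟨rfl, rfl⟩, gw45, ⟨rfl, rfl⟩⟩, rfl⟩ | ⟨⟨⟨rfl, rfl⟩, gw45, ⟨rfl, rfl⟩⟩, rfl⟩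
                · (have := hm5.out; have := om3.out; have := e0.out; have := e1.out; have := e3.out; have := e4.out; omega)
                · (have := hm4.out; have := om2.out; have := e0.out; have := e1.out; have := e5.out; omega)
                · (have := hm2.out; have := e1.out; have := e2.out; have := e4.out; have := e5.out; omega)
                · (have := hm4.out; have := om2.out; have := e0.out; have := e1.out; have := e5.out; omega)
              · (have := hm3.out; have := om2.out; have := e0.out; have := e1.out; have := e5.out; have := r54.out; omega)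
              · (have := hm3.out; have := om2.out; have := e0.out; have := e1.out; have := e5.out; have := r54.out; omega)
              · (have := hm3.out; have := om2.out; have := e0.out; have := e1.out; have := e5.out; have := r54.out; omega)
            · have t := pc1 q35 c35.out (by have := v3.out; omega)
              clear c35
              rcases t with ⟨⟨⟨rfl, rfl⟩, gw35, ⟨rfl, rfl⟩⟩, rfl⟩ | ⟨⟨⟨rfl, rfl⟩, gw35, ⟨rfl, rfl⟩⟩, rfl⟩
              · have t := pc2 q45 c45.out (by have := v4.out; omega)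
                clear c45
                rcases t with ⟨⟨⟨rfl, rfl⟩, gw45, ⟨rfl, rfl⟩⟩, rfl⟩ | ⟨⟨⟨rfl, rfl⟩, gw45, ⟨rfl, rfl⟩⟩, rfl⟩ | ⟨⟨⟨rfl, rfl⟩, gw45, ⟨rfl, rfl⟩⟩, rfl⟩ | ⟨⟨⟨rfl, rfl⟩, gw45, ⟨rfl, rfl⟩⟩, rfl⟩
                · have := hm0.out
                  have := hm1.out
                  have := hm2.out
                  have := hm3.out
                  have := hm4.out
                  have := hm5.out
                  have := e0.out
                  have := e1.out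
                  have := e2.out
                  have := e3.out
                  have := e4.out
                  have := e5.out
                  have := hw0.out
                  have := hw1.out
                  have := hw2.out
                  have := hw3.out
                  have := hw4.out
                  have := hw5.out
                  have := hs01.out
                  have := hs02.out
                  have := hs03.out
                  have := hs04.out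
                  have := hs05.out
                  have := hs12.out
                  have := hs13.out
                  have := hs14.out
                  have := hs15.out
                  have := hs23.out
                  have := hs24.out
                  have := hs25.out
                  have := hs34.out
                  have := hs35.out
                  have := hs45.out
                  have := ha00.out
                  have := ha11.out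
                  have := ha22.out
                  have := ha33.out
                  have := ha44.out
                  have := ha55.out
                  have := gw01.out
                  have := gw02.out
                  have := gw03.out
                  have := gw04.out
                  have := gw05.out
                  have := gw12.out
                  have := gw13.out
                  have := gw14.out
                  have := gw15.out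
                  have := gw23.out
                  have := gw24.out
                  have := gw25.out
                  have := gw34.out
                  have := gw35.out
                  have := gw45.out
                  exact ⟨p432015, T.m 4, T.w 4, Or.inr (Or.inr (Or.inl ((show T.m 4 = T.m 4 ∧ T.m 3 = T.m 4 ∧ T.m 2 = T.m 4 ∧ T.m 0 = T.m 4 ∧ T.m 1 = T.m 4 ∧ T.m 5 = T.m 4 ∧ T.w 4 = T.w 4 ∧ T.w 3 = 2 * T.w 4 ∧ T.w 2 = 2 * T.w 4 ∧ T.w 0 = 2 * T.w 4 ∧ T.w 1 = 2 * T.w 4 ∧ T.w 5 = T.w 4 ∧ T.a 4 4 = -2 * T.w 4 ∧ T.a 4 3 = 2 * T.w 4 ∧ T.a 4 2 = 0 ∧ T.a 4 0 = 0 ∧ T.a 4 1 = 0 ∧ T.a 4 5 = 0 ∧ T.a 3 3 = -4 * T.w 4 ∧ T.a 3 2 = 2 * T.w 4 ∧ T.a 3 0 = 0 ∧ T.a 3 1 = 0 ∧ T.a 3 5 = 0 ∧ T.a 2 2 = -4 * T.w 4 ∧ T.a 2 0 = 2 * T.w 4 ∧ T.a 2 1 = 0 ∧ T.a 2 5 = 0 ∧ T.a 0 0 = -4 * T.w 4 ∧ T.a 0 1 = 2 * T.w 4 ∧ T.a 0 5 = 0 ∧ T.a 1 1 = -4 * T.w 4 ∧ T.a 1 5 = 2 * T.w 4 ∧ T.a 5 5 = -2 * T.w 4 from by omega))))⟩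
                · (have := hm3.out; have := e0.out; have := e1.out; have := e2.out; have := e4.out; have := e5.out; omega)
                · (have := hm1.out; have := hm2.out; have := e3.out; have := e4.out; have := e5.out; omega)
                · (have := hm1.out; have := hm2.out; have := e3.out; have := e4.out; have := e5.out; omega)
              · (have := hm3.out; have := om2.out; have := e0.out; have := e1.out; have := e5.out; have := r54.out; omega)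
            · (have := hm1.out; have := om1.out; have := om4.out; have := e0.out; have := e2.out; have := e3.out; have := r35.out; omega)
            · (have := hm0.out; have := e2.out; have := e3.out; have := r35.out; have := e4.out; have := r45.out; omega)
            · (have := hm0.out; have := e2.out; have := e3.out; have := r35.out; have := e4.out; have := r45.out; omega)
          · (have := hm3.out; have := om1.out; have := om5.out; have := e0.out; have := e2.out; omega)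
          · (have := hm3.out; have := om1.out; have := om5.out; have := e0.out; have := e2.out; omega)
          · (have := hm1.out; have := om3.out; have := om5.out; have := e0.out; have := e2.out; omega)
        · (have := hm3.out; have := om1.out; have := om4.out; have := e0.out; have := e2.out; have := r25.out; omega)
        · (have := hm3.out; have := om1.out; have := om4.out; have := e0.out; have := e2.out; have := r25.out; omega)
        · (have := hm1.out; have := om3.out; have := om4.out; have := e0.out; have := e2.out; have := r25.out; omega)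
      · have t := pc1 q24 c24.out (by have := v2.out; have := qn25.out; omega)
        clear c24
        rcases t with ⟨⟨⟨rfl, rfl⟩, gw24, ⟨rfl, rfl⟩⟩, rfl⟩ | ⟨⟨⟨rfl, rfl⟩, gw24, ⟨rfl, rfl⟩⟩, rfl⟩
        · have t := pc1 q25 c25.out (by have := v2.out; omega)
          clear c25
          rcases t with ⟨⟨⟨rfl, rfl⟩, gw25, ⟨rfl, rfl⟩⟩, rfl⟩ | ⟨⟨⟨rfl, rfl⟩, gw25, ⟨rfl, rfl⟩⟩, rfl⟩
          · have t := pc2 q34 c34.out (by have := v3.out; have := qn35.out; omega)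
            clear c34
            rcases t with ⟨⟨⟨rfl, rfl⟩, gw34, ⟨rfl, rfl⟩⟩, rfl⟩ | ⟨⟨⟨rfl, rfl⟩, gw34, ⟨rfl, rfl⟩⟩, rfl⟩ | ⟨⟨⟨rfl, rfl⟩, gw34, ⟨rfl, rfl⟩⟩, rfl⟩ | ⟨⟨⟨rfl, rfl⟩, gw34, ⟨rfl, rfl⟩⟩, rfl⟩
            · (have := od4.out; omega)
            · (have := hm4.out; have := om1.out; have := e0.out; have := e2.out; have := e3.out; have := r35.out; omega)
            · (have := hm4.out; have := om1.out; have := e0.out; have := e2.out; have := e3.out; have := r35.out; omega)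
            · (have := hm0.out; have := e2.out; have := e3.out; have := r35.out; have := e4.out; have := r45.out; omega)
          · (have := hm3.out; have := om1.out; have := om5.out; have := e0.out; have := e2.out; omega)
        · (have := hm3.out; have := om1.out; have := om4.out; have := e0.out; have := e2.out; have := r25.out; omega)
      · (have := hm5.out; have := om3.out; have := e0.out; have := e1.out; have := e2.out; have := r24.out; have := r25.out; omega)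
      · (have := hm1.out; have := e0.out; have := e2.out; have := r24.out; have := r25.out; have := e3.out; have := r34.out; have := r35.out; omega)
      · (have := hm1.out; have := om3.out; have := e0.out; have := e2.out; have := r24.out; have := r25.out; omega)
    · (have := hm1.out; have := om2.out; have := om5.out; have := e0.out; have := e1.out; omega)
    · (have := hm2.out; have := e0.out; have := e1.out; have := e5.out; have := r52.out; have := r53.out; have := r54.out; omega)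
    · (have := hm2.out; have := om5.out; have := e0.out; have := e1.out; omega)
  · have t := pc2 q15 c15.out (by have := v1.out; omega)
    clear c15
    rcases t with ⟨⟨⟨rfl, rfl⟩, gw15, ⟨rfl, rfl⟩⟩, rfl⟩ | ⟨⟨⟨rfl, rfl⟩, gw15, ⟨rfl, rfl⟩⟩, rfl⟩ | ⟨⟨⟨rfl, rfl⟩, gw15, ⟨rfl, rfl⟩⟩, rfl⟩ | ⟨⟨⟨rfl, rfl⟩, gw15, ⟨rfl, rfl⟩⟩, rfl⟩
    · have t := pc3 q23 c23.out (by have := v2.out; have := qn24.out; have := qn25.out; omega)
      clear c23
      rcases t with ⟨⟨⟨rfl, rfl⟩, gw23, ⟨rfl, rfl⟩⟩, rfl⟩ | ⟨⟨⟨rfl, rfl⟩, gw23, ⟨rfl, rfl⟩⟩, rfl⟩ | ⟨⟨⟨rfl, rfl⟩, gw23, ⟨rfl, rfl⟩⟩, rfl⟩ | ⟨⟨⟨rfl, rfl⟩, gw23, ⟨rfl, rfl⟩⟩, rfl⟩ | ⟨⟨⟨rfl, rfl⟩, gw23, ⟨rfl, rfl⟩⟩, rfl⟩ | ⟨⟨⟨rfl, rfl⟩, gw23, ⟨rfl, rfl⟩⟩, rfl⟩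
      · (have := od3.out; omega)
      · have t := pc2 q24 c24.out (by have := v2.out; have := qn25.out; omega)
        clear c24
        rcases t with ⟨⟨⟨rfl, rfl⟩, gw24, ⟨rfl, rfl⟩⟩, rfl⟩ | ⟨⟨⟨rfl, rfl⟩, gw24, ⟨rfl, rfl⟩⟩, rfl⟩ | ⟨⟨⟨rfl, rfl⟩, gw24, ⟨rfl, rfl⟩⟩, rfl⟩ | ⟨⟨⟨rfl, rfl⟩, gw24, ⟨rfl, rfl⟩⟩, rfl⟩
        · have t := pc2 q25 c25.out (by have := v2.out; omega)
          clear c25
          rcases t with ⟨⟨⟨rfl, rfl⟩, gw25, ⟨rfl, rfl⟩⟩, rfl⟩ | ⟨⟨⟨rfl, rfl⟩, gw25, ⟨rfl, rfl⟩⟩, rfl⟩ | ⟨⟨⟨rfl, rfl⟩, gw25, ⟨rfl, rfl⟩⟩, rfl⟩ | ⟨⟨⟨rfl, rfl⟩, gw25, ⟨rfl, rfl⟩⟩, rfl⟩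
          · have t := pc3 q34 c34.out (by have := v3.out; have := qn35.out; omega)
            clear c34
            rcases t with ⟨⟨⟨rfl, rfl⟩, gw34, ⟨rfl, rfl⟩⟩, rfl⟩ | ⟨⟨⟨rfl, rfl⟩, gw34, ⟨rfl, rfl⟩⟩, rfl⟩ | ⟨⟨⟨rfl, rfl⟩, gw34, ⟨rfl, rfl⟩⟩, rfl⟩ | ⟨⟨⟨rfl, rfl⟩, gw34, ⟨rfl, rfl⟩⟩, rfl⟩ | ⟨⟨⟨rfl, rfl⟩, gw34, ⟨rfl, rfl⟩⟩, rfl⟩ | ⟨⟨⟨rfl, rfl⟩, gw34, ⟨rfl, rfl⟩⟩, rfl⟩
            · have t := pc3 q35 c35.out (by have := v3.out; omega)
              clear c35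
              rcases t with ⟨⟨⟨rfl, rfl⟩, gw35, ⟨rfl, rfl⟩⟩, rfl⟩ | ⟨⟨⟨rfl, rfl⟩, gw35, ⟨rfl, rfl⟩⟩, rfl⟩ | ⟨⟨⟨rfl, rfl⟩, gw35, ⟨rfl, rfl⟩⟩, rfl⟩ | ⟨⟨⟨rfl, rfl⟩, gw35, ⟨rfl, rfl⟩⟩, rfl⟩ | ⟨⟨⟨rfl, rfl⟩, gw35, ⟨rfl, rfl⟩⟩, rfl⟩ | ⟨⟨⟨rfl, rfl⟩, gw35, ⟨rfl, rfl⟩⟩, rfl⟩
              · (have := hm1.out; have := om3.out; have := e0.out; have := e3.out; omega)
              · have t := pc3 q45 c45.out (by have := v4.out; omega)
                clear c45
                rcases t with ⟨⟨⟨rfl, rfl⟩, gw45, ⟨rfl, rfl⟩⟩, rfl⟩ | ⟨⟨⟨rfl, rfl⟩, gw45, ⟨rfl, rfl⟩⟩, rfl⟩ | ⟨⟨⟨rfl, rfl⟩, gw45, ⟨rfl, rfl⟩⟩, rfl⟩ | ⟨⟨⟨rfl, rfl⟩, gw45, ⟨rfl, rfl⟩⟩, rfl⟩ | ⟨⟨⟨rfl, rfl⟩, gw45, ⟨rfl, rfl⟩⟩, rfl⟩ | ⟨⟨⟨rfl, rfl⟩, gw45, ⟨rfl, rfl⟩⟩, rfl⟩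
                · (have := hm0.out; have := om1.out; have := e1.out; have := e4.out; omega)
                · have := hm0.out
                  have := hm1.out
                  have := hm2.out
                  have := hm3.out
                  have := hm4.out
                  have := hm5.out
                  have := e0.out
                  have := e1.out
                  have := e2.out
                  have := e3.out
                  have := e4.out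
                  have := e5.out
                  have := hw0.out
                  have := hw1.out
                  have := hw2.out
                  have := hw3.out
                  have := hw4.out
                  have := hw5.out
                  have := hs01.out
                  have := hs02.out
                  have := hs03.out
                  have := hs04.out
                  have := hs05.out
                  have := hs12.out
                  have := hs13.out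
                  have := hs14.out
                  have := hs15.out
                  have := hs23.out
                  have := hs24.out
                  have := hs25.out
                  have := hs34.out
                  have := hs35.out
                  have := hs45.out
                  have := ha00.out
                  have := ha11.out
                  have := ha22.out
                  have := ha33.out
                  have := ha44.out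
                  have := ha55.out
                  have := gw01.out
                  have := gw02.out
                  have := gw03.out
                  have := gw04.out
                  have := gw05.out
                  have := gw12.out
                  have := gw13.out
                  have := gw14.out
                  have := gw15.out
                  have := gw23.out
                  have := gw24.out
                  have := gw25.out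
                  have := gw34.out
                  have := gw35.out
                  have := gw45.out
                  exact ⟨p014532, T.m 0, T.w 0, Or.inl ((show T.m 0 = T.m 0 ∧ T.m 1 = T.m 0 ∧ T.m 4 = T.m 0 ∧ T.m 5 = T.m 0 ∧ T.m 3 = T.m 0 ∧ T.m 2 = T.m 0 ∧ T.w 0 = T.w 0 ∧ T.w 1 = T.w 0 ∧ T.w 4 = T.w 0 ∧ T.w 5 = T.w 0 ∧ T.w 3 = T.w 0 ∧ T.w 2 = T.w 0 ∧ T.a 0 0 = -2 * T.w 0 ∧ T.a 0 1 = T.w 0 ∧ T.a 0 4 = 0 ∧ T.a 0 5 = 0 ∧ T.a 0 3 = 0 ∧ T.a 0 2 = T.w 0 ∧ T.a 1 1 = -2 * T.w 0 ∧ T.a 1 4 = T.w 0 ∧ T.a 1 5 = 0 ∧ T.a 1 3 = 0 ∧ T.a 1 2 = 0 ∧ T.a 4 4 = -2 * T.w 0 ∧ T.a 4 5 = T.w 0 ∧ T.a 4 3 = 0 ∧ T.a 4 2 = 0 ∧ T.a 5 5 = -2 * T.w 0 ∧ T.a 5 3 = T.w 0 ∧ T.a 5 2 = 0 ∧ T.a 3 3 = -2 * T.w 0 ∧ T.a 3 2 = T.w 0 ∧ T.a 2 2 = -2 * T.w 0 from by omega))⟩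
                · (have := hm0.out; have := e1.out; have := e2.out; have := e3.out; have := e4.out; have := e5.out; omega)
                · (have := hm1.out; have := om2.out; have := om5.out; have := e0.out; have := e1.out; have := e4.out; omega)
                · (have := hm2.out; have := e1.out; have := e2.out; have := e4.out; have := e5.out; omega)
                · (have := hm1.out; have := hm2.out; have := e3.out; have := e4.out; have := e5.out; omega)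
              · have t := pc2 q45 c45.out (by have := v5.out; omega)
                clear c45
                rcases t with ⟨⟨⟨rfl, rfl⟩, gw45, ⟨rfl, rfl⟩⟩, rfl⟩ | ⟨⟨⟨rfl, rfl⟩, gw45, ⟨rfl, rfl⟩⟩, rfl⟩ | ⟨⟨⟨rfl, rfl⟩, gw45, ⟨rfl, rfl⟩⟩, rfl⟩ | ⟨⟨⟨rfl, rfl⟩, gw45, ⟨rfl, rfl⟩⟩, rfl⟩
                · (have := hm0.out; have := om1.out; have := e1.out; have := e4.out; omega)
                · (have := hm0.out; have := e1.out; have := e2.out; have := e3.out; have := e4.out; have := e5.out; omega)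
                · (have := hm1.out; have := hm2.out; have := e3.out; have := e4.out; have := e5.out; omega)
                · (have := hm1.out; have := hm2.out; have := e3.out; have := e4.out; have := e5.out; omega)
              · (have := hm2.out; have := om1.out; have := om5.out; have := e0.out; have := e2.out; have := e3.out; omega)
              · (have := hm0.out; have := e2.out; have := e3.out; have := e5.out; have := r54.out; omega)
              · (have := hm0.out; have := e2.out; have := e3.out; have := e5.out; have := r54.out; omega)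
            · have t := pc2 q35 c35.out (by have := v3.out; omega)
              clear c35
              rcases t with ⟨⟨⟨rfl, rfl⟩, gw35, ⟨rfl, rfl⟩⟩, rfl⟩ | ⟨⟨⟨rfl, rfl⟩, gw35, ⟨rfl, rfl⟩⟩, rfl⟩ | ⟨⟨⟨rfl, rfl⟩, gw35, ⟨rfl, rfl⟩⟩, rfl⟩ | ⟨⟨⟨rfl, rfl⟩, gw35, ⟨rfl, rfl⟩⟩, rfl⟩
              · have t := pc2 q45 c45.out (by have := v4.out; omega)
                clear c45
                rcases t with ⟨⟨⟨rfl, rfl⟩, gw45, ⟨rfl, rfl⟩⟩, rfl⟩ | ⟨⟨⟨rfl, rfl⟩, gw45, ⟨rfl, rfl⟩⟩, rfl⟩ | ⟨⟨⟨rfl, rfl⟩, gw45, ⟨rfl, rfl⟩⟩, rfl⟩ | ⟨⟨⟨rfl, rfl⟩, gw45, ⟨rfl, rfl⟩⟩, rfl⟩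
                · (have := od5.out; omega)
                · (have := hm5.out; have := e0.out; have := e1.out; have := e2.out; have := e3.out; have := e4.out; omega)
                · (have := hm5.out; have := e0.out; have := e1.out; have := e2.out; have := e3.out; have := e4.out; omega)
                · (have := hm5.out; have := e0.out; have := e1.out; have := e2.out; have := e3.out; have := e4.out; omega)
              · (have := hm5.out; have := om2.out; have := e0.out; have := e1.out; have := e3.out; have := e4.out; have := r45.out; omega)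
              · (have := hm5.out; have := om2.out; have := e0.out; have := e1.out; have := e3.out; have := e4.out; have := r45.out; omega)
              · (have := hm5.out; have := om2.out; have := e0.out; have := e1.out; have := e3.out; have := e4.out; have := r45.out; omega)
            · (have := hm0.out; have := om2.out; have := e0.out; have := e1.out; have := e3.out; have := r35.out; have := e4.out; have := r45.out; omega)
            · (have := hm0.out; have := om1.out; have := e0.out; have := e2.out; have := e3.out; have := r35.out; have := e4.out; have := r45.out; omega)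
            · (have := hm3.out; have := e0.out; have := e1.out; have := e2.out; have := e3.out; have := r35.out; have := e4.out; have := r45.out; omega)
            · (have := hm4.out; have := e0.out; have := e1.out; have := e2.out; have := e3.out; have := r35.out; have := e4.out; have := r45.out; omega)
          · (have := hm3.out; have := om1.out; have := om5.out; have := e0.out; have := e2.out; omega)
          · (have := hm3.out; have := om1.out; have := om5.out; have := e0.out; have := e2.out; omega)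
          · (have := hm1.out; have := om3.out; have := om5.out; have := e0.out; have := e2.out; omega)
        · (have := hm3.out; have := om1.out; have := om4.out; have := e0.out; have := e2.out; have := r25.out; omega)
        · (have := hm3.out; have := om1.out; have := om4.out; have := e0.out; have := e2.out; have := r25.out; omega)
        · (have := hm1.out; have := om3.out; have := om4.out; have := e0.out; have := e2.out; have := r25.out; omega)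
      · have t := pc1 q24 c24.out (by have := v2.out; have := qn25.out; omega)
        clear c24
        rcases t with ⟨⟨⟨rfl, rfl⟩, gw24, ⟨rfl, rfl⟩⟩, rfl⟩ | ⟨⟨⟨rfl, rfl⟩, gw24, ⟨rfl, rfl⟩⟩, rfl⟩
        · have t := pc1 q25 c25.out (by have := v2.out; omega)
          clear c25
          rcases t with ⟨⟨⟨rfl, rfl⟩, gw25, ⟨rfl, rfl⟩⟩, rfl⟩ | ⟨⟨⟨rfl, rfl⟩, gw25, ⟨rfl, rfl⟩⟩, rfl⟩
          · have t := pc2 q34 c34.out (by have := v3.out; have := qn35.out; omega)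
            clear c34
            rcases t with ⟨⟨⟨rfl, rfl⟩, gw34, ⟨rfl, rfl⟩⟩, rfl⟩ | ⟨⟨⟨rfl, rfl⟩, gw34, ⟨rfl, rfl⟩⟩, rfl⟩ | ⟨⟨⟨rfl, rfl⟩, gw34, ⟨rfl, rfl⟩⟩, rfl⟩ | ⟨⟨⟨rfl, rfl⟩, gw34, ⟨rfl, rfl⟩⟩, rfl⟩
            · have t := pc2 q35 c35.out (by have := v3.out; omega)
              clear c35
              rcases t with ⟨⟨⟨rfl, rfl⟩, gw35, ⟨rfl, rfl⟩⟩, rfl⟩ | ⟨⟨⟨rfl, rfl⟩, gw35, ⟨rfl, rfl⟩⟩, rfl⟩ | ⟨⟨⟨rfl, rfl⟩, gw35, ⟨rfl, rfl⟩⟩, rfl⟩ | ⟨⟨⟨rfl, rfl⟩, gw35, ⟨rfl, rfl⟩⟩, rfl⟩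
              · have t := pc3 q45 c45.out (by have := v4.out; omega)
                clear c45
                rcases t with ⟨⟨⟨rfl, rfl⟩, gw45, ⟨rfl, rfl⟩⟩, rfl⟩ | ⟨⟨⟨rfl, rfl⟩, gw45, ⟨rfl, rfl⟩⟩, rfl⟩ | ⟨⟨⟨rfl, rfl⟩, gw45, ⟨rfl, rfl⟩⟩, rfl⟩ | ⟨⟨⟨rfl, rfl⟩, gw45, ⟨rfl, rfl⟩⟩, rfl⟩ | ⟨⟨⟨rfl, rfl⟩, gw45, ⟨rfl, rfl⟩⟩, rfl⟩ | ⟨⟨⟨rfl, rfl⟩, gw45, ⟨rfl, rfl⟩⟩, rfl⟩
                · (have := od5.out; omega)
                · (have := hm3.out; have := om4.out; have := e0.out; have := e2.out; have := e4.out; have := e5.out; omega)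
                · have := hm0.out
                  have := hm1.out
                  have := hm2.out
                  have := hm3.out
                  have := hm4.out
                  have := hm5.out
                  have := e0.out
                  have := e1.out
                  have := e2.out
                  have := e3.out
                  have := e4.out
                  have := e5.out
                  have := hw0.out
                  have := hw1.out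
                  have := hw2.out
                  have := hw3.out
                  have := hw4.out
                  have := hw5.out
                  have := hs01.out
                  have := hs02.out
                  have := hs03.out
                  have := hs04.out
                  have := hs05.out
                  have := hs12.out
                  have := hs13.out
                  have := hs14.out
                  have := hs15.out
                  have := hs23.out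
                  have := hs24.out
                  have := hs25.out
                  have := hs34.out
                  have := hs35.out
                  have := hs45.out
                  have := ha00.out
                  have := ha11.out
                  have := ha22.out
                  have := ha33.out
                  have := ha44.out
                  have := ha55.out
                  have := gw01.out
                  have := gw02.out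
                  have := gw03.out
                  have := gw04.out
                  have := gw05.out
                  have := gw12.out
                  have := gw13.out
                  have := gw14.out
                  have := gw15.out
                  have := gw23.out
                  have := gw24.out
                  have := gw25.out
                  have := gw34.out
                  have := gw35.out
                  have := gw45.out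
                  exact ⟨p320145, T.m 3, T.w 3, Or.inr (Or.inr (Or.inl ((show T.m 3 = T.m 3 ∧ T.m 2 = T.m 3 ∧ T.m 0 = T.m 3 ∧ T.m 1 = T.m 3 ∧ T.m 4 = T.m 3 ∧ T.m 5 = T.m 3 ∧ T.w 3 = T.w 3 ∧ T.w 2 = 2 * T.w 3 ∧ T.w 0 = 2 * T.w 3 ∧ T.w 1 = 2 * T.w 3 ∧ T.w 4 = 2 * T.w 3 ∧ T.w 5 = T.w 3 ∧ T.a 3 3 = -2 * T.w 3 ∧ T.a 3 2 = 2 * T.w 3 ∧ T.a 3 0 = 0 ∧ T.a 3 1 = 0 ∧ T.a 3 4 = 0 ∧ T.a 3 5 = 0 ∧ T.a 2 2 = -4 * T.w 3 ∧ T.a 2 0 = 2 * T.w 3 ∧ T.a 2 1 = 0 ∧ T.a 2 4 = 0 ∧ T.a 2 5 = 0 ∧ T.a 0 0 = -4 * T.w 3 ∧ T.a 0 1 = 2 * T.w 3 ∧ T.a 0 4 = 0 ∧ T.a 0 5 = 0 ∧ T.a 1 1 = -4 * T.w 3 ∧ T.a 1 4 = 2 * T.w 3 ∧ T.a 1 5 = 0 ∧ T.a 4 4 = -4 * T.w 3 ∧ T.a 4 5 = 2 * T.w 3 ∧ T.a 5 5 = -2 * T.w 3 from by omega))))⟩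
                · (have := hm2.out; have := om5.out; have := e0.out; have := e4.out; have := e5.out; omega)
                · (have := hm0.out; have := e1.out; have := e4.out; have := e5.out; omega)
                · (have := hm3.out; have := om5.out; have := e0.out; have := e1.out; have := e2.out; have := e5.out; omega)
              · (have := hm5.out; have := om1.out; have := e0.out; have := e2.out; have := e3.out; omega)
              · (have := hm5.out; have := om1.out; have := e0.out; have := e2.out; have := e3.out; omega)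
              · (have := hm1.out; have := om5.out; have := e0.out; have := e2.out; have := e3.out; omega)
            · (have := hm0.out; have := om1.out; have := e0.out; have := e1.out; have := e2.out; have := e3.out; have := r35.out; omega)
            · (have := hm0.out; have := om1.out; have := e0.out; have := e1.out; have := e2.out; have := e3.out; have := r35.out; omega)
            · (have := hm4.out; have := om1.out; have := e0.out; have := e2.out; have := e3.out; have := r35.out; omega)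
          · (have := hm3.out; have := om1.out; have := om5.out; have := e0.out; have := e2.out; omega)
        · (have := hm3.out; have := om1.out; have := om4.out; have := e0.out; have := e2.out; have := r25.out; omega)
      · (have := hm4.out; have := om3.out; have := e0.out; have := e1.out; have := e2.out; have := r24.out; have := r25.out; omega)
      · (have := hm1.out; have := e0.out; have := e2.out; have := r24.out; have := r25.out; have := e3.out; have := r34.out; have := r35.out; omega)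
      · (have := hm1.out; have := om3.out; have := e0.out; have := e2.out; have := r24.out; have := r25.out; omega)
    · (have := hm4.out; have := om2.out; have := om5.out; have := e0.out; have := e1.out; omega)
    · (have := hm4.out; have := om2.out; have := om5.out; have := e0.out; have := e1.out; omega)
    · (have := hm2.out; have := om4.out; have := om5.out; have := e0.out; have := e1.out; omega)
  · have t := pc1 q15 c15.out (by have := v1.out; omega)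
    clear c15
    rcases t with ⟨⟨⟨rfl, rfl⟩, gw15, ⟨rfl, rfl⟩⟩, rfl⟩ | ⟨⟨⟨rfl, rfl⟩, gw15, ⟨rfl, rfl⟩⟩, rfl⟩
    · have t := pc3 q23 c23.out (by have := v2.out; have := qn24.out; have := qn25.out; omega)
      clear c23
      rcases t with ⟨⟨⟨rfl, rfl⟩, gw23, ⟨rfl, rfl⟩⟩, rfl⟩ | ⟨⟨⟨rfl, rfl⟩, gw23, ⟨rfl, rfl⟩⟩, rfl⟩ | ⟨⟨⟨rfl, rfl⟩, gw23, ⟨rfl, rfl⟩⟩, rfl⟩ | ⟨⟨⟨rfl, rfl⟩, gw23, ⟨rfl, rfl⟩⟩, rfl⟩ | ⟨⟨⟨rfl, rfl⟩, gw23, ⟨rfl, rfl⟩⟩, rfl⟩ | ⟨⟨⟨rfl, rfl⟩, gw23, ⟨rfl, rfl⟩⟩, rfl⟩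
      · (have := od3.out; omega)
      · have t := pc2 q24 c24.out (by have := v2.out; have := qn25.out; omega)
        clear c24
        rcases t with ⟨⟨⟨rfl, rfl⟩, gw24, ⟨rfl, rfl⟩⟩, rfl⟩ | ⟨⟨⟨rfl, rfl⟩, gw24, ⟨rfl, rfl⟩⟩, rfl⟩ | ⟨⟨⟨rfl, rfl⟩, gw24, ⟨rfl, rfl⟩⟩, rfl⟩ | ⟨⟨⟨rfl, rfl⟩, gw24, ⟨rfl, rfl⟩⟩, rfl⟩
        · have t := pc2 q25 c25.out (by have := v2.out; omega)
          clear c25
          rcases t with ⟨⟨⟨rfl, rfl⟩, gw25, ⟨rfl, rfl⟩⟩, rfl⟩ | ⟨⟨⟨rfl, rfl⟩, gw25, ⟨rfl, rfl⟩⟩, rfl⟩ | ⟨⟨⟨rfl, rfl⟩, gw25, ⟨rfl, rfl⟩⟩, rfl⟩ | ⟨⟨⟨rfl, rfl⟩, gw25, ⟨rfl, rfl⟩⟩, rfl⟩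
          · have t := pc2 q34 c34.out (by have := v4.out; have := qn45.out; omega)
            clear c34
            rcases t with ⟨⟨⟨rfl, rfl⟩, gw34, ⟨rfl, rfl⟩⟩, rfl⟩ | ⟨⟨⟨rfl, rfl⟩, gw34, ⟨rfl, rfl⟩⟩, rfl⟩ | ⟨⟨⟨rfl, rfl⟩, gw34, ⟨rfl, rfl⟩⟩, rfl⟩ | ⟨⟨⟨rfl, rfl⟩, gw34, ⟨rfl, rfl⟩⟩, rfl⟩
            · have t := pc3 q35 c35.out (by have := v3.out; omega)
              clear c35
              rcases t with ⟨⟨⟨rfl, rfl⟩, gw35, ⟨rfl, rfl⟩⟩, rfl⟩ | ⟨⟨⟨rfl, rfl⟩, gw35, ⟨rfl, rfl⟩⟩, rfl⟩ | ⟨⟨⟨rfl, rfl⟩, gw35, ⟨rfl, rfl⟩⟩, rfl⟩ | ⟨⟨⟨rfl, rfl⟩, gw35, ⟨rfl, rfl⟩⟩, rfl⟩ | ⟨⟨⟨rfl, rfl⟩, gw35, ⟨rfl, rfl⟩⟩, rfl⟩ | ⟨⟨⟨rfl, rfl⟩, gw35, ⟨rfl, rfl⟩⟩, rfl⟩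
              · (have := hm1.out; have := om3.out; have := e0.out; have := e3.out; omega)
              · have t := pc2 q45 c45.out (by have := v4.out; omega)
                clear c45
                rcases t with ⟨⟨⟨rfl, rfl⟩, gw45, ⟨rfl, rfl⟩⟩, rfl⟩ | ⟨⟨⟨rfl, rfl⟩, gw45, ⟨rfl, rfl⟩⟩, rfl⟩ | ⟨⟨⟨rfl, rfl⟩, gw45, ⟨rfl, rfl⟩⟩, rfl⟩ | ⟨⟨⟨rfl, rfl⟩, gw45, ⟨rfl, rfl⟩⟩, rfl⟩
                · (have := hm4.out; have := om3.out; have := e0.out; have := e1.out; have := e3.out; have := e5.out; omega)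
                · (have := hm5.out; have := om2.out; have := e0.out; have := e1.out; have := e4.out; omega)
                · (have := hm5.out; have := om2.out; have := e0.out; have := e1.out; have := e4.out; omega)
                · (have := hm2.out; have := e1.out; have := e2.out; have := e4.out; have := e5.out; omega)
              · have t := pc2 q45 c45.out (by have := v4.out; omega)
                clear c45
                rcases t with ⟨⟨⟨rfl, rfl⟩, gw45, ⟨rfl, rfl⟩⟩, rfl⟩ | ⟨⟨⟨rfl, rfl⟩, gw45, ⟨rfl, rfl⟩⟩, rfl⟩ | ⟨⟨⟨rfl, rfl⟩, gw45, ⟨rfl, rfl⟩⟩, rfl⟩ | ⟨⟨⟨rfl, rfl⟩, gw45, ⟨rfl, rfl⟩⟩, rfl⟩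
                · have := hm0.out
                  have := hm1.out
                  have := hm2.out
                  have := hm3.out
                  have := hm4.out
                  have := hm5.out
                  have := e0.out
                  have := e1.out
                  have := e2.out
                  have := e3.out
                  have := e4.out
                  have := e5.out
                  have := hw0.out
                  have := hw1.out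
                  have := hw2.out
                  have := hw3.out
                  have := hw4.out
                  have := hw5.out
                  have := hs01.out
                  have := hs02.out
                  have := hs03.out
                  have := hs04.out
                  have := hs05.out
                  have := hs12.out
                  have := hs13.out
                  have := hs14.out
                  have := hs15.out
                  have := hs23.out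
                  have := hs24.out
                  have := hs25.out
                  have := hs34.out
                  have := hs35.out
                  have := hs45.out
                  have := ha00.out
                  have := ha11.out
                  have := ha22.out
                  have := ha33.out
                  have := ha44.out
                  have := ha55.out
                  have := gw01.out
                  have := gw02.out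
                  have := gw03.out
                  have := gw04.out
                  have := gw05.out
                  have := gw12.out
                  have := gw13.out
                  have := gw14.out
                  have := gw15.out
                  have := gw23.out
                  have := gw24.out
                  have := gw25.out
                  have := gw34.out
                  have := gw35.out
                  have := gw45.out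
                  exact ⟨p410235, T.m 4, T.w 4, Or.inr (Or.inr (Or.inl ((show T.m 4 = T.m 4 ∧ T.m 1 = T.m 4 ∧ T.m 0 = T.m 4 ∧ T.m 2 = T.m 4 ∧ T.m 3 = T.m 4 ∧ T.m 5 = T.m 4 ∧ T.w 4 = T.w 4 ∧ T.w 1 = 2 * T.w 4 ∧ T.w 0 = 2 * T.w 4 ∧ T.w 2 = 2 * T.w 4 ∧ T.w 3 = 2 * T.w 4 ∧ T.w 5 = T.w 4 ∧ T.a 4 4 = -2 * T.w 4 ∧ T.a 4 1 = 2 * T.w 4 ∧ T.a 4 0 = 0 ∧ T.a 4 2 = 0 ∧ T.a 4 3 = 0 ∧ T.a 4 5 = 0 ∧ T.a 1 1 = -4 * T.w 4 ∧ T.a 1 0 = 2 * T.w 4 ∧ T.a 1 2 = 0 ∧ T.a 1 3 = 0 ∧ T.a 1 5 = 0 ∧ T.a 0 0 = -4 * T.w 4 ∧ T.a 0 2 = 2 * T.w 4 ∧ T.a 0 3 = 0 ∧ T.a 0 5 = 0 ∧ T.a 2 2 = -4 * T.w 4 ∧ T.a 2 3 = 2 * T.w 4 ∧ T.a 2 5 = 0 ∧ T.a 3 3 = -4 * T.w 4 ∧ T.a 3 5 = 2 * T.w 4 ∧ T.a 5 5 = -2 * T.w 4 from by omega))))⟩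
                · (have := hm3.out; have := e0.out; have := e1.out; have := e2.out; have := e4.out; have := e5.out; omega)
                · (have := hm1.out; have := hm2.out; have := e3.out; have := e4.out; have := e5.out; omega)
                · (have := hm1.out; have := hm2.out; have := e3.out; have := e4.out; have := e5.out; omega)
              · (have := hm0.out; have := om1.out; have := om5.out; have := e0.out; have := e2.out; have := e3.out; omega)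
              · (have := hm0.out; have := e2.out; have := e3.out; have := e5.out; have := r54.out; omega)
              · (have := hm0.out; have := e2.out; have := e3.out; have := e5.out; have := r54.out; omega)
            · (have := hm0.out; have := om2.out; have := e0.out; have := e1.out; have := e2.out; have := e4.out; have := r45.out; omega)
            · (have := hm3.out; have := om2.out; have := e0.out; have := e1.out; have := e4.out; have := r45.out; omega)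
            · (have := hm0.out; have := om2.out; have := e0.out; have := e1.out; have := e2.out; have := e4.out; have := r45.out; omega)
          · (have := hm3.out; have := om1.out; have := om5.out; have := e0.out; have := e2.out; omega)
          · (have := hm3.out; have := om1.out; have := om5.out; have := e0.out; have := e2.out; omega)
          · (have := hm1.out; have := om3.out; have := om5.out; have := e0.out; have := e2.out; omega)
        · (have := hm3.out; have := om1.out; have := om4.out; have := e0.out; have := e2.out; have := r25.out; omega)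
        · (have := hm3.out; have := om1.out; have := om4.out; have := e0.out; have := e2.out; have := r25.out; omega)
        · (have := hm1.out; have := om3.out; have := om4.out; have := e0.out; have := e2.out; have := r25.out; omega)
      · have t := pc1 q24 c24.out (by have := v2.out; have := qn25.out; omega)
        clear c24
        rcases t with ⟨⟨⟨rfl, rfl⟩, gw24, ⟨rfl, rfl⟩⟩, rfl⟩ | ⟨⟨⟨rfl, rfl⟩, gw24, ⟨rfl, rfl⟩⟩, rfl⟩
        · have t := pc1 q25 c25.out (by have := v2.out; omega)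
          clear c25
          rcases t with ⟨⟨⟨rfl, rfl⟩, gw25, ⟨rfl, rfl⟩⟩, rfl⟩ | ⟨⟨⟨rfl, rfl⟩, gw25, ⟨rfl, rfl⟩⟩, rfl⟩
          · have t := pc2 q34 c34.out (by have := v3.out; have := qn35.out; omega)
            clear c34
            rcases t with ⟨⟨⟨rfl, rfl⟩, gw34, ⟨rfl, rfl⟩⟩, rfl⟩ | ⟨⟨⟨rfl, rfl⟩, gw34, ⟨rfl, rfl⟩⟩, rfl⟩ | ⟨⟨⟨rfl, rfl⟩, gw34, ⟨rfl, rfl⟩⟩, rfl⟩ | ⟨⟨⟨rfl, rfl⟩, gw34, ⟨rfl, rfl⟩⟩, rfl⟩
            · have t := pc2 q35 c35.out (by have := v3.out; omega)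
              clear c35
              rcases t with ⟨⟨⟨rfl, rfl⟩, gw35, ⟨rfl, rfl⟩⟩, rfl⟩ | ⟨⟨⟨rfl, rfl⟩, gw35, ⟨rfl, rfl⟩⟩, rfl⟩ | ⟨⟨⟨rfl, rfl⟩, gw35, ⟨rfl, rfl⟩⟩, rfl⟩ | ⟨⟨⟨rfl, rfl⟩, gw35, ⟨rfl, rfl⟩⟩, rfl⟩
              · have t := pc2 q45 c45.out (by have := v4.out; omega)
                clear c45
                rcases t with ⟨⟨⟨rfl, rfl⟩, gw45, ⟨rfl, rfl⟩⟩, rfl⟩ | ⟨⟨⟨rfl, rfl⟩, gw45, ⟨rfl, rfl⟩⟩, rfl⟩ | ⟨⟨⟨rfl, rfl⟩, gw45, ⟨rfl, rfl⟩⟩, rfl⟩ | ⟨⟨⟨rfl, rfl⟩, gw45, ⟨rfl, rfl⟩⟩, rfl⟩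
                · (have := od5.out; omega)
                · (have := hm5.out; have := om2.out; have := e0.out; have := e1.out; have := e4.out; omega)
                · (have := hm5.out; have := om2.out; have := e0.out; have := e1.out; have := e4.out; omega)
                · (have := hm2.out; have := om5.out; have := e0.out; have := e1.out; have := e4.out; omega)
              · (have := hm5.out; have := om1.out; have := e0.out; have := e2.out; have := e3.out; omega)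
              · (have := hm5.out; have := om1.out; have := e0.out; have := e2.out; have := e3.out; omega)
              · (have := hm1.out; have := om5.out; have := e0.out; have := e2.out; have := e3.out; omega)
            · (have := hm0.out; have := e1.out; have := e2.out; have := e3.out; have := r35.out; have := e4.out; have := r45.out; omega)
            · (have := hm0.out; have := hm1.out; have := e2.out; have := e3.out; have := r35.out; have := e4.out; have := r45.out; omega)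
            · (have := hm0.out; have := hm2.out; have := e1.out; have := e3.out; have := r35.out; have := e4.out; have := r45.out; omega)
          · (have := hm3.out; have := om1.out; have := om5.out; have := e0.out; have := e2.out; omega)
        · (have := hm3.out; have := om1.out; have := om4.out; have := e0.out; have := e2.out; have := r25.out; omega)
      · (have := hm4.out; have := om3.out; have := e0.out; have := e1.out; have := e2.out; have := r24.out; have := r25.out; omega)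
      · (have := hm1.out; have := e0.out; have := e2.out; have := r24.out; have := r25.out; have := e3.out; have := r34.out; have := r35.out; omega)
      · (have := hm1.out; have := om3.out; have := e0.out; have := e2.out; have := r24.out; have := r25.out; omega)
    · (have := hm4.out; have := om2.out; have := om5.out; have := e0.out; have := e1.out; omega)
  · (have := hm1.out; have := om2.out; have := om4.out; have := e0.out; have := e1.out; have := r15.out; omega)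
  · (have := hm2.out; have := e0.out; have := e1.out; have := r15.out; have := e4.out; have := r42.out; have := r43.out; have := r45.out; omega)
  · (have := hm2.out; have := om4.out; have := e0.out; have := e1.out; have := r15.out; omega)

end Groth.Agent.Lib.helper20.G1n6
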