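import Groth.Agent.Lib.Helper20.G1n6Part0
import Groth.Agent.Lib.Helper20.G1n6Part1
import Groth.Agent.Lib.Helper20.G1n6Part2
import Groth.Agent.Lib.Helper20.G1n6Part3
import Groth.Agent.Lib.Helper20.G1n6Part4
import Groth.Agent.Lib.Helper20.G1n6Part5
import Groth.Agent.Lib.Helper20.G1n6Part6
import Groth.Agent.Lib.Helper20.G1n6Part7
import Groth.Agent.Lib.Helper20.G1n6Part8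
import Groth.Agent.Lib.Helper20.G1n6Part9
import Groth.Agent.Lib.Helper20.G1n6Part10
import Groth.Agent.Lib.Helper20.G1n6Part11
import Groth.Agent.Lib.Helper20.G1n6Part12

set_option autoImplicit false
set_option linter.unusedVariables false
open Finset
open Models Models.NumericalType

namespace Groth.Agent.Lib.helper20.G1n6

set_option maxHeartbeats 0 in
theorem top (T : Models.NumericalType 6) (α01 α02 α03 α04 α05 α10 α12 α13 α14 α15 α20 α21 α23 α24 α25 α30 α31 α32 α34 α35 α40 α41 α42 α43 α45 α50 α51 α52 α53 α54 x01 x02 x03 x04 x05 x10 x12 x13 x14 x15 x20 x21 x23 x24 x25 x30 x31 x32 x34 x35 x40 x41 x42 x43 x45 x50 x51 x52 x53 x54 q01 q02 q03 q04 q05 q12 q13 q14 q15 q23 q24 q25 q34 q35 q45 : ℤ)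
    (hm0 : Hide (0 < T.m 0))
    (hm1 : Hide (0 < T.m 1))
    (hm2 : Hide (0 < T.m 2))
    (hm3 : Hide (0 < T.m 3))
    (hm4 : Hide (0 < T.m 4))
    (hm5 : Hide (0 < T.m 5))
    (om1 : Hide (T.m 0 ≤ T.m 1))
    (om2 : Hide (T.m 0 ≤ T.m 2))
    (om3 : Hide (T.m 0 ≤ T.m 3))
    (om4 : Hide (T.m 0 ≤ T.m 4))
    (om5 : Hide (T.m 0 ≤ T.m 5))
    (e0 : Hide (x01 + x02 + x03 + x04 + x05 = 2 * T.m 0))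
    (e1 : Hide (x10 + x12 + x13 + x14 + x15 = 2 * T.m 1))
    (e2 : Hide (x20 + x21 + x23 + x24 + x25 = 2 * T.m 2))
    (e3 : Hide (x30 + x31 + x32 + x34 + x35 = 2 * T.m 3))
    (e4 : Hide (x40 + x41 + x42 + x43 + x45 = 2 * T.m 4))
    (e5 : Hide (x50 + x51 + x52 + x53 + x54 = 2 * T.m 5))
    (r01 : Hide (0 ≤ x01))
    (r02 : Hide (0 ≤ x02))
    (r03 : Hide (0 ≤ x03))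
    (r04 : Hide (0 ≤ x04))
    (r05 : Hide (0 ≤ x05))
    (r10 : Hide (0 ≤ x10))
    (r12 : Hide (0 ≤ x12))
    (r13 : Hide (0 ≤ x13))
    (r14 : Hide (0 ≤ x14))
    (r15 : Hide (0 ≤ x15))
    (r20 : Hide (0 ≤ x20))
    (r21 : Hide (0 ≤ x21))
    (r23 : Hide (0 ≤ x23))
    (r24 : Hide (0 ≤ x24))
    (r25 : Hide (0 ≤ x25))
    (r30 : Hide (0 ≤ x30))
    (r31 : Hide (0 ≤ x31))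
    (r32 : Hide (0 ≤ x32))
    (r34 : Hide (0 ≤ x34))
    (r35 : Hide (0 ≤ x35))
    (r40 : Hide (0 ≤ x40))
    (r41 : Hide (0 ≤ x41))
    (r42 : Hide (0 ≤ x42))
    (r43 : Hide (0 ≤ x43))
    (r45 : Hide (0 ≤ x45))
    (r50 : Hide (0 ≤ x50))
    (r51 : Hide (0 ≤ x51))
    (r52 : Hide (0 ≤ x52))
    (r53 : Hide (0 ≤ x53))
    (r54 : Hide (0 ≤ x54))
    (hw0 : Hide (0 < T.w 0))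
    (hw1 : Hide (0 < T.w 1))
    (hw2 : Hide (0 < T.w 2))
    (hw3 : Hide (0 < T.w 3))
    (hw4 : Hide (0 < T.w 4))
    (hw5 : Hide (0 < T.w 5))
    (hs01 : Hide (T.a 0 1 = T.a 1 0))
    (hs02 : Hide (T.a 0 2 = T.a 2 0))
    (hs03 : Hide (T.a 0 3 = T.a 3 0))
    (hs04 : Hide (T.a 0 4 = T.a 4 0))
    (hs05 : Hide (T.a 0 5 = T.a 5 0))
    (hs12 : Hide (T.a 1 2 = T.a 2 1))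
    (hs13 : Hide (T.a 1 3 = T.a 3 1))
    (hs14 : Hide (T.a 1 4 = T.a 4 1))
    (hs15 : Hide (T.a 1 5 = T.a 5 1))
    (hs23 : Hide (T.a 2 3 = T.a 3 2))
    (hs24 : Hide (T.a 2 4 = T.a 4 2))
    (hs25 : Hide (T.a 2 5 = T.a 5 2))
    (hs34 : Hide (T.a 3 4 = T.a 4 3))
    (hs35 : Hide (T.a 3 5 = T.a 5 3))
    (hs45 : Hide (T.a 4 5 = T.a 5 4))
    (ha00 : Hide (T.a 0 0 = -2 * T.w 0))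
    (ha11 : Hide (T.a 1 1 = -2 * T.w 1))
    (ha22 : Hide (T.a 2 2 = -2 * T.w 2))
    (ha33 : Hide (T.a 3 3 = -2 * T.w 3))
    (ha44 : Hide (T.a 4 4 = -2 * T.w 4))
    (ha55 : Hide (T.a 5 5 = -2 * T.w 5))
    (v0 : Hide (q01 + q02 + q03 + q04 + q05 ≤ 4))
    (v1 : Hide (q01 + q12 + q13 + q14 + q15 ≤ 4))
    (v2 : Hide (q02 + q12 + q23 + q24 + q25 ≤ 4))
    (v3 : Hide (q03 + q13 + q23 + q34 + q35 ≤ 4))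
    (v4 : Hide (q04 + q14 + q24 + q34 + q45 ≤ 4))
    (v5 : Hide (q05 + q15 + q25 + q35 + q45 ≤ 4))
    (qn01 : Hide (0 ≤ q01))
    (qn02 : Hide (0 ≤ q02))
    (qn03 : Hide (0 ≤ q03))
    (qn04 : Hide (0 ≤ q04))
    (qn05 : Hide (0 ≤ q05))
    (qn12 : Hide (0 ≤ q12))
    (qn13 : Hide (0 ≤ q13))
    (qn14 : Hide (0 ≤ q14))
    (qn15 : Hide (0 ≤ q15))
    (qn23 : Hide (0 ≤ q23))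
    (qn24 : Hide (0 ≤ q24))
    (qn25 : Hide (0 ≤ q25))
    (qn34 : Hide (0 ≤ q34))
    (qn35 : Hide (0 ≤ q35))
    (qn45 : Hide (0 ≤ q45))
    (od1 : Hide (0 < α01))
    (od2 : Hide (0 < α02 + α12))
    (od3 : Hide (0 < α03 + α13 + α23))
    (od4 : Hide (0 < α04 + α14 + α24 + α34))
    (od5 : Hide (0 < α05 + α15 + α25 + α35 + α45))
    (c01 : Hide (((Hide (x01 = 0 ∧ x10 = 0) ∧ Hide (T.a 0 1 = 0 ∧ T.a 1 0 = 0) ∧ Hide (α01 = 0 ∧ α10 = 0)) ∧ q01 = 0) ∨ ((Hide (x01 = T.m 1 ∧ x10 = T.m 0) ∧ Hide (T.a 0 1 = T.w 0 ∧ T.a 1 0 = T.w 1) ∧ Hide (α01 = 1 ∧ α10 = 1)) ∧ q01 = 1) ∨ ((Hide (x01 = T.m 1 ∧ x10 = 2 * T.m 0) ∧ Hide (T.a 0 1 = T.w 0 ∧ T.a 1 0 = 2 * T.w 1) ∧ Hide (α01 = 1 ∧ α10 = 2)) ∧ q01 = 2) ∨ ((Hide (x01 = 2 * T.m 1 ∧ x10 = T.m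 0) ∧ Hide (T.a 0 1 = 2 * T.w 0 ∧ T.a 1 0 = T.w 1) ∧ Hide (α01 = 2 ∧ α10 = 1)) ∧ q01 = 2) ∨ ((Hide (x01 = T.m 1 ∧ x10 = 3 * T.m 0) ∧ Hide (T.a 0 1 = T.w 0 ∧ T.a 1 0 = 3 * T.w 1) ∧ Hide (α01 = 1 ∧ α10 = 3)) ∧ q01 = 3) ∨ ((Hide (x01 = 3 * T.m 1 ∧ x10 = T.m 0) ∧ Hide (T.a 0 1 = 3 * T.w 0 ∧ T.a 1 0 = T.w 1) ∧ Hide (α01 = 3 ∧ α10 = 1)) ∧ q01 = 3) ∨ ((Hide (x01 = T.m 1 ∧ x10 = 4 * T.m 0) ∧ Hide (T.a 0 1 = T.w 0 ∧ T.a 1 0 = 4 * T.w 1) ∧ Hide (α01 = 1 ∧ α10 = 4)) ∧ q01 = 4) ∨ ((Hide (x01 = 4 * T.m 1 ∧ x10 = T.m 0) ∧ Hide (T.a 0 1 = 4 * T.w 0 ∧ T.a 1 0 = T.w 1) ∧ Hide (α01 = 4 ∧ α10 = 1)) ∧ q01 = 4) ∨ ((Hide (x01 = 2 * T.m 1 ∧ x10 = 2 * T.m 0) ∧ Hide (T.a 0 1 = 2 * T.w 0 ∧ T.a 1 0 = 2 * T.w 1) ∧ Hide (α01 = 2 ∧ α10 = 2)) ∧ q01 = 4)))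
    (c02 : Hide (((Hide (x02 = 0 ∧ x20 = 0) ∧ Hide (T.a 0 2 = 0 ∧ T.a 2 0 = 0) ∧ Hide (α02 = 0 ∧ α20 = 0)) ∧ q02 = 0) ∨ ((Hide (x02 = T.m 2 ∧ x20 = T.m 0) ∧ Hide (T.a 0 2 = T.w 0 ∧ T.a 2 0 = T.w 2) ∧ Hide (α02 = 1 ∧ α20 = 1)) ∧ q02 = 1) ∨ ((Hide (x02 = T.m 2 ∧ x20 = 2 * T.m 0) ∧ Hide (T.a 0 2 = T.w 0 ∧ T.a 2 0 = 2 * T.w 2) ∧ Hide (α02 = 1 ∧ α20 = 2)) ∧ q02 = 2) ∨ ((Hide (x02 = 2 * T.m 2 ∧ x20 = T.m 0) ∧ Hide (T.a 0 2 = 2 * T.w 0 ∧ T.a 2 0 = T.w 2) ∧ Hide (α02 = 2 ∧ α20 = 1)) ∧ q02 = 2) ∨ ((Hide (x02 = T.m 2 ∧ x20 = 3 * T.m 0) ∧ Hide (T.a 0 2 = T.w 0 ∧ T.a 2 0 = 3 * T.w 2) ∧ Hide (α02 = 1 ∧ α20 = 3)) ∧ q02 = 3) ∨ ((Hide (x02 = 3 * T.m 2 ∧ x20 = T.m 0) ∧ Hide (T.a 0 2 = 3 * T.w 0 ∧ T.a 2 0 = T.w 2) ∧ Hide (α02 = 3 ∧ α20 = 1)) ∧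 q02 = 3) ∨ ((Hide (x02 = T.m 2 ∧ x20 = 4 * T.m 0) ∧ Hide (T.a 0 2 = T.w 0 ∧ T.a 2 0 = 4 * T.w 2) ∧ Hide (α02 = 1 ∧ α20 = 4)) ∧ q02 = 4) ∨ ((Hide (x02 = 4 * T.m 2 ∧ x20 = T.m 0) ∧ Hide (T.a 0 2 = 4 * T.w 0 ∧ T.a 2 0 = T.w 2) ∧ Hide (α02 = 4 ∧ α20 = 1)) ∧ q02 = 4) ∨ ((Hide (x02 = 2 * T.m 2 ∧ x20 = 2 * T.m 0) ∧ Hide (T.a 0 2 = 2 * T.w 0 ∧ T.a 2 0 = 2 * T.w 2) ∧ Hide (α02 = 2 ∧ α20 = 2)) ∧ q02 = 4)))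
    (c03 : Hide (((Hide (x03 = 0 ∧ x30 = 0) ∧ Hide (T.a 0 3 = 0 ∧ T.a 3 0 = 0) ∧ Hide (α03 = 0 ∧ α30 = 0)) ∧ q03 = 0) ∨ ((Hide (x03 = T.m 3 ∧ x30 = T.m 0) ∧ Hide (T.a 0 3 = T.w 0 ∧ T.a 3 0 = T.w 3) ∧ Hide (α03 = 1 ∧ α30 = 1)) ∧ q03 = 1) ∨ ((Hide (x03 = T.m 3 ∧ x30 = 2 * T.m 0) ∧ Hide (T.a 0 3 = T.w 0 ∧ T.a 3 0 = 2 * T.w 3) ∧ Hide (α03 = 1 ∧ α30 = 2)) ∧ q03 = 2) ∨ ((Hide (x03 = 2 * T.m 3 ∧ x30 = T.m 0) ∧ Hide (T.a 0 3 = 2 * T.w 0 ∧ T.a 3 0 = T.w 3) ∧ Hide (α03 = 2 ∧ α30 = 1)) ∧ q03 = 2) ∨ ((Hide (x03 = T.m 3 ∧ x30 = 3 * T.m 0) ∧ Hide (T.a 0 3 = T.w 0 ∧ T.a 3 0 = 3 * T.w 3) ∧ Hide (α03 = 1 ∧ α30 = 3)) ∧ q03 = 3) ∨ ((Hide (x03 = 3 * T.m 3 ∧ x30 = T.m 0) ∧ Hide (T.a 0 3 = 3 * T.w 0 ∧ T.a 3 0 = T.w 3) ∧ Hide (α03 = 3 ∧ α30 = 1)) ∧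 q03 = 3) ∨ ((Hide (x03 = T.m 3 ∧ x30 = 4 * T.m 0) ∧ Hide (T.a 0 3 = T.w 0 ∧ T.a 3 0 = 4 * T.w 3) ∧ Hide (α03 = 1 ∧ α30 = 4)) ∧ q03 = 4) ∨ ((Hide (x03 = 4 * T.m 3 ∧ x30 = T.m 0) ∧ Hide (T.a 0 3 = 4 * T.w 0 ∧ T.a 3 0 = T.w 3) ∧ Hide (α03 = 4 ∧ α30 = 1)) ∧ q03 = 4) ∨ ((Hide (x03 = 2 * T.m 3 ∧ x30 = 2 * T.m 0) ∧ Hide (T.a 0 3 = 2 * T.w 0 ∧ T.a 3 0 = 2 * T.w 3) ∧ Hide (α03 = 2 ∧ α30 = 2)) ∧ q03 = 4)))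
    (c04 : Hide (((Hide (x04 = 0 ∧ x40 = 0) ∧ Hide (T.a 0 4 = 0 ∧ T.a 4 0 = 0) ∧ Hide (α04 = 0 ∧ α40 = 0)) ∧ q04 = 0) ∨ ((Hide (x04 = T.m 4 ∧ x40 = T.m 0) ∧ Hide (T.a 0 4 = T.w 0 ∧ T.a 4 0 = T.w 4) ∧ Hide (α04 = 1 ∧ α40 = 1)) ∧ q04 = 1) ∨ ((Hide (x04 = T.m 4 ∧ x40 = 2 * T.m 0) ∧ Hide (T.a 0 4 = T.w 0 ∧ T.a 4 0 = 2 * T.w 4) ∧ Hide (α04 = 1 ∧ α40 = 2)) ∧ q04 = 2) ∨ ((Hide (x04 = 2 * T.m 4 ∧ x40 = T.m 0) ∧ Hide (T.a 0 4 = 2 * T.w 0 ∧ T.a 4 0 = T.w 4) ∧ Hide (α04 = 2 ∧ α40 = 1)) ∧ q04 = 2) ∨ ((Hide (x04 = T.m 4 ∧ x40 = 3 * T.m 0) ∧ Hide (T.a 0 4 = T.w 0 ∧ T.a 4 0 = 3 * T.w 4) ∧ Hide (α04 = 1 ∧ α40 = 3)) ∧ q04 = 3) ∨ ((Hide (x04 = 3 * T.m 4 ∧ x40 = T.m 0) ∧ Hide (T.a 0 4 = 3 * T.w 0 ∧ T.a 4 0 = T.w 4) ∧ Hide (α04 = 3 ∧ α40 = 1)) ∧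 q04 = 3) ∨ ((Hide (x04 = T.m 4 ∧ x40 = 4 * T.m 0) ∧ Hide (T.a 0 4 = T.w 0 ∧ T.a 4 0 = 4 * T.w 4) ∧ Hide (α04 = 1 ∧ α40 = 4)) ∧ q04 = 4) ∨ ((Hide (x04 = 4 * T.m 4 ∧ x40 = T.m 0) ∧ Hide (T.a 0 4 = 4 * T.w 0 ∧ T.a 4 0 = T.w 4) ∧ Hide (α04 = 4 ∧ α40 = 1)) ∧ q04 = 4) ∨ ((Hide (x04 = 2 * T.m 4 ∧ x40 = 2 * T.m 0) ∧ Hide (T.a 0 4 = 2 * T.w 0 ∧ T.a 4 0 = 2 * T.w 4) ∧ Hide (α04 = 2 ∧ α40 = 2)) ∧ q04 = 4)))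
    (c05 : Hide (((Hide (x05 = 0 ∧ x50 = 0) ∧ Hide (T.a 0 5 = 0 ∧ T.a 5 0 = 0) ∧ Hide (α05 = 0 ∧ α50 = 0)) ∧ q05 = 0) ∨ ((Hide (x05 = T.m 5 ∧ x50 = T.m 0) ∧ Hide (T.a 0 5 = T.w 0 ∧ T.a 5 0 = T.w 5) ∧ Hide (α05 = 1 ∧ α50 = 1)) ∧ q05 = 1) ∨ ((Hide (x05 = T.m 5 ∧ x50 = 2 * T.m 0) ∧ Hide (T.a 0 5 = T.w 0 ∧ T.a 5 0 = 2 * T.w 5) ∧ Hide (α05 = 1 ∧ α50 = 2)) ∧ q05 = 2) ∨ ((Hide (x05 = 2 * T.m 5 ∧ x50 = T.m 0) ∧ Hide (T.a 0 5 = 2 * T.w 0 ∧ T.a 5 0 = T.w 5) ∧ Hide (α05 = 2 ∧ α50 = 1)) ∧ q05 = 2) ∨ ((Hide (x05 = T.m 5 ∧ x50 = 3 * T.m 0) ∧ Hide (T.a 0 5 = T.w 0 ∧ T.a 5 0 = 3 * T.w 5) ∧ Hide (α05 = 1 ∧ α50 = 3)) ∧ q05 = 3) ∨ ((Hide (x05 = 3 * T.m 5 ∧ x50 = T.m 0) ∧ Hide (T.a 0 5 = 3 * T.w 0 ∧ T.a 5 0 = T.w 5) ∧ Hide (α05 = 3 ∧ α50 = 1)) ∧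 q05 = 3) ∨ ((Hide (x05 = T.m 5 ∧ x50 = 4 * T.m 0) ∧ Hide (T.a 0 5 = T.w 0 ∧ T.a 5 0 = 4 * T.w 5) ∧ Hide (α05 = 1 ∧ α50 = 4)) ∧ q05 = 4) ∨ ((Hide (x05 = 4 * T.m 5 ∧ x50 = T.m 0) ∧ Hide (T.a 0 5 = 4 * T.w 0 ∧ T.a 5 0 = T.w 5) ∧ Hide (α05 = 4 ∧ α50 = 1)) ∧ q05 = 4) ∨ ((Hide (x05 = 2 * T.m 5 ∧ x50 = 2 * T.m 0) ∧ Hide (T.a 0 5 = 2 * T.w 0 ∧ T.a 5 0 = 2 * T.w 5) ∧ Hide (α05 = 2 ∧ α50 = 2)) ∧ q05 = 4)))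
    (c12 : Hide (((Hide (x12 = 0 ∧ x21 = 0) ∧ Hide (T.a 1 2 = 0 ∧ T.a 2 1 = 0) ∧ Hide (α12 = 0 ∧ α21 = 0)) ∧ q12 = 0) ∨ ((Hide (x12 = T.m 2 ∧ x21 = T.m 1) ∧ Hide (T.a 1 2 = T.w 1 ∧ T.a 2 1 = T.w 2) ∧ Hide (α12 = 1 ∧ α21 = 1)) ∧ q12 = 1) ∨ ((Hide (x12 = T.m 2 ∧ x21 = 2 * T.m 1) ∧ Hide (T.a 1 2 = T.w 1 ∧ T.a 2 1 = 2 * T.w 2) ∧ Hide (α12 = 1 ∧ α21 = 2)) ∧ q12 = 2) ∨ ((Hide (x12 = 2 * T.m 2 ∧ x21 = T.m 1) ∧ Hide (T.a 1 2 = 2 * T.w 1 ∧ T.a 2 1 = T.w 2) ∧ Hide (α12 = 2 ∧ α21 = 1)) ∧ q12 = 2) ∨ ((Hide (x12 = T.m 2 ∧ x21 = 3 * T.m 1) ∧ Hide (T.a 1 2 = T.w 1 ∧ T.a 2 1 = 3 * T.w 2) ∧ Hide (α12 = 1 ∧ α21 = 3)) ∧ q12 = 3) ∨ ((Hide (x12 = 3 * T.m 2 ∧ x21 = T.m 1) ∧ Hide (T.a 1 2 = 3 * T.w 1 ∧ T.a 2 1 = T.w 2) ∧ Hide (α12 = 3 ∧ α21 = 1)) ∧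 q12 = 3) ∨ ((Hide (x12 = T.m 2 ∧ x21 = 4 * T.m 1) ∧ Hide (T.a 1 2 = T.w 1 ∧ T.a 2 1 = 4 * T.w 2) ∧ Hide (α12 = 1 ∧ α21 = 4)) ∧ q12 = 4) ∨ ((Hide (x12 = 4 * T.m 2 ∧ x21 = T.m 1) ∧ Hide (T.a 1 2 = 4 * T.w 1 ∧ T.a 2 1 = T.w 2) ∧ Hide (α12 = 4 ∧ α21 = 1)) ∧ q12 = 4) ∨ ((Hide (x12 = 2 * T.m 2 ∧ x21 = 2 * T.m 1) ∧ Hide (T.a 1 2 = 2 * T.w 1 ∧ T.a 2 1 = 2 * T.w 2) ∧ Hide (α12 = 2 ∧ α21 = 2)) ∧ q12 = 4)))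
    (c13 : Hide (((Hide (x13 = 0 ∧ x31 = 0) ∧ Hide (T.a 1 3 = 0 ∧ T.a 3 1 = 0) ∧ Hide (α13 = 0 ∧ α31 = 0)) ∧ q13 = 0) ∨ ((Hide (x13 = T.m 3 ∧ x31 = T.m 1) ∧ Hide (T.a 1 3 = T.w 1 ∧ T.a 3 1 = T.w 3) ∧ Hide (α13 = 1 ∧ α31 = 1)) ∧ q13 = 1) ∨ ((Hide (x13 = T.m 3 ∧ x31 = 2 * T.m 1) ∧ Hide (T.a 1 3 = T.w 1 ∧ T.a 3 1 = 2 * T.w 3) ∧ Hide (α13 = 1 ∧ α31 = 2)) ∧ q13 = 2) ∨ ((Hide (x13 = 2 * T.m 3 ∧ x31 = T.m 1) ∧ Hide (T.a 1 3 = 2 * T.w 1 ∧ T.a 3 1 = T.w 3) ∧ Hide (α13 = 2 ∧ α31 = 1)) ∧ q13 = 2) ∨ ((Hide (x13 = T.m 3 ∧ x31 = 3 * T.m 1) ∧ Hide (T.a 1 3 = T.w 1 ∧ T.a 3 1 = 3 * T.w 3) ∧ Hide (α13 = 1 ∧ α31 = 3)) ∧ q13 = 3) ∨ ((Hide (x13 = 3 * T.m 3 ∧ x31 = T.m 1) ∧ Hide (T.a 1 3 = 3 * T.w 1 ∧ T.a 3 1 = T.w 3) ∧ Hide (α13 = 3 ∧ α31 = 1)) ∧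 q13 = 3) ∨ ((Hide (x13 = T.m 3 ∧ x31 = 4 * T.m 1) ∧ Hide (T.a 1 3 = T.w 1 ∧ T.a 3 1 = 4 * T.w 3) ∧ Hide (α13 = 1 ∧ α31 = 4)) ∧ q13 = 4) ∨ ((Hide (x13 = 4 * T.m 3 ∧ x31 = T.m 1) ∧ Hide (T.a 1 3 = 4 * T.w 1 ∧ T.a 3 1 = T.w 3) ∧ Hide (α13 = 4 ∧ α31 = 1)) ∧ q13 = 4) ∨ ((Hide (x13 = 2 * T.m 3 ∧ x31 = 2 * T.m 1) ∧ Hide (T.a 1 3 = 2 * T.w 1 ∧ T.a 3 1 = 2 * T.w 3) ∧ Hide (α13 = 2 ∧ α31 = 2)) ∧ q13 = 4)))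
    (c14 : Hide (((Hide (x14 = 0 ∧ x41 = 0) ∧ Hide (T.a 1 4 = 0 ∧ T.a 4 1 = 0) ∧ Hide (α14 = 0 ∧ α41 = 0)) ∧ q14 = 0) ∨ ((Hide (x14 = T.m 4 ∧ x41 = T.m 1) ∧ Hide (T.a 1 4 = T.w 1 ∧ T.a 4 1 = T.w 4) ∧ Hide (α14 = 1 ∧ α41 = 1)) ∧ q14 = 1) ∨ ((Hide (x14 = T.m 4 ∧ x41 = 2 * T.m 1) ∧ Hide (T.a 1 4 = T.w 1 ∧ T.a 4 1 = 2 * T.w 4) ∧ Hide (α14 = 1 ∧ α41 = 2)) ∧ q14 = 2) ∨ ((Hide (x14 = 2 * T.m 4 ∧ x41 = T.m 1) ∧ Hide (T.a 1 4 = 2 * T.w 1 ∧ T.a 4 1 = T.w 4) ∧ Hide (α14 = 2 ∧ α41 = 1)) ∧ q14 = 2) ∨ ((Hide (x14 = T.m 4 ∧ x41 = 3 * T.m 1) ∧ Hide (T.a 1 4 = T.w 1 ∧ T.a 4 1 = 3 * T.w 4) ∧ Hide (α14 = 1 ∧ α41 = 3)) ∧ q14 = 3) ∨ ((Hide (x14 = 3 * T.m 4 ∧ x41 = T.m 1) ∧ Hide (T.a 1 4 = 3 * T.w 1 ∧ T.a 4 1 = T.w 4) ∧ Hide (α14 = 3 ∧ α41 = 1)) ∧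 q14 = 3) ∨ ((Hide (x14 = T.m 4 ∧ x41 = 4 * T.m 1) ∧ Hide (T.a 1 4 = T.w 1 ∧ T.a 4 1 = 4 * T.w 4) ∧ Hide (α14 = 1 ∧ α41 = 4)) ∧ q14 = 4) ∨ ((Hide (x14 = 4 * T.m 4 ∧ x41 = T.m 1) ∧ Hide (T.a 1 4 = 4 * T.w 1 ∧ T.a 4 1 = T.w 4) ∧ Hide (α14 = 4 ∧ α41 = 1)) ∧ q14 = 4) ∨ ((Hide (x14 = 2 * T.m 4 ∧ x41 = 2 * T.m 1) ∧ Hide (T.a 1 4 = 2 * T.w 1 ∧ T.a 4 1 = 2 * T.w 4) ∧ Hide (α14 = 2 ∧ α41 = 2)) ∧ q14 = 4)))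
    (c15 : Hide (((Hide (x15 = 0 ∧ x51 = 0) ∧ Hide (T.a 1 5 = 0 ∧ T.a 5 1 = 0) ∧ Hide (α15 = 0 ∧ α51 = 0)) ∧ q15 = 0) ∨ ((Hide (x15 = T.m 5 ∧ x51 = T.m 1) ∧ Hide (T.a 1 5 = T.w 1 ∧ T.a 5 1 = T.w 5) ∧ Hide (α15 = 1 ∧ α51 = 1)) ∧ q15 = 1) ∨ ((Hide (x15 = T.m 5 ∧ x51 = 2 * T.m 1) ∧ Hide (T.a 1 5 = T.w 1 ∧ T.a 5 1 = 2 * T.w 5) ∧ Hide (α15 = 1 ∧ α51 = 2)) ∧ q15 = 2) ∨ ((Hide (x15 = 2 * T.m 5 ∧ x51 = T.m 1) ∧ Hide (T.a 1 5 = 2 * T.w 1 ∧ T.a 5 1 = T.w 5) ∧ Hide (α15 = 2 ∧ α51 = 1)) ∧ q15 = 2) ∨ ((Hide (x15 = T.m 5 ∧ x51 = 3 * T.m 1) ∧ Hide (T.a 1 5 = T.w 1 ∧ T.a 5 1 = 3 * T.w 5) ∧ Hide (α15 = 1 ∧ α51 = 3)) ∧ q15 = 3) ∨ ((Hide (x15 = 3 * T.m 5 ∧ x51 = T.m 1) ∧ Hide (T.a 1 5 = 3 * T.w 1 ∧ T.a 5 1 = T.w 5) ∧ Hide (α15 = 3 ∧ α51 = 1)) ∧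 q15 = 3) ∨ ((Hide (x15 = T.m 5 ∧ x51 = 4 * T.m 1) ∧ Hide (T.a 1 5 = T.w 1 ∧ T.a 5 1 = 4 * T.w 5) ∧ Hide (α15 = 1 ∧ α51 = 4)) ∧ q15 = 4) ∨ ((Hide (x15 = 4 * T.m 5 ∧ x51 = T.m 1) ∧ Hide (T.a 1 5 = 4 * T.w 1 ∧ T.a 5 1 = T.w 5) ∧ Hide (α15 = 4 ∧ α51 = 1)) ∧ q15 = 4) ∨ ((Hide (x15 = 2 * T.m 5 ∧ x51 = 2 * T.m 1) ∧ Hide (T.a 1 5 = 2 * T.w 1 ∧ T.a 5 1 = 2 * T.w 5) ∧ Hide (α15 = 2 ∧ α51 = 2)) ∧ q15 = 4)))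
    (c23 : Hide (((Hide (x23 = 0 ∧ x32 = 0) ∧ Hide (T.a 2 3 = 0 ∧ T.a 3 2 = 0) ∧ Hide (α23 = 0 ∧ α32 = 0)) ∧ q23 = 0) ∨ ((Hide (x23 = T.m 3 ∧ x32 = T.m 2) ∧ Hide (T.a 2 3 = T.w 2 ∧ T.a 3 2 = T.w 3) ∧ Hide (α23 = 1 ∧ α32 = 1)) ∧ q23 = 1) ∨ ((Hide (x23 = T.m 3 ∧ x32 = 2 * T.m 2) ∧ Hide (T.a 2 3 = T.w 2 ∧ T.a 3 2 = 2 * T.w 3) ∧ Hide (α23 = 1 ∧ α32 = 2)) ∧ q23 = 2) ∨ ((Hide (x23 = 2 * T.m 3 ∧ x32 = T.m 2) ∧ Hide (T.a 2 3 = 2 * T.w 2 ∧ T.a 3 2 = T.w 3) ∧ Hide (α23 = 2 ∧ α32 = 1)) ∧ q23 = 2) ∨ ((Hide (x23 = T.m 3 ∧ x32 = 3 * T.m 2) ∧ Hide (T.a 2 3 = T.w 2 ∧ T.a 3 2 = 3 * T.w 3) ∧ Hide (α23 = 1 ∧ α32 = 3)) ∧ q23 = 3) ∨ ((Hide (x23 = 3 * T.m 3 ∧ x32 = T.m 2) ∧ Hide (T.a 2 3 = 3 * T.w 2 ∧ T.a 3 2 = T.w 3) ∧ Hide (α23 = 3 ∧ α32 = 1)) ∧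 q23 = 3) ∨ ((Hide (x23 = T.m 3 ∧ x32 = 4 * T.m 2) ∧ Hide (T.a 2 3 = T.w 2 ∧ T.a 3 2 = 4 * T.w 3) ∧ Hide (α23 = 1 ∧ α32 = 4)) ∧ q23 = 4) ∨ ((Hide (x23 = 4 * T.m 3 ∧ x32 = T.m 2) ∧ Hide (T.a 2 3 = 4 * T.w 2 ∧ T.a 3 2 = T.w 3) ∧ Hide (α23 = 4 ∧ α32 = 1)) ∧ q23 = 4) ∨ ((Hide (x23 = 2 * T.m 3 ∧ x32 = 2 * T.m 2) ∧ Hide (T.a 2 3 = 2 * T.w 2 ∧ T.a 3 2 = 2 * T.w 3) ∧ Hide (α23 = 2 ∧ α32 = 2)) ∧ q23 = 4)))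
    (c24 : Hide (((Hide (x24 = 0 ∧ x42 = 0) ∧ Hide (T.a 2 4 = 0 ∧ T.a 4 2 = 0) ∧ Hide (α24 = 0 ∧ α42 = 0)) ∧ q24 = 0) ∨ ((Hide (x24 = T.m 4 ∧ x42 = T.m 2) ∧ Hide (T.a 2 4 = T.w 2 ∧ T.a 4 2 = T.w 4) ∧ Hide (α24 = 1 ∧ α42 = 1)) ∧ q24 = 1) ∨ ((Hide (x24 = T.m 4 ∧ x42 = 2 * T.m 2) ∧ Hide (T.a 2 4 = T.w 2 ∧ T.a 4 2 = 2 * T.w 4) ∧ Hide (α24 = 1 ∧ α42 = 2)) ∧ q24 = 2) ∨ ((Hide (x24 = 2 * T.m 4 ∧ x42 = T.m 2) ∧ Hide (T.a 2 4 = 2 * T.w 2 ∧ T.a 4 2 = T.w 4) ∧ Hide (α24 = 2 ∧ α42 = 1)) ∧ q24 = 2) ∨ ((Hide (x24 = T.m 4 ∧ x42 = 3 * T.m 2) ∧ Hide (T.a 2 4 = T.w 2 ∧ T.a 4 2 = 3 * T.w 4) ∧ Hide (α24 = 1 ∧ α42 = 3)) ∧ q24 = 3) ∨ ((Hide (x24 = 3 * T.m 4 ∧ x42 = T.m 2) ∧ Hide (T.a 2 4 = 3 * T.w 2 ∧ T.a 4 2 = T.w 4) ∧ Hide (α24 = 3 ∧ α42 = 1)) ∧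 q24 = 3) ∨ ((Hide (x24 = T.m 4 ∧ x42 = 4 * T.m 2) ∧ Hide (T.a 2 4 = T.w 2 ∧ T.a 4 2 = 4 * T.w 4) ∧ Hide (α24 = 1 ∧ α42 = 4)) ∧ q24 = 4) ∨ ((Hide (x24 = 4 * T.m 4 ∧ x42 = T.m 2) ∧ Hide (T.a 2 4 = 4 * T.w 2 ∧ T.a 4 2 = T.w 4) ∧ Hide (α24 = 4 ∧ α42 = 1)) ∧ q24 = 4) ∨ ((Hide (x24 = 2 * T.m 4 ∧ x42 = 2 * T.m 2) ∧ Hide (T.a 2 4 = 2 * T.w 2 ∧ T.a 4 2 = 2 * T.w 4) ∧ Hide (α24 = 2 ∧ α42 = 2)) ∧ q24 = 4)))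
    (c25 : Hide (((Hide (x25 = 0 ∧ x52 = 0) ∧ Hide (T.a 2 5 = 0 ∧ T.a 5 2 = 0) ∧ Hide (α25 = 0 ∧ α52 = 0)) ∧ q25 = 0) ∨ ((Hide (x25 = T.m 5 ∧ x52 = T.m 2) ∧ Hide (T.a 2 5 = T.w 2 ∧ T.a 5 2 = T.w 5) ∧ Hide (α25 = 1 ∧ α52 = 1)) ∧ q25 = 1) ∨ ((Hide (x25 = T.m 5 ∧ x52 = 2 * T.m 2) ∧ Hide (T.a 2 5 = T.w 2 ∧ T.a 5 2 = 2 * T.w 5) ∧ Hide (α25 = 1 ∧ α52 = 2)) ∧ q25 = 2) ∨ ((Hide (x25 = 2 * T.m 5 ∧ x52 = T.m 2) ∧ Hide (T.a 2 5 = 2 * T.w 2 ∧ T.a 5 2 = T.w 5) ∧ Hide (α25 = 2 ∧ α52 = 1)) ∧ q25 = 2) ∨ ((Hide (x25 = T.m 5 ∧ x52 = 3 * T.m 2) ∧ Hide (T.a 2 5 = T.w 2 ∧ T.a 5 2 = 3 * T.w 5) ∧ Hide (α25 = 1 ∧ α52 = 3)) ∧ q25 = 3) ∨ ((Hide (x25 = 3 * T.m 5 ∧ x52 = T.m 2) ∧ Hide (T.a 2 5 = 3 * T.w 2 ∧ T.a 5 2 = T.w 5) ∧ Hide (α25 = 3 ∧ α52 = 1)) ∧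 q25 = 3) ∨ ((Hide (x25 = T.m 5 ∧ x52 = 4 * T.m 2) ∧ Hide (T.a 2 5 = T.w 2 ∧ T.a 5 2 = 4 * T.w 5) ∧ Hide (α25 = 1 ∧ α52 = 4)) ∧ q25 = 4) ∨ ((Hide (x25 = 4 * T.m 5 ∧ x52 = T.m 2) ∧ Hide (T.a 2 5 = 4 * T.w 2 ∧ T.a 5 2 = T.w 5) ∧ Hide (α25 = 4 ∧ α52 = 1)) ∧ q25 = 4) ∨ ((Hide (x25 = 2 * T.m 5 ∧ x52 = 2 * T.m 2) ∧ Hide (T.a 2 5 = 2 * T.w 2 ∧ T.a 5 2 = 2 * T.w 5) ∧ Hide (α25 = 2 ∧ α52 = 2)) ∧ q25 = 4)))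
    (c34 : Hide (((Hide (x34 = 0 ∧ x43 = 0) ∧ Hide (T.a 3 4 = 0 ∧ T.a 4 3 = 0) ∧ Hide (α34 = 0 ∧ α43 = 0)) ∧ q34 = 0) ∨ ((Hide (x34 = T.m 4 ∧ x43 = T.m 3) ∧ Hide (T.a 3 4 = T.w 3 ∧ T.a 4 3 = T.w 4) ∧ Hide (α34 = 1 ∧ α43 = 1)) ∧ q34 = 1) ∨ ((Hide (x34 = T.m 4 ∧ x43 = 2 * T.m 3) ∧ Hide (T.a 3 4 = T.w 3 ∧ T.a 4 3 = 2 * T.w 4) ∧ Hide (α34 = 1 ∧ α43 = 2)) ∧ q34 = 2) ∨ ((Hide (x34 = 2 * T.m 4 ∧ x43 = T.m 3) ∧ Hide (T.a 3 4 = 2 * T.w 3 ∧ T.a 4 3 = T.w 4) ∧ Hide (α34 = 2 ∧ α43 = 1)) ∧ q34 = 2) ∨ ((Hide (x34 = T.m 4 ∧ x43 = 3 * T.m 3) ∧ Hide (T.a 3 4 = T.w 3 ∧ T.a 4 3 = 3 * T.w 4) ∧ Hide (α34 = 1 ∧ α43 = 3)) ∧ q34 = 3) ∨ ((Hide (x34 = 3 * T.m 4 ∧ x43 = T.m 3) ∧ Hide (T.a 3 4 = 3 * T.w 3 ∧ T.a 4 3 = T.w 4) ∧ Hide (α34 = 3 ∧ α43 = 1)) ∧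 q34 = 3) ∨ ((Hide (x34 = T.m 4 ∧ x43 = 4 * T.m 3) ∧ Hide (T.a 3 4 = T.w 3 ∧ T.a 4 3 = 4 * T.w 4) ∧ Hide (α34 = 1 ∧ α43 = 4)) ∧ q34 = 4) ∨ ((Hide (x34 = 4 * T.m 4 ∧ x43 = T.m 3) ∧ Hide (T.a 3 4 = 4 * T.w 3 ∧ T.a 4 3 = T.w 4) ∧ Hide (α34 = 4 ∧ α43 = 1)) ∧ q34 = 4) ∨ ((Hide (x34 = 2 * T.m 4 ∧ x43 = 2 * T.m 3) ∧ Hide (T.a 3 4 = 2 * T.w 3 ∧ T.a 4 3 = 2 * T.w 4) ∧ Hide (α34 = 2 ∧ α43 = 2)) ∧ q34 = 4)))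
    (c35 : Hide (((Hide (x35 = 0 ∧ x53 = 0) ∧ Hide (T.a 3 5 = 0 ∧ T.a 5 3 = 0) ∧ Hide (α35 = 0 ∧ α53 = 0)) ∧ q35 = 0) ∨ ((Hide (x35 = T.m 5 ∧ x53 = T.m 3) ∧ Hide (T.a 3 5 = T.w 3 ∧ T.a 5 3 = T.w 5) ∧ Hide (α35 = 1 ∧ α53 = 1)) ∧ q35 = 1) ∨ ((Hide (x35 = T.m 5 ∧ x53 = 2 * T.m 3) ∧ Hide (T.a 3 5 = T.w 3 ∧ T.a 5 3 = 2 * T.w 5) ∧ Hide (α35 = 1 ∧ α53 = 2)) ∧ q35 = 2) ∨ ((Hide (x35 = 2 * T.m 5 ∧ x53 = T.m 3) ∧ Hide (T.a 3 5 = 2 * T.w 3 ∧ T.a 5 3 = T.w 5) ∧ Hide (α35 = 2 ∧ α53 = 1)) ∧ q35 = 2) ∨ ((Hide (x35 = T.m 5 ∧ x53 = 3 * T.m 3) ∧ Hide (T.a 3 5 = T.w 3 ∧ T.a 5 3 = 3 * T.w 5) ∧ Hide (α35 = 1 ∧ α53 = 3)) ∧ q35 = 3) ∨ ((Hide (x35 = 3 * T.m 5 ∧ x53 = T.m 3) ∧ Hide (T.a 3 5 = 3 * T.w 3 ∧ T.a 5 3 = T.w 5) ∧ Hide (α35 = 3 ∧ α53 = 1)) ∧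 q35 = 3) ∨ ((Hide (x35 = T.m 5 ∧ x53 = 4 * T.m 3) ∧ Hide (T.a 3 5 = T.w 3 ∧ T.a 5 3 = 4 * T.w 5) ∧ Hide (α35 = 1 ∧ α53 = 4)) ∧ q35 = 4) ∨ ((Hide (x35 = 4 * T.m 5 ∧ x53 = T.m 3) ∧ Hide (T.a 3 5 = 4 * T.w 3 ∧ T.a 5 3 = T.w 5) ∧ Hide (α35 = 4 ∧ α53 = 1)) ∧ q35 = 4) ∨ ((Hide (x35 = 2 * T.m 5 ∧ x53 = 2 * T.m 3) ∧ Hide (T.a 3 5 = 2 * T.w 3 ∧ T.a 5 3 = 2 * T.w 5) ∧ Hide (α35 = 2 ∧ α53 = 2)) ∧ q35 = 4)))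
    (c45 : Hide (((Hide (x45 = 0 ∧ x54 = 0) ∧ Hide (T.a 4 5 = 0 ∧ T.a 5 4 = 0) ∧ Hide (α45 = 0 ∧ α54 = 0)) ∧ q45 = 0) ∨ ((Hide (x45 = T.m 5 ∧ x54 = T.m 4) ∧ Hide (T.a 4 5 = T.w 4 ∧ T.a 5 4 = T.w 5) ∧ Hide (α45 = 1 ∧ α54 = 1)) ∧ q45 = 1) ∨ ((Hide (x45 = T.m 5 ∧ x54 = 2 * T.m 4) ∧ Hide (T.a 4 5 = T.w 4 ∧ T.a 5 4 = 2 * T.w 5) ∧ Hide (α45 = 1 ∧ α54 = 2)) ∧ q45 = 2) ∨ ((Hide (x45 = 2 * T.m 5 ∧ x54 = T.m 4) ∧ Hide (T.a 4 5 = 2 * T.w 4 ∧ T.a 5 4 = T.w 5) ∧ Hide (α45 = 2 ∧ α54 = 1)) ∧ q45 = 2) ∨ ((Hide (x45 = T.m 5 ∧ x54 = 3 * T.m 4) ∧ Hide (T.a 4 5 = T.w 4 ∧ T.a 5 4 = 3 * T.w 5) ∧ Hide (α45 = 1 ∧ α54 = 3)) ∧ q45 = 3) ∨ ((Hide (x45 = 3 * T.m 5 ∧ x54 = T.m 4) ∧ Hide (T.a 4 5 = 3 * T.w 4 ∧ T.a 5 4 = T.w 5) ∧ Hide (α45 = 3 ∧ α54 = 1)) ∧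 q45 = 3) ∨ ((Hide (x45 = T.m 5 ∧ x54 = 4 * T.m 4) ∧ Hide (T.a 4 5 = T.w 4 ∧ T.a 5 4 = 4 * T.w 5) ∧ Hide (α45 = 1 ∧ α54 = 4)) ∧ q45 = 4) ∨ ((Hide (x45 = 4 * T.m 5 ∧ x54 = T.m 4) ∧ Hide (T.a 4 5 = 4 * T.w 4 ∧ T.a 5 4 = T.w 5) ∧ Hide (α45 = 4 ∧ α54 = 1)) ∧ q45 = 4) ∨ ((Hide (x45 = 2 * T.m 5 ∧ x54 = 2 * T.m 4) ∧ Hide (T.a 4 5 = 2 * T.w 4 ∧ T.a 5 4 = 2 * T.w 5) ∧ Hide (α45 = 2 ∧ α54 = 2)) ∧ q45 = 4))) : Goal T := by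
  have t := c01.out
  clear c01
  rcases t with ⟨⟨⟨rfl, rfl⟩, gw01, ⟨rfl, rfl⟩⟩, rfl⟩ | ⟨⟨⟨rfl, rfl⟩, gw01, ⟨rfl, rfl⟩⟩, rfl⟩ | ⟨⟨⟨rfl, rfl⟩, gw01, ⟨rfl, rfl⟩⟩, rfl⟩ | ⟨⟨⟨rfl, rfl⟩, gw01, ⟨rfl, rfl⟩⟩, rfl⟩ | ⟨⟨⟨rfl, rfl⟩, gw01, ⟨rfl, rfl⟩⟩, rfl⟩ | ⟨⟨⟨rfl, rfl⟩, gw01, ⟨rfl, rfl⟩⟩, rfl⟩ | ⟨⟨⟨rfl, rfl⟩, gw01, ⟨rfl, rfl⟩⟩, rfl⟩ | ⟨⟨⟨rfl, rfl⟩, gw01, ⟨rfl, rfl⟩⟩, rfl⟩ | ⟨⟨⟨rfl, rfl⟩, gw01, ⟨rfl, rfl⟩⟩, rfl⟩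
  · (have := od1.out; omega)
  · have t := pc3 q02 c02.out (by have := v0.out; have := qn03.out; have := qn04.out; have := qn05.out; omega)
    clear c02
    rcases t with ⟨⟨⟨rfl, rfl⟩, gw02, ⟨rfl, rfl⟩⟩, rfl⟩ | ⟨⟨⟨rfl, rfl⟩, gw02, ⟨rfl, rfl⟩⟩, rfl⟩ | ⟨⟨⟨rfl, rfl⟩, gw02, ⟨rfl, rfl⟩⟩, rfl⟩ | ⟨⟨⟨rfl, rfl⟩, gw02, ⟨rfl, rfl⟩⟩, rfl⟩ | ⟨⟨⟨rfl, rfl⟩, gw02, ⟨rfl, rfl⟩⟩, rfl⟩ | ⟨⟨⟨rfl, rfl⟩, gw02, ⟨rfl, rfl⟩⟩, rfl⟩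
    · have t := pc3 q03 c03.out (by have := v0.out; have := qn04.out; have := qn05.out; omega)
      clear c03
      rcases t with ⟨⟨⟨rfl, rfl⟩, gw03, ⟨rfl, rfl⟩⟩, rfl⟩ | ⟨⟨⟨rfl, rfl⟩, gw03, ⟨rfl, rfl⟩⟩, rfl⟩ | ⟨⟨⟨rfl, rfl⟩, gw03, ⟨rfl, rfl⟩⟩, rfl⟩ | ⟨⟨⟨rfl, rfl⟩, gw03, ⟨rfl, rfl⟩⟩, rfl⟩ | ⟨⟨⟨rfl, rfl⟩, gw03, ⟨rfl, rfl⟩⟩, rfl⟩ | ⟨⟨⟨rfl, rfl⟩, gw03, ⟨rfl, rfl⟩⟩, rfl⟩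
      · have t := pc3 q04 c04.out (by have := v0.out; have := qn05.out; omega)
        clear c04
        rcases t with ⟨⟨⟨rfl, rfl⟩, gw04, ⟨rfl, rfl⟩⟩, rfl⟩ | ⟨⟨⟨rfl, rfl⟩, gw04, ⟨rfl, rfl⟩⟩, rfl⟩ | ⟨⟨⟨rfl, rfl⟩, gw04, ⟨rfl, rfl⟩⟩, rfl⟩ | ⟨⟨⟨rfl, rfl⟩, gw04, ⟨rfl, rfl⟩⟩, rfl⟩ | ⟨⟨⟨rfl, rfl⟩, gw04, ⟨rfl, rfl⟩⟩, rfl⟩ | ⟨⟨⟨rfl, rfl⟩, gw04, ⟨rfl, rfl⟩⟩, rfl⟩
        · have t := pc3 q05 c05.out (by have := v0.out; omega)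
          clear c05
          rcases t with ⟨⟨⟨rfl, rfl⟩, gw05, ⟨rfl, rfl⟩⟩, rfl⟩ | ⟨⟨⟨rfl, rfl⟩, gw05, ⟨rfl, rfl⟩⟩, rfl⟩ | ⟨⟨⟨rfl, rfl⟩, gw05, ⟨rfl, rfl⟩⟩, rfl⟩ | ⟨⟨⟨rfl, rfl⟩, gw05, ⟨rfl, rfl⟩⟩, rfl⟩ | ⟨⟨⟨rfl, rfl⟩, gw05, ⟨rfl, rfl⟩⟩, rfl⟩ | ⟨⟨⟨rfl, rfl⟩, gw05, ⟨rfl, rfl⟩⟩, rfl⟩
          · have t := pc3 q12 c12.out (by have := v1.out; have := qn13.out; have := qn14.out; have := qn15.out; omega)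
            clear c12
            rcases t with ⟨⟨⟨rfl, rfl⟩, gw12, ⟨rfl, rfl⟩⟩, rfl⟩ | ⟨⟨⟨rfl, rfl⟩, gw12, ⟨rfl, rfl⟩⟩, rfl⟩ | ⟨⟨⟨rfl, rfl⟩, gw12, ⟨rfl, rfl⟩⟩, rfl⟩ | ⟨⟨⟨rfl, rfl⟩, gw12, ⟨rfl, rfl⟩⟩, rfl⟩ | ⟨⟨⟨rfl, rfl⟩, gw12, ⟨rfl, rfl⟩⟩, rfl⟩ | ⟨⟨⟨rfl, rfl⟩, gw12, ⟨rfl, rfl⟩⟩, rfl⟩
            · (have := od2.out; omega)
            · have t := pc2 q13 c13.out (by have := v1.out; have := qn14.out; have := qn15.out; omega)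
              clear c13
              rcases t with ⟨⟨⟨rfl, rfl⟩, gw13, ⟨rfl, rfl⟩⟩, rfl⟩ | ⟨⟨⟨rfl, rfl⟩, gw13, ⟨rfl, rfl⟩⟩, rfl⟩ | ⟨⟨⟨rfl, rfl⟩, gw13, ⟨rfl, rfl⟩⟩, rfl⟩ | ⟨⟨⟨rfl, rfl⟩, gw13, ⟨rfl, rfl⟩⟩, rfl⟩
              · have t := pc2 q14 c14.out (by have := v1.out; have := qn15.out; omega)
                clear c14
                rcases t with ⟨⟨⟨rfl, rfl⟩, gw14, ⟨rfl, rfl⟩⟩, rfl⟩ | ⟨⟨⟨rfl, rfl⟩, gw14, ⟨rfl, rfl⟩⟩, rfl⟩ | ⟨⟨⟨rfl, rfl⟩, gw14, ⟨rfl, rfl⟩⟩, rfl⟩ | ⟨⟨⟨rfl, rfl⟩, gw14, ⟨rfl, rfl⟩⟩, rfl⟩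
                · exact part0 T α15 α23 α24 α25 α32 α34 α35 α42 α43 α45 α51 α52 α53 α54 x15 x23 x24 x25 x32 x34 x35 x42 x43 x45 x51 x52 x53 x54 q15 q23 q24 q25 q34 q35 q45 hm0 hm1 hm2 hm3 hm4 hm5 om1 om2 om3 om4 om5 e0 e1 e2 e3 e4 e5 r01 r02 r03 r04 r05 r10 r12 r13 r14 r15 r20 r21 r23 r24 r25 r30 r31 r32 r34 r35 r40 r41 r42 r43 r45 r50 r51 r52 r53 r54 hw0 hw1 hw2 hw3 hw4 hw5 hs01 hs02 hs03 hs04 hs05 hs12 hs13 hs14 hs15 hs23 hs24 hs25 hs34 hs35 hs45 ha00 ha11 ha22 ha33 ha44 ha55 v0 v1 v2 v3 v4 v5 qn01 qn02 qn03 qn04 qn05 qn12 qn13 qn14 qn15 qn23 qn24 qn25 qn34 qn35 qn45 od1 od2 od3 od4 od5 c15 c23 c24 c25 c34 c35 c45 gw01 gw02 gw03 gw04 gw05 gw12 gw13 gw14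
                · exact part1 T α15 α23 α24 α25 α32 α34 α35 α42 α43 α45 α51 α52 α53 α54 x15 x23 x24 x25 x32 x34 x35 x42 x43 x45 x51 x52 x53 x54 q15 q23 q24 q25 q34 q35 q45 hm0 hm1 hm2 hm3 hm4 hm5 om1 om2 om3 om4 om5 e0 e1 e2 e3 e4 e5 r01 r02 r03 r04 r05 r10 r12 r13 r14 r15 r20 r21 r23 r24 r25 r30 r31 r32 r34 r35 r40 r41 r42 r43 r45 r50 r51 r52 r53 r54 hw0 hw1 hw2 hw3 hw4 hw5 hs01 hs02 hs03 hs04 hs05 hs12 hs13 hs14 hs15 hs23 hs24 hs25 hs34 hs35 hs45 ha00 ha11 ha22 ha33 ha44 ha55 v0 v1 v2 v3 v4 v5 qn01 qn02 qn03 qn04 qn05 qn12 qn13 qn14 qn15 qn23 qn24 qn25 qn34 qn35 qn45 od1 od2 od3 od4 od5 c15 c23 c24 c25 c34 c35 c45 gw01 gw02 gw03 gw04 gw05 gw12 gw13 gw14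
                · exact part2 T α15 α23 α24 α25 α32 α34 α35 α42 α43 α45 α51 α52 α53 α54 x15 x23 x24 x25 x32 x34 x35 x42 x43 x45 x51 x52 x53 x54 q15 q23 q24 q25 q34 q35 q45 hm0 hm1 hm2 hm3 hm4 hm5 om1 om2 om3 om4 om5 e0 e1 e2 e3 e4 e5 r01 r02 r03 r04 r05 r10 r12 r13 r14 r15 r20 r21 r23 r24 r25 r30 r31 r32 r34 r35 r40 r41 r42 r43 r45 r50 r51 r52 r53 r54 hw0 hw1 hw2 hw3 hw4 hw5 hs01 hs02 hs03 hs04 hs05 hs12 hs13 hs14 hs15 hs23 hs24 hs25 hs34 hs35 hs45 ha00 ha11 ha22 ha33 ha44 ha55 v0 v1 v2 v3 v4 v5 qn01 qn02 qn03 qn04 qn05 qn12 qn13 qn14 qn15 qn23 qn24 qn25 qn34 qn35 qn45 od1 od2 od3 od4 od5 c15 c23 c24 c25 c34 c35 c45 gw01 gw02 gw03 gw04 gw05 gw12 gw13 gw14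
                · exact part3 T α15 α23 α24 α25 α32 α34 α35 α42 α43 α45 α51 α52 α53 α54 x15 x23 x24 x25 x32 x34 x35 x42 x43 x45 x51 x52 x53 x54 q15 q23 q24 q25 q34 q35 q45 hm0 hm1 hm2 hm3 hm4 hm5 om1 om2 om3 om4 om5 e0 e1 e2 e3 e4 e5 r01 r02 r03 r04 r05 r10 r12 r13 r14 r15 r20 r21 r23 r24 r25 r30 r31 r32 r34 r35 r40 r41 r42 r43 r45 r50 r51 r52 r53 r54 hw0 hw1 hw2 hw3 hw4 hw5 hs01 hs02 hs03 hs04 hs05 hs12 hs13 hs14 hs15 hs23 hs24 hs25 hs34 hs35 hs45 ha00 ha11 ha22 ha33 ha44 ha55 v0 v1 v2 v3 v4 v5 qn01 qn02 qn03 qn04 qn05 qn12 qn13 qn14 qn15 qn23 qn24 qn25 qn34 qn35 qn45 od1 od2 od3 od4 od5 c15 c23 c24 c25 c34 c35 c45 gw01 gw02 gw03 gw04 gw05 gw12 gw13 gw14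
              · exact part4 T α14 α15 α23 α24 α25 α32 α34 α35 α41 α42 α43 α45 α51 α52 α53 α54 x14 x15 x23 x24 x25 x32 x34 x35 x41 x42 x43 x45 x51 x52 x53 x54 q14 q15 q23 q24 q25 q34 q35 q45 hm0 hm1 hm2 hm3 hm4 hm5 om1 om2 om3 om4 om5 e0 e1 e2 e3 e4 e5 r01 r02 r03 r04 r05 r10 r12 r13 r14 r15 r20 r21 r23 r24 r25 r30 r31 r32 r34 r35 r40 r41 r42 r43 r45 r50 r51 r52 r53 r54 hw0 hw1 hw2 hw3 hw4 hw5 hs01 hs02 hs03 hs04 hs05 hs12 hs13 hs14 hs15 hs23 hs24 hs25 hs34 hs35 hs45 ha00 ha11 ha22 ha33 ha44 ha55 v0 v1 v2 v3 v4 v5 qn01 qn02 qn03 qn04 qn05 qn12 qn13 qn14 qn15 qn23 qn24 qn25 qn34 qn35 qn45 od1 od2 od3 od4 od5 c14 c15 c23 c24 c25 c34 c35 c45 gw01 gw02 gw03 gw04 gw05 gw12 gw13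
              · exact part5 T α14 α15 α23 α24 α25 α32 α34 α35 α41 α42 α43 α45 α51 α52 α53 α54 x14 x15 x23 x24 x25 x32 x34 x35 x41 x42 x43 x45 x51 x52 x53 x54 q14 q15 q23 q24 q25 q34 q35 q45 hm0 hm1 hm2 hm3 hm4 hm5 om1 om2 om3 om4 om5 e0 e1 e2 e3 e4 e5 r01 r02 r03 r04 r05 r10 r12 r13 r14 r15 r20 r21 r23 r24 r25 r30 r31 r32 r34 r35 r40 r41 r42 r43 r45 r50 r51 r52 r53 r54 hw0 hw1 hw2 hw3 hw4 hw5 hs01 hs02 hs03 hs04 hs05 hs12 hs13 hs14 hs15 hs23 hs24 hs25 hs34 hs35 hs45 ha00 ha11 ha22 ha33 ha44 ha55 v0 v1 v2 v3 v4 v5 qn01 qn02 qn03 qn04 qn05 qn12 qn13 qn14 qn15 qn23 qn24 qn25 qn34 qn35 qn45 od1 od2 od3 od4 od5 c14 c15 c23 c24 c25 c34 c35 c45 gw01 gw02 gw03 gw04 gw05 gw12 gw13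
              · exact part6 T α14 α15 α23 α24 α25 α32 α34 α35 α41 α42 α43 α45 α51 α52 α53 α54 x14 x15 x23 x24 x25 x32 x34 x35 x41 x42 x43 x45 x51 x52 x53 x54 q14 q15 q23 q24 q25 q34 q35 q45 hm0 hm1 hm2 hm3 hm4 hm5 om1 om2 om3 om4 om5 e0 e1 e2 e3 e4 e5 r01 r02 r03 r04 r05 r10 r12 r13 r14 r15 r20 r21 r23 r24 r25 r30 r31 r32 r34 r35 r40 r41 r42 r43 r45 r50 r51 r52 r53 r54 hw0 hw1 hw2 hw3 hw4 hw5 hs01 hs02 hs03 hs04 hs05 hs12 hs13 hs14 hs15 hs23 hs24 hs25 hs34 hs35 hs45 ha00 ha11 ha22 ha33 ha44 ha55 v0 v1 v2 v3 v4 v5 qn01 qn02 qn03 qn04 qn05 qn12 qn13 qn14 qn15 qn23 qn24 qn25 qn34 qn35 qn45 od1 od2 od3 od4 od5 c14 c15 c23 c24 c25 c34 c35 c45 gw01 gw02 gw03 gw04 gw05 gw12 gw13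
            · exact part7 T α13 α14 α15 α23 α24 α25 α31 α32 α34 α35 α41 α42 α43 α45 α51 α52 α53 α54 x13 x14 x15 x23 x24 x25 x31 x32 x34 x35 x41 x42 x43 x45 x51 x52 x53 x54 q13 q14 q15 q23 q24 q25 q34 q35 q45 hm0 hm1 hm2 hm3 hm4 hm5 om1 om2 om3 om4 om5 e0 e1 e2 e3 e4 e5 r01 r02 r03 r04 r05 r10 r12 r13 r14 r15 r20 r21 r23 r24 r25 r30 r31 r32 r34 r35 r40 r41 r42 r43 r45 r50 r51 r52 r53 r54 hw0 hw1 hw2 hw3 hw4 hw5 hs01 hs02 hs03 hs04 hs05 hs12 hs13 hs14 hs15 hs23 hs24 hs25 hs34 hs35 hs45 ha00 ha11 ha22 ha33 ha44 ha55 v0 v1 v2 v3 v4 v5 qn01 qn02 qn03 qn04 qn05 qn12 qn13 qn14 qn15 qn23 qn24 qn25 qn34 qn35 qn45 od1 od2 od3 od4 od5 c13 c14 c15 c23 c24 c25 c34 c35 c45 gw01 gw02 gw03 gw04 gw05 gw12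
            · exact part8 T α13 α14 α15 α23 α24 α25 α31 α32 α34 α35 α41 α42 α43 α45 α51 α52 α53 α54 x13 x14 x15 x23 x24 x25 x31 x32 x34 x35 x41 x42 x43 x45 x51 x52 x53 x54 q13 q14 q15 q23 q24 q25 q34 q35 q45 hm0 hm1 hm2 hm3 hm4 hm5 om1 om2 om3 om4 om5 e0 e1 e2 e3 e4 e5 r01 r02 r03 r04 r05 r10 r12 r13 r14 r15 r20 r21 r23 r24 r25 r30 r31 r32 r34 r35 r40 r41 r42 r43 r45 r50 r51 r52 r53 r54 hw0 hw1 hw2 hw3 hw4 hw5 hs01 hs02 hs03 hs04 hs05 hs12 hs13 hs14 hs15 hs23 hs24 hs25 hs34 hs35 hs45 ha00 ha11 ha22 ha33 ha44 ha55 v0 v1 v2 v3 v4 v5 qn01 qn02 qn03 qn04 qn05 qn12 qn13 qn14 qn15 qn23 qn24 qn25 qn34 qn35 qn45 od1 od2 od3 od4 od5 c13 c14 c15 c23 c24 c25 c34 c35 c45 gw01 gw02 gw03 gw04 gw05 gw12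
            · exact part9 T α13 α14 α15 α23 α24 α25 α31 α32 α34 α35 α41 α42 α43 α45 α51 α52 α53 α54 x13 x14 x15 x23 x24 x25 x31 x32 x34 x35 x41 x42 x43 x45 x51 x52 x53 x54 q13 q14 q15 q23 q24 q25 q34 q35 q45 hm0 hm1 hm2 hm3 hm4 hm5 om1 om2 om3 om4 om5 e0 e1 e2 e3 e4 e5 r01 r02 r03 r04 r05 r10 r12 r13 r14 r15 r20 r21 r23 r24 r25 r30 r31 r32 r34 r35 r40 r41 r42 r43 r45 r50 r51 r52 r53 r54 hw0 hw1 hw2 hw3 hw4 hw5 hs01 hs02 hs03 hs04 hs05 hs12 hs13 hs14 hs15 hs23 hs24 hs25 hs34 hs35 hs45 ha00 ha11 ha22 ha33 ha44 ha55 v0 v1 v2 v3 v4 v5 qn01 qn02 qn03 qn04 qn05 qn12 qn13 qn14 qn15 qn23 qn24 qn25 qn34 qn35 qn45 od1 od2 od3 od4 od5 c13 c14 c15 c23 c24 c25 c34 c35 c45 gw01 gw02 gw03 gw04 gw05 gw12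
            · exact part10 T α13 α14 α15 α23 α24 α25 α31 α32 α34 α35 α41 α42 α43 α45 α51 α52 α53 α54 x13 x14 x15 x23 x24 x25 x31 x32 x34 x35 x41 x42 x43 x45 x51 x52 x53 x54 q13 q14 q15 q23 q24 q25 q34 q35 q45 hm0 hm1 hm2 hm3 hm4 hm5 om1 om2 om3 om4 om5 e0 e1 e2 e3 e4 e5 r01 r02 r03 r04 r05 r10 r12 r13 r14 r15 r20 r21 r23 r24 r25 r30 r31 r32 r34 r35 r40 r41 r42 r43 r45 r50 r51 r52 r53 r54 hw0 hw1 hw2 hw3 hw4 hw5 hs01 hs02 hs03 hs04 hs05 hs12 hs13 hs14 hs15 hs23 hs24 hs25 hs34 hs35 hs45 ha00 ha11 ha22 ha33 ha44 ha55 v0 v1 v2 v3 v4 v5 qn01 qn02 qn03 qn04 qn05 qn12 qn13 qn14 qn15 qn23 qn24 qn25 qn34 qn35 qn45 od1 od2 od3 od4 od5 c13 c14 c15 c23 c24 c25 c34 c35 c45 gw01 gw02 gw03 gw04 gw05 gw12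
          · exact part11 T α12 α13 α14 α15 α21 α23 α24 α25 α31 α32 α34 α35 α41 α42 α43 α45 α51 α52 α53 α54 x12 x13 x14 x15 x21 x23 x24 x25 x31 x32 x34 x35 x41 x42 x43 x45 x51 x52 x53 x54 q12 q13 q14 q15 q23 q24 q25 q34 q35 q45 hm0 hm1 hm2 hm3 hm4 hm5 om1 om2 om3 om4 om5 e0 e1 e2 e3 e4 e5 r01 r02 r03 r04 r05 r10 r12 r13 r14 r15 r20 r21 r23 r24 r25 r30 r31 r32 r34 r35 r40 r41 r42 r43 r45 r50 r51 r52 r53 r54 hw0 hw1 hw2 hw3 hw4 hw5 hs01 hs02 hs03 hs04 hs05 hs12 hs13 hs14 hs15 hs23 hs24 hs25 hs34 hs35 hs45 ha00 ha11 ha22 ha33 ha44 ha55 v0 v1 v2 v3 v4 v5 qn01 qn02 qn03 qn04 qn05 qn12 qn13 qn14 qn15 qn23 qn24 qn25 qn34 qn35 qn45 od1 od2 od3 od4 od5 c12 c13 c14 c15 c23 c24 c25 c34 c35 c45 gw01 gw02 gw03 gw04 gw05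
          · exact part12 T α12 α13 α14 α15 α21 α23 α24 α25 α31 α32 α34 α35 α41 α42 α43 α45 α51 α52 α53 α54 x12 x13 x14 x15 x21 x23 x24 x25 x31 x32 x34 x35 x41 x42 x43 x45 x51 x52 x53 x54 q12 q13 q14 q15 q23 q24 q25 q34 q35 q45 hm0 hm1 hm2 hm3 hm4 hm5 om1 om2 om3 om4 om5 e0 e1 e2 e3 e4 e5 r01 r02 r03 r04 r05 r10 r12 r13 r14 r15 r20 r21 r23 r24 r25 r30 r31 r32 r34 r35 r40 r41 r42 r43 r45 r50 r51 r52 r53 r54 hw0 hw1 hw2 hw3 hw4 hw5 hs01 hs02 hs03 hs04 hs05 hs12 hs13 hs14 hs15 hs23 hs24 hs25 hs34 hs35 hs45 ha00 ha11 ha22 ha33 ha44 ha55 v0 v1 v2 v3 v4 v5 qn01 qn02 qn03 qn04 qn05 qn12 qn13 qn14 qn15 qn23 qn24 qn25 qn34 qn35 qn45 od1 od2 od3 od4 od5 c12 c13 c14 c15 c23 c24 c25 c34 c35 c45 gw01 gw02 gw03 gw04 gw05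
          · (have := hm1.out; have := om5.out; have := e0.out; omega)
          · (have := hm5.out; have := om1.out; have := e0.out; have := e5.out; have := r51.out; have := r52.out; have := r53.out; have := r54.out; omega)
          · (have := hm5.out; have := om1.out; have := om5.out; have := e0.out; omega)
        · exact part13 T α05 α12 α13 α14 α15 α21 α23 α24 α25 α31 α32 α34 α35 α41 α42 α43 α45 α50 α51 α52 α53 α54 x05 x12 x13 x14 x15 x21 x23 x24 x25 x31 x32 x34 x35 x41 x42 x43 x45 x50 x51 x52 x53 x54 q05 q12 q13 q14 q15 q23 q24 q25 q34 q35 q45 hm0 hm1 hm2 hm3 hm4 hm5 om1 om2 om3 om4 om5 e0 e1 e2 e3 e4 e5 r01 r02 r03 r04 r05 r10 r12 r13 r14 r15 r20 r21 r23 r24 r25 r30 r31 r32 r34 r35 r40 r41 r42 r43 r45 r50 r51 r52 r53 r54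 hw0 hw1 hw2 hw3 hw4 hw5 hs01 hs02 hs03 hs04 hs05 hs12 hs13 hs14 hs15 hs23 hs24 hs25 hs34 hs35 hs45 ha00 ha11 ha22 ha33 ha44 ha55 v0 v1 v2 v3 v4 v5 qn01 qn02 qn03 qn04 qn05 qn12 qn13 qn14 qn15 qn23 qn24 qn25 qn34 qn35 qn45 od1 od2 od3 od4 od5 c05 c12 c13 c14 c15 c23 c24 c25 c34 c35 c45 gw01 gw02 gw03 gw04
        · exact part14 T α05 α12 α13 α14 α15 α21 α23 α24 α25 α31 α32 α34 α35 α41 α42 α43 α45 α50 α51 α52 α53 α54 x05 x12 x13 x14 x15 x21 x23 x24 x25 x31 x32 x34 x35 x41 x42 x43 x45 x50 x51 x52 x53 x54 q05 q12 q13 q14 q15 q23 q24 q25 q34 q35 q45 hm0 hm1 hm2 hm3 hm4 hm5 om1 om2 om3 om4 om5 e0 e1 e2 e3 e4 e5 r01 r02 r03 r04 r05 r10 r12 r13 r14 r15 r20 r21 r23 r24 r25 r30 r31 r32 r34 r35 r40 r41 r42 r43 r45 r50 r51 r52 r53 r54 hw0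 hw1 hw2 hw3 hw4 hw5 hs01 hs02 hs03 hs04 hs05 hs12 hs13 hs14 hs15 hs23 hs24 hs25 hs34 hs35 hs45 ha00 ha11 ha22 ha33 ha44 ha55 v0 v1 v2 v3 v4 v5 qn01 qn02 qn03 qn04 qn05 qn12 qn13 qn14 qn15 qn23 qn24 qn25 qn34 qn35 qn45 od1 od2 od3 od4 od5 c05 c12 c13 c14 c15 c23 c24 c25 c34 c35 c45 gw01 gw02 gw03 gw04
        · (have := hm1.out; have := om4.out; have := e0.out; have := r05.out; omega)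
        · (have := hm4.out; have := om1.out; have := e0.out; have := r05.out; have := e4.out; have := r41.out; have := r42.out; have := r43.out; have := r45.out; omega)
        · (have := hm4.out; have := om1.out; have := om4.out; have := e0.out; have := r05.out; omega)
      · exact part15 T α04 α05 α12 α13 α14 α15 α21 α23 α24 α25 α31 α32 α34 α35 α40 α41 α42 α43 α45 α50 α51 α52 α53 α54 x04 x05 x12 x13 x14 x15 x21 x23 x24 x25 x31 x32 x34 x35 x40 x41 x42 x43 x45 x50 x51 x52 x53 x54 q04 q05 q12 q13 q14 q15 q23 q24 q25 q34 q35 q45 hm0 hm1 hm2 hm3 hm4 hm5 om1 om2 om3 om4 om5 e0 e1 e2 e3 e4 e5 r01 r02 r03 r04 r05 r10 r12 r13 r14 r15 r20 r21 r23 r24 r25 r30 r31 r32 r34 r35 r40 r41 r42 r43 r45 r50 r51 r52 r53 r54 hw0 hw1 hw2 hw3 hw4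 hw5 hs01 hs02 hs03 hs04 hs05 hs12 hs13 hs14 hs15 hs23 hs24 hs25 hs34 hs35 hs45 ha00 ha11 ha22 ha33 ha44 ha55 v0 v1 v2 v3 v4 v5 qn01 qn02 qn03 qn04 qn05 qn12 qn13 qn14 qn15 qn23 qn24 qn25 qn34 qn35 qn45 od1 od2 od3 od4 od5 c04 c05 c12 c13 c14 c15 c23 c24 c25 c34 c35 c45 gw01 gw02 gw03
      · exact part16 T α04 α05 α12 α13 α14 α15 α21 α23 α24 α25 α31 α32 α34 α35 α40 α41 α42 α43 α45 α50 α51 α52 α53 α54 x04 x05 x12 x13 x14 x15 x21 x23 x24 x25 x31 x32 x34 x35 x40 x41 x42 x43 x45 x50 x51 x52 x53 x54 q04 q05 q12 q13 q14 q15 q23 q24 q25 q34 q35 q45 hm0 hm1 hm2 hm3 hm4 hm5 om1 om2 om3 om4 om5 e0 e1 e2 e3 e4 e5 r01 r02 r03 r04 r05 r10 r12 r13 r14 r15 r20 r21 r23 r24 r25 r30 r31 r32 r34 r35 r40 r41 r42 r43 r45 r50 r51 r52 r53 r54 hw0 hw1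 hw2 hw3 hw4 hw5 hs01 hs02 hs03 hs04 hs05 hs12 hs13 hs14 hs15 hs23 hs24 hs25 hs34 hs35 hs45 ha00 ha11 ha22 ha33 ha44 ha55 v0 v1 v2 v3 v4 v5 qn01 qn02 qn03 qn04 qn05 qn12 qn13 qn14 qn15 qn23 qn24 qn25 qn34 qn35 qn45 od1 od2 od3 od4 od5 c04 c05 c12 c13 c14 c15 c23 c24 c25 c34 c35 c45 gw01 gw02 gw03
      · (have := hm1.out; have := om3.out; have := e0.out; have := r04.out; have := r05.out; omega)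
      · (have := hm3.out; have := om1.out; have := e0.out; have := r04.out; have := r05.out; have := e3.out; have := r31.out; have := r32.out; have := r34.out; have := r35.out; omega)
      · (have := hm3.out; have := om1.out; have := om3.out; have := e0.out; have := r04.out; have := r05.out; omega)
    · have t := pc2 q03 c03.out (by have := v0.out; have := qn04.out; have := qn05.out; omega)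
      clear c03
      rcases t with ⟨⟨⟨rfl, rfl⟩, gw03, ⟨rfl, rfl⟩⟩, rfl⟩ | ⟨⟨⟨rfl, rfl⟩, gw03, ⟨rfl, rfl⟩⟩, rfl⟩ | ⟨⟨⟨rfl, rfl⟩, gw03, ⟨rfl, rfl⟩⟩, rfl⟩ | ⟨⟨⟨rfl, rfl⟩, gw03, ⟨rfl, rfl⟩⟩, rfl⟩
      · have t := pc2 q04 c04.out (by have := v0.out; have := qn05.out; omega)
        clear c04
        rcases t with ⟨⟨⟨rfl, rfl⟩, gw04, ⟨rfl, rfl⟩⟩, rfl⟩ | ⟨⟨⟨rfl, rfl⟩, gw04, ⟨rfl, rfl⟩⟩, rfl⟩ | ⟨⟨⟨rfl, rfl⟩, gw04, ⟨rfl, rfl⟩⟩, rfl⟩ | ⟨⟨⟨rfl, rfl⟩, gw04, ⟨rfl, rfl⟩⟩, rfl⟩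
        · have t := pc2 q05 c05.out (by have := v0.out; omega)
          clear c05
          rcases t with ⟨⟨⟨rfl, rfl⟩, gw05, ⟨rfl, rfl⟩⟩, rfl⟩ | ⟨⟨⟨rfl, rfl⟩, gw05, ⟨rfl, rfl⟩⟩, rfl⟩ | ⟨⟨⟨rfl, rfl⟩, gw05, ⟨rfl, rfl⟩⟩, rfl⟩ | ⟨⟨⟨rfl, rfl⟩, gw05, ⟨rfl, rfl⟩⟩, rfl⟩
          · have t := pc3 q12 c12.out (by have := v1.out; have := qn13.out; have := qn14.out; have := qn15.out; omega)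
            clear c12
            rcases t with ⟨⟨⟨rfl, rfl⟩, gw12, ⟨rfl, rfl⟩⟩, rfl⟩ | ⟨⟨⟨rfl, rfl⟩, gw12, ⟨rfl, rfl⟩⟩, rfl⟩ | ⟨⟨⟨rfl, rfl⟩, gw12, ⟨rfl, rfl⟩⟩, rfl⟩ | ⟨⟨⟨rfl, rfl⟩, gw12, ⟨rfl, rfl⟩⟩, rfl⟩ | ⟨⟨⟨rfl, rfl⟩, gw12, ⟨rfl, rfl⟩⟩, rfl⟩ | ⟨⟨⟨rfl, rfl⟩, gw12, ⟨rfl, rfl⟩⟩, rfl⟩
            · have t := pc3 q13 c13.out (by have := v1.out; have := qn14.out; have := qn15.out; omega)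
              clear c13
              rcases t with ⟨⟨⟨rfl, rfl⟩, gw13, ⟨rfl, rfl⟩⟩, rfl⟩ | ⟨⟨⟨rfl, rfl⟩, gw13, ⟨rfl, rfl⟩⟩, rfl⟩ | ⟨⟨⟨rfl, rfl⟩, gw13, ⟨rfl, rfl⟩⟩, rfl⟩ | ⟨⟨⟨rfl, rfl⟩, gw13, ⟨rfl, rfl⟩⟩, rfl⟩ | ⟨⟨⟨rfl, rfl⟩, gw13, ⟨rfl, rfl⟩⟩, rfl⟩ | ⟨⟨⟨rfl, rfl⟩, gw13, ⟨rfl, rfl⟩⟩, rfl⟩
              · exact part17 T α14 α15 α23 α24 α25 α32 α34 α35 α41 α42 α43 α45 α51 α52 α53 α54 x14 x15 x23 x24 x25 x32 x34 x35 x41 x42 x43 x45 x51 x52 x53 x54 q14 q15 q23 q24 q25 q34 q35 q45 hm0 hm1 hm2 hm3 hm4 hm5 om1 om2 om3 om4 om5 e0 e1 e2 e3 e4 e5 r01 r02 r03 r04 r05 r10 r12 r13 r14 r15 r20 r21 r23 r24 r25 r30 r31 r32 r34 r35 r40 r41 r42 r43 r45 r50 r51 r52 r53 r54 hw0 hw1 hw2 hw3 hw4 hw5 hs01 hs02 hs03 hs04 hs05 hs12 hs13 hs14 hs15 hs23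 hs24 hs25 hs34 hs35 hs45 ha00 ha11 ha22 ha33 ha44 ha55 v0 v1 v2 v3 v4 v5 qn01 qn02 qn03 qn04 qn05 qn12 qn13 qn14 qn15 qn23 qn24 qn25 qn34 qn35 qn45 od1 od2 od3 od4 od5 c14 c15 c23 c24 c25 c34 c35 c45 gw01 gw02 gw03 gw04 gw05 gw12 gw13
              · exact part18 T α14 α15 α23 α24 α25 α32 α34 α35 α41 α42 α43 α45 α51 α52 α53 α54 x14 x15 x23 x24 x25 x32 x34 x35 x41 x42 x43 x45 x51 x52 x53 x54 q14 q15 q23 q24 q25 q34 q35 q45 hm0 hm1 hm2 hm3 hm4 hm5 om1 om2 om3 om4 om5 e0 e1 e2 e3 e4 e5 r01 r02 r03 r04 r05 r10 r12 r13 r14 r15 r20 r21 r23 r24 r25 r30 r31 r32 r34 r35 r40 r41 r42 r43 r45 r50 r51 r52 r53 r54 hw0 hw1 hw2 hw3 hw4 hw5 hs01 hs02 hs03 hs04 hs05 hs12 hs13 hs14 hs15 hs23 hs24 hs25 hs34 hs35 hs45 ha00 ha11 ha22 ha33 ha44 ha55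 v0 v1 v2 v3 v4 v5 qn01 qn02 qn03 qn04 qn05 qn12 qn13 qn14 qn15 qn23 qn24 qn25 qn34 qn35 qn45 od1 od2 od3 od4 od5 c14 c15 c23 c24 c25 c34 c35 c45 gw01 gw02 gw03 gw04 gw05 gw12 gw13
              · exact part19 T α14 α15 α23 α24 α25 α32 α34 α35 α41 α42 α43 α45 α51 α52 α53 α54 x14 x15 x23 x24 x25 x32 x34 x35 x41 x42 x43 x45 x51 x52 x53 x54 q14 q15 q23 q24 q25 q34 q35 q45 hm0 hm1 hm2 hm3 hm4 hm5 om1 om2 om3 om4 om5 e0 e1 e2 e3 e4 e5 r01 r02 r03 r04 r05 r10 r12 r13 r14 r15 r20 r21 r23 r24 r25 r30 r31 r32 r34 r35 r40 r41 r42 r43 r45 r50 r51 r52 r53 r54 hw0 hw1 hw2 hw3 hw4 hw5 hs01 hs02 hs03 hs04 hs05 hs12 hs13 hs14 hs15 hs23 hs24 hs25 hs34 hs35 hs45 ha00 ha11 ha22 ha33 ha44 ha55 v0 v1 v2 v3 v4 v5 qn01 qn02 qn03 qn04 qn05 qn12 qn13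 qn14 qn15 qn23 qn24 qn25 qn34 qn35 qn45 od1 od2 od3 od4 od5 c14 c15 c23 c24 c25 c34 c35 c45 gw01 gw02 gw03 gw04 gw05 gw12 gw13
              · (have := hm1.out; have := om2.out; have := om3.out; have := e0.out; have := e1.out; have := r14.out; have := r15.out; omega)
              · (have := hm2.out; have := e0.out; have := e1.out; have := r14.out; have := r15.out; have := e3.out; have := r32.out; have := r34.out; have := r35.out; omega)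
              · (have := hm2.out; have := om3.out; have := e0.out; have := e1.out; have := r14.out; have := r15.out; omega)
            · exact part20 T α13 α14 α15 α23 α24 α25 α31 α32 α34 α35 α41 α42 α43 α45 α51 α52 α53 α54 x13 x14 x15 x23 x24 x25 x31 x32 x34 x35 x41 x42 x43 x45 x51 x52 x53 x54 q13 q14 q15 q23 q24 q25 q34 q35 q45 hm0 hm1 hm2 hm3 hm4 hm5 om1 om2 om3 om4 om5 e0 e1 e2 e3 e4 e5 r01 r02 r03 r04 r05 r10 r12 r13 r14 r15 r20 r21 r23 r24 r25 r30 r31 r32 r34 r35 r40 r41 r42 r43 r45 r50 r51 r52 r53 r54 hw0 hw1 hw2 hw3 hw4 hw5 hs01 hs02 hs03 hs04 hs05 hs12 hs13 hs14 hs15 hs23 hs24 hs25 hs34 hs35 hs45 ha00 ha11 ha22 ha33 ha44 ha55 v0 v1 v2 v3 v4 v5 qn01 qn02 qn03 qn04 qn05 qn12 qn13 qn14 qn15 qn23 qn24 qn25 qn34 qn35 qn45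 od1 od2 od3 od4 od5 c13 c14 c15 c23 c24 c25 c34 c35 c45 gw01 gw02 gw03 gw04 gw05 gw12
            · (have := hm1.out; have := e0.out; have := e1.out; have := r13.out; have := r14.out; have := r15.out; have := e2.out; have := r23.out; have := r24.out; have := r25.out; omega)
            · (have := hm2.out; have := om2.out; have := e0.out; have := e1.out; have := r13.out; have := r14.out; have := r15.out; omega)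
            · (have := hm1.out; have := om1.out; have := e0.out; have := e2.out; have := r23.out; have := r24.out; have := r25.out; omega)
            · (have := hm2.out; have := om2.out; have := e0.out; have := e1.out; have := r13.out; have := r14.out; have := r15.out; omega)
          · (have := hm1.out; have := om2.out; have := om5.out; have := e0.out; omega)
          · (have := hm1.out; have := om2.out; have := om5.out; have := e0.out; omega)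
          · (have := hm1.out; have := om2.out; have := e0.out; have := e5.out; have := r51.out; have := r52.out; have := r53.out; have := r54.out; omega)
        · (have := hm1.out; have := om2.out; have := om4.out; have := e0.out; have := r05.out; omega)
        · (have := hm1.out; have := om2.out; have := om4.out; have := e0.out; have := r05.out; omega)
        · (have := hm1.out; have := om2.out; have := e0.out; have := r05.out; have := e4.out; have := r41.out; have := r42.out; have := r43.out; have := r45.out; omega)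
      · (have := hm1.out; have := om2.out; have := om3.out; have := e0.out; have := r04.out; have := r05.out; omega)
      · (have := hm1.out; have := om2.out; have := om3.out; have := e0.out; have := r04.out; have := r05.out; omega)
      · (have := hm1.out; have := om2.out; have := e0.out; have := r04.out; have := r05.out; have := e3.out; have := r31.out; have := r32.out; have := r34.out; have := r35.out; omega)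
    · exact part21 T α03 α04 α05 α12 α13 α14 α15 α21 α23 α24 α25 α30 α31 α32 α34 α35 α40 α41 α42 α43 α45 α50 α51 α52 α53 α54 x03 x04 x05 x12 x13 x14 x15 x21 x23 x24 x25 x30 x31 x32 x34 x35 x40 x41 x42 x43 x45 x50 x51 x52 x53 x54 q03 q04 q05 q12 q13 q14 q15 q23 q24 q25 q34 q35 q45 hm0 hm1 hm2 hm3 hm4 hm5 om1 om2 om3 om4 om5 e0 e1 e2 e3 e4 e5 r01 r02 r03 r04 r05 r10 r12 r13 r14 r15 r20 r21 r23 r24 r25 r30 r31 r32 r34 r35 r40 r41 r42 r43 r45 r50 r51 r52 r53 r54 hw0 hw1 hw2 hw3 hw4 hw5 hs01 hs02 hs03 hs04 hs05 hs12 hs13 hs14 hs15 hs23 hs24 hs25 hs34 hs35 hs45 ha00 ha11 ha22 ha33 ha44 ha55 v0 v1 v2 v3 v4 v5 qn01 qn02 qn03 qn04 qn05 qn12 qn13 qn14 qn15 qn23 qn24 qn25 qn34 qn35 qn45 od1 od2 od3 od4 od5 c03 c04 c05 c12 c13 c14 c15 c23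 c24 c25 c34 c35 c45 gw01 gw02
    · (have := hm1.out; have := om2.out; have := e0.out; have := r03.out; have := r04.out; have := r05.out; omega)
    · (have := hm2.out; have := om1.out; have := e0.out; have := r03.out; have := r04.out; have := r05.out; have := e2.out; have := r21.out; have := r23.out; have := r24.out; have := r25.out; omega)
    · (have := hm2.out; have := om1.out; have := om2.out; have := e0.out; have := r03.out; have := r04.out; have := r05.out; omega)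
  · have t := pc2 q02 c02.out (by have := v0.out; have := qn03.out; have := qn04.out; have := qn05.out; omega)
    clear c02
    rcases t with ⟨⟨⟨rfl, rfl⟩, gw02, ⟨rfl, rfl⟩⟩, rfl⟩ | ⟨⟨⟨rfl, rfl⟩, gw02, ⟨rfl, rfl⟩⟩, rfl⟩ | ⟨⟨⟨rfl, rfl⟩, gw02, ⟨rfl, rfl⟩⟩, rfl⟩ | ⟨⟨⟨rfl, rfl⟩, gw02, ⟨rfl, rfl⟩⟩, rfl⟩
    · exact part22 T α03 α04 α05 α12 α13 α14 α15 α21 α23 α24 α25 α30 α31 α32 α34 α35 α40 α41 α42 α43 α45 α50 α51 α52 α53 α54 x03 x04 x05 x12 x13 x14 x15 x21 x23 x24 x25 x30 x31 x32 x34 x35 x40 x41 x42 x43 x45 x50 x51 x52 x53 x54 q03 q04 q05 q12 q13 q14 q15 q23 q24 q25 q34 q35 q45 hm0 hm1 hm2 hm3 hm4 hm5 om1 om2 om3 om4 om5 e0 e1 e2 e3 e4 e5 r01 r02 r03 r04 r05 r10 r12 r13 r14 r15 r20 r21 r23 r24 r25 r30 r31 r32 r34 r35 r40 r41 r42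 r43 r45 r50 r51 r52 r53 r54 hw0 hw1 hw2 hw3 hw4 hw5 hs01 hs02 hs03 hs04 hs05 hs12 hs13 hs14 hs15 hs23 hs24 hs25 hs34 hs35 hs45 ha00 ha11 ha22 ha33 ha44 ha55 v0 v1 v2 v3 v4 v5 qn01 qn02 qn03 qn04 qn05 qn12 qn13 qn14 qn15 qn23 qn24 qn25 qn34 qn35 qn45 od1 od2 od3 od4 od5 c03 c04 c05 c12 c13 c14 c15 c23 c24 c25 c34 c35 c45 gw01 gw02
    · exact part23 T α03 α04 α05 α12 α13 α14 α15 α21 α23 α24 α25 α30 α31 α32 α34 α35 α40 α41 α42 α43 α45 α50 α51 α52 α53 α54 x03 x04 x05 x12 x13 x14 x15 x21 x23 x24 x25 x30 x31 x32 x34 x35 x40 x41 x42 x43 x45 x50 x51 x52 x53 x54 q03 q04 q05 q12 q13 q14 q15 q23 q24 q25 q34 q35 q45 hm0 hm1 hm2 hm3 hm4 hm5 om1 om2 om3 om4 om5 e0 e1 e2 e3 e4 e5 r01 r02 r03 r04 r05 r10 r12 r13 r14 r15 r20 r21 r23 r24 r25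 r30 r31 r32 r34 r35 r40 r41 r42 r43 r45 r50 r51 r52 r53 r54 hw0 hw1 hw2 hw3 hw4 hw5 hs01 hs02 hs03 hs04 hs05 hs12 hs13 hs14 hs15 hs23 hs24 hs25 hs34 hs35 hs45 ha00 ha11 ha22 ha33 ha44 ha55 v0 v1 v2 v3 v4 v5 qn01 qn02 qn03 qn04 qn05 qn12 qn13 qn14 qn15 qn23 qn24 qn25 qn34 qn35 qn45 od1 od2 od3 od4 od5 c03 c04 c05 c12 c13 c14 c15 c23 c24 c25 c34 c35 c45 gw01 gw02
    · exact part24 T α03 α04 α05 α12 α13 α14 α15 α21 α23 α24 α25 α30 α31 α32 α34 α35 α40 α41 α42 α43 α45 α50 α51 α52 α53 α54 x03 x04 x05 x12 x13 x14 x15 x21 x23 x24 x25 x30 x31 x32 x34 x35 x40 x41 x42 x43 x45 x50 x51 x52 x53 x54 q03 q04 q05 q12 q13 q14 q15 q23 q24 q25 q34 q35 q45 hm0 hm1 hm2 hm3 hm4 hm5 om1 om2 om3 om4 om5 e0 e1 e2 e3 e4 e5 r01 r02 r03 r04 r05 r10 r12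 r13 r14 r15 r20 r21 r23 r24 r25 r30 r31 r32 r34 r35 r40 r41 r42 r43 r45 r50 r51 r52 r53 r54 hw0 hw1 hw2 hw3 hw4 hw5 hs01 hs02 hs03 hs04 hs05 hs12 hs13 hs14 hs15 hs23 hs24 hs25 hs34 hs35 hs45 ha00 ha11 ha22 ha33 ha44 ha55 v0 v1 v2 v3 v4 v5 qn01 qn02 qn03 qn04 qn05 qn12 qn13 qn14 qn15 qn23 qn24 qn25 qn34 qn35 qn45 od1 od2 od3 od4 od5 c03 c04 c05 c12 c13 c14 c15 c23 c24 c25 c34 c35 c45 gw01 gw02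
    · (have := hm1.out; have := om2.out; have := e0.out; have := r03.out; have := r04.out; have := r05.out; omega)
  · exact part25 T α02 α03 α04 α05 α12 α13 α14 α15 α20 α21 α23 α24 α25 α30 α31 α32 α34 α35 α40 α41 α42 α43 α45 α50 α51 α52 α53 α54 x02 x03 x04 x05 x12 x13 x14 x15 x20 x21 x23 x24 x25 x30 x31 x32 x34 x35 x40 x41 x42 x43 x45 x50 x51 x52 x53 x54 q02 q03 q04 q05 q12 q13 q14 q15 q23 q24 q25 q34 q35 q45 hm0 hm1 hm2 hm3 hm4 hm5 om1 om2 om3 om4 om5 e0 e1 e2 e3 e4 e5 r01 r02 r03 r04 r05 r10 r12 r13 r14 r15 r20 r21 r23 r24 r25 r30 r31 r32 r34 r35 r40 r41 r42 r43 r45 r50 r51 r52 r53 r54 hw0 hw1 hw2 hw3 hw4 hw5 hs01 hs02 hs03 hs04 hs05 hs12 hs13 hs14 hs15 hs23 hs24 hs25 hs34 hs35 hs45 ha00 ha11 ha22 ha33 ha44 ha55 v0 v1 v2 v3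 v4 v5 qn01 qn02 qn03 qn04 qn05 qn12 qn13 qn14 qn15 qn23 qn24 qn25 qn34 qn35 qn45 od1 od2 od3 od4 od5 c02 c03 c04 c05 c12 c13 c14 c15 c23 c24 c25 c34 c35 c45 gw01
  · exact part26 T α02 α03 α04 α05 α12 α13 α14 α15 α20 α21 α23 α24 α25 α30 α31 α32 α34 α35 α40 α41 α42 α43 α45 α50 α51 α52 α53 α54 x02 x03 x04 x05 x12 x13 x14 x15 x20 x21 x23 x24 x25 x30 x31 x32 x34 x35 x40 x41 x42 x43 x45 x50 x51 x52 x53 x54 q02 q03 q04 q05 q12 q13 q14 q15 q23 q24 q25 q34 q35 q45 hm0 hm1 hm2 hm3 hm4 hm5 om1 om2 om3 om4 om5 e0 e1 e2 e3 e4 e5 r01 r02 r03 r04 r05 r10 r12 r13 r14 r15 r20 r21 r23 r24 r25 r30 r31 r32 r34 r35 r40 r41 r42 r43 r45 r50 r51 r52 r53 r54 hw0 hw1 hw2 hw3 hw4 hw5 hs01 hs02 hs03 hs04 hs05 hs12 hs13 hs14 hs15 hs23 hs24 hs25 hs34 hs35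 hs45 ha00 ha11 ha22 ha33 ha44 ha55 v0 v1 v2 v3 v4 v5 qn01 qn02 qn03 qn04 qn05 qn12 qn13 qn14 qn15 qn23 qn24 qn25 qn34 qn35 qn45 od1 od2 od3 od4 od5 c02 c03 c04 c05 c12 c13 c14 c15 c23 c24 c25 c34 c35 c45 gw01
  · (have := hm0.out; have := om1.out; have := e0.out; have := r02.out; have := r03.out; have := r04.out; have := r05.out; omega)
  · exact part27 T α02 α03 α04 α05 α12 α13 α14 α15 α20 α21 α23 α24 α25 α30 α31 α32 α34 α35 α40 α41 α42 α43 α45 α50 α51 α52 α53 α54 x02 x03 x04 x05 x12 x13 x14 x15 x20 x21 x23 x24 x25 x30 x31 x32 x34 x35 x40 x41 x42 x43 x45 x50 x51 x52 x53 x54 q02 q03 q04 q05 q12 q13 q14 q15 q23 q24 q25 q34 q35 q45 hm0 hm1 hm2 hm3 hm4 hm5 om1 om2 om3 om4 om5 e0 e1 e2 e3 e4 e5 r01 r02 r03 r04 r05 r10 r12 r13 r14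 r15 r20 r21 r23 r24 r25 r30 r31 r32 r34 r35 r40 r41 r42 r43 r45 r50 r51 r52 r53 r54 hw0 hw1 hw2 hw3 hw4 hw5 hs01 hs02 hs03 hs04 hs05 hs12 hs13 hs14 hs15 hs23 hs24 hs25 hs34 hs35 hs45 ha00 ha11 ha22 ha33 ha44 ha55 v0 v1 v2 v3 v4 v5 qn01 qn02 qn03 qn04 qn05 qn12 qn13 qn14 qn15 qn23 qn24 qn25 qn34 qn35 qn45 od1 od2 od3 od4 od5 c02 c03 c04 c05 c12 c13 c14 c15 c23 c24 c25 c34 c35 c45 gw01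
  · (have := hm0.out; have := om1.out; have := e0.out; have := r02.out; have := r03.out; have := r04.out; have := r05.out; omega)
  · exact part28 T α02 α03 α04 α05 α12 α13 α14 α15 α20 α21 α23 α24 α25 α30 α31 α32 α34 α35 α40 α41 α42 α43 α45 α50 α51 α52 α53 α54 x02 x03 x04 x05 x12 x13 x14 x15 x20 x21 x23 x24 x25 x30 x31 x32 x34 x35 x40 x41 x42 x43 x45 x50 x51 x52 x53 x54 q02 q03 q04 q05 q12 q13 q14 q15 q23 q24 q25 q34 q35 q45 hm0 hm1 hm2 hm3 hm4 hm5 om1 om2 om3 om4 om5 e0 e1 e2 e3 e4 e5 r01 r02 r03 r04 r05 r10 r12 r13 r14 r15 r20 r21 r23 r24 r25 r30 r31 r32 r34 r35 r40 r41 r42 r43 r45 r50 r51 r52 r53 r54 hw0 hw1 hw2 hw3 hw4 hw5 hs01 hs02 hs03 hs04 hs05 hs12 hs13 hs14 hs15 hs23 hs24 hs25 hs34 hs35 hs45 ha00 ha11 ha22 ha33 ha44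 ha55 v0 v1 v2 v3 v4 v5 qn01 qn02 qn03 qn04 qn05 qn12 qn13 qn14 qn15 qn23 qn24 qn25 qn34 qn35 qn45 od1 od2 od3 od4 od5 c02 c03 c04 c05 c12 c13 c14 c15 c23 c24 c25 c34 c35 c45 gw01

end Groth.Agent.Lib.helper20.G1n6
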