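import Mathlib
import Groth.Prelude.Def_Models

set_option autoImplicit false
set_option linter.unusedTactic false
set_option linter.unreachableTactic false
open Finset
open Models Models.NumericalType

namespace Groth.Agent.Lib.helper20.G1n7

/-- an opaque wrapper hiding a hypothesis from `omega` -/
def Hide (P : Prop) : Prop := P

theorem Hide.out {P : Prop} (h : Hide P) : P := h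

theorem Hide.intro {P : Prop} (h : P) : Hide P := h

theorem pair_cases (α β p q : ℤ) (hp : 0 < p) (hq : 0 < q) (hα : 0 ≤ α) (hβ : 0 ≤ β)
    (h : p * α = q * β) (hb : α * β ≤ 4) :
    (α = 0 ∧ β = 0) ∨ (α = 1 ∧ β = 1) ∨ (α = 1 ∧ β = 2) ∨ (α = 2 ∧ β = 1) ∨ (α = 1 ∧ β = 3) ∨
      (α = 3 ∧ β = 1) ∨ (α = 1 ∧ β = 4) ∨ (α = 4 ∧ β = 1) ∨ (α = 2 ∧ β = 2) := by
  have ub : ∀ (x y p q : ℤ), 0 < p → 0 < q → 0 ≤ x → 0 ≤ y → p * x = q * y → x * y ≤ 4 → x ≤ 4 := by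
    intro x y p q hp hq hx hy h1 h2
    by_contra hcon
    have hx5 : 5 ≤ x := by omega
    rcases eq_or_lt_of_le hy with h0 | hpos
    · rw [← h0, mul_zero] at h1
      rcases mul_eq_zero.1 h1 with h' | h'
      · omega
      · omega
    · nlinarith
  have u1 := ub α β p q hp hq hα hβ h hb
  have u2 := ub β α q p hq hp hβ hα h.symm (by rw [mul_comm]; exact hb)
  interval_cases α <;> interval_cases β <;> omega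

theorem bnd (x y p q : ℤ) (hp : 0 < p) (hq : 0 < q) (hx : 0 ≤ x) (hy : 0 ≤ y)
    (h1 : x * q ≤ 2 * p) (h2 : y * p ≤ 2 * q) : x * y ≤ 4 := by
  by_contra hcon
  have h3 : (x * q) * (y * p) ≤ (2 * p) * (2 * q) :=
    mul_le_mul h1 h2 (mul_nonneg hy hp.le) (by positivity)
  have h4 : 0 < p * q := mul_pos hp hq
  nlinarith

theorem pc0 {P0 P1 P2 P3 P4 P5 P6 P7 P8 : Prop} (q : ℤ) (c : (P0 ∧ q = 0) ∨ (P1 ∧ q = 1) ∨ (P2 ∧ q = 2) ∨ (P3 ∧ q = 2) ∨ (P4 ∧ q = 3) ∨ (P5 ∧ q = 3) ∨ (P6 ∧ q = 4) ∨ (P7 ∧ q = 4) ∨ (P8 ∧ q = 4)) (hb : q ≤ 0) :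
    (P0 ∧ q = 0) := by
  rcases c with h | h | h | h | h | h | h | h | h
  · exact h
  · exact absurd h.2 (by omega)
  · exact absurd h.2 (by omega)
  · exact absurd h.2 (by omega)
  · exact absurd h.2 (by omega)
  · exact absurd h.2 (by omega)
  · exact absurd h.2 (by omega)
  · exact absurd h.2 (by omega)
  · exact absurd h.2 (by omega)

theorem pc1 {P0 P1 P2 P3 P4 P5 P6 P7 P8 : Prop} (q : ℤ) (c : (P0 ∧ q = 0) ∨ (P1 ∧ q = 1) ∨ (P2 ∧ q = 2) ∨ (P3 ∧ q = 2) ∨ (P4 ∧ q = 3) ∨ (P5 ∧ q = 3) ∨ (P6 ∧ q = 4) ∨ (P7 ∧ q = 4) ∨ (P8 ∧ q = 4)) (hb : q ≤ 1) :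
    (P0 ∧ q = 0) ∨ (P1 ∧ q = 1) := by
  rcases c with h | h | h | h | h | h | h | h | h
  · exact Or.inl h
  · exact Or.inr h
  · exact absurd h.2 (by omega)
  · exact absurd h.2 (by omega)
  · exact absurd h.2 (by omega)
  · exact absurd h.2 (by omega)
  · exact absurd h.2 (by omega)
  · exact absurd h.2 (by omega)
  · exact absurd h.2 (by omega)

theorem pc2 {P0 P1 P2 P3 P4 P5 P6 P7 P8 : Prop} (q : ℤ) (c : (P0 ∧ q = 0) ∨ (P1 ∧ q = 1) ∨ (P2 ∧ q = 2) ∨ (P3 ∧ q = 2) ∨ (P4 ∧ q = 3) ∨ (P5 ∧ q = 3) ∨ (P6 ∧ q = 4) ∨ (P7 ∧ q = 4) ∨ (P8 ∧ q = 4)) (hb : q ≤ 2) :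
    (P0 ∧ q = 0) ∨ (P1 ∧ q = 1) ∨ (P2 ∧ q = 2) ∨ (P3 ∧ q = 2) := by
  rcases c with h | h | h | h | h | h | h | h | h
  · exact Or.inl h
  · exact Or.inr (Or.inl h)
  · exact Or.inr (Or.inr (Or.inl h))
  · exact Or.inr (Or.inr (Or.inr h))
  · exact absurd h.2 (by omega)
  · exact absurd h.2 (by omega)
  · exact absurd h.2 (by omega)
  · exact absurd h.2 (by omega)
  · exact absurd h.2 (by omega)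

theorem pc3 {P0 P1 P2 P3 P4 P5 P6 P7 P8 : Prop} (q : ℤ) (c : (P0 ∧ q = 0) ∨ (P1 ∧ q = 1) ∨ (P2 ∧ q = 2) ∨ (P3 ∧ q = 2) ∨ (P4 ∧ q = 3) ∨ (P5 ∧ q = 3) ∨ (P6 ∧ q = 4) ∨ (P7 ∧ q = 4) ∨ (P8 ∧ q = 4)) (hb : q ≤ 3) :
    (P0 ∧ q = 0) ∨ (P1 ∧ q = 1) ∨ (P2 ∧ q = 2) ∨ (P3 ∧ q = 2) ∨ (P4 ∧ q = 3) ∨ (P5 ∧ q = 3) := by
  rcases c with h | h | h | h | h | h | h | h | h
  · exact Or.inl h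
  · exact Or.inr (Or.inl h)
  · exact Or.inr (Or.inr (Or.inl h))
  · exact Or.inr (Or.inr (Or.inr (Or.inl h)))
  · exact Or.inr (Or.inr (Or.inr (Or.inr (Or.inl h))))
  · exact Or.inr (Or.inr (Or.inr (Or.inr (Or.inr h))))
  · exact absurd h.2 (by omega)
  · exact absurd h.2 (by omega)
  · exact absurd h.2 (by omega)

theorem pair_opts (α β mi mj wi wj x y aij aji q : ℤ)
    (hpc : (α = 0 ∧ β = 0) ∨ (α = 1 ∧ β = 1) ∨ (α = 1 ∧ β = 2) ∨ (α = 2 ∧ β = 1) ∨ (α = 1 ∧ β = 3) ∨ (α = 3 ∧ β = 1) ∨ (α = 1 ∧ β = 4) ∨ (α = 4 ∧ β = 1) ∨ (α = 2 ∧ β = 2))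
    (hx : x = α * mj) (hy : y = β * mi) (ha : aij = wi * α) (hb : aji = wj * β) (hq : q = α * β) :
    ((Hide (x = 0 ∧ y = 0) ∧ Hide (aij = 0 ∧ aji = 0) ∧ Hide (α = 0 ∧ β = 0)) ∧ q = 0) ∨ ((Hide (x = mj ∧ y = mi) ∧ Hide (aij = wi ∧ aji = wj) ∧ Hide (α = 1 ∧ β = 1)) ∧ q = 1) ∨ ((Hide (x = mj ∧ y = 2 * mi) ∧ Hide (aij = wi ∧ aji = 2 * wj) ∧ Hide (α = 1 ∧ β = 2)) ∧ q = 2) ∨ ((Hide (x = 2 * mj ∧ y = mi) ∧ Hide (aij = 2 * wi ∧ aji = wj) ∧ Hide (α = 2 ∧ β = 1)) ∧ q = 2) ∨ ((Hide (x = mj ∧ y = 3 * mi) ∧ Hide (aij = wi ∧ aji = 3 * wj) ∧ Hide (α = 1 ∧ β = 3)) ∧ q = 3) ∨ ((Hide (x = 3 * mj ∧ y = mi) ∧ Hide (aij = 3 * wi ∧ aji = wj) ∧ Hide (α = 3 ∧ β = 1)) ∧ q = 3) ∨ ((Hide (x = mj ∧ y = 4 * mi) ∧ Hide (aij = wi ∧ aji = 4 * wj) ∧ Hide (α = 1 ∧ β = 4))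 ∧ q = 4) ∨ ((Hide (x = 4 * mj ∧ y = mi) ∧ Hide (aij = 4 * wi ∧ aji = wj) ∧ Hide (α = 4 ∧ β = 1)) ∧ q = 4) ∨ ((Hide (x = 2 * mj ∧ y = 2 * mi) ∧ Hide (aij = 2 * wi ∧ aji = 2 * wj) ∧ Hide (α = 2 ∧ β = 2)) ∧ q = 4) := by
  rcases hpc with ⟨e1, e2⟩ | ⟨e1, e2⟩ | ⟨e1, e2⟩ | ⟨e1, e2⟩ | ⟨e1, e2⟩ | ⟨e1, e2⟩ | ⟨e1, e2⟩ | ⟨e1, e2⟩ | ⟨e1, e2⟩
  · exact Or.inl ⟨⟨Hide.intro ⟨by rw [hx, e1]; first | done | ring, by rw [hy, e2]; first | done | ring⟩, Hide.intro ⟨by rw [ha, e1]; first | done | ring, by rw [hb, e2]; first | done | ring⟩, Hide.intro ⟨e1, e2⟩⟩, by rw [hq, e1, e2]; first | done | norm_num⟩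
  · exact Or.inr (Or.inl ⟨⟨Hide.intro ⟨by rw [hx, e1]; first | done | ring, by rw [hy, e2]; first | done | ring⟩, Hide.intro ⟨by rw [ha, e1]; first | done | ring, by rw [hb, e2]; first | done | ring⟩, Hide.intro ⟨e1, e2⟩⟩, by rw [hq, e1, e2]; first | done | norm_num⟩)
  · exact Or.inr (Or.inr (Or.inl ⟨⟨Hide.intro ⟨by rw [hx, e1]; first | done | ring, by rw [hy, e2]; first | done | ring⟩, Hide.intro ⟨by rw [ha, e1]; first | done | ring, by rw [hb, e2]; first | done | ring⟩, Hide.intro ⟨e1, e2⟩⟩, by rw [hq, e1, e2]; first | done | norm_num⟩))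
  · exact Or.inr (Or.inr (Or.inr (Or.inl ⟨⟨Hide.intro ⟨by rw [hx, e1]; first | done | ring, by rw [hy, e2]; first | done | ring⟩, Hide.intro ⟨by rw [ha, e1]; first | done | ring, by rw [hb, e2]; first | done | ring⟩, Hide.intro ⟨e1, e2⟩⟩, by rw [hq, e1, e2]; first | done | norm_num⟩)))
  · exact Or.inr (Or.inr (Or.inr (Or.inr (Or.inl ⟨⟨Hide.intro ⟨by rw [hx, e1]; first | done | ring, by rw [hy, e2]; first | done | ring⟩, Hide.intro ⟨by rw [ha, e1]; first | done | ring, by rw [hb, e2]; first | done | ring⟩, Hide.intro ⟨e1, e2⟩⟩, by rw [hq, e1, e2]; first | done | norm_num⟩))))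
  · exact Or.inr (Or.inr (Or.inr (Or.inr (Or.inr (Or.inl ⟨⟨Hide.intro ⟨by rw [hx, e1]; first | done | ring, by rw [hy, e2]; first | done | ring⟩, Hide.intro ⟨by rw [ha, e1]; first | done | ring, by rw [hb, e2]; first | done | ring⟩, Hide.intro ⟨e1, e2⟩⟩, by rw [hq, e1, e2]; first | done | norm_num⟩)))))
  · exact Or.inr (Or.inr (Or.inr (Or.inr (Or.inr (Or.inr (Or.inl ⟨⟨Hide.intro ⟨by rw [hx, e1]; first | done | ring, by rw [hy, e2]; first | done | ring⟩, Hide.intro ⟨by rw [ha, e1]; first | done | ring, by rw [hb, e2]; first | done | ring⟩, Hide.intro ⟨e1, e2⟩⟩, by rw [hq, e1, e2]; first | done | norm_num⟩))))))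
  · exact Or.inr (Or.inr (Or.inr (Or.inr (Or.inr (Or.inr (Or.inr (Or.inl ⟨⟨Hide.intro ⟨by rw [hx, e1]; first | done | ring, by rw [hy, e2]; first | done | ring⟩, Hide.intro ⟨by rw [ha, e1]; first | done | ring, by rw [hb, e2]; first | done | ring⟩, Hide.intro ⟨e1, e2⟩⟩, by rw [hq, e1, e2]; first | done | norm_num⟩)))))))
  · exact Or.inr (Or.inr (Or.inr (Or.inr (Or.inr (Or.inr (Or.inr (Or.inr ⟨⟨Hide.intro ⟨by rw [hx, e1]; first | done | ring, by rw [hy, e2]; first | done | ring⟩, Hide.intro ⟨by rw [ha, e1]; first | done | ring, by rw [hb, e2]; first | done | ring⟩, Hide.intro ⟨e1, e2⟩⟩, by rw [hq, e1, e2]; first | done | norm_num⟩)))))))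

theorem vsum (m0 m1 m2 m3 m4 m5 m6 x1 x2 x3 x4 x5 x6 y1 y2 y3 y4 y5 y6 : ℤ) (hm0 : 0 < m0)
    (hx1 : 0 ≤ x1) (hx2 : 0 ≤ x2) (hx3 : 0 ≤ x3) (hx4 : 0 ≤ x4) (hx5 : 0 ≤ x5) (hx6 : 0 ≤ x6)
    (e0 : x1 * m1 + x2 * m2 + x3 * m3 + x4 * m4 + x5 * m5 + x6 * m6 = 2 * m0)
    (h1 : y1 * m0 ≤ 2 * m1) (h2 : y2 * m0 ≤ 2 * m2) (h3 : y3 * m0 ≤ 2 * m3) (h4 : y4 * m0 ≤ 2 * m4) (h5 : y5 * m0 ≤ 2 * m5) (h6 : y6 * m0 ≤ 2 * m6) :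
    x1 * y1 + x2 * y2 + x3 * y3 + x4 * y4 + x5 * y5 + x6 * y6 ≤ 4 := by
  have k1 := mul_le_mul_of_nonneg_left h1 hx1
  have k2 := mul_le_mul_of_nonneg_left h2 hx2
  have k3 := mul_le_mul_of_nonneg_left h3 hx3
  have k4 := mul_le_mul_of_nonneg_left h4 hx4
  have k5 := mul_le_mul_of_nonneg_left h5 hx5
  have k6 := mul_le_mul_of_nonneg_left h6 hx6
  have : (x1 * y1 + x2 * y2 + x3 * y3 + x4 * y4 + x5 * y5 + x6 * y6) * m0 ≤ 4 * m0 := by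
    calc (x1 * y1 + x2 * y2 + x3 * y3 + x4 * y4 + x5 * y5 + x6 * y6) * m0 = x1 * (y1 * m0) + x2 * (y2 * m0) + x3 * (y3 * m0) + x4 * (y4 * m0) + x5 * (y5 * m0) + x6 * (y6 * m0) := by ring
      _ ≤ x1 * (2 * m1) + x2 * (2 * m2) + x3 * (2 * m3) + x4 * (2 * m4) + x5 * (2 * m5) + x6 * (2 * m6) := by linarith [k1, k2, k3, k4, k5, k6]
      _ = 2 * (x1 * m1 + x2 * m2 + x3 * m3 + x4 * m4 + x5 * m5 + x6 * m6) := by ring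
      _ = 4 * m0 := by rw [e0]; ring
  exact le_of_mul_le_mul_right this hm0

def p0123456 : Equiv.Perm (Fin 7) := ⟨![0,1,2,3,4,5,6], ![0,1,2,3,4,5,6], by decide, by decide⟩
def p0123465 : Equiv.Perm (Fin 7) := ⟨![0,1,2,3,4,6,5], ![0,1,2,3,4,6,5], by decide, by decide⟩
def p0123564 : Equiv.Perm (Fin 7) := ⟨![0,1,2,3,5,6,4], ![0,1,2,3,6,4,5], by decide, by decide⟩
def p0123654 : Equiv.Perm (Fin 7) := ⟨![0,1,2,3,6,5,4], ![0,1,2,3,6,5,4], by decide, by decide⟩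
def p0124365 : Equiv.Perm (Fin 7) := ⟨![0,1,2,4,3,6,5], ![0,1,2,4,3,6,5], by decide, by decide⟩
def p0124563 : Equiv.Perm (Fin 7) := ⟨![0,1,2,4,5,6,3], ![0,1,2,6,3,4,5], by decide, by decide⟩
def p0124653 : Equiv.Perm (Fin 7) := ⟨![0,1,2,4,6,5,3], ![0,1,2,6,3,5,4], by decide, by decide⟩
def p0125364 : Equiv.Perm (Fin 7) := ⟨![0,1,2,5,3,6,4], ![0,1,2,4,6,3,5], by decide, by decide⟩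
def p0125463 : Equiv.Perm (Fin 7) := ⟨![0,1,2,5,4,6,3], ![0,1,2,6,4,3,5], by decide, by decide⟩
def p0125643 : Equiv.Perm (Fin 7) := ⟨![0,1,2,5,6,4,3], ![0,1,2,6,5,3,4], by decide, by decide⟩
def p0126543 : Equiv.Perm (Fin 7) := ⟨![0,1,2,6,5,4,3], ![0,1,2,6,5,4,3], by decide, by decide⟩
def p0134562 : Equiv.Perm (Fin 7) := ⟨![0,1,3,4,5,6,2], ![0,1,6,2,3,4,5], by decide, by decide⟩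
def p0134652 : Equiv.Perm (Fin 7) := ⟨![0,1,3,4,6,5,2], ![0,1,6,2,3,5,4], by decide, by decide⟩
def p0135642 : Equiv.Perm (Fin 7) := ⟨![0,1,3,5,6,4,2], ![0,1,6,2,5,3,4], by decide, by decide⟩
def p0136542 : Equiv.Perm (Fin 7) := ⟨![0,1,3,6,5,4,2], ![0,1,6,2,5,4,3], by decide, by decide⟩
def p0145632 : Equiv.Perm (Fin 7) := ⟨![0,1,4,5,6,3,2], ![0,1,6,5,2,3,4], by decide, by decide⟩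
def p0146532 : Equiv.Perm (Fin 7) := ⟨![0,1,4,6,5,3,2], ![0,1,6,5,2,4,3], by decide, by decide⟩
def p0156432 : Equiv.Perm (Fin 7) := ⟨![0,1,5,6,4,3,2], ![0,1,6,5,4,2,3], by decide, by decide⟩
def p0165432 : Equiv.Perm (Fin 7) := ⟨![0,1,6,5,4,3,2], ![0,1,6,5,4,3,2], by decide, by decide⟩
def p0213456 : Equiv.Perm (Fin 7) := ⟨![0,2,1,3,4,5,6], ![0,2,1,3,4,5,6], by decide, by decide⟩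
def p0312456 : Equiv.Perm (Fin 7) := ⟨![0,3,1,2,4,5,6], ![0,2,3,1,4,5,6], by decide, by decide⟩
def p0412356 : Equiv.Perm (Fin 7) := ⟨![0,4,1,2,3,5,6], ![0,2,3,4,1,5,6], by decide, by decide⟩
def p0512346 : Equiv.Perm (Fin 7) := ⟨![0,5,1,2,3,4,6], ![0,2,3,4,5,1,6], by decide, by decide⟩
def p0612345 : Equiv.Perm (Fin 7) := ⟨![0,6,1,2,3,4,5], ![0,2,3,4,5,6,1], by decide, by decide⟩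
def p1023456 : Equiv.Perm (Fin 7) := ⟨![1,0,2,3,4,5,6], ![1,0,2,3,4,5,6], by decide, by decide⟩
def p2013456 : Equiv.Perm (Fin 7) := ⟨![2,0,1,3,4,5,6], ![1,2,0,3,4,5,6], by decide, by decide⟩
def p2103456 : Equiv.Perm (Fin 7) := ⟨![2,1,0,3,4,5,6], ![2,1,0,3,4,5,6], by decide, by decide⟩
def p3012456 : Equiv.Perm (Fin 7) := ⟨![3,0,1,2,4,5,6], ![1,2,3,0,4,5,6], by decide, by decide⟩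
def p3102456 : Equiv.Perm (Fin 7) := ⟨![3,1,0,2,4,5,6], ![2,1,3,0,4,5,6], by decide, by decide⟩
def p3201456 : Equiv.Perm (Fin 7) := ⟨![3,2,0,1,4,5,6], ![2,3,1,0,4,5,6], by decide, by decide⟩
def p3210456 : Equiv.Perm (Fin 7) := ⟨![3,2,1,0,4,5,6], ![3,2,1,0,4,5,6], by decide, by decide⟩
def p4012356 : Equiv.Perm (Fin 7) := ⟨![4,0,1,2,3,5,6], ![1,2,3,4,0,5,6], by decide, by decide⟩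
def p4102356 : Equiv.Perm (Fin 7) := ⟨![4,1,0,2,3,5,6], ![2,1,3,4,0,5,6], by decide, by decide⟩
def p4201356 : Equiv.Perm (Fin 7) := ⟨![4,2,0,1,3,5,6], ![2,3,1,4,0,5,6], by decide, by decide⟩
def p4210356 : Equiv.Perm (Fin 7) := ⟨![4,2,1,0,3,5,6], ![3,2,1,4,0,5,6], by decide, by decide⟩
def p4301256 : Equiv.Perm (Fin 7) := ⟨![4,3,0,1,2,5,6], ![2,3,4,1,0,5,6], by decide, by decide⟩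
def p4310256 : Equiv.Perm (Fin 7) := ⟨![4,3,1,0,2,5,6], ![3,2,4,1,0,5,6], by decide, by decide⟩
def p4320156 : Equiv.Perm (Fin 7) := ⟨![4,3,2,0,1,5,6], ![3,4,2,1,0,5,6], by decide, by decide⟩
def p4321056 : Equiv.Perm (Fin 7) := ⟨![4,3,2,1,0,5,6], ![4,3,2,1,0,5,6], by decide, by decide⟩
def p5012346 : Equiv.Perm (Fin 7) := ⟨![5,0,1,2,3,4,6], ![1,2,3,4,5,0,6], by decide, by decide⟩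
def p5102346 : Equiv.Perm (Fin 7) := ⟨![5,1,0,2,3,4,6], ![2,1,3,4,5,0,6], by decide, by decide⟩
def p5201346 : Equiv.Perm (Fin 7) := ⟨![5,2,0,1,3,4,6], ![2,3,1,4,5,0,6], by decide, by decide⟩
def p5210346 : Equiv.Perm (Fin 7) := ⟨![5,2,1,0,3,4,6], ![3,2,1,4,5,0,6], by decide, by decide⟩
def p5301246 : Equiv.Perm (Fin 7) := ⟨![5,3,0,1,2,4,6], ![2,3,4,1,5,0,6], by decide, by decide⟩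
def p5310246 : Equiv.Perm (Fin 7) := ⟨![5,3,1,0,2,4,6], ![3,2,4,1,5,0,6], by decide, by decide⟩
def p5320146 : Equiv.Perm (Fin 7) := ⟨![5,3,2,0,1,4,6], ![3,4,2,1,5,0,6], by decide, by decide⟩
def p5321046 : Equiv.Perm (Fin 7) := ⟨![5,3,2,1,0,4,6], ![4,3,2,1,5,0,6], by decide, by decide⟩
def p5401236 : Equiv.Perm (Fin 7) := ⟨![5,4,0,1,2,3,6], ![2,3,4,5,1,0,6], by decide, by decide⟩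
def p5410236 : Equiv.Perm (Fin 7) := ⟨![5,4,1,0,2,3,6], ![3,2,4,5,1,0,6], by decide, by decide⟩
def p5420136 : Equiv.Perm (Fin 7) := ⟨![5,4,2,0,1,3,6], ![3,4,2,5,1,0,6], by decide, by decide⟩
def p5421036 : Equiv.Perm (Fin 7) := ⟨![5,4,2,1,0,3,6], ![4,3,2,5,1,0,6], by decide, by decide⟩
def p5430126 : Equiv.Perm (Fin 7) := ⟨![5,4,3,0,1,2,6], ![3,4,5,2,1,0,6], by decide, by decide⟩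
def p5431026 : Equiv.Perm (Fin 7) := ⟨![5,4,3,1,0,2,6], ![4,3,5,2,1,0,6], by decide, by decide⟩
def p5432016 : Equiv.Perm (Fin 7) := ⟨![5,4,3,2,0,1,6], ![4,5,3,2,1,0,6], by decide, by decide⟩
def p5432106 : Equiv.Perm (Fin 7) := ⟨![5,4,3,2,1,0,6], ![5,4,3,2,1,0,6], by decide, by decide⟩
def p6432105 : Equiv.Perm (Fin 7) := ⟨![6,4,3,2,1,0,5], ![5,4,3,2,1,6,0], by decide, by decide⟩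
def p6532104 : Equiv.Perm (Fin 7) := ⟨![6,5,3,2,1,0,4], ![5,4,3,2,6,1,0], by decide, by decide⟩
def p6542103 : Equiv.Perm (Fin 7) := ⟨![6,5,4,2,1,0,3], ![5,4,3,6,2,1,0], by decide, by decide⟩
def p6543102 : Equiv.Perm (Fin 7) := ⟨![6,5,4,3,1,0,2], ![5,4,6,3,2,1,0], by decide, by decide⟩
def p6543210 : Equiv.Perm (Fin 7) := ⟨![6,5,4,3,2,1,0], ![6,5,4,3,2,1,0], by decide, by decide⟩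

/-- the list of types -/
@[reducible] def Goal (T : Models.NumericalType 7) : Prop :=
  ∃ (σ : Equiv.Perm (Fin 7)) (m w : ℤ),
      ((T.m (σ 0) = m ∧ T.m (σ 1) = m ∧ T.m (σ 2) = m ∧ T.m (σ 3) = m ∧ T.m (σ 4) = m ∧ T.m (σ 5) = m ∧ T.m (σ 6) = m ∧ T.w (σ 0) = w ∧ T.w (σ 1) = w ∧ T.w (σ 2) = w ∧ T.w (σ 3) = w ∧ T.w (σ 4) = w ∧ T.w (σ 5) = w ∧ T.w (σ 6) = w ∧ T.a (σ 0) (σ 0) = -2 * w ∧ T.a (σ 0) (σ 1) = w ∧ T.a (σ 0) (σ 2) = 0 ∧ T.a (σ 0) (σ 3) = 0 ∧ T.a (σ 0) (σ 4) = 0 ∧ T.a (σ 0) (σ 5) = 0 ∧ T.a (σ 0) (σ 6) = w ∧ T.a (σ 1) (σ 1) = -2 * w ∧ T.a (σ 1) (σ 2) = w ∧ T.a (σ 1) (σ 3) = 0 ∧ T.a (σ 1) (σ 4) = 0 ∧ T.a (σ 1) (σ 5) = 0 ∧ T.a (σ 1) (σ 6) = 0 ∧ T.a (σ 2) (σ 2) = -2 * w ∧ T.a (σ 2) (σ 3) = w ∧ T.a (σ 2) (σ 4) = 0 ∧ T.a (σ 2) (σ 5) = 0 ∧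 T.a (σ 2) (σ 6) = 0 ∧ T.a (σ 3) (σ 3) = -2 * w ∧ T.a (σ 3) (σ 4) = w ∧ T.a (σ 3) (σ 5) = 0 ∧ T.a (σ 3) (σ 6) = 0 ∧ T.a (σ 4) (σ 4) = -2 * w ∧ T.a (σ 4) (σ 5) = w ∧ T.a (σ 4) (σ 6) = 0 ∧ T.a (σ 5) (σ 5) = -2 * w ∧ T.a (σ 5) (σ 6) = w ∧ T.a (σ 6) (σ 6) = -2 * w) ∨
      (T.m (σ 0) = 2 * m ∧ T.m (σ 1) = 2 * m ∧ T.m (σ 2) = 2 * m ∧ T.m (σ 3) = 2 * m ∧ T.m (σ 4) = 2 * m ∧ T.m (σ 5) = 2 * m ∧ T.m (σ 6) = m ∧ T.w (σ 0) = w ∧ T.w (σ 1) = 2 * w ∧ T.w (σ 2) = 2 * w ∧ T.w (σ 3) = 2 * w ∧ T.w (σ 4) = 2 * w ∧ T.w (σ 5) = 2 * w ∧ T.w (σ 6) = 4 * w ∧ T.a (σ 0) (σ 0) = -2 * w ∧ T.a (σ 0) (σ 1) = 2 * w ∧ T.a (σ 0) (σ 2) = 0 ∧ T.a (σ 0) (σ 3) = 0 ∧ T.a (σ 0) (σ 4) = 0 ∧ T.a (σ 0) (σ 5) = 0 ∧ T.a (σ 0) (σ 6) = 0 ∧ T.a (σ 1) (σ 1) = -4 * w ∧ T.a (σ 1) (σ 2)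 = 2 * w ∧ T.a (σ 1) (σ 3) = 0 ∧ T.a (σ 1) (σ 4) = 0 ∧ T.a (σ 1) (σ 5) = 0 ∧ T.a (σ 1) (σ 6) = 0 ∧ T.a (σ 2) (σ 2) = -4 * w ∧ T.a (σ 2) (σ 3) = 2 * w ∧ T.a (σ 2) (σ 4) = 0 ∧ T.a (σ 2) (σ 5) = 0 ∧ T.a (σ 2) (σ 6) = 0 ∧ T.a (σ 3) (σ 3) = -4 * w ∧ T.a (σ 3) (σ 4) = 2 * w ∧ T.a (σ 3) (σ 5) = 0 ∧ T.a (σ 3) (σ 6) = 0 ∧ T.a (σ 4) (σ 4) = -4 * w ∧ T.a (σ 4) (σ 5) = 2 * w ∧ T.a (σ 4) (σ 6) = 0 ∧ T.a (σ 5) (σ 5) = -4 * w ∧ T.a (σ 5) (σ 6) = 4 * w ∧ T.a (σ 6) (σ 6) = -8 * w) ∨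
      (T.m (σ 0) = m ∧ T.m (σ 1) = m ∧ T.m (σ 2) = m ∧ T.m (σ 3) = m ∧ T.m (σ 4) = m ∧ T.m (σ 5) = m ∧ T.m (σ 6) = m ∧ T.w (σ 0) = w ∧ T.w (σ 1) = 2 * w ∧ T.w (σ 2) = 2 * w ∧ T.w (σ 3) = 2 * w ∧ T.w (σ 4) = 2 * w ∧ T.w (σ 5) = 2 * w ∧ T.w (σ 6) = w ∧ T.a (σ 0) (σ 0) = -2 * w ∧ T.a (σ 0) (σ 1) = 2 * w ∧ T.a (σ 0) (σ 2) = 0 ∧ T.a (σ 0) (σ 3) = 0 ∧ T.a (σ 0) (σ 4) = 0 ∧ T.a (σ 0) (σ 5) = 0 ∧ T.a (σ 0) (σ 6) = 0 ∧ T.a (σ 1) (σ 1) = -4 * w ∧ T.a (σ 1) (σ 2) = 2 * w ∧ T.a (σ 1) (σ 3) = 0 ∧ T.a (σ 1) (σ 4) = 0 ∧ T.a (σ 1) (σ 5) = 0 ∧ T.a (σ 1) (σ 6) = 0 ∧ T.a (σ 2) (σ 2) = -4 * w ∧ T.a (σ 2) (σ 3) = 2 * w ∧ T.a (σ 2) (σ 4) = 0 ∧ T.a (σ 2) (σ 5) = 0 ∧ T.a (σ 2) (σ 6) = 0 ∧ T.a (σ 3) (σ 3) = -4 * w ∧ T.a (σ 3) (σ 4) = 2 * w ∧ T.a (σ 3) (σ 5) = 0 ∧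 T.a (σ 3) (σ 6) = 0 ∧ T.a (σ 4) (σ 4) = -4 * w ∧ T.a (σ 4) (σ 5) = 2 * w ∧ T.a (σ 4) (σ 6) = 0 ∧ T.a (σ 5) (σ 5) = -4 * w ∧ T.a (σ 5) (σ 6) = 2 * w ∧ T.a (σ 6) (σ 6) = -2 * w) ∨
      (T.m (σ 0) = m ∧ T.m (σ 1) = 2 * m ∧ T.m (σ 2) = 2 * m ∧ T.m (σ 3) = 2 * m ∧ T.m (σ 4) = 2 * m ∧ T.m (σ 5) = 2 * m ∧ T.m (σ 6) = m ∧ T.w (σ 0) = 2 * w ∧ T.w (σ 1) = w ∧ T.w (σ 2) = w ∧ T.w (σ 3) = w ∧ T.w (σ 4) = w ∧ T.w (σ 5) = w ∧ T.w (σ 6) = 2 * w ∧ T.a (σ 0) (σ 0) = -4 * w ∧ T.a (σ 0) (σ 1) = 2 * w ∧ T.a (σ 0) (σ 2) = 0 ∧ T.a (σ 0) (σ 3) = 0 ∧ T.a (σ 0) (σ 4) = 0 ∧ T.a (σ 0) (σ 5) = 0 ∧ T.a (σ 0) (σ 6) = 0 ∧ T.a (σ 1) (σ 1) = -2 * w ∧ T.a (σ 1) (σ 2) = w ∧ T.a (σ 1) (σ 3) = 0 ∧ T.a (σ 1) (σ 4) = 0 ∧ T.a (σ 1) (σ 5) = 0 ∧ T.a (σ 1) (σ 6) = 0 ∧ T.a (σ 2) (σ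 2) = -2 * w ∧ T.a (σ 2) (σ 3) = w ∧ T.a (σ 2) (σ 4) = 0 ∧ T.a (σ 2) (σ 5) = 0 ∧ T.a (σ 2) (σ 6) = 0 ∧ T.a (σ 3) (σ 3) = -2 * w ∧ T.a (σ 3) (σ 4) = w ∧ T.a (σ 3) (σ 5) = 0 ∧ T.a (σ 3) (σ 6) = 0 ∧ T.a (σ 4) (σ 4) = -2 * w ∧ T.a (σ 4) (σ 5) = w ∧ T.a (σ 4) (σ 6) = 0 ∧ T.a (σ 5) (σ 5) = -2 * w ∧ T.a (σ 5) (σ 6) = 2 * w ∧ T.a (σ 6) (σ 6) = -4 * w) ∨
      (T.m (σ 0) = m ∧ T.m (σ 1) = 2 * m ∧ T.m (σ 2) = 2 * m ∧ T.m (σ 3) = 2 * m ∧ T.m (σ 4) = 2 * m ∧ T.m (σ 5) = m ∧ T.m (σ 6) = m ∧ T.w (σ 0) = 2 * w ∧ T.w (σ 1) = w ∧ T.w (σ 2) = w ∧ T.w (σ 3) = w ∧ T.w (σ 4) = w ∧ T.w (σ 5) = w ∧ T.w (σ 6) = w ∧ T.a (σ 0) (σ 0) = -4 * w ∧ T.a (σ 0) (σ 1) = 2 * w ∧ T.a (σ 0) (σ 2) = 0 ∧ T.a (σ 0) (σ 3) = 0 ∧ T.a (σ 0) (σ 4) = 0 ∧ T.a (σ 0) (σ 5) = 0 ∧ T.a (σ 0)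 (σ 6) = 0 ∧ T.a (σ 1) (σ 1) = -2 * w ∧ T.a (σ 1) (σ 2) = w ∧ T.a (σ 1) (σ 3) = 0 ∧ T.a (σ 1) (σ 4) = 0 ∧ T.a (σ 1) (σ 5) = 0 ∧ T.a (σ 1) (σ 6) = 0 ∧ T.a (σ 2) (σ 2) = -2 * w ∧ T.a (σ 2) (σ 3) = w ∧ T.a (σ 2) (σ 4) = 0 ∧ T.a (σ 2) (σ 5) = 0 ∧ T.a (σ 2) (σ 6) = 0 ∧ T.a (σ 3) (σ 3) = -2 * w ∧ T.a (σ 3) (σ 4) = w ∧ T.a (σ 3) (σ 5) = 0 ∧ T.a (σ 3) (σ 6) = 0 ∧ T.a (σ 4) (σ 4) = -2 * w ∧ T.a (σ 4) (σ 5) = w ∧ T.a (σ 4) (σ 6) = w ∧ T.a (σ 5) (σ 5) = -2 * w ∧ T.a (σ 5) (σ 6) = 0 ∧ T.a (σ 6) (σ 6) = -2 * w) ∨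
      (T.m (σ 0) = 2 * m ∧ T.m (σ 1) = 2 * m ∧ T.m (σ 2) = 2 * m ∧ T.m (σ 3) = 2 * m ∧ T.m (σ 4) = 2 * m ∧ T.m (σ 5) = m ∧ T.m (σ 6) = m ∧ T.w (σ 0) = w ∧ T.w (σ 1) = 2 * w ∧ T.w (σ 2) = 2 * w ∧ T.w (σ 3) = 2 * w ∧ T.w (σ 4) = 2 * w ∧ T.w (σ 5) = 2 * w ∧ T.w (σ 6) = 2 * w ∧ T.a (σ 0) (σ 0) = -2 * w ∧ T.a (σ 0) (σ 1) = 2 * w ∧ T.a (σ 0) (σ 2) = 0 ∧ T.a (σ 0) (σ 3) = 0 ∧ T.a (σ 0) (σ 4) = 0 ∧ T.a (σ 0) (σ 5) = 0 ∧ T.a (σ 0) (σ 6) = 0 ∧ T.a (σ 1) (σ 1) = -4 * w ∧ T.a (σ 1) (σ 2) = 2 * w ∧ T.a (σ 1) (σ 3) = 0 ∧ T.a (σ 1) (σ 4) = 0 ∧ T.a (σ 1) (σ 5) = 0 ∧ T.a (σ 1) (σ 6) = 0 ∧ T.a (σ 2) (σ 2) = -4 * w ∧ T.a (σ 2) (σ 3) = 2 * w ∧ T.a (σ 2) (σ 4) = 0 ∧ T.a (σ 2) (σ 5) = 0 ∧ T.a (σ 2) (σ 6) = 0 ∧ T.a (σ 3) (σ 3) = -4 * w ∧ T.a (σ 3) (σ 4) = 2 * w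 ∧ T.a (σ 3) (σ 5) = 0 ∧ T.a (σ 3) (σ 6) = 0 ∧ T.a (σ 4) (σ 4) = -4 * w ∧ T.a (σ 4) (σ 5) = 2 * w ∧ T.a (σ 4) (σ 6) = 2 * w ∧ T.a (σ 5) (σ 5) = -4 * w ∧ T.a (σ 5) (σ 6) = 0 ∧ T.a (σ 6) (σ 6) = -4 * w) ∨
      (T.m (σ 0) = m ∧ T.m (σ 1) = m ∧ T.m (σ 2) = 2 * m ∧ T.m (σ 3) = 2 * m ∧ T.m (σ 4) = 2 * m ∧ T.m (σ 5) = m ∧ T.m (σ 6) = m ∧ T.w (σ 0) = w ∧ T.w (σ 1) = w ∧ T.w (σ 2) = w ∧ T.w (σ 3) = w ∧ T.w (σ 4) = w ∧ T.w (σ 5) = w ∧ T.w (σ 6) = w ∧ T.a (σ 0) (σ 0) = -2 * w ∧ T.a (σ 0) (σ 1) = 0 ∧ T.a (σ 0) (σ 2) = w ∧ T.a (σ 0) (σ 3) = 0 ∧ T.a (σ 0) (σ 4) = 0 ∧ T.a (σ 0) (σ 5) = 0 ∧ T.a (σ 0) (σ 6) = 0 ∧ T.a (σ 1) (σ 1) = -2 * w ∧ T.a (σ 1) (σ 2) = w ∧ T.a (σ 1) (σ 3) = 0 ∧ T.a (σ 1) (σ 4) = 0 ∧ T.a (σ 1) (σ 5) = 0 ∧ T.a (σ 1) (σ 6) = 0 ∧ T.a (σ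 2) (σ 2) = -2 * w ∧ T.a (σ 2) (σ 3) = w ∧ T.a (σ 2) (σ 4) = 0 ∧ T.a (σ 2) (σ 5) = 0 ∧ T.a (σ 2) (σ 6) = 0 ∧ T.a (σ 3) (σ 3) = -2 * w ∧ T.a (σ 3) (σ 4) = w ∧ T.a (σ 3) (σ 5) = 0 ∧ T.a (σ 3) (σ 6) = 0 ∧ T.a (σ 4) (σ 4) = -2 * w ∧ T.a (σ 4) (σ 5) = w ∧ T.a (σ 4) (σ 6) = w ∧ T.a (σ 5) (σ 5) = -2 * w ∧ T.a (σ 5) (σ 6) = 0 ∧ T.a (σ 6) (σ 6) = -2 * w) ∨
      (T.m (σ 0) = m ∧ T.m (σ 1) = 2 * m ∧ T.m (σ 2) = 3 * m ∧ T.m (σ 3) = m ∧ T.m (σ 4) = 2 * m ∧ T.m (σ 5) = m ∧ T.m (σ 6) = 2 * m ∧ T.w (σ 0) = w ∧ T.w (σ 1) = w ∧ T.w (σ 2) = w ∧ T.w (σ 3) = w ∧ T.w (σ 4) = w ∧ T.w (σ 5) = w ∧ T.w (σ 6) = w ∧ T.a (σ 0) (σ 0) = -2 * w ∧ T.a (σ 0) (σ 1) = w ∧ T.a (σ 0) (σ 2) = 0 ∧ T.a (σ 0) (σ 3) = 0 ∧ T.a (σ 0) (σ 4) = 0 ∧ T.a (σ 0) (σ 5) = 0 ∧ T.a (σ 0) (σ 6)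 = 0 ∧ T.a (σ 1) (σ 1) = -2 * w ∧ T.a (σ 1) (σ 2) = w ∧ T.a (σ 1) (σ 3) = 0 ∧ T.a (σ 1) (σ 4) = 0 ∧ T.a (σ 1) (σ 5) = 0 ∧ T.a (σ 1) (σ 6) = 0 ∧ T.a (σ 2) (σ 2) = -2 * w ∧ T.a (σ 2) (σ 3) = 0 ∧ T.a (σ 2) (σ 4) = w ∧ T.a (σ 2) (σ 5) = 0 ∧ T.a (σ 2) (σ 6) = w ∧ T.a (σ 3) (σ 3) = -2 * w ∧ T.a (σ 3) (σ 4) = w ∧ T.a (σ 3) (σ 5) = 0 ∧ T.a (σ 3) (σ 6) = 0 ∧ T.a (σ 4) (σ 4) = -2 * w ∧ T.a (σ 4) (σ 5) = 0 ∧ T.a (σ 4) (σ 6) = 0 ∧ T.a (σ 5) (σ 5) = -2 * w ∧ T.a (σ 5) (σ 6) = w ∧ T.a (σ 6) (σ 6) = -2 * w))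

end Groth.Agent.Lib.helper20.G1n7
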