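import Groth.Agent.Lib.Helper20.G1n7Base

set_option autoImplicit false
set_option linter.unusedVariables false
open Finset
open Models Models.NumericalType

namespace Groth.Agent.Lib.helper20.G1n7

set_option maxHeartbeats 0 in
theorem part0 (T : Models.NumericalType 7) (α25 α26 α34 α35 α36 α43 α45 α46 α52 α53 α54 α56 α62 α63 α64 α65 x25 x26 x34 x35 x36 x43 x45 x46 x52 x53 x54 x56 x62 x63 x64 x65 q25 q26 q34 q35 q36 q45 q46 q56 : ℤ)
    (hm0 : Hide (0 < T.m 0))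
    (hm1 : Hide (0 < T.m 1))
    (hm2 : Hide (0 < T.m 2))
    (hm3 : Hide (0 < T.m 3))
    (hm4 : Hide (0 < T.m 4))
    (hm5 : Hide (0 < T.m 5))
    (hm6 : Hide (0 < T.m 6))
    (om1 : Hide (T.m 0 ≤ T.m 1))
    (om2 : Hide (T.m 0 ≤ T.m 2))
    (om3 : Hide (T.m 0 ≤ T.m 3))
    (om4 : Hide (T.m 0 ≤ T.m 4))
    (om5 : Hide (T.m 0 ≤ T.m 5))
    (om6 : Hide (T.m 0 ≤ T.m 6))
    (e0 : Hide (T.m 1 + (0 : ℤ) + (0 : ℤ) + (0 : ℤ) + (0 : ℤ) + (0 : ℤ) = 2 * T.m 0))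
    (e1 : Hide (T.m 0 + T.m 2 + (0 : ℤ) + (0 : ℤ) + (0 : ℤ) + (0 : ℤ) = 2 * T.m 1))
    (e2 : Hide ((0 : ℤ) + T.m 1 + T.m 3 + (0 : ℤ) + x25 + x26 = 2 * T.m 2))
    (e3 : Hide ((0 : ℤ) + (0 : ℤ) + T.m 2 + x34 + x35 + x36 = 2 * T.m 3))
    (e4 : Hide ((0 : ℤ) + (0 : ℤ) + (0 : ℤ) + x43 + x45 + x46 = 2 * T.m 4))
    (e5 : Hide ((0 : ℤ) + (0 : ℤ) + x52 + x53 + x54 + x56 = 2 * T.m 5))
    (e6 : Hide ((0 : ℤ) + (0 : ℤ) + x62 + x63 + x64 + x65 = 2 * T.m 6))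
    (r01 : Hide (0 ≤ T.m 1))
    (r02 : Hide (0 ≤ (0 : ℤ)))
    (r03 : Hide (0 ≤ (0 : ℤ)))
    (r04 : Hide (0 ≤ (0 : ℤ)))
    (r05 : Hide (0 ≤ (0 : ℤ)))
    (r06 : Hide (0 ≤ (0 : ℤ)))
    (r10 : Hide (0 ≤ T.m 0))
    (r12 : Hide (0 ≤ T.m 2))
    (r13 : Hide (0 ≤ (0 : ℤ)))
    (r14 : Hide (0 ≤ (0 : ℤ)))
    (r15 : Hide (0 ≤ (0 : ℤ)))
    (r16 : Hide (0 ≤ (0 : ℤ)))
    (r20 : Hide (0 ≤ (0 : ℤ)))
    (r21 : Hide (0 ≤ T.m 1))
    (r23 : Hide (0 ≤ T.m 3))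
    (r24 : Hide (0 ≤ (0 : ℤ)))
    (r25 : Hide (0 ≤ x25))
    (r26 : Hide (0 ≤ x26))
    (r30 : Hide (0 ≤ (0 : ℤ)))
    (r31 : Hide (0 ≤ (0 : ℤ)))
    (r32 : Hide (0 ≤ T.m 2))
    (r34 : Hide (0 ≤ x34))
    (r35 : Hide (0 ≤ x35))
    (r36 : Hide (0 ≤ x36))
    (r40 : Hide (0 ≤ (0 : ℤ)))
    (r41 : Hide (0 ≤ (0 : ℤ)))
    (r42 : Hide (0 ≤ (0 : ℤ)))
    (r43 : Hide (0 ≤ x43))
    (r45 : Hide (0 ≤ x45))
    (r46 : Hide (0 ≤ x46))
    (r50 : Hide (0 ≤ (0 : ℤ)))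
    (r51 : Hide (0 ≤ (0 : ℤ)))
    (r52 : Hide (0 ≤ x52))
    (r53 : Hide (0 ≤ x53))
    (r54 : Hide (0 ≤ x54))
    (r56 : Hide (0 ≤ x56))
    (r60 : Hide (0 ≤ (0 : ℤ)))
    (r61 : Hide (0 ≤ (0 : ℤ)))
    (r62 : Hide (0 ≤ x62))
    (r63 : Hide (0 ≤ x63))
    (r64 : Hide (0 ≤ x64))
    (r65 : Hide (0 ≤ x65))
    (hw0 : Hide (0 < T.w 0))
    (hw1 : Hide (0 < T.w 1))
    (hw2 : Hide (0 < T.w 2))
    (hw3 : Hide (0 < T.w 3))
    (hw4 : Hide (0 < T.w 4))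
    (hw5 : Hide (0 < T.w 5))
    (hw6 : Hide (0 < T.w 6))
    (hs01 : Hide (T.a 0 1 = T.a 1 0))
    (hs02 : Hide (T.a 0 2 = T.a 2 0))
    (hs03 : Hide (T.a 0 3 = T.a 3 0))
    (hs04 : Hide (T.a 0 4 = T.a 4 0))
    (hs05 : Hide (T.a 0 5 = T.a 5 0))
    (hs06 : Hide (T.a 0 6 = T.a 6 0))
    (hs12 : Hide (T.a 1 2 = T.a 2 1))
    (hs13 : Hide (T.a 1 3 = T.a 3 1))
    (hs14 : Hide (T.a 1 4 = T.a 4 1))
    (hs15 : Hide (T.a 1 5 = T.a 5 1))
    (hs16 : Hide (T.a 1 6 = T.a 6 1))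
    (hs23 : Hide (T.a 2 3 = T.a 3 2))
    (hs24 : Hide (T.a 2 4 = T.a 4 2))
    (hs25 : Hide (T.a 2 5 = T.a 5 2))
    (hs26 : Hide (T.a 2 6 = T.a 6 2))
    (hs34 : Hide (T.a 3 4 = T.a 4 3))
    (hs35 : Hide (T.a 3 5 = T.a 5 3))
    (hs36 : Hide (T.a 3 6 = T.a 6 3))
    (hs45 : Hide (T.a 4 5 = T.a 5 4))
    (hs46 : Hide (T.a 4 6 = T.a 6 4))
    (hs56 : Hide (T.a 5 6 = T.a 6 5))
    (ha00 : Hide (T.a 0 0 = -2 * T.w 0))
    (ha11 : Hide (T.a 1 1 = -2 * T.w 1))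
    (ha22 : Hide (T.a 2 2 = -2 * T.w 2))
    (ha33 : Hide (T.a 3 3 = -2 * T.w 3))
    (ha44 : Hide (T.a 4 4 = -2 * T.w 4))
    (ha55 : Hide (T.a 5 5 = -2 * T.w 5))
    (ha66 : Hide (T.a 6 6 = -2 * T.w 6))
    (v0 : Hide ((1 : ℤ) + (0 : ℤ) + (0 : ℤ) + (0 : ℤ) + (0 : ℤ) + (0 : ℤ) ≤ 4))
    (v1 : Hide ((1 : ℤ) + (1 : ℤ) + (0 : ℤ) + (0 : ℤ) + (0 : ℤ) + (0 : ℤ) ≤ 4))
    (v2 : Hide ((0 : ℤ) + (1 : ℤ) + (1 : ℤ) + (0 : ℤ) + q25 + q26 ≤ 4))
    (v3 : Hide ((0 : ℤ) + (0 : ℤ) + (1 : ℤ) + q34 + q35 + q36 ≤ 4))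
    (v4 : Hide ((0 : ℤ) + (0 : ℤ) + (0 : ℤ) + q34 + q45 + q46 ≤ 4))
    (v5 : Hide ((0 : ℤ) + (0 : ℤ) + q25 + q35 + q45 + q56 ≤ 4))
    (v6 : Hide ((0 : ℤ) + (0 : ℤ) + q26 + q36 + q46 + q56 ≤ 4))
    (qn01 : Hide (0 ≤ (1 : ℤ)))
    (qn02 : Hide (0 ≤ (0 : ℤ)))
    (qn03 : Hide (0 ≤ (0 : ℤ)))
    (qn04 : Hide (0 ≤ (0 : ℤ)))
    (qn05 : Hide (0 ≤ (0 : ℤ)))
    (qn06 : Hide (0 ≤ (0 : ℤ)))
    (qn12 : Hide (0 ≤ (1 : ℤ)))
    (qn13 : Hide (0 ≤ (0 : ℤ)))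
    (qn14 : Hide (0 ≤ (0 : ℤ)))
    (qn15 : Hide (0 ≤ (0 : ℤ)))
    (qn16 : Hide (0 ≤ (0 : ℤ)))
    (qn23 : Hide (0 ≤ (1 : ℤ)))
    (qn24 : Hide (0 ≤ (0 : ℤ)))
    (qn25 : Hide (0 ≤ q25))
    (qn26 : Hide (0 ≤ q26))
    (qn34 : Hide (0 ≤ q34))
    (qn35 : Hide (0 ≤ q35))
    (qn36 : Hide (0 ≤ q36))
    (qn45 : Hide (0 ≤ q45))
    (qn46 : Hide (0 ≤ q46))
    (qn56 : Hide (0 ≤ q56))
    (od1 : Hide (0 < (1 : ℤ)))
    (od2 : Hide (0 < (0 : ℤ) + (1 : ℤ)))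
    (od3 : Hide (0 < (0 : ℤ) + (0 : ℤ) + (1 : ℤ)))
    (od4 : Hide (0 < (0 : ℤ) + (0 : ℤ) + (0 : ℤ) + α34))
    (od5 : Hide (0 < (0 : ℤ) + (0 : ℤ) + α25 + α35 + α45))
    (od6 : Hide (0 < (0 : ℤ) + (0 : ℤ) + α26 + α36 + α46 + α56))
    (c25 : Hide (((Hide (x25 = 0 ∧ x52 = 0) ∧ Hide (T.a 2 5 = 0 ∧ T.a 5 2 = 0) ∧ Hide (α25 = 0 ∧ α52 = 0)) ∧ q25 = 0) ∨ ((Hide (x25 = T.m 5 ∧ x52 = T.m 2) ∧ Hide (T.a 2 5 = T.w 2 ∧ T.a 5 2 = T.w 5) ∧ Hide (α25 = 1 ∧ α52 = 1)) ∧ q25 = 1) ∨ ((Hide (x25 = T.m 5 ∧ x52 = 2 * T.m 2) ∧ Hide (T.a 2 5 = T.w 2 ∧ T.a 5 2 = 2 * T.w 5) ∧ Hide (α25 = 1 ∧ α52 = 2)) ∧ q25 = 2) ∨ ((Hide (x25 = 2 * T.m 5 ∧ x52 = T.m 2) ∧ Hide (T.a 2 5 = 2 * T.w 2 ∧ T.a 5 2 = T.w 5) ∧ Hide (α25 = 2 ∧ α52 = 1)) ∧ q25 = 2) ∨ ((Hide (x25 = T.m 5 ∧ x52 = 3 * T.m 2) ∧ Hide (T.a 2 5 = T.w 2 ∧ T.a 5 2 = 3 * T.w 5) ∧ Hide (α25 = 1 ∧ α52 = 3)) ∧ q25 = 3) ∨ ((Hide (x25 = 3 * T.m 5 ∧ x52 =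 T.m 2) ∧ Hide (T.a 2 5 = 3 * T.w 2 ∧ T.a 5 2 = T.w 5) ∧ Hide (α25 = 3 ∧ α52 = 1)) ∧ q25 = 3) ∨ ((Hide (x25 = T.m 5 ∧ x52 = 4 * T.m 2) ∧ Hide (T.a 2 5 = T.w 2 ∧ T.a 5 2 = 4 * T.w 5) ∧ Hide (α25 = 1 ∧ α52 = 4)) ∧ q25 = 4) ∨ ((Hide (x25 = 4 * T.m 5 ∧ x52 = T.m 2) ∧ Hide (T.a 2 5 = 4 * T.w 2 ∧ T.a 5 2 = T.w 5) ∧ Hide (α25 = 4 ∧ α52 = 1)) ∧ q25 = 4) ∨ ((Hide (x25 = 2 * T.m 5 ∧ x52 = 2 * T.m 2) ∧ Hide (T.a 2 5 = 2 * T.w 2 ∧ T.a 5 2 = 2 * T.w 5) ∧ Hide (α25 = 2 ∧ α52 = 2)) ∧ q25 = 4)))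
    (c26 : Hide (((Hide (x26 = 0 ∧ x62 = 0) ∧ Hide (T.a 2 6 = 0 ∧ T.a 6 2 = 0) ∧ Hide (α26 = 0 ∧ α62 = 0)) ∧ q26 = 0) ∨ ((Hide (x26 = T.m 6 ∧ x62 = T.m 2) ∧ Hide (T.a 2 6 = T.w 2 ∧ T.a 6 2 = T.w 6) ∧ Hide (α26 = 1 ∧ α62 = 1)) ∧ q26 = 1) ∨ ((Hide (x26 = T.m 6 ∧ x62 = 2 * T.m 2) ∧ Hide (T.a 2 6 = T.w 2 ∧ T.a 6 2 = 2 * T.w 6) ∧ Hide (α26 = 1 ∧ α62 = 2)) ∧ q26 = 2) ∨ ((Hide (x26 = 2 * T.m 6 ∧ x62 = T.m 2) ∧ Hide (T.a 2 6 = 2 * T.w 2 ∧ T.a 6 2 = T.w 6) ∧ Hide (α26 = 2 ∧ α62 = 1)) ∧ q26 = 2) ∨ ((Hide (x26 = T.m 6 ∧ x62 = 3 * T.m 2) ∧ Hide (T.a 2 6 = T.w 2 ∧ T.a 6 2 = 3 * T.w 6) ∧ Hide (α26 = 1 ∧ α62 = 3)) ∧ q26 = 3) ∨ ((Hide (x26 = 3 * T.m 6 ∧ x62 = T.m 2) ∧ Hide (T.a 2 6 = 3 * T.w 2 ∧ T.a 6 2 = T.w 6) ∧ Hide (α26 = 3 ∧ α62 = 1)) ∧ q26 = 3) ∨ ((Hide (x26 = T.m 6 ∧ x62 = 4 * T.m 2) ∧ Hide (T.a 2 6 = T.w 2 ∧ T.a 6 2 = 4 * T.w 6) ∧ Hide (α26 = 1 ∧ α62 = 4)) ∧ q26 = 4) ∨ ((Hide (x26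 = 4 * T.m 6 ∧ x62 = T.m 2) ∧ Hide (T.a 2 6 = 4 * T.w 2 ∧ T.a 6 2 = T.w 6) ∧ Hide (α26 = 4 ∧ α62 = 1)) ∧ q26 = 4) ∨ ((Hide (x26 = 2 * T.m 6 ∧ x62 = 2 * T.m 2) ∧ Hide (T.a 2 6 = 2 * T.w 2 ∧ T.a 6 2 = 2 * T.w 6) ∧ Hide (α26 = 2 ∧ α62 = 2)) ∧ q26 = 4)))
    (c34 : Hide (((Hide (x34 = 0 ∧ x43 = 0) ∧ Hide (T.a 3 4 = 0 ∧ T.a 4 3 = 0) ∧ Hide (α34 = 0 ∧ α43 = 0)) ∧ q34 = 0) ∨ ((Hide (x34 = T.m 4 ∧ x43 = T.m 3) ∧ Hide (T.a 3 4 = T.w 3 ∧ T.a 4 3 = T.w 4) ∧ Hide (α34 = 1 ∧ α43 = 1)) ∧ q34 = 1) ∨ ((Hide (x34 = T.m 4 ∧ x43 = 2 * T.m 3) ∧ Hide (T.a 3 4 = T.w 3 ∧ T.a 4 3 = 2 * T.w 4) ∧ Hide (α34 = 1 ∧ α43 = 2)) ∧ q34 = 2) ∨ ((Hide (x34 = 2 * T.m 4 ∧ x43 = T.m 3) ∧ Hide (T.a 3 4 = 2 * T.w 3 ∧ T.a 4 3 = T.w 4) ∧ Hide (α34 = 2 ∧ α43 = 1)) ∧ q34 = 2) ∨ ((Hide (x34 = T.m 4 ∧ x43 = 3 * T.m 3) ∧ Hide (T.a 3 4 = T.w 3 ∧ T.a 4 3 = 3 * T.w 4) ∧ Hide (α34 = 1 ∧ α43 = 3)) ∧ q34 = 3) ∨ ((Hide (x34 =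 3 * T.m 4 ∧ x43 = T.m 3) ∧ Hide (T.a 3 4 = 3 * T.w 3 ∧ T.a 4 3 = T.w 4) ∧ Hide (α34 = 3 ∧ α43 = 1)) ∧ q34 = 3) ∨ ((Hide (x34 = T.m 4 ∧ x43 = 4 * T.m 3) ∧ Hide (T.a 3 4 = T.w 3 ∧ T.a 4 3 = 4 * T.w 4) ∧ Hide (α34 = 1 ∧ α43 = 4)) ∧ q34 = 4) ∨ ((Hide (x34 = 4 * T.m 4 ∧ x43 = T.m 3) ∧ Hide (T.a 3 4 = 4 * T.w 3 ∧ T.a 4 3 = T.w 4) ∧ Hide (α34 = 4 ∧ α43 = 1)) ∧ q34 = 4) ∨ ((Hide (x34 = 2 * T.m 4 ∧ x43 = 2 * T.m 3) ∧ Hide (T.a 3 4 = 2 * T.w 3 ∧ T.a 4 3 = 2 * T.w 4) ∧ Hide (α34 = 2 ∧ α43 = 2)) ∧ q34 = 4)))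
    (c35 : Hide (((Hide (x35 = 0 ∧ x53 = 0) ∧ Hide (T.a 3 5 = 0 ∧ T.a 5 3 = 0) ∧ Hide (α35 = 0 ∧ α53 = 0)) ∧ q35 = 0) ∨ ((Hide (x35 = T.m 5 ∧ x53 = T.m 3) ∧ Hide (T.a 3 5 = T.w 3 ∧ T.a 5 3 = T.w 5) ∧ Hide (α35 = 1 ∧ α53 = 1)) ∧ q35 = 1) ∨ ((Hide (x35 = T.m 5 ∧ x53 = 2 * T.m 3) ∧ Hide (T.a 3 5 = T.w 3 ∧ T.a 5 3 = 2 * T.w 5) ∧ Hide (α35 = 1 ∧ α53 = 2)) ∧ q35 = 2) ∨ ((Hide (x35 = 2 * T.m 5 ∧ x53 = T.m 3) ∧ Hide (T.a 3 5 = 2 * T.w 3 ∧ T.a 5 3 = T.w 5) ∧ Hide (α35 = 2 ∧ α53 = 1)) ∧ q35 = 2) ∨ ((Hide (x35 = T.m 5 ∧ x53 = 3 * T.m 3) ∧ Hide (T.a 3 5 = T.w 3 ∧ T.a 5 3 = 3 * T.w 5) ∧ Hide (α35 = 1 ∧ α53 = 3)) ∧ q35 = 3) ∨ ((Hide (x35 = 3 * T.m 5 ∧ x53 = T.m 3) ∧ Hide (T.a 3 5 = 3 * T.w 3 ∧ T.a 5 3 = T.w 5) ∧ Hide (α35 = 3 ∧ α53 = 1)) ∧ q35 = 3) ∨ ((Hide (x35 = T.m 5 ∧ x53 = 4 * T.m 3) ∧ Hide (T.a 3 5 = T.w 3 ∧ T.a 5 3 = 4 * T.w 5) ∧ Hide (α35 = 1 ∧ α53 = 4)) ∧ q35 = 4) ∨ ((Hide (x35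 = 4 * T.m 5 ∧ x53 = T.m 3) ∧ Hide (T.a 3 5 = 4 * T.w 3 ∧ T.a 5 3 = T.w 5) ∧ Hide (α35 = 4 ∧ α53 = 1)) ∧ q35 = 4) ∨ ((Hide (x35 = 2 * T.m 5 ∧ x53 = 2 * T.m 3) ∧ Hide (T.a 3 5 = 2 * T.w 3 ∧ T.a 5 3 = 2 * T.w 5) ∧ Hide (α35 = 2 ∧ α53 = 2)) ∧ q35 = 4)))
    (c36 : Hide (((Hide (x36 = 0 ∧ x63 = 0) ∧ Hide (T.a 3 6 = 0 ∧ T.a 6 3 = 0) ∧ Hide (α36 = 0 ∧ α63 = 0)) ∧ q36 = 0) ∨ ((Hide (x36 = T.m 6 ∧ x63 = T.m 3) ∧ Hide (T.a 3 6 = T.w 3 ∧ T.a 6 3 = T.w 6) ∧ Hide (α36 = 1 ∧ α63 = 1)) ∧ q36 = 1) ∨ ((Hide (x36 = T.m 6 ∧ x63 = 2 * T.m 3) ∧ Hide (T.a 3 6 = T.w 3 ∧ T.a 6 3 = 2 * T.w 6) ∧ Hide (α36 = 1 ∧ α63 = 2)) ∧ q36 = 2) ∨ ((Hide (x36 = 2 * T.m 6 ∧ x63 = T.m 3) ∧ Hide (T.a 3 6 = 2 * T.w 3 ∧ T.a 6 3 = T.w 6) ∧ Hide (α36 = 2 ∧ α63 = 1)) ∧ q36 = 2) ∨ ((Hide (x36 = T.m 6 ∧ x63 = 3 * T.m 3) ∧ Hide (T.a 3 6 = T.w 3 ∧ T.a 6 3 = 3 * T.w 6) ∧ Hide (α36 = 1 ∧ α63 = 3)) ∧ q36 = 3) ∨ ((Hide (x36 =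 3 * T.m 6 ∧ x63 = T.m 3) ∧ Hide (T.a 3 6 = 3 * T.w 3 ∧ T.a 6 3 = T.w 6) ∧ Hide (α36 = 3 ∧ α63 = 1)) ∧ q36 = 3) ∨ ((Hide (x36 = T.m 6 ∧ x63 = 4 * T.m 3) ∧ Hide (T.a 3 6 = T.w 3 ∧ T.a 6 3 = 4 * T.w 6) ∧ Hide (α36 = 1 ∧ α63 = 4)) ∧ q36 = 4) ∨ ((Hide (x36 = 4 * T.m 6 ∧ x63 = T.m 3) ∧ Hide (T.a 3 6 = 4 * T.w 3 ∧ T.a 6 3 = T.w 6) ∧ Hide (α36 = 4 ∧ α63 = 1)) ∧ q36 = 4) ∨ ((Hide (x36 = 2 * T.m 6 ∧ x63 = 2 * T.m 3) ∧ Hide (T.a 3 6 = 2 * T.w 3 ∧ T.a 6 3 = 2 * T.w 6) ∧ Hide (α36 = 2 ∧ α63 = 2)) ∧ q36 = 4)))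
    (c45 : Hide (((Hide (x45 = 0 ∧ x54 = 0) ∧ Hide (T.a 4 5 = 0 ∧ T.a 5 4 = 0) ∧ Hide (α45 = 0 ∧ α54 = 0)) ∧ q45 = 0) ∨ ((Hide (x45 = T.m 5 ∧ x54 = T.m 4) ∧ Hide (T.a 4 5 = T.w 4 ∧ T.a 5 4 = T.w 5) ∧ Hide (α45 = 1 ∧ α54 = 1)) ∧ q45 = 1) ∨ ((Hide (x45 = T.m 5 ∧ x54 = 2 * T.m 4) ∧ Hide (T.a 4 5 = T.w 4 ∧ T.a 5 4 = 2 * T.w 5) ∧ Hide (α45 = 1 ∧ α54 = 2)) ∧ q45 = 2) ∨ ((Hide (x45 = 2 * T.m 5 ∧ x54 = T.m 4) ∧ Hide (T.a 4 5 = 2 * T.w 4 ∧ T.a 5 4 = T.w 5) ∧ Hide (α45 = 2 ∧ α54 = 1)) ∧ q45 = 2) ∨ ((Hide (x45 = T.m 5 ∧ x54 = 3 * T.m 4) ∧ Hide (T.a 4 5 = T.w 4 ∧ T.a 5 4 = 3 * T.w 5) ∧ Hide (α45 = 1 ∧ α54 = 3)) ∧ q45 = 3) ∨ ((Hide (x45 = 3 * T.m 5 ∧ x54 = T.m 4) ∧ Hide (T.a 4 5 = 3 * T.w 4 ∧ T.a 5 4 = T.w 5) ∧ Hide (α45 = 3 ∧ α54 = 1)) ∧ q45 = 3) ∨ ((Hide (x45 = T.m 5 ∧ x54 = 4 * T.m 4) ∧ Hide (T.a 4 5 = T.w 4 ∧ T.a 5 4 = 4 * T.w 5) ∧ Hide (α45 = 1 ∧ α54 = 4)) ∧ q45 = 4) ∨ ((Hide (x45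 = 4 * T.m 5 ∧ x54 = T.m 4) ∧ Hide (T.a 4 5 = 4 * T.w 4 ∧ T.a 5 4 = T.w 5) ∧ Hide (α45 = 4 ∧ α54 = 1)) ∧ q45 = 4) ∨ ((Hide (x45 = 2 * T.m 5 ∧ x54 = 2 * T.m 4) ∧ Hide (T.a 4 5 = 2 * T.w 4 ∧ T.a 5 4 = 2 * T.w 5) ∧ Hide (α45 = 2 ∧ α54 = 2)) ∧ q45 = 4)))
    (c46 : Hide (((Hide (x46 = 0 ∧ x64 = 0) ∧ Hide (T.a 4 6 = 0 ∧ T.a 6 4 = 0) ∧ Hide (α46 = 0 ∧ α64 = 0)) ∧ q46 = 0) ∨ ((Hide (x46 = T.m 6 ∧ x64 = T.m 4) ∧ Hide (T.a 4 6 = T.w 4 ∧ T.a 6 4 = T.w 6) ∧ Hide (α46 = 1 ∧ α64 = 1)) ∧ q46 = 1) ∨ ((Hide (x46 = T.m 6 ∧ x64 = 2 * T.m 4) ∧ Hide (T.a 4 6 = T.w 4 ∧ T.a 6 4 = 2 * T.w 6) ∧ Hide (α46 = 1 ∧ α64 = 2)) ∧ q46 = 2) ∨ ((Hide (x46 = 2 * T.m 6 ∧ x64 = T.m 4) ∧ Hide (T.a 4 6 = 2 * T.w 4 ∧ T.a 6 4 = T.w 6) ∧ Hide (α46 = 2 ∧ α64 = 1)) ∧ q46 = 2) ∨ ((Hide (x46 = T.m 6 ∧ x64 = 3 * T.m 4) ∧ Hide (T.a 4 6 = T.w 4 ∧ T.a 6 4 = 3 * T.w 6) ∧ Hide (α46 = 1 ∧ α64 = 3)) ∧ q46 = 3) ∨ ((Hide (x46 =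 3 * T.m 6 ∧ x64 = T.m 4) ∧ Hide (T.a 4 6 = 3 * T.w 4 ∧ T.a 6 4 = T.w 6) ∧ Hide (α46 = 3 ∧ α64 = 1)) ∧ q46 = 3) ∨ ((Hide (x46 = T.m 6 ∧ x64 = 4 * T.m 4) ∧ Hide (T.a 4 6 = T.w 4 ∧ T.a 6 4 = 4 * T.w 6) ∧ Hide (α46 = 1 ∧ α64 = 4)) ∧ q46 = 4) ∨ ((Hide (x46 = 4 * T.m 6 ∧ x64 = T.m 4) ∧ Hide (T.a 4 6 = 4 * T.w 4 ∧ T.a 6 4 = T.w 6) ∧ Hide (α46 = 4 ∧ α64 = 1)) ∧ q46 = 4) ∨ ((Hide (x46 = 2 * T.m 6 ∧ x64 = 2 * T.m 4) ∧ Hide (T.a 4 6 = 2 * T.w 4 ∧ T.a 6 4 = 2 * T.w 6) ∧ Hide (α46 = 2 ∧ α64 = 2)) ∧ q46 = 4)))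
    (c56 : Hide (((Hide (x56 = 0 ∧ x65 = 0) ∧ Hide (T.a 5 6 = 0 ∧ T.a 6 5 = 0) ∧ Hide (α56 = 0 ∧ α65 = 0)) ∧ q56 = 0) ∨ ((Hide (x56 = T.m 6 ∧ x65 = T.m 5) ∧ Hide (T.a 5 6 = T.w 5 ∧ T.a 6 5 = T.w 6) ∧ Hide (α56 = 1 ∧ α65 = 1)) ∧ q56 = 1) ∨ ((Hide (x56 = T.m 6 ∧ x65 = 2 * T.m 5) ∧ Hide (T.a 5 6 = T.w 5 ∧ T.a 6 5 = 2 * T.w 6) ∧ Hide (α56 = 1 ∧ α65 = 2)) ∧ q56 = 2) ∨ ((Hide (x56 = 2 * T.m 6 ∧ x65 = T.m 5) ∧ Hide (T.a 5 6 = 2 * T.w 5 ∧ T.a 6 5 = T.w 6) ∧ Hide (α56 = 2 ∧ α65 = 1)) ∧ q56 = 2) ∨ ((Hide (x56 = T.m 6 ∧ x65 = 3 * T.m 5) ∧ Hide (T.a 5 6 = T.w 5 ∧ T.a 6 5 = 3 * T.w 6) ∧ Hide (α56 = 1 ∧ α65 = 3)) ∧ q56 = 3) ∨ ((Hide (x56 = 3 * T.m 6 ∧ x65 = T.m 5) ∧ Hide (T.a 5 6 = 3 * T.w 5 ∧ T.a 6 5 = T.w 6) ∧ Hide (α56 = 3 ∧ α65 = 1)) ∧ q56 = 3) ∨ ((Hide (x56 = T.m 6 ∧ x65 = 4 * T.m 5) ∧ Hide (T.a 5 6 = T.w 5 ∧ T.a 6 5 = 4 * T.w 6) ∧ Hide (α56 = 1 ∧ α65 = 4)) ∧ q56 = 4) ∨ ((Hide (x56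 = 4 * T.m 6 ∧ x65 = T.m 5) ∧ Hide (T.a 5 6 = 4 * T.w 5 ∧ T.a 6 5 = T.w 6) ∧ Hide (α56 = 4 ∧ α65 = 1)) ∧ q56 = 4) ∨ ((Hide (x56 = 2 * T.m 6 ∧ x65 = 2 * T.m 5) ∧ Hide (T.a 5 6 = 2 * T.w 5 ∧ T.a 6 5 = 2 * T.w 6) ∧ Hide (α56 = 2 ∧ α65 = 2)) ∧ q56 = 4)))
    (gw01 : Hide (T.a 0 1 = T.w 0 ∧ T.a 1 0 = T.w 1))
    (gw02 : Hide (T.a 0 2 = 0 ∧ T.a 2 0 = 0))
    (gw03 : Hide (T.a 0 3 = 0 ∧ T.a 3 0 = 0))
    (gw04 : Hide (T.a 0 4 = 0 ∧ T.a 4 0 = 0))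
    (gw05 : Hide (T.a 0 5 = 0 ∧ T.a 5 0 = 0))
    (gw06 : Hide (T.a 0 6 = 0 ∧ T.a 6 0 = 0))
    (gw12 : Hide (T.a 1 2 = T.w 1 ∧ T.a 2 1 = T.w 2))
    (gw13 : Hide (T.a 1 3 = 0 ∧ T.a 3 1 = 0))
    (gw14 : Hide (T.a 1 4 = 0 ∧ T.a 4 1 = 0))
    (gw15 : Hide (T.a 1 5 = 0 ∧ T.a 5 1 = 0))
    (gw16 : Hide (T.a 1 6 = 0 ∧ T.a 6 1 = 0))
    (gw23 : Hide (T.a 2 3 = T.w 2 ∧ T.a 3 2 = T.w 3))
    (gw24 : Hide (T.a 2 4 = 0 ∧ T.a 4 2 = 0)) : Goal T := by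
  have t := pc2 q25 c25.out (by have := v2.out; have := qn26.out; omega)
  clear c25
  rcases t with ⟨⟨⟨rfl, rfl⟩, gw25, ⟨rfl, rfl⟩⟩, rfl⟩ | ⟨⟨⟨rfl, rfl⟩, gw25, ⟨rfl, rfl⟩⟩, rfl⟩ | ⟨⟨⟨rfl, rfl⟩, gw25, ⟨rfl, rfl⟩⟩, rfl⟩ | ⟨⟨⟨rfl, rfl⟩, gw25, ⟨rfl, rfl⟩⟩, rfl⟩
  · have t := pc2 q26 c26.out (by have := v2.out; omega)
    clear c26
    rcases t with ⟨⟨⟨rfl, rfl⟩, gw26, ⟨rfl, rfl⟩⟩, rfl⟩ | ⟨⟨⟨rfl, rfl⟩, gw26, ⟨rfl, rfl⟩⟩, rfl⟩ | ⟨⟨⟨rfl, rfl⟩, gw26, ⟨rfl, rfl⟩⟩, rfl⟩ | ⟨⟨⟨rfl, rfl⟩, gw26, ⟨rfl, rfl⟩⟩, rfl⟩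
    · have t := pc3 q34 c34.out (by have := v3.out; have := qn35.out; have := qn36.out; omega)
      clear c34
      rcases t with ⟨⟨⟨rfl, rfl⟩, gw34, ⟨rfl, rfl⟩⟩, rfl⟩ | ⟨⟨⟨rfl, rfl⟩, gw34, ⟨rfl, rfl⟩⟩, rfl⟩ | ⟨⟨⟨rfl, rfl⟩, gw34, ⟨rfl, rfl⟩⟩, rfl⟩ | ⟨⟨⟨rfl, rfl⟩, gw34, ⟨rfl, rfl⟩⟩, rfl⟩ | ⟨⟨⟨rfl, rfl⟩, gw34, ⟨rfl, rfl⟩⟩, rfl⟩ | ⟨⟨⟨rfl, rfl⟩, gw34, ⟨rfl, rfl⟩⟩, rfl⟩
      · (have := od4.out; omega)
      · have t := pc2 q35 c35.out (by have := v3.out; have := qn36.out; omega)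
        clear c35
        rcases t with ⟨⟨⟨rfl, rfl⟩, gw35, ⟨rfl, rfl⟩⟩, rfl⟩ | ⟨⟨⟨rfl, rfl⟩, gw35, ⟨rfl, rfl⟩⟩, rfl⟩ | ⟨⟨⟨rfl, rfl⟩, gw35, ⟨rfl, rfl⟩⟩, rfl⟩ | ⟨⟨⟨rfl, rfl⟩, gw35, ⟨rfl, rfl⟩⟩, rfl⟩
        · have t := pc2 q36 c36.out (by have := v3.out; omega)
          clear c36
          rcases t with ⟨⟨⟨rfl, rfl⟩, gw36, ⟨rfl, rfl⟩⟩, rfl⟩ | ⟨⟨⟨rfl, rfl⟩, gw36, ⟨rfl, rfl⟩⟩, rfl⟩ | ⟨⟨⟨rfl, rfl⟩, gw36, ⟨rfl, rfl⟩⟩, rfl⟩ | ⟨⟨⟨rfl, rfl⟩, gw36, ⟨rfl, rfl⟩⟩, rfl⟩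
          · have t := pc3 q45 c45.out (by have := v4.out; have := qn46.out; omega)
            clear c45
            rcases t with ⟨⟨⟨rfl, rfl⟩, gw45, ⟨rfl, rfl⟩⟩, rfl⟩ | ⟨⟨⟨rfl, rfl⟩, gw45, ⟨rfl, rfl⟩⟩, rfl⟩ | ⟨⟨⟨rfl, rfl⟩, gw45, ⟨rfl, rfl⟩⟩, rfl⟩ | ⟨⟨⟨rfl, rfl⟩, gw45, ⟨rfl, rfl⟩⟩, rfl⟩ | ⟨⟨⟨rfl, rfl⟩, gw45, ⟨rfl, rfl⟩⟩, rfl⟩ | ⟨⟨⟨rfl, rfl⟩, gw45, ⟨rfl, rfl⟩⟩, rfl⟩
            · (have := od5.out; omega)
            · have t := pc2 q46 c46.out (by have := v4.out; omega)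
              clear c46
              rcases t with ⟨⟨⟨rfl, rfl⟩, gw46, ⟨rfl, rfl⟩⟩, rfl⟩ | ⟨⟨⟨rfl, rfl⟩, gw46, ⟨rfl, rfl⟩⟩, rfl⟩ | ⟨⟨⟨rfl, rfl⟩, gw46, ⟨rfl, rfl⟩⟩, rfl⟩ | ⟨⟨⟨rfl, rfl⟩, gw46, ⟨rfl, rfl⟩⟩, rfl⟩
              · have t := pc3 q56 c56.out (by have := v5.out; omega)
                clear c56
                rcases t with ⟨⟨⟨rfl, rfl⟩, gw56, ⟨rfl, rfl⟩⟩, rfl⟩ | ⟨⟨⟨rfl, rfl⟩, gw56, ⟨rfl, rfl⟩⟩, rfl⟩ | ⟨⟨⟨rfl, rfl⟩, gw56, ⟨rfl, rfl⟩⟩, rfl⟩ | ⟨⟨⟨rfl, rfl⟩, gw56, ⟨rfl, rfl⟩⟩, rfl⟩ | ⟨⟨⟨rfl, rfl⟩, gw56, ⟨rfl, rfl⟩⟩, rfl⟩ | ⟨⟨⟨rfl, rfl⟩, gw56, ⟨rfl, rfl⟩⟩, rfl⟩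
                · (have := od6.out; omega)
                · (have := hm2.out; have := om6.out; have := e0.out; have := e1.out; have := e3.out; have := e4.out; have := e5.out; have := e6.out; omega)
                · (have := hm2.out; have := e0.out; have := e1.out; have := e2.out; have := e3.out; have := e4.out; have := e5.out; have := e6.out; omega)
                · (have := hm2.out; have := e0.out; have := e1.out; have := e2.out; have := e3.out; have := e4.out; have := e5.out; have := e6.out; omega)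
                · (have := hm3.out; have := e4.out; have := e5.out; have := e6.out; omega)
                · (have := hm3.out; have := e4.out; have := e5.out; have := e6.out; omega)
              · have t := pc3 q56 c56.out (by have := v5.out; omega)
                clear c56
                rcases t with ⟨⟨⟨rfl, rfl⟩, gw56, ⟨rfl, rfl⟩⟩, rfl⟩ | ⟨⟨⟨rfl, rfl⟩, gw56, ⟨rfl, rfl⟩⟩, rfl⟩ | ⟨⟨⟨rfl, rfl⟩, gw56, ⟨rfl, rfl⟩⟩, rfl⟩ | ⟨⟨⟨rfl, rfl⟩, gw56, ⟨rfl, rfl⟩⟩, rfl⟩ | ⟨⟨⟨rfl, rfl⟩, gw56, ⟨rfl, rfl⟩⟩, rfl⟩ | ⟨⟨⟨rfl, rfl⟩, gw56, ⟨rfl, rfl⟩⟩, rfl⟩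
                · (have := hm5.out; have := om6.out; have := e1.out; have := e2.out; have := e3.out; have := e4.out; have := e5.out; have := e6.out; omega)
                · (have := hm3.out; have := e4.out; have := e5.out; have := e6.out; omega)
                · (have := hm3.out; have := hm5.out; have := e4.out; have := e5.out; have := e6.out; omega)
                · (have := hm2.out; have := hm5.out; have := e3.out; have := e4.out; have := e5.out; have := e6.out; omega)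
                · (have := hm2.out; have := om5.out; have := e0.out; have := e2.out; have := e4.out; have := e5.out; have := e6.out; omega)
                · (have := hm2.out; have := om6.out; have := e0.out; have := e2.out; have := e4.out; have := e5.out; have := e6.out; omega)
              · (have := hm2.out; have := e3.out; have := e4.out; have := e5.out; have := r56.out; have := e6.out; have := r65.out; omega)
              · (have := hm2.out; have := e3.out; have := e4.out; have := e5.out; have := r56.out; have := e6.out; have := r65.out; omega)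
            · have t := pc1 q46 c46.out (by have := v4.out; omega)
              clear c46
              rcases t with ⟨⟨⟨rfl, rfl⟩, gw46, ⟨rfl, rfl⟩⟩, rfl⟩ | ⟨⟨⟨rfl, rfl⟩, gw46, ⟨rfl, rfl⟩⟩, rfl⟩
              · have t := pc2 q56 c56.out (by have := v5.out; omega)
                clear c56
                rcases t with ⟨⟨⟨rfl, rfl⟩, gw56, ⟨rfl, rfl⟩⟩, rfl⟩ | ⟨⟨⟨rfl, rfl⟩, gw56, ⟨rfl, rfl⟩⟩, rfl⟩ | ⟨⟨⟨rfl, rfl⟩, gw56, ⟨rfl, rfl⟩⟩, rfl⟩ | ⟨⟨⟨rfl, rfl⟩, gw56, ⟨rfl, rfl⟩⟩, rfl⟩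
                · (have := od6.out; omega)
                · (have := hm1.out; have := e2.out; have := e3.out; have := e4.out; have := e5.out; have := e6.out; omega)
                · (have := hm3.out; have := e4.out; have := e5.out; have := e6.out; omega)
                · (have := hm3.out; have := e4.out; have := e5.out; have := e6.out; omega)
              · (have := hm2.out; have := e3.out; have := e4.out; have := e5.out; have := r56.out; have := e6.out; have := r65.out; omega)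
            · have t := pc1 q46 c46.out (by have := v4.out; omega)
              clear c46
              rcases t with ⟨⟨⟨rfl, rfl⟩, gw46, ⟨rfl, rfl⟩⟩, rfl⟩ | ⟨⟨⟨rfl, rfl⟩, gw46, ⟨rfl, rfl⟩⟩, rfl⟩
              · have t := pc2 q56 c56.out (by have := v5.out; omega)
                clear c56
                rcases t with ⟨⟨⟨rfl, rfl⟩, gw56, ⟨rfl, rfl⟩⟩, rfl⟩ | ⟨⟨⟨rfl, rfl⟩, gw56, ⟨rfl, rfl⟩⟩, rfl⟩ | ⟨⟨⟨rfl, rfl⟩, gw56, ⟨rfl, rfl⟩⟩, rfl⟩ | ⟨⟨⟨rfl, rfl⟩, gw56, ⟨rfl, rfl⟩⟩, rfl⟩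
                · (have := od6.out; omega)
                · (have := hm1.out; have := e2.out; have := e3.out; have := e4.out; have := e5.out; have := e6.out; omega)
                · (have := hm3.out; have := e4.out; have := e5.out; have := e6.out; omega)
                · (have := hm3.out; have := e4.out; have := e5.out; have := e6.out; omega)
              · (have := hm2.out; have := e3.out; have := e4.out; have := e5.out; have := r56.out; have := e6.out; have := r65.out; omega)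
            · (have := hm2.out; have := e3.out; have := e4.out; have := r46.out; have := e5.out; have := r56.out; omega)
            · (have := hm2.out; have := e3.out; have := e4.out; have := r46.out; have := e5.out; have := r56.out; omega)
          · have t := pc3 q45 c45.out (by have := v4.out; have := qn46.out; omega)
            clear c45
            rcases t with ⟨⟨⟨rfl, rfl⟩, gw45, ⟨rfl, rfl⟩⟩, rfl⟩ | ⟨⟨⟨rfl, rfl⟩, gw45, ⟨rfl, rfl⟩⟩, rfl⟩ | ⟨⟨⟨rfl, rfl⟩, gw45, ⟨rfl, rfl⟩⟩, rfl⟩ | ⟨⟨⟨rfl, rfl⟩, gw45, ⟨rfl, rfl⟩⟩, rfl⟩ | ⟨⟨⟨rfl, rfl⟩, gw45, ⟨rfl, rfl⟩⟩, rfl⟩ | ⟨⟨⟨rfl, rfl⟩, gw45, ⟨rfl, rfl⟩⟩, rfl⟩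
            · (have := od5.out; omega)
            · have t := pc2 q46 c46.out (by have := v4.out; omega)
              clear c46
              rcases t with ⟨⟨⟨rfl, rfl⟩, gw46, ⟨rfl, rfl⟩⟩, rfl⟩ | ⟨⟨⟨rfl, rfl⟩, gw46, ⟨rfl, rfl⟩⟩, rfl⟩ | ⟨⟨⟨rfl, rfl⟩, gw46, ⟨rfl, rfl⟩⟩, rfl⟩ | ⟨⟨⟨rfl, rfl⟩, gw46, ⟨rfl, rfl⟩⟩, rfl⟩
              · have t := pc3 q56 c56.out (by have := v5.out; omega)
                clear c56
                rcases t with ⟨⟨⟨rfl, rfl⟩, gw56, ⟨rfl, rfl⟩⟩, rfl⟩ | ⟨⟨⟨rfl, rfl⟩, gw56, ⟨rfl, rfl⟩⟩, rfl⟩ | ⟨⟨⟨rfl, rfl⟩, gw56, ⟨rfl, rfl⟩⟩, rfl⟩ | ⟨⟨⟨rfl, rfl⟩, gw56, ⟨rfl, rfl⟩⟩, rfl⟩ | ⟨⟨⟨rfl, rfl⟩, gw56, ⟨rfl, rfl⟩⟩, rfl⟩ | ⟨⟨⟨rfl, rfl⟩, gw56, ⟨rfl, rfl⟩⟩, rfl⟩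
                · (have := hm2.out; have := e0.out; have := e1.out; have := e2.out; have := e3.out; have := e4.out; have := e5.out; have := e6.out; omega)
                · (have := hm0.out; have := hm6.out; have := e1.out; have := e2.out; have := e3.out; have := e4.out; have := e5.out; have := e6.out; omega)
                · (have := hm1.out; have := hm6.out; have := e2.out; have := e3.out; have := e4.out; have := e5.out; have := e6.out; omega)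
                · (have := hm1.out; have := om4.out; have := e1.out; have := e3.out; have := e4.out; have := e5.out; have := e6.out; omega)
                · (have := hm1.out; have := hm4.out; have := om4.out; have := e1.out; have := e3.out; have := e5.out; have := e6.out; omega)
                · (have := hm1.out; have := hm4.out; have := om4.out; have := e1.out; have := e3.out; have := e5.out; have := e6.out; omega)
              · (have := hm1.out; have := om5.out; have := e1.out; have := e3.out; have := e4.out; have := e6.out; have := r65.out; omega)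
              · (have := hm1.out; have := hm4.out; have := om5.out; have := e1.out; have := e3.out; have := e4.out; have := e6.out; have := r65.out; omega)
              · (have := hm1.out; have := hm4.out; have := hm5.out; have := e2.out; have := e3.out; have := e4.out; have := e6.out; have := r65.out; omega)
            · (have := hm1.out; have := e2.out; have := e3.out; have := e4.out; have := r46.out; have := e5.out; have := r56.out; have := e6.out; have := r64.out; have := r65.out; omega)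
            · (have := hm1.out; have := e2.out; have := e3.out; have := e4.out; have := r46.out; have := e5.out; have := r56.out; have := e6.out; have := r64.out; have := r65.out; omega)
            · (have := hm1.out; have := om6.out; have := e1.out; have := e3.out; have := e4.out; have := r46.out; have := e5.out; have := r56.out; omega)
            · (have := hm1.out; have := om6.out; have := e1.out; have := e3.out; have := e4.out; have := r46.out; have := e5.out; have := r56.out; omega)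
          · (have := hm1.out; have := e2.out; have := e3.out; have := e4.out; have := r45.out; have := r46.out; have := e6.out; have := r64.out; have := r65.out; omega)
          · (have := hm1.out; have := e2.out; have := e3.out; have := e4.out; have := r45.out; have := r46.out; have := e6.out; have := r64.out; have := r65.out; omega)
        · have t := pc1 q36 c36.out (by have := v3.out; omega)
          clear c36
          rcases t with ⟨⟨⟨rfl, rfl⟩, gw36, ⟨rfl, rfl⟩⟩, rfl⟩ | ⟨⟨⟨rfl, rfl⟩, gw36, ⟨rfl, rfl⟩⟩, rfl⟩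
          · have t := pc3 q45 c45.out (by have := v4.out; have := qn46.out; omega)
            clear c45
            rcases t with ⟨⟨⟨rfl, rfl⟩, gw45, ⟨rfl, rfl⟩⟩, rfl⟩ | ⟨⟨⟨rfl, rfl⟩, gw45, ⟨rfl, rfl⟩⟩, rfl⟩ | ⟨⟨⟨rfl, rfl⟩, gw45, ⟨rfl, rfl⟩⟩, rfl⟩ | ⟨⟨⟨rfl, rfl⟩, gw45, ⟨rfl, rfl⟩⟩, rfl⟩ | ⟨⟨⟨rfl, rfl⟩, gw45, ⟨rfl, rfl⟩⟩, rfl⟩ | ⟨⟨⟨rfl, rfl⟩, gw45, ⟨rfl, rfl⟩⟩, rfl⟩
            · have t := pc3 q46 c46.out (by have := v4.out; omega)
              clear c46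
              rcases t with ⟨⟨⟨rfl, rfl⟩, gw46, ⟨rfl, rfl⟩⟩, rfl⟩ | ⟨⟨⟨rfl, rfl⟩, gw46, ⟨rfl, rfl⟩⟩, rfl⟩ | ⟨⟨⟨rfl, rfl⟩, gw46, ⟨rfl, rfl⟩⟩, rfl⟩ | ⟨⟨⟨rfl, rfl⟩, gw46, ⟨rfl, rfl⟩⟩, rfl⟩ | ⟨⟨⟨rfl, rfl⟩, gw46, ⟨rfl, rfl⟩⟩, rfl⟩ | ⟨⟨⟨rfl, rfl⟩, gw46, ⟨rfl, rfl⟩⟩, rfl⟩
              · have t := pc3 q56 c56.out (by have := v5.out; omega)
                clear c56
                rcases t with ⟨⟨⟨rfl, rfl⟩, gw56, ⟨rfl, rfl⟩⟩, rfl⟩ | ⟨⟨⟨rfl, rfl⟩, gw56, ⟨rfl, rfl⟩⟩, rfl⟩ | ⟨⟨⟨rfl, rfl⟩, gw56, ⟨rfl, rfl⟩⟩, rfl⟩ | ⟨⟨⟨rfl, rfl⟩, gw56, ⟨rfl, rfl⟩⟩, rfl⟩ | ⟨⟨⟨rfl, rfl⟩, gw56, ⟨rfl, rfl⟩⟩, rfl⟩ | ⟨⟨⟨rfl, rfl⟩, gw56, ⟨rfl, rfl⟩⟩, rfl⟩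
                · (have := od6.out; omega)
                · (have := hm2.out; have := e0.out; have := e1.out; have := e2.out; have := e3.out; have := e4.out; have := e5.out; have := e6.out; omega)
                · (have := hm1.out; have := e2.out; have := e3.out; have := e4.out; have := e5.out; have := e6.out; omega)
                · (have := hm1.out; have := e2.out; have := e3.out; have := e4.out; have := e5.out; have := e6.out; omega)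
                · (have := hm1.out; have := om4.out; have := e1.out; have := e3.out; have := e5.out; have := e6.out; omega)
                · (have := hm1.out; have := om4.out; have := e1.out; have := e3.out; have := e5.out; have := e6.out; omega)
              · have t := pc3 q56 c56.out (by have := v5.out; omega)
                clear c56
                rcases t with ⟨⟨⟨rfl, rfl⟩, gw56, ⟨rfl, rfl⟩⟩, rfl⟩ | ⟨⟨⟨rfl, rfl⟩, gw56, ⟨rfl, rfl⟩⟩, rfl⟩ | ⟨⟨⟨rfl, rfl⟩, gw56, ⟨rfl, rfl⟩⟩, rfl⟩ | ⟨⟨⟨rfl, rfl⟩, gw56, ⟨rfl, rfl⟩⟩, rfl⟩ | ⟨⟨⟨rfl, rfl⟩, gw56, ⟨rfl, rfl⟩⟩, rfl⟩ | ⟨⟨⟨rfl, rfl⟩, gw56, ⟨rfl, rfl⟩⟩, rfl⟩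
                · (have := hm2.out; have := e0.out; have := e1.out; have := e2.out; have := e3.out; have := e4.out; have := e5.out; have := e6.out; omega)
                · (have := hm0.out; have := hm5.out; have := e1.out; have := e2.out; have := e3.out; have := e4.out; have := e5.out; have := e6.out; omega)
                · (have := hm1.out; have := om4.out; have := e1.out; have := e3.out; have := e4.out; have := e5.out; have := e6.out; omega)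
                · (have := hm1.out; have := hm5.out; have := e2.out; have := e3.out; have := e4.out; have := e5.out; have := e6.out; omega)
                · (have := hm1.out; have := hm4.out; have := om4.out; have := e1.out; have := e3.out; have := e5.out; have := e6.out; omega)
                · (have := hm1.out; have := hm4.out; have := om4.out; have := e1.out; have := e3.out; have := e5.out; have := e6.out; omega)
              · (have := hm1.out; have := e2.out; have := e3.out; have := e4.out; have := e5.out; have := r56.out; have := e6.out; have := r65.out; omega)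
              · (have := hm1.out; have := e2.out; have := e3.out; have := e4.out; have := e5.out; have := r56.out; have := e6.out; have := r65.out; omega)
              · (have := hm1.out; have := om5.out; have := e1.out; have := e3.out; have := e4.out; have := e6.out; have := r65.out; omega)
              · (have := hm1.out; have := om5.out; have := e1.out; have := e3.out; have := e4.out; have := e6.out; have := r65.out; omega)
            · (have := hm2.out; have := e3.out; have := e4.out; have := r46.out; have := e5.out; have := r56.out; omega)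
            · (have := hm1.out; have := om4.out; have := e1.out; have := e3.out; have := e4.out; have := r46.out; have := e5.out; have := r56.out; omega)
            · (have := hm1.out; have := hm4.out; have := e2.out; have := e3.out; have := e4.out; have := r46.out; have := e5.out; have := r56.out; omega)
            · (have := hm1.out; have := hm4.out; have := om5.out; have := e1.out; have := e3.out; have := e4.out; have := r46.out; have := e5.out; have := r56.out; omega)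
            · (have := hm1.out; have := hm4.out; have := om3.out; have := e1.out; have := e3.out; have := e4.out; have := r46.out; have := e5.out; have := r56.out; omega)
          · (have := hm1.out; have := e2.out; have := e3.out; have := e4.out; have := r45.out; have := r46.out; have := e5.out; have := r54.out; have := r56.out; have := e6.out; have := r64.out; have := r65.out; omega)
        · (have := hm1.out; have := e2.out; have := e3.out; have := r36.out; have := e4.out; have := r45.out; have := r46.out; have := e5.out; have := r54.out; have := r56.out; omega)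
        · (have := hm1.out; have := e2.out; have := e3.out; have := r36.out; have := e4.out; have := r45.out; have := r46.out; have := e5.out; have := r54.out; have := r56.out; omega)
      · have t := pc1 q35 c35.out (by have := v3.out; have := qn36.out; omega)
        clear c35
        rcases t with ⟨⟨⟨rfl, rfl⟩, gw35, ⟨rfl, rfl⟩⟩, rfl⟩ | ⟨⟨⟨rfl, rfl⟩, gw35, ⟨rfl, rfl⟩⟩, rfl⟩
        · have t := pc1 q36 c36.out (by have := v3.out; omega)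
          clear c36
          rcases t with ⟨⟨⟨rfl, rfl⟩, gw36, ⟨rfl, rfl⟩⟩, rfl⟩ | ⟨⟨⟨rfl, rfl⟩, gw36, ⟨rfl, rfl⟩⟩, rfl⟩
          · have t := pc2 q45 c45.out (by have := v4.out; have := qn46.out; omega)
            clear c45
            rcases t with ⟨⟨⟨rfl, rfl⟩, gw45, ⟨rfl, rfl⟩⟩, rfl⟩ | ⟨⟨⟨rfl, rfl⟩, gw45, ⟨rfl, rfl⟩⟩, rfl⟩ | ⟨⟨⟨rfl, rfl⟩, gw45, ⟨rfl, rfl⟩⟩, rfl⟩ | ⟨⟨⟨rfl, rfl⟩, gw45, ⟨rfl, rfl⟩⟩, rfl⟩
            · (have := od5.out; omega)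
            · (have := hm0.out; have := e1.out; have := e2.out; have := e3.out; have := e4.out; have := r46.out; have := e5.out; have := r56.out; omega)
            · (have := hm2.out; have := e3.out; have := e4.out; have := r46.out; have := e5.out; have := r56.out; omega)
            · (have := hm2.out; have := e3.out; have := e4.out; have := r46.out; have := e5.out; have := r56.out; omega)
          · (have := hm1.out; have := e2.out; have := e3.out; have := e4.out; have := r45.out; have := r46.out; have := e6.out; have := r64.out; have := r65.out; omega)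
        · (have := hm1.out; have := e2.out; have := e3.out; have := r36.out; have := e4.out; have := r45.out; have := r46.out; have := e5.out; have := r54.out; have := r56.out; omega)
      · have t := pc1 q35 c35.out (by have := v3.out; have := qn36.out; omega)
        clear c35
        rcases t with ⟨⟨⟨rfl, rfl⟩, gw35, ⟨rfl, rfl⟩⟩, rfl⟩ | ⟨⟨⟨rfl, rfl⟩, gw35, ⟨rfl, rfl⟩⟩, rfl⟩
        · have t := pc1 q36 c36.out (by have := v3.out; omega)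
          clear c36
          rcases t with ⟨⟨⟨rfl, rfl⟩, gw36, ⟨rfl, rfl⟩⟩, rfl⟩ | ⟨⟨⟨rfl, rfl⟩, gw36, ⟨rfl, rfl⟩⟩, rfl⟩
          · have t := pc2 q45 c45.out (by have := v4.out; have := qn46.out; omega)
            clear c45
            rcases t with ⟨⟨⟨rfl, rfl⟩, gw45, ⟨rfl, rfl⟩⟩, rfl⟩ | ⟨⟨⟨rfl, rfl⟩, gw45, ⟨rfl, rfl⟩⟩, rfl⟩ | ⟨⟨⟨rfl, rfl⟩, gw45, ⟨rfl, rfl⟩⟩, rfl⟩ | ⟨⟨⟨rfl, rfl⟩, gw45, ⟨rfl, rfl⟩⟩, rfl⟩
            · (have := od5.out; omega)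
            · (have := hm0.out; have := e1.out; have := e2.out; have := e3.out; have := e4.out; have := r46.out; have := e5.out; have := r56.out; omega)
            · (have := hm2.out; have := e3.out; have := e4.out; have := r46.out; have := e5.out; have := r56.out; omega)
            · (have := hm2.out; have := e3.out; have := e4.out; have := r46.out; have := e5.out; have := r56.out; omega)
          · (have := hm1.out; have := e2.out; have := e3.out; have := e4.out; have := r45.out; have := r46.out; have := e6.out; have := r64.out; have := r65.out; omega)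
        · (have := hm1.out; have := e2.out; have := e3.out; have := r36.out; have := e4.out; have := r45.out; have := r46.out; have := e5.out; have := r54.out; have := r56.out; omega)
      · (have := hm1.out; have := e2.out; have := e3.out; have := r35.out; have := r36.out; have := e4.out; have := r45.out; have := r46.out; omega)
      · (have := hm1.out; have := e2.out; have := e3.out; have := r35.out; have := r36.out; have := e4.out; have := r45.out; have := r46.out; omega)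
    · have t := pc3 q34 c34.out (by have := v3.out; have := qn35.out; have := qn36.out; omega)
      clear c34
      rcases t with ⟨⟨⟨rfl, rfl⟩, gw34, ⟨rfl, rfl⟩⟩, rfl⟩ | ⟨⟨⟨rfl, rfl⟩, gw34, ⟨rfl, rfl⟩⟩, rfl⟩ | ⟨⟨⟨rfl, rfl⟩, gw34, ⟨rfl, rfl⟩⟩, rfl⟩ | ⟨⟨⟨rfl, rfl⟩, gw34, ⟨rfl, rfl⟩⟩, rfl⟩ | ⟨⟨⟨rfl, rfl⟩, gw34, ⟨rfl, rfl⟩⟩, rfl⟩ | ⟨⟨⟨rfl, rfl⟩, gw34, ⟨rfl, rfl⟩⟩, rfl⟩
      · (have := od4.out; omega)
      · have t := pc2 q35 c35.out (by have := v3.out; have := qn36.out; omega)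
        clear c35
        rcases t with ⟨⟨⟨rfl, rfl⟩, gw35, ⟨rfl, rfl⟩⟩, rfl⟩ | ⟨⟨⟨rfl, rfl⟩, gw35, ⟨rfl, rfl⟩⟩, rfl⟩ | ⟨⟨⟨rfl, rfl⟩, gw35, ⟨rfl, rfl⟩⟩, rfl⟩ | ⟨⟨⟨rfl, rfl⟩, gw35, ⟨rfl, rfl⟩⟩, rfl⟩
        · have t := pc2 q36 c36.out (by have := v3.out; omega)
          clear c36
          rcases t with ⟨⟨⟨rfl, rfl⟩, gw36, ⟨rfl, rfl⟩⟩, rfl⟩ | ⟨⟨⟨rfl, rfl⟩, gw36, ⟨rfl, rfl⟩⟩, rfl⟩ | ⟨⟨⟨rfl, rfl⟩, gw36, ⟨rfl, rfl⟩⟩, rfl⟩ | ⟨⟨⟨rfl, rfl⟩, gw36, ⟨rfl, rfl⟩⟩, rfl⟩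
          · have t := pc3 q45 c45.out (by have := v4.out; have := qn46.out; omega)
            clear c45
            rcases t with ⟨⟨⟨rfl, rfl⟩, gw45, ⟨rfl, rfl⟩⟩, rfl⟩ | ⟨⟨⟨rfl, rfl⟩, gw45, ⟨rfl, rfl⟩⟩, rfl⟩ | ⟨⟨⟨rfl, rfl⟩, gw45, ⟨rfl, rfl⟩⟩, rfl⟩ | ⟨⟨⟨rfl, rfl⟩, gw45, ⟨rfl, rfl⟩⟩, rfl⟩ | ⟨⟨⟨rfl, rfl⟩, gw45, ⟨rfl, rfl⟩⟩, rfl⟩ | ⟨⟨⟨rfl, rfl⟩, gw45, ⟨rfl, rfl⟩⟩, rfl⟩
            · (have := od5.out; omega)
            · have t := pc2 q46 c46.out (by have := v4.out; omega)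
              clear c46
              rcases t with ⟨⟨⟨rfl, rfl⟩, gw46, ⟨rfl, rfl⟩⟩, rfl⟩ | ⟨⟨⟨rfl, rfl⟩, gw46, ⟨rfl, rfl⟩⟩, rfl⟩ | ⟨⟨⟨rfl, rfl⟩, gw46, ⟨rfl, rfl⟩⟩, rfl⟩ | ⟨⟨⟨rfl, rfl⟩, gw46, ⟨rfl, rfl⟩⟩, rfl⟩
              · have t := pc3 q56 c56.out (by have := v5.out; omega)
                clear c56
                rcases t with ⟨⟨⟨rfl, rfl⟩, gw56, ⟨rfl, rfl⟩⟩, rfl⟩ | ⟨⟨⟨rfl, rfl⟩, gw56, ⟨rfl, rfl⟩⟩, rfl⟩ | ⟨⟨⟨rfl, rfl⟩, gw56, ⟨rfl, rfl⟩⟩, rfl⟩ | ⟨⟨⟨rfl, rfl⟩, gw56, ⟨rfl, rfl⟩⟩, rfl⟩ | ⟨⟨⟨rfl, rfl⟩, gw56, ⟨rfl, rfl⟩⟩, rfl⟩ | ⟨⟨⟨rfl, rfl⟩, gw56, ⟨rfl, rfl⟩⟩, rfl⟩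
                · (have := hm0.out; have := om5.out; have := e0.out; have := e1.out; have := e2.out; have := e4.out; have := e5.out; have := e6.out; omega)
                · (have := hm0.out; have := hm4.out; have := e1.out; have := e2.out; have := e3.out; have := e4.out; have := e5.out; have := e6.out; omega)
                · (have := hm0.out; have := hm3.out; have := e1.out; have := e2.out; have := e4.out; have := e5.out; have := e6.out; omega)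
                · (have := hm0.out; have := hm3.out; have := e1.out; have := e2.out; have := e4.out; have := e5.out; have := e6.out; omega)
                · (have := hm1.out; have := om3.out; have := e1.out; have := e4.out; have := e5.out; have := e6.out; omega)
                · (have := hm2.out; have := hm3.out; have := e4.out; have := e5.out; have := e6.out; omega)
              · (have := hm1.out; have := hm5.out; have := e2.out; have := e3.out; have := e4.out; have := e6.out; have := r65.out; omega)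
              · (have := hm4.out; have := om4.out; have := e0.out; have := e1.out; have := e2.out; have := e3.out; have := e6.out; have := r65.out; omega)
              · (have := hm0.out; have := hm3.out; have := e1.out; have := e2.out; have := e4.out; have := e5.out; have := r56.out; have := e6.out; have := r65.out; omega)
            · (have := hm0.out; have := e1.out; have := e2.out; have := e3.out; have := e4.out; have := r46.out; have := e5.out; have := r56.out; have := e6.out; have := r64.out; have := r65.out; omega)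
            · (have := hm0.out; have := e1.out; have := e2.out; have := e3.out; have := e4.out; have := r46.out; have := e5.out; have := r56.out; have := e6.out; have := r64.out; have := r65.out; omega)
            · (have := hm2.out; have := e3.out; have := e4.out; have := r46.out; have := e5.out; have := r56.out; omega)
            · (have := hm2.out; have := e3.out; have := e4.out; have := r46.out; have := e5.out; have := r56.out; omega)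
          · (have := hm1.out; have := hm4.out; have := e2.out; have := e3.out; have := e6.out; have := r64.out; have := r65.out; omega)
          · (have := hm1.out; have := hm3.out; have := hm4.out; have := e2.out; have := e3.out; have := e6.out; have := r64.out; have := r65.out; omega)
          · (have := hm1.out; have := om4.out; have := e1.out; have := e2.out; have := e3.out; have := e6.out; have := r64.out; have := r65.out; omega)
        · (have := hm0.out; have := e1.out; have := e2.out; have := e3.out; have := r36.out; have := e4.out; have := r45.out; have := r46.out; have := e5.out; have := r54.out; have := r56.out; have := e6.out; have := r63.out; have := r64.out; have := r65.out; omega)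
        · (have := hm1.out; have := hm6.out; have := e2.out; have := e3.out; have := r36.out; have := e4.out; have := r45.out; have := r46.out; have := e5.out; have := r54.out; have := r56.out; omega)
        · (have := hm1.out; have := hm6.out; have := e2.out; have := e3.out; have := r36.out; have := e4.out; have := r45.out; have := r46.out; have := e5.out; have := r54.out; have := r56.out; omega)
      · (have := hm0.out; have := e1.out; have := e2.out; have := e3.out; have := r35.out; have := r36.out; have := e4.out; have := r45.out; have := r46.out; have := e6.out; have := r63.out; have := r64.out; have := r65.out; omega)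
      · (have := hm0.out; have := e1.out; have := e2.out; have := e3.out; have := r35.out; have := r36.out; have := e4.out; have := r45.out; have := r46.out; have := e6.out; have := r63.out; have := r64.out; have := r65.out; omega)
      · (have := hm1.out; have := hm6.out; have := e2.out; have := e3.out; have := r35.out; have := r36.out; have := e4.out; have := r45.out; have := r46.out; omega)
      · (have := hm4.out; have := om4.out; have := e0.out; have := e1.out; have := e2.out; have := e3.out; have := r35.out; have := r36.out; have := e6.out; have := r63.out; have := r64.out; have := r65.out; omega)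
    · (have := hm0.out; have := e1.out; have := e2.out; have := e3.out; have := r34.out; have := r35.out; have := r36.out; have := e6.out; have := r63.out; have := r64.out; have := r65.out; omega)
    · (have := hm0.out; have := e1.out; have := e2.out; have := e3.out; have := r34.out; have := r35.out; have := r36.out; have := e6.out; have := r63.out; have := r64.out; have := r65.out; omega)
  · have t := pc1 q26 c26.out (by have := v2.out; omega)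
    clear c26
    rcases t with ⟨⟨⟨rfl, rfl⟩, gw26, ⟨rfl, rfl⟩⟩, rfl⟩ | ⟨⟨⟨rfl, rfl⟩, gw26, ⟨rfl, rfl⟩⟩, rfl⟩
    · have t := pc3 q34 c34.out (by have := v3.out; have := qn35.out; have := qn36.out; omega)
      clear c34
      rcases t with ⟨⟨⟨rfl, rfl⟩, gw34, ⟨rfl, rfl⟩⟩, rfl⟩ | ⟨⟨⟨rfl, rfl⟩, gw34, ⟨rfl, rfl⟩⟩, rfl⟩ | ⟨⟨⟨rfl, rfl⟩, gw34, ⟨rfl, rfl⟩⟩, rfl⟩ | ⟨⟨⟨rfl, rfl⟩, gw34, ⟨rfl, rfl⟩⟩, rfl⟩ | ⟨⟨⟨rfl, rfl⟩, gw34, ⟨rfl, rfl⟩⟩, rfl⟩ | ⟨⟨⟨rfl, rfl⟩, gw34, ⟨rfl, rfl⟩⟩, rfl⟩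
      · (have := od4.out; omega)
      · have t := pc2 q35 c35.out (by have := v3.out; have := qn36.out; omega)
        clear c35
        rcases t with ⟨⟨⟨rfl, rfl⟩, gw35, ⟨rfl, rfl⟩⟩, rfl⟩ | ⟨⟨⟨rfl, rfl⟩, gw35, ⟨rfl, rfl⟩⟩, rfl⟩ | ⟨⟨⟨rfl, rfl⟩, gw35, ⟨rfl, rfl⟩⟩, rfl⟩ | ⟨⟨⟨rfl, rfl⟩, gw35, ⟨rfl, rfl⟩⟩, rfl⟩
        · have t := pc2 q36 c36.out (by have := v3.out; omega)
          clear c36
          rcases t with ⟨⟨⟨rfl, rfl⟩, gw36, ⟨rfl, rfl⟩⟩, rfl⟩ | ⟨⟨⟨rfl, rfl⟩, gw36, ⟨rfl, rfl⟩⟩, rfl⟩ | ⟨⟨⟨rfl, rfl⟩, gw36, ⟨rfl, rfl⟩⟩, rfl⟩ | ⟨⟨⟨rfl, rfl⟩, gw36, ⟨rfl, rfl⟩⟩, rfl⟩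
          · have t := pc3 q45 c45.out (by have := v4.out; have := qn46.out; omega)
            clear c45
            rcases t with ⟨⟨⟨rfl, rfl⟩, gw45, ⟨rfl, rfl⟩⟩, rfl⟩ | ⟨⟨⟨rfl, rfl⟩, gw45, ⟨rfl, rfl⟩⟩, rfl⟩ | ⟨⟨⟨rfl, rfl⟩, gw45, ⟨rfl, rfl⟩⟩, rfl⟩ | ⟨⟨⟨rfl, rfl⟩, gw45, ⟨rfl, rfl⟩⟩, rfl⟩ | ⟨⟨⟨rfl, rfl⟩, gw45, ⟨rfl, rfl⟩⟩, rfl⟩ | ⟨⟨⟨rfl, rfl⟩, gw45, ⟨rfl, rfl⟩⟩, rfl⟩
            · have t := pc3 q46 c46.out (by have := v4.out; omega)
              clear c46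
              rcases t with ⟨⟨⟨rfl, rfl⟩, gw46, ⟨rfl, rfl⟩⟩, rfl⟩ | ⟨⟨⟨rfl, rfl⟩, gw46, ⟨rfl, rfl⟩⟩, rfl⟩ | ⟨⟨⟨rfl, rfl⟩, gw46, ⟨rfl, rfl⟩⟩, rfl⟩ | ⟨⟨⟨rfl, rfl⟩, gw46, ⟨rfl, rfl⟩⟩, rfl⟩ | ⟨⟨⟨rfl, rfl⟩, gw46, ⟨rfl, rfl⟩⟩, rfl⟩ | ⟨⟨⟨rfl, rfl⟩, gw46, ⟨rfl, rfl⟩⟩, rfl⟩
              · have t := pc3 q56 c56.out (by have := v5.out; omega)
                clear c56
                rcases t with ⟨⟨⟨rfl, rfl⟩, gw56, ⟨rfl, rfl⟩⟩, rfl⟩ | ⟨⟨⟨rfl, rfl⟩, gw56, ⟨rfl, rfl⟩⟩, rfl⟩ | ⟨⟨⟨rfl, rfl⟩, gw56, ⟨rfl, rfl⟩⟩, rfl⟩ | ⟨⟨⟨rfl, rfl⟩, gw56, ⟨rfl, rfl⟩⟩, rfl⟩ | ⟨⟨⟨rfl, rfl⟩, gw56, ⟨rfl, rfl⟩⟩, rfl⟩ | ⟨⟨⟨rfl, rfl⟩, gw56, ⟨rfl, rfl⟩⟩, rfl⟩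
                · (have := od6.out; omega)
                · have := hm0.out
                  have := hm1.out
                  have := hm2.out
                  have := hm3.out
                  have := hm4.out
                  have := hm5.out
                  have := hm6.out
                  have := e0.out
                  have := e1.out
                  have := e2.out
                  have := e3.out
                  have := e4.out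
                  have := e5.out
                  have := e6.out
                  have := hw0.out
                  have := hw1.out
                  have := hw2.out
                  have := hw3.out
                  have := hw4.out
                  have := hw5.out
                  have := hw6.out
                  have := hs01.out
                  have := hs02.out
                  have := hs03.out
                  have := hs04.out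
                  have := hs05.out
                  have := hs06.out
                  have := hs12.out
                  have := hs13.out
                  have := hs14.out
                  have := hs15.out
                  have := hs16.out
                  have := hs23.out
                  have := hs24.out
                  have := hs25.out
                  have := hs26.out
                  have := hs34.out
                  have := hs35.out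
                  have := hs36.out
                  have := hs45.out
                  have := hs46.out
                  have := hs56.out
                  have := ha00.out
                  have := ha11.out
                  have := ha22.out
                  have := ha33.out
                  have := ha44.out
                  have := ha55.out
                  have := ha66.out
                  have := gw01.out
                  have := gw02.out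
                  have := gw03.out
                  have := gw04.out
                  have := gw05.out
                  have := gw06.out
                  have := gw12.out
                  have := gw13.out
                  have := gw14.out
                  have := gw15.out
                  have := gw16.out
                  have := gw23.out
                  have := gw24.out
                  have := gw25.out
                  have := gw26.out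
                  have := gw34.out
                  have := gw35.out
                  have := gw36.out
                  have := gw45.out
                  have := gw46.out
                  have := gw56.out
                  exact ⟨p0124365, T.m 0, T.w 0, Or.inr (Or.inr (Or.inr (Or.inr (Or.inr (Or.inr (Or.inr ((show T.m 0 = T.m 0 ∧ T.m 1 = 2 * T.m 0 ∧ T.m 2 = 3 * T.m 0 ∧ T.m 4 = T.m 0 ∧ T.m 3 = 2 * T.m 0 ∧ T.m 6 = T.m 0 ∧ T.m 5 = 2 * T.m 0 ∧ T.w 0 = T.w 0 ∧ T.w 1 = T.w 0 ∧ T.w 2 = T.w 0 ∧ T.w 4 = T.w 0 ∧ T.w 3 = T.w 0 ∧ T.w 6 = T.w 0 ∧ T.w 5 = T.w 0 ∧ T.a 0 0 = -2 * T.w 0 ∧ T.a 0 1 = T.w 0 ∧ T.a 0 2 = 0 ∧ T.a 0 4 = 0 ∧ T.a 0 3 = 0 ∧ T.a 0 6 = 0 ∧ T.a 0 5 = 0 ∧ T.a 1 1 = -2 * T.w 0 ∧ T.a 1 2 = T.w 0 ∧ T.a 1 4 = 0 ∧ T.a 1 3 = 0 ∧ T.a 1 6 = 0 ∧ T.a 1 5 = 0 ∧ T.a 2 2 = -2 * T.w 0 ∧ T.a 2 4 = 0 ∧ T.a 2 3 = T.w 0 ∧ T.a 2 6 = 0 ∧ T.a 2 5 = T.w 0 ∧ T.a 4 4 = -2 * T.w 0 ∧ T.a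 4 3 = T.w 0 ∧ T.a 4 6 = 0 ∧ T.a 4 5 = 0 ∧ T.a 3 3 = -2 * T.w 0 ∧ T.a 3 6 = 0 ∧ T.a 3 5 = 0 ∧ T.a 6 6 = -2 * T.w 0 ∧ T.a 6 5 = T.w 0 ∧ T.a 5 5 = -2 * T.w 0 from by omega))))))))⟩
                · (have := hm0.out; have := hm4.out; have := e1.out; have := e2.out; have := e3.out; have := e5.out; have := e6.out; omega)
                · (have := hm0.out; have := hm4.out; have := e1.out; have := e2.out; have := e3.out; have := e5.out; have := e6.out; omega)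
                · (have := hm1.out; have := hm3.out; have := e2.out; have := e5.out; have := e6.out; omega)
                · (have := hm1.out; have := hm3.out; have := e2.out; have := e5.out; have := e6.out; omega)
              · have t := pc3 q56 c56.out (by have := v5.out; omega)
                clear c56
                rcases t with ⟨⟨⟨rfl, rfl⟩, gw56, ⟨rfl, rfl⟩⟩, rfl⟩ | ⟨⟨⟨rfl, rfl⟩, gw56, ⟨rfl, rfl⟩⟩, rfl⟩ | ⟨⟨⟨rfl, rfl⟩, gw56, ⟨rfl, rfl⟩⟩, rfl⟩ | ⟨⟨⟨rfl, rfl⟩, gw56, ⟨rfl, rfl⟩⟩, rfl⟩ | ⟨⟨⟨rfl, rfl⟩, gw56, ⟨rfl, rfl⟩⟩, rfl⟩ | ⟨⟨⟨rfl, rfl⟩, gw56, ⟨rfl, rfl⟩⟩, rfl⟩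
                · (have := hm0.out; have := om6.out; have := e0.out; have := e1.out; have := e2.out; have := e4.out; have := e5.out; have := e6.out; omega)
                · (have := hm0.out; have := hm4.out; have := e1.out; have := e2.out; have := e3.out; have := e4.out; have := e5.out; have := e6.out; omega)
                · (have := hm0.out; have := hm3.out; have := e1.out; have := e2.out; have := e4.out; have := e5.out; have := e6.out; omega)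
                · (have := hm0.out; have := hm3.out; have := e1.out; have := e2.out; have := e4.out; have := e5.out; have := e6.out; omega)
                · (have := hm2.out; have := hm3.out; have := e4.out; have := e5.out; have := e6.out; omega)
                · (have := hm1.out; have := om3.out; have := e1.out; have := e4.out; have := e5.out; have := e6.out; omega)
              · (have := hm0.out; have := e1.out; have := e2.out; have := e3.out; have := e4.out; have := e5.out; have := r56.out; have := e6.out; have := r65.out; omega)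
              · (have := hm0.out; have := e1.out; have := e2.out; have := e3.out; have := e4.out; have := e5.out; have := r56.out; have := e6.out; have := r65.out; omega)
              · (have := hm2.out; have := e3.out; have := e4.out; have := e6.out; have := r65.out; omega)
              · (have := hm2.out; have := e3.out; have := e4.out; have := e6.out; have := r65.out; omega)
            · (have := hm1.out; have := e2.out; have := e3.out; have := e4.out; have := r46.out; have := e5.out; have := r56.out; omega)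
            · (have := hm1.out; have := hm4.out; have := e2.out; have := e3.out; have := e4.out; have := r46.out; have := e5.out; have := r56.out; omega)
            · (have := hm1.out; have := hm5.out; have := e2.out; have := e3.out; have := e4.out; have := r46.out; have := e5.out; have := r56.out; omega)
            · (have := hm2.out; have := e3.out; have := e4.out; have := r46.out; have := e5.out; have := r56.out; omega)
            · (have := hm2.out; have := e3.out; have := e4.out; have := r46.out; have := e5.out; have := r56.out; omega)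
          · (have := hm0.out; have := e1.out; have := e2.out; have := e3.out; have := e4.out; have := r45.out; have := r46.out; have := e5.out; have := r54.out; have := r56.out; have := e6.out; have := r64.out; have := r65.out; omega)
          · (have := hm1.out; have := hm5.out; have := e2.out; have := e3.out; have := e4.out; have := r45.out; have := r46.out; have := e6.out; have := r64.out; have := r65.out; omega)
          · (have := hm1.out; have := hm5.out; have := e2.out; have := e3.out; have := e4.out; have := r45.out; have := r46.out; have := e6.out; have := r64.out; have := r65.out; omega)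
        · (have := hm1.out; have := hm4.out; have := e2.out; have := e3.out; have := r36.out; have := e5.out; have := r54.out; have := r56.out; omega)
        · (have := hm1.out; have := hm3.out; have := hm4.out; have := e2.out; have := e3.out; have := r36.out; have := e5.out; have := r54.out; have := r56.out; omega)
        · (have := hm1.out; have := om4.out; have := e1.out; have := e2.out; have := e3.out; have := r36.out; have := e5.out; have := r54.out; have := r56.out; omega)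
      · (have := hm0.out; have := e1.out; have := e2.out; have := e3.out; have := r35.out; have := r36.out; have := e4.out; have := r45.out; have := r46.out; have := e5.out; have := r53.out; have := r54.out; have := r56.out; omega)
      · (have := hm0.out; have := e1.out; have := e2.out; have := e3.out; have := r35.out; have := r36.out; have := e4.out; have := r45.out; have := r46.out; have := e5.out; have := r53.out; have := r54.out; have := r56.out; omega)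
      · (have := hm1.out; have := hm5.out; have := e2.out; have := e3.out; have := r35.out; have := r36.out; have := e4.out; have := r45.out; have := r46.out; omega)
      · (have := hm4.out; have := om4.out; have := e0.out; have := e1.out; have := e2.out; have := e3.out; have := r35.out; have := r36.out; have := e5.out; have := r53.out; have := r54.out; have := r56.out; omega)
    · (have := hm0.out; have := e1.out; have := e2.out; have := e3.out; have := r34.out; have := r35.out; have := r36.out; have := e5.out; have := r53.out; have := r54.out; have := r56.out; have := e6.out; have := r63.out; have := r64.out; have := r65.out; omega)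
  · (have := hm0.out; have := e1.out; have := e2.out; have := r26.out; have := e3.out; have := r34.out; have := r35.out; have := r36.out; have := e5.out; have := r53.out; have := r54.out; have := r56.out; omega)
  · (have := hm0.out; have := e1.out; have := e2.out; have := r26.out; have := e3.out; have := r34.out; have := r35.out; have := r36.out; have := e5.out; have := r53.out; have := r54.out; have := r56.out; omega)

end Groth.Agent.Lib.helper20.G1n7
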