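import Groth.Agent.Lib.Helper20.G1n7Base

set_option autoImplicit false
set_option linter.unusedVariables false
open Finset
open Models Models.NumericalType

namespace Groth.Agent.Lib.helper20.G1n7

set_option maxHeartbeats 0 in
theorem part30 (T : Models.NumericalType 7) (α06 α12 α13 α14 α15 α16 α21 α23 α24 α25 α26 α31 α32 α34 α35 α36 α41 α42 α43 α45 α46 α51 α52 α53 α54 α56 α60 α61 α62 α63 α64 α65 x06 x12 x13 x14 x15 x16 x21 x23 x24 x25 x26 x31 x32 x34 x35 x36 x41 x42 x43 x45 x46 x51 x52 x53 x54 x56 x60 x61 x62 x63 x64 x65 q06 q12 q13 q14 q15 q16 q23 q24 q25 q26 q34 q35 q36 q45 q46 q56 : ℤ)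
    (hm0 : Hide (0 < T.m 0))
    (hm1 : Hide (0 < T.m 1))
    (hm2 : Hide (0 < T.m 2))
    (hm3 : Hide (0 < T.m 3))
    (hm4 : Hide (0 < T.m 4))
    (hm5 : Hide (0 < T.m 5))
    (hm6 : Hide (0 < T.m 6))
    (om1 : Hide (T.m 0 ≤ T.m 1))
    (om2 : Hide (T.m 0 ≤ T.m 2))
    (om3 : Hide (T.m 0 ≤ T.m 3))
    (om4 : Hide (T.m 0 ≤ T.m 4))
    (om5 : Hide (T.m 0 ≤ T.m 5))
    (om6 : Hide (T.m 0 ≤ T.m 6))
    (e0 : Hide (T.m 1 + (0 : ℤ) + (0 : ℤ) + (0 : ℤ) + T.m 5 + x06 = 2 * T.m 0))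
    (e1 : Hide (T.m 0 + x12 + x13 + x14 + x15 + x16 = 2 * T.m 1))
    (e2 : Hide ((0 : ℤ) + x21 + x23 + x24 + x25 + x26 = 2 * T.m 2))
    (e3 : Hide ((0 : ℤ) + x31 + x32 + x34 + x35 + x36 = 2 * T.m 3))
    (e4 : Hide ((0 : ℤ) + x41 + x42 + x43 + x45 + x46 = 2 * T.m 4))
    (e5 : Hide (T.m 0 + x51 + x52 + x53 + x54 + x56 = 2 * T.m 5))
    (e6 : Hide (x60 + x61 + x62 + x63 + x64 + x65 = 2 * T.m 6))
    (r01 : Hide (0 ≤ T.m 1))
    (r02 : Hide (0 ≤ (0 : ℤ)))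
    (r03 : Hide (0 ≤ (0 : ℤ)))
    (r04 : Hide (0 ≤ (0 : ℤ)))
    (r05 : Hide (0 ≤ T.m 5))
    (r06 : Hide (0 ≤ x06))
    (r10 : Hide (0 ≤ T.m 0))
    (r12 : Hide (0 ≤ x12))
    (r13 : Hide (0 ≤ x13))
    (r14 : Hide (0 ≤ x14))
    (r15 : Hide (0 ≤ x15))
    (r16 : Hide (0 ≤ x16))
    (r20 : Hide (0 ≤ (0 : ℤ)))
    (r21 : Hide (0 ≤ x21))
    (r23 : Hide (0 ≤ x23))
    (r24 : Hide (0 ≤ x24))
    (r25 : Hide (0 ≤ x25))
    (r26 : Hide (0 ≤ x26))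
    (r30 : Hide (0 ≤ (0 : ℤ)))
    (r31 : Hide (0 ≤ x31))
    (r32 : Hide (0 ≤ x32))
    (r34 : Hide (0 ≤ x34))
    (r35 : Hide (0 ≤ x35))
    (r36 : Hide (0 ≤ x36))
    (r40 : Hide (0 ≤ (0 : ℤ)))
    (r41 : Hide (0 ≤ x41))
    (r42 : Hide (0 ≤ x42))
    (r43 : Hide (0 ≤ x43))
    (r45 : Hide (0 ≤ x45))
    (r46 : Hide (0 ≤ x46))
    (r50 : Hide (0 ≤ T.m 0))
    (r51 : Hide (0 ≤ x51))
    (r52 : Hide (0 ≤ x52))
    (r53 : Hide (0 ≤ x53))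
    (r54 : Hide (0 ≤ x54))
    (r56 : Hide (0 ≤ x56))
    (r60 : Hide (0 ≤ x60))
    (r61 : Hide (0 ≤ x61))
    (r62 : Hide (0 ≤ x62))
    (r63 : Hide (0 ≤ x63))
    (r64 : Hide (0 ≤ x64))
    (r65 : Hide (0 ≤ x65))
    (hw0 : Hide (0 < T.w 0))
    (hw1 : Hide (0 < T.w 1))
    (hw2 : Hide (0 < T.w 2))
    (hw3 : Hide (0 < T.w 3))
    (hw4 : Hide (0 < T.w 4))
    (hw5 : Hide (0 < T.w 5))
    (hw6 : Hide (0 < T.w 6))
    (hs01 : Hide (T.a 0 1 = T.a 1 0))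
    (hs02 : Hide (T.a 0 2 = T.a 2 0))
    (hs03 : Hide (T.a 0 3 = T.a 3 0))
    (hs04 : Hide (T.a 0 4 = T.a 4 0))
    (hs05 : Hide (T.a 0 5 = T.a 5 0))
    (hs06 : Hide (T.a 0 6 = T.a 6 0))
    (hs12 : Hide (T.a 1 2 = T.a 2 1))
    (hs13 : Hide (T.a 1 3 = T.a 3 1))
    (hs14 : Hide (T.a 1 4 = T.a 4 1))
    (hs15 : Hide (T.a 1 5 = T.a 5 1))
    (hs16 : Hide (T.a 1 6 = T.a 6 1))
    (hs23 : Hide (T.a 2 3 = T.a 3 2))
    (hs24 : Hide (T.a 2 4 = T.a 4 2))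
    (hs25 : Hide (T.a 2 5 = T.a 5 2))
    (hs26 : Hide (T.a 2 6 = T.a 6 2))
    (hs34 : Hide (T.a 3 4 = T.a 4 3))
    (hs35 : Hide (T.a 3 5 = T.a 5 3))
    (hs36 : Hide (T.a 3 6 = T.a 6 3))
    (hs45 : Hide (T.a 4 5 = T.a 5 4))
    (hs46 : Hide (T.a 4 6 = T.a 6 4))
    (hs56 : Hide (T.a 5 6 = T.a 6 5))
    (ha00 : Hide (T.a 0 0 = -2 * T.w 0))
    (ha11 : Hide (T.a 1 1 = -2 * T.w 1))
    (ha22 : Hide (T.a 2 2 = -2 * T.w 2))
    (ha33 : Hide (T.a 3 3 = -2 * T.w 3))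
    (ha44 : Hide (T.a 4 4 = -2 * T.w 4))
    (ha55 : Hide (T.a 5 5 = -2 * T.w 5))
    (ha66 : Hide (T.a 6 6 = -2 * T.w 6))
    (v0 : Hide ((1 : ℤ) + (0 : ℤ) + (0 : ℤ) + (0 : ℤ) + (1 : ℤ) + q06 ≤ 4))
    (v1 : Hide ((1 : ℤ) + q12 + q13 + q14 + q15 + q16 ≤ 4))
    (v2 : Hide ((0 : ℤ) + q12 + q23 + q24 + q25 + q26 ≤ 4))
    (v3 : Hide ((0 : ℤ) + q13 + q23 + q34 + q35 + q36 ≤ 4))
    (v4 : Hide ((0 : ℤ) + q14 + q24 + q34 + q45 + q46 ≤ 4))
    (v5 : Hide ((1 : ℤ) + q15 + q25 + q35 + q45 + q56 ≤ 4))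
    (v6 : Hide (q06 + q16 + q26 + q36 + q46 + q56 ≤ 4))
    (qn01 : Hide (0 ≤ (1 : ℤ)))
    (qn02 : Hide (0 ≤ (0 : ℤ)))
    (qn03 : Hide (0 ≤ (0 : ℤ)))
    (qn04 : Hide (0 ≤ (0 : ℤ)))
    (qn05 : Hide (0 ≤ (1 : ℤ)))
    (qn06 : Hide (0 ≤ q06))
    (qn12 : Hide (0 ≤ q12))
    (qn13 : Hide (0 ≤ q13))
    (qn14 : Hide (0 ≤ q14))
    (qn15 : Hide (0 ≤ q15))
    (qn16 : Hide (0 ≤ q16))
    (qn23 : Hide (0 ≤ q23))
    (qn24 : Hide (0 ≤ q24))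
    (qn25 : Hide (0 ≤ q25))
    (qn26 : Hide (0 ≤ q26))
    (qn34 : Hide (0 ≤ q34))
    (qn35 : Hide (0 ≤ q35))
    (qn36 : Hide (0 ≤ q36))
    (qn45 : Hide (0 ≤ q45))
    (qn46 : Hide (0 ≤ q46))
    (qn56 : Hide (0 ≤ q56))
    (od1 : Hide (0 < (1 : ℤ)))
    (od2 : Hide (0 < (0 : ℤ) + α12))
    (od3 : Hide (0 < (0 : ℤ) + α13 + α23))
    (od4 : Hide (0 < (0 : ℤ) + α14 + α24 + α34))
    (od5 : Hide (0 < (1 : ℤ) + α15 + α25 + α35 + α45))
    (od6 : Hide (0 < α06 + α16 + α26 + α36 + α46 + α56))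
    (c06 : Hide (((Hide (x06 = 0 ∧ x60 = 0) ∧ Hide (T.a 0 6 = 0 ∧ T.a 6 0 = 0) ∧ Hide (α06 = 0 ∧ α60 = 0)) ∧ q06 = 0) ∨ ((Hide (x06 = T.m 6 ∧ x60 = T.m 0) ∧ Hide (T.a 0 6 = T.w 0 ∧ T.a 6 0 = T.w 6) ∧ Hide (α06 = 1 ∧ α60 = 1)) ∧ q06 = 1) ∨ ((Hide (x06 = T.m 6 ∧ x60 = 2 * T.m 0) ∧ Hide (T.a 0 6 = T.w 0 ∧ T.a 6 0 = 2 * T.w 6) ∧ Hide (α06 = 1 ∧ α60 = 2)) ∧ q06 = 2) ∨ ((Hide (x06 = 2 * T.m 6 ∧ x60 = T.m 0) ∧ Hide (T.a 0 6 = 2 * T.w 0 ∧ T.a 6 0 = T.w 6) ∧ Hide (α06 = 2 ∧ α60 = 1)) ∧ q06 = 2) ∨ ((Hide (x06 = T.m 6 ∧ x60 = 3 * T.m 0) ∧ Hide (T.a 0 6 = T.w 0 ∧ T.a 6 0 = 3 * T.w 6) ∧ Hide (α06 = 1 ∧ α60 = 3)) ∧ q06 = 3) ∨ ((Hide (x06 = 3 * T.m 6 ∧ x60 = T.m 0) ∧ Hide (T.a 0 6 = 3 * T.w 0 ∧ T.a 6 0 = T.w 6) ∧ Hide (α06 = 3 ∧ α60 = 1)) ∧ q06 = 3) ∨ ((Hide (x06 = T.m 6 ∧ x60 = 4 * T.m 0) ∧ Hide (T.a 0 6 = T.w 0 ∧ T.a 6 0 = 4 * T.w 6) ∧ Hide (α06 = 1 ∧ α60 = 4)) ∧ q06 = 4) ∨ ((Hide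 (x06 = 4 * T.m 6 ∧ x60 = T.m 0) ∧ Hide (T.a 0 6 = 4 * T.w 0 ∧ T.a 6 0 = T.w 6) ∧ Hide (α06 = 4 ∧ α60 = 1)) ∧ q06 = 4) ∨ ((Hide (x06 = 2 * T.m 6 ∧ x60 = 2 * T.m 0) ∧ Hide (T.a 0 6 = 2 * T.w 0 ∧ T.a 6 0 = 2 * T.w 6) ∧ Hide (α06 = 2 ∧ α60 = 2)) ∧ q06 = 4)))
    (c12 : Hide (((Hide (x12 = 0 ∧ x21 = 0) ∧ Hide (T.a 1 2 = 0 ∧ T.a 2 1 = 0) ∧ Hide (α12 = 0 ∧ α21 = 0)) ∧ q12 = 0) ∨ ((Hide (x12 = T.m 2 ∧ x21 = T.m 1) ∧ Hide (T.a 1 2 = T.w 1 ∧ T.a 2 1 = T.w 2) ∧ Hide (α12 = 1 ∧ α21 = 1)) ∧ q12 = 1) ∨ ((Hide (x12 = T.m 2 ∧ x21 = 2 * T.m 1) ∧ Hide (T.a 1 2 = T.w 1 ∧ T.a 2 1 = 2 * T.w 2) ∧ Hide (α12 = 1 ∧ α21 = 2)) ∧ q12 = 2) ∨ ((Hide (x12 = 2 * T.m 2 ∧ x21 = T.m 1) ∧ Hide (T.a 1 2 = 2 * T.w 1 ∧ T.a 2 1 = T.w 2) ∧ Hide (α12 = 2 ∧ α21 = 1)) ∧ q12 = 2) ∨ ((Hide (x12 = T.m 2 ∧ x21 = 3 * T.m 1) ∧ Hide (T.a 1 2 = T.w 1 ∧ T.a 2 1 = 3 * T.w 2) ∧ Hide (α12 = 1 ∧ α21 = 3)) ∧ q12 = 3) ∨ ((Hide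 (x12 = 3 * T.m 2 ∧ x21 = T.m 1) ∧ Hide (T.a 1 2 = 3 * T.w 1 ∧ T.a 2 1 = T.w 2) ∧ Hide (α12 = 3 ∧ α21 = 1)) ∧ q12 = 3) ∨ ((Hide (x12 = T.m 2 ∧ x21 = 4 * T.m 1) ∧ Hide (T.a 1 2 = T.w 1 ∧ T.a 2 1 = 4 * T.w 2) ∧ Hide (α12 = 1 ∧ α21 = 4)) ∧ q12 = 4) ∨ ((Hide (x12 = 4 * T.m 2 ∧ x21 = T.m 1) ∧ Hide (T.a 1 2 = 4 * T.w 1 ∧ T.a 2 1 = T.w 2) ∧ Hide (α12 = 4 ∧ α21 = 1)) ∧ q12 = 4) ∨ ((Hide (x12 = 2 * T.m 2 ∧ x21 = 2 * T.m 1) ∧ Hide (T.a 1 2 = 2 * T.w 1 ∧ T.a 2 1 = 2 * T.w 2) ∧ Hide (α12 = 2 ∧ α21 = 2)) ∧ q12 = 4)))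
    (c13 : Hide (((Hide (x13 = 0 ∧ x31 = 0) ∧ Hide (T.a 1 3 = 0 ∧ T.a 3 1 = 0) ∧ Hide (α13 = 0 ∧ α31 = 0)) ∧ q13 = 0) ∨ ((Hide (x13 = T.m 3 ∧ x31 = T.m 1) ∧ Hide (T.a 1 3 = T.w 1 ∧ T.a 3 1 = T.w 3) ∧ Hide (α13 = 1 ∧ α31 = 1)) ∧ q13 = 1) ∨ ((Hide (x13 = T.m 3 ∧ x31 = 2 * T.m 1) ∧ Hide (T.a 1 3 = T.w 1 ∧ T.a 3 1 = 2 * T.w 3) ∧ Hide (α13 = 1 ∧ α31 = 2)) ∧ q13 = 2) ∨ ((Hide (x13 = 2 * T.m 3 ∧ x31 = T.m 1) ∧ Hide (T.a 1 3 = 2 * T.w 1 ∧ T.a 3 1 = T.w 3) ∧ Hide (α13 = 2 ∧ α31 = 1)) ∧ q13 = 2) ∨ ((Hide (x13 = T.m 3 ∧ x31 = 3 * T.m 1) ∧ Hide (T.a 1 3 = T.w 1 ∧ T.a 3 1 = 3 * T.w 3) ∧ Hide (α13 = 1 ∧ α31 = 3)) ∧ q13 = 3) ∨ ((Hide (x13 = 3 * T.m 3 ∧ x31 = T.m 1) ∧ Hide (T.a 1 3 = 3 * T.w 1 ∧ T.a 3 1 = T.w 3) ∧ Hide (α13 = 3 ∧ α31 = 1)) ∧ q13 = 3) ∨ ((Hide (x13 = T.m 3 ∧ x31 = 4 * T.m 1) ∧ Hide (T.a 1 3 = T.w 1 ∧ T.a 3 1 = 4 * T.w 3) ∧ Hide (α13 = 1 ∧ α31 = 4)) ∧ q13 = 4) ∨ ((Hide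 (x13 = 4 * T.m 3 ∧ x31 = T.m 1) ∧ Hide (T.a 1 3 = 4 * T.w 1 ∧ T.a 3 1 = T.w 3) ∧ Hide (α13 = 4 ∧ α31 = 1)) ∧ q13 = 4) ∨ ((Hide (x13 = 2 * T.m 3 ∧ x31 = 2 * T.m 1) ∧ Hide (T.a 1 3 = 2 * T.w 1 ∧ T.a 3 1 = 2 * T.w 3) ∧ Hide (α13 = 2 ∧ α31 = 2)) ∧ q13 = 4)))
    (c14 : Hide (((Hide (x14 = 0 ∧ x41 = 0) ∧ Hide (T.a 1 4 = 0 ∧ T.a 4 1 = 0) ∧ Hide (α14 = 0 ∧ α41 = 0)) ∧ q14 = 0) ∨ ((Hide (x14 = T.m 4 ∧ x41 = T.m 1) ∧ Hide (T.a 1 4 = T.w 1 ∧ T.a 4 1 = T.w 4) ∧ Hide (α14 = 1 ∧ α41 = 1)) ∧ q14 = 1) ∨ ((Hide (x14 = T.m 4 ∧ x41 = 2 * T.m 1) ∧ Hide (T.a 1 4 = T.w 1 ∧ T.a 4 1 = 2 * T.w 4) ∧ Hide (α14 = 1 ∧ α41 = 2)) ∧ q14 = 2) ∨ ((Hide (x14 = 2 * T.m 4 ∧ x41 = T.m 1) ∧ Hide (T.a 1 4 = 2 * T.w 1 ∧ T.a 4 1 = T.w 4) ∧ Hide (α14 = 2 ∧ α41 = 1)) ∧ q14 = 2) ∨ ((Hide (x14 = T.m 4 ∧ x41 = 3 * T.m 1) ∧ Hide (T.a 1 4 = T.w 1 ∧ T.a 4 1 = 3 * T.w 4) ∧ Hide (α14 = 1 ∧ α41 = 3)) ∧ q14 = 3) ∨ ((Hide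 (x14 = 3 * T.m 4 ∧ x41 = T.m 1) ∧ Hide (T.a 1 4 = 3 * T.w 1 ∧ T.a 4 1 = T.w 4) ∧ Hide (α14 = 3 ∧ α41 = 1)) ∧ q14 = 3) ∨ ((Hide (x14 = T.m 4 ∧ x41 = 4 * T.m 1) ∧ Hide (T.a 1 4 = T.w 1 ∧ T.a 4 1 = 4 * T.w 4) ∧ Hide (α14 = 1 ∧ α41 = 4)) ∧ q14 = 4) ∨ ((Hide (x14 = 4 * T.m 4 ∧ x41 = T.m 1) ∧ Hide (T.a 1 4 = 4 * T.w 1 ∧ T.a 4 1 = T.w 4) ∧ Hide (α14 = 4 ∧ α41 = 1)) ∧ q14 = 4) ∨ ((Hide (x14 = 2 * T.m 4 ∧ x41 = 2 * T.m 1) ∧ Hide (T.a 1 4 = 2 * T.w 1 ∧ T.a 4 1 = 2 * T.w 4) ∧ Hide (α14 = 2 ∧ α41 = 2)) ∧ q14 = 4)))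
    (c15 : Hide (((Hide (x15 = 0 ∧ x51 = 0) ∧ Hide (T.a 1 5 = 0 ∧ T.a 5 1 = 0) ∧ Hide (α15 = 0 ∧ α51 = 0)) ∧ q15 = 0) ∨ ((Hide (x15 = T.m 5 ∧ x51 = T.m 1) ∧ Hide (T.a 1 5 = T.w 1 ∧ T.a 5 1 = T.w 5) ∧ Hide (α15 = 1 ∧ α51 = 1)) ∧ q15 = 1) ∨ ((Hide (x15 = T.m 5 ∧ x51 = 2 * T.m 1) ∧ Hide (T.a 1 5 = T.w 1 ∧ T.a 5 1 = 2 * T.w 5) ∧ Hide (α15 = 1 ∧ α51 = 2)) ∧ q15 = 2) ∨ ((Hide (x15 = 2 * T.m 5 ∧ x51 = T.m 1) ∧ Hide (T.a 1 5 = 2 * T.w 1 ∧ T.a 5 1 = T.w 5) ∧ Hide (α15 = 2 ∧ α51 = 1)) ∧ q15 = 2) ∨ ((Hide (x15 = T.m 5 ∧ x51 = 3 * T.m 1) ∧ Hide (T.a 1 5 = T.w 1 ∧ T.a 5 1 = 3 * T.w 5) ∧ Hide (α15 = 1 ∧ α51 = 3)) ∧ q15 = 3) ∨ ((Hide (x15 = 3 * T.m 5 ∧ x51 = T.m 1) ∧ Hide (T.a 1 5 = 3 * T.w 1 ∧ T.a 5 1 = T.w 5) ∧ Hide (α15 = 3 ∧ α51 = 1)) ∧ q15 = 3) ∨ ((Hide (x15 = T.m 5 ∧ x51 = 4 * T.m 1) ∧ Hide (T.a 1 5 = T.w 1 ∧ T.a 5 1 = 4 * T.w 5) ∧ Hide (α15 = 1 ∧ α51 = 4)) ∧ q15 = 4) ∨ ((Hide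 (x15 = 4 * T.m 5 ∧ x51 = T.m 1) ∧ Hide (T.a 1 5 = 4 * T.w 1 ∧ T.a 5 1 = T.w 5) ∧ Hide (α15 = 4 ∧ α51 = 1)) ∧ q15 = 4) ∨ ((Hide (x15 = 2 * T.m 5 ∧ x51 = 2 * T.m 1) ∧ Hide (T.a 1 5 = 2 * T.w 1 ∧ T.a 5 1 = 2 * T.w 5) ∧ Hide (α15 = 2 ∧ α51 = 2)) ∧ q15 = 4)))
    (c16 : Hide (((Hide (x16 = 0 ∧ x61 = 0) ∧ Hide (T.a 1 6 = 0 ∧ T.a 6 1 = 0) ∧ Hide (α16 = 0 ∧ α61 = 0)) ∧ q16 = 0) ∨ ((Hide (x16 = T.m 6 ∧ x61 = T.m 1) ∧ Hide (T.a 1 6 = T.w 1 ∧ T.a 6 1 = T.w 6) ∧ Hide (α16 = 1 ∧ α61 = 1)) ∧ q16 = 1) ∨ ((Hide (x16 = T.m 6 ∧ x61 = 2 * T.m 1) ∧ Hide (T.a 1 6 = T.w 1 ∧ T.a 6 1 = 2 * T.w 6) ∧ Hide (α16 = 1 ∧ α61 = 2)) ∧ q16 = 2) ∨ ((Hide (x16 = 2 * T.m 6 ∧ x61 = T.m 1) ∧ Hide (T.a 1 6 = 2 * T.w 1 ∧ T.a 6 1 = T.w 6) ∧ Hide (α16 = 2 ∧ α61 = 1)) ∧ q16 = 2) ∨ ((Hide (x16 = T.m 6 ∧ x61 = 3 * T.m 1) ∧ Hide (T.a 1 6 = T.w 1 ∧ T.a 6 1 = 3 * T.w 6) ∧ Hide (α16 = 1 ∧ α61 = 3)) ∧ q16 = 3) ∨ ((Hide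 (x16 = 3 * T.m 6 ∧ x61 = T.m 1) ∧ Hide (T.a 1 6 = 3 * T.w 1 ∧ T.a 6 1 = T.w 6) ∧ Hide (α16 = 3 ∧ α61 = 1)) ∧ q16 = 3) ∨ ((Hide (x16 = T.m 6 ∧ x61 = 4 * T.m 1) ∧ Hide (T.a 1 6 = T.w 1 ∧ T.a 6 1 = 4 * T.w 6) ∧ Hide (α16 = 1 ∧ α61 = 4)) ∧ q16 = 4) ∨ ((Hide (x16 = 4 * T.m 6 ∧ x61 = T.m 1) ∧ Hide (T.a 1 6 = 4 * T.w 1 ∧ T.a 6 1 = T.w 6) ∧ Hide (α16 = 4 ∧ α61 = 1)) ∧ q16 = 4) ∨ ((Hide (x16 = 2 * T.m 6 ∧ x61 = 2 * T.m 1) ∧ Hide (T.a 1 6 = 2 * T.w 1 ∧ T.a 6 1 = 2 * T.w 6) ∧ Hide (α16 = 2 ∧ α61 = 2)) ∧ q16 = 4)))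
    (c23 : Hide (((Hide (x23 = 0 ∧ x32 = 0) ∧ Hide (T.a 2 3 = 0 ∧ T.a 3 2 = 0) ∧ Hide (α23 = 0 ∧ α32 = 0)) ∧ q23 = 0) ∨ ((Hide (x23 = T.m 3 ∧ x32 = T.m 2) ∧ Hide (T.a 2 3 = T.w 2 ∧ T.a 3 2 = T.w 3) ∧ Hide (α23 = 1 ∧ α32 = 1)) ∧ q23 = 1) ∨ ((Hide (x23 = T.m 3 ∧ x32 = 2 * T.m 2) ∧ Hide (T.a 2 3 = T.w 2 ∧ T.a 3 2 = 2 * T.w 3) ∧ Hide (α23 = 1 ∧ α32 = 2)) ∧ q23 = 2) ∨ ((Hide (x23 = 2 * T.m 3 ∧ x32 = T.m 2) ∧ Hide (T.a 2 3 = 2 * T.w 2 ∧ T.a 3 2 = T.w 3) ∧ Hide (α23 = 2 ∧ α32 = 1)) ∧ q23 = 2) ∨ ((Hide (x23 = T.m 3 ∧ x32 = 3 * T.m 2) ∧ Hide (T.a 2 3 = T.w 2 ∧ T.a 3 2 = 3 * T.w 3) ∧ Hide (α23 = 1 ∧ α32 = 3)) ∧ q23 = 3) ∨ ((Hide (x23 = 3 * T.m 3 ∧ x32 = T.m 2) ∧ Hide (T.a 2 3 = 3 * T.w 2 ∧ T.a 3 2 = T.w 3) ∧ Hide (α23 = 3 ∧ α32 = 1)) ∧ q23 = 3) ∨ ((Hide (x23 = T.m 3 ∧ x32 = 4 * T.m 2) ∧ Hide (T.a 2 3 = T.w 2 ∧ T.a 3 2 = 4 * T.w 3) ∧ Hide (α23 = 1 ∧ α32 = 4)) ∧ q23 = 4) ∨ ((Hide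 (x23 = 4 * T.m 3 ∧ x32 = T.m 2) ∧ Hide (T.a 2 3 = 4 * T.w 2 ∧ T.a 3 2 = T.w 3) ∧ Hide (α23 = 4 ∧ α32 = 1)) ∧ q23 = 4) ∨ ((Hide (x23 = 2 * T.m 3 ∧ x32 = 2 * T.m 2) ∧ Hide (T.a 2 3 = 2 * T.w 2 ∧ T.a 3 2 = 2 * T.w 3) ∧ Hide (α23 = 2 ∧ α32 = 2)) ∧ q23 = 4)))
    (c24 : Hide (((Hide (x24 = 0 ∧ x42 = 0) ∧ Hide (T.a 2 4 = 0 ∧ T.a 4 2 = 0) ∧ Hide (α24 = 0 ∧ α42 = 0)) ∧ q24 = 0) ∨ ((Hide (x24 = T.m 4 ∧ x42 = T.m 2) ∧ Hide (T.a 2 4 = T.w 2 ∧ T.a 4 2 = T.w 4) ∧ Hide (α24 = 1 ∧ α42 = 1)) ∧ q24 = 1) ∨ ((Hide (x24 = T.m 4 ∧ x42 = 2 * T.m 2) ∧ Hide (T.a 2 4 = T.w 2 ∧ T.a 4 2 = 2 * T.w 4) ∧ Hide (α24 = 1 ∧ α42 = 2)) ∧ q24 = 2) ∨ ((Hide (x24 = 2 * T.m 4 ∧ x42 = T.m 2) ∧ Hide (T.a 2 4 = 2 * T.w 2 ∧ T.a 4 2 = T.w 4) ∧ Hide (α24 = 2 ∧ α42 = 1)) ∧ q24 = 2) ∨ ((Hide (x24 = T.m 4 ∧ x42 = 3 * T.m 2) ∧ Hide (T.a 2 4 = T.w 2 ∧ T.a 4 2 = 3 * T.w 4) ∧ Hide (α24 = 1 ∧ α42 = 3)) ∧ q24 = 3) ∨ ((Hide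 (x24 = 3 * T.m 4 ∧ x42 = T.m 2) ∧ Hide (T.a 2 4 = 3 * T.w 2 ∧ T.a 4 2 = T.w 4) ∧ Hide (α24 = 3 ∧ α42 = 1)) ∧ q24 = 3) ∨ ((Hide (x24 = T.m 4 ∧ x42 = 4 * T.m 2) ∧ Hide (T.a 2 4 = T.w 2 ∧ T.a 4 2 = 4 * T.w 4) ∧ Hide (α24 = 1 ∧ α42 = 4)) ∧ q24 = 4) ∨ ((Hide (x24 = 4 * T.m 4 ∧ x42 = T.m 2) ∧ Hide (T.a 2 4 = 4 * T.w 2 ∧ T.a 4 2 = T.w 4) ∧ Hide (α24 = 4 ∧ α42 = 1)) ∧ q24 = 4) ∨ ((Hide (x24 = 2 * T.m 4 ∧ x42 = 2 * T.m 2) ∧ Hide (T.a 2 4 = 2 * T.w 2 ∧ T.a 4 2 = 2 * T.w 4) ∧ Hide (α24 = 2 ∧ α42 = 2)) ∧ q24 = 4)))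
    (c25 : Hide (((Hide (x25 = 0 ∧ x52 = 0) ∧ Hide (T.a 2 5 = 0 ∧ T.a 5 2 = 0) ∧ Hide (α25 = 0 ∧ α52 = 0)) ∧ q25 = 0) ∨ ((Hide (x25 = T.m 5 ∧ x52 = T.m 2) ∧ Hide (T.a 2 5 = T.w 2 ∧ T.a 5 2 = T.w 5) ∧ Hide (α25 = 1 ∧ α52 = 1)) ∧ q25 = 1) ∨ ((Hide (x25 = T.m 5 ∧ x52 = 2 * T.m 2) ∧ Hide (T.a 2 5 = T.w 2 ∧ T.a 5 2 = 2 * T.w 5) ∧ Hide (α25 = 1 ∧ α52 = 2)) ∧ q25 = 2) ∨ ((Hide (x25 = 2 * T.m 5 ∧ x52 = T.m 2) ∧ Hide (T.a 2 5 = 2 * T.w 2 ∧ T.a 5 2 = T.w 5) ∧ Hide (α25 = 2 ∧ α52 = 1)) ∧ q25 = 2) ∨ ((Hide (x25 = T.m 5 ∧ x52 = 3 * T.m 2) ∧ Hide (T.a 2 5 = T.w 2 ∧ T.a 5 2 = 3 * T.w 5) ∧ Hide (α25 = 1 ∧ α52 = 3)) ∧ q25 = 3) ∨ ((Hide (x25 = 3 * T.m 5 ∧ x52 = T.m 2) ∧ Hide (T.a 2 5 = 3 * T.w 2 ∧ T.a 5 2 = T.w 5) ∧ Hide (α25 = 3 ∧ α52 = 1)) ∧ q25 = 3) ∨ ((Hide (x25 = T.m 5 ∧ x52 = 4 * T.m 2) ∧ Hide (T.a 2 5 = T.w 2 ∧ T.a 5 2 = 4 * T.w 5) ∧ Hide (α25 = 1 ∧ α52 = 4)) ∧ q25 = 4) ∨ ((Hide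 (x25 = 4 * T.m 5 ∧ x52 = T.m 2) ∧ Hide (T.a 2 5 = 4 * T.w 2 ∧ T.a 5 2 = T.w 5) ∧ Hide (α25 = 4 ∧ α52 = 1)) ∧ q25 = 4) ∨ ((Hide (x25 = 2 * T.m 5 ∧ x52 = 2 * T.m 2) ∧ Hide (T.a 2 5 = 2 * T.w 2 ∧ T.a 5 2 = 2 * T.w 5) ∧ Hide (α25 = 2 ∧ α52 = 2)) ∧ q25 = 4)))
    (c26 : Hide (((Hide (x26 = 0 ∧ x62 = 0) ∧ Hide (T.a 2 6 = 0 ∧ T.a 6 2 = 0) ∧ Hide (α26 = 0 ∧ α62 = 0)) ∧ q26 = 0) ∨ ((Hide (x26 = T.m 6 ∧ x62 = T.m 2) ∧ Hide (T.a 2 6 = T.w 2 ∧ T.a 6 2 = T.w 6) ∧ Hide (α26 = 1 ∧ α62 = 1)) ∧ q26 = 1) ∨ ((Hide (x26 = T.m 6 ∧ x62 = 2 * T.m 2) ∧ Hide (T.a 2 6 = T.w 2 ∧ T.a 6 2 = 2 * T.w 6) ∧ Hide (α26 = 1 ∧ α62 = 2)) ∧ q26 = 2) ∨ ((Hide (x26 = 2 * T.m 6 ∧ x62 = T.m 2) ∧ Hide (T.a 2 6 = 2 * T.w 2 ∧ T.a 6 2 = T.w 6) ∧ Hide (α26 = 2 ∧ α62 = 1)) ∧ q26 = 2) ∨ ((Hide (x26 = T.m 6 ∧ x62 = 3 * T.m 2) ∧ Hide (T.a 2 6 = T.w 2 ∧ T.a 6 2 = 3 * T.w 6) ∧ Hide (α26 = 1 ∧ α62 = 3)) ∧ q26 = 3) ∨ ((Hide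 (x26 = 3 * T.m 6 ∧ x62 = T.m 2) ∧ Hide (T.a 2 6 = 3 * T.w 2 ∧ T.a 6 2 = T.w 6) ∧ Hide (α26 = 3 ∧ α62 = 1)) ∧ q26 = 3) ∨ ((Hide (x26 = T.m 6 ∧ x62 = 4 * T.m 2) ∧ Hide (T.a 2 6 = T.w 2 ∧ T.a 6 2 = 4 * T.w 6) ∧ Hide (α26 = 1 ∧ α62 = 4)) ∧ q26 = 4) ∨ ((Hide (x26 = 4 * T.m 6 ∧ x62 = T.m 2) ∧ Hide (T.a 2 6 = 4 * T.w 2 ∧ T.a 6 2 = T.w 6) ∧ Hide (α26 = 4 ∧ α62 = 1)) ∧ q26 = 4) ∨ ((Hide (x26 = 2 * T.m 6 ∧ x62 = 2 * T.m 2) ∧ Hide (T.a 2 6 = 2 * T.w 2 ∧ T.a 6 2 = 2 * T.w 6) ∧ Hide (α26 = 2 ∧ α62 = 2)) ∧ q26 = 4)))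
    (c34 : Hide (((Hide (x34 = 0 ∧ x43 = 0) ∧ Hide (T.a 3 4 = 0 ∧ T.a 4 3 = 0) ∧ Hide (α34 = 0 ∧ α43 = 0)) ∧ q34 = 0) ∨ ((Hide (x34 = T.m 4 ∧ x43 = T.m 3) ∧ Hide (T.a 3 4 = T.w 3 ∧ T.a 4 3 = T.w 4) ∧ Hide (α34 = 1 ∧ α43 = 1)) ∧ q34 = 1) ∨ ((Hide (x34 = T.m 4 ∧ x43 = 2 * T.m 3) ∧ Hide (T.a 3 4 = T.w 3 ∧ T.a 4 3 = 2 * T.w 4) ∧ Hide (α34 = 1 ∧ α43 = 2)) ∧ q34 = 2) ∨ ((Hide (x34 = 2 * T.m 4 ∧ x43 = T.m 3) ∧ Hide (T.a 3 4 = 2 * T.w 3 ∧ T.a 4 3 = T.w 4) ∧ Hide (α34 = 2 ∧ α43 = 1)) ∧ q34 = 2) ∨ ((Hide (x34 = T.m 4 ∧ x43 = 3 * T.m 3) ∧ Hide (T.a 3 4 = T.w 3 ∧ T.a 4 3 = 3 * T.w 4) ∧ Hide (α34 = 1 ∧ α43 = 3)) ∧ q34 = 3) ∨ ((Hide (x34 = 3 * T.m 4 ∧ x43 = T.m 3) ∧ Hide (T.a 3 4 = 3 * T.w 3 ∧ T.a 4 3 = T.w 4) ∧ Hide (α34 = 3 ∧ α43 = 1)) ∧ q34 = 3) ∨ ((Hide (x34 = T.m 4 ∧ x43 = 4 * T.m 3) ∧ Hide (T.a 3 4 = T.w 3 ∧ T.a 4 3 = 4 * T.w 4) ∧ Hide (α34 = 1 ∧ α43 = 4)) ∧ q34 = 4) ∨ ((Hide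 (x34 = 4 * T.m 4 ∧ x43 = T.m 3) ∧ Hide (T.a 3 4 = 4 * T.w 3 ∧ T.a 4 3 = T.w 4) ∧ Hide (α34 = 4 ∧ α43 = 1)) ∧ q34 = 4) ∨ ((Hide (x34 = 2 * T.m 4 ∧ x43 = 2 * T.m 3) ∧ Hide (T.a 3 4 = 2 * T.w 3 ∧ T.a 4 3 = 2 * T.w 4) ∧ Hide (α34 = 2 ∧ α43 = 2)) ∧ q34 = 4)))
    (c35 : Hide (((Hide (x35 = 0 ∧ x53 = 0) ∧ Hide (T.a 3 5 = 0 ∧ T.a 5 3 = 0) ∧ Hide (α35 = 0 ∧ α53 = 0)) ∧ q35 = 0) ∨ ((Hide (x35 = T.m 5 ∧ x53 = T.m 3) ∧ Hide (T.a 3 5 = T.w 3 ∧ T.a 5 3 = T.w 5) ∧ Hide (α35 = 1 ∧ α53 = 1)) ∧ q35 = 1) ∨ ((Hide (x35 = T.m 5 ∧ x53 = 2 * T.m 3) ∧ Hide (T.a 3 5 = T.w 3 ∧ T.a 5 3 = 2 * T.w 5) ∧ Hide (α35 = 1 ∧ α53 = 2)) ∧ q35 = 2) ∨ ((Hide (x35 = 2 * T.m 5 ∧ x53 = T.m 3) ∧ Hide (T.a 3 5 = 2 * T.w 3 ∧ T.a 5 3 = T.w 5) ∧ Hide (α35 = 2 ∧ α53 = 1)) ∧ q35 = 2) ∨ ((Hide (x35 = T.m 5 ∧ x53 = 3 * T.m 3) ∧ Hide (T.a 3 5 = T.w 3 ∧ T.a 5 3 = 3 * T.w 5) ∧ Hide (α35 = 1 ∧ α53 = 3)) ∧ q35 = 3) ∨ ((Hide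 (x35 = 3 * T.m 5 ∧ x53 = T.m 3) ∧ Hide (T.a 3 5 = 3 * T.w 3 ∧ T.a 5 3 = T.w 5) ∧ Hide (α35 = 3 ∧ α53 = 1)) ∧ q35 = 3) ∨ ((Hide (x35 = T.m 5 ∧ x53 = 4 * T.m 3) ∧ Hide (T.a 3 5 = T.w 3 ∧ T.a 5 3 = 4 * T.w 5) ∧ Hide (α35 = 1 ∧ α53 = 4)) ∧ q35 = 4) ∨ ((Hide (x35 = 4 * T.m 5 ∧ x53 = T.m 3) ∧ Hide (T.a 3 5 = 4 * T.w 3 ∧ T.a 5 3 = T.w 5) ∧ Hide (α35 = 4 ∧ α53 = 1)) ∧ q35 = 4) ∨ ((Hide (x35 = 2 * T.m 5 ∧ x53 = 2 * T.m 3) ∧ Hide (T.a 3 5 = 2 * T.w 3 ∧ T.a 5 3 = 2 * T.w 5) ∧ Hide (α35 = 2 ∧ α53 = 2)) ∧ q35 = 4)))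
    (c36 : Hide (((Hide (x36 = 0 ∧ x63 = 0) ∧ Hide (T.a 3 6 = 0 ∧ T.a 6 3 = 0) ∧ Hide (α36 = 0 ∧ α63 = 0)) ∧ q36 = 0) ∨ ((Hide (x36 = T.m 6 ∧ x63 = T.m 3) ∧ Hide (T.a 3 6 = T.w 3 ∧ T.a 6 3 = T.w 6) ∧ Hide (α36 = 1 ∧ α63 = 1)) ∧ q36 = 1) ∨ ((Hide (x36 = T.m 6 ∧ x63 = 2 * T.m 3) ∧ Hide (T.a 3 6 = T.w 3 ∧ T.a 6 3 = 2 * T.w 6) ∧ Hide (α36 = 1 ∧ α63 = 2)) ∧ q36 = 2) ∨ ((Hide (x36 = 2 * T.m 6 ∧ x63 = T.m 3) ∧ Hide (T.a 3 6 = 2 * T.w 3 ∧ T.a 6 3 = T.w 6) ∧ Hide (α36 = 2 ∧ α63 = 1)) ∧ q36 = 2) ∨ ((Hide (x36 = T.m 6 ∧ x63 = 3 * T.m 3) ∧ Hide (T.a 3 6 = T.w 3 ∧ T.a 6 3 = 3 * T.w 6) ∧ Hide (α36 = 1 ∧ α63 = 3)) ∧ q36 = 3) ∨ ((Hide (x36 = 3 * T.m 6 ∧ x63 = T.m 3) ∧ Hide (T.a 3 6 = 3 * T.w 3 ∧ T.a 6 3 = T.w 6) ∧ Hide (α36 = 3 ∧ α63 = 1)) ∧ q36 = 3) ∨ ((Hide (x36 = T.m 6 ∧ x63 = 4 * T.m 3) ∧ Hide (T.a 3 6 = T.w 3 ∧ T.a 6 3 = 4 * T.w 6) ∧ Hide (α36 = 1 ∧ α63 = 4)) ∧ q36 = 4) ∨ ((Hide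 (x36 = 4 * T.m 6 ∧ x63 = T.m 3) ∧ Hide (T.a 3 6 = 4 * T.w 3 ∧ T.a 6 3 = T.w 6) ∧ Hide (α36 = 4 ∧ α63 = 1)) ∧ q36 = 4) ∨ ((Hide (x36 = 2 * T.m 6 ∧ x63 = 2 * T.m 3) ∧ Hide (T.a 3 6 = 2 * T.w 3 ∧ T.a 6 3 = 2 * T.w 6) ∧ Hide (α36 = 2 ∧ α63 = 2)) ∧ q36 = 4)))
    (c45 : Hide (((Hide (x45 = 0 ∧ x54 = 0) ∧ Hide (T.a 4 5 = 0 ∧ T.a 5 4 = 0) ∧ Hide (α45 = 0 ∧ α54 = 0)) ∧ q45 = 0) ∨ ((Hide (x45 = T.m 5 ∧ x54 = T.m 4) ∧ Hide (T.a 4 5 = T.w 4 ∧ T.a 5 4 = T.w 5) ∧ Hide (α45 = 1 ∧ α54 = 1)) ∧ q45 = 1) ∨ ((Hide (x45 = T.m 5 ∧ x54 = 2 * T.m 4) ∧ Hide (T.a 4 5 = T.w 4 ∧ T.a 5 4 = 2 * T.w 5) ∧ Hide (α45 = 1 ∧ α54 = 2)) ∧ q45 = 2) ∨ ((Hide (x45 = 2 * T.m 5 ∧ x54 = T.m 4) ∧ Hide (T.a 4 5 = 2 * T.w 4 ∧ T.a 5 4 = T.w 5) ∧ Hide (α45 = 2 ∧ α54 = 1)) ∧ q45 = 2) ∨ ((Hide (x45 = T.m 5 ∧ x54 = 3 * T.m 4) ∧ Hide (T.a 4 5 = T.w 4 ∧ T.a 5 4 = 3 * T.w 5) ∧ Hide (α45 = 1 ∧ α54 = 3)) ∧ q45 = 3) ∨ ((Hide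 (x45 = 3 * T.m 5 ∧ x54 = T.m 4) ∧ Hide (T.a 4 5 = 3 * T.w 4 ∧ T.a 5 4 = T.w 5) ∧ Hide (α45 = 3 ∧ α54 = 1)) ∧ q45 = 3) ∨ ((Hide (x45 = T.m 5 ∧ x54 = 4 * T.m 4) ∧ Hide (T.a 4 5 = T.w 4 ∧ T.a 5 4 = 4 * T.w 5) ∧ Hide (α45 = 1 ∧ α54 = 4)) ∧ q45 = 4) ∨ ((Hide (x45 = 4 * T.m 5 ∧ x54 = T.m 4) ∧ Hide (T.a 4 5 = 4 * T.w 4 ∧ T.a 5 4 = T.w 5) ∧ Hide (α45 = 4 ∧ α54 = 1)) ∧ q45 = 4) ∨ ((Hide (x45 = 2 * T.m 5 ∧ x54 = 2 * T.m 4) ∧ Hide (T.a 4 5 = 2 * T.w 4 ∧ T.a 5 4 = 2 * T.w 5) ∧ Hide (α45 = 2 ∧ α54 = 2)) ∧ q45 = 4)))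
    (c46 : Hide (((Hide (x46 = 0 ∧ x64 = 0) ∧ Hide (T.a 4 6 = 0 ∧ T.a 6 4 = 0) ∧ Hide (α46 = 0 ∧ α64 = 0)) ∧ q46 = 0) ∨ ((Hide (x46 = T.m 6 ∧ x64 = T.m 4) ∧ Hide (T.a 4 6 = T.w 4 ∧ T.a 6 4 = T.w 6) ∧ Hide (α46 = 1 ∧ α64 = 1)) ∧ q46 = 1) ∨ ((Hide (x46 = T.m 6 ∧ x64 = 2 * T.m 4) ∧ Hide (T.a 4 6 = T.w 4 ∧ T.a 6 4 = 2 * T.w 6) ∧ Hide (α46 = 1 ∧ α64 = 2)) ∧ q46 = 2) ∨ ((Hide (x46 = 2 * T.m 6 ∧ x64 = T.m 4) ∧ Hide (T.a 4 6 = 2 * T.w 4 ∧ T.a 6 4 = T.w 6) ∧ Hide (α46 = 2 ∧ α64 = 1)) ∧ q46 = 2) ∨ ((Hide (x46 = T.m 6 ∧ x64 = 3 * T.m 4) ∧ Hide (T.a 4 6 = T.w 4 ∧ T.a 6 4 = 3 * T.w 6) ∧ Hide (α46 = 1 ∧ α64 = 3)) ∧ q46 = 3) ∨ ((Hide (x46 = 3 * T.m 6 ∧ x64 = T.m 4) ∧ Hide (T.a 4 6 = 3 * T.w 4 ∧ T.a 6 4 = T.w 6) ∧ Hide (α46 = 3 ∧ α64 = 1)) ∧ q46 = 3) ∨ ((Hide (x46 = T.m 6 ∧ x64 = 4 * T.m 4) ∧ Hide (T.a 4 6 = T.w 4 ∧ T.a 6 4 = 4 * T.w 6) ∧ Hide (α46 = 1 ∧ α64 = 4)) ∧ q46 = 4) ∨ ((Hide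 (x46 = 4 * T.m 6 ∧ x64 = T.m 4) ∧ Hide (T.a 4 6 = 4 * T.w 4 ∧ T.a 6 4 = T.w 6) ∧ Hide (α46 = 4 ∧ α64 = 1)) ∧ q46 = 4) ∨ ((Hide (x46 = 2 * T.m 6 ∧ x64 = 2 * T.m 4) ∧ Hide (T.a 4 6 = 2 * T.w 4 ∧ T.a 6 4 = 2 * T.w 6) ∧ Hide (α46 = 2 ∧ α64 = 2)) ∧ q46 = 4)))
    (c56 : Hide (((Hide (x56 = 0 ∧ x65 = 0) ∧ Hide (T.a 5 6 = 0 ∧ T.a 6 5 = 0) ∧ Hide (α56 = 0 ∧ α65 = 0)) ∧ q56 = 0) ∨ ((Hide (x56 = T.m 6 ∧ x65 = T.m 5) ∧ Hide (T.a 5 6 = T.w 5 ∧ T.a 6 5 = T.w 6) ∧ Hide (α56 = 1 ∧ α65 = 1)) ∧ q56 = 1) ∨ ((Hide (x56 = T.m 6 ∧ x65 = 2 * T.m 5) ∧ Hide (T.a 5 6 = T.w 5 ∧ T.a 6 5 = 2 * T.w 6) ∧ Hide (α56 = 1 ∧ α65 = 2)) ∧ q56 = 2) ∨ ((Hide (x56 = 2 * T.m 6 ∧ x65 = T.m 5) ∧ Hide (T.a 5 6 = 2 * T.w 5 ∧ T.a 6 5 = T.w 6) ∧ Hide (α56 = 2 ∧ α65 = 1)) ∧ q56 = 2) ∨ ((Hide (x56 = T.m 6 ∧ x65 = 3 * T.m 5) ∧ Hide (T.a 5 6 = T.w 5 ∧ T.a 6 5 = 3 * T.w 6) ∧ Hide (α56 = 1 ∧ α65 = 3)) ∧ q56 = 3) ∨ ((Hide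 (x56 = 3 * T.m 6 ∧ x65 = T.m 5) ∧ Hide (T.a 5 6 = 3 * T.w 5 ∧ T.a 6 5 = T.w 6) ∧ Hide (α56 = 3 ∧ α65 = 1)) ∧ q56 = 3) ∨ ((Hide (x56 = T.m 6 ∧ x65 = 4 * T.m 5) ∧ Hide (T.a 5 6 = T.w 5 ∧ T.a 6 5 = 4 * T.w 6) ∧ Hide (α56 = 1 ∧ α65 = 4)) ∧ q56 = 4) ∨ ((Hide (x56 = 4 * T.m 6 ∧ x65 = T.m 5) ∧ Hide (T.a 5 6 = 4 * T.w 5 ∧ T.a 6 5 = T.w 6) ∧ Hide (α56 = 4 ∧ α65 = 1)) ∧ q56 = 4) ∨ ((Hide (x56 = 2 * T.m 6 ∧ x65 = 2 * T.m 5) ∧ Hide (T.a 5 6 = 2 * T.w 5 ∧ T.a 6 5 = 2 * T.w 6) ∧ Hide (α56 = 2 ∧ α65 = 2)) ∧ q56 = 4)))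
    (gw01 : Hide (T.a 0 1 = T.w 0 ∧ T.a 1 0 = T.w 1))
    (gw02 : Hide (T.a 0 2 = 0 ∧ T.a 2 0 = 0))
    (gw03 : Hide (T.a 0 3 = 0 ∧ T.a 3 0 = 0))
    (gw04 : Hide (T.a 0 4 = 0 ∧ T.a 4 0 = 0))
    (gw05 : Hide (T.a 0 5 = T.w 0 ∧ T.a 5 0 = T.w 5)) : Goal T := by
  have t := pc2 q06 c06.out (by have := v0.out; omega)
  clear c06
  rcases t with ⟨⟨⟨rfl, rfl⟩, gw06, ⟨rfl, rfl⟩⟩, rfl⟩ | ⟨⟨⟨rfl, rfl⟩, gw06, ⟨rfl, rfl⟩⟩, rfl⟩ | ⟨⟨⟨rfl, rfl⟩, gw06, ⟨rfl, rfl⟩⟩, rfl⟩ | ⟨⟨⟨rfl, rfl⟩, gw06, ⟨rfl, rfl⟩⟩, rfl⟩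
  · have t := pc3 q12 c12.out (by have := v1.out; have := qn13.out; have := qn14.out; have := qn15.out; have := qn16.out; omega)
    clear c12
    rcases t with ⟨⟨⟨rfl, rfl⟩, gw12, ⟨rfl, rfl⟩⟩, rfl⟩ | ⟨⟨⟨rfl, rfl⟩, gw12, ⟨rfl, rfl⟩⟩, rfl⟩ | ⟨⟨⟨rfl, rfl⟩, gw12, ⟨rfl, rfl⟩⟩, rfl⟩ | ⟨⟨⟨rfl, rfl⟩, gw12, ⟨rfl, rfl⟩⟩, rfl⟩ | ⟨⟨⟨rfl, rfl⟩, gw12, ⟨rfl, rfl⟩⟩, rfl⟩ | ⟨⟨⟨rfl, rfl⟩, gw12, ⟨rfl, rfl⟩⟩, rfl⟩
    · (have := od2.out; omega)
    · have t := pc2 q13 c13.out (by have := v1.out; have := qn14.out; have := qn15.out; have := qn16.out; omega)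
      clear c13
      rcases t with ⟨⟨⟨rfl, rfl⟩, gw13, ⟨rfl, rfl⟩⟩, rfl⟩ | ⟨⟨⟨rfl, rfl⟩, gw13, ⟨rfl, rfl⟩⟩, rfl⟩ | ⟨⟨⟨rfl, rfl⟩, gw13, ⟨rfl, rfl⟩⟩, rfl⟩ | ⟨⟨⟨rfl, rfl⟩, gw13, ⟨rfl, rfl⟩⟩, rfl⟩
      · have t := pc2 q14 c14.out (by have := v1.out; have := qn15.out; have := qn16.out; omega)
        clear c14
        rcases t with ⟨⟨⟨rfl, rfl⟩, gw14, ⟨rfl, rfl⟩⟩, rfl⟩ | ⟨⟨⟨rfl, rfl⟩, gw14, ⟨rfl, rfl⟩⟩, rfl⟩ | ⟨⟨⟨rfl, rfl⟩, gw14, ⟨rfl, rfl⟩⟩, rfl⟩ | ⟨⟨⟨rfl, rfl⟩, gw14, ⟨rfl, rfl⟩⟩, rfl⟩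
        · have t := pc2 q15 c15.out (by have := v1.out; have := qn16.out; omega)
          clear c15
          rcases t with ⟨⟨⟨rfl, rfl⟩, gw15, ⟨rfl, rfl⟩⟩, rfl⟩ | ⟨⟨⟨rfl, rfl⟩, gw15, ⟨rfl, rfl⟩⟩, rfl⟩ | ⟨⟨⟨rfl, rfl⟩, gw15, ⟨rfl, rfl⟩⟩, rfl⟩ | ⟨⟨⟨rfl, rfl⟩, gw15, ⟨rfl, rfl⟩⟩, rfl⟩
          · have t := pc2 q16 c16.out (by have := v1.out; omega)
            clear c16
            rcases t with ⟨⟨⟨rfl, rfl⟩, gw16, ⟨rfl, rfl⟩⟩, rfl⟩ | ⟨⟨⟨rfl, rfl⟩, gw16, ⟨rfl, rfl⟩⟩, rfl⟩ | ⟨⟨⟨rfl, rfl⟩, gw16, ⟨rfl, rfl⟩⟩, rfl⟩ | ⟨⟨⟨rfl, rfl⟩, gw16, ⟨rfl, rfl⟩⟩, rfl⟩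
            · have t := pc3 q23 c23.out (by have := v2.out; have := qn24.out; have := qn25.out; have := qn26.out; omega)
              clear c23
              rcases t with ⟨⟨⟨rfl, rfl⟩, gw23, ⟨rfl, rfl⟩⟩, rfl⟩ | ⟨⟨⟨rfl, rfl⟩, gw23, ⟨rfl, rfl⟩⟩, rfl⟩ | ⟨⟨⟨rfl, rfl⟩, gw23, ⟨rfl, rfl⟩⟩, rfl⟩ | ⟨⟨⟨rfl, rfl⟩, gw23, ⟨rfl, rfl⟩⟩, rfl⟩ | ⟨⟨⟨rfl, rfl⟩, gw23, ⟨rfl, rfl⟩⟩, rfl⟩ | ⟨⟨⟨rfl, rfl⟩, gw23, ⟨rfl, rfl⟩⟩, rfl⟩
              · (have := od3.out; omega)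
              · have t := pc2 q24 c24.out (by have := v2.out; have := qn25.out; have := qn26.out; omega)
                clear c24
                rcases t with ⟨⟨⟨rfl, rfl⟩, gw24, ⟨rfl, rfl⟩⟩, rfl⟩ | ⟨⟨⟨rfl, rfl⟩, gw24, ⟨rfl, rfl⟩⟩, rfl⟩ | ⟨⟨⟨rfl, rfl⟩, gw24, ⟨rfl, rfl⟩⟩, rfl⟩ | ⟨⟨⟨rfl, rfl⟩, gw24, ⟨rfl, rfl⟩⟩, rfl⟩
                · have t := pc2 q25 c25.out (by have := v2.out; have := qn26.out; omega)
                  clear c25
                  rcases t with ⟨⟨⟨rfl, rfl⟩, gw25, ⟨rfl, rfl⟩⟩, rfl⟩ | ⟨⟨⟨rfl, rfl⟩, gw25, ⟨rfl, rfl⟩⟩, rfl⟩ | ⟨⟨⟨rfl, rfl⟩, gw25, ⟨rfl, rfl⟩⟩, rfl⟩ | ⟨⟨⟨rfl, rfl⟩, gw25, ⟨rfl, rfl⟩⟩, rfl⟩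
                  · have t := pc2 q26 c26.out (by have := v2.out; omega)
                    clear c26
                    rcases t with ⟨⟨⟨rfl, rfl⟩, gw26, ⟨rfl, rfl⟩⟩, rfl⟩ | ⟨⟨⟨rfl, rfl⟩, gw26, ⟨rfl, rfl⟩⟩, rfl⟩ | ⟨⟨⟨rfl, rfl⟩, gw26, ⟨rfl, rfl⟩⟩, rfl⟩ | ⟨⟨⟨rfl, rfl⟩, gw26, ⟨rfl, rfl⟩⟩, rfl⟩
                    · have t := pc3 q34 c34.out (by have := v3.out; have := qn35.out; have := qn36.out; omega)
                      clear c34
                      rcases t with ⟨⟨⟨rfl, rfl⟩, gw34, ⟨rfl, rfl⟩⟩, rfl⟩ | ⟨⟨⟨rfl, rfl⟩, gw34, ⟨rfl, rfl⟩⟩, rfl⟩ | ⟨⟨⟨rfl, rfl⟩, gw34, ⟨rfl, rfl⟩⟩, rfl⟩ | ⟨⟨⟨rfl, rfl⟩, gw34, ⟨rfl, rfl⟩⟩, rfl⟩ | ⟨⟨⟨rfl, rfl⟩, gw34, ⟨rfl, rfl⟩⟩, rfl⟩ | ⟨⟨⟨rfl, rfl⟩, gw34, ⟨rfl, rfl⟩⟩, rfl⟩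
                      · (have := od4.out; omega)
                      · have t := pc2 q35 c35.out (by have := v3.out; have := qn36.out; omega)
                        clear c35
                        rcases t with ⟨⟨⟨rfl, rfl⟩, gw35, ⟨rfl, rfl⟩⟩, rfl⟩ | ⟨⟨⟨rfl, rfl⟩, gw35, ⟨rfl, rfl⟩⟩, rfl⟩ | ⟨⟨⟨rfl, rfl⟩, gw35, ⟨rfl, rfl⟩⟩, rfl⟩ | ⟨⟨⟨rfl, rfl⟩, gw35, ⟨rfl, rfl⟩⟩, rfl⟩
                        · have t := pc2 q36 c36.out (by have := v3.out; omega)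
                          clear c36
                          rcases t with ⟨⟨⟨rfl, rfl⟩, gw36, ⟨rfl, rfl⟩⟩, rfl⟩ | ⟨⟨⟨rfl, rfl⟩, gw36, ⟨rfl, rfl⟩⟩, rfl⟩ | ⟨⟨⟨rfl, rfl⟩, gw36, ⟨rfl, rfl⟩⟩, rfl⟩ | ⟨⟨⟨rfl, rfl⟩, gw36, ⟨rfl, rfl⟩⟩, rfl⟩
                          · have t := pc3 q45 c45.out (by have := v4.out; have := qn46.out; omega)
                            clear c45
                            rcases t with ⟨⟨⟨rfl, rfl⟩, gw45, ⟨rfl, rfl⟩⟩, rfl⟩ | ⟨⟨⟨rfl, rfl⟩, gw45, ⟨rfl, rfl⟩⟩, rfl⟩ | ⟨⟨⟨rfl, rfl⟩, gw45, ⟨rfl, rfl⟩⟩, rfl⟩ | ⟨⟨⟨rfl, rfl⟩, gw45, ⟨rfl, rfl⟩⟩, rfl⟩ | ⟨⟨⟨rfl, rfl⟩, gw45, ⟨rfl, rfl⟩⟩, rfl⟩ | ⟨⟨⟨rfl, rfl⟩, gw45, ⟨rfl, rfl⟩⟩, rfl⟩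
                            · have t := pc3 q46 c46.out (by have := v4.out; omega)
                              clear c46
                              rcases t with ⟨⟨⟨rfl, rfl⟩, gw46, ⟨rfl, rfl⟩⟩, rfl⟩ | ⟨⟨⟨rfl, rfl⟩, gw46, ⟨rfl, rfl⟩⟩, rfl⟩ | ⟨⟨⟨rfl, rfl⟩, gw46, ⟨rfl, rfl⟩⟩, rfl⟩ | ⟨⟨⟨rfl, rfl⟩, gw46, ⟨rfl, rfl⟩⟩, rfl⟩ | ⟨⟨⟨rfl, rfl⟩, gw46, ⟨rfl, rfl⟩⟩, rfl⟩ | ⟨⟨⟨rfl, rfl⟩, gw46, ⟨rfl, rfl⟩⟩, rfl⟩
                              · (have := hm5.out; have := om3.out; have := e0.out; have := e2.out; have := e3.out; have := e4.out; omega)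
                              · have t := pc3 q56 c56.out (by have := v5.out; omega)
                                clear c56
                                rcases t with ⟨⟨⟨rfl, rfl⟩, gw56, ⟨rfl, rfl⟩⟩, rfl⟩ | ⟨⟨⟨rfl, rfl⟩, gw56, ⟨rfl, rfl⟩⟩, rfl⟩ | ⟨⟨⟨rfl, rfl⟩, gw56, ⟨rfl, rfl⟩⟩, rfl⟩ | ⟨⟨⟨rfl, rfl⟩, gw56, ⟨rfl, rfl⟩⟩, rfl⟩ | ⟨⟨⟨rfl, rfl⟩, gw56, ⟨rfl, rfl⟩⟩, rfl⟩ | ⟨⟨⟨rfl, rfl⟩, gw56, ⟨rfl, rfl⟩⟩, rfl⟩
                                · (have := hm0.out; have := om5.out; have := e5.out; omega)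
                                · have := hm0.out
                                  have := hm1.out
                                  have := hm2.out
                                  have := hm3.out
                                  have := hm4.out
                                  have := hm5.out
                                  have := hm6.out
                                  have := e0.out
                                  have := e1.out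
                                  have := e2.out
                                  have := e3.out
                                  have := e4.out
                                  have := e5.out
                                  have := e6.out
                                  have := hw0.out
                                  have := hw1.out
                                  have := hw2.out
                                  have := hw3.out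
                                  have := hw4.out
                                  have := hw5.out
                                  have := hw6.out
                                  have := hs01.out
                                  have := hs02.out
                                  have := hs03.out
                                  have := hs04.out
                                  have := hs05.out
                                  have := hs06.out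
                                  have := hs12.out
                                  have := hs13.out
                                  have := hs14.out
                                  have := hs15.out
                                  have := hs16.out
                                  have := hs23.out
                                  have := hs24.out
                                  have := hs25.out
                                  have := hs26.out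
                                  have := hs34.out
                                  have := hs35.out
                                  have := hs36.out
                                  have := hs45.out
                                  have := hs46.out
                                  have := hs56.out
                                  have := ha00.out
                                  have := ha11.out
                                  have := ha22.out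
                                  have := ha33.out
                                  have := ha44.out
                                  have := ha55.out
                                  have := ha66.out
                                  have := gw01.out
                                  have := gw02.out
                                  have := gw03.out
                                  have := gw04.out
                                  have := gw05.out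
                                  have := gw06.out
                                  have := gw12.out
                                  have := gw13.out
                                  have := gw14.out
                                  have := gw15.out
                                  have := gw16.out
                                  have := gw23.out
                                  have := gw24.out
                                  have := gw25.out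
                                  have := gw26.out
                                  have := gw34.out
                                  have := gw35.out
                                  have := gw36.out
                                  have := gw45.out
                                  have := gw46.out
                                  have := gw56.out
                                  exact ⟨p0123465, T.m 0, T.w 0, Or.inl ((show T.m 0 = T.m 0 ∧ T.m 1 = T.m 0 ∧ T.m 2 = T.m 0 ∧ T.m 3 = T.m 0 ∧ T.m 4 = T.m 0 ∧ T.m 6 = T.m 0 ∧ T.m 5 = T.m 0 ∧ T.w 0 = T.w 0 ∧ T.w 1 = T.w 0 ∧ T.w 2 = T.w 0 ∧ T.w 3 = T.w 0 ∧ T.w 4 = T.w 0 ∧ T.w 6 = T.w 0 ∧ T.w 5 = T.w 0 ∧ T.a 0 0 = -2 * T.w 0 ∧ T.a 0 1 = T.w 0 ∧ T.a 0 2 = 0 ∧ T.a 0 3 = 0 ∧ T.a 0 4 = 0 ∧ T.a 0 6 = 0 ∧ T.a 0 5 = T.w 0 ∧ T.a 1 1 = -2 * T.w 0 ∧ T.a 1 2 = T.w 0 ∧ T.a 1 3 = 0 ∧ T.a 1 4 = 0 ∧ T.a 1 6 = 0 ∧ T.a 1 5 = 0 ∧ T.a 2 2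 = -2 * T.w 0 ∧ T.a 2 3 = T.w 0 ∧ T.a 2 4 = 0 ∧ T.a 2 6 = 0 ∧ T.a 2 5 = 0 ∧ T.a 3 3 = -2 * T.w 0 ∧ T.a 3 4 = T.w 0 ∧ T.a 3 6 = 0 ∧ T.a 3 5 = 0 ∧ T.a 4 4 = -2 * T.w 0 ∧ T.a 4 6 = T.w 0 ∧ T.a 4 5 = 0 ∧ T.a 6 6 = -2 * T.w 0 ∧ T.a 6 5 = T.w 0 ∧ T.a 5 5 = -2 * T.w 0 from by omega))⟩
                                · (have := hm4.out; have := om2.out; have := e0.out; have := e1.out; have := e5.out; have := e6.out; omega)
                                · (have := hm2.out; have := om6.out; have := e0.out; have := e1.out; have := e5.out; omega)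
                                · (have := hm1.out; have := hm4.out; have := e0.out; have := e5.out; have := e6.out; omega)
                                · (have := hm1.out; have := om6.out; have := e0.out; have := e5.out; omega)
                              · have t := pc2 q56 c56.out (by have := v6.out; omega)
                                clear c56
                                rcases t with ⟨⟨⟨rfl, rfl⟩, gw56, ⟨rfl, rfl⟩⟩, rfl⟩ | ⟨⟨⟨rfl, rfl⟩, gw56, ⟨rfl, rfl⟩⟩, rfl⟩ | ⟨⟨⟨rfl, rfl⟩, gw56, ⟨rfl, rfl⟩⟩, rfl⟩ | ⟨⟨⟨rfl, rfl⟩, gw56, ⟨rfl, rfl⟩⟩, rfl⟩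
                                · (have := hm0.out; have := om5.out; have := e5.out; omega)
                                · (have := hm4.out; have := e0.out; have := e1.out; have := e2.out; have := e3.out; have := e4.out; have := e5.out; have := e6.out; omega)
                                · (have := hm2.out; have := hm4.out; have := e0.out; have := e2.out; have := e4.out; have := e5.out; have := e6.out; omega)
                                · (have := hm2.out; have := e1.out; have := e2.out; have := e4.out; have := e5.out; have := e6.out; omega)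
                              · (have := hm0.out; have := om5.out; have := om6.out; have := e0.out; have := e1.out; have := e2.out; have := e3.out; have := e4.out; omega)
                              · (have := hm2.out; have := e3.out; have := e4.out; have := e6.out; have := r65.out; omega)
                              · (have := hm2.out; have := e3.out; have := e4.out; have := e6.out; have := r65.out; omega)
                            · have t := pc2 q46 c46.out (by have := v4.out; omega)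
                              clear c46
                              rcases t with ⟨⟨⟨rfl, rfl⟩, gw46, ⟨rfl, rfl⟩⟩, rfl⟩ | ⟨⟨⟨rfl, rfl⟩, gw46, ⟨rfl, rfl⟩⟩, rfl⟩ | ⟨⟨⟨rfl, rfl⟩, gw46, ⟨rfl, rfl⟩⟩, rfl⟩ | ⟨⟨⟨rfl, rfl⟩, gw46, ⟨rfl, rfl⟩⟩, rfl⟩
                              · have t := pc2 q56 c56.out (by have := v5.out; omega)
                                clear c56
                                rcases t with ⟨⟨⟨rfl, rfl⟩, gw56, ⟨rfl, rfl⟩⟩, rfl⟩ | ⟨⟨⟨rfl, rfl⟩, gw56, ⟨rfl, rfl⟩⟩, rfl⟩ | ⟨⟨⟨rfl, rfl⟩, gw56, ⟨rfl, rfl⟩⟩, rfl⟩ | ⟨⟨⟨rfl, rfl⟩, gw56, ⟨rfl, rfl⟩⟩, rfl⟩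
                                · (have := od6.out; omega)
                                · (have := hm6.out; have := om3.out; have := e0.out; have := e1.out; have := e3.out; have := e5.out; omega)
                                · (have := hm6.out; have := om3.out; have := e0.out; have := e1.out; have := e3.out; have := e5.out; omega)
                                · (have := hm6.out; have := om3.out; have := e0.out; have := e1.out; have := e3.out; have := e5.out; omega)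
                              · (have := hm6.out; have := om1.out; have := e0.out; have := e1.out; have := e3.out; have := e4.out; have := e5.out; have := r56.out; omega)
                              · (have := hm1.out; have := e1.out; have := e3.out; have := e4.out; have := e5.out; have := r56.out; have := e6.out; have := r65.out; omega)
                              · (have := hm1.out; have := e1.out; have := e3.out; have := e4.out; have := e5.out; have := r56.out; have := e6.out; have := r65.out; omega)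
                            · (have := hm3.out; have := om1.out; have := e0.out; have := e4.out; have := r46.out; have := e5.out; have := r56.out; omega)
                            · (have := hm3.out; have := om1.out; have := e0.out; have := e4.out; have := r46.out; have := e5.out; have := r56.out; omega)
                            · (have := hm1.out; have := om4.out; have := e0.out; have := e5.out; have := r56.out; omega)
                            · (have := hm1.out; have := hm3.out; have := e0.out; have := e4.out; have := r46.out; have := e5.out; have := r56.out; omega)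
                          · (have := hm4.out; have := om5.out; have := om6.out; have := e0.out; have := e1.out; have := e2.out; have := e3.out; omega)
                          · (have := hm4.out; have := om5.out; have := om6.out; have := e0.out; have := e1.out; have := e2.out; have := e3.out; omega)
                          · (have := hm6.out; have := om4.out; have := om5.out; have := e0.out; have := e1.out; have := e2.out; have := e3.out; omega)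
                        · (have := hm4.out; have := om1.out; have := om2.out; have := e0.out; have := e3.out; have := r36.out; have := e5.out; have := r54.out; have := r56.out; omega)
                        · (have := hm0.out; have := om2.out; have := e0.out; have := e2.out; have := e5.out; have := r54.out; have := r56.out; omega)
                        · (have := hm0.out; have := om1.out; have := e2.out; have := e3.out; have := r36.out; have := e4.out; have := r45.out; have := r46.out; have := e5.out; have := r54.out; have := r56.out; omega)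
                      · have t := pc1 q35 c35.out (by have := v3.out; have := qn36.out; omega)
                        clear c35
                        rcases t with ⟨⟨⟨rfl, rfl⟩, gw35, ⟨rfl, rfl⟩⟩, rfl⟩ | ⟨⟨⟨rfl, rfl⟩, gw35, ⟨rfl, rfl⟩⟩, rfl⟩
                        · have t := pc1 q36 c36.out (by have := v3.out; omega)
                          clear c36
                          rcases t with ⟨⟨⟨rfl, rfl⟩, gw36, ⟨rfl, rfl⟩⟩, rfl⟩ | ⟨⟨⟨rfl, rfl⟩, gw36, ⟨rfl, rfl⟩⟩, rfl⟩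
                          · have t := pc2 q45 c45.out (by have := v4.out; have := qn46.out; omega)
                            clear c45
                            rcases t with ⟨⟨⟨rfl, rfl⟩, gw45, ⟨rfl, rfl⟩⟩, rfl⟩ | ⟨⟨⟨rfl, rfl⟩, gw45, ⟨rfl, rfl⟩⟩, rfl⟩ | ⟨⟨⟨rfl, rfl⟩, gw45, ⟨rfl, rfl⟩⟩, rfl⟩ | ⟨⟨⟨rfl, rfl⟩, gw45, ⟨rfl, rfl⟩⟩, rfl⟩
                            · have t := pc2 q46 c46.out (by have := v4.out; omega)
                              clear c46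
                              rcases t with ⟨⟨⟨rfl, rfl⟩, gw46, ⟨rfl, rfl⟩⟩, rfl⟩ | ⟨⟨⟨rfl, rfl⟩, gw46, ⟨rfl, rfl⟩⟩, rfl⟩ | ⟨⟨⟨rfl, rfl⟩, gw46, ⟨rfl, rfl⟩⟩, rfl⟩ | ⟨⟨⟨rfl, rfl⟩, gw46, ⟨rfl, rfl⟩⟩, rfl⟩
                              · have t := pc3 q56 c56.out (by have := v5.out; omega)
                                clear c56
                                rcases t with ⟨⟨⟨rfl, rfl⟩, gw56, ⟨rfl, rfl⟩⟩, rfl⟩ | ⟨⟨⟨rfl, rfl⟩, gw56, ⟨rfl, rfl⟩⟩, rfl⟩ | ⟨⟨⟨rfl, rfl⟩, gw56, ⟨rfl, rfl⟩⟩, rfl⟩ | ⟨⟨⟨rfl, rfl⟩, gw56, ⟨rfl, rfl⟩⟩, rfl⟩ | ⟨⟨⟨rfl, rfl⟩, gw56, ⟨rfl, rfl⟩⟩, rfl⟩ | ⟨⟨⟨rfl, rfl⟩, gw56, ⟨rfl, rfl⟩⟩, rfl⟩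
                                · (have := od6.out; omega)
                                · (have := hm0.out; have := om5.out; have := e5.out; have := e6.out; omega)
                                · have := hm0.out
                                  have := hm1.out
                                  have := hm2.out
                                  have := hm3.out
                                  have := hm4.out
                                  have := hm5.out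
                                  have := hm6.out
                                  have := e0.out
                                  have := e1.out
                                  have := e2.out
                                  have := e3.out
                                  have := e4.out
                                  have := e5.out
                                  have := e6.out
                                  have := hw0.out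
                                  have := hw1.out
                                  have := hw2.out
                                  have := hw3.out
                                  have := hw4.out
                                  have := hw5.out
                                  have := hw6.out
                                  have := hs01.out
                                  have := hs02.out
                                  have := hs03.out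
                                  have := hs04.out
                                  have := hs05.out
                                  have := hs06.out
                                  have := hs12.out
                                  have := hs13.out
                                  have := hs14.out
                                  have := hs15.out
                                  have := hs16.out
                                  have := hs23.out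
                                  have := hs24.out
                                  have := hs25.out
                                  have := hs26.out
                                  have := hs34.out
                                  have := hs35.out
                                  have := hs36.out
                                  have := hs45.out
                                  have := hs46.out
                                  have := hs56.out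
                                  have := ha00.out
                                  have := ha11.out
                                  have := ha22.out
                                  have := ha33.out
                                  have := ha44.out
                                  have := ha55.out
                                  have := ha66.out
                                  have := gw01.out
                                  have := gw02.out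
                                  have := gw03.out
                                  have := gw04.out
                                  have := gw05.out
                                  have := gw06.out
                                  have := gw12.out
                                  have := gw13.out
                                  have := gw14.out
                                  have := gw15.out
                                  have := gw16.out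
                                  have := gw23.out
                                  have := gw24.out
                                  have := gw25.out
                                  have := gw26.out
                                  have := gw34.out
                                  have := gw35.out
                                  have := gw36.out
                                  have := gw45.out
                                  have := gw46.out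
                                  have := gw56.out
                                  exact ⟨p4321056, T.m 4, T.w 4, Or.inr (Or.inr (Or.inl ((show T.m 4 = T.m 4 ∧ T.m 3 = T.m 4 ∧ T.m 2 = T.m 4 ∧ T.m 1 = T.m 4 ∧ T.m 0 = T.m 4 ∧ T.m 5 = T.m 4 ∧ T.m 6 = T.m 4 ∧ T.w 4 = T.w 4 ∧ T.w 3 = 2 * T.w 4 ∧ T.w 2 = 2 * T.w 4 ∧ T.w 1 = 2 * T.w 4 ∧ T.w 0 = 2 * T.w 4 ∧ T.w 5 = 2 * T.w 4 ∧ T.w 6 = T.w 4 ∧ T.a 4 4 = -2 * T.w 4 ∧ T.a 4 3 = 2 * T.w 4 ∧ T.a 4 2 = 0 ∧ T.a 4 1 = 0 ∧ T.a 4 0 = 0 ∧ T.a 4 5 = 0 ∧ T.a 4 6 = 0 ∧ T.a 3 3 = -4 * T.w 4 ∧ T.a 3 2 = 2 * T.w 4 ∧ T.a 3 1 = 0 ∧ T.a 3 0 = 0 ∧ T.a 3 5 = 0 ∧ T.a 3 6 = 0 ∧ T.a 2 2 = -4 * T.w 4 ∧ T.a 2 1 = 2 * T.w 4 ∧ T.a 2 0 = 0 ∧ T.a 2 5 = 0 ∧ T.a 2 6 = 0 ∧ T.a 1 1 = -4 * T.w 4 ∧ T.a 1 0 = 2 * T.w 4 ∧ T.a 1 5 = 0 ∧ T.a 1 6 = 0 ∧ T.a 0 0 = -4 * T.w 4 ∧ T.a 0 5 = 2 * T.w 4 ∧ T.a 0 6 = 0 ∧ T.a 5 5 = -4 * T.w 4 ∧ T.a 5 6 = 2 * T.w 4 ∧ T.a 6 6 =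 -2 * T.w 4 from by omega))))⟩
                                · (have := hm0.out; have := om6.out; have := e5.out; have := e6.out; omega)
                                · (have := hm1.out; have := e0.out; have := e5.out; have := e6.out; omega)
                                · (have := hm1.out; have := om6.out; have := e0.out; have := e5.out; omega)
                              · (have := hm6.out; have := om5.out; have := e0.out; have := e1.out; have := e2.out; have := e3.out; have := e4.out; omega)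
                              · (have := hm2.out; have := e3.out; have := e4.out; have := e6.out; have := r65.out; omega)
                              · (have := hm2.out; have := e3.out; have := e4.out; have := e6.out; have := r65.out; omega)
                            · (have := hm0.out; have := om1.out; have := om3.out; have := e0.out; have := e4.out; have := r46.out; have := e5.out; have := r56.out; omega)
                            · (have := hm3.out; have := om1.out; have := e0.out; have := e4.out; have := r46.out; have := e5.out; have := r56.out; omega)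
                            · (have := hm3.out; have := om1.out; have := e0.out; have := e4.out; have := r46.out; have := e5.out; have := r56.out; omega)
                          · (have := hm4.out; have := om5.out; have := om6.out; have := e0.out; have := e1.out; have := e2.out; have := e3.out; omega)
                        · (have := hm4.out; have := om1.out; have := om2.out; have := e0.out; have := e3.out; have := r36.out; have := e5.out; have := r54.out; have := r56.out; omega)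
                      · (have := hm5.out; have := om4.out; have := om5.out; have := e0.out; have := e1.out; have := e2.out; have := e3.out; have := r35.out; have := r36.out; omega)
                      · (have := hm1.out; have := e2.out; have := e3.out; have := r35.out; have := r36.out; have := e4.out; have := r45.out; have := r46.out; omega)
                      · (have := hm1.out; have := e2.out; have := e3.out; have := r35.out; have := r36.out; have := e4.out; have := r45.out; have := r46.out; omega)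
                    · (have := hm3.out; have := om5.out; have := om6.out; have := e0.out; have := e1.out; have := e2.out; omega)
                    · (have := hm3.out; have := om5.out; have := om6.out; have := e0.out; have := e1.out; have := e2.out; omega)
                    · (have := hm6.out; have := om3.out; have := om5.out; have := e0.out; have := e1.out; have := e2.out; omega)
                  · (have := hm3.out; have := om1.out; have := e0.out; have := e2.out; have := r26.out; have := e5.out; have := r53.out; have := r54.out; have := r56.out; omega)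
                  · (have := hm2.out; have := om1.out; have := e0.out; have := e1.out; have := e5.out; have := r53.out; have := r54.out; have := r56.out; omega)
                  · (have := hm0.out; have := e1.out; have := e2.out; have := r26.out; have := e3.out; have := r34.out; have := r35.out; have := r36.out; have := e5.out; have := r53.out; have := r54.out; have := r56.out; omega)
                · (have := hm3.out; have := om4.out; have := om5.out; have := e0.out; have := e1.out; have := e2.out; have := r25.out; have := r26.out; omega)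
                · (have := hm3.out; have := om4.out; have := om5.out; have := e0.out; have := e1.out; have := e2.out; have := r25.out; have := r26.out; omega)
                · (have := hm4.out; have := om3.out; have := om5.out; have := e0.out; have := e1.out; have := e2.out; have := r25.out; have := r26.out; omega)
              · have t := pc1 q24 c24.out (by have := v2.out; have := qn25.out; have := qn26.out; omega)
                clear c24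
                rcases t with ⟨⟨⟨rfl, rfl⟩, gw24, ⟨rfl, rfl⟩⟩, rfl⟩ | ⟨⟨⟨rfl, rfl⟩, gw24, ⟨rfl, rfl⟩⟩, rfl⟩
                · have t := pc1 q25 c25.out (by have := v2.out; have := qn26.out; omega)
                  clear c25
                  rcases t with ⟨⟨⟨rfl, rfl⟩, gw25, ⟨rfl, rfl⟩⟩, rfl⟩ | ⟨⟨⟨rfl, rfl⟩, gw25, ⟨rfl, rfl⟩⟩, rfl⟩
                  · have t := pc1 q26 c26.out (by have := v2.out; omega)
                    clear c26
                    rcases t with ⟨⟨⟨rfl, rfl⟩, gw26, ⟨rfl, rfl⟩⟩, rfl⟩ | ⟨⟨⟨rfl, rfl⟩, gw26, ⟨rfl, rfl⟩⟩, rfl⟩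
                    · have t := pc2 q34 c34.out (by have := v3.out; have := qn35.out; have := qn36.out; omega)
                      clear c34
                      rcases t with ⟨⟨⟨rfl, rfl⟩, gw34, ⟨rfl, rfl⟩⟩, rfl⟩ | ⟨⟨⟨rfl, rfl⟩, gw34, ⟨rfl, rfl⟩⟩, rfl⟩ | ⟨⟨⟨rfl, rfl⟩, gw34, ⟨rfl, rfl⟩⟩, rfl⟩ | ⟨⟨⟨rfl, rfl⟩, gw34, ⟨rfl, rfl⟩⟩, rfl⟩
                      · (have := od4.out; omega)
                      · (have := hm4.out; have := om5.out; have := e0.out; have := e1.out; have := e2.out; have := e3.out; have := r35.out; have := r36.out; omega)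
                      · (have := hm4.out; have := om5.out; have := e0.out; have := e1.out; have := e2.out; have := e3.out; have := r35.out; have := r36.out; omega)
                      · (have := hm4.out; have := om5.out; have := e0.out; have := e1.out; have := e2.out; have := e3.out; have := r35.out; have := r36.out; omega)
                    · (have := hm3.out; have := om5.out; have := om6.out; have := e0.out; have := e1.out; have := e2.out; omega)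
                  · (have := hm0.out; have := e1.out; have := e2.out; have := r26.out; have := e3.out; have := r34.out; have := r35.out; have := r36.out; have := e5.out; have := r53.out; have := r54.out; have := r56.out; omega)
                · (have := hm3.out; have := om4.out; have := om5.out; have := e0.out; have := e1.out; have := e2.out; have := r25.out; have := r26.out; omega)
              · (have := hm5.out; have := om3.out; have := om5.out; have := e0.out; have := e1.out; have := e2.out; have := r24.out; have := r25.out; have := r26.out; omega)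
              · (have := hm0.out; have := e1.out; have := e2.out; have := r24.out; have := r25.out; have := r26.out; have := e3.out; have := r34.out; have := r35.out; have := r36.out; omega)
              · (have := hm0.out; have := e1.out; have := e2.out; have := r24.out; have := r25.out; have := r26.out; have := e3.out; have := r34.out; have := r35.out; have := r36.out; omega)
            · (have := hm2.out; have := om5.out; have := om6.out; have := e0.out; have := e1.out; omega)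
            · (have := hm2.out; have := om5.out; have := om6.out; have := e0.out; have := e1.out; omega)
            · (have := hm5.out; have := om2.out; have := om6.out; have := e0.out; have := e1.out; omega)
          · (have := hm2.out; have := om5.out; have := e0.out; have := e1.out; have := r16.out; omega)
          · (have := hm2.out; have := om5.out; have := e0.out; have := e1.out; have := r16.out; omega)
          · (have := hm1.out; have := om2.out; have := e0.out; have := e1.out; have := r16.out; have := e5.out; have := r52.out; have := r53.out; have := r54.out; have := r56.out; omega)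
        · (have := hm2.out; have := om4.out; have := om5.out; have := e0.out; have := e1.out; have := r15.out; have := r16.out; omega)
        · (have := hm2.out; have := om4.out; have := om5.out; have := e0.out; have := e1.out; have := r15.out; have := r16.out; omega)
        · (have := hm5.out; have := om2.out; have := om4.out; have := e0.out; have := e1.out; have := r15.out; have := r16.out; omega)
      · (have := hm2.out; have := om3.out; have := om5.out; have := e0.out; have := e1.out; have := r14.out; have := r15.out; have := r16.out; omega)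
      · (have := hm2.out; have := om3.out; have := om5.out; have := e0.out; have := e1.out; have := r14.out; have := r15.out; have := r16.out; omega)
      · (have := hm5.out; have := om2.out; have := om3.out; have := e0.out; have := e1.out; have := r14.out; have := r15.out; have := r16.out; omega)
    · have t := pc1 q13 c13.out (by have := v1.out; have := qn14.out; have := qn15.out; have := qn16.out; omega)
      clear c13
      rcases t with ⟨⟨⟨rfl, rfl⟩, gw13, ⟨rfl, rfl⟩⟩, rfl⟩ | ⟨⟨⟨rfl, rfl⟩, gw13, ⟨rfl, rfl⟩⟩, rfl⟩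
      · have t := pc1 q14 c14.out (by have := v1.out; have := qn15.out; have := qn16.out; omega)
        clear c14
        rcases t with ⟨⟨⟨rfl, rfl⟩, gw14, ⟨rfl, rfl⟩⟩, rfl⟩ | ⟨⟨⟨rfl, rfl⟩, gw14, ⟨rfl, rfl⟩⟩, rfl⟩
        · have t := pc1 q15 c15.out (by have := v1.out; have := qn16.out; omega)
          clear c15
          rcases t with ⟨⟨⟨rfl, rfl⟩, gw15, ⟨rfl, rfl⟩⟩, rfl⟩ | ⟨⟨⟨rfl, rfl⟩, gw15, ⟨rfl, rfl⟩⟩, rfl⟩
          · have t := pc1 q16 c16.out (by have := v1.out; omega)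
            clear c16
            rcases t with ⟨⟨⟨rfl, rfl⟩, gw16, ⟨rfl, rfl⟩⟩, rfl⟩ | ⟨⟨⟨rfl, rfl⟩, gw16, ⟨rfl, rfl⟩⟩, rfl⟩
            · have t := pc2 q23 c23.out (by have := v2.out; have := qn24.out; have := qn25.out; have := qn26.out; omega)
              clear c23
              rcases t with ⟨⟨⟨rfl, rfl⟩, gw23, ⟨rfl, rfl⟩⟩, rfl⟩ | ⟨⟨⟨rfl, rfl⟩, gw23, ⟨rfl, rfl⟩⟩, rfl⟩ | ⟨⟨⟨rfl, rfl⟩, gw23, ⟨rfl, rfl⟩⟩, rfl⟩ | ⟨⟨⟨rfl, rfl⟩, gw23, ⟨rfl, rfl⟩⟩, rfl⟩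
              · (have := od3.out; omega)
              · (have := hm3.out; have := om5.out; have := e0.out; have := e1.out; have := e2.out; have := r24.out; have := r25.out; have := r26.out; omega)
              · (have := hm3.out; have := om5.out; have := e0.out; have := e1.out; have := e2.out; have := r24.out; have := r25.out; have := r26.out; omega)
              · (have := hm0.out; have := e1.out; have := e2.out; have := r24.out; have := r25.out; have := r26.out; have := e3.out; have := r34.out; have := r35.out; have := r36.out; omega)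
            · (have := hm2.out; have := om5.out; have := om6.out; have := e0.out; have := e1.out; omega)
          · (have := hm2.out; have := om5.out; have := e0.out; have := e1.out; have := r16.out; omega)
        · (have := hm2.out; have := om4.out; have := om5.out; have := e0.out; have := e1.out; have := r15.out; have := r16.out; omega)
      · (have := hm2.out; have := om3.out; have := om5.out; have := e0.out; have := e1.out; have := r14.out; have := r15.out; have := r16.out; omega)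
    · (have := hm5.out; have := om2.out; have := om5.out; have := e0.out; have := e1.out; have := r13.out; have := r14.out; have := r15.out; have := r16.out; omega)
    · (have := hm5.out; have := e0.out; have := e1.out; have := r13.out; have := r14.out; have := r15.out; have := r16.out; have := e2.out; have := r23.out; have := r24.out; have := r25.out; have := r26.out; omega)
    · (have := hm5.out; have := om2.out; have := e0.out; have := e1.out; have := r13.out; have := r14.out; have := r15.out; have := r16.out; omega)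
  · (have := hm1.out; have := om5.out; have := om6.out; have := e0.out; omega)
  · (have := hm1.out; have := om5.out; have := om6.out; have := e0.out; omega)
  · (have := hm1.out; have := om5.out; have := e0.out; have := e6.out; have := r61.out; have := r62.out; have := r63.out; have := r64.out; have := r65.out; omega)

end Groth.Agent.Lib.helper20.G1n7
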