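import Groth.Agent.Lib.Helper20.G1n7Base

set_option autoImplicit false
set_option linter.unusedVariables false
open Finset
open Models Models.NumericalType

namespace Groth.Agent.Lib.helper20.G1n7

set_option maxHeartbeats 0 in
theorem part34 (T : Models.NumericalType 7) (α25 α26 α34 α35 α36 α43 α45 α46 α52 α53 α54 α56 α62 α63 α64 α65 x25 x26 x34 x35 x36 x43 x45 x46 x52 x53 x54 x56 x62 x63 x64 x65 q25 q26 q34 q35 q36 q45 q46 q56 : ℤ)
    (hm0 : Hide (0 < T.m 0))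
    (hm1 : Hide (0 < T.m 1))
    (hm2 : Hide (0 < T.m 2))
    (hm3 : Hide (0 < T.m 3))
    (hm4 : Hide (0 < T.m 4))
    (hm5 : Hide (0 < T.m 5))
    (hm6 : Hide (0 < T.m 6))
    (om1 : Hide (T.m 0 ≤ T.m 1))
    (om2 : Hide (T.m 0 ≤ T.m 2))
    (om3 : Hide (T.m 0 ≤ T.m 3))
    (om4 : Hide (T.m 0 ≤ T.m 4))
    (om5 : Hide (T.m 0 ≤ T.m 5))
    (om6 : Hide (T.m 0 ≤ T.m 6))
    (e0 : Hide (T.m 1 + (0 : ℤ) + T.m 3 + (0 : ℤ) + (0 : ℤ) + (0 : ℤ) = 2 * T.m 0))
    (e1 : Hide (T.m 0 + T.m 2 + (0 : ℤ) + (0 : ℤ) + (0 : ℤ) + (0 : ℤ) = 2 * T.m 1))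
    (e2 : Hide ((0 : ℤ) + T.m 1 + (0 : ℤ) + (0 : ℤ) + x25 + x26 = 2 * T.m 2))
    (e3 : Hide (T.m 0 + (0 : ℤ) + (0 : ℤ) + x34 + x35 + x36 = 2 * T.m 3))
    (e4 : Hide ((0 : ℤ) + (0 : ℤ) + (0 : ℤ) + x43 + x45 + x46 = 2 * T.m 4))
    (e5 : Hide ((0 : ℤ) + (0 : ℤ) + x52 + x53 + x54 + x56 = 2 * T.m 5))
    (e6 : Hide ((0 : ℤ) + (0 : ℤ) + x62 + x63 + x64 + x65 = 2 * T.m 6))
    (r01 : Hide (0 ≤ T.m 1))
    (r02 : Hide (0 ≤ (0 : ℤ)))
    (r03 : Hide (0 ≤ T.m 3))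
    (r04 : Hide (0 ≤ (0 : ℤ)))
    (r05 : Hide (0 ≤ (0 : ℤ)))
    (r06 : Hide (0 ≤ (0 : ℤ)))
    (r10 : Hide (0 ≤ T.m 0))
    (r12 : Hide (0 ≤ T.m 2))
    (r13 : Hide (0 ≤ (0 : ℤ)))
    (r14 : Hide (0 ≤ (0 : ℤ)))
    (r15 : Hide (0 ≤ (0 : ℤ)))
    (r16 : Hide (0 ≤ (0 : ℤ)))
    (r20 : Hide (0 ≤ (0 : ℤ)))
    (r21 : Hide (0 ≤ T.m 1))
    (r23 : Hide (0 ≤ (0 : ℤ)))
    (r24 : Hide (0 ≤ (0 : ℤ)))
    (r25 : Hide (0 ≤ x25))
    (r26 : Hide (0 ≤ x26))
    (r30 : Hide (0 ≤ T.m 0))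
    (r31 : Hide (0 ≤ (0 : ℤ)))
    (r32 : Hide (0 ≤ (0 : ℤ)))
    (r34 : Hide (0 ≤ x34))
    (r35 : Hide (0 ≤ x35))
    (r36 : Hide (0 ≤ x36))
    (r40 : Hide (0 ≤ (0 : ℤ)))
    (r41 : Hide (0 ≤ (0 : ℤ)))
    (r42 : Hide (0 ≤ (0 : ℤ)))
    (r43 : Hide (0 ≤ x43))
    (r45 : Hide (0 ≤ x45))
    (r46 : Hide (0 ≤ x46))
    (r50 : Hide (0 ≤ (0 : ℤ)))
    (r51 : Hide (0 ≤ (0 : ℤ)))
    (r52 : Hide (0 ≤ x52))
    (r53 : Hide (0 ≤ x53))
    (r54 : Hide (0 ≤ x54))
    (r56 : Hide (0 ≤ x56))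
    (r60 : Hide (0 ≤ (0 : ℤ)))
    (r61 : Hide (0 ≤ (0 : ℤ)))
    (r62 : Hide (0 ≤ x62))
    (r63 : Hide (0 ≤ x63))
    (r64 : Hide (0 ≤ x64))
    (r65 : Hide (0 ≤ x65))
    (hw0 : Hide (0 < T.w 0))
    (hw1 : Hide (0 < T.w 1))
    (hw2 : Hide (0 < T.w 2))
    (hw3 : Hide (0 < T.w 3))
    (hw4 : Hide (0 < T.w 4))
    (hw5 : Hide (0 < T.w 5))
    (hw6 : Hide (0 < T.w 6))
    (hs01 : Hide (T.a 0 1 = T.a 1 0))
    (hs02 : Hide (T.a 0 2 = T.a 2 0))
    (hs03 : Hide (T.a 0 3 = T.a 3 0))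
    (hs04 : Hide (T.a 0 4 = T.a 4 0))
    (hs05 : Hide (T.a 0 5 = T.a 5 0))
    (hs06 : Hide (T.a 0 6 = T.a 6 0))
    (hs12 : Hide (T.a 1 2 = T.a 2 1))
    (hs13 : Hide (T.a 1 3 = T.a 3 1))
    (hs14 : Hide (T.a 1 4 = T.a 4 1))
    (hs15 : Hide (T.a 1 5 = T.a 5 1))
    (hs16 : Hide (T.a 1 6 = T.a 6 1))
    (hs23 : Hide (T.a 2 3 = T.a 3 2))
    (hs24 : Hide (T.a 2 4 = T.a 4 2))
    (hs25 : Hide (T.a 2 5 = T.a 5 2))
    (hs26 : Hide (T.a 2 6 = T.a 6 2))
    (hs34 : Hide (T.a 3 4 = T.a 4 3))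
    (hs35 : Hide (T.a 3 5 = T.a 5 3))
    (hs36 : Hide (T.a 3 6 = T.a 6 3))
    (hs45 : Hide (T.a 4 5 = T.a 5 4))
    (hs46 : Hide (T.a 4 6 = T.a 6 4))
    (hs56 : Hide (T.a 5 6 = T.a 6 5))
    (ha00 : Hide (T.a 0 0 = -2 * T.w 0))
    (ha11 : Hide (T.a 1 1 = -2 * T.w 1))
    (ha22 : Hide (T.a 2 2 = -2 * T.w 2))
    (ha33 : Hide (T.a 3 3 = -2 * T.w 3))
    (ha44 : Hide (T.a 4 4 = -2 * T.w 4))
    (ha55 : Hide (T.a 5 5 = -2 * T.w 5))
    (ha66 : Hide (T.a 6 6 = -2 * T.w 6))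
    (v0 : Hide ((1 : ℤ) + (0 : ℤ) + (1 : ℤ) + (0 : ℤ) + (0 : ℤ) + (0 : ℤ) ≤ 4))
    (v1 : Hide ((1 : ℤ) + (1 : ℤ) + (0 : ℤ) + (0 : ℤ) + (0 : ℤ) + (0 : ℤ) ≤ 4))
    (v2 : Hide ((0 : ℤ) + (1 : ℤ) + (0 : ℤ) + (0 : ℤ) + q25 + q26 ≤ 4))
    (v3 : Hide ((1 : ℤ) + (0 : ℤ) + (0 : ℤ) + q34 + q35 + q36 ≤ 4))
    (v4 : Hide ((0 : ℤ) + (0 : ℤ) + (0 : ℤ) + q34 + q45 + q46 ≤ 4))
    (v5 : Hide ((0 : ℤ) + (0 : ℤ) + q25 + q35 + q45 + q56 ≤ 4))
    (v6 : Hide ((0 : ℤ) + (0 : ℤ) + q26 + q36 + q46 + q56 ≤ 4))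
    (qn01 : Hide (0 ≤ (1 : ℤ)))
    (qn02 : Hide (0 ≤ (0 : ℤ)))
    (qn03 : Hide (0 ≤ (1 : ℤ)))
    (qn04 : Hide (0 ≤ (0 : ℤ)))
    (qn05 : Hide (0 ≤ (0 : ℤ)))
    (qn06 : Hide (0 ≤ (0 : ℤ)))
    (qn12 : Hide (0 ≤ (1 : ℤ)))
    (qn13 : Hide (0 ≤ (0 : ℤ)))
    (qn14 : Hide (0 ≤ (0 : ℤ)))
    (qn15 : Hide (0 ≤ (0 : ℤ)))
    (qn16 : Hide (0 ≤ (0 : ℤ)))
    (qn23 : Hide (0 ≤ (0 : ℤ)))
    (qn24 : Hide (0 ≤ (0 : ℤ)))
    (qn25 : Hide (0 ≤ q25))
    (qn26 : Hide (0 ≤ q26))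
    (qn34 : Hide (0 ≤ q34))
    (qn35 : Hide (0 ≤ q35))
    (qn36 : Hide (0 ≤ q36))
    (qn45 : Hide (0 ≤ q45))
    (qn46 : Hide (0 ≤ q46))
    (qn56 : Hide (0 ≤ q56))
    (od1 : Hide (0 < (1 : ℤ)))
    (od2 : Hide (0 < (0 : ℤ) + (1 : ℤ)))
    (od3 : Hide (0 < (1 : ℤ) + (0 : ℤ) + (0 : ℤ)))
    (od4 : Hide (0 < (0 : ℤ) + (0 : ℤ) + (0 : ℤ) + α34))
    (od5 : Hide (0 < (0 : ℤ) + (0 : ℤ) + α25 + α35 + α45))
    (od6 : Hide (0 < (0 : ℤ) + (0 : ℤ) + α26 + α36 + α46 + α56))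
    (c25 : Hide (((Hide (x25 = 0 ∧ x52 = 0) ∧ Hide (T.a 2 5 = 0 ∧ T.a 5 2 = 0) ∧ Hide (α25 = 0 ∧ α52 = 0)) ∧ q25 = 0) ∨ ((Hide (x25 = T.m 5 ∧ x52 = T.m 2) ∧ Hide (T.a 2 5 = T.w 2 ∧ T.a 5 2 = T.w 5) ∧ Hide (α25 = 1 ∧ α52 = 1)) ∧ q25 = 1) ∨ ((Hide (x25 = T.m 5 ∧ x52 = 2 * T.m 2) ∧ Hide (T.a 2 5 = T.w 2 ∧ T.a 5 2 = 2 * T.w 5) ∧ Hide (α25 = 1 ∧ α52 = 2)) ∧ q25 = 2) ∨ ((Hide (x25 = 2 * T.m 5 ∧ x52 = T.m 2) ∧ Hide (T.a 2 5 = 2 * T.w 2 ∧ T.a 5 2 = T.w 5) ∧ Hide (α25 = 2 ∧ α52 = 1)) ∧ q25 = 2) ∨ ((Hide (x25 = T.m 5 ∧ x52 = 3 * T.m 2) ∧ Hide (T.a 2 5 = T.w 2 ∧ T.a 5 2 = 3 * T.w 5) ∧ Hide (α25 = 1 ∧ α52 = 3)) ∧ q25 = 3) ∨ ((Hide (x25 = 3 * T.m 5 ∧ x52 = T.m 2) ∧ Hide (T.a 2 5 = 3 * T.w 2 ∧ T.a 5 2 = T.w 5) ∧ Hide (α25 = 3 ∧ α52 = 1)) ∧ q25 = 3) ∨ ((Hide (x25 = T.m 5 ∧ x52 = 4 * T.m 2) ∧ Hide (T.a 2 5 = T.w 2 ∧ T.a 5 2 = 4 * T.w 5) ∧ Hide (α25 = 1 ∧ α52 = 4)) ∧ q25 = 4) ∨ ((Hide (x25 = 4 * T.m 5 ∧ x52 = T.m 2) ∧ Hide (T.a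 2 5 = 4 * T.w 2 ∧ T.a 5 2 = T.w 5) ∧ Hide (α25 = 4 ∧ α52 = 1)) ∧ q25 = 4) ∨ ((Hide (x25 = 2 * T.m 5 ∧ x52 = 2 * T.m 2) ∧ Hide (T.a 2 5 = 2 * T.w 2 ∧ T.a 5 2 = 2 * T.w 5) ∧ Hide (α25 = 2 ∧ α52 = 2)) ∧ q25 = 4)))
    (c26 : Hide (((Hide (x26 = 0 ∧ x62 = 0) ∧ Hide (T.a 2 6 = 0 ∧ T.a 6 2 = 0) ∧ Hide (α26 = 0 ∧ α62 = 0)) ∧ q26 = 0) ∨ ((Hide (x26 = T.m 6 ∧ x62 = T.m 2) ∧ Hide (T.a 2 6 = T.w 2 ∧ T.a 6 2 = T.w 6) ∧ Hide (α26 = 1 ∧ α62 = 1)) ∧ q26 = 1) ∨ ((Hide (x26 = T.m 6 ∧ x62 = 2 * T.m 2) ∧ Hide (T.a 2 6 = T.w 2 ∧ T.a 6 2 = 2 * T.w 6) ∧ Hide (α26 = 1 ∧ α62 = 2)) ∧ q26 = 2) ∨ ((Hide (x26 = 2 * T.m 6 ∧ x62 = T.m 2) ∧ Hide (T.a 2 6 = 2 * T.w 2 ∧ T.a 6 2 = T.w 6) ∧ Hide (α26 = 2 ∧ α62 = 1)) ∧ q26 = 2) ∨ ((Hide (x26 = T.m 6 ∧ x62 = 3 * T.m 2) ∧ Hide (T.a 2 6 = T.w 2 ∧ T.a 6 2 = 3 * T.w 6) ∧ Hide (α26 = 1 ∧ α62 = 3)) ∧ q26 = 3) ∨ ((Hide (x26 = 3 * T.m 6 ∧ x62 = T.m 2) ∧ Hide (T.a 2 6 = 3 * T.w 2 ∧ T.a 6 2 = T.w 6) ∧ Hide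 (α26 = 3 ∧ α62 = 1)) ∧ q26 = 3) ∨ ((Hide (x26 = T.m 6 ∧ x62 = 4 * T.m 2) ∧ Hide (T.a 2 6 = T.w 2 ∧ T.a 6 2 = 4 * T.w 6) ∧ Hide (α26 = 1 ∧ α62 = 4)) ∧ q26 = 4) ∨ ((Hide (x26 = 4 * T.m 6 ∧ x62 = T.m 2) ∧ Hide (T.a 2 6 = 4 * T.w 2 ∧ T.a 6 2 = T.w 6) ∧ Hide (α26 = 4 ∧ α62 = 1)) ∧ q26 = 4) ∨ ((Hide (x26 = 2 * T.m 6 ∧ x62 = 2 * T.m 2) ∧ Hide (T.a 2 6 = 2 * T.w 2 ∧ T.a 6 2 = 2 * T.w 6) ∧ Hide (α26 = 2 ∧ α62 = 2)) ∧ q26 = 4)))
    (c34 : Hide (((Hide (x34 = 0 ∧ x43 = 0) ∧ Hide (T.a 3 4 = 0 ∧ T.a 4 3 = 0) ∧ Hide (α34 = 0 ∧ α43 = 0)) ∧ q34 = 0) ∨ ((Hide (x34 = T.m 4 ∧ x43 = T.m 3) ∧ Hide (T.a 3 4 = T.w 3 ∧ T.a 4 3 = T.w 4) ∧ Hide (α34 = 1 ∧ α43 = 1)) ∧ q34 = 1) ∨ ((Hide (x34 = T.m 4 ∧ x43 = 2 * T.m 3) ∧ Hide (T.a 3 4 = T.w 3 ∧ T.a 4 3 = 2 * T.w 4) ∧ Hide (α34 = 1 ∧ α43 = 2)) ∧ q34 = 2) ∨ ((Hide (x34 = 2 * T.m 4 ∧ x43 = T.m 3) ∧ Hide (T.a 3 4 = 2 * T.w 3 ∧ T.a 4 3 = T.w 4) ∧ Hide (α34 = 2 ∧ α43 = 1)) ∧ q34 = 2) ∨ ((Hide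 (x34 = T.m 4 ∧ x43 = 3 * T.m 3) ∧ Hide (T.a 3 4 = T.w 3 ∧ T.a 4 3 = 3 * T.w 4) ∧ Hide (α34 = 1 ∧ α43 = 3)) ∧ q34 = 3) ∨ ((Hide (x34 = 3 * T.m 4 ∧ x43 = T.m 3) ∧ Hide (T.a 3 4 = 3 * T.w 3 ∧ T.a 4 3 = T.w 4) ∧ Hide (α34 = 3 ∧ α43 = 1)) ∧ q34 = 3) ∨ ((Hide (x34 = T.m 4 ∧ x43 = 4 * T.m 3) ∧ Hide (T.a 3 4 = T.w 3 ∧ T.a 4 3 = 4 * T.w 4) ∧ Hide (α34 = 1 ∧ α43 = 4)) ∧ q34 = 4) ∨ ((Hide (x34 = 4 * T.m 4 ∧ x43 = T.m 3) ∧ Hide (T.a 3 4 = 4 * T.w 3 ∧ T.a 4 3 = T.w 4) ∧ Hide (α34 = 4 ∧ α43 = 1)) ∧ q34 = 4) ∨ ((Hide (x34 = 2 * T.m 4 ∧ x43 = 2 * T.m 3) ∧ Hide (T.a 3 4 = 2 * T.w 3 ∧ T.a 4 3 = 2 * T.w 4) ∧ Hide (α34 = 2 ∧ α43 = 2)) ∧ q34 = 4)))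
    (c35 : Hide (((Hide (x35 = 0 ∧ x53 = 0) ∧ Hide (T.a 3 5 = 0 ∧ T.a 5 3 = 0) ∧ Hide (α35 = 0 ∧ α53 = 0)) ∧ q35 = 0) ∨ ((Hide (x35 = T.m 5 ∧ x53 = T.m 3) ∧ Hide (T.a 3 5 = T.w 3 ∧ T.a 5 3 = T.w 5) ∧ Hide (α35 = 1 ∧ α53 = 1)) ∧ q35 = 1) ∨ ((Hide (x35 = T.m 5 ∧ x53 = 2 * T.m 3) ∧ Hide (T.a 3 5 = T.w 3 ∧ T.a 5 3 = 2 * T.w 5) ∧ Hide (α35 = 1 ∧ α53 = 2)) ∧ q35 = 2) ∨ ((Hide (x35 = 2 * T.m 5 ∧ x53 = T.m 3) ∧ Hide (T.a 3 5 = 2 * T.w 3 ∧ T.a 5 3 = T.w 5) ∧ Hide (α35 = 2 ∧ α53 = 1)) ∧ q35 = 2) ∨ ((Hide (x35 = T.m 5 ∧ x53 = 3 * T.m 3) ∧ Hide (T.a 3 5 = T.w 3 ∧ T.a 5 3 = 3 * T.w 5) ∧ Hide (α35 = 1 ∧ α53 = 3)) ∧ q35 = 3) ∨ ((Hide (x35 = 3 * T.m 5 ∧ x53 = T.m 3) ∧ Hide (T.a 3 5 = 3 * T.w 3 ∧ T.a 5 3 = T.w 5) ∧ Hide (α35 = 3 ∧ α53 = 1)) ∧ q35 = 3) ∨ ((Hide (x35 = T.m 5 ∧ x53 = 4 * T.m 3) ∧ Hide (T.a 3 5 = T.w 3 ∧ T.a 5 3 = 4 * T.w 5) ∧ Hide (α35 = 1 ∧ α53 = 4)) ∧ q35 = 4) ∨ ((Hide (x35 = 4 * T.m 5 ∧ x53 = T.m 3) ∧ Hide (T.a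 3 5 = 4 * T.w 3 ∧ T.a 5 3 = T.w 5) ∧ Hide (α35 = 4 ∧ α53 = 1)) ∧ q35 = 4) ∨ ((Hide (x35 = 2 * T.m 5 ∧ x53 = 2 * T.m 3) ∧ Hide (T.a 3 5 = 2 * T.w 3 ∧ T.a 5 3 = 2 * T.w 5) ∧ Hide (α35 = 2 ∧ α53 = 2)) ∧ q35 = 4)))
    (c36 : Hide (((Hide (x36 = 0 ∧ x63 = 0) ∧ Hide (T.a 3 6 = 0 ∧ T.a 6 3 = 0) ∧ Hide (α36 = 0 ∧ α63 = 0)) ∧ q36 = 0) ∨ ((Hide (x36 = T.m 6 ∧ x63 = T.m 3) ∧ Hide (T.a 3 6 = T.w 3 ∧ T.a 6 3 = T.w 6) ∧ Hide (α36 = 1 ∧ α63 = 1)) ∧ q36 = 1) ∨ ((Hide (x36 = T.m 6 ∧ x63 = 2 * T.m 3) ∧ Hide (T.a 3 6 = T.w 3 ∧ T.a 6 3 = 2 * T.w 6) ∧ Hide (α36 = 1 ∧ α63 = 2)) ∧ q36 = 2) ∨ ((Hide (x36 = 2 * T.m 6 ∧ x63 = T.m 3) ∧ Hide (T.a 3 6 = 2 * T.w 3 ∧ T.a 6 3 = T.w 6) ∧ Hide (α36 = 2 ∧ α63 = 1)) ∧ q36 = 2) ∨ ((Hide (x36 = T.m 6 ∧ x63 = 3 * T.m 3) ∧ Hide (T.a 3 6 = T.w 3 ∧ T.a 6 3 = 3 * T.w 6) ∧ Hide (α36 = 1 ∧ α63 = 3)) ∧ q36 = 3) ∨ ((Hide (x36 = 3 * T.m 6 ∧ x63 = T.m 3) ∧ Hide (T.a 3 6 = 3 * T.w 3 ∧ T.a 6 3 = T.w 6) ∧ Hide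 (α36 = 3 ∧ α63 = 1)) ∧ q36 = 3) ∨ ((Hide (x36 = T.m 6 ∧ x63 = 4 * T.m 3) ∧ Hide (T.a 3 6 = T.w 3 ∧ T.a 6 3 = 4 * T.w 6) ∧ Hide (α36 = 1 ∧ α63 = 4)) ∧ q36 = 4) ∨ ((Hide (x36 = 4 * T.m 6 ∧ x63 = T.m 3) ∧ Hide (T.a 3 6 = 4 * T.w 3 ∧ T.a 6 3 = T.w 6) ∧ Hide (α36 = 4 ∧ α63 = 1)) ∧ q36 = 4) ∨ ((Hide (x36 = 2 * T.m 6 ∧ x63 = 2 * T.m 3) ∧ Hide (T.a 3 6 = 2 * T.w 3 ∧ T.a 6 3 = 2 * T.w 6) ∧ Hide (α36 = 2 ∧ α63 = 2)) ∧ q36 = 4)))
    (c45 : Hide (((Hide (x45 = 0 ∧ x54 = 0) ∧ Hide (T.a 4 5 = 0 ∧ T.a 5 4 = 0) ∧ Hide (α45 = 0 ∧ α54 = 0)) ∧ q45 = 0) ∨ ((Hide (x45 = T.m 5 ∧ x54 = T.m 4) ∧ Hide (T.a 4 5 = T.w 4 ∧ T.a 5 4 = T.w 5) ∧ Hide (α45 = 1 ∧ α54 = 1)) ∧ q45 = 1) ∨ ((Hide (x45 = T.m 5 ∧ x54 = 2 * T.m 4) ∧ Hide (T.a 4 5 = T.w 4 ∧ T.a 5 4 = 2 * T.w 5) ∧ Hide (α45 = 1 ∧ α54 = 2)) ∧ q45 = 2) ∨ ((Hide (x45 = 2 * T.m 5 ∧ x54 = T.m 4) ∧ Hide (T.a 4 5 = 2 * T.w 4 ∧ T.a 5 4 = T.w 5) ∧ Hide (α45 = 2 ∧ α54 = 1)) ∧ q45 = 2) ∨ ((Hide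 (x45 = T.m 5 ∧ x54 = 3 * T.m 4) ∧ Hide (T.a 4 5 = T.w 4 ∧ T.a 5 4 = 3 * T.w 5) ∧ Hide (α45 = 1 ∧ α54 = 3)) ∧ q45 = 3) ∨ ((Hide (x45 = 3 * T.m 5 ∧ x54 = T.m 4) ∧ Hide (T.a 4 5 = 3 * T.w 4 ∧ T.a 5 4 = T.w 5) ∧ Hide (α45 = 3 ∧ α54 = 1)) ∧ q45 = 3) ∨ ((Hide (x45 = T.m 5 ∧ x54 = 4 * T.m 4) ∧ Hide (T.a 4 5 = T.w 4 ∧ T.a 5 4 = 4 * T.w 5) ∧ Hide (α45 = 1 ∧ α54 = 4)) ∧ q45 = 4) ∨ ((Hide (x45 = 4 * T.m 5 ∧ x54 = T.m 4) ∧ Hide (T.a 4 5 = 4 * T.w 4 ∧ T.a 5 4 = T.w 5) ∧ Hide (α45 = 4 ∧ α54 = 1)) ∧ q45 = 4) ∨ ((Hide (x45 = 2 * T.m 5 ∧ x54 = 2 * T.m 4) ∧ Hide (T.a 4 5 = 2 * T.w 4 ∧ T.a 5 4 = 2 * T.w 5) ∧ Hide (α45 = 2 ∧ α54 = 2)) ∧ q45 = 4)))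
    (c46 : Hide (((Hide (x46 = 0 ∧ x64 = 0) ∧ Hide (T.a 4 6 = 0 ∧ T.a 6 4 = 0) ∧ Hide (α46 = 0 ∧ α64 = 0)) ∧ q46 = 0) ∨ ((Hide (x46 = T.m 6 ∧ x64 = T.m 4) ∧ Hide (T.a 4 6 = T.w 4 ∧ T.a 6 4 = T.w 6) ∧ Hide (α46 = 1 ∧ α64 = 1)) ∧ q46 = 1) ∨ ((Hide (x46 = T.m 6 ∧ x64 = 2 * T.m 4) ∧ Hide (T.a 4 6 = T.w 4 ∧ T.a 6 4 = 2 * T.w 6) ∧ Hide (α46 = 1 ∧ α64 = 2)) ∧ q46 = 2) ∨ ((Hide (x46 = 2 * T.m 6 ∧ x64 = T.m 4) ∧ Hide (T.a 4 6 = 2 * T.w 4 ∧ T.a 6 4 = T.w 6) ∧ Hide (α46 = 2 ∧ α64 = 1)) ∧ q46 = 2) ∨ ((Hide (x46 = T.m 6 ∧ x64 = 3 * T.m 4) ∧ Hide (T.a 4 6 = T.w 4 ∧ T.a 6 4 = 3 * T.w 6) ∧ Hide (α46 = 1 ∧ α64 = 3)) ∧ q46 = 3) ∨ ((Hide (x46 = 3 * T.m 6 ∧ x64 = T.m 4) ∧ Hide (T.a 4 6 = 3 * T.w 4 ∧ T.a 6 4 = T.w 6) ∧ Hide (α46 = 3 ∧ α64 = 1)) ∧ q46 = 3) ∨ ((Hide (x46 = T.m 6 ∧ x64 = 4 * T.m 4) ∧ Hide (T.a 4 6 = T.w 4 ∧ T.a 6 4 = 4 * T.w 6) ∧ Hide (α46 = 1 ∧ α64 = 4)) ∧ q46 = 4) ∨ ((Hide (x46 = 4 * T.m 6 ∧ x64 = T.m 4) ∧ Hide (T.a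 4 6 = 4 * T.w 4 ∧ T.a 6 4 = T.w 6) ∧ Hide (α46 = 4 ∧ α64 = 1)) ∧ q46 = 4) ∨ ((Hide (x46 = 2 * T.m 6 ∧ x64 = 2 * T.m 4) ∧ Hide (T.a 4 6 = 2 * T.w 4 ∧ T.a 6 4 = 2 * T.w 6) ∧ Hide (α46 = 2 ∧ α64 = 2)) ∧ q46 = 4)))
    (c56 : Hide (((Hide (x56 = 0 ∧ x65 = 0) ∧ Hide (T.a 5 6 = 0 ∧ T.a 6 5 = 0) ∧ Hide (α56 = 0 ∧ α65 = 0)) ∧ q56 = 0) ∨ ((Hide (x56 = T.m 6 ∧ x65 = T.m 5) ∧ Hide (T.a 5 6 = T.w 5 ∧ T.a 6 5 = T.w 6) ∧ Hide (α56 = 1 ∧ α65 = 1)) ∧ q56 = 1) ∨ ((Hide (x56 = T.m 6 ∧ x65 = 2 * T.m 5) ∧ Hide (T.a 5 6 = T.w 5 ∧ T.a 6 5 = 2 * T.w 6) ∧ Hide (α56 = 1 ∧ α65 = 2)) ∧ q56 = 2) ∨ ((Hide (x56 = 2 * T.m 6 ∧ x65 = T.m 5) ∧ Hide (T.a 5 6 = 2 * T.w 5 ∧ T.a 6 5 = T.w 6) ∧ Hide (α56 = 2 ∧ α65 = 1)) ∧ q56 = 2) ∨ ((Hide (x56 = T.m 6 ∧ x65 = 3 * T.m 5) ∧ Hide (T.a 5 6 = T.w 5 ∧ T.a 6 5 = 3 * T.w 6) ∧ Hide (α56 = 1 ∧ α65 = 3)) ∧ q56 = 3) ∨ ((Hide (x56 = 3 * T.m 6 ∧ x65 = T.m 5) ∧ Hide (T.a 5 6 = 3 * T.w 5 ∧ T.a 6 5 = T.w 6) ∧ Hide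 (α56 = 3 ∧ α65 = 1)) ∧ q56 = 3) ∨ ((Hide (x56 = T.m 6 ∧ x65 = 4 * T.m 5) ∧ Hide (T.a 5 6 = T.w 5 ∧ T.a 6 5 = 4 * T.w 6) ∧ Hide (α56 = 1 ∧ α65 = 4)) ∧ q56 = 4) ∨ ((Hide (x56 = 4 * T.m 6 ∧ x65 = T.m 5) ∧ Hide (T.a 5 6 = 4 * T.w 5 ∧ T.a 6 5 = T.w 6) ∧ Hide (α56 = 4 ∧ α65 = 1)) ∧ q56 = 4) ∨ ((Hide (x56 = 2 * T.m 6 ∧ x65 = 2 * T.m 5) ∧ Hide (T.a 5 6 = 2 * T.w 5 ∧ T.a 6 5 = 2 * T.w 6) ∧ Hide (α56 = 2 ∧ α65 = 2)) ∧ q56 = 4)))
    (gw01 : Hide (T.a 0 1 = T.w 0 ∧ T.a 1 0 = T.w 1))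
    (gw02 : Hide (T.a 0 2 = 0 ∧ T.a 2 0 = 0))
    (gw03 : Hide (T.a 0 3 = T.w 0 ∧ T.a 3 0 = T.w 3))
    (gw04 : Hide (T.a 0 4 = 0 ∧ T.a 4 0 = 0))
    (gw05 : Hide (T.a 0 5 = 0 ∧ T.a 5 0 = 0))
    (gw06 : Hide (T.a 0 6 = 0 ∧ T.a 6 0 = 0))
    (gw12 : Hide (T.a 1 2 = T.w 1 ∧ T.a 2 1 = T.w 2))
    (gw13 : Hide (T.a 1 3 = 0 ∧ T.a 3 1 = 0))
    (gw14 : Hide (T.a 1 4 = 0 ∧ T.a 4 1 = 0))
    (gw15 : Hide (T.a 1 5 = 0 ∧ T.a 5 1 = 0))
    (gw16 : Hide (T.a 1 6 = 0 ∧ T.a 6 1 = 0))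
    (gw23 : Hide (T.a 2 3 = 0 ∧ T.a 3 2 = 0))
    (gw24 : Hide (T.a 2 4 = 0 ∧ T.a 4 2 = 0)) : Goal T := by
  have t := pc3 q25 c25.out (by have := v2.out; have := qn26.out; omega)
  clear c25
  rcases t with ⟨⟨⟨rfl, rfl⟩, gw25, ⟨rfl, rfl⟩⟩, rfl⟩ | ⟨⟨⟨rfl, rfl⟩, gw25, ⟨rfl, rfl⟩⟩, rfl⟩ | ⟨⟨⟨rfl, rfl⟩, gw25, ⟨rfl, rfl⟩⟩, rfl⟩ | ⟨⟨⟨rfl, rfl⟩, gw25, ⟨rfl, rfl⟩⟩, rfl⟩ | ⟨⟨⟨rfl, rfl⟩, gw25, ⟨rfl, rfl⟩⟩, rfl⟩ | ⟨⟨⟨rfl, rfl⟩, gw25, ⟨rfl, rfl⟩⟩, rfl⟩
  · have t := pc3 q26 c26.out (by have := v2.out; omega)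
    clear c26
    rcases t with ⟨⟨⟨rfl, rfl⟩, gw26, ⟨rfl, rfl⟩⟩, rfl⟩ | ⟨⟨⟨rfl, rfl⟩, gw26, ⟨rfl, rfl⟩⟩, rfl⟩ | ⟨⟨⟨rfl, rfl⟩, gw26, ⟨rfl, rfl⟩⟩, rfl⟩ | ⟨⟨⟨rfl, rfl⟩, gw26, ⟨rfl, rfl⟩⟩, rfl⟩ | ⟨⟨⟨rfl, rfl⟩, gw26, ⟨rfl, rfl⟩⟩, rfl⟩ | ⟨⟨⟨rfl, rfl⟩, gw26, ⟨rfl, rfl⟩⟩, rfl⟩
    · (have := hm3.out; have := om2.out; have := e0.out; have := e2.out; omega)
    · have t := pc3 q34 c34.out (by have := v3.out; have := qn35.out; have := qn36.out; omega)
      clear c34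
      rcases t with ⟨⟨⟨rfl, rfl⟩, gw34, ⟨rfl, rfl⟩⟩, rfl⟩ | ⟨⟨⟨rfl, rfl⟩, gw34, ⟨rfl, rfl⟩⟩, rfl⟩ | ⟨⟨⟨rfl, rfl⟩, gw34, ⟨rfl, rfl⟩⟩, rfl⟩ | ⟨⟨⟨rfl, rfl⟩, gw34, ⟨rfl, rfl⟩⟩, rfl⟩ | ⟨⟨⟨rfl, rfl⟩, gw34, ⟨rfl, rfl⟩⟩, rfl⟩ | ⟨⟨⟨rfl, rfl⟩, gw34, ⟨rfl, rfl⟩⟩, rfl⟩
      · (have := od4.out; omega)
      · have t := pc2 q35 c35.out (by have := v3.out; have := qn36.out; omega)
        clear c35
        rcases t with ⟨⟨⟨rfl, rfl⟩, gw35, ⟨rfl, rfl⟩⟩, rfl⟩ | ⟨⟨⟨rfl, rfl⟩, gw35, ⟨rfl, rfl⟩⟩, rfl⟩ | ⟨⟨⟨rfl, rfl⟩, gw35, ⟨rfl, rfl⟩⟩, rfl⟩ | ⟨⟨⟨rfl, rfl⟩, gw35, ⟨rfl, rfl⟩⟩, rfl⟩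
        · have t := pc2 q36 c36.out (by have := v3.out; omega)
          clear c36
          rcases t with ⟨⟨⟨rfl, rfl⟩, gw36, ⟨rfl, rfl⟩⟩, rfl⟩ | ⟨⟨⟨rfl, rfl⟩, gw36, ⟨rfl, rfl⟩⟩, rfl⟩ | ⟨⟨⟨rfl, rfl⟩, gw36, ⟨rfl, rfl⟩⟩, rfl⟩ | ⟨⟨⟨rfl, rfl⟩, gw36, ⟨rfl, rfl⟩⟩, rfl⟩
          · have t := pc3 q45 c45.out (by have := v4.out; have := qn46.out; omega)
            clear c45
            rcases t with ⟨⟨⟨rfl, rfl⟩, gw45, ⟨rfl, rfl⟩⟩, rfl⟩ | ⟨⟨⟨rfl, rfl⟩, gw45, ⟨rfl, rfl⟩⟩, rfl⟩ | ⟨⟨⟨rfl, rfl⟩, gw45, ⟨rfl, rfl⟩⟩, rfl⟩ | ⟨⟨⟨rfl, rfl⟩, gw45, ⟨rfl, rfl⟩⟩, rfl⟩ | ⟨⟨⟨rfl, rfl⟩, gw45, ⟨rfl, rfl⟩⟩, rfl⟩ | ⟨⟨⟨rfl, rfl⟩, gw45, ⟨rfl, rfl⟩⟩, rfl⟩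
            · (have := od5.out; omega)
            · have t := pc2 q46 c46.out (by have := v4.out; omega)
              clear c46
              rcases t with ⟨⟨⟨rfl, rfl⟩, gw46, ⟨rfl, rfl⟩⟩, rfl⟩ | ⟨⟨⟨rfl, rfl⟩, gw46, ⟨rfl, rfl⟩⟩, rfl⟩ | ⟨⟨⟨rfl, rfl⟩, gw46, ⟨rfl, rfl⟩⟩, rfl⟩ | ⟨⟨⟨rfl, rfl⟩, gw46, ⟨rfl, rfl⟩⟩, rfl⟩
              · have t := pc3 q56 c56.out (by have := v5.out; omega)
                clear c56
                rcases t with ⟨⟨⟨rfl, rfl⟩, gw56, ⟨rfl, rfl⟩⟩, rfl⟩ | ⟨⟨⟨rfl, rfl⟩, gw56, ⟨rfl, rfl⟩⟩, rfl⟩ | ⟨⟨⟨rfl, rfl⟩, gw56, ⟨rfl, rfl⟩⟩, rfl⟩ | ⟨⟨⟨rfl, rfl⟩, gw56, ⟨rfl, rfl⟩⟩, rfl⟩ | ⟨⟨⟨rfl, rfl⟩, gw56, ⟨rfl, rfl⟩⟩, rfl⟩ | ⟨⟨⟨rfl, rfl⟩, gw56, ⟨rfl, rfl⟩⟩, rfl⟩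
                · (have := hm2.out; have := om4.out; have := e0.out; have := e1.out; have := e4.out; have := e5.out; omega)
                · have := hm0.out
                  have := hm1.out
                  have := hm2.out
                  have := hm3.out
                  have := hm4.out
                  have := hm5.out
                  have := hm6.out
                  have := e0.out
                  have := e1.out
                  have := e2.out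
                  have := e3.out
                  have := e4.out
                  have := e5.out
                  have := e6.out
                  have := hw0.out
                  have := hw1.out
                  have := hw2.out
                  have := hw3.out
                  have := hw4.out
                  have := hw5.out
                  have := hw6.out
                  have := hs01.out
                  have := hs02.out
                  have := hs03.out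
                  have := hs04.out
                  have := hs05.out
                  have := hs06.out
                  have := hs12.out
                  have := hs13.out
                  have := hs14.out
                  have := hs15.out
                  have := hs16.out
                  have := hs23.out
                  have := hs24.out
                  have := hs25.out
                  have := hs26.out
                  have := hs34.out
                  have := hs35.out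
                  have := hs36.out
                  have := hs45.out
                  have := hs46.out
                  have := hs56.out
                  have := ha00.out
                  have := ha11.out
                  have := ha22.out
                  have := ha33.out
                  have := ha44.out
                  have := ha55.out
                  have := ha66.out
                  have := gw01.out
                  have := gw02.out
                  have := gw03.out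
                  have := gw04.out
                  have := gw05.out
                  have := gw06.out
                  have := gw12.out
                  have := gw13.out
                  have := gw14.out
                  have := gw15.out
                  have := gw16.out
                  have := gw23.out
                  have := gw24.out
                  have := gw25.out
                  have := gw26.out
                  have := gw34.out
                  have := gw35.out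
                  have := gw36.out
                  have := gw45.out
                  have := gw46.out
                  have := gw56.out
                  exact ⟨p0126543, T.m 0, T.w 0, Or.inl ((show T.m 0 = T.m 0 ∧ T.m 1 = T.m 0 ∧ T.m 2 = T.m 0 ∧ T.m 6 = T.m 0 ∧ T.m 5 = T.m 0 ∧ T.m 4 = T.m 0 ∧ T.m 3 = T.m 0 ∧ T.w 0 = T.w 0 ∧ T.w 1 = T.w 0 ∧ T.w 2 = T.w 0 ∧ T.w 6 = T.w 0 ∧ T.w 5 = T.w 0 ∧ T.w 4 = T.w 0 ∧ T.w 3 = T.w 0 ∧ T.a 0 0 = -2 * T.w 0 ∧ T.a 0 1 = T.w 0 ∧ T.a 0 2 = 0 ∧ T.a 0 6 = 0 ∧ T.a 0 5 = 0 ∧ T.a 0 4 = 0 ∧ T.a 0 3 = T.w 0 ∧ T.a 1 1 = -2 * T.w 0 ∧ T.a 1 2 = T.w 0 ∧ T.a 1 6 = 0 ∧ T.a 1 5 = 0 ∧ T.a 1 4 = 0 ∧ T.a 1 3 = 0 ∧ T.a 2 2 = -2 * T.w 0 ∧ T.a 2 6 = T.w 0 ∧ T.a 2 5 = 0 ∧ T.a 2 4 = 0 ∧ T.a 2 3 = 0 ∧ T.a 6 6 = -2 * T.w 0 ∧ T.a 6 5 = T.w 0 ∧ T.a 6 4 = 0 ∧ T.a 6 3 = 0 ∧ T.a 5 5 = -2 * T.w 0 ∧ T.a 5 4 = T.w 0 ∧ T.a 5 3 = 0 ∧ T.a 4 4 = -2 * T.w 0 ∧ T.a 4 3 = T.w 0 ∧ T.a 3 3 = -2 * T.w 0 from by omega))⟩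
                · (have := hm1.out; have := om4.out; have := e0.out; have := e1.out; have := e2.out; have := e3.out; have := e5.out; have := e6.out; omega)
                · (have := hm4.out; have := om3.out; have := e0.out; have := e1.out; have := e2.out; have := e5.out; have := e6.out; omega)
                · (have := hm1.out; have := hm4.out; have := e2.out; have := e5.out; have := e6.out; omega)
                · (have := hm1.out; have := hm4.out; have := e2.out; have := e5.out; have := e6.out; omega)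
              · (have := hm5.out; have := om1.out; have := om6.out; have := e0.out; have := e3.out; have := e4.out; omega)
              · (have := hm1.out; have := e1.out; have := e3.out; have := e4.out; have := e5.out; have := r56.out; have := e6.out; have := r65.out; omega)
              · (have := hm6.out; have := om1.out; have := om5.out; have := e0.out; have := e3.out; have := e4.out; omega)
            · have t := pc1 q46 c46.out (by have := v4.out; omega)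
              clear c46
              rcases t with ⟨⟨⟨rfl, rfl⟩, gw46, ⟨rfl, rfl⟩⟩, rfl⟩ | ⟨⟨⟨rfl, rfl⟩, gw46, ⟨rfl, rfl⟩⟩, rfl⟩
              · have t := pc2 q56 c56.out (by have := v5.out; omega)
                clear c56
                rcases t with ⟨⟨⟨rfl, rfl⟩, gw56, ⟨rfl, rfl⟩⟩, rfl⟩ | ⟨⟨⟨rfl, rfl⟩, gw56, ⟨rfl, rfl⟩⟩, rfl⟩ | ⟨⟨⟨rfl, rfl⟩, gw56, ⟨rfl, rfl⟩⟩, rfl⟩ | ⟨⟨⟨rfl, rfl⟩, gw56, ⟨rfl, rfl⟩⟩, rfl⟩
                · (have := hm4.out; have := om2.out; have := e0.out; have := e2.out; have := e3.out; have := e6.out; omega)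
                · (have := hm6.out; have := om1.out; have := e0.out; have := e3.out; have := e4.out; have := e5.out; omega)
                · (have := hm0.out; have := e0.out; have := e1.out; have := e4.out; have := e5.out; have := e6.out; omega)
                · (have := hm1.out; have := om4.out; have := e0.out; have := e1.out; have := e2.out; have := e3.out; have := e5.out; have := e6.out; omega)
              · (have := hm1.out; have := e1.out; have := e3.out; have := e4.out; have := e5.out; have := r56.out; have := e6.out; have := r65.out; omega)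
            · (have := hm6.out; have := om5.out; have := e0.out; have := e1.out; have := e2.out; have := e3.out; have := e4.out; have := r46.out; omega)
            · (have := hm0.out; have := e3.out; have := e4.out; have := r46.out; have := e5.out; have := r56.out; omega)
            · (have := hm0.out; have := e3.out; have := e4.out; have := r46.out; have := e5.out; have := r56.out; omega)
          · (have := hm4.out; have := om1.out; have := om6.out; have := e0.out; have := e3.out; omega)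
          · (have := hm4.out; have := om1.out; have := om6.out; have := e0.out; have := e3.out; omega)
          · (have := hm6.out; have := om1.out; have := om4.out; have := e0.out; have := e3.out; omega)
        · (have := hm4.out; have := om1.out; have := om5.out; have := e0.out; have := e3.out; have := r36.out; omega)
        · (have := hm4.out; have := om1.out; have := om5.out; have := e0.out; have := e3.out; have := r36.out; omega)
        · (have := hm1.out; have := om4.out; have := om5.out; have := e0.out; have := e3.out; have := r36.out; omega)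
      · have t := pc1 q35 c35.out (by have := v3.out; have := qn36.out; omega)
        clear c35
        rcases t with ⟨⟨⟨rfl, rfl⟩, gw35, ⟨rfl, rfl⟩⟩, rfl⟩ | ⟨⟨⟨rfl, rfl⟩, gw35, ⟨rfl, rfl⟩⟩, rfl⟩
        · have t := pc1 q36 c36.out (by have := v3.out; omega)
          clear c36
          rcases t with ⟨⟨⟨rfl, rfl⟩, gw36, ⟨rfl, rfl⟩⟩, rfl⟩ | ⟨⟨⟨rfl, rfl⟩, gw36, ⟨rfl, rfl⟩⟩, rfl⟩
          · have t := pc2 q45 c45.out (by have := v4.out; have := qn46.out; omega)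
            clear c45
            rcases t with ⟨⟨⟨rfl, rfl⟩, gw45, ⟨rfl, rfl⟩⟩, rfl⟩ | ⟨⟨⟨rfl, rfl⟩, gw45, ⟨rfl, rfl⟩⟩, rfl⟩ | ⟨⟨⟨rfl, rfl⟩, gw45, ⟨rfl, rfl⟩⟩, rfl⟩ | ⟨⟨⟨rfl, rfl⟩, gw45, ⟨rfl, rfl⟩⟩, rfl⟩
            · (have := od5.out; omega)
            · (have := hm5.out; have := om1.out; have := e0.out; have := e3.out; have := e4.out; have := r46.out; omega)
            · (have := hm5.out; have := om1.out; have := e0.out; have := e3.out; have := e4.out; have := r46.out; omega)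
            · (have := hm0.out; have := e3.out; have := e4.out; have := r46.out; have := e5.out; have := r56.out; omega)
          · (have := hm4.out; have := om1.out; have := om6.out; have := e0.out; have := e3.out; omega)
        · (have := hm4.out; have := om1.out; have := om5.out; have := e0.out; have := e3.out; have := r36.out; omega)
      · (have := hm2.out; have := om4.out; have := e0.out; have := e1.out; have := e3.out; have := r35.out; have := r36.out; omega)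
      · (have := hm1.out; have := e0.out; have := e3.out; have := r35.out; have := r36.out; have := e4.out; have := r45.out; have := r46.out; omega)
      · (have := hm1.out; have := om4.out; have := e0.out; have := e3.out; have := r35.out; have := r36.out; omega)
    · have t := pc3 q34 c34.out (by have := v3.out; have := qn35.out; have := qn36.out; omega)
      clear c34
      rcases t with ⟨⟨⟨rfl, rfl⟩, gw34, ⟨rfl, rfl⟩⟩, rfl⟩ | ⟨⟨⟨rfl, rfl⟩, gw34, ⟨rfl, rfl⟩⟩, rfl⟩ | ⟨⟨⟨rfl, rfl⟩, gw34, ⟨rfl, rfl⟩⟩, rfl⟩ | ⟨⟨⟨rfl, rfl⟩, gw34, ⟨rfl, rfl⟩⟩, rfl⟩ | ⟨⟨⟨rfl, rfl⟩, gw34, ⟨rfl, rfl⟩⟩, rfl⟩ | ⟨⟨⟨rfl, rfl⟩, gw34, ⟨rfl, rfl⟩⟩, rfl⟩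
      · (have := od4.out; omega)
      · have t := pc2 q35 c35.out (by have := v3.out; have := qn36.out; omega)
        clear c35
        rcases t with ⟨⟨⟨rfl, rfl⟩, gw35, ⟨rfl, rfl⟩⟩, rfl⟩ | ⟨⟨⟨rfl, rfl⟩, gw35, ⟨rfl, rfl⟩⟩, rfl⟩ | ⟨⟨⟨rfl, rfl⟩, gw35, ⟨rfl, rfl⟩⟩, rfl⟩ | ⟨⟨⟨rfl, rfl⟩, gw35, ⟨rfl, rfl⟩⟩, rfl⟩
        · have t := pc2 q36 c36.out (by have := v3.out; omega)
          clear c36
          rcases t with ⟨⟨⟨rfl, rfl⟩, gw36, ⟨rfl, rfl⟩⟩, rfl⟩ | ⟨⟨⟨rfl, rfl⟩, gw36, ⟨rfl, rfl⟩⟩, rfl⟩ | ⟨⟨⟨rfl, rfl⟩, gw36, ⟨rfl, rfl⟩⟩, rfl⟩ | ⟨⟨⟨rfl, rfl⟩, gw36, ⟨rfl, rfl⟩⟩, rfl⟩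
          · have t := pc3 q45 c45.out (by have := v4.out; have := qn46.out; omega)
            clear c45
            rcases t with ⟨⟨⟨rfl, rfl⟩, gw45, ⟨rfl, rfl⟩⟩, rfl⟩ | ⟨⟨⟨rfl, rfl⟩, gw45, ⟨rfl, rfl⟩⟩, rfl⟩ | ⟨⟨⟨rfl, rfl⟩, gw45, ⟨rfl, rfl⟩⟩, rfl⟩ | ⟨⟨⟨rfl, rfl⟩, gw45, ⟨rfl, rfl⟩⟩, rfl⟩ | ⟨⟨⟨rfl, rfl⟩, gw45, ⟨rfl, rfl⟩⟩, rfl⟩ | ⟨⟨⟨rfl, rfl⟩, gw45, ⟨rfl, rfl⟩⟩, rfl⟩
            · (have := od5.out; omega)
            · have t := pc2 q46 c46.out (by have := v4.out; omega)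
              clear c46
              rcases t with ⟨⟨⟨rfl, rfl⟩, gw46, ⟨rfl, rfl⟩⟩, rfl⟩ | ⟨⟨⟨rfl, rfl⟩, gw46, ⟨rfl, rfl⟩⟩, rfl⟩ | ⟨⟨⟨rfl, rfl⟩, gw46, ⟨rfl, rfl⟩⟩, rfl⟩ | ⟨⟨⟨rfl, rfl⟩, gw46, ⟨rfl, rfl⟩⟩, rfl⟩
              · have t := pc2 q56 c56.out (by have := v6.out; omega)
                clear c56
                rcases t with ⟨⟨⟨rfl, rfl⟩, gw56, ⟨rfl, rfl⟩⟩, rfl⟩ | ⟨⟨⟨rfl, rfl⟩, gw56, ⟨rfl, rfl⟩⟩, rfl⟩ | ⟨⟨⟨rfl, rfl⟩, gw56, ⟨rfl, rfl⟩⟩, rfl⟩ | ⟨⟨⟨rfl, rfl⟩, gw56, ⟨rfl, rfl⟩⟩, rfl⟩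
                · (have := hm2.out; have := om4.out; have := e0.out; have := e1.out; have := e4.out; have := e5.out; omega)
                · (have := hm5.out; have := om3.out; have := e0.out; have := e1.out; have := e2.out; have := e6.out; omega)
                · (have := hm1.out; have := hm4.out; have := e2.out; have := e5.out; have := e6.out; omega)
                · (have := hm1.out; have := hm4.out; have := e2.out; have := e5.out; have := e6.out; omega)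
              · (have := hm5.out; have := om1.out; have := om6.out; have := e0.out; have := e3.out; have := e4.out; omega)
              · (have := hm1.out; have := hm3.out; have := hm5.out; have := e2.out; have := e4.out; have := e6.out; have := r65.out; omega)
              · (have := hm1.out; have := hm3.out; have := hm5.out; have := e2.out; have := e4.out; have := e6.out; have := r65.out; omega)
            · have t := pc1 q46 c46.out (by have := v4.out; omega)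
              clear c46
              rcases t with ⟨⟨⟨rfl, rfl⟩, gw46, ⟨rfl, rfl⟩⟩, rfl⟩ | ⟨⟨⟨rfl, rfl⟩, gw46, ⟨rfl, rfl⟩⟩, rfl⟩
              · have t := pc2 q56 c56.out (by have := v5.out; omega)
                clear c56
                rcases t with ⟨⟨⟨rfl, rfl⟩, gw56, ⟨rfl, rfl⟩⟩, rfl⟩ | ⟨⟨⟨rfl, rfl⟩, gw56, ⟨rfl, rfl⟩⟩, rfl⟩ | ⟨⟨⟨rfl, rfl⟩, gw56, ⟨rfl, rfl⟩⟩, rfl⟩ | ⟨⟨⟨rfl, rfl⟩, gw56, ⟨rfl, rfl⟩⟩, rfl⟩
                · have := hm0.out
                  have := hm1.out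
                  have := hm2.out
                  have := hm3.out
                  have := hm4.out
                  have := hm5.out
                  have := hm6.out
                  have := e0.out
                  have := e1.out
                  have := e2.out
                  have := e3.out
                  have := e4.out
                  have := e5.out
                  have := e6.out
                  have := hw0.out
                  have := hw1.out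
                  have := hw2.out
                  have := hw3.out
                  have := hw4.out
                  have := hw5.out
                  have := hw6.out
                  have := hs01.out
                  have := hs02.out
                  have := hs03.out
                  have := hs04.out
                  have := hs05.out
                  have := hs06.out
                  have := hs12.out
                  have := hs13.out
                  have := hs14.out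
                  have := hs15.out
                  have := hs16.out
                  have := hs23.out
                  have := hs24.out
                  have := hs25.out
                  have := hs26.out
                  have := hs34.out
                  have := hs35.out
                  have := hs36.out
                  have := hs45.out
                  have := hs46.out
                  have := hs56.out
                  have := ha00.out
                  have := ha11.out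
                  have := ha22.out
                  have := ha33.out
                  have := ha44.out
                  have := ha55.out
                  have := ha66.out
                  have := gw01.out
                  have := gw02.out
                  have := gw03.out
                  have := gw04.out
                  have := gw05.out
                  have := gw06.out
                  have := gw12.out
                  have := gw13.out
                  have := gw14.out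
                  have := gw15.out
                  have := gw16.out
                  have := gw23.out
                  have := gw24.out
                  have := gw25.out
                  have := gw26.out
                  have := gw34.out
                  have := gw35.out
                  have := gw36.out
                  have := gw45.out
                  have := gw46.out
                  have := gw56.out
                  exact ⟨p5430126, T.m 5, T.w 5, Or.inr (Or.inr (Or.inl ((show T.m 5 = T.m 5 ∧ T.m 4 = T.m 5 ∧ T.m 3 = T.m 5 ∧ T.m 0 = T.m 5 ∧ T.m 1 = T.m 5 ∧ T.m 2 = T.m 5 ∧ T.m 6 = T.m 5 ∧ T.w 5 = T.w 5 ∧ T.w 4 = 2 * T.w 5 ∧ T.w 3 = 2 * T.w 5 ∧ T.w 0 = 2 * T.w 5 ∧ T.w 1 = 2 * T.w 5 ∧ T.w 2 = 2 * T.w 5 ∧ T.w 6 = T.w 5 ∧ T.a 5 5 = -2 * T.w 5 ∧ T.a 5 4 = 2 * T.w 5 ∧ T.a 5 3 = 0 ∧ T.a 5 0 = 0 ∧ T.a 5 1 = 0 ∧ T.a 5 2 = 0 ∧ T.a 5 6 = 0 ∧ T.a 4 4 = -4 * T.w 5 ∧ T.a 4 3 = 2 * T.w 5 ∧ T.a 4 0 = 0 ∧ T.a 4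 1 = 0 ∧ T.a 4 2 = 0 ∧ T.a 4 6 = 0 ∧ T.a 3 3 = -4 * T.w 5 ∧ T.a 3 0 = 2 * T.w 5 ∧ T.a 3 1 = 0 ∧ T.a 3 2 = 0 ∧ T.a 3 6 = 0 ∧ T.a 0 0 = -4 * T.w 5 ∧ T.a 0 1 = 2 * T.w 5 ∧ T.a 0 2 = 0 ∧ T.a 0 6 = 0 ∧ T.a 1 1 = -4 * T.w 5 ∧ T.a 1 2 = 2 * T.w 5 ∧ T.a 1 6 = 0 ∧ T.a 2 2 = -4 * T.w 5 ∧ T.a 2 6 = 2 * T.w 5 ∧ T.a 6 6 = -2 * T.w 5 from by omega))))⟩
                · (have := hm0.out; have := e0.out; have := e2.out; have := e4.out; have := e5.out; have := e6.out; omega)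
                · (have := hm1.out; have := hm4.out; have := e2.out; have := e5.out; have := e6.out; omega)
                · (have := hm1.out; have := hm4.out; have := e2.out; have := e5.out; have := e6.out; omega)
              · (have := hm1.out; have := hm3.out; have := e2.out; have := e4.out; have := e5.out; have := r56.out; have := e6.out; have := r65.out; omega)
            · (have := hm6.out; have := om5.out; have := e0.out; have := e1.out; have := e2.out; have := e3.out; have := e4.out; have := r46.out; omega)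
            · (have := hm0.out; have := e3.out; have := e4.out; have := r46.out; have := e5.out; have := r56.out; omega)
            · (have := hm0.out; have := e3.out; have := e4.out; have := r46.out; have := e5.out; have := r56.out; omega)
          · (have := hm4.out; have := om1.out; have := om6.out; have := e0.out; have := e3.out; omega)
          · (have := hm4.out; have := om1.out; have := om6.out; have := e0.out; have := e3.out; omega)
          · (have := hm6.out; have := om1.out; have := om4.out; have := e0.out; have := e3.out; omega)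
        · (have := hm4.out; have := om1.out; have := om5.out; have := e0.out; have := e3.out; have := r36.out; omega)
        · (have := hm4.out; have := om1.out; have := om5.out; have := e0.out; have := e3.out; have := r36.out; omega)
        · (have := hm1.out; have := om4.out; have := om5.out; have := e0.out; have := e3.out; have := r36.out; omega)
      · have t := pc1 q35 c35.out (by have := v3.out; have := qn36.out; omega)
        clear c35
        rcases t with ⟨⟨⟨rfl, rfl⟩, gw35, ⟨rfl, rfl⟩⟩, rfl⟩ | ⟨⟨⟨rfl, rfl⟩, gw35, ⟨rfl, rfl⟩⟩, rfl⟩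
        · have t := pc1 q36 c36.out (by have := v3.out; omega)
          clear c36
          rcases t with ⟨⟨⟨rfl, rfl⟩, gw36, ⟨rfl, rfl⟩⟩, rfl⟩ | ⟨⟨⟨rfl, rfl⟩, gw36, ⟨rfl, rfl⟩⟩, rfl⟩
          · have t := pc2 q45 c45.out (by have := v4.out; have := qn46.out; omega)
            clear c45
            rcases t with ⟨⟨⟨rfl, rfl⟩, gw45, ⟨rfl, rfl⟩⟩, rfl⟩ | ⟨⟨⟨rfl, rfl⟩, gw45, ⟨rfl, rfl⟩⟩, rfl⟩ | ⟨⟨⟨rfl, rfl⟩, gw45, ⟨rfl, rfl⟩⟩, rfl⟩ | ⟨⟨⟨rfl, rfl⟩, gw45, ⟨rfl, rfl⟩⟩, rfl⟩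
            · (have := od5.out; omega)
            · (have := hm5.out; have := om1.out; have := e0.out; have := e3.out; have := e4.out; have := r46.out; omega)
            · (have := hm5.out; have := om1.out; have := e0.out; have := e3.out; have := e4.out; have := r46.out; omega)
            · (have := hm0.out; have := e3.out; have := e4.out; have := r46.out; have := e5.out; have := r56.out; omega)
          · (have := hm4.out; have := om1.out; have := om6.out; have := e0.out; have := e3.out; omega)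
        · (have := hm4.out; have := om1.out; have := om5.out; have := e0.out; have := e3.out; have := r36.out; omega)
      · (have := hm2.out; have := om4.out; have := e0.out; have := e1.out; have := e3.out; have := r35.out; have := r36.out; omega)
      · (have := hm1.out; have := e0.out; have := e3.out; have := r35.out; have := r36.out; have := e4.out; have := r45.out; have := r46.out; omega)
      · (have := hm1.out; have := om4.out; have := e0.out; have := e3.out; have := r35.out; have := r36.out; omega)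
    · (have := hm0.out; have := om3.out; have := om6.out; have := e0.out; have := e1.out; have := e2.out; omega)
    · (have := hm0.out; have := e1.out; have := e2.out; have := e6.out; have := r63.out; have := r64.out; have := r65.out; omega)
    · (have := hm0.out; have := e1.out; have := e2.out; have := e6.out; have := r63.out; have := r64.out; have := r65.out; omega)
  · have t := pc2 q26 c26.out (by have := v2.out; omega)
    clear c26
    rcases t with ⟨⟨⟨rfl, rfl⟩, gw26, ⟨rfl, rfl⟩⟩, rfl⟩ | ⟨⟨⟨rfl, rfl⟩, gw26, ⟨rfl, rfl⟩⟩, rfl⟩ | ⟨⟨⟨rfl, rfl⟩, gw26, ⟨rfl, rfl⟩⟩, rfl⟩ | ⟨⟨⟨rfl, rfl⟩, gw26, ⟨rfl, rfl⟩⟩, rfl⟩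
    · have t := pc3 q34 c34.out (by have := v3.out; have := qn35.out; have := qn36.out; omega)
      clear c34
      rcases t with ⟨⟨⟨rfl, rfl⟩, gw34, ⟨rfl, rfl⟩⟩, rfl⟩ | ⟨⟨⟨rfl, rfl⟩, gw34, ⟨rfl, rfl⟩⟩, rfl⟩ | ⟨⟨⟨rfl, rfl⟩, gw34, ⟨rfl, rfl⟩⟩, rfl⟩ | ⟨⟨⟨rfl, rfl⟩, gw34, ⟨rfl, rfl⟩⟩, rfl⟩ | ⟨⟨⟨rfl, rfl⟩, gw34, ⟨rfl, rfl⟩⟩, rfl⟩ | ⟨⟨⟨rfl, rfl⟩, gw34, ⟨rfl, rfl⟩⟩, rfl⟩
      · (have := od4.out; omega)
      · have t := pc2 q35 c35.out (by have := v3.out; have := qn36.out; omega)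
        clear c35
        rcases t with ⟨⟨⟨rfl, rfl⟩, gw35, ⟨rfl, rfl⟩⟩, rfl⟩ | ⟨⟨⟨rfl, rfl⟩, gw35, ⟨rfl, rfl⟩⟩, rfl⟩ | ⟨⟨⟨rfl, rfl⟩, gw35, ⟨rfl, rfl⟩⟩, rfl⟩ | ⟨⟨⟨rfl, rfl⟩, gw35, ⟨rfl, rfl⟩⟩, rfl⟩
        · have t := pc2 q36 c36.out (by have := v3.out; omega)
          clear c36
          rcases t with ⟨⟨⟨rfl, rfl⟩, gw36, ⟨rfl, rfl⟩⟩, rfl⟩ | ⟨⟨⟨rfl, rfl⟩, gw36, ⟨rfl, rfl⟩⟩, rfl⟩ | ⟨⟨⟨rfl, rfl⟩, gw36, ⟨rfl, rfl⟩⟩, rfl⟩ | ⟨⟨⟨rfl, rfl⟩, gw36, ⟨rfl, rfl⟩⟩, rfl⟩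
          · have t := pc3 q45 c45.out (by have := v4.out; have := qn46.out; omega)
            clear c45
            rcases t with ⟨⟨⟨rfl, rfl⟩, gw45, ⟨rfl, rfl⟩⟩, rfl⟩ | ⟨⟨⟨rfl, rfl⟩, gw45, ⟨rfl, rfl⟩⟩, rfl⟩ | ⟨⟨⟨rfl, rfl⟩, gw45, ⟨rfl, rfl⟩⟩, rfl⟩ | ⟨⟨⟨rfl, rfl⟩, gw45, ⟨rfl, rfl⟩⟩, rfl⟩ | ⟨⟨⟨rfl, rfl⟩, gw45, ⟨rfl, rfl⟩⟩, rfl⟩ | ⟨⟨⟨rfl, rfl⟩, gw45, ⟨rfl, rfl⟩⟩, rfl⟩
            · have t := pc3 q46 c46.out (by have := v4.out; omega)
              clear c46
              rcases t with ⟨⟨⟨rfl, rfl⟩, gw46, ⟨rfl, rfl⟩⟩, rfl⟩ | ⟨⟨⟨rfl, rfl⟩, gw46, ⟨rfl, rfl⟩⟩, rfl⟩ | ⟨⟨⟨rfl, rfl⟩, gw46, ⟨rfl, rfl⟩⟩, rfl⟩ | ⟨⟨⟨rfl, rfl⟩, gw46, ⟨rfl, rfl⟩⟩, rfl⟩ | ⟨⟨⟨rfl, rfl⟩, gw46, ⟨rfl, rfl⟩⟩, rfl⟩ | ⟨⟨⟨rfl, rfl⟩, gw46, ⟨rfl, rfl⟩⟩, rfl⟩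
              · (have := hm1.out; have := om4.out; have := e0.out; have := e4.out; omega)
              · have t := pc3 q56 c56.out (by have := v5.out; omega)
                clear c56
                rcases t with ⟨⟨⟨rfl, rfl⟩, gw56, ⟨rfl, rfl⟩⟩, rfl⟩ | ⟨⟨⟨rfl, rfl⟩, gw56, ⟨rfl, rfl⟩⟩, rfl⟩ | ⟨⟨⟨rfl, rfl⟩, gw56, ⟨rfl, rfl⟩⟩, rfl⟩ | ⟨⟨⟨rfl, rfl⟩, gw56, ⟨rfl, rfl⟩⟩, rfl⟩ | ⟨⟨⟨rfl, rfl⟩, gw56, ⟨rfl, rfl⟩⟩, rfl⟩ | ⟨⟨⟨rfl, rfl⟩, gw56, ⟨rfl, rfl⟩⟩, rfl⟩
                · (have := hm2.out; have := om4.out; have := e0.out; have := e1.out; have := e4.out; have := e6.out; omega)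
                · have := hm0.out
                  have := hm1.out
                  have := hm2.out
                  have := hm3.out
                  have := hm4.out
                  have := hm5.out
                  have := hm6.out
                  have := e0.out
                  have := e1.out
                  have := e2.out
                  have := e3.out
                  have := e4.out
                  have := e5.out
                  have := e6.out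
                  have := hw0.out
                  have := hw1.out
                  have := hw2.out
                  have := hw3.out
                  have := hw4.out
                  have := hw5.out
                  have := hw6.out
                  have := hs01.out
                  have := hs02.out
                  have := hs03.out
                  have := hs04.out
                  have := hs05.out
                  have := hs06.out
                  have := hs12.out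
                  have := hs13.out
                  have := hs14.out
                  have := hs15.out
                  have := hs16.out
                  have := hs23.out
                  have := hs24.out
                  have := hs25.out
                  have := hs26.out
                  have := hs34.out
                  have := hs35.out
                  have := hs36.out
                  have := hs45.out
                  have := hs46.out
                  have := hs56.out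
                  have := ha00.out
                  have := ha11.out
                  have := ha22.out
                  have := ha33.out
                  have := ha44.out
                  have := ha55.out
                  have := ha66.out
                  have := gw01.out
                  have := gw02.out
                  have := gw03.out
                  have := gw04.out
                  have := gw05.out
                  have := gw06.out
                  have := gw12.out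
                  have := gw13.out
                  have := gw14.out
                  have := gw15.out
                  have := gw16.out
                  have := gw23.out
                  have := gw24.out
                  have := gw25.out
                  have := gw26.out
                  have := gw34.out
                  have := gw35.out
                  have := gw36.out
                  have := gw45.out
                  have := gw46.out
                  have := gw56.out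
                  exact ⟨p0125643, T.m 0, T.w 0, Or.inl ((show T.m 0 = T.m 0 ∧ T.m 1 = T.m 0 ∧ T.m 2 = T.m 0 ∧ T.m 5 = T.m 0 ∧ T.m 6 = T.m 0 ∧ T.m 4 = T.m 0 ∧ T.m 3 = T.m 0 ∧ T.w 0 = T.w 0 ∧ T.w 1 = T.w 0 ∧ T.w 2 = T.w 0 ∧ T.w 5 = T.w 0 ∧ T.w 6 = T.w 0 ∧ T.w 4 = T.w 0 ∧ T.w 3 = T.w 0 ∧ T.a 0 0 = -2 * T.w 0 ∧ T.a 0 1 = T.w 0 ∧ T.a 0 2 = 0 ∧ T.a 0 5 = 0 ∧ T.a 0 6 = 0 ∧ T.a 0 4 = 0 ∧ T.a 0 3 = T.w 0 ∧ T.a 1 1 = -2 * T.w 0 ∧ T.a 1 2 = T.w 0 ∧ T.a 1 5 = 0 ∧ T.a 1 6 = 0 ∧ T.a 1 4 = 0 ∧ T.a 1 3 = 0 ∧ T.a 2 2 = -2 * T.w 0 ∧ T.a 2 5 = T.w 0 ∧ T.a 2 6 = 0 ∧ T.a 2 4 = 0 ∧ T.a 2 3 = 0 ∧ T.a 5 5 = -2 * T.w 0 ∧ T.a 5 6 = T.w 0 ∧ T.a 5 4 = 0 ∧ T.a 5 3 = 0 ∧ T.a 6 6 = -2 * T.w 0 ∧ T.a 6 4 = T.w 0 ∧ T.a 6 3 = 0 ∧ T.a 4 4 = -2 * T.w 0 ∧ T.a 4 3 = T.w 0 ∧ T.a 3 3 = -2 * T.w 0 from by omega))⟩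
                · (have := hm4.out; have := om3.out; have := e0.out; have := e1.out; have := e2.out; have := e5.out; have := e6.out; omega)
                · (have := hm1.out; have := om4.out; have := e0.out; have := e1.out; have := e2.out; have := e3.out; have := e5.out; have := e6.out; omega)
                · (have := hm1.out; have := hm4.out; have := e2.out; have := e5.out; have := e6.out; omega)
                · (have := hm1.out; have := hm4.out; have := e2.out; have := e5.out; have := e6.out; omega)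
              · have t := pc2 q56 c56.out (by have := v6.out; omega)
                clear c56
                rcases t with ⟨⟨⟨rfl, rfl⟩, gw56, ⟨rfl, rfl⟩⟩, rfl⟩ | ⟨⟨⟨rfl, rfl⟩, gw56, ⟨rfl, rfl⟩⟩, rfl⟩ | ⟨⟨⟨rfl, rfl⟩, gw56, ⟨rfl, rfl⟩⟩, rfl⟩ | ⟨⟨⟨rfl, rfl⟩, gw56, ⟨rfl, rfl⟩⟩, rfl⟩
                · (have := hm4.out; have := om2.out; have := e0.out; have := e2.out; have := e3.out; have := e5.out; omega)
                · (have := hm5.out; have := om1.out; have := e0.out; have := e3.out; have := e4.out; have := e6.out; omega)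
                · (have := hm1.out; have := om4.out; have := e0.out; have := e1.out; have := e2.out; have := e3.out; have := e5.out; have := e6.out; omega)
                · (have := hm0.out; have := e0.out; have := e1.out; have := e4.out; have := e5.out; have := e6.out; omega)
              · (have := hm5.out; have := om6.out; have := e0.out; have := e1.out; have := e2.out; have := e3.out; have := e4.out; omega)
              · (have := hm0.out; have := e3.out; have := e4.out; have := e6.out; have := r65.out; omega)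
              · (have := hm0.out; have := e3.out; have := e4.out; have := e6.out; have := r65.out; omega)
            · have t := pc2 q46 c46.out (by have := v4.out; omega)
              clear c46
              rcases t with ⟨⟨⟨rfl, rfl⟩, gw46, ⟨rfl, rfl⟩⟩, rfl⟩ | ⟨⟨⟨rfl, rfl⟩, gw46, ⟨rfl, rfl⟩⟩, rfl⟩ | ⟨⟨⟨rfl, rfl⟩, gw46, ⟨rfl, rfl⟩⟩, rfl⟩ | ⟨⟨⟨rfl, rfl⟩, gw46, ⟨rfl, rfl⟩⟩, rfl⟩
              · have t := pc2 q56 c56.out (by have := v5.out; omega)
                clear c56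
                rcases t with ⟨⟨⟨rfl, rfl⟩, gw56, ⟨rfl, rfl⟩⟩, rfl⟩ | ⟨⟨⟨rfl, rfl⟩, gw56, ⟨rfl, rfl⟩⟩, rfl⟩ | ⟨⟨⟨rfl, rfl⟩, gw56, ⟨rfl, rfl⟩⟩, rfl⟩ | ⟨⟨⟨rfl, rfl⟩, gw56, ⟨rfl, rfl⟩⟩, rfl⟩
                · (have := od6.out; omega)
                · (have := hm6.out; have := om3.out; have := e0.out; have := e1.out; have := e2.out; have := e3.out; have := e5.out; omega)
                · (have := hm1.out; have := hm3.out; have := e2.out; have := e4.out; have := e5.out; have := e6.out; omega)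
                · (have := hm1.out; have := hm3.out; have := e2.out; have := e4.out; have := e5.out; have := e6.out; omega)
              · (have := hm6.out; have := om1.out; have := om5.out; have := e0.out; have := e3.out; have := e4.out; omega)
              · (have := hm1.out; have := e1.out; have := e3.out; have := e4.out; have := e5.out; have := r56.out; have := e6.out; have := r65.out; omega)
              · (have := hm1.out; have := e1.out; have := e3.out; have := e4.out; have := e5.out; have := r56.out; have := e6.out; have := r65.out; omega)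
            · (have := hm2.out; have := om1.out; have := e0.out; have := e3.out; have := e4.out; have := r46.out; have := e5.out; have := r56.out; omega)
            · (have := hm1.out; have := om2.out; have := e0.out; have := e2.out; have := e3.out; have := e4.out; have := r46.out; omega)
            · (have := hm1.out; have := hm3.out; have := e2.out; have := e4.out; have := r46.out; have := e5.out; have := r56.out; omega)
            · (have := hm1.out; have := hm3.out; have := e2.out; have := e4.out; have := r46.out; have := e5.out; have := r56.out; omega)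
          · (have := hm4.out; have := om1.out; have := om6.out; have := e0.out; have := e3.out; omega)
          · (have := hm4.out; have := om1.out; have := om6.out; have := e0.out; have := e3.out; omega)
          · (have := hm1.out; have := om4.out; have := om6.out; have := e0.out; have := e3.out; omega)
        · (have := hm4.out; have := om1.out; have := om5.out; have := e0.out; have := e3.out; have := r36.out; omega)
        · (have := hm4.out; have := om1.out; have := om5.out; have := e0.out; have := e3.out; have := r36.out; omega)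
        · (have := hm5.out; have := om1.out; have := om4.out; have := e0.out; have := e3.out; have := r36.out; omega)
      · have t := pc1 q35 c35.out (by have := v3.out; have := qn36.out; omega)
        clear c35
        rcases t with ⟨⟨⟨rfl, rfl⟩, gw35, ⟨rfl, rfl⟩⟩, rfl⟩ | ⟨⟨⟨rfl, rfl⟩, gw35, ⟨rfl, rfl⟩⟩, rfl⟩
        · have t := pc1 q36 c36.out (by have := v3.out; omega)
          clear c36
          rcases t with ⟨⟨⟨rfl, rfl⟩, gw36, ⟨rfl, rfl⟩⟩, rfl⟩ | ⟨⟨⟨rfl, rfl⟩, gw36, ⟨rfl, rfl⟩⟩, rfl⟩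
          · have t := pc2 q45 c45.out (by have := v4.out; have := qn46.out; omega)
            clear c45
            rcases t with ⟨⟨⟨rfl, rfl⟩, gw45, ⟨rfl, rfl⟩⟩, rfl⟩ | ⟨⟨⟨rfl, rfl⟩, gw45, ⟨rfl, rfl⟩⟩, rfl⟩ | ⟨⟨⟨rfl, rfl⟩, gw45, ⟨rfl, rfl⟩⟩, rfl⟩ | ⟨⟨⟨rfl, rfl⟩, gw45, ⟨rfl, rfl⟩⟩, rfl⟩
            · have t := pc2 q46 c46.out (by have := v4.out; omega)
              clear c46
              rcases t with ⟨⟨⟨rfl, rfl⟩, gw46, ⟨rfl, rfl⟩⟩, rfl⟩ | ⟨⟨⟨rfl, rfl⟩, gw46, ⟨rfl, rfl⟩⟩, rfl⟩ | ⟨⟨⟨rfl, rfl⟩, gw46, ⟨rfl, rfl⟩⟩, rfl⟩ | ⟨⟨⟨rfl, rfl⟩, gw46, ⟨rfl, rfl⟩⟩, rfl⟩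
              · have t := pc3 q56 c56.out (by have := v5.out; omega)
                clear c56
                rcases t with ⟨⟨⟨rfl, rfl⟩, gw56, ⟨rfl, rfl⟩⟩, rfl⟩ | ⟨⟨⟨rfl, rfl⟩, gw56, ⟨rfl, rfl⟩⟩, rfl⟩ | ⟨⟨⟨rfl, rfl⟩, gw56, ⟨rfl, rfl⟩⟩, rfl⟩ | ⟨⟨⟨rfl, rfl⟩, gw56, ⟨rfl, rfl⟩⟩, rfl⟩ | ⟨⟨⟨rfl, rfl⟩, gw56, ⟨rfl, rfl⟩⟩, rfl⟩ | ⟨⟨⟨rfl, rfl⟩, gw56, ⟨rfl, rfl⟩⟩, rfl⟩
                · (have := od6.out; omega)
                · (have := hm3.out; have := om5.out; have := e0.out; have := e2.out; have := e5.out; have := e6.out; omega)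
                · have := hm0.out
                  have := hm1.out
                  have := hm2.out
                  have := hm3.out
                  have := hm4.out
                  have := hm5.out
                  have := hm6.out
                  have := e0.out
                  have := e1.out
                  have := e2.out
                  have := e3.out
                  have := e4.out
                  have := e5.out
                  have := e6.out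
                  have := hw0.out
                  have := hw1.out
                  have := hw2.out
                  have := hw3.out
                  have := hw4.out
                  have := hw5.out
                  have := hw6.out
                  have := hs01.out
                  have := hs02.out
                  have := hs03.out
                  have := hs04.out
                  have := hs05.out
                  have := hs06.out
                  have := hs12.out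
                  have := hs13.out
                  have := hs14.out
                  have := hs15.out
                  have := hs16.out
                  have := hs23.out
                  have := hs24.out
                  have := hs25.out
                  have := hs26.out
                  have := hs34.out
                  have := hs35.out
                  have := hs36.out
                  have := hs45.out
                  have := hs46.out
                  have := hs56.out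
                  have := ha00.out
                  have := ha11.out
                  have := ha22.out
                  have := ha33.out
                  have := ha44.out
                  have := ha55.out
                  have := ha66.out
                  have := gw01.out
                  have := gw02.out
                  have := gw03.out
                  have := gw04.out
                  have := gw05.out
                  have := gw06.out
                  have := gw12.out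
                  have := gw13.out
                  have := gw14.out
                  have := gw15.out
                  have := gw16.out
                  have := gw23.out
                  have := gw24.out
                  have := gw25.out
                  have := gw26.out
                  have := gw34.out
                  have := gw35.out
                  have := gw36.out
                  have := gw45.out
                  have := gw46.out
                  have := gw56.out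
                  exact ⟨p4301256, T.m 4, T.w 4, Or.inr (Or.inr (Or.inl ((show T.m 4 = T.m 4 ∧ T.m 3 = T.m 4 ∧ T.m 0 = T.m 4 ∧ T.m 1 = T.m 4 ∧ T.m 2 = T.m 4 ∧ T.m 5 = T.m 4 ∧ T.m 6 = T.m 4 ∧ T.w 4 = T.w 4 ∧ T.w 3 = 2 * T.w 4 ∧ T.w 0 = 2 * T.w 4 ∧ T.w 1 = 2 * T.w 4 ∧ T.w 2 = 2 * T.w 4 ∧ T.w 5 = 2 * T.w 4 ∧ T.w 6 = T.w 4 ∧ T.a 4 4 = -2 * T.w 4 ∧ T.a 4 3 = 2 * T.w 4 ∧ T.a 4 0 = 0 ∧ T.a 4 1 = 0 ∧ T.a 4 2 = 0 ∧ T.a 4 5 = 0 ∧ T.a 4 6 = 0 ∧ T.a 3 3 = -4 * T.w 4 ∧ T.a 3 0 = 2 * T.w 4 ∧ T.a 3 1 = 0 ∧ T.a 3 2 = 0 ∧ T.a 3 5 = 0 ∧ T.a 3 6 = 0 ∧ T.a 0 0 = -4 * T.w 4 ∧ T.a 0 1 = 2 * T.w 4 ∧ T.a 0 2 = 0 ∧ T.a 0 5 = 0 ∧ T.a 0 6 = 0 ∧ T.a 1 1 = -4 * T.w 4 ∧ T.a 1 2 = 2 * T.w 4 ∧ T.a 1 5 = 0 ∧ T.a 1 6 = 0 ∧ T.a 2 2 = -4 * T.w 4 ∧ T.a 2 5 = 2 * T.w 4 ∧ T.a 2 6 = 0 ∧ T.a 5 5 = -4 * T.w 4 ∧ T.a 5 6 = 2 * T.w 4 ∧ T.a 6 6 = -2 * T.w 4 from by omega))))⟩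
                · (have := hm3.out; have := om6.out; have := e0.out; have := e2.out; have := e5.out; have := e6.out; omega)
                · (have := hm1.out; have := e2.out; have := e5.out; have := e6.out; omega)
                · (have := hm4.out; have := om6.out; have := e0.out; have := e1.out; have := e2.out; have := e3.out; have := e5.out; omega)
              · (have := hm6.out; have := om1.out; have := e0.out; have := e3.out; have := e4.out; omega)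
              · (have := hm6.out; have := om1.out; have := e0.out; have := e3.out; have := e4.out; omega)
              · (have := hm1.out; have := om6.out; have := e0.out; have := e3.out; have := e4.out; omega)
            · (have := hm5.out; have := om1.out; have := e0.out; have := e3.out; have := e4.out; have := r46.out; omega)
            · (have := hm5.out; have := om1.out; have := e0.out; have := e3.out; have := e4.out; have := r46.out; omega)
            · (have := hm5.out; have := om1.out; have := e0.out; have := e3.out; have := e4.out; have := r46.out; omega)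
          · (have := hm4.out; have := om1.out; have := om6.out; have := e0.out; have := e3.out; omega)
        · (have := hm4.out; have := om1.out; have := om5.out; have := e0.out; have := e3.out; have := r36.out; omega)
      · (have := hm2.out; have := om4.out; have := e0.out; have := e1.out; have := e3.out; have := r35.out; have := r36.out; omega)
      · (have := hm1.out; have := e0.out; have := e3.out; have := r35.out; have := r36.out; have := e4.out; have := r45.out; have := r46.out; omega)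
      · (have := hm1.out; have := om4.out; have := e0.out; have := e3.out; have := r35.out; have := r36.out; omega)
    · (have := hm5.out; have := om3.out; have := om6.out; have := e0.out; have := e1.out; have := e2.out; omega)
    · (have := hm5.out; have := om3.out; have := om6.out; have := e0.out; have := e1.out; have := e2.out; omega)
    · (have := hm6.out; have := om3.out; have := om5.out; have := e0.out; have := e1.out; have := e2.out; omega)
  · have t := pc1 q26 c26.out (by have := v2.out; omega)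
    clear c26
    rcases t with ⟨⟨⟨rfl, rfl⟩, gw26, ⟨rfl, rfl⟩⟩, rfl⟩ | ⟨⟨⟨rfl, rfl⟩, gw26, ⟨rfl, rfl⟩⟩, rfl⟩
    · have t := pc3 q34 c34.out (by have := v3.out; have := qn35.out; have := qn36.out; omega)
      clear c34
      rcases t with ⟨⟨⟨rfl, rfl⟩, gw34, ⟨rfl, rfl⟩⟩, rfl⟩ | ⟨⟨⟨rfl, rfl⟩, gw34, ⟨rfl, rfl⟩⟩, rfl⟩ | ⟨⟨⟨rfl, rfl⟩, gw34, ⟨rfl, rfl⟩⟩, rfl⟩ | ⟨⟨⟨rfl, rfl⟩, gw34, ⟨rfl, rfl⟩⟩, rfl⟩ | ⟨⟨⟨rfl, rfl⟩, gw34, ⟨rfl, rfl⟩⟩, rfl⟩ | ⟨⟨⟨rfl, rfl⟩, gw34, ⟨rfl, rfl⟩⟩, rfl⟩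
      · (have := od4.out; omega)
      · have t := pc2 q35 c35.out (by have := v3.out; have := qn36.out; omega)
        clear c35
        rcases t with ⟨⟨⟨rfl, rfl⟩, gw35, ⟨rfl, rfl⟩⟩, rfl⟩ | ⟨⟨⟨rfl, rfl⟩, gw35, ⟨rfl, rfl⟩⟩, rfl⟩ | ⟨⟨⟨rfl, rfl⟩, gw35, ⟨rfl, rfl⟩⟩, rfl⟩ | ⟨⟨⟨rfl, rfl⟩, gw35, ⟨rfl, rfl⟩⟩, rfl⟩
        · have t := pc2 q36 c36.out (by have := v3.out; omega)
          clear c36
          rcases t with ⟨⟨⟨rfl, rfl⟩, gw36, ⟨rfl, rfl⟩⟩, rfl⟩ | ⟨⟨⟨rfl, rfl⟩, gw36, ⟨rfl, rfl⟩⟩, rfl⟩ | ⟨⟨⟨rfl, rfl⟩, gw36, ⟨rfl, rfl⟩⟩, rfl⟩ | ⟨⟨⟨rfl, rfl⟩, gw36, ⟨rfl, rfl⟩⟩, rfl⟩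
          · have t := pc2 q45 c45.out (by have := v5.out; have := qn56.out; omega)
            clear c45
            rcases t with ⟨⟨⟨rfl, rfl⟩, gw45, ⟨rfl, rfl⟩⟩, rfl⟩ | ⟨⟨⟨rfl, rfl⟩, gw45, ⟨rfl, rfl⟩⟩, rfl⟩ | ⟨⟨⟨rfl, rfl⟩, gw45, ⟨rfl, rfl⟩⟩, rfl⟩ | ⟨⟨⟨rfl, rfl⟩, gw45, ⟨rfl, rfl⟩⟩, rfl⟩
            · have t := pc3 q46 c46.out (by have := v4.out; omega)
              clear c46
              rcases t with ⟨⟨⟨rfl, rfl⟩, gw46, ⟨rfl, rfl⟩⟩, rfl⟩ | ⟨⟨⟨rfl, rfl⟩, gw46, ⟨rfl, rfl⟩⟩, rfl⟩ | ⟨⟨⟨rfl, rfl⟩, gw46, ⟨rfl, rfl⟩⟩, rfl⟩ | ⟨⟨⟨rfl, rfl⟩, gw46, ⟨rfl, rfl⟩⟩, rfl⟩ | ⟨⟨⟨rfl, rfl⟩, gw46, ⟨rfl, rfl⟩⟩, rfl⟩ | ⟨⟨⟨rfl, rfl⟩, gw46, ⟨rfl, rfl⟩⟩, rfl⟩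
              · (have := hm1.out; have := om4.out; have := e0.out; have := e4.out; omega)
              · have t := pc2 q56 c56.out (by have := v5.out; omega)
                clear c56
                rcases t with ⟨⟨⟨rfl, rfl⟩, gw56, ⟨rfl, rfl⟩⟩, rfl⟩ | ⟨⟨⟨rfl, rfl⟩, gw56, ⟨rfl, rfl⟩⟩, rfl⟩ | ⟨⟨⟨rfl, rfl⟩, gw56, ⟨rfl, rfl⟩⟩, rfl⟩ | ⟨⟨⟨rfl, rfl⟩, gw56, ⟨rfl, rfl⟩⟩, rfl⟩
                · (have := hm2.out; have := om4.out; have := e0.out; have := e1.out; have := e4.out; have := e6.out; omega)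
                · (have := hm6.out; have := om3.out; have := e0.out; have := e1.out; have := e2.out; have := e5.out; omega)
                · (have := hm1.out; have := hm4.out; have := e2.out; have := e5.out; have := e6.out; omega)
                · (have := hm1.out; have := hm4.out; have := e2.out; have := e5.out; have := e6.out; omega)
              · have t := pc2 q56 c56.out (by have := v5.out; omega)
                clear c56
                rcases t with ⟨⟨⟨rfl, rfl⟩, gw56, ⟨rfl, rfl⟩⟩, rfl⟩ | ⟨⟨⟨rfl, rfl⟩, gw56, ⟨rfl, rfl⟩⟩, rfl⟩ | ⟨⟨⟨rfl, rfl⟩, gw56, ⟨rfl, rfl⟩⟩, rfl⟩ | ⟨⟨⟨rfl, rfl⟩, gw56, ⟨rfl, rfl⟩⟩, rfl⟩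
                · have := hm0.out
                  have := hm1.out
                  have := hm2.out
                  have := hm3.out
                  have := hm4.out
                  have := hm5.out
                  have := hm6.out
                  have := e0.out
                  have := e1.out
                  have := e2.out
                  have := e3.out
                  have := e4.out
                  have := e5.out
                  have := e6.out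
                  have := hw0.out
                  have := hw1.out
                  have := hw2.out
                  have := hw3.out
                  have := hw4.out
                  have := hw5.out
                  have := hw6.out
                  have := hs01.out
                  have := hs02.out
                  have := hs03.out
                  have := hs04.out
                  have := hs05.out
                  have := hs06.out
                  have := hs12.out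
                  have := hs13.out
                  have := hs14.out
                  have := hs15.out
                  have := hs16.out
                  have := hs23.out
                  have := hs24.out
                  have := hs25.out
                  have := hs26.out
                  have := hs34.out
                  have := hs35.out
                  have := hs36.out
                  have := hs45.out
                  have := hs46.out
                  have := hs56.out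
                  have := ha00.out
                  have := ha11.out
                  have := ha22.out
                  have := ha33.out
                  have := ha44.out
                  have := ha55.out
                  have := ha66.out
                  have := gw01.out
                  have := gw02.out
                  have := gw03.out
                  have := gw04.out
                  have := gw05.out
                  have := gw06.out
                  have := gw12.out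
                  have := gw13.out
                  have := gw14.out
                  have := gw15.out
                  have := gw16.out
                  have := gw23.out
                  have := gw24.out
                  have := gw25.out
                  have := gw26.out
                  have := gw34.out
                  have := gw35.out
                  have := gw36.out
                  have := gw45.out
                  have := gw46.out
                  have := gw56.out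
                  exact ⟨p5210346, T.m 5, T.w 5, Or.inr (Or.inr (Or.inl ((show T.m 5 = T.m 5 ∧ T.m 2 = T.m 5 ∧ T.m 1 = T.m 5 ∧ T.m 0 = T.m 5 ∧ T.m 3 = T.m 5 ∧ T.m 4 = T.m 5 ∧ T.m 6 = T.m 5 ∧ T.w 5 = T.w 5 ∧ T.w 2 = 2 * T.w 5 ∧ T.w 1 = 2 * T.w 5 ∧ T.w 0 = 2 * T.w 5 ∧ T.w 3 = 2 * T.w 5 ∧ T.w 4 = 2 * T.w 5 ∧ T.w 6 = T.w 5 ∧ T.a 5 5 = -2 * T.w 5 ∧ T.a 5 2 = 2 * T.w 5 ∧ T.a 5 1 = 0 ∧ T.a 5 0 = 0 ∧ T.a 5 3 = 0 ∧ T.a 5 4 = 0 ∧ T.a 5 6 = 0 ∧ T.a 2 2 = -4 * T.w 5 ∧ T.a 2 1 = 2 * T.w 5 ∧ T.a 2 0 = 0 ∧ T.a 2 3 = 0 ∧ T.a 2 4 = 0 ∧ T.a 2 6 = 0 ∧ T.a 1 1 = -4 * T.w 5 ∧ T.a 1 0 = 2 * T.w 5 ∧ T.a 1 3 = 0 ∧ T.a 1 4 = 0 ∧ T.a 1 6 = 0 ∧ T.a 0 0 = -4 * T.w 5 ∧ T.a 0 3 = 2 * T.w 5 ∧ T.a 0 4 = 0 ∧ T.a 0 6 = 0 ∧ T.a 3 3 = -4 * T.w 5 ∧ T.a 3 4 = 2 * T.w 5 ∧ T.a 3 6 = 0 ∧ T.a 4 4 = -4 * T.w 5 ∧ T.a 4 6 = 2 * T.w 5 ∧ T.a 6 6 = -2 * T.w 5 from by omega))))⟩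
                · (have := hm0.out; have := e0.out; have := e2.out; have := e4.out; have := e5.out; have := e6.out; omega)
                · (have := hm1.out; have := hm4.out; have := e2.out; have := e5.out; have := e6.out; omega)
                · (have := hm1.out; have := hm4.out; have := e2.out; have := e5.out; have := e6.out; omega)
              · (have := hm5.out; have := om6.out; have := e0.out; have := e1.out; have := e2.out; have := e3.out; have := e4.out; omega)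
              · (have := hm0.out; have := e3.out; have := e4.out; have := e6.out; have := r65.out; omega)
              · (have := hm0.out; have := e3.out; have := e4.out; have := e6.out; have := r65.out; omega)
            · (have := hm3.out; have := e0.out; have := e1.out; have := e2.out; have := e4.out; have := r46.out; have := e5.out; have := r56.out; omega)
            · (have := hm1.out; have := hm3.out; have := e2.out; have := e4.out; have := r46.out; have := e5.out; have := r56.out; omega)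
            · (have := hm1.out; have := hm3.out; have := e2.out; have := e4.out; have := r46.out; have := e5.out; have := r56.out; omega)
          · (have := hm4.out; have := om1.out; have := om6.out; have := e0.out; have := e3.out; omega)
          · (have := hm4.out; have := om1.out; have := om6.out; have := e0.out; have := e3.out; omega)
          · (have := hm1.out; have := om4.out; have := om6.out; have := e0.out; have := e3.out; omega)
        · (have := hm4.out; have := om1.out; have := om5.out; have := e0.out; have := e3.out; have := r36.out; omega)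
        · (have := hm4.out; have := om1.out; have := om5.out; have := e0.out; have := e3.out; have := r36.out; omega)
        · (have := hm5.out; have := om1.out; have := om4.out; have := e0.out; have := e3.out; have := r36.out; omega)
      · have t := pc1 q35 c35.out (by have := v3.out; have := qn36.out; omega)
        clear c35
        rcases t with ⟨⟨⟨rfl, rfl⟩, gw35, ⟨rfl, rfl⟩⟩, rfl⟩ | ⟨⟨⟨rfl, rfl⟩, gw35, ⟨rfl, rfl⟩⟩, rfl⟩
        · have t := pc1 q36 c36.out (by have := v3.out; omega)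
          clear c36
          rcases t with ⟨⟨⟨rfl, rfl⟩, gw36, ⟨rfl, rfl⟩⟩, rfl⟩ | ⟨⟨⟨rfl, rfl⟩, gw36, ⟨rfl, rfl⟩⟩, rfl⟩
          · have t := pc2 q45 c45.out (by have := v4.out; have := qn46.out; omega)
            clear c45
            rcases t with ⟨⟨⟨rfl, rfl⟩, gw45, ⟨rfl, rfl⟩⟩, rfl⟩ | ⟨⟨⟨rfl, rfl⟩, gw45, ⟨rfl, rfl⟩⟩, rfl⟩ | ⟨⟨⟨rfl, rfl⟩, gw45, ⟨rfl, rfl⟩⟩, rfl⟩ | ⟨⟨⟨rfl, rfl⟩, gw45, ⟨rfl, rfl⟩⟩, rfl⟩
            · have t := pc2 q46 c46.out (by have := v4.out; omega)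
              clear c46
              rcases t with ⟨⟨⟨rfl, rfl⟩, gw46, ⟨rfl, rfl⟩⟩, rfl⟩ | ⟨⟨⟨rfl, rfl⟩, gw46, ⟨rfl, rfl⟩⟩, rfl⟩ | ⟨⟨⟨rfl, rfl⟩, gw46, ⟨rfl, rfl⟩⟩, rfl⟩ | ⟨⟨⟨rfl, rfl⟩, gw46, ⟨rfl, rfl⟩⟩, rfl⟩
              · have t := pc2 q56 c56.out (by have := v5.out; omega)
                clear c56
                rcases t with ⟨⟨⟨rfl, rfl⟩, gw56, ⟨rfl, rfl⟩⟩, rfl⟩ | ⟨⟨⟨rfl, rfl⟩, gw56, ⟨rfl, rfl⟩⟩, rfl⟩ | ⟨⟨⟨rfl, rfl⟩, gw56, ⟨rfl, rfl⟩⟩, rfl⟩ | ⟨⟨⟨rfl, rfl⟩, gw56, ⟨rfl, rfl⟩⟩, rfl⟩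
                · (have := od6.out; omega)
                · (have := hm6.out; have := om3.out; have := e0.out; have := e1.out; have := e2.out; have := e5.out; omega)
                · (have := hm6.out; have := om3.out; have := e0.out; have := e1.out; have := e2.out; have := e5.out; omega)
                · (have := hm6.out; have := om3.out; have := e0.out; have := e1.out; have := e2.out; have := e5.out; omega)
              · (have := hm6.out; have := om1.out; have := e0.out; have := e3.out; have := e4.out; omega)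
              · (have := hm6.out; have := om1.out; have := e0.out; have := e3.out; have := e4.out; omega)
              · (have := hm1.out; have := om6.out; have := e0.out; have := e3.out; have := e4.out; omega)
            · (have := hm5.out; have := om1.out; have := e0.out; have := e3.out; have := e4.out; have := r46.out; omega)
            · (have := hm5.out; have := om1.out; have := e0.out; have := e3.out; have := e4.out; have := r46.out; omega)
            · (have := hm5.out; have := om1.out; have := e0.out; have := e3.out; have := e4.out; have := r46.out; omega)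
          · (have := hm4.out; have := om1.out; have := om6.out; have := e0.out; have := e3.out; omega)
        · (have := hm4.out; have := om1.out; have := om5.out; have := e0.out; have := e3.out; have := r36.out; omega)
      · (have := hm2.out; have := om4.out; have := e0.out; have := e1.out; have := e3.out; have := r35.out; have := r36.out; omega)
      · (have := hm1.out; have := e0.out; have := e3.out; have := r35.out; have := r36.out; have := e4.out; have := r45.out; have := r46.out; omega)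
      · (have := hm1.out; have := om4.out; have := e0.out; have := e3.out; have := r35.out; have := r36.out; omega)
    · (have := hm5.out; have := om3.out; have := om6.out; have := e0.out; have := e1.out; have := e2.out; omega)
  · (have := hm0.out; have := om3.out; have := om5.out; have := e0.out; have := e1.out; have := e2.out; have := r26.out; omega)
  · (have := hm0.out; have := e1.out; have := e2.out; have := r26.out; have := e5.out; have := r53.out; have := r54.out; have := r56.out; omega)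
  · (have := hm0.out; have := e1.out; have := e2.out; have := r26.out; have := e5.out; have := r53.out; have := r54.out; have := r56.out; omega)

end Groth.Agent.Lib.helper20.G1n7
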