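import Groth.Agent.Lib.Helper20.G1n7Part0
import Groth.Agent.Lib.Helper20.G1n7Part1
import Groth.Agent.Lib.Helper20.G1n7Part2
import Groth.Agent.Lib.Helper20.G1n7Part3
import Groth.Agent.Lib.Helper20.G1n7Part4
import Groth.Agent.Lib.Helper20.G1n7Part5
import Groth.Agent.Lib.Helper20.G1n7Part6
import Groth.Agent.Lib.Helper20.G1n7Part7
import Groth.Agent.Lib.Helper20.G1n7Part8
import Groth.Agent.Lib.Helper20.G1n7Part9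
import Groth.Agent.Lib.Helper20.G1n7Part10
import Groth.Agent.Lib.Helper20.G1n7Part11
import Groth.Agent.Lib.Helper20.G1n7Part12
import Groth.Agent.Lib.Helper20.G1n7Part13
import Groth.Agent.Lib.Helper20.G1n7Part14
import Groth.Agent.Lib.Helper20.G1n7Part15
import Groth.Agent.Lib.Helper20.G1n7Part16
import Groth.Agent.Lib.Helper20.G1n7Part17
import Groth.Agent.Lib.Helper20.G1n7Part18
import Groth.Agent.Lib.Helper20.G1n7Part19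
import Groth.Agent.Lib.Helper20.G1n7Part20
import Groth.Agent.Lib.Helper20.G1n7Part21
import Groth.Agent.Lib.Helper20.G1n7Part22
import Groth.Agent.Lib.Helper20.G1n7Part23
import Groth.Agent.Lib.Helper20.G1n7Part24
import Groth.Agent.Lib.Helper20.G1n7Part25
import Groth.Agent.Lib.Helper20.G1n7Part26
import Groth.Agent.Lib.Helper20.G1n7Part27

set_option autoImplicit false
set_option linter.unusedVariables false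
open Finset
open Models Models.NumericalType

namespace Groth.Agent.Lib.helper20.G1n7

set_option maxHeartbeats 0 in
theorem top (T : Models.NumericalType 7) (α01 α02 α03 α04 α05 α06 α10 α12 α13 α14 α15 α16 α20 α21 α23 α24 α25 α26 α30 α31 α32 α34 α35 α36 α40 α41 α42 α43 α45 α46 α50 α51 α52 α53 α54 α56 α60 α61 α62 α63 α64 α65 x01 x02 x03 x04 x05 x06 x10 x12 x13 x14 x15 x16 x20 x21 x23 x24 x25 x26 x30 x31 x32 x34 x35 x36 x40 x41 x42 x43 x45 x46 x50 x51 x52 x53 x54 x56 x60 x61 x62 x63 x64 x65 q01 q02 q03 q04 q05 q06 q12 q13 q14 q15 q16 q23 q24 q25 q26 q34 q35 q36 q45 q46 q56 : ℤ)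
    (hm0 : Hide (0 < T.m 0))
    (hm1 : Hide (0 < T.m 1))
    (hm2 : Hide (0 < T.m 2))
    (hm3 : Hide (0 < T.m 3))
    (hm4 : Hide (0 < T.m 4))
    (hm5 : Hide (0 < T.m 5))
    (hm6 : Hide (0 < T.m 6))
    (om1 : Hide (T.m 0 ≤ T.m 1))
    (om2 : Hide (T.m 0 ≤ T.m 2))
    (om3 : Hide (T.m 0 ≤ T.m 3))
    (om4 : Hide (T.m 0 ≤ T.m 4))
    (om5 : Hide (T.m 0 ≤ T.m 5))
    (om6 : Hide (T.m 0 ≤ T.m 6))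
    (e0 : Hide (x01 + x02 + x03 + x04 + x05 + x06 = 2 * T.m 0))
    (e1 : Hide (x10 + x12 + x13 + x14 + x15 + x16 = 2 * T.m 1))
    (e2 : Hide (x20 + x21 + x23 + x24 + x25 + x26 = 2 * T.m 2))
    (e3 : Hide (x30 + x31 + x32 + x34 + x35 + x36 = 2 * T.m 3))
    (e4 : Hide (x40 + x41 + x42 + x43 + x45 + x46 = 2 * T.m 4))
    (e5 : Hide (x50 + x51 + x52 + x53 + x54 + x56 = 2 * T.m 5))
    (e6 : Hide (x60 + x61 + x62 + x63 + x64 + x65 = 2 * T.m 6))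
    (r01 : Hide (0 ≤ x01))
    (r02 : Hide (0 ≤ x02))
    (r03 : Hide (0 ≤ x03))
    (r04 : Hide (0 ≤ x04))
    (r05 : Hide (0 ≤ x05))
    (r06 : Hide (0 ≤ x06))
    (r10 : Hide (0 ≤ x10))
    (r12 : Hide (0 ≤ x12))
    (r13 : Hide (0 ≤ x13))
    (r14 : Hide (0 ≤ x14))
    (r15 : Hide (0 ≤ x15))
    (r16 : Hide (0 ≤ x16))
    (r20 : Hide (0 ≤ x20))
    (r21 : Hide (0 ≤ x21))
    (r23 : Hide (0 ≤ x23))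
    (r24 : Hide (0 ≤ x24))
    (r25 : Hide (0 ≤ x25))
    (r26 : Hide (0 ≤ x26))
    (r30 : Hide (0 ≤ x30))
    (r31 : Hide (0 ≤ x31))
    (r32 : Hide (0 ≤ x32))
    (r34 : Hide (0 ≤ x34))
    (r35 : Hide (0 ≤ x35))
    (r36 : Hide (0 ≤ x36))
    (r40 : Hide (0 ≤ x40))
    (r41 : Hide (0 ≤ x41))
    (r42 : Hide (0 ≤ x42))
    (r43 : Hide (0 ≤ x43))
    (r45 : Hide (0 ≤ x45))
    (r46 : Hide (0 ≤ x46))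
    (r50 : Hide (0 ≤ x50))
    (r51 : Hide (0 ≤ x51))
    (r52 : Hide (0 ≤ x52))
    (r53 : Hide (0 ≤ x53))
    (r54 : Hide (0 ≤ x54))
    (r56 : Hide (0 ≤ x56))
    (r60 : Hide (0 ≤ x60))
    (r61 : Hide (0 ≤ x61))
    (r62 : Hide (0 ≤ x62))
    (r63 : Hide (0 ≤ x63))
    (r64 : Hide (0 ≤ x64))
    (r65 : Hide (0 ≤ x65))
    (hw0 : Hide (0 < T.w 0))
    (hw1 : Hide (0 < T.w 1))
    (hw2 : Hide (0 < T.w 2))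
    (hw3 : Hide (0 < T.w 3))
    (hw4 : Hide (0 < T.w 4))
    (hw5 : Hide (0 < T.w 5))
    (hw6 : Hide (0 < T.w 6))
    (hs01 : Hide (T.a 0 1 = T.a 1 0))
    (hs02 : Hide (T.a 0 2 = T.a 2 0))
    (hs03 : Hide (T.a 0 3 = T.a 3 0))
    (hs04 : Hide (T.a 0 4 = T.a 4 0))
    (hs05 : Hide (T.a 0 5 = T.a 5 0))
    (hs06 : Hide (T.a 0 6 = T.a 6 0))
    (hs12 : Hide (T.a 1 2 = T.a 2 1))
    (hs13 : Hide (T.a 1 3 = T.a 3 1))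
    (hs14 : Hide (T.a 1 4 = T.a 4 1))
    (hs15 : Hide (T.a 1 5 = T.a 5 1))
    (hs16 : Hide (T.a 1 6 = T.a 6 1))
    (hs23 : Hide (T.a 2 3 = T.a 3 2))
    (hs24 : Hide (T.a 2 4 = T.a 4 2))
    (hs25 : Hide (T.a 2 5 = T.a 5 2))
    (hs26 : Hide (T.a 2 6 = T.a 6 2))
    (hs34 : Hide (T.a 3 4 = T.a 4 3))
    (hs35 : Hide (T.a 3 5 = T.a 5 3))
    (hs36 : Hide (T.a 3 6 = T.a 6 3))
    (hs45 : Hide (T.a 4 5 = T.a 5 4))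
    (hs46 : Hide (T.a 4 6 = T.a 6 4))
    (hs56 : Hide (T.a 5 6 = T.a 6 5))
    (ha00 : Hide (T.a 0 0 = -2 * T.w 0))
    (ha11 : Hide (T.a 1 1 = -2 * T.w 1))
    (ha22 : Hide (T.a 2 2 = -2 * T.w 2))
    (ha33 : Hide (T.a 3 3 = -2 * T.w 3))
    (ha44 : Hide (T.a 4 4 = -2 * T.w 4))
    (ha55 : Hide (T.a 5 5 = -2 * T.w 5))
    (ha66 : Hide (T.a 6 6 = -2 * T.w 6))
    (v0 : Hide (q01 + q02 + q03 + q04 + q05 + q06 ≤ 4))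
    (v1 : Hide (q01 + q12 + q13 + q14 + q15 + q16 ≤ 4))
    (v2 : Hide (q02 + q12 + q23 + q24 + q25 + q26 ≤ 4))
    (v3 : Hide (q03 + q13 + q23 + q34 + q35 + q36 ≤ 4))
    (v4 : Hide (q04 + q14 + q24 + q34 + q45 + q46 ≤ 4))
    (v5 : Hide (q05 + q15 + q25 + q35 + q45 + q56 ≤ 4))
    (v6 : Hide (q06 + q16 + q26 + q36 + q46 + q56 ≤ 4))
    (qn01 : Hide (0 ≤ q01))
    (qn02 : Hide (0 ≤ q02))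
    (qn03 : Hide (0 ≤ q03))
    (qn04 : Hide (0 ≤ q04))
    (qn05 : Hide (0 ≤ q05))
    (qn06 : Hide (0 ≤ q06))
    (qn12 : Hide (0 ≤ q12))
    (qn13 : Hide (0 ≤ q13))
    (qn14 : Hide (0 ≤ q14))
    (qn15 : Hide (0 ≤ q15))
    (qn16 : Hide (0 ≤ q16))
    (qn23 : Hide (0 ≤ q23))
    (qn24 : Hide (0 ≤ q24))
    (qn25 : Hide (0 ≤ q25))
    (qn26 : Hide (0 ≤ q26))
    (qn34 : Hide (0 ≤ q34))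
    (qn35 : Hide (0 ≤ q35))
    (qn36 : Hide (0 ≤ q36))
    (qn45 : Hide (0 ≤ q45))
    (qn46 : Hide (0 ≤ q46))
    (qn56 : Hide (0 ≤ q56))
    (od1 : Hide (0 < α01))
    (od2 : Hide (0 < α02 + α12))
    (od3 : Hide (0 < α03 + α13 + α23))
    (od4 : Hide (0 < α04 + α14 + α24 + α34))
    (od5 : Hide (0 < α05 + α15 + α25 + α35 + α45))
    (od6 : Hide (0 < α06 + α16 + α26 + α36 + α46 + α56))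
    (c01 : Hide (((Hide (x01 = 0 ∧ x10 = 0) ∧ Hide (T.a 0 1 = 0 ∧ T.a 1 0 = 0) ∧ Hide (α01 = 0 ∧ α10 = 0)) ∧ q01 = 0) ∨ ((Hide (x01 = T.m 1 ∧ x10 = T.m 0) ∧ Hide (T.a 0 1 = T.w 0 ∧ T.a 1 0 = T.w 1) ∧ Hide (α01 = 1 ∧ α10 = 1)) ∧ q01 = 1) ∨ ((Hide (x01 = T.m 1 ∧ x10 = 2 * T.m 0) ∧ Hide (T.a 0 1 = T.w 0 ∧ T.a 1 0 = 2 * T.w 1) ∧ Hide (α01 = 1 ∧ α10 = 2)) ∧ q01 = 2) ∨ ((Hide (x01 = 2 * T.m 1 ∧ x10 = T.m 0) ∧ Hide (T.a 0 1 = 2 * T.w 0 ∧ T.a 1 0 = T.w 1) ∧ Hide (α01 = 2 ∧ α10 = 1)) ∧ q01 = 2) ∨ ((Hide (x01 = T.m 1 ∧ x10 = 3 * T.m 0) ∧ Hide (T.a 0 1 = T.w 0 ∧ T.a 1 0 = 3 * T.w 1) ∧ Hide (α01 = 1 ∧ α10 = 3)) ∧ q01 = 3) ∨ ((Hide (x01 = 3 * T.m 1 ∧ x10 = T.m 0) ∧ Hide (T.a 0 1 = 3 * T.w 0 ∧ T.a 1 0 = T.w 1) ∧ Hide (α01 = 3 ∧ α10 = 1)) ∧ q01 = 3) ∨ ((Hide (x01 = T.m 1 ∧ x10 = 4 * T.m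 0) ∧ Hide (T.a 0 1 = T.w 0 ∧ T.a 1 0 = 4 * T.w 1) ∧ Hide (α01 = 1 ∧ α10 = 4)) ∧ q01 = 4) ∨ ((Hide (x01 = 4 * T.m 1 ∧ x10 = T.m 0) ∧ Hide (T.a 0 1 = 4 * T.w 0 ∧ T.a 1 0 = T.w 1) ∧ Hide (α01 = 4 ∧ α10 = 1)) ∧ q01 = 4) ∨ ((Hide (x01 = 2 * T.m 1 ∧ x10 = 2 * T.m 0) ∧ Hide (T.a 0 1 = 2 * T.w 0 ∧ T.a 1 0 = 2 * T.w 1) ∧ Hide (α01 = 2 ∧ α10 = 2)) ∧ q01 = 4)))
    (c02 : Hide (((Hide (x02 = 0 ∧ x20 = 0) ∧ Hide (T.a 0 2 = 0 ∧ T.a 2 0 = 0) ∧ Hide (α02 = 0 ∧ α20 = 0)) ∧ q02 = 0) ∨ ((Hide (x02 = T.m 2 ∧ x20 = T.m 0) ∧ Hide (T.a 0 2 = T.w 0 ∧ T.a 2 0 = T.w 2) ∧ Hide (α02 = 1 ∧ α20 = 1)) ∧ q02 = 1) ∨ ((Hide (x02 = T.m 2 ∧ x20 = 2 * T.m 0) ∧ Hide (T.a 0 2 = T.w 0 ∧ T.a 2 0 = 2 * T.w 2) ∧ Hide (α02 = 1 ∧ α20 = 2)) ∧ q02 = 2) ∨ ((Hide (x02 = 2 * T.m 2 ∧ x20 = T.m 0) ∧ Hide (T.a 0 2 = 2 * T.w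 0 ∧ T.a 2 0 = T.w 2) ∧ Hide (α02 = 2 ∧ α20 = 1)) ∧ q02 = 2) ∨ ((Hide (x02 = T.m 2 ∧ x20 = 3 * T.m 0) ∧ Hide (T.a 0 2 = T.w 0 ∧ T.a 2 0 = 3 * T.w 2) ∧ Hide (α02 = 1 ∧ α20 = 3)) ∧ q02 = 3) ∨ ((Hide (x02 = 3 * T.m 2 ∧ x20 = T.m 0) ∧ Hide (T.a 0 2 = 3 * T.w 0 ∧ T.a 2 0 = T.w 2) ∧ Hide (α02 = 3 ∧ α20 = 1)) ∧ q02 = 3) ∨ ((Hide (x02 = T.m 2 ∧ x20 = 4 * T.m 0) ∧ Hide (T.a 0 2 = T.w 0 ∧ T.a 2 0 = 4 * T.w 2) ∧ Hide (α02 = 1 ∧ α20 = 4)) ∧ q02 = 4) ∨ ((Hide (x02 = 4 * T.m 2 ∧ x20 = T.m 0) ∧ Hide (T.a 0 2 = 4 * T.w 0 ∧ T.a 2 0 = T.w 2) ∧ Hide (α02 = 4 ∧ α20 = 1)) ∧ q02 = 4) ∨ ((Hide (x02 = 2 * T.m 2 ∧ x20 = 2 * T.m 0) ∧ Hide (T.a 0 2 = 2 * T.w 0 ∧ T.a 2 0 = 2 * T.w 2) ∧ Hide (α02 = 2 ∧ α20 = 2)) ∧ q02 = 4)))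
    (c03 : Hide (((Hide (x03 = 0 ∧ x30 = 0) ∧ Hide (T.a 0 3 = 0 ∧ T.a 3 0 = 0) ∧ Hide (α03 = 0 ∧ α30 = 0)) ∧ q03 = 0) ∨ ((Hide (x03 = T.m 3 ∧ x30 = T.m 0) ∧ Hide (T.a 0 3 = T.w 0 ∧ T.a 3 0 = T.w 3) ∧ Hide (α03 = 1 ∧ α30 = 1)) ∧ q03 = 1) ∨ ((Hide (x03 = T.m 3 ∧ x30 = 2 * T.m 0) ∧ Hide (T.a 0 3 = T.w 0 ∧ T.a 3 0 = 2 * T.w 3) ∧ Hide (α03 = 1 ∧ α30 = 2)) ∧ q03 = 2) ∨ ((Hide (x03 = 2 * T.m 3 ∧ x30 = T.m 0) ∧ Hide (T.a 0 3 = 2 * T.w 0 ∧ T.a 3 0 = T.w 3) ∧ Hide (α03 = 2 ∧ α30 = 1)) ∧ q03 = 2) ∨ ((Hide (x03 = T.m 3 ∧ x30 = 3 * T.m 0) ∧ Hide (T.a 0 3 = T.w 0 ∧ T.a 3 0 = 3 * T.w 3) ∧ Hide (α03 = 1 ∧ α30 = 3)) ∧ q03 = 3) ∨ ((Hide (x03 = 3 * T.m 3 ∧ x30 = T.m 0) ∧ Hide (T.a 0 3 = 3 * T.w 0 ∧ T.a 3 0 = T.w 3) ∧ Hide (α03 = 3 ∧ α30 = 1)) ∧ q03 = 3) ∨ ((Hide (x03 = T.m 3 ∧ x30 = 4 * T.m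 0) ∧ Hide (T.a 0 3 = T.w 0 ∧ T.a 3 0 = 4 * T.w 3) ∧ Hide (α03 = 1 ∧ α30 = 4)) ∧ q03 = 4) ∨ ((Hide (x03 = 4 * T.m 3 ∧ x30 = T.m 0) ∧ Hide (T.a 0 3 = 4 * T.w 0 ∧ T.a 3 0 = T.w 3) ∧ Hide (α03 = 4 ∧ α30 = 1)) ∧ q03 = 4) ∨ ((Hide (x03 = 2 * T.m 3 ∧ x30 = 2 * T.m 0) ∧ Hide (T.a 0 3 = 2 * T.w 0 ∧ T.a 3 0 = 2 * T.w 3) ∧ Hide (α03 = 2 ∧ α30 = 2)) ∧ q03 = 4)))
    (c04 : Hide (((Hide (x04 = 0 ∧ x40 = 0) ∧ Hide (T.a 0 4 = 0 ∧ T.a 4 0 = 0) ∧ Hide (α04 = 0 ∧ α40 = 0)) ∧ q04 = 0) ∨ ((Hide (x04 = T.m 4 ∧ x40 = T.m 0) ∧ Hide (T.a 0 4 = T.w 0 ∧ T.a 4 0 = T.w 4) ∧ Hide (α04 = 1 ∧ α40 = 1)) ∧ q04 = 1) ∨ ((Hide (x04 = T.m 4 ∧ x40 = 2 * T.m 0) ∧ Hide (T.a 0 4 = T.w 0 ∧ T.a 4 0 = 2 * T.w 4) ∧ Hide (α04 = 1 ∧ α40 = 2)) ∧ q04 = 2) ∨ ((Hide (x04 = 2 * T.m 4 ∧ x40 = T.m 0) ∧ Hide (T.a 0 4 = 2 * T.w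 0 ∧ T.a 4 0 = T.w 4) ∧ Hide (α04 = 2 ∧ α40 = 1)) ∧ q04 = 2) ∨ ((Hide (x04 = T.m 4 ∧ x40 = 3 * T.m 0) ∧ Hide (T.a 0 4 = T.w 0 ∧ T.a 4 0 = 3 * T.w 4) ∧ Hide (α04 = 1 ∧ α40 = 3)) ∧ q04 = 3) ∨ ((Hide (x04 = 3 * T.m 4 ∧ x40 = T.m 0) ∧ Hide (T.a 0 4 = 3 * T.w 0 ∧ T.a 4 0 = T.w 4) ∧ Hide (α04 = 3 ∧ α40 = 1)) ∧ q04 = 3) ∨ ((Hide (x04 = T.m 4 ∧ x40 = 4 * T.m 0) ∧ Hide (T.a 0 4 = T.w 0 ∧ T.a 4 0 = 4 * T.w 4) ∧ Hide (α04 = 1 ∧ α40 = 4)) ∧ q04 = 4) ∨ ((Hide (x04 = 4 * T.m 4 ∧ x40 = T.m 0) ∧ Hide (T.a 0 4 = 4 * T.w 0 ∧ T.a 4 0 = T.w 4) ∧ Hide (α04 = 4 ∧ α40 = 1)) ∧ q04 = 4) ∨ ((Hide (x04 = 2 * T.m 4 ∧ x40 = 2 * T.m 0) ∧ Hide (T.a 0 4 = 2 * T.w 0 ∧ T.a 4 0 = 2 * T.w 4) ∧ Hide (α04 = 2 ∧ α40 = 2)) ∧ q04 = 4)))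
    (c05 : Hide (((Hide (x05 = 0 ∧ x50 = 0) ∧ Hide (T.a 0 5 = 0 ∧ T.a 5 0 = 0) ∧ Hide (α05 = 0 ∧ α50 = 0)) ∧ q05 = 0) ∨ ((Hide (x05 = T.m 5 ∧ x50 = T.m 0) ∧ Hide (T.a 0 5 = T.w 0 ∧ T.a 5 0 = T.w 5) ∧ Hide (α05 = 1 ∧ α50 = 1)) ∧ q05 = 1) ∨ ((Hide (x05 = T.m 5 ∧ x50 = 2 * T.m 0) ∧ Hide (T.a 0 5 = T.w 0 ∧ T.a 5 0 = 2 * T.w 5) ∧ Hide (α05 = 1 ∧ α50 = 2)) ∧ q05 = 2) ∨ ((Hide (x05 = 2 * T.m 5 ∧ x50 = T.m 0) ∧ Hide (T.a 0 5 = 2 * T.w 0 ∧ T.a 5 0 = T.w 5) ∧ Hide (α05 = 2 ∧ α50 = 1)) ∧ q05 = 2) ∨ ((Hide (x05 = T.m 5 ∧ x50 = 3 * T.m 0) ∧ Hide (T.a 0 5 = T.w 0 ∧ T.a 5 0 = 3 * T.w 5) ∧ Hide (α05 = 1 ∧ α50 = 3)) ∧ q05 = 3) ∨ ((Hide (x05 = 3 * T.m 5 ∧ x50 = T.m 0) ∧ Hide (T.a 0 5 = 3 * T.w 0 ∧ T.a 5 0 = T.w 5) ∧ Hide (α05 = 3 ∧ α50 = 1)) ∧ q05 = 3) ∨ ((Hide (x05 = T.m 5 ∧ x50 = 4 * T.m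 0) ∧ Hide (T.a 0 5 = T.w 0 ∧ T.a 5 0 = 4 * T.w 5) ∧ Hide (α05 = 1 ∧ α50 = 4)) ∧ q05 = 4) ∨ ((Hide (x05 = 4 * T.m 5 ∧ x50 = T.m 0) ∧ Hide (T.a 0 5 = 4 * T.w 0 ∧ T.a 5 0 = T.w 5) ∧ Hide (α05 = 4 ∧ α50 = 1)) ∧ q05 = 4) ∨ ((Hide (x05 = 2 * T.m 5 ∧ x50 = 2 * T.m 0) ∧ Hide (T.a 0 5 = 2 * T.w 0 ∧ T.a 5 0 = 2 * T.w 5) ∧ Hide (α05 = 2 ∧ α50 = 2)) ∧ q05 = 4)))
    (c06 : Hide (((Hide (x06 = 0 ∧ x60 = 0) ∧ Hide (T.a 0 6 = 0 ∧ T.a 6 0 = 0) ∧ Hide (α06 = 0 ∧ α60 = 0)) ∧ q06 = 0) ∨ ((Hide (x06 = T.m 6 ∧ x60 = T.m 0) ∧ Hide (T.a 0 6 = T.w 0 ∧ T.a 6 0 = T.w 6) ∧ Hide (α06 = 1 ∧ α60 = 1)) ∧ q06 = 1) ∨ ((Hide (x06 = T.m 6 ∧ x60 = 2 * T.m 0) ∧ Hide (T.a 0 6 = T.w 0 ∧ T.a 6 0 = 2 * T.w 6) ∧ Hide (α06 = 1 ∧ α60 = 2)) ∧ q06 = 2) ∨ ((Hide (x06 = 2 * T.m 6 ∧ x60 = T.m 0) ∧ Hide (T.a 0 6 = 2 * T.w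 0 ∧ T.a 6 0 = T.w 6) ∧ Hide (α06 = 2 ∧ α60 = 1)) ∧ q06 = 2) ∨ ((Hide (x06 = T.m 6 ∧ x60 = 3 * T.m 0) ∧ Hide (T.a 0 6 = T.w 0 ∧ T.a 6 0 = 3 * T.w 6) ∧ Hide (α06 = 1 ∧ α60 = 3)) ∧ q06 = 3) ∨ ((Hide (x06 = 3 * T.m 6 ∧ x60 = T.m 0) ∧ Hide (T.a 0 6 = 3 * T.w 0 ∧ T.a 6 0 = T.w 6) ∧ Hide (α06 = 3 ∧ α60 = 1)) ∧ q06 = 3) ∨ ((Hide (x06 = T.m 6 ∧ x60 = 4 * T.m 0) ∧ Hide (T.a 0 6 = T.w 0 ∧ T.a 6 0 = 4 * T.w 6) ∧ Hide (α06 = 1 ∧ α60 = 4)) ∧ q06 = 4) ∨ ((Hide (x06 = 4 * T.m 6 ∧ x60 = T.m 0) ∧ Hide (T.a 0 6 = 4 * T.w 0 ∧ T.a 6 0 = T.w 6) ∧ Hide (α06 = 4 ∧ α60 = 1)) ∧ q06 = 4) ∨ ((Hide (x06 = 2 * T.m 6 ∧ x60 = 2 * T.m 0) ∧ Hide (T.a 0 6 = 2 * T.w 0 ∧ T.a 6 0 = 2 * T.w 6) ∧ Hide (α06 = 2 ∧ α60 = 2)) ∧ q06 = 4)))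
    (c12 : Hide (((Hide (x12 = 0 ∧ x21 = 0) ∧ Hide (T.a 1 2 = 0 ∧ T.a 2 1 = 0) ∧ Hide (α12 = 0 ∧ α21 = 0)) ∧ q12 = 0) ∨ ((Hide (x12 = T.m 2 ∧ x21 = T.m 1) ∧ Hide (T.a 1 2 = T.w 1 ∧ T.a 2 1 = T.w 2) ∧ Hide (α12 = 1 ∧ α21 = 1)) ∧ q12 = 1) ∨ ((Hide (x12 = T.m 2 ∧ x21 = 2 * T.m 1) ∧ Hide (T.a 1 2 = T.w 1 ∧ T.a 2 1 = 2 * T.w 2) ∧ Hide (α12 = 1 ∧ α21 = 2)) ∧ q12 = 2) ∨ ((Hide (x12 = 2 * T.m 2 ∧ x21 = T.m 1) ∧ Hide (T.a 1 2 = 2 * T.w 1 ∧ T.a 2 1 = T.w 2) ∧ Hide (α12 = 2 ∧ α21 = 1)) ∧ q12 = 2) ∨ ((Hide (x12 = T.m 2 ∧ x21 = 3 * T.m 1) ∧ Hide (T.a 1 2 = T.w 1 ∧ T.a 2 1 = 3 * T.w 2) ∧ Hide (α12 = 1 ∧ α21 = 3)) ∧ q12 = 3) ∨ ((Hide (x12 = 3 * T.m 2 ∧ x21 = T.m 1) ∧ Hide (T.a 1 2 = 3 * T.w 1 ∧ T.a 2 1 = T.w 2) ∧ Hide (α12 = 3 ∧ α21 = 1)) ∧ q12 = 3) ∨ ((Hide (x12 = T.m 2 ∧ x21 = 4 * T.m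 1) ∧ Hide (T.a 1 2 = T.w 1 ∧ T.a 2 1 = 4 * T.w 2) ∧ Hide (α12 = 1 ∧ α21 = 4)) ∧ q12 = 4) ∨ ((Hide (x12 = 4 * T.m 2 ∧ x21 = T.m 1) ∧ Hide (T.a 1 2 = 4 * T.w 1 ∧ T.a 2 1 = T.w 2) ∧ Hide (α12 = 4 ∧ α21 = 1)) ∧ q12 = 4) ∨ ((Hide (x12 = 2 * T.m 2 ∧ x21 = 2 * T.m 1) ∧ Hide (T.a 1 2 = 2 * T.w 1 ∧ T.a 2 1 = 2 * T.w 2) ∧ Hide (α12 = 2 ∧ α21 = 2)) ∧ q12 = 4)))
    (c13 : Hide (((Hide (x13 = 0 ∧ x31 = 0) ∧ Hide (T.a 1 3 = 0 ∧ T.a 3 1 = 0) ∧ Hide (α13 = 0 ∧ α31 = 0)) ∧ q13 = 0) ∨ ((Hide (x13 = T.m 3 ∧ x31 = T.m 1) ∧ Hide (T.a 1 3 = T.w 1 ∧ T.a 3 1 = T.w 3) ∧ Hide (α13 = 1 ∧ α31 = 1)) ∧ q13 = 1) ∨ ((Hide (x13 = T.m 3 ∧ x31 = 2 * T.m 1) ∧ Hide (T.a 1 3 = T.w 1 ∧ T.a 3 1 = 2 * T.w 3) ∧ Hide (α13 = 1 ∧ α31 = 2)) ∧ q13 = 2) ∨ ((Hide (x13 = 2 * T.m 3 ∧ x31 = T.m 1) ∧ Hide (T.a 1 3 = 2 * T.w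 1 ∧ T.a 3 1 = T.w 3) ∧ Hide (α13 = 2 ∧ α31 = 1)) ∧ q13 = 2) ∨ ((Hide (x13 = T.m 3 ∧ x31 = 3 * T.m 1) ∧ Hide (T.a 1 3 = T.w 1 ∧ T.a 3 1 = 3 * T.w 3) ∧ Hide (α13 = 1 ∧ α31 = 3)) ∧ q13 = 3) ∨ ((Hide (x13 = 3 * T.m 3 ∧ x31 = T.m 1) ∧ Hide (T.a 1 3 = 3 * T.w 1 ∧ T.a 3 1 = T.w 3) ∧ Hide (α13 = 3 ∧ α31 = 1)) ∧ q13 = 3) ∨ ((Hide (x13 = T.m 3 ∧ x31 = 4 * T.m 1) ∧ Hide (T.a 1 3 = T.w 1 ∧ T.a 3 1 = 4 * T.w 3) ∧ Hide (α13 = 1 ∧ α31 = 4)) ∧ q13 = 4) ∨ ((Hide (x13 = 4 * T.m 3 ∧ x31 = T.m 1) ∧ Hide (T.a 1 3 = 4 * T.w 1 ∧ T.a 3 1 = T.w 3) ∧ Hide (α13 = 4 ∧ α31 = 1)) ∧ q13 = 4) ∨ ((Hide (x13 = 2 * T.m 3 ∧ x31 = 2 * T.m 1) ∧ Hide (T.a 1 3 = 2 * T.w 1 ∧ T.a 3 1 = 2 * T.w 3) ∧ Hide (α13 = 2 ∧ α31 = 2)) ∧ q13 = 4)))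
    (c14 : Hide (((Hide (x14 = 0 ∧ x41 = 0) ∧ Hide (T.a 1 4 = 0 ∧ T.a 4 1 = 0) ∧ Hide (α14 = 0 ∧ α41 = 0)) ∧ q14 = 0) ∨ ((Hide (x14 = T.m 4 ∧ x41 = T.m 1) ∧ Hide (T.a 1 4 = T.w 1 ∧ T.a 4 1 = T.w 4) ∧ Hide (α14 = 1 ∧ α41 = 1)) ∧ q14 = 1) ∨ ((Hide (x14 = T.m 4 ∧ x41 = 2 * T.m 1) ∧ Hide (T.a 1 4 = T.w 1 ∧ T.a 4 1 = 2 * T.w 4) ∧ Hide (α14 = 1 ∧ α41 = 2)) ∧ q14 = 2) ∨ ((Hide (x14 = 2 * T.m 4 ∧ x41 = T.m 1) ∧ Hide (T.a 1 4 = 2 * T.w 1 ∧ T.a 4 1 = T.w 4) ∧ Hide (α14 = 2 ∧ α41 = 1)) ∧ q14 = 2) ∨ ((Hide (x14 = T.m 4 ∧ x41 = 3 * T.m 1) ∧ Hide (T.a 1 4 = T.w 1 ∧ T.a 4 1 = 3 * T.w 4) ∧ Hide (α14 = 1 ∧ α41 = 3)) ∧ q14 = 3) ∨ ((Hide (x14 = 3 * T.m 4 ∧ x41 = T.m 1) ∧ Hide (T.a 1 4 = 3 * T.w 1 ∧ T.a 4 1 = T.w 4) ∧ Hide (α14 = 3 ∧ α41 = 1)) ∧ q14 = 3) ∨ ((Hide (x14 = T.m 4 ∧ x41 = 4 * T.m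 1) ∧ Hide (T.a 1 4 = T.w 1 ∧ T.a 4 1 = 4 * T.w 4) ∧ Hide (α14 = 1 ∧ α41 = 4)) ∧ q14 = 4) ∨ ((Hide (x14 = 4 * T.m 4 ∧ x41 = T.m 1) ∧ Hide (T.a 1 4 = 4 * T.w 1 ∧ T.a 4 1 = T.w 4) ∧ Hide (α14 = 4 ∧ α41 = 1)) ∧ q14 = 4) ∨ ((Hide (x14 = 2 * T.m 4 ∧ x41 = 2 * T.m 1) ∧ Hide (T.a 1 4 = 2 * T.w 1 ∧ T.a 4 1 = 2 * T.w 4) ∧ Hide (α14 = 2 ∧ α41 = 2)) ∧ q14 = 4)))
    (c15 : Hide (((Hide (x15 = 0 ∧ x51 = 0) ∧ Hide (T.a 1 5 = 0 ∧ T.a 5 1 = 0) ∧ Hide (α15 = 0 ∧ α51 = 0)) ∧ q15 = 0) ∨ ((Hide (x15 = T.m 5 ∧ x51 = T.m 1) ∧ Hide (T.a 1 5 = T.w 1 ∧ T.a 5 1 = T.w 5) ∧ Hide (α15 = 1 ∧ α51 = 1)) ∧ q15 = 1) ∨ ((Hide (x15 = T.m 5 ∧ x51 = 2 * T.m 1) ∧ Hide (T.a 1 5 = T.w 1 ∧ T.a 5 1 = 2 * T.w 5) ∧ Hide (α15 = 1 ∧ α51 = 2)) ∧ q15 = 2) ∨ ((Hide (x15 = 2 * T.m 5 ∧ x51 = T.m 1) ∧ Hide (T.a 1 5 = 2 * T.w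 1 ∧ T.a 5 1 = T.w 5) ∧ Hide (α15 = 2 ∧ α51 = 1)) ∧ q15 = 2) ∨ ((Hide (x15 = T.m 5 ∧ x51 = 3 * T.m 1) ∧ Hide (T.a 1 5 = T.w 1 ∧ T.a 5 1 = 3 * T.w 5) ∧ Hide (α15 = 1 ∧ α51 = 3)) ∧ q15 = 3) ∨ ((Hide (x15 = 3 * T.m 5 ∧ x51 = T.m 1) ∧ Hide (T.a 1 5 = 3 * T.w 1 ∧ T.a 5 1 = T.w 5) ∧ Hide (α15 = 3 ∧ α51 = 1)) ∧ q15 = 3) ∨ ((Hide (x15 = T.m 5 ∧ x51 = 4 * T.m 1) ∧ Hide (T.a 1 5 = T.w 1 ∧ T.a 5 1 = 4 * T.w 5) ∧ Hide (α15 = 1 ∧ α51 = 4)) ∧ q15 = 4) ∨ ((Hide (x15 = 4 * T.m 5 ∧ x51 = T.m 1) ∧ Hide (T.a 1 5 = 4 * T.w 1 ∧ T.a 5 1 = T.w 5) ∧ Hide (α15 = 4 ∧ α51 = 1)) ∧ q15 = 4) ∨ ((Hide (x15 = 2 * T.m 5 ∧ x51 = 2 * T.m 1) ∧ Hide (T.a 1 5 = 2 * T.w 1 ∧ T.a 5 1 = 2 * T.w 5) ∧ Hide (α15 = 2 ∧ α51 = 2)) ∧ q15 = 4)))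
    (c16 : Hide (((Hide (x16 = 0 ∧ x61 = 0) ∧ Hide (T.a 1 6 = 0 ∧ T.a 6 1 = 0) ∧ Hide (α16 = 0 ∧ α61 = 0)) ∧ q16 = 0) ∨ ((Hide (x16 = T.m 6 ∧ x61 = T.m 1) ∧ Hide (T.a 1 6 = T.w 1 ∧ T.a 6 1 = T.w 6) ∧ Hide (α16 = 1 ∧ α61 = 1)) ∧ q16 = 1) ∨ ((Hide (x16 = T.m 6 ∧ x61 = 2 * T.m 1) ∧ Hide (T.a 1 6 = T.w 1 ∧ T.a 6 1 = 2 * T.w 6) ∧ Hide (α16 = 1 ∧ α61 = 2)) ∧ q16 = 2) ∨ ((Hide (x16 = 2 * T.m 6 ∧ x61 = T.m 1) ∧ Hide (T.a 1 6 = 2 * T.w 1 ∧ T.a 6 1 = T.w 6) ∧ Hide (α16 = 2 ∧ α61 = 1)) ∧ q16 = 2) ∨ ((Hide (x16 = T.m 6 ∧ x61 = 3 * T.m 1) ∧ Hide (T.a 1 6 = T.w 1 ∧ T.a 6 1 = 3 * T.w 6) ∧ Hide (α16 = 1 ∧ α61 = 3)) ∧ q16 = 3) ∨ ((Hide (x16 = 3 * T.m 6 ∧ x61 = T.m 1) ∧ Hide (T.a 1 6 = 3 * T.w 1 ∧ T.a 6 1 = T.w 6) ∧ Hide (α16 = 3 ∧ α61 = 1)) ∧ q16 = 3) ∨ ((Hide (x16 = T.m 6 ∧ x61 = 4 * T.m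 1) ∧ Hide (T.a 1 6 = T.w 1 ∧ T.a 6 1 = 4 * T.w 6) ∧ Hide (α16 = 1 ∧ α61 = 4)) ∧ q16 = 4) ∨ ((Hide (x16 = 4 * T.m 6 ∧ x61 = T.m 1) ∧ Hide (T.a 1 6 = 4 * T.w 1 ∧ T.a 6 1 = T.w 6) ∧ Hide (α16 = 4 ∧ α61 = 1)) ∧ q16 = 4) ∨ ((Hide (x16 = 2 * T.m 6 ∧ x61 = 2 * T.m 1) ∧ Hide (T.a 1 6 = 2 * T.w 1 ∧ T.a 6 1 = 2 * T.w 6) ∧ Hide (α16 = 2 ∧ α61 = 2)) ∧ q16 = 4)))
    (c23 : Hide (((Hide (x23 = 0 ∧ x32 = 0) ∧ Hide (T.a 2 3 = 0 ∧ T.a 3 2 = 0) ∧ Hide (α23 = 0 ∧ α32 = 0)) ∧ q23 = 0) ∨ ((Hide (x23 = T.m 3 ∧ x32 = T.m 2) ∧ Hide (T.a 2 3 = T.w 2 ∧ T.a 3 2 = T.w 3) ∧ Hide (α23 = 1 ∧ α32 = 1)) ∧ q23 = 1) ∨ ((Hide (x23 = T.m 3 ∧ x32 = 2 * T.m 2) ∧ Hide (T.a 2 3 = T.w 2 ∧ T.a 3 2 = 2 * T.w 3) ∧ Hide (α23 = 1 ∧ α32 = 2)) ∧ q23 = 2) ∨ ((Hide (x23 = 2 * T.m 3 ∧ x32 = T.m 2) ∧ Hide (T.a 2 3 = 2 * T.w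 2 ∧ T.a 3 2 = T.w 3) ∧ Hide (α23 = 2 ∧ α32 = 1)) ∧ q23 = 2) ∨ ((Hide (x23 = T.m 3 ∧ x32 = 3 * T.m 2) ∧ Hide (T.a 2 3 = T.w 2 ∧ T.a 3 2 = 3 * T.w 3) ∧ Hide (α23 = 1 ∧ α32 = 3)) ∧ q23 = 3) ∨ ((Hide (x23 = 3 * T.m 3 ∧ x32 = T.m 2) ∧ Hide (T.a 2 3 = 3 * T.w 2 ∧ T.a 3 2 = T.w 3) ∧ Hide (α23 = 3 ∧ α32 = 1)) ∧ q23 = 3) ∨ ((Hide (x23 = T.m 3 ∧ x32 = 4 * T.m 2) ∧ Hide (T.a 2 3 = T.w 2 ∧ T.a 3 2 = 4 * T.w 3) ∧ Hide (α23 = 1 ∧ α32 = 4)) ∧ q23 = 4) ∨ ((Hide (x23 = 4 * T.m 3 ∧ x32 = T.m 2) ∧ Hide (T.a 2 3 = 4 * T.w 2 ∧ T.a 3 2 = T.w 3) ∧ Hide (α23 = 4 ∧ α32 = 1)) ∧ q23 = 4) ∨ ((Hide (x23 = 2 * T.m 3 ∧ x32 = 2 * T.m 2) ∧ Hide (T.a 2 3 = 2 * T.w 2 ∧ T.a 3 2 = 2 * T.w 3) ∧ Hide (α23 = 2 ∧ α32 = 2)) ∧ q23 = 4)))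
    (c24 : Hide (((Hide (x24 = 0 ∧ x42 = 0) ∧ Hide (T.a 2 4 = 0 ∧ T.a 4 2 = 0) ∧ Hide (α24 = 0 ∧ α42 = 0)) ∧ q24 = 0) ∨ ((Hide (x24 = T.m 4 ∧ x42 = T.m 2) ∧ Hide (T.a 2 4 = T.w 2 ∧ T.a 4 2 = T.w 4) ∧ Hide (α24 = 1 ∧ α42 = 1)) ∧ q24 = 1) ∨ ((Hide (x24 = T.m 4 ∧ x42 = 2 * T.m 2) ∧ Hide (T.a 2 4 = T.w 2 ∧ T.a 4 2 = 2 * T.w 4) ∧ Hide (α24 = 1 ∧ α42 = 2)) ∧ q24 = 2) ∨ ((Hide (x24 = 2 * T.m 4 ∧ x42 = T.m 2) ∧ Hide (T.a 2 4 = 2 * T.w 2 ∧ T.a 4 2 = T.w 4) ∧ Hide (α24 = 2 ∧ α42 = 1)) ∧ q24 = 2) ∨ ((Hide (x24 = T.m 4 ∧ x42 = 3 * T.m 2) ∧ Hide (T.a 2 4 = T.w 2 ∧ T.a 4 2 = 3 * T.w 4) ∧ Hide (α24 = 1 ∧ α42 = 3)) ∧ q24 = 3) ∨ ((Hide (x24 = 3 * T.m 4 ∧ x42 = T.m 2) ∧ Hide (T.a 2 4 = 3 * T.w 2 ∧ T.a 4 2 = T.w 4) ∧ Hide (α24 = 3 ∧ α42 = 1)) ∧ q24 = 3) ∨ ((Hide (x24 = T.m 4 ∧ x42 = 4 * T.m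 2) ∧ Hide (T.a 2 4 = T.w 2 ∧ T.a 4 2 = 4 * T.w 4) ∧ Hide (α24 = 1 ∧ α42 = 4)) ∧ q24 = 4) ∨ ((Hide (x24 = 4 * T.m 4 ∧ x42 = T.m 2) ∧ Hide (T.a 2 4 = 4 * T.w 2 ∧ T.a 4 2 = T.w 4) ∧ Hide (α24 = 4 ∧ α42 = 1)) ∧ q24 = 4) ∨ ((Hide (x24 = 2 * T.m 4 ∧ x42 = 2 * T.m 2) ∧ Hide (T.a 2 4 = 2 * T.w 2 ∧ T.a 4 2 = 2 * T.w 4) ∧ Hide (α24 = 2 ∧ α42 = 2)) ∧ q24 = 4)))
    (c25 : Hide (((Hide (x25 = 0 ∧ x52 = 0) ∧ Hide (T.a 2 5 = 0 ∧ T.a 5 2 = 0) ∧ Hide (α25 = 0 ∧ α52 = 0)) ∧ q25 = 0) ∨ ((Hide (x25 = T.m 5 ∧ x52 = T.m 2) ∧ Hide (T.a 2 5 = T.w 2 ∧ T.a 5 2 = T.w 5) ∧ Hide (α25 = 1 ∧ α52 = 1)) ∧ q25 = 1) ∨ ((Hide (x25 = T.m 5 ∧ x52 = 2 * T.m 2) ∧ Hide (T.a 2 5 = T.w 2 ∧ T.a 5 2 = 2 * T.w 5) ∧ Hide (α25 = 1 ∧ α52 = 2)) ∧ q25 = 2) ∨ ((Hide (x25 = 2 * T.m 5 ∧ x52 = T.m 2) ∧ Hide (T.a 2 5 = 2 * T.w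 2 ∧ T.a 5 2 = T.w 5) ∧ Hide (α25 = 2 ∧ α52 = 1)) ∧ q25 = 2) ∨ ((Hide (x25 = T.m 5 ∧ x52 = 3 * T.m 2) ∧ Hide (T.a 2 5 = T.w 2 ∧ T.a 5 2 = 3 * T.w 5) ∧ Hide (α25 = 1 ∧ α52 = 3)) ∧ q25 = 3) ∨ ((Hide (x25 = 3 * T.m 5 ∧ x52 = T.m 2) ∧ Hide (T.a 2 5 = 3 * T.w 2 ∧ T.a 5 2 = T.w 5) ∧ Hide (α25 = 3 ∧ α52 = 1)) ∧ q25 = 3) ∨ ((Hide (x25 = T.m 5 ∧ x52 = 4 * T.m 2) ∧ Hide (T.a 2 5 = T.w 2 ∧ T.a 5 2 = 4 * T.w 5) ∧ Hide (α25 = 1 ∧ α52 = 4)) ∧ q25 = 4) ∨ ((Hide (x25 = 4 * T.m 5 ∧ x52 = T.m 2) ∧ Hide (T.a 2 5 = 4 * T.w 2 ∧ T.a 5 2 = T.w 5) ∧ Hide (α25 = 4 ∧ α52 = 1)) ∧ q25 = 4) ∨ ((Hide (x25 = 2 * T.m 5 ∧ x52 = 2 * T.m 2) ∧ Hide (T.a 2 5 = 2 * T.w 2 ∧ T.a 5 2 = 2 * T.w 5) ∧ Hide (α25 = 2 ∧ α52 = 2)) ∧ q25 = 4)))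
    (c26 : Hide (((Hide (x26 = 0 ∧ x62 = 0) ∧ Hide (T.a 2 6 = 0 ∧ T.a 6 2 = 0) ∧ Hide (α26 = 0 ∧ α62 = 0)) ∧ q26 = 0) ∨ ((Hide (x26 = T.m 6 ∧ x62 = T.m 2) ∧ Hide (T.a 2 6 = T.w 2 ∧ T.a 6 2 = T.w 6) ∧ Hide (α26 = 1 ∧ α62 = 1)) ∧ q26 = 1) ∨ ((Hide (x26 = T.m 6 ∧ x62 = 2 * T.m 2) ∧ Hide (T.a 2 6 = T.w 2 ∧ T.a 6 2 = 2 * T.w 6) ∧ Hide (α26 = 1 ∧ α62 = 2)) ∧ q26 = 2) ∨ ((Hide (x26 = 2 * T.m 6 ∧ x62 = T.m 2) ∧ Hide (T.a 2 6 = 2 * T.w 2 ∧ T.a 6 2 = T.w 6) ∧ Hide (α26 = 2 ∧ α62 = 1)) ∧ q26 = 2) ∨ ((Hide (x26 = T.m 6 ∧ x62 = 3 * T.m 2) ∧ Hide (T.a 2 6 = T.w 2 ∧ T.a 6 2 = 3 * T.w 6) ∧ Hide (α26 = 1 ∧ α62 = 3)) ∧ q26 = 3) ∨ ((Hide (x26 = 3 * T.m 6 ∧ x62 = T.m 2) ∧ Hide (T.a 2 6 = 3 * T.w 2 ∧ T.a 6 2 = T.w 6) ∧ Hide (α26 = 3 ∧ α62 = 1)) ∧ q26 = 3) ∨ ((Hide (x26 = T.m 6 ∧ x62 = 4 * T.m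 2) ∧ Hide (T.a 2 6 = T.w 2 ∧ T.a 6 2 = 4 * T.w 6) ∧ Hide (α26 = 1 ∧ α62 = 4)) ∧ q26 = 4) ∨ ((Hide (x26 = 4 * T.m 6 ∧ x62 = T.m 2) ∧ Hide (T.a 2 6 = 4 * T.w 2 ∧ T.a 6 2 = T.w 6) ∧ Hide (α26 = 4 ∧ α62 = 1)) ∧ q26 = 4) ∨ ((Hide (x26 = 2 * T.m 6 ∧ x62 = 2 * T.m 2) ∧ Hide (T.a 2 6 = 2 * T.w 2 ∧ T.a 6 2 = 2 * T.w 6) ∧ Hide (α26 = 2 ∧ α62 = 2)) ∧ q26 = 4)))
    (c34 : Hide (((Hide (x34 = 0 ∧ x43 = 0) ∧ Hide (T.a 3 4 = 0 ∧ T.a 4 3 = 0) ∧ Hide (α34 = 0 ∧ α43 = 0)) ∧ q34 = 0) ∨ ((Hide (x34 = T.m 4 ∧ x43 = T.m 3) ∧ Hide (T.a 3 4 = T.w 3 ∧ T.a 4 3 = T.w 4) ∧ Hide (α34 = 1 ∧ α43 = 1)) ∧ q34 = 1) ∨ ((Hide (x34 = T.m 4 ∧ x43 = 2 * T.m 3) ∧ Hide (T.a 3 4 = T.w 3 ∧ T.a 4 3 = 2 * T.w 4) ∧ Hide (α34 = 1 ∧ α43 = 2)) ∧ q34 = 2) ∨ ((Hide (x34 = 2 * T.m 4 ∧ x43 = T.m 3) ∧ Hide (T.a 3 4 = 2 * T.w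 3 ∧ T.a 4 3 = T.w 4) ∧ Hide (α34 = 2 ∧ α43 = 1)) ∧ q34 = 2) ∨ ((Hide (x34 = T.m 4 ∧ x43 = 3 * T.m 3) ∧ Hide (T.a 3 4 = T.w 3 ∧ T.a 4 3 = 3 * T.w 4) ∧ Hide (α34 = 1 ∧ α43 = 3)) ∧ q34 = 3) ∨ ((Hide (x34 = 3 * T.m 4 ∧ x43 = T.m 3) ∧ Hide (T.a 3 4 = 3 * T.w 3 ∧ T.a 4 3 = T.w 4) ∧ Hide (α34 = 3 ∧ α43 = 1)) ∧ q34 = 3) ∨ ((Hide (x34 = T.m 4 ∧ x43 = 4 * T.m 3) ∧ Hide (T.a 3 4 = T.w 3 ∧ T.a 4 3 = 4 * T.w 4) ∧ Hide (α34 = 1 ∧ α43 = 4)) ∧ q34 = 4) ∨ ((Hide (x34 = 4 * T.m 4 ∧ x43 = T.m 3) ∧ Hide (T.a 3 4 = 4 * T.w 3 ∧ T.a 4 3 = T.w 4) ∧ Hide (α34 = 4 ∧ α43 = 1)) ∧ q34 = 4) ∨ ((Hide (x34 = 2 * T.m 4 ∧ x43 = 2 * T.m 3) ∧ Hide (T.a 3 4 = 2 * T.w 3 ∧ T.a 4 3 = 2 * T.w 4) ∧ Hide (α34 = 2 ∧ α43 = 2)) ∧ q34 = 4)))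
    (c35 : Hide (((Hide (x35 = 0 ∧ x53 = 0) ∧ Hide (T.a 3 5 = 0 ∧ T.a 5 3 = 0) ∧ Hide (α35 = 0 ∧ α53 = 0)) ∧ q35 = 0) ∨ ((Hide (x35 = T.m 5 ∧ x53 = T.m 3) ∧ Hide (T.a 3 5 = T.w 3 ∧ T.a 5 3 = T.w 5) ∧ Hide (α35 = 1 ∧ α53 = 1)) ∧ q35 = 1) ∨ ((Hide (x35 = T.m 5 ∧ x53 = 2 * T.m 3) ∧ Hide (T.a 3 5 = T.w 3 ∧ T.a 5 3 = 2 * T.w 5) ∧ Hide (α35 = 1 ∧ α53 = 2)) ∧ q35 = 2) ∨ ((Hide (x35 = 2 * T.m 5 ∧ x53 = T.m 3) ∧ Hide (T.a 3 5 = 2 * T.w 3 ∧ T.a 5 3 = T.w 5) ∧ Hide (α35 = 2 ∧ α53 = 1)) ∧ q35 = 2) ∨ ((Hide (x35 = T.m 5 ∧ x53 = 3 * T.m 3) ∧ Hide (T.a 3 5 = T.w 3 ∧ T.a 5 3 = 3 * T.w 5) ∧ Hide (α35 = 1 ∧ α53 = 3)) ∧ q35 = 3) ∨ ((Hide (x35 = 3 * T.m 5 ∧ x53 = T.m 3) ∧ Hide (T.a 3 5 = 3 * T.w 3 ∧ T.a 5 3 = T.w 5) ∧ Hide (α35 = 3 ∧ α53 = 1)) ∧ q35 = 3) ∨ ((Hide (x35 = T.m 5 ∧ x53 = 4 * T.m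 3) ∧ Hide (T.a 3 5 = T.w 3 ∧ T.a 5 3 = 4 * T.w 5) ∧ Hide (α35 = 1 ∧ α53 = 4)) ∧ q35 = 4) ∨ ((Hide (x35 = 4 * T.m 5 ∧ x53 = T.m 3) ∧ Hide (T.a 3 5 = 4 * T.w 3 ∧ T.a 5 3 = T.w 5) ∧ Hide (α35 = 4 ∧ α53 = 1)) ∧ q35 = 4) ∨ ((Hide (x35 = 2 * T.m 5 ∧ x53 = 2 * T.m 3) ∧ Hide (T.a 3 5 = 2 * T.w 3 ∧ T.a 5 3 = 2 * T.w 5) ∧ Hide (α35 = 2 ∧ α53 = 2)) ∧ q35 = 4)))
    (c36 : Hide (((Hide (x36 = 0 ∧ x63 = 0) ∧ Hide (T.a 3 6 = 0 ∧ T.a 6 3 = 0) ∧ Hide (α36 = 0 ∧ α63 = 0)) ∧ q36 = 0) ∨ ((Hide (x36 = T.m 6 ∧ x63 = T.m 3) ∧ Hide (T.a 3 6 = T.w 3 ∧ T.a 6 3 = T.w 6) ∧ Hide (α36 = 1 ∧ α63 = 1)) ∧ q36 = 1) ∨ ((Hide (x36 = T.m 6 ∧ x63 = 2 * T.m 3) ∧ Hide (T.a 3 6 = T.w 3 ∧ T.a 6 3 = 2 * T.w 6) ∧ Hide (α36 = 1 ∧ α63 = 2)) ∧ q36 = 2) ∨ ((Hide (x36 = 2 * T.m 6 ∧ x63 = T.m 3) ∧ Hide (T.a 3 6 = 2 * T.w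 3 ∧ T.a 6 3 = T.w 6) ∧ Hide (α36 = 2 ∧ α63 = 1)) ∧ q36 = 2) ∨ ((Hide (x36 = T.m 6 ∧ x63 = 3 * T.m 3) ∧ Hide (T.a 3 6 = T.w 3 ∧ T.a 6 3 = 3 * T.w 6) ∧ Hide (α36 = 1 ∧ α63 = 3)) ∧ q36 = 3) ∨ ((Hide (x36 = 3 * T.m 6 ∧ x63 = T.m 3) ∧ Hide (T.a 3 6 = 3 * T.w 3 ∧ T.a 6 3 = T.w 6) ∧ Hide (α36 = 3 ∧ α63 = 1)) ∧ q36 = 3) ∨ ((Hide (x36 = T.m 6 ∧ x63 = 4 * T.m 3) ∧ Hide (T.a 3 6 = T.w 3 ∧ T.a 6 3 = 4 * T.w 6) ∧ Hide (α36 = 1 ∧ α63 = 4)) ∧ q36 = 4) ∨ ((Hide (x36 = 4 * T.m 6 ∧ x63 = T.m 3) ∧ Hide (T.a 3 6 = 4 * T.w 3 ∧ T.a 6 3 = T.w 6) ∧ Hide (α36 = 4 ∧ α63 = 1)) ∧ q36 = 4) ∨ ((Hide (x36 = 2 * T.m 6 ∧ x63 = 2 * T.m 3) ∧ Hide (T.a 3 6 = 2 * T.w 3 ∧ T.a 6 3 = 2 * T.w 6) ∧ Hide (α36 = 2 ∧ α63 = 2)) ∧ q36 = 4)))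
    (c45 : Hide (((Hide (x45 = 0 ∧ x54 = 0) ∧ Hide (T.a 4 5 = 0 ∧ T.a 5 4 = 0) ∧ Hide (α45 = 0 ∧ α54 = 0)) ∧ q45 = 0) ∨ ((Hide (x45 = T.m 5 ∧ x54 = T.m 4) ∧ Hide (T.a 4 5 = T.w 4 ∧ T.a 5 4 = T.w 5) ∧ Hide (α45 = 1 ∧ α54 = 1)) ∧ q45 = 1) ∨ ((Hide (x45 = T.m 5 ∧ x54 = 2 * T.m 4) ∧ Hide (T.a 4 5 = T.w 4 ∧ T.a 5 4 = 2 * T.w 5) ∧ Hide (α45 = 1 ∧ α54 = 2)) ∧ q45 = 2) ∨ ((Hide (x45 = 2 * T.m 5 ∧ x54 = T.m 4) ∧ Hide (T.a 4 5 = 2 * T.w 4 ∧ T.a 5 4 = T.w 5) ∧ Hide (α45 = 2 ∧ α54 = 1)) ∧ q45 = 2) ∨ ((Hide (x45 = T.m 5 ∧ x54 = 3 * T.m 4) ∧ Hide (T.a 4 5 = T.w 4 ∧ T.a 5 4 = 3 * T.w 5) ∧ Hide (α45 = 1 ∧ α54 = 3)) ∧ q45 = 3) ∨ ((Hide (x45 = 3 * T.m 5 ∧ x54 = T.m 4) ∧ Hide (T.a 4 5 = 3 * T.w 4 ∧ T.a 5 4 = T.w 5) ∧ Hide (α45 = 3 ∧ α54 = 1)) ∧ q45 = 3) ∨ ((Hide (x45 = T.m 5 ∧ x54 = 4 * T.m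 4) ∧ Hide (T.a 4 5 = T.w 4 ∧ T.a 5 4 = 4 * T.w 5) ∧ Hide (α45 = 1 ∧ α54 = 4)) ∧ q45 = 4) ∨ ((Hide (x45 = 4 * T.m 5 ∧ x54 = T.m 4) ∧ Hide (T.a 4 5 = 4 * T.w 4 ∧ T.a 5 4 = T.w 5) ∧ Hide (α45 = 4 ∧ α54 = 1)) ∧ q45 = 4) ∨ ((Hide (x45 = 2 * T.m 5 ∧ x54 = 2 * T.m 4) ∧ Hide (T.a 4 5 = 2 * T.w 4 ∧ T.a 5 4 = 2 * T.w 5) ∧ Hide (α45 = 2 ∧ α54 = 2)) ∧ q45 = 4)))
    (c46 : Hide (((Hide (x46 = 0 ∧ x64 = 0) ∧ Hide (T.a 4 6 = 0 ∧ T.a 6 4 = 0) ∧ Hide (α46 = 0 ∧ α64 = 0)) ∧ q46 = 0) ∨ ((Hide (x46 = T.m 6 ∧ x64 = T.m 4) ∧ Hide (T.a 4 6 = T.w 4 ∧ T.a 6 4 = T.w 6) ∧ Hide (α46 = 1 ∧ α64 = 1)) ∧ q46 = 1) ∨ ((Hide (x46 = T.m 6 ∧ x64 = 2 * T.m 4) ∧ Hide (T.a 4 6 = T.w 4 ∧ T.a 6 4 = 2 * T.w 6) ∧ Hide (α46 = 1 ∧ α64 = 2)) ∧ q46 = 2) ∨ ((Hide (x46 = 2 * T.m 6 ∧ x64 = T.m 4) ∧ Hide (T.a 4 6 = 2 * T.w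 4 ∧ T.a 6 4 = T.w 6) ∧ Hide (α46 = 2 ∧ α64 = 1)) ∧ q46 = 2) ∨ ((Hide (x46 = T.m 6 ∧ x64 = 3 * T.m 4) ∧ Hide (T.a 4 6 = T.w 4 ∧ T.a 6 4 = 3 * T.w 6) ∧ Hide (α46 = 1 ∧ α64 = 3)) ∧ q46 = 3) ∨ ((Hide (x46 = 3 * T.m 6 ∧ x64 = T.m 4) ∧ Hide (T.a 4 6 = 3 * T.w 4 ∧ T.a 6 4 = T.w 6) ∧ Hide (α46 = 3 ∧ α64 = 1)) ∧ q46 = 3) ∨ ((Hide (x46 = T.m 6 ∧ x64 = 4 * T.m 4) ∧ Hide (T.a 4 6 = T.w 4 ∧ T.a 6 4 = 4 * T.w 6) ∧ Hide (α46 = 1 ∧ α64 = 4)) ∧ q46 = 4) ∨ ((Hide (x46 = 4 * T.m 6 ∧ x64 = T.m 4) ∧ Hide (T.a 4 6 = 4 * T.w 4 ∧ T.a 6 4 = T.w 6) ∧ Hide (α46 = 4 ∧ α64 = 1)) ∧ q46 = 4) ∨ ((Hide (x46 = 2 * T.m 6 ∧ x64 = 2 * T.m 4) ∧ Hide (T.a 4 6 = 2 * T.w 4 ∧ T.a 6 4 = 2 * T.w 6) ∧ Hide (α46 = 2 ∧ α64 = 2)) ∧ q46 = 4)))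
    (c56 : Hide (((Hide (x56 = 0 ∧ x65 = 0) ∧ Hide (T.a 5 6 = 0 ∧ T.a 6 5 = 0) ∧ Hide (α56 = 0 ∧ α65 = 0)) ∧ q56 = 0) ∨ ((Hide (x56 = T.m 6 ∧ x65 = T.m 5) ∧ Hide (T.a 5 6 = T.w 5 ∧ T.a 6 5 = T.w 6) ∧ Hide (α56 = 1 ∧ α65 = 1)) ∧ q56 = 1) ∨ ((Hide (x56 = T.m 6 ∧ x65 = 2 * T.m 5) ∧ Hide (T.a 5 6 = T.w 5 ∧ T.a 6 5 = 2 * T.w 6) ∧ Hide (α56 = 1 ∧ α65 = 2)) ∧ q56 = 2) ∨ ((Hide (x56 = 2 * T.m 6 ∧ x65 = T.m 5) ∧ Hide (T.a 5 6 = 2 * T.w 5 ∧ T.a 6 5 = T.w 6) ∧ Hide (α56 = 2 ∧ α65 = 1)) ∧ q56 = 2) ∨ ((Hide (x56 = T.m 6 ∧ x65 = 3 * T.m 5) ∧ Hide (T.a 5 6 = T.w 5 ∧ T.a 6 5 = 3 * T.w 6) ∧ Hide (α56 = 1 ∧ α65 = 3)) ∧ q56 = 3) ∨ ((Hide (x56 = 3 * T.m 6 ∧ x65 = T.m 5) ∧ Hide (T.a 5 6 = 3 * T.w 5 ∧ T.a 6 5 = T.w 6) ∧ Hide (α56 = 3 ∧ α65 = 1)) ∧ q56 = 3) ∨ ((Hide (x56 = T.m 6 ∧ x65 = 4 * T.m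 5) ∧ Hide (T.a 5 6 = T.w 5 ∧ T.a 6 5 = 4 * T.w 6) ∧ Hide (α56 = 1 ∧ α65 = 4)) ∧ q56 = 4) ∨ ((Hide (x56 = 4 * T.m 6 ∧ x65 = T.m 5) ∧ Hide (T.a 5 6 = 4 * T.w 5 ∧ T.a 6 5 = T.w 6) ∧ Hide (α56 = 4 ∧ α65 = 1)) ∧ q56 = 4) ∨ ((Hide (x56 = 2 * T.m 6 ∧ x65 = 2 * T.m 5) ∧ Hide (T.a 5 6 = 2 * T.w 5 ∧ T.a 6 5 = 2 * T.w 6) ∧ Hide (α56 = 2 ∧ α65 = 2)) ∧ q56 = 4))) : Goal T := by
  have t := c01.out
  clear c01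
  rcases t with ⟨⟨⟨rfl, rfl⟩, gw01, ⟨rfl, rfl⟩⟩, rfl⟩ | ⟨⟨⟨rfl, rfl⟩, gw01, ⟨rfl, rfl⟩⟩, rfl⟩ | ⟨⟨⟨rfl, rfl⟩, gw01, ⟨rfl, rfl⟩⟩, rfl⟩ | ⟨⟨⟨rfl, rfl⟩, gw01, ⟨rfl, rfl⟩⟩, rfl⟩ | ⟨⟨⟨rfl, rfl⟩, gw01, ⟨rfl, rfl⟩⟩, rfl⟩ | ⟨⟨⟨rfl, rfl⟩, gw01, ⟨rfl, rfl⟩⟩, rfl⟩ | ⟨⟨⟨rfl, rfl⟩, gw01, ⟨rfl, rfl⟩⟩, rfl⟩ | ⟨⟨⟨rfl, rfl⟩, gw01, ⟨rfl, rfl⟩⟩, rfl⟩ | ⟨⟨⟨rfl, rfl⟩, gw01, ⟨rfl, rfl⟩⟩, rfl⟩
  · (have := od1.out; omega)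
  · have t := pc3 q02 c02.out (by have := v0.out; have := qn03.out; have := qn04.out; have := qn05.out; have := qn06.out; omega)
    clear c02
    rcases t with ⟨⟨⟨rfl, rfl⟩, gw02, ⟨rfl, rfl⟩⟩, rfl⟩ | ⟨⟨⟨rfl, rfl⟩, gw02, ⟨rfl, rfl⟩⟩, rfl⟩ | ⟨⟨⟨rfl, rfl⟩, gw02, ⟨rfl, rfl⟩⟩, rfl⟩ | ⟨⟨⟨rfl, rfl⟩, gw02, ⟨rfl, rfl⟩⟩, rfl⟩ | ⟨⟨⟨rfl, rfl⟩, gw02, ⟨rfl, rfl⟩⟩, rfl⟩ | ⟨⟨⟨rfl, rfl⟩, gw02, ⟨rfl, rfl⟩⟩, rfl⟩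
    · have t := pc3 q03 c03.out (by have := v0.out; have := qn04.out; have := qn05.out; have := qn06.out; omega)
      clear c03
      rcases t with ⟨⟨⟨rfl, rfl⟩, gw03, ⟨rfl, rfl⟩⟩, rfl⟩ | ⟨⟨⟨rfl, rfl⟩, gw03, ⟨rfl, rfl⟩⟩, rfl⟩ | ⟨⟨⟨rfl, rfl⟩, gw03, ⟨rfl, rfl⟩⟩, rfl⟩ | ⟨⟨⟨rfl, rfl⟩, gw03, ⟨rfl, rfl⟩⟩, rfl⟩ | ⟨⟨⟨rfl, rfl⟩, gw03, ⟨rfl, rfl⟩⟩, rfl⟩ | ⟨⟨⟨rfl, rfl⟩, gw03, ⟨rfl, rfl⟩⟩, rfl⟩
      · have t := pc3 q04 c04.out (by have := v0.out; have := qn05.out; have := qn06.out; omega)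
        clear c04
        rcases t with ⟨⟨⟨rfl, rfl⟩, gw04, ⟨rfl, rfl⟩⟩, rfl⟩ | ⟨⟨⟨rfl, rfl⟩, gw04, ⟨rfl, rfl⟩⟩, rfl⟩ | ⟨⟨⟨rfl, rfl⟩, gw04, ⟨rfl, rfl⟩⟩, rfl⟩ | ⟨⟨⟨rfl, rfl⟩, gw04, ⟨rfl, rfl⟩⟩, rfl⟩ | ⟨⟨⟨rfl, rfl⟩, gw04, ⟨rfl, rfl⟩⟩, rfl⟩ | ⟨⟨⟨rfl, rfl⟩, gw04, ⟨rfl, rfl⟩⟩, rfl⟩
        · have t := pc3 q05 c05.out (by have := v0.out; have := qn06.out; omega)
          clear c05
          rcases t with ⟨⟨⟨rfl, rfl⟩, gw05, ⟨rfl, rfl⟩⟩, rfl⟩ | ⟨⟨⟨rfl, rfl⟩, gw05, ⟨rfl, rfl⟩⟩, rfl⟩ | ⟨⟨⟨rfl, rfl⟩, gw05, ⟨rfl, rfl⟩⟩, rfl⟩ | ⟨⟨⟨rfl, rfl⟩, gw05, ⟨rfl, rfl⟩⟩, rfl⟩ | ⟨⟨⟨rfl, rfl⟩, gw05, ⟨rfl, rfl⟩⟩, rfl⟩ | ⟨⟨⟨rfl, rfl⟩, gw05, ⟨rfl, rfl⟩⟩, rfl⟩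
          · have t := pc3 q06 c06.out (by have := v0.out; omega)
            clear c06
            rcases t with ⟨⟨⟨rfl, rfl⟩, gw06, ⟨rfl, rfl⟩⟩, rfl⟩ | ⟨⟨⟨rfl, rfl⟩, gw06, ⟨rfl, rfl⟩⟩, rfl⟩ | ⟨⟨⟨rfl, rfl⟩, gw06, ⟨rfl, rfl⟩⟩, rfl⟩ | ⟨⟨⟨rfl, rfl⟩, gw06, ⟨rfl, rfl⟩⟩, rfl⟩ | ⟨⟨⟨rfl, rfl⟩, gw06, ⟨rfl, rfl⟩⟩, rfl⟩ | ⟨⟨⟨rfl, rfl⟩, gw06, ⟨rfl, rfl⟩⟩, rfl⟩
            · have t := pc3 q12 c12.out (by have := v1.out; have := qn13.out; have := qn14.out; have := qn15.out; have := qn16.out; omega)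
              clear c12
              rcases t with ⟨⟨⟨rfl, rfl⟩, gw12, ⟨rfl, rfl⟩⟩, rfl⟩ | ⟨⟨⟨rfl, rfl⟩, gw12, ⟨rfl, rfl⟩⟩, rfl⟩ | ⟨⟨⟨rfl, rfl⟩, gw12, ⟨rfl, rfl⟩⟩, rfl⟩ | ⟨⟨⟨rfl, rfl⟩, gw12, ⟨rfl, rfl⟩⟩, rfl⟩ | ⟨⟨⟨rfl, rfl⟩, gw12, ⟨rfl, rfl⟩⟩, rfl⟩ | ⟨⟨⟨rfl, rfl⟩, gw12, ⟨rfl, rfl⟩⟩, rfl⟩
              · (have := od2.out; omega)
              · have t := pc2 q13 c13.out (by have := v1.out; have := qn14.out; have := qn15.out; have := qn16.out; omega)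
                clear c13
                rcases t with ⟨⟨⟨rfl, rfl⟩, gw13, ⟨rfl, rfl⟩⟩, rfl⟩ | ⟨⟨⟨rfl, rfl⟩, gw13, ⟨rfl, rfl⟩⟩, rfl⟩ | ⟨⟨⟨rfl, rfl⟩, gw13, ⟨rfl, rfl⟩⟩, rfl⟩ | ⟨⟨⟨rfl, rfl⟩, gw13, ⟨rfl, rfl⟩⟩, rfl⟩
                · have t := pc2 q14 c14.out (by have := v1.out; have := qn15.out; have := qn16.out; omega)
                  clear c14
                  rcases t with ⟨⟨⟨rfl, rfl⟩, gw14, ⟨rfl, rfl⟩⟩, rfl⟩ | ⟨⟨⟨rfl, rfl⟩, gw14, ⟨rfl, rfl⟩⟩, rfl⟩ | ⟨⟨⟨rfl, rfl⟩, gw14, ⟨rfl, rfl⟩⟩, rfl⟩ | ⟨⟨⟨rfl, rfl⟩, gw14, ⟨rfl, rfl⟩⟩, rfl⟩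
                  · have t := pc2 q15 c15.out (by have := v1.out; have := qn16.out; omega)
                    clear c15
                    rcases t with ⟨⟨⟨rfl, rfl⟩, gw15, ⟨rfl, rfl⟩⟩, rfl⟩ | ⟨⟨⟨rfl, rfl⟩, gw15, ⟨rfl, rfl⟩⟩, rfl⟩ | ⟨⟨⟨rfl, rfl⟩, gw15, ⟨rfl, rfl⟩⟩, rfl⟩ | ⟨⟨⟨rfl, rfl⟩, gw15, ⟨rfl, rfl⟩⟩, rfl⟩
                    · have t := pc2 q16 c16.out (by have := v1.out; omega)
                      clear c16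
                      rcases t with ⟨⟨⟨rfl, rfl⟩, gw16, ⟨rfl, rfl⟩⟩, rfl⟩ | ⟨⟨⟨rfl, rfl⟩, gw16, ⟨rfl, rfl⟩⟩, rfl⟩ | ⟨⟨⟨rfl, rfl⟩, gw16, ⟨rfl, rfl⟩⟩, rfl⟩ | ⟨⟨⟨rfl, rfl⟩, gw16, ⟨rfl, rfl⟩⟩, rfl⟩
                      · have t := pc3 q23 c23.out (by have := v2.out; have := qn24.out; have := qn25.out; have := qn26.out; omega)
                        clear c23
                        rcases t with ⟨⟨⟨rfl, rfl⟩, gw23, ⟨rfl, rfl⟩⟩, rfl⟩ | ⟨⟨⟨rfl, rfl⟩, gw23, ⟨rfl, rfl⟩⟩, rfl⟩ | ⟨⟨⟨rfl, rfl⟩, gw23, ⟨rfl, rfl⟩⟩, rfl⟩ | ⟨⟨⟨rfl, rfl⟩, gw23, ⟨rfl, rfl⟩⟩, rfl⟩ | ⟨⟨⟨rfl, rfl⟩, gw23, ⟨rfl, rfl⟩⟩, rfl⟩ | ⟨⟨⟨rfl, rfl⟩, gw23, ⟨rfl, rfl⟩⟩, rfl⟩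
                        · (have := od3.out; omega)
                        · have t := pc2 q24 c24.out (by have := v2.out; have := qn25.out; have := qn26.out; omega)
                          clear c24
                          rcases t with ⟨⟨⟨rfl, rfl⟩, gw24, ⟨rfl, rfl⟩⟩, rfl⟩ | ⟨⟨⟨rfl, rfl⟩, gw24, ⟨rfl, rfl⟩⟩, rfl⟩ | ⟨⟨⟨rfl, rfl⟩, gw24, ⟨rfl, rfl⟩⟩, rfl⟩ | ⟨⟨⟨rfl, rfl⟩, gw24, ⟨rfl, rfl⟩⟩, rfl⟩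
                          · exact part0 T α25 α26 α34 α35 α36 α43 α45 α46 α52 α53 α54 α56 α62 α63 α64 α65 x25 x26 x34 x35 x36 x43 x45 x46 x52 x53 x54 x56 x62 x63 x64 x65 q25 q26 q34 q35 q36 q45 q46 q56 hm0 hm1 hm2 hm3 hm4 hm5 hm6 om1 om2 om3 om4 om5 om6 e0 e1 e2 e3 e4 e5 e6 r01 r02 r03 r04 r05 r06 r10 r12 r13 r14 r15 r16 r20 r21 r23 r24 r25 r26 r30 r31 r32 r34 r35 r36 r40 r41 r42 r43 r45 r46 r50 r51 r52 r53 r54 r56 r60 r61 r62 r63 r64 r65 hw0 hw1 hw2 hw3 hw4 hw5 hw6 hs01 hs02 hs03 hs04 hs05 hs06 hs12 hs13 hs14 hs15 hs16 hs23 hs24 hs25 hs26 hs34 hs35 hs36 hs45 hs46 hs56 ha00 ha11 ha22 ha33 ha44 ha55 ha66 v0 v1 v2 v3 v4 v5 v6 qn01 qn02 qn03 qn04 qn05 qn06 qn12 qn13 qn14 qn15 qn16 qn23 qn24 qn25 qn26 qn34 qn35 qn36 qn45 qn46 qn56 od1 od2 od3 od4 od5 od6 c25 c26 c34 c35 c36 c45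 c46 c56 gw01 gw02 gw03 gw04 gw05 gw06 gw12 gw13 gw14 gw15 gw16 gw23 gw24
                          · exact part1 T α25 α26 α34 α35 α36 α43 α45 α46 α52 α53 α54 α56 α62 α63 α64 α65 x25 x26 x34 x35 x36 x43 x45 x46 x52 x53 x54 x56 x62 x63 x64 x65 q25 q26 q34 q35 q36 q45 q46 q56 hm0 hm1 hm2 hm3 hm4 hm5 hm6 om1 om2 om3 om4 om5 om6 e0 e1 e2 e3 e4 e5 e6 r01 r02 r03 r04 r05 r06 r10 r12 r13 r14 r15 r16 r20 r21 r23 r24 r25 r26 r30 r31 r32 r34 r35 r36 r40 r41 r42 r43 r45 r46 r50 r51 r52 r53 r54 r56 r60 r61 r62 r63 r64 r65 hw0 hw1 hw2 hw3 hw4 hw5 hw6 hs01 hs02 hs03 hs04 hs05 hs06 hs12 hs13 hs14 hs15 hs16 hs23 hs24 hs25 hs26 hs34 hs35 hs36 hs45 hs46 hs56 ha00 ha11 ha22 ha33 ha44 ha55 ha66 v0 v1 v2 v3 v4 v5 v6 qn01 qn02 qn03 qn04 qn05 qn06 qn12 qn13 qn14 qn15 qn16 qn23 qn24 qn25 qn26 qn34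 qn35 qn36 qn45 qn46 qn56 od1 od2 od3 od4 od5 od6 c25 c26 c34 c35 c36 c45 c46 c56 gw01 gw02 gw03 gw04 gw05 gw06 gw12 gw13 gw14 gw15 gw16 gw23 gw24
                          · (have := hm0.out; have := e1.out; have := e2.out; have := r25.out; have := r26.out; have := e3.out; have := r34.out; have := r35.out; have := r36.out; have := e4.out; have := r43.out; have := r45.out; have := r46.out; omega)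
                          · (have := hm0.out; have := e1.out; have := e2.out; have := r25.out; have := r26.out; have := e3.out; have := r34.out; have := r35.out; have := r36.out; have := e4.out; have := r43.out; have := r45.out; have := r46.out; omega)
                        · exact part2 T α24 α25 α26 α34 α35 α36 α42 α43 α45 α46 α52 α53 α54 α56 α62 α63 α64 α65 x24 x25 x26 x34 x35 x36 x42 x43 x45 x46 x52 x53 x54 x56 x62 x63 x64 x65 q24 q25 q26 q34 q35 q36 q45 q46 q56 hm0 hm1 hm2 hm3 hm4 hm5 hm6 om1 om2 om3 om4 om5 om6 e0 e1 e2 e3 e4 e5 e6 r01 r02 r03 r04 r05 r06 r10 r12 r13 r14 r15 r16 r20 r21 r23 r24 r25 r26 r30 r31 r32 r34 r35 r36 r40 r41 r42 r43 r45 r46 r50 r51 r52 r53 r54 r56 r60 r61 r62 r63 r64 r65 hw0 hw1 hw2 hw3 hw4 hw5 hw6 hs01 hs02 hs03 hs04 hs05 hs06 hs12 hs13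 hs14 hs15 hs16 hs23 hs24 hs25 hs26 hs34 hs35 hs36 hs45 hs46 hs56 ha00 ha11 ha22 ha33 ha44 ha55 ha66 v0 v1 v2 v3 v4 v5 v6 qn01 qn02 qn03 qn04 qn05 qn06 qn12 qn13 qn14 qn15 qn16 qn23 qn24 qn25 qn26 qn34 qn35 qn36 qn45 qn46 qn56 od1 od2 od3 od4 od5 od6 c24 c25 c26 c34 c35 c36 c45 c46 c56 gw01 gw02 gw03 gw04 gw05 gw06 gw12 gw13 gw14 gw15 gw16 gw23
                        · exact part3 T α24 α25 α26 α34 α35 α36 α42 α43 α45 α46 α52 α53 α54 α56 α62 α63 α64 α65 x24 x25 x26 x34 x35 x36 x42 x43 x45 x46 x52 x53 x54 x56 x62 x63 x64 x65 q24 q25 q26 q34 q35 q36 q45 q46 q56 hm0 hm1 hm2 hm3 hm4 hm5 hm6 om1 om2 om3 om4 om5 om6 e0 e1 e2 e3 e4 e5 e6 r01 r02 r03 r04 r05 r06 r10 r12 r13 r14 r15 r16 r20 r21 r23 r24 r25 r26 r30 r31 r32 r34 r35 r36 r40 r41 r42 r43 r45 r46 r50 r51 r52 r53 r54 r56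 r60 r61 r62 r63 r64 r65 hw0 hw1 hw2 hw3 hw4 hw5 hw6 hs01 hs02 hs03 hs04 hs05 hs06 hs12 hs13 hs14 hs15 hs16 hs23 hs24 hs25 hs26 hs34 hs35 hs36 hs45 hs46 hs56 ha00 ha11 ha22 ha33 ha44 ha55 ha66 v0 v1 v2 v3 v4 v5 v6 qn01 qn02 qn03 qn04 qn05 qn06 qn12 qn13 qn14 qn15 qn16 qn23 qn24 qn25 qn26 qn34 qn35 qn36 qn45 qn46 qn56 od1 od2 od3 od4 od5 od6 c24 c25 c26 c34 c35 c36 c45 c46 c56 gw01 gw02 gw03 gw04 gw05 gw06 gw12 gw13 gw14 gw15 gw16 gw23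
                        · (have := hm0.out; have := e1.out; have := e2.out; have := r24.out; have := r25.out; have := r26.out; have := e3.out; have := r34.out; have := r35.out; have := r36.out; omega)
                        · (have := hm0.out; have := e1.out; have := e2.out; have := r24.out; have := r25.out; have := r26.out; have := e3.out; have := r34.out; have := r35.out; have := r36.out; omega)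
                      · exact part4 T α23 α24 α25 α26 α32 α34 α35 α36 α42 α43 α45 α46 α52 α53 α54 α56 α62 α63 α64 α65 x23 x24 x25 x26 x32 x34 x35 x36 x42 x43 x45 x46 x52 x53 x54 x56 x62 x63 x64 x65 q23 q24 q25 q26 q34 q35 q36 q45 q46 q56 hm0 hm1 hm2 hm3 hm4 hm5 hm6 om1 om2 om3 om4 om5 om6 e0 e1 e2 e3 e4 e5 e6 r01 r02 r03 r04 r05 r06 r10 r12 r13 r14 r15 r16 r20 r21 r23 r24 r25 r26 r30 r31 r32 r34 r35 r36 r40 r41 r42 r43 r45 r46 r50 r51 r52 r53 r54 r56 r60 r61 r62 r63 r64 r65 hw0 hw1 hw2 hw3 hw4 hw5 hw6 hs01 hs02 hs03 hs04 hs05 hs06 hs12 hs13 hs14 hs15 hs16 hs23 hs24 hs25 hs26 hs34 hs35 hs36 hs45 hs46 hs56 ha00 ha11 ha22 ha33 ha44 ha55 ha66 v0 v1 v2 v3 v4 v5 v6 qn01 qn02 qn03 qn04 qn05 qn06 qn12 qn13 qn14 qn15 qn16 qn23 qn24 qn25 qn26 qn34 qn35 qn36 qn45 qn46 qn56 od1 od2 od3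 od4 od5 od6 c23 c24 c25 c26 c34 c35 c36 c45 c46 c56 gw01 gw02 gw03 gw04 gw05 gw06 gw12 gw13 gw14 gw15 gw16
                      · exact part5 T α23 α24 α25 α26 α32 α34 α35 α36 α42 α43 α45 α46 α52 α53 α54 α56 α62 α63 α64 α65 x23 x24 x25 x26 x32 x34 x35 x36 x42 x43 x45 x46 x52 x53 x54 x56 x62 x63 x64 x65 q23 q24 q25 q26 q34 q35 q36 q45 q46 q56 hm0 hm1 hm2 hm3 hm4 hm5 hm6 om1 om2 om3 om4 om5 om6 e0 e1 e2 e3 e4 e5 e6 r01 r02 r03 r04 r05 r06 r10 r12 r13 r14 r15 r16 r20 r21 r23 r24 r25 r26 r30 r31 r32 r34 r35 r36 r40 r41 r42 r43 r45 r46 r50 r51 r52 r53 r54 r56 r60 r61 r62 r63 r64 r65 hw0 hw1 hw2 hw3 hw4 hw5 hw6 hs01 hs02 hs03 hs04 hs05 hs06 hs12 hs13 hs14 hs15 hs16 hs23 hs24 hs25 hs26 hs34 hs35 hs36 hs45 hs46 hs56 ha00 ha11 ha22 ha33 ha44 ha55 ha66 v0 v1 v2 v3 v4 v5 v6 qn01 qn02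 qn03 qn04 qn05 qn06 qn12 qn13 qn14 qn15 qn16 qn23 qn24 qn25 qn26 qn34 qn35 qn36 qn45 qn46 qn56 od1 od2 od3 od4 od5 od6 c23 c24 c25 c26 c34 c35 c36 c45 c46 c56 gw01 gw02 gw03 gw04 gw05 gw06 gw12 gw13 gw14 gw15 gw16
                      · exact part6 T α23 α24 α25 α26 α32 α34 α35 α36 α42 α43 α45 α46 α52 α53 α54 α56 α62 α63 α64 α65 x23 x24 x25 x26 x32 x34 x35 x36 x42 x43 x45 x46 x52 x53 x54 x56 x62 x63 x64 x65 q23 q24 q25 q26 q34 q35 q36 q45 q46 q56 hm0 hm1 hm2 hm3 hm4 hm5 hm6 om1 om2 om3 om4 om5 om6 e0 e1 e2 e3 e4 e5 e6 r01 r02 r03 r04 r05 r06 r10 r12 r13 r14 r15 r16 r20 r21 r23 r24 r25 r26 r30 r31 r32 r34 r35 r36 r40 r41 r42 r43 r45 r46 r50 r51 r52 r53 r54 r56 r60 r61 r62 r63 r64 r65 hw0 hw1 hw2 hw3 hw4 hw5 hw6 hs01 hs02 hs03 hs04 hs05 hs06 hs12 hs13 hs14 hs15 hs16 hs23 hs24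 hs25 hs26 hs34 hs35 hs36 hs45 hs46 hs56 ha00 ha11 ha22 ha33 ha44 ha55 ha66 v0 v1 v2 v3 v4 v5 v6 qn01 qn02 qn03 qn04 qn05 qn06 qn12 qn13 qn14 qn15 qn16 qn23 qn24 qn25 qn26 qn34 qn35 qn36 qn45 qn46 qn56 od1 od2 od3 od4 od5 od6 c23 c24 c25 c26 c34 c35 c36 c45 c46 c56 gw01 gw02 gw03 gw04 gw05 gw06 gw12 gw13 gw14 gw15 gw16
                    · exact part7 T α16 α23 α24 α25 α26 α32 α34 α35 α36 α42 α43 α45 α46 α52 α53 α54 α56 α61 α62 α63 α64 α65 x16 x23 x24 x25 x26 x32 x34 x35 x36 x42 x43 x45 x46 x52 x53 x54 x56 x61 x62 x63 x64 x65 q16 q23 q24 q25 q26 q34 q35 q36 q45 q46 q56 hm0 hm1 hm2 hm3 hm4 hm5 hm6 om1 om2 om3 om4 om5 om6 e0 e1 e2 e3 e4 e5 e6 r01 r02 r03 r04 r05 r06 r10 r12 r13 r14 r15 r16 r20 r21 r23 r24 r25 r26 r30 r31 r32 r34 r35 r36 r40 r41 r42 r43 r45 r46 r50 r51 r52 r53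 r54 r56 r60 r61 r62 r63 r64 r65 hw0 hw1 hw2 hw3 hw4 hw5 hw6 hs01 hs02 hs03 hs04 hs05 hs06 hs12 hs13 hs14 hs15 hs16 hs23 hs24 hs25 hs26 hs34 hs35 hs36 hs45 hs46 hs56 ha00 ha11 ha22 ha33 ha44 ha55 ha66 v0 v1 v2 v3 v4 v5 v6 qn01 qn02 qn03 qn04 qn05 qn06 qn12 qn13 qn14 qn15 qn16 qn23 qn24 qn25 qn26 qn34 qn35 qn36 qn45 qn46 qn56 od1 od2 od3 od4 od5 od6 c16 c23 c24 c25 c26 c34 c35 c36 c45 c46 c56 gw01 gw02 gw03 gw04 gw05 gw06 gw12 gw13 gw14 gw15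
                    · exact part8 T α16 α23 α24 α25 α26 α32 α34 α35 α36 α42 α43 α45 α46 α52 α53 α54 α56 α61 α62 α63 α64 α65 x16 x23 x24 x25 x26 x32 x34 x35 x36 x42 x43 x45 x46 x52 x53 x54 x56 x61 x62 x63 x64 x65 q16 q23 q24 q25 q26 q34 q35 q36 q45 q46 q56 hm0 hm1 hm2 hm3 hm4 hm5 hm6 om1 om2 om3 om4 om5 om6 e0 e1 e2 e3 e4 e5 e6 r01 r02 r03 r04 r05 r06 r10 r12 r13 r14 r15 r16 r20 r21 r23 r24 r25 r26 r30 r31 r32 r34 r35 r36 r40 r41 r42 r43 r45 r46 r50 r51 r52 r53 r54 r56 r60 r61 r62 r63 r64 r65 hw0 hw1 hw2 hw3 hw4 hw5 hw6 hs01 hs02 hs03 hs04 hs05 hs06 hs12 hs13 hs14 hs15 hs16 hs23 hs24 hs25 hs26 hs34 hs35 hs36 hs45 hs46 hs56 ha00 ha11 ha22 ha33 ha44 ha55 ha66 v0 v1 v2 v3 v4 v5 v6 qn01 qn02 qn03 qn04 qn05 qn06 qn12 qn13 qn14 qn15 qn16 qn23 qn24 qn25 qn26 qn34 qn35 qn36 qn45 qn46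 qn56 od1 od2 od3 od4 od5 od6 c16 c23 c24 c25 c26 c34 c35 c36 c45 c46 c56 gw01 gw02 gw03 gw04 gw05 gw06 gw12 gw13 gw14 gw15
                    · exact part9 T α16 α23 α24 α25 α26 α32 α34 α35 α36 α42 α43 α45 α46 α52 α53 α54 α56 α61 α62 α63 α64 α65 x16 x23 x24 x25 x26 x32 x34 x35 x36 x42 x43 x45 x46 x52 x53 x54 x56 x61 x62 x63 x64 x65 q16 q23 q24 q25 q26 q34 q35 q36 q45 q46 q56 hm0 hm1 hm2 hm3 hm4 hm5 hm6 om1 om2 om3 om4 om5 om6 e0 e1 e2 e3 e4 e5 e6 r01 r02 r03 r04 r05 r06 r10 r12 r13 r14 r15 r16 r20 r21 r23 r24 r25 r26 r30 r31 r32 r34 r35 r36 r40 r41 r42 r43 r45 r46 r50 r51 r52 r53 r54 r56 r60 r61 r62 r63 r64 r65 hw0 hw1 hw2 hw3 hw4 hw5 hw6 hs01 hs02 hs03 hs04 hs05 hs06 hs12 hs13 hs14 hs15 hs16 hs23 hs24 hs25 hs26 hs34 hs35 hs36 hs45 hs46 hs56 ha00 ha11 ha22 ha33 ha44 ha55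 ha66 v0 v1 v2 v3 v4 v5 v6 qn01 qn02 qn03 qn04 qn05 qn06 qn12 qn13 qn14 qn15 qn16 qn23 qn24 qn25 qn26 qn34 qn35 qn36 qn45 qn46 qn56 od1 od2 od3 od4 od5 od6 c16 c23 c24 c25 c26 c34 c35 c36 c45 c46 c56 gw01 gw02 gw03 gw04 gw05 gw06 gw12 gw13 gw14 gw15
                  · have t := pc1 q15 c15.out (by have := v1.out; have := qn16.out; omega)
                    clear c15
                    rcases t with ⟨⟨⟨rfl, rfl⟩, gw15, ⟨rfl, rfl⟩⟩, rfl⟩ | ⟨⟨⟨rfl, rfl⟩, gw15, ⟨rfl, rfl⟩⟩, rfl⟩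
                    · have t := pc1 q16 c16.out (by have := v1.out; omega)
                      clear c16
                      rcases t with ⟨⟨⟨rfl, rfl⟩, gw16, ⟨rfl, rfl⟩⟩, rfl⟩ | ⟨⟨⟨rfl, rfl⟩, gw16, ⟨rfl, rfl⟩⟩, rfl⟩
                      · exact part10 T α23 α24 α25 α26 α32 α34 α35 α36 α42 α43 α45 α46 α52 α53 α54 α56 α62 α63 α64 α65 x23 x24 x25 x26 x32 x34 x35 x36 x42 x43 x45 x46 x52 x53 x54 x56 x62 x63 x64 x65 q23 q24 q25 q26 q34 q35 q36 q45 q46 q56 hm0 hm1 hm2 hm3 hm4 hm5 hm6 om1 om2 om3 om4 om5 om6 e0 e1 e2 e3 e4 e5 e6 r01 r02 r03 r04 r05 r06 r10 r12 r13 r14 r15 r16 r20 r21 r23 r24 r25 r26 r30 r31 r32 r34 r35 r36 r40 r41 r42 r43 r45 r46 r50 r51 r52 r53 r54 r56 r60 r61 r62 r63 r64 r65 hw0 hw1 hw2 hw3 hw4 hw5 hw6 hs01 hs02 hs03 hs04 hs05 hs06 hs12 hs13 hs14 hs15 hs16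 hs23 hs24 hs25 hs26 hs34 hs35 hs36 hs45 hs46 hs56 ha00 ha11 ha22 ha33 ha44 ha55 ha66 v0 v1 v2 v3 v4 v5 v6 qn01 qn02 qn03 qn04 qn05 qn06 qn12 qn13 qn14 qn15 qn16 qn23 qn24 qn25 qn26 qn34 qn35 qn36 qn45 qn46 qn56 od1 od2 od3 od4 od5 od6 c23 c24 c25 c26 c34 c35 c36 c45 c46 c56 gw01 gw02 gw03 gw04 gw05 gw06 gw12 gw13 gw14 gw15 gw16
                      · exact part11 T α23 α24 α25 α26 α32 α34 α35 α36 α42 α43 α45 α46 α52 α53 α54 α56 α62 α63 α64 α65 x23 x24 x25 x26 x32 x34 x35 x36 x42 x43 x45 x46 x52 x53 x54 x56 x62 x63 x64 x65 q23 q24 q25 q26 q34 q35 q36 q45 q46 q56 hm0 hm1 hm2 hm3 hm4 hm5 hm6 om1 om2 om3 om4 om5 om6 e0 e1 e2 e3 e4 e5 e6 r01 r02 r03 r04 r05 r06 r10 r12 r13 r14 r15 r16 r20 r21 r23 r24 r25 r26 r30 r31 r32 r34 r35 r36 r40 r41 r42 r43 r45 r46 r50 r51 r52 r53 r54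 r56 r60 r61 r62 r63 r64 r65 hw0 hw1 hw2 hw3 hw4 hw5 hw6 hs01 hs02 hs03 hs04 hs05 hs06 hs12 hs13 hs14 hs15 hs16 hs23 hs24 hs25 hs26 hs34 hs35 hs36 hs45 hs46 hs56 ha00 ha11 ha22 ha33 ha44 ha55 ha66 v0 v1 v2 v3 v4 v5 v6 qn01 qn02 qn03 qn04 qn05 qn06 qn12 qn13 qn14 qn15 qn16 qn23 qn24 qn25 qn26 qn34 qn35 qn36 qn45 qn46 qn56 od1 od2 od3 od4 od5 od6 c23 c24 c25 c26 c34 c35 c36 c45 c46 c56 gw01 gw02 gw03 gw04 gw05 gw06 gw12 gw13 gw14 gw15 gw16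
                    · exact part12 T α16 α23 α24 α25 α26 α32 α34 α35 α36 α42 α43 α45 α46 α52 α53 α54 α56 α61 α62 α63 α64 α65 x16 x23 x24 x25 x26 x32 x34 x35 x36 x42 x43 x45 x46 x52 x53 x54 x56 x61 x62 x63 x64 x65 q16 q23 q24 q25 q26 q34 q35 q36 q45 q46 q56 hm0 hm1 hm2 hm3 hm4 hm5 hm6 om1 om2 om3 om4 om5 om6 e0 e1 e2 e3 e4 e5 e6 r01 r02 r03 r04 r05 r06 r10 r12 r13 r14 r15 r16 r20 r21 r23 r24 r25 r26 r30 r31 r32 r34 r35 r36 r40 r41 r42 r43 r45 r46 r50 r51 r52 r53 r54 r56 r60 r61 r62 r63 r64 r65 hw0 hw1 hw2 hw3 hw4 hw5 hw6 hs01 hs02 hs03 hs04 hs05 hs06 hs12 hs13 hs14 hs15 hs16 hs23 hs24 hs25 hs26 hs34 hs35 hs36 hs45 hs46 hs56 ha00 ha11 ha22 ha33 ha44 ha55 ha66 v0 v1 v2 v3 v4 v5 v6 qn01 qn02 qn03 qn04 qn05 qn06 qn12 qn13 qn14 qn15 qn16 qn23 qn24 qn25 qn26 qn34 qn35 qn36 qn45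 qn46 qn56 od1 od2 od3 od4 od5 od6 c16 c23 c24 c25 c26 c34 c35 c36 c45 c46 c56 gw01 gw02 gw03 gw04 gw05 gw06 gw12 gw13 gw14 gw15
                  · exact part13 T α15 α16 α23 α24 α25 α26 α32 α34 α35 α36 α42 α43 α45 α46 α51 α52 α53 α54 α56 α61 α62 α63 α64 α65 x15 x16 x23 x24 x25 x26 x32 x34 x35 x36 x42 x43 x45 x46 x51 x52 x53 x54 x56 x61 x62 x63 x64 x65 q15 q16 q23 q24 q25 q26 q34 q35 q36 q45 q46 q56 hm0 hm1 hm2 hm3 hm4 hm5 hm6 om1 om2 om3 om4 om5 om6 e0 e1 e2 e3 e4 e5 e6 r01 r02 r03 r04 r05 r06 r10 r12 r13 r14 r15 r16 r20 r21 r23 r24 r25 r26 r30 r31 r32 r34 r35 r36 r40 r41 r42 r43 r45 r46 r50 r51 r52 r53 r54 r56 r60 r61 r62 r63 r64 r65 hw0 hw1 hw2 hw3 hw4 hw5 hw6 hs01 hs02 hs03 hs04 hs05 hs06 hs12 hs13 hs14 hs15 hs16 hs23 hs24 hs25 hs26 hs34 hs35 hs36 hs45 hs46 hs56 ha00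 ha11 ha22 ha33 ha44 ha55 ha66 v0 v1 v2 v3 v4 v5 v6 qn01 qn02 qn03 qn04 qn05 qn06 qn12 qn13 qn14 qn15 qn16 qn23 qn24 qn25 qn26 qn34 qn35 qn36 qn45 qn46 qn56 od1 od2 od3 od4 od5 od6 c15 c16 c23 c24 c25 c26 c34 c35 c36 c45 c46 c56 gw01 gw02 gw03 gw04 gw05 gw06 gw12 gw13 gw14
                  · exact part14 T α15 α16 α23 α24 α25 α26 α32 α34 α35 α36 α42 α43 α45 α46 α51 α52 α53 α54 α56 α61 α62 α63 α64 α65 x15 x16 x23 x24 x25 x26 x32 x34 x35 x36 x42 x43 x45 x46 x51 x52 x53 x54 x56 x61 x62 x63 x64 x65 q15 q16 q23 q24 q25 q26 q34 q35 q36 q45 q46 q56 hm0 hm1 hm2 hm3 hm4 hm5 hm6 om1 om2 om3 om4 om5 om6 e0 e1 e2 e3 e4 e5 e6 r01 r02 r03 r04 r05 r06 r10 r12 r13 r14 r15 r16 r20 r21 r23 r24 r25 r26 r30 r31 r32 r34 r35 r36 r40 r41 r42 r43 r45 r46 r50 r51 r52 r53 r54 r56 r60 r61 r62 r63 r64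 r65 hw0 hw1 hw2 hw3 hw4 hw5 hw6 hs01 hs02 hs03 hs04 hs05 hs06 hs12 hs13 hs14 hs15 hs16 hs23 hs24 hs25 hs26 hs34 hs35 hs36 hs45 hs46 hs56 ha00 ha11 ha22 ha33 ha44 ha55 ha66 v0 v1 v2 v3 v4 v5 v6 qn01 qn02 qn03 qn04 qn05 qn06 qn12 qn13 qn14 qn15 qn16 qn23 qn24 qn25 qn26 qn34 qn35 qn36 qn45 qn46 qn56 od1 od2 od3 od4 od5 od6 c15 c16 c23 c24 c25 c26 c34 c35 c36 c45 c46 c56 gw01 gw02 gw03 gw04 gw05 gw06 gw12 gw13 gw14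
                · have t := pc1 q14 c14.out (by have := v1.out; have := qn15.out; have := qn16.out; omega)
                  clear c14
                  rcases t with ⟨⟨⟨rfl, rfl⟩, gw14, ⟨rfl, rfl⟩⟩, rfl⟩ | ⟨⟨⟨rfl, rfl⟩, gw14, ⟨rfl, rfl⟩⟩, rfl⟩
                  · have t := pc1 q15 c15.out (by have := v1.out; have := qn16.out; omega)
                    clear c15
                    rcases t with ⟨⟨⟨rfl, rfl⟩, gw15, ⟨rfl, rfl⟩⟩, rfl⟩ | ⟨⟨⟨rfl, rfl⟩, gw15, ⟨rfl, rfl⟩⟩, rfl⟩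
                    · have t := pc1 q16 c16.out (by have := v1.out; omega)
                      clear c16
                      rcases t with ⟨⟨⟨rfl, rfl⟩, gw16, ⟨rfl, rfl⟩⟩, rfl⟩ | ⟨⟨⟨rfl, rfl⟩, gw16, ⟨rfl, rfl⟩⟩, rfl⟩
                      · have t := pc3 q23 c23.out (by have := v2.out; have := qn24.out; have := qn25.out; have := qn26.out; omega)
                        clear c23
                        rcases t with ⟨⟨⟨rfl, rfl⟩, gw23, ⟨rfl, rfl⟩⟩, rfl⟩ | ⟨⟨⟨rfl, rfl⟩, gw23, ⟨rfl, rfl⟩⟩, rfl⟩ | ⟨⟨⟨rfl, rfl⟩, gw23, ⟨rfl, rfl⟩⟩, rfl⟩ | ⟨⟨⟨rfl, rfl⟩, gw23, ⟨rfl, rfl⟩⟩, rfl⟩ | ⟨⟨⟨rfl, rfl⟩, gw23, ⟨rfl, rfl⟩⟩, rfl⟩ | ⟨⟨⟨rfl, rfl⟩, gw23, ⟨rfl, rfl⟩⟩, rfl⟩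
                        · have t := pc3 q24 c24.out (by have := v2.out; have := qn25.out; have := qn26.out; omega)
                          clear c24
                          rcases t with ⟨⟨⟨rfl, rfl⟩, gw24, ⟨rfl, rfl⟩⟩, rfl⟩ | ⟨⟨⟨rfl, rfl⟩, gw24, ⟨rfl, rfl⟩⟩, rfl⟩ | ⟨⟨⟨rfl, rfl⟩, gw24, ⟨rfl, rfl⟩⟩, rfl⟩ | ⟨⟨⟨rfl, rfl⟩, gw24, ⟨rfl, rfl⟩⟩, rfl⟩ | ⟨⟨⟨rfl, rfl⟩, gw24, ⟨rfl, rfl⟩⟩, rfl⟩ | ⟨⟨⟨rfl, rfl⟩, gw24, ⟨rfl, rfl⟩⟩, rfl⟩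
                          · exact part15 T α25 α26 α34 α35 α36 α43 α45 α46 α52 α53 α54 α56 α62 α63 α64 α65 x25 x26 x34 x35 x36 x43 x45 x46 x52 x53 x54 x56 x62 x63 x64 x65 q25 q26 q34 q35 q36 q45 q46 q56 hm0 hm1 hm2 hm3 hm4 hm5 hm6 om1 om2 om3 om4 om5 om6 e0 e1 e2 e3 e4 e5 e6 r01 r02 r03 r04 r05 r06 r10 r12 r13 r14 r15 r16 r20 r21 r23 r24 r25 r26 r30 r31 r32 r34 r35 r36 r40 r41 r42 r43 r45 r46 r50 r51 r52 r53 r54 r56 r60 r61 r62 r63 r64 r65 hw0 hw1 hw2 hw3 hw4 hw5 hw6 hs01 hs02 hs03 hs04 hs05 hs06 hs12 hs13 hs14 hs15 hs16 hs23 hs24 hs25 hs26 hs34 hs35 hs36 hs45 hs46 hs56 ha00 ha11 ha22 ha33 ha44 ha55 ha66 v0 v1 v2 v3 v4 v5 v6 qn01 qn02 qn03 qn04 qn05 qn06 qn12 qn13 qn14 qn15 qn16 qn23 qn24 qn25 qn26 qn34 qn35 qn36 qn45 qn46 qn56 od1 od2 od3 od4 od5 od6 c25 c26 c34 c35 c36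 c45 c46 c56 gw01 gw02 gw03 gw04 gw05 gw06 gw12 gw13 gw14 gw15 gw16 gw23 gw24
                          · exact part16 T α25 α26 α34 α35 α36 α43 α45 α46 α52 α53 α54 α56 α62 α63 α64 α65 x25 x26 x34 x35 x36 x43 x45 x46 x52 x53 x54 x56 x62 x63 x64 x65 q25 q26 q34 q35 q36 q45 q46 q56 hm0 hm1 hm2 hm3 hm4 hm5 hm6 om1 om2 om3 om4 om5 om6 e0 e1 e2 e3 e4 e5 e6 r01 r02 r03 r04 r05 r06 r10 r12 r13 r14 r15 r16 r20 r21 r23 r24 r25 r26 r30 r31 r32 r34 r35 r36 r40 r41 r42 r43 r45 r46 r50 r51 r52 r53 r54 r56 r60 r61 r62 r63 r64 r65 hw0 hw1 hw2 hw3 hw4 hw5 hw6 hs01 hs02 hs03 hs04 hs05 hs06 hs12 hs13 hs14 hs15 hs16 hs23 hs24 hs25 hs26 hs34 hs35 hs36 hs45 hs46 hs56 ha00 ha11 ha22 ha33 ha44 ha55 ha66 v0 v1 v2 v3 v4 v5 v6 qn01 qn02 qn03 qn04 qn05 qn06 qn12 qn13 qn14 qn15 qn16 qn23 qn24 qn25 qn26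 qn34 qn35 qn36 qn45 qn46 qn56 od1 od2 od3 od4 od5 od6 c25 c26 c34 c35 c36 c45 c46 c56 gw01 gw02 gw03 gw04 gw05 gw06 gw12 gw13 gw14 gw15 gw16 gw23 gw24
                          · exact part17 T α25 α26 α34 α35 α36 α43 α45 α46 α52 α53 α54 α56 α62 α63 α64 α65 x25 x26 x34 x35 x36 x43 x45 x46 x52 x53 x54 x56 x62 x63 x64 x65 q25 q26 q34 q35 q36 q45 q46 q56 hm0 hm1 hm2 hm3 hm4 hm5 hm6 om1 om2 om3 om4 om5 om6 e0 e1 e2 e3 e4 e5 e6 r01 r02 r03 r04 r05 r06 r10 r12 r13 r14 r15 r16 r20 r21 r23 r24 r25 r26 r30 r31 r32 r34 r35 r36 r40 r41 r42 r43 r45 r46 r50 r51 r52 r53 r54 r56 r60 r61 r62 r63 r64 r65 hw0 hw1 hw2 hw3 hw4 hw5 hw6 hs01 hs02 hs03 hs04 hs05 hs06 hs12 hs13 hs14 hs15 hs16 hs23 hs24 hs25 hs26 hs34 hs35 hs36 hs45 hs46 hs56 ha00 ha11 ha22 ha33 ha44 ha55 ha66 v0 v1 v2 v3 v4 v5 v6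 qn01 qn02 qn03 qn04 qn05 qn06 qn12 qn13 qn14 qn15 qn16 qn23 qn24 qn25 qn26 qn34 qn35 qn36 qn45 qn46 qn56 od1 od2 od3 od4 od5 od6 c25 c26 c34 c35 c36 c45 c46 c56 gw01 gw02 gw03 gw04 gw05 gw06 gw12 gw13 gw14 gw15 gw16 gw23 gw24
                          · exact part18 T α25 α26 α34 α35 α36 α43 α45 α46 α52 α53 α54 α56 α62 α63 α64 α65 x25 x26 x34 x35 x36 x43 x45 x46 x52 x53 x54 x56 x62 x63 x64 x65 q25 q26 q34 q35 q36 q45 q46 q56 hm0 hm1 hm2 hm3 hm4 hm5 hm6 om1 om2 om3 om4 om5 om6 e0 e1 e2 e3 e4 e5 e6 r01 r02 r03 r04 r05 r06 r10 r12 r13 r14 r15 r16 r20 r21 r23 r24 r25 r26 r30 r31 r32 r34 r35 r36 r40 r41 r42 r43 r45 r46 r50 r51 r52 r53 r54 r56 r60 r61 r62 r63 r64 r65 hw0 hw1 hw2 hw3 hw4 hw5 hw6 hs01 hs02 hs03 hs04 hs05 hs06 hs12 hs13 hs14 hs15 hs16 hs23 hs24 hs25 hs26 hs34 hs35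 hs36 hs45 hs46 hs56 ha00 ha11 ha22 ha33 ha44 ha55 ha66 v0 v1 v2 v3 v4 v5 v6 qn01 qn02 qn03 qn04 qn05 qn06 qn12 qn13 qn14 qn15 qn16 qn23 qn24 qn25 qn26 qn34 qn35 qn36 qn45 qn46 qn56 od1 od2 od3 od4 od5 od6 c25 c26 c34 c35 c36 c45 c46 c56 gw01 gw02 gw03 gw04 gw05 gw06 gw12 gw13 gw14 gw15 gw16 gw23 gw24
                          · (have := hm0.out; have := om3.out; have := e1.out; have := e2.out; have := r25.out; have := r26.out; have := e4.out; have := r43.out; have := r45.out; have := r46.out; omega)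
                          · (have := hm0.out; have := om3.out; have := e1.out; have := e2.out; have := r25.out; have := r26.out; have := e4.out; have := r43.out; have := r45.out; have := r46.out; omega)
                        · (have := hm0.out; have := e1.out; have := e2.out; have := r24.out; have := r25.out; have := r26.out; have := e3.out; have := r34.out; have := r35.out; have := r36.out; omega)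
                        · (have := hm0.out; have := om2.out; have := e1.out; have := e2.out; have := r24.out; have := r25.out; have := r26.out; have := e3.out; have := r34.out; have := r35.out; have := r36.out; omega)
                        · (have := hm2.out; have := e0.out; have := e1.out; have := e2.out; have := r24.out; have := r25.out; have := r26.out; have := e3.out; have := r34.out; have := r35.out; have := r36.out; omega)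
                        · (have := hm0.out; have := hm1.out; have := e1.out; have := e2.out; have := r24.out; have := r25.out; have := r26.out; have := e3.out; have := r34.out; have := r35.out; have := r36.out; omega)
                        · (have := hm0.out; have := hm1.out; have := e1.out; have := e2.out; have := r24.out; have := r25.out; have := r26.out; have := e3.out; have := r34.out; have := r35.out; have := r36.out; omega)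
                      · exact part19 T α23 α24 α25 α26 α32 α34 α35 α36 α42 α43 α45 α46 α52 α53 α54 α56 α62 α63 α64 α65 x23 x24 x25 x26 x32 x34 x35 x36 x42 x43 x45 x46 x52 x53 x54 x56 x62 x63 x64 x65 q23 q24 q25 q26 q34 q35 q36 q45 q46 q56 hm0 hm1 hm2 hm3 hm4 hm5 hm6 om1 om2 om3 om4 om5 om6 e0 e1 e2 e3 e4 e5 e6 r01 r02 r03 r04 r05 r06 r10 r12 r13 r14 r15 r16 r20 r21 r23 r24 r25 r26 r30 r31 r32 r34 r35 r36 r40 r41 r42 r43 r45 r46 r50 r51 r52 r53 r54 r56 r60 r61 r62 r63 r64 r65 hw0 hw1 hw2 hw3 hw4 hw5 hw6 hs01 hs02 hs03 hs04 hs05 hs06 hs12 hs13 hs14 hs15 hs16 hs23 hs24 hs25 hs26 hs34 hs35 hs36 hs45 hs46 hs56 ha00 ha11 ha22 ha33 ha44 ha55 ha66 v0 v1 v2 v3 v4 v5 v6 qn01 qn02 qn03 qn04 qn05 qn06 qn12 qn13 qn14 qn15 qn16 qn23 qn24 qn25 qn26 qn34 qn35 qn36 qn45 qn46 qn56 od1 od2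 od3 od4 od5 od6 c23 c24 c25 c26 c34 c35 c36 c45 c46 c56 gw01 gw02 gw03 gw04 gw05 gw06 gw12 gw13 gw14 gw15 gw16
                    · exact part20 T α16 α23 α24 α25 α26 α32 α34 α35 α36 α42 α43 α45 α46 α52 α53 α54 α56 α61 α62 α63 α64 α65 x16 x23 x24 x25 x26 x32 x34 x35 x36 x42 x43 x45 x46 x52 x53 x54 x56 x61 x62 x63 x64 x65 q16 q23 q24 q25 q26 q34 q35 q36 q45 q46 q56 hm0 hm1 hm2 hm3 hm4 hm5 hm6 om1 om2 om3 om4 om5 om6 e0 e1 e2 e3 e4 e5 e6 r01 r02 r03 r04 r05 r06 r10 r12 r13 r14 r15 r16 r20 r21 r23 r24 r25 r26 r30 r31 r32 r34 r35 r36 r40 r41 r42 r43 r45 r46 r50 r51 r52 r53 r54 r56 r60 r61 r62 r63 r64 r65 hw0 hw1 hw2 hw3 hw4 hw5 hw6 hs01 hs02 hs03 hs04 hs05 hs06 hs12 hs13 hs14 hs15 hs16 hs23 hs24 hs25 hs26 hs34 hs35 hs36 hs45 hs46 hs56 ha00 ha11 ha22 ha33 ha44 ha55 ha66 v0 v1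 v2 v3 v4 v5 v6 qn01 qn02 qn03 qn04 qn05 qn06 qn12 qn13 qn14 qn15 qn16 qn23 qn24 qn25 qn26 qn34 qn35 qn36 qn45 qn46 qn56 od1 od2 od3 od4 od5 od6 c16 c23 c24 c25 c26 c34 c35 c36 c45 c46 c56 gw01 gw02 gw03 gw04 gw05 gw06 gw12 gw13 gw14 gw15
                  · exact part21 T α15 α16 α23 α24 α25 α26 α32 α34 α35 α36 α42 α43 α45 α46 α51 α52 α53 α54 α56 α61 α62 α63 α64 α65 x15 x16 x23 x24 x25 x26 x32 x34 x35 x36 x42 x43 x45 x46 x51 x52 x53 x54 x56 x61 x62 x63 x64 x65 q15 q16 q23 q24 q25 q26 q34 q35 q36 q45 q46 q56 hm0 hm1 hm2 hm3 hm4 hm5 hm6 om1 om2 om3 om4 om5 om6 e0 e1 e2 e3 e4 e5 e6 r01 r02 r03 r04 r05 r06 r10 r12 r13 r14 r15 r16 r20 r21 r23 r24 r25 r26 r30 r31 r32 r34 r35 r36 r40 r41 r42 r43 r45 r46 r50 r51 r52 r53 r54 r56 r60 r61 r62 r63 r64 r65 hw0 hw1 hw2 hw3 hw4 hw5 hw6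 hs01 hs02 hs03 hs04 hs05 hs06 hs12 hs13 hs14 hs15 hs16 hs23 hs24 hs25 hs26 hs34 hs35 hs36 hs45 hs46 hs56 ha00 ha11 ha22 ha33 ha44 ha55 ha66 v0 v1 v2 v3 v4 v5 v6 qn01 qn02 qn03 qn04 qn05 qn06 qn12 qn13 qn14 qn15 qn16 qn23 qn24 qn25 qn26 qn34 qn35 qn36 qn45 qn46 qn56 od1 od2 od3 od4 od5 od6 c15 c16 c23 c24 c25 c26 c34 c35 c36 c45 c46 c56 gw01 gw02 gw03 gw04 gw05 gw06 gw12 gw13 gw14
                · exact part22 T α14 α15 α16 α23 α24 α25 α26 α32 α34 α35 α36 α41 α42 α43 α45 α46 α51 α52 α53 α54 α56 α61 α62 α63 α64 α65 x14 x15 x16 x23 x24 x25 x26 x32 x34 x35 x36 x41 x42 x43 x45 x46 x51 x52 x53 x54 x56 x61 x62 x63 x64 x65 q14 q15 q16 q23 q24 q25 q26 q34 q35 q36 q45 q46 q56 hm0 hm1 hm2 hm3 hm4 hm5 hm6 om1 om2 om3 om4 om5 om6 e0 e1 e2 e3 e4 e5 e6 r01 r02 r03 r04 r05 r06 r10 r12 r13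 r14 r15 r16 r20 r21 r23 r24 r25 r26 r30 r31 r32 r34 r35 r36 r40 r41 r42 r43 r45 r46 r50 r51 r52 r53 r54 r56 r60 r61 r62 r63 r64 r65 hw0 hw1 hw2 hw3 hw4 hw5 hw6 hs01 hs02 hs03 hs04 hs05 hs06 hs12 hs13 hs14 hs15 hs16 hs23 hs24 hs25 hs26 hs34 hs35 hs36 hs45 hs46 hs56 ha00 ha11 ha22 ha33 ha44 ha55 ha66 v0 v1 v2 v3 v4 v5 v6 qn01 qn02 qn03 qn04 qn05 qn06 qn12 qn13 qn14 qn15 qn16 qn23 qn24 qn25 qn26 qn34 qn35 qn36 qn45 qn46 qn56 od1 od2 od3 od4 od5 od6 c14 c15 c16 c23 c24 c25 c26 c34 c35 c36 c45 c46 c56 gw01 gw02 gw03 gw04 gw05 gw06 gw12 gw13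
                · exact part23 T α14 α15 α16 α23 α24 α25 α26 α32 α34 α35 α36 α41 α42 α43 α45 α46 α51 α52 α53 α54 α56 α61 α62 α63 α64 α65 x14 x15 x16 x23 x24 x25 x26 x32 x34 x35 x36 x41 x42 x43 x45 x46 x51 x52 x53 x54 x56 x61 x62 x63 x64 x65 q14 q15 q16 q23 q24 q25 q26 q34 q35 q36 q45 q46 q56 hm0 hm1 hm2 hm3 hm4 hm5 hm6 om1 om2 om3 om4 om5 om6 e0 e1 e2 e3 e4 e5 e6 r01 r02 r03 r04 r05 r06 r10 r12 r13 r14 r15 r16 r20 r21 r23 r24 r25 r26 r30 r31 r32 r34 r35 r36 r40 r41 r42 r43 r45 r46 r50 r51 r52 r53 r54 r56 r60 r61 r62 r63 r64 r65 hw0 hw1 hw2 hw3 hw4 hw5 hw6 hs01 hs02 hs03 hs04 hs05 hs06 hs12 hs13 hs14 hs15 hs16 hs23 hs24 hs25 hs26 hs34 hs35 hs36 hs45 hs46 hs56 ha00 ha11 ha22 ha33 ha44 ha55 ha66 v0 v1 v2 v3 v4 v5 v6 qn01 qn02 qn03 qn04 qn05 qn06 qn12 qn13 qn14 qn15 qn16 qn23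 qn24 qn25 qn26 qn34 qn35 qn36 qn45 qn46 qn56 od1 od2 od3 od4 od5 od6 c14 c15 c16 c23 c24 c25 c26 c34 c35 c36 c45 c46 c56 gw01 gw02 gw03 gw04 gw05 gw06 gw12 gw13
              · exact part24 T α13 α14 α15 α16 α23 α24 α25 α26 α31 α32 α34 α35 α36 α41 α42 α43 α45 α46 α51 α52 α53 α54 α56 α61 α62 α63 α64 α65 x13 x14 x15 x16 x23 x24 x25 x26 x31 x32 x34 x35 x36 x41 x42 x43 x45 x46 x51 x52 x53 x54 x56 x61 x62 x63 x64 x65 q13 q14 q15 q16 q23 q24 q25 q26 q34 q35 q36 q45 q46 q56 hm0 hm1 hm2 hm3 hm4 hm5 hm6 om1 om2 om3 om4 om5 om6 e0 e1 e2 e3 e4 e5 e6 r01 r02 r03 r04 r05 r06 r10 r12 r13 r14 r15 r16 r20 r21 r23 r24 r25 r26 r30 r31 r32 r34 r35 r36 r40 r41 r42 r43 r45 r46 r50 r51 r52 r53 r54 r56 r60 r61 r62 r63 r64 r65 hw0 hw1 hw2 hw3 hw4 hw5 hw6 hs01 hs02 hs03 hs04 hs05 hs06 hs12 hs13 hs14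 hs15 hs16 hs23 hs24 hs25 hs26 hs34 hs35 hs36 hs45 hs46 hs56 ha00 ha11 ha22 ha33 ha44 ha55 ha66 v0 v1 v2 v3 v4 v5 v6 qn01 qn02 qn03 qn04 qn05 qn06 qn12 qn13 qn14 qn15 qn16 qn23 qn24 qn25 qn26 qn34 qn35 qn36 qn45 qn46 qn56 od1 od2 od3 od4 od5 od6 c13 c14 c15 c16 c23 c24 c25 c26 c34 c35 c36 c45 c46 c56 gw01 gw02 gw03 gw04 gw05 gw06 gw12
              · exact part25 T α13 α14 α15 α16 α23 α24 α25 α26 α31 α32 α34 α35 α36 α41 α42 α43 α45 α46 α51 α52 α53 α54 α56 α61 α62 α63 α64 α65 x13 x14 x15 x16 x23 x24 x25 x26 x31 x32 x34 x35 x36 x41 x42 x43 x45 x46 x51 x52 x53 x54 x56 x61 x62 x63 x64 x65 q13 q14 q15 q16 q23 q24 q25 q26 q34 q35 q36 q45 q46 q56 hm0 hm1 hm2 hm3 hm4 hm5 hm6 om1 om2 om3 om4 om5 om6 e0 e1 e2 e3 e4 e5 e6 r01 r02 r03 r04 r05 r06 r10 r12 r13 r14 r15 r16 r20 r21 r23 r24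 r25 r26 r30 r31 r32 r34 r35 r36 r40 r41 r42 r43 r45 r46 r50 r51 r52 r53 r54 r56 r60 r61 r62 r63 r64 r65 hw0 hw1 hw2 hw3 hw4 hw5 hw6 hs01 hs02 hs03 hs04 hs05 hs06 hs12 hs13 hs14 hs15 hs16 hs23 hs24 hs25 hs26 hs34 hs35 hs36 hs45 hs46 hs56 ha00 ha11 ha22 ha33 ha44 ha55 ha66 v0 v1 v2 v3 v4 v5 v6 qn01 qn02 qn03 qn04 qn05 qn06 qn12 qn13 qn14 qn15 qn16 qn23 qn24 qn25 qn26 qn34 qn35 qn36 qn45 qn46 qn56 od1 od2 od3 od4 od5 od6 c13 c14 c15 c16 c23 c24 c25 c26 c34 c35 c36 c45 c46 c56 gw01 gw02 gw03 gw04 gw05 gw06 gw12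
              · exact part26 T α13 α14 α15 α16 α23 α24 α25 α26 α31 α32 α34 α35 α36 α41 α42 α43 α45 α46 α51 α52 α53 α54 α56 α61 α62 α63 α64 α65 x13 x14 x15 x16 x23 x24 x25 x26 x31 x32 x34 x35 x36 x41 x42 x43 x45 x46 x51 x52 x53 x54 x56 x61 x62 x63 x64 x65 q13 q14 q15 q16 q23 q24 q25 q26 q34 q35 q36 q45 q46 q56 hm0 hm1 hm2 hm3 hm4 hm5 hm6 om1 om2 om3 om4 om5 om6 e0 e1 e2 e3 e4 e5 e6 r01 r02 r03 r04 r05 r06 r10 r12 r13 r14 r15 r16 r20 r21 r23 r24 r25 r26 r30 r31 r32 r34 r35 r36 r40 r41 r42 r43 r45 r46 r50 r51 r52 r53 r54 r56 r60 r61 r62 r63 r64 r65 hw0 hw1 hw2 hw3 hw4 hw5 hw6 hs01 hs02 hs03 hs04 hs05 hs06 hs12 hs13 hs14 hs15 hs16 hs23 hs24 hs25 hs26 hs34 hs35 hs36 hs45 hs46 hs56 ha00 ha11 ha22 ha33 ha44 ha55 ha66 v0 v1 v2 v3 v4 v5 v6 qn01 qn02 qn03 qn04 qn05 qn06 qn12 qn13 qn14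 qn15 qn16 qn23 qn24 qn25 qn26 qn34 qn35 qn36 qn45 qn46 qn56 od1 od2 od3 od4 od5 od6 c13 c14 c15 c16 c23 c24 c25 c26 c34 c35 c36 c45 c46 c56 gw01 gw02 gw03 gw04 gw05 gw06 gw12
              · exact part27 T α13 α14 α15 α16 α23 α24 α25 α26 α31 α32 α34 α35 α36 α41 α42 α43 α45 α46 α51 α52 α53 α54 α56 α61 α62 α63 α64 α65 x13 x14 x15 x16 x23 x24 x25 x26 x31 x32 x34 x35 x36 x41 x42 x43 x45 x46 x51 x52 x53 x54 x56 x61 x62 x63 x64 x65 q13 q14 q15 q16 q23 q24 q25 q26 q34 q35 q36 q45 q46 q56 hm0 hm1 hm2 hm3 hm4 hm5 hm6 om1 om2 om3 om4 om5 om6 e0 e1 e2 e3 e4 e5 e6 r01 r02 r03 r04 r05 r06 r10 r12 r13 r14 r15 r16 r20 r21 r23 r24 r25 r26 r30 r31 r32 r34 r35 r36 r40 r41 r42 r43 r45 r46 r50 r51 r52 r53 r54 r56 r60 r61 r62 r63 r64 r65 hw0 hw1 hw2 hw3 hw4 hw5 hw6 hs01 hs02 hs03 hs04 hs05 hs06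 hs12 hs13 hs14 hs15 hs16 hs23 hs24 hs25 hs26 hs34 hs35 hs36 hs45 hs46 hs56 ha00 ha11 ha22 ha33 ha44 ha55 ha66 v0 v1 v2 v3 v4 v5 v6 qn01 qn02 qn03 qn04 qn05 qn06 qn12 qn13 qn14 qn15 qn16 qn23 qn24 qn25 qn26 qn34 qn35 qn36 qn45 qn46 qn56 od1 od2 od3 od4 od5 od6 c13 c14 c15 c16 c23 c24 c25 c26 c34 c35 c36 c45 c46 c56 gw01 gw02 gw03 gw04 gw05 gw06 gw12
            · exact part28 T α12 α13 α14 α15 α16 α21 α23 α24 α25 α26 α31 α32 α34 α35 α36 α41 α42 α43 α45 α46 α51 α52 α53 α54 α56 α61 α62 α63 α64 α65 x12 x13 x14 x15 x16 x21 x23 x24 x25 x26 x31 x32 x34 x35 x36 x41 x42 x43 x45 x46 x51 x52 x53 x54 x56 x61 x62 x63 x64 x65 q12 q13 q14 q15 q16 q23 q24 q25 q26 q34 q35 q36 q45 q46 q56 hm0 hm1 hm2 hm3 hm4 hm5 hm6 om1 om2 om3 om4 om5 om6 e0 e1 e2 e3 e4 e5 e6 r01 r02 r03 r04 r05 r06 r10 r12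 r13 r14 r15 r16 r20 r21 r23 r24 r25 r26 r30 r31 r32 r34 r35 r36 r40 r41 r42 r43 r45 r46 r50 r51 r52 r53 r54 r56 r60 r61 r62 r63 r64 r65 hw0 hw1 hw2 hw3 hw4 hw5 hw6 hs01 hs02 hs03 hs04 hs05 hs06 hs12 hs13 hs14 hs15 hs16 hs23 hs24 hs25 hs26 hs34 hs35 hs36 hs45 hs46 hs56 ha00 ha11 ha22 ha33 ha44 ha55 ha66 v0 v1 v2 v3 v4 v5 v6 qn01 qn02 qn03 qn04 qn05 qn06 qn12 qn13 qn14 qn15 qn16 qn23 qn24 qn25 qn26 qn34 qn35 qn36 qn45 qn46 qn56 od1 od2 od3 od4 od5 od6 c12 c13 c14 c15 c16 c23 c24 c25 c26 c34 c35 c36 c45 c46 c56 gw01 gw02 gw03 gw04 gw05 gw06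
            · exact part29 T α12 α13 α14 α15 α16 α21 α23 α24 α25 α26 α31 α32 α34 α35 α36 α41 α42 α43 α45 α46 α51 α52 α53 α54 α56 α61 α62 α63 α64 α65 x12 x13 x14 x15 x16 x21 x23 x24 x25 x26 x31 x32 x34 x35 x36 x41 x42 x43 x45 x46 x51 x52 x53 x54 x56 x61 x62 x63 x64 x65 q12 q13 q14 q15 q16 q23 q24 q25 q26 q34 q35 q36 q45 q46 q56 hm0 hm1 hm2 hm3 hm4 hm5 hm6 om1 om2 om3 om4 om5 om6 e0 e1 e2 e3 e4 e5 e6 r01 r02 r03 r04 r05 r06 r10 r12 r13 r14 r15 r16 r20 r21 r23 r24 r25 r26 r30 r31 r32 r34 r35 r36 r40 r41 r42 r43 r45 r46 r50 r51 r52 r53 r54 r56 r60 r61 r62 r63 r64 r65 hw0 hw1 hw2 hw3 hw4 hw5 hw6 hs01 hs02 hs03 hs04 hs05 hs06 hs12 hs13 hs14 hs15 hs16 hs23 hs24 hs25 hs26 hs34 hs35 hs36 hs45 hs46 hs56 ha00 ha11 ha22 ha33 ha44 ha55 ha66 v0 v1 v2 v3 v4 v5 v6 qn01 qn02 qn03 qn04 qn05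 qn06 qn12 qn13 qn14 qn15 qn16 qn23 qn24 qn25 qn26 qn34 qn35 qn36 qn45 qn46 qn56 od1 od2 od3 od4 od5 od6 c12 c13 c14 c15 c16 c23 c24 c25 c26 c34 c35 c36 c45 c46 c56 gw01 gw02 gw03 gw04 gw05 gw06
            · (have := hm1.out; have := om6.out; have := e0.out; omega)
            · (have := hm6.out; have := om1.out; have := e0.out; have := e6.out; have := r61.out; have := r62.out; have := r63.out; have := r64.out; have := r65.out; omega)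
            · (have := hm6.out; have := om1.out; have := om6.out; have := e0.out; omega)
          · exact part30 T α06 α12 α13 α14 α15 α16 α21 α23 α24 α25 α26 α31 α32 α34 α35 α36 α41 α42 α43 α45 α46 α51 α52 α53 α54 α56 α60 α61 α62 α63 α64 α65 x06 x12 x13 x14 x15 x16 x21 x23 x24 x25 x26 x31 x32 x34 x35 x36 x41 x42 x43 x45 x46 x51 x52 x53 x54 x56 x60 x61 x62 x63 x64 x65 q06 q12 q13 q14 q15 q16 q23 q24 q25 q26 q34 q35 q36 q45 q46 q56 hm0 hm1 hm2 hm3 hm4 hm5 hm6 om1 om2 om3 om4 om5 om6 e0 e1 e2 e3 e4 e5 e6 r01 r02 r03 r04 r05 r06 r10 r12 r13 r14 r15 r16 r20 r21 r23 r24 r25 r26 r30 r31 r32 r34 r35 r36 r40 r41 r42 r43 r45 r46 r50 r51 r52 r53 r54 r56 r60 r61 r62 r63 r64 r65 hw0 hw1 hw2 hw3 hw4 hw5 hw6 hs01 hs02 hs03 hs04 hs05 hs06 hs12 hs13 hs14 hs15 hs16 hs23 hs24 hs25 hs26 hs34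 hs35 hs36 hs45 hs46 hs56 ha00 ha11 ha22 ha33 ha44 ha55 ha66 v0 v1 v2 v3 v4 v5 v6 qn01 qn02 qn03 qn04 qn05 qn06 qn12 qn13 qn14 qn15 qn16 qn23 qn24 qn25 qn26 qn34 qn35 qn36 qn45 qn46 qn56 od1 od2 od3 od4 od5 od6 c06 c12 c13 c14 c15 c16 c23 c24 c25 c26 c34 c35 c36 c45 c46 c56 gw01 gw02 gw03 gw04 gw05
          · exact part31 T α06 α12 α13 α14 α15 α16 α21 α23 α24 α25 α26 α31 α32 α34 α35 α36 α41 α42 α43 α45 α46 α51 α52 α53 α54 α56 α60 α61 α62 α63 α64 α65 x06 x12 x13 x14 x15 x16 x21 x23 x24 x25 x26 x31 x32 x34 x35 x36 x41 x42 x43 x45 x46 x51 x52 x53 x54 x56 x60 x61 x62 x63 x64 x65 q06 q12 q13 q14 q15 q16 q23 q24 q25 q26 q34 q35 q36 q45 q46 q56 hm0 hm1 hm2 hm3 hm4 hm5 hm6 om1 om2 om3 om4 om5 om6 e0 e1 e2 e3 e4 e5 e6 r01 r02 r03 r04 r05 r06 r10 r12 r13 r14 r15 r16 r20 r21 r23 r24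 r25 r26 r30 r31 r32 r34 r35 r36 r40 r41 r42 r43 r45 r46 r50 r51 r52 r53 r54 r56 r60 r61 r62 r63 r64 r65 hw0 hw1 hw2 hw3 hw4 hw5 hw6 hs01 hs02 hs03 hs04 hs05 hs06 hs12 hs13 hs14 hs15 hs16 hs23 hs24 hs25 hs26 hs34 hs35 hs36 hs45 hs46 hs56 ha00 ha11 ha22 ha33 ha44 ha55 ha66 v0 v1 v2 v3 v4 v5 v6 qn01 qn02 qn03 qn04 qn05 qn06 qn12 qn13 qn14 qn15 qn16 qn23 qn24 qn25 qn26 qn34 qn35 qn36 qn45 qn46 qn56 od1 od2 od3 od4 od5 od6 c06 c12 c13 c14 c15 c16 c23 c24 c25 c26 c34 c35 c36 c45 c46 c56 gw01 gw02 gw03 gw04 gw05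
          · (have := hm1.out; have := om5.out; have := e0.out; have := r06.out; omega)
          · (have := hm5.out; have := om1.out; have := e0.out; have := r06.out; have := e5.out; have := r51.out; have := r52.out; have := r53.out; have := r54.out; have := r56.out; omega)
          · (have := hm5.out; have := om1.out; have := om5.out; have := e0.out; have := r06.out; omega)
        · exact part32 T α05 α06 α12 α13 α14 α15 α16 α21 α23 α24 α25 α26 α31 α32 α34 α35 α36 α41 α42 α43 α45 α46 α50 α51 α52 α53 α54 α56 α60 α61 α62 α63 α64 α65 x05 x06 x12 x13 x14 x15 x16 x21 x23 x24 x25 x26 x31 x32 x34 x35 x36 x41 x42 x43 x45 x46 x50 x51 x52 x53 x54 x56 x60 x61 x62 x63 x64 x65 q05 q06 q12 q13 q14 q15 q16 q23 q24 q25 q26 q34 q35 q36 q45 q46 q56 hm0 hm1 hm2 hm3 hm4 hm5 hm6 om1 om2 om3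 om4 om5 om6 e0 e1 e2 e3 e4 e5 e6 r01 r02 r03 r04 r05 r06 r10 r12 r13 r14 r15 r16 r20 r21 r23 r24 r25 r26 r30 r31 r32 r34 r35 r36 r40 r41 r42 r43 r45 r46 r50 r51 r52 r53 r54 r56 r60 r61 r62 r63 r64 r65 hw0 hw1 hw2 hw3 hw4 hw5 hw6 hs01 hs02 hs03 hs04 hs05 hs06 hs12 hs13 hs14 hs15 hs16 hs23 hs24 hs25 hs26 hs34 hs35 hs36 hs45 hs46 hs56 ha00 ha11 ha22 ha33 ha44 ha55 ha66 v0 v1 v2 v3 v4 v5 v6 qn01 qn02 qn03 qn04 qn05 qn06 qn12 qn13 qn14 qn15 qn16 qn23 qn24 qn25 qn26 qn34 qn35 qn36 qn45 qn46 qn56 od1 od2 od3 od4 od5 od6 c05 c06 c12 c13 c14 c15 c16 c23 c24 c25 c26 c34 c35 c36 c45 c46 c56 gw01 gw02 gw03 gw04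
        · exact part33 T α05 α06 α12 α13 α14 α15 α16 α21 α23 α24 α25 α26 α31 α32 α34 α35 α36 α41 α42 α43 α45 α46 α50 α51 α52 α53 α54 α56 α60 α61 α62 α63 α64 α65 x05 x06 x12 x13 x14 x15 x16 x21 x23 x24 x25 x26 x31 x32 x34 x35 x36 x41 x42 x43 x45 x46 x50 x51 x52 x53 x54 x56 x60 x61 x62 x63 x64 x65 q05 q06 q12 q13 q14 q15 q16 q23 q24 q25 q26 q34 q35 q36 q45 q46 q56 hm0 hm1 hm2 hm3 hm4 hm5 hm6 om1 om2 om3 om4 om5 om6 e0 e1 e2 e3 e4 e5 e6 r01 r02 r03 r04 r05 r06 r10 r12 r13 r14 r15 r16 r20 r21 r23 r24 r25 r26 r30 r31 r32 r34 r35 r36 r40 r41 r42 r43 r45 r46 r50 r51 r52 r53 r54 r56 r60 r61 r62 r63 r64 r65 hw0 hw1 hw2 hw3 hw4 hw5 hw6 hs01 hs02 hs03 hs04 hs05 hs06 hs12 hs13 hs14 hs15 hs16 hs23 hs24 hs25 hs26 hs34 hs35 hs36 hs45 hs46 hs56 ha00 ha11 ha22 ha33 ha44 ha55 ha66 v0 v1 v2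 v3 v4 v5 v6 qn01 qn02 qn03 qn04 qn05 qn06 qn12 qn13 qn14 qn15 qn16 qn23 qn24 qn25 qn26 qn34 qn35 qn36 qn45 qn46 qn56 od1 od2 od3 od4 od5 od6 c05 c06 c12 c13 c14 c15 c16 c23 c24 c25 c26 c34 c35 c36 c45 c46 c56 gw01 gw02 gw03 gw04
        · (have := hm1.out; have := om4.out; have := e0.out; have := r05.out; have := r06.out; omega)
        · (have := hm4.out; have := om1.out; have := e0.out; have := r05.out; have := r06.out; have := e4.out; have := r41.out; have := r42.out; have := r43.out; have := r45.out; have := r46.out; omega)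
        · (have := hm4.out; have := om1.out; have := om4.out; have := e0.out; have := r05.out; have := r06.out; omega)
      · have t := pc2 q04 c04.out (by have := v0.out; have := qn05.out; have := qn06.out; omega)
        clear c04
        rcases t with ⟨⟨⟨rfl, rfl⟩, gw04, ⟨rfl, rfl⟩⟩, rfl⟩ | ⟨⟨⟨rfl, rfl⟩, gw04, ⟨rfl, rfl⟩⟩, rfl⟩ | ⟨⟨⟨rfl, rfl⟩, gw04, ⟨rfl, rfl⟩⟩, rfl⟩ | ⟨⟨⟨rfl, rfl⟩, gw04, ⟨rfl, rfl⟩⟩, rfl⟩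
        · have t := pc2 q05 c05.out (by have := v0.out; have := qn06.out; omega)
          clear c05
          rcases t with ⟨⟨⟨rfl, rfl⟩, gw05, ⟨rfl, rfl⟩⟩, rfl⟩ | ⟨⟨⟨rfl, rfl⟩, gw05, ⟨rfl, rfl⟩⟩, rfl⟩ | ⟨⟨⟨rfl, rfl⟩, gw05, ⟨rfl, rfl⟩⟩, rfl⟩ | ⟨⟨⟨rfl, rfl⟩, gw05, ⟨rfl, rfl⟩⟩, rfl⟩
          · have t := pc2 q06 c06.out (by have := v0.out; omega)
            clear c06
            rcases t with ⟨⟨⟨rfl, rfl⟩, gw06, ⟨rfl, rfl⟩⟩, rfl⟩ | ⟨⟨⟨rfl, rfl⟩, gw06, ⟨rfl, rfl⟩⟩, rfl⟩ | ⟨⟨⟨rfl, rfl⟩, gw06, ⟨rfl, rfl⟩⟩, rfl⟩ | ⟨⟨⟨rfl, rfl⟩, gw06, ⟨rfl, rfl⟩⟩, rfl⟩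
            · have t := pc3 q12 c12.out (by have := v1.out; have := qn13.out; have := qn14.out; have := qn15.out; have := qn16.out; omega)
              clear c12
              rcases t with ⟨⟨⟨rfl, rfl⟩, gw12, ⟨rfl, rfl⟩⟩, rfl⟩ | ⟨⟨⟨rfl, rfl⟩, gw12, ⟨rfl, rfl⟩⟩, rfl⟩ | ⟨⟨⟨rfl, rfl⟩, gw12, ⟨rfl, rfl⟩⟩, rfl⟩ | ⟨⟨⟨rfl, rfl⟩, gw12, ⟨rfl, rfl⟩⟩, rfl⟩ | ⟨⟨⟨rfl, rfl⟩, gw12, ⟨rfl, rfl⟩⟩, rfl⟩ | ⟨⟨⟨rfl, rfl⟩, gw12, ⟨rfl, rfl⟩⟩, rfl⟩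
              · (have := od2.out; omega)
              · have t := pc2 q13 c13.out (by have := v1.out; have := qn14.out; have := qn15.out; have := qn16.out; omega)
                clear c13
                rcases t with ⟨⟨⟨rfl, rfl⟩, gw13, ⟨rfl, rfl⟩⟩, rfl⟩ | ⟨⟨⟨rfl, rfl⟩, gw13, ⟨rfl, rfl⟩⟩, rfl⟩ | ⟨⟨⟨rfl, rfl⟩, gw13, ⟨rfl, rfl⟩⟩, rfl⟩ | ⟨⟨⟨rfl, rfl⟩, gw13, ⟨rfl, rfl⟩⟩, rfl⟩
                · have t := pc2 q14 c14.out (by have := v1.out; have := qn15.out; have := qn16.out; omega)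
                  clear c14
                  rcases t with ⟨⟨⟨rfl, rfl⟩, gw14, ⟨rfl, rfl⟩⟩, rfl⟩ | ⟨⟨⟨rfl, rfl⟩, gw14, ⟨rfl, rfl⟩⟩, rfl⟩ | ⟨⟨⟨rfl, rfl⟩, gw14, ⟨rfl, rfl⟩⟩, rfl⟩ | ⟨⟨⟨rfl, rfl⟩, gw14, ⟨rfl, rfl⟩⟩, rfl⟩
                  · have t := pc2 q15 c15.out (by have := v1.out; have := qn16.out; omega)
                    clear c15
                    rcases t with ⟨⟨⟨rfl, rfl⟩, gw15, ⟨rfl, rfl⟩⟩, rfl⟩ | ⟨⟨⟨rfl, rfl⟩, gw15, ⟨rfl, rfl⟩⟩, rfl⟩ | ⟨⟨⟨rfl, rfl⟩, gw15, ⟨rfl, rfl⟩⟩, rfl⟩ | ⟨⟨⟨rfl, rfl⟩, gw15, ⟨rfl, rfl⟩⟩, rfl⟩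
                    · have t := pc2 q16 c16.out (by have := v1.out; omega)
                      clear c16
                      rcases t with ⟨⟨⟨rfl, rfl⟩, gw16, ⟨rfl, rfl⟩⟩, rfl⟩ | ⟨⟨⟨rfl, rfl⟩, gw16, ⟨rfl, rfl⟩⟩, rfl⟩ | ⟨⟨⟨rfl, rfl⟩, gw16, ⟨rfl, rfl⟩⟩, rfl⟩ | ⟨⟨⟨rfl, rfl⟩, gw16, ⟨rfl, rfl⟩⟩, rfl⟩
                      · have t := pc3 q23 c23.out (by have := v2.out; have := qn24.out; have := qn25.out; have := qn26.out; omega)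
                        clear c23
                        rcases t with ⟨⟨⟨rfl, rfl⟩, gw23, ⟨rfl, rfl⟩⟩, rfl⟩ | ⟨⟨⟨rfl, rfl⟩, gw23, ⟨rfl, rfl⟩⟩, rfl⟩ | ⟨⟨⟨rfl, rfl⟩, gw23, ⟨rfl, rfl⟩⟩, rfl⟩ | ⟨⟨⟨rfl, rfl⟩, gw23, ⟨rfl, rfl⟩⟩, rfl⟩ | ⟨⟨⟨rfl, rfl⟩, gw23, ⟨rfl, rfl⟩⟩, rfl⟩ | ⟨⟨⟨rfl, rfl⟩, gw23, ⟨rfl, rfl⟩⟩, rfl⟩
                        · have t := pc3 q24 c24.out (by have := v2.out; have := qn25.out; have := qn26.out; omega)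
                          clear c24
                          rcases t with ⟨⟨⟨rfl, rfl⟩, gw24, ⟨rfl, rfl⟩⟩, rfl⟩ | ⟨⟨⟨rfl, rfl⟩, gw24, ⟨rfl, rfl⟩⟩, rfl⟩ | ⟨⟨⟨rfl, rfl⟩, gw24, ⟨rfl, rfl⟩⟩, rfl⟩ | ⟨⟨⟨rfl, rfl⟩, gw24, ⟨rfl, rfl⟩⟩, rfl⟩ | ⟨⟨⟨rfl, rfl⟩, gw24, ⟨rfl, rfl⟩⟩, rfl⟩ | ⟨⟨⟨rfl, rfl⟩, gw24, ⟨rfl, rfl⟩⟩, rfl⟩
                          · exact part34 T α25 α26 α34 α35 α36 α43 α45 α46 α52 α53 α54 α56 α62 α63 α64 α65 x25 x26 x34 x35 x36 x43 x45 x46 x52 x53 x54 x56 x62 x63 x64 x65 q25 q26 q34 q35 q36 q45 q46 q56 hm0 hm1 hm2 hm3 hm4 hm5 hm6 om1 om2 om3 om4 om5 om6 e0 e1 e2 e3 e4 e5 e6 r01 r02 r03 r04 r05 r06 r10 r12 r13 r14 r15 r16 r20 r21 r23 r24 r25 r26 r30 r31 r32 r34 r35 r36 r40 r41 r42 r43 r45 r46 r50 r51 r52 r53 r54 r56 r60 r61 r62 r63 r64 r65 hw0 hw1 hw2 hw3 hw4 hw5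 hw6 hs01 hs02 hs03 hs04 hs05 hs06 hs12 hs13 hs14 hs15 hs16 hs23 hs24 hs25 hs26 hs34 hs35 hs36 hs45 hs46 hs56 ha00 ha11 ha22 ha33 ha44 ha55 ha66 v0 v1 v2 v3 v4 v5 v6 qn01 qn02 qn03 qn04 qn05 qn06 qn12 qn13 qn14 qn15 qn16 qn23 qn24 qn25 qn26 qn34 qn35 qn36 qn45 qn46 qn56 od1 od2 od3 od4 od5 od6 c25 c26 c34 c35 c36 c45 c46 c56 gw01 gw02 gw03 gw04 gw05 gw06 gw12 gw13 gw14 gw15 gw16 gw23 gw24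
                          · exact part35 T α25 α26 α34 α35 α36 α43 α45 α46 α52 α53 α54 α56 α62 α63 α64 α65 x25 x26 x34 x35 x36 x43 x45 x46 x52 x53 x54 x56 x62 x63 x64 x65 q25 q26 q34 q35 q36 q45 q46 q56 hm0 hm1 hm2 hm3 hm4 hm5 hm6 om1 om2 om3 om4 om5 om6 e0 e1 e2 e3 e4 e5 e6 r01 r02 r03 r04 r05 r06 r10 r12 r13 r14 r15 r16 r20 r21 r23 r24 r25 r26 r30 r31 r32 r34 r35 r36 r40 r41 r42 r43 r45 r46 r50 r51 r52 r53 r54 r56 r60 r61 r62 r63 r64 r65 hw0 hw1 hw2 hw3 hw4 hw5 hw6 hs01 hs02 hs03 hs04 hs05 hs06 hs12 hs13 hs14 hs15 hs16 hs23 hs24 hs25 hs26 hs34 hs35 hs36 hs45 hs46 hs56 ha00 ha11 ha22 ha33 ha44 ha55 ha66 v0 v1 v2 v3 v4 v5 v6 qn01 qn02 qn03 qn04 qn05 qn06 qn12 qn13 qn14 qn15 qn16 qn23 qn24 qn25 qn26 qn34 qn35 qn36 qn45 qn46 qn56 od1 od2 od3 od4 od5 od6 c25 c26 c34 c35 c36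 c45 c46 c56 gw01 gw02 gw03 gw04 gw05 gw06 gw12 gw13 gw14 gw15 gw16 gw23 gw24
                          · exact part36 T α25 α26 α34 α35 α36 α43 α45 α46 α52 α53 α54 α56 α62 α63 α64 α65 x25 x26 x34 x35 x36 x43 x45 x46 x52 x53 x54 x56 x62 x63 x64 x65 q25 q26 q34 q35 q36 q45 q46 q56 hm0 hm1 hm2 hm3 hm4 hm5 hm6 om1 om2 om3 om4 om5 om6 e0 e1 e2 e3 e4 e5 e6 r01 r02 r03 r04 r05 r06 r10 r12 r13 r14 r15 r16 r20 r21 r23 r24 r25 r26 r30 r31 r32 r34 r35 r36 r40 r41 r42 r43 r45 r46 r50 r51 r52 r53 r54 r56 r60 r61 r62 r63 r64 r65 hw0 hw1 hw2 hw3 hw4 hw5 hw6 hs01 hs02 hs03 hs04 hs05 hs06 hs12 hs13 hs14 hs15 hs16 hs23 hs24 hs25 hs26 hs34 hs35 hs36 hs45 hs46 hs56 ha00 ha11 ha22 ha33 ha44 ha55 ha66 v0 v1 v2 v3 v4 v5 v6 qn01 qn02 qn03 qn04 qn05 qn06 qn12 qn13 qn14 qn15 qn16 qn23 qn24 qn25 qn26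 qn34 qn35 qn36 qn45 qn46 qn56 od1 od2 od3 od4 od5 od6 c25 c26 c34 c35 c36 c45 c46 c56 gw01 gw02 gw03 gw04 gw05 gw06 gw12 gw13 gw14 gw15 gw16 gw23 gw24
                          · (have := hm0.out; have := om3.out; have := om4.out; have := e0.out; have := e1.out; have := e2.out; have := r25.out; have := r26.out; omega)
                          · (have := hm0.out; have := e1.out; have := e2.out; have := r25.out; have := r26.out; have := e4.out; have := r43.out; have := r45.out; have := r46.out; omega)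
                          · (have := hm0.out; have := e1.out; have := e2.out; have := r25.out; have := r26.out; have := e4.out; have := r43.out; have := r45.out; have := r46.out; omega)
                        · exact part37 T α24 α25 α26 α34 α35 α36 α42 α43 α45 α46 α52 α53 α54 α56 α62 α63 α64 α65 x24 x25 x26 x34 x35 x36 x42 x43 x45 x46 x52 x53 x54 x56 x62 x63 x64 x65 q24 q25 q26 q34 q35 q36 q45 q46 q56 hm0 hm1 hm2 hm3 hm4 hm5 hm6 om1 om2 om3 om4 om5 om6 e0 e1 e2 e3 e4 e5 e6 r01 r02 r03 r04 r05 r06 r10 r12 r13 r14 r15 r16 r20 r21 r23 r24 r25 r26 r30 r31 r32 r34 r35 r36 r40 r41 r42 r43 r45 r46 r50 r51 r52 r53 r54 r56 r60 r61 r62 r63 r64 r65 hw0 hw1 hw2 hw3 hw4 hw5 hw6 hs01 hs02 hs03 hs04 hs05 hs06 hs12 hs13 hs14 hs15 hs16 hs23 hs24 hs25 hs26 hs34 hs35 hs36 hs45 hs46 hs56 ha00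 ha11 ha22 ha33 ha44 ha55 ha66 v0 v1 v2 v3 v4 v5 v6 qn01 qn02 qn03 qn04 qn05 qn06 qn12 qn13 qn14 qn15 qn16 qn23 qn24 qn25 qn26 qn34 qn35 qn36 qn45 qn46 qn56 od1 od2 od3 od4 od5 od6 c24 c25 c26 c34 c35 c36 c45 c46 c56 gw01 gw02 gw03 gw04 gw05 gw06 gw12 gw13 gw14 gw15 gw16 gw23
                        · (have := hm2.out; have := om2.out; have := e0.out; have := e1.out; have := e3.out; have := r34.out; have := r35.out; have := r36.out; omega)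
                        · (have := hm3.out; have := e0.out; have := e1.out; have := e2.out; have := r24.out; have := r25.out; have := r26.out; have := e3.out; have := r34.out; have := r35.out; have := r36.out; omega)
                        · (have := hm0.out; have := e1.out; have := e2.out; have := r24.out; have := r25.out; have := r26.out; have := e3.out; have := r34.out; have := r35.out; have := r36.out; omega)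
                        · (have := hm0.out; have := e1.out; have := e2.out; have := r24.out; have := r25.out; have := r26.out; have := e3.out; have := r34.out; have := r35.out; have := r36.out; omega)
                      · (have := hm2.out; have := om3.out; have := om6.out; have := e0.out; have := e1.out; omega)
                      · (have := hm2.out; have := om3.out; have := om6.out; have := e0.out; have := e1.out; omega)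
                      · (have := hm3.out; have := om2.out; have := om6.out; have := e0.out; have := e1.out; omega)
                    · (have := hm2.out; have := om3.out; have := om5.out; have := e0.out; have := e1.out; have := r16.out; omega)
                    · (have := hm2.out; have := om3.out; have := om5.out; have := e0.out; have := e1.out; have := r16.out; omega)
                    · (have := hm3.out; have := om2.out; have := om5.out; have := e0.out; have := e1.out; have := r16.out; omega)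
                  · (have := hm2.out; have := om3.out; have := om4.out; have := e0.out; have := e1.out; have := r15.out; have := r16.out; omega)
                  · (have := hm2.out; have := om3.out; have := om4.out; have := e0.out; have := e1.out; have := r15.out; have := r16.out; omega)
                  · (have := hm3.out; have := om2.out; have := om4.out; have := e0.out; have := e1.out; have := r15.out; have := r16.out; omega)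
                · (have := hm2.out; have := om3.out; have := e0.out; have := e1.out; have := r14.out; have := r15.out; have := r16.out; omega)
                · (have := hm2.out; have := om3.out; have := e0.out; have := e1.out; have := r14.out; have := r15.out; have := r16.out; omega)
                · (have := hm1.out; have := om2.out; have := e0.out; have := e1.out; have := r14.out; have := r15.out; have := r16.out; have := e3.out; have := r32.out; have := r34.out; have := r35.out; have := r36.out; omega)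
              · exact part38 T α13 α14 α15 α16 α23 α24 α25 α26 α31 α32 α34 α35 α36 α41 α42 α43 α45 α46 α51 α52 α53 α54 α56 α61 α62 α63 α64 α65 x13 x14 x15 x16 x23 x24 x25 x26 x31 x32 x34 x35 x36 x41 x42 x43 x45 x46 x51 x52 x53 x54 x56 x61 x62 x63 x64 x65 q13 q14 q15 q16 q23 q24 q25 q26 q34 q35 q36 q45 q46 q56 hm0 hm1 hm2 hm3 hm4 hm5 hm6 om1 om2 om3 om4 om5 om6 e0 e1 e2 e3 e4 e5 e6 r01 r02 r03 r04 r05 r06 r10 r12 r13 r14 r15 r16 r20 r21 r23 r24 r25 r26 r30 r31 r32 r34 r35 r36 r40 r41 r42 r43 r45 r46 r50 r51 r52 r53 r54 r56 r60 r61 r62 r63 r64 r65 hw0 hw1 hw2 hw3 hw4 hw5 hw6 hs01 hs02 hs03 hs04 hs05 hs06 hs12 hs13 hs14 hs15 hs16 hs23 hs24 hs25 hs26 hs34 hs35 hs36 hs45 hs46 hs56 ha00 ha11 ha22 ha33 ha44 ha55 ha66 v0 v1 v2 v3 v4 v5 v6 qn01 qn02 qn03 qn04 qn05 qn06 qn12 qn13 qn14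 qn15 qn16 qn23 qn24 qn25 qn26 qn34 qn35 qn36 qn45 qn46 qn56 od1 od2 od3 od4 od5 od6 c13 c14 c15 c16 c23 c24 c25 c26 c34 c35 c36 c45 c46 c56 gw01 gw02 gw03 gw04 gw05 gw06 gw12
              · (have := hm3.out; have := om2.out; have := om3.out; have := e0.out; have := e1.out; have := r13.out; have := r14.out; have := r15.out; have := r16.out; omega)
              · (have := hm3.out; have := e0.out; have := e1.out; have := r13.out; have := r14.out; have := r15.out; have := r16.out; have := e2.out; have := r23.out; have := r24.out; have := r25.out; have := r26.out; omega)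
              · (have := hm3.out; have := om2.out; have := e0.out; have := e1.out; have := r13.out; have := r14.out; have := r15.out; have := r16.out; omega)
            · (have := hm1.out; have := om3.out; have := om6.out; have := e0.out; omega)
            · (have := hm1.out; have := om3.out; have := om6.out; have := e0.out; omega)
            · (have := hm1.out; have := om3.out; have := e0.out; have := e6.out; have := r61.out; have := r62.out; have := r63.out; have := r64.out; have := r65.out; omega)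
          · (have := hm1.out; have := om3.out; have := om5.out; have := e0.out; have := r06.out; omega)
          · (have := hm1.out; have := om3.out; have := om5.out; have := e0.out; have := r06.out; omega)
          · (have := hm1.out; have := om3.out; have := e0.out; have := r06.out; have := e5.out; have := r51.out; have := r52.out; have := r53.out; have := r54.out; have := r56.out; omega)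
        · (have := hm1.out; have := om3.out; have := om4.out; have := e0.out; have := r05.out; have := r06.out; omega)
        · (have := hm1.out; have := om3.out; have := om4.out; have := e0.out; have := r05.out; have := r06.out; omega)
        · (have := hm1.out; have := om3.out; have := e0.out; have := r05.out; have := r06.out; have := e4.out; have := r41.out; have := r42.out; have := r43.out; have := r45.out; have := r46.out; omega)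
      · exact part39 T α04 α05 α06 α12 α13 α14 α15 α16 α21 α23 α24 α25 α26 α31 α32 α34 α35 α36 α40 α41 α42 α43 α45 α46 α50 α51 α52 α53 α54 α56 α60 α61 α62 α63 α64 α65 x04 x05 x06 x12 x13 x14 x15 x16 x21 x23 x24 x25 x26 x31 x32 x34 x35 x36 x40 x41 x42 x43 x45 x46 x50 x51 x52 x53 x54 x56 x60 x61 x62 x63 x64 x65 q04 q05 q06 q12 q13 q14 q15 q16 q23 q24 q25 q26 q34 q35 q36 q45 q46 q56 hm0 hm1 hm2 hm3 hm4 hm5 hm6 om1 om2 om3 om4 om5 om6 e0 e1 e2 e3 e4 e5 e6 r01 r02 r03 r04 r05 r06 r10 r12 r13 r14 r15 r16 r20 r21 r23 r24 r25 r26 r30 r31 r32 r34 r35 r36 r40 r41 r42 r43 r45 r46 r50 r51 r52 r53 r54 r56 r60 r61 r62 r63 r64 r65 hw0 hw1 hw2 hw3 hw4 hw5 hw6 hs01 hs02 hs03 hs04 hs05 hs06 hs12 hs13 hs14 hs15 hs16 hs23 hs24 hs25 hs26 hs34 hs35 hs36 hs45 hs46 hs56 ha00 ha11 ha22 ha33 ha44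 ha55 ha66 v0 v1 v2 v3 v4 v5 v6 qn01 qn02 qn03 qn04 qn05 qn06 qn12 qn13 qn14 qn15 qn16 qn23 qn24 qn25 qn26 qn34 qn35 qn36 qn45 qn46 qn56 od1 od2 od3 od4 od5 od6 c04 c05 c06 c12 c13 c14 c15 c16 c23 c24 c25 c26 c34 c35 c36 c45 c46 c56 gw01 gw02 gw03
      · (have := hm1.out; have := om3.out; have := e0.out; have := r04.out; have := r05.out; have := r06.out; omega)
      · (have := hm3.out; have := om1.out; have := e0.out; have := r04.out; have := r05.out; have := r06.out; have := e3.out; have := r31.out; have := r32.out; have := r34.out; have := r35.out; have := r36.out; omega)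
      · (have := hm3.out; have := om1.out; have := om3.out; have := e0.out; have := r04.out; have := r05.out; have := r06.out; omega)
    · have t := pc2 q03 c03.out (by have := v0.out; have := qn04.out; have := qn05.out; have := qn06.out; omega)
      clear c03
      rcases t with ⟨⟨⟨rfl, rfl⟩, gw03, ⟨rfl, rfl⟩⟩, rfl⟩ | ⟨⟨⟨rfl, rfl⟩, gw03, ⟨rfl, rfl⟩⟩, rfl⟩ | ⟨⟨⟨rfl, rfl⟩, gw03, ⟨rfl, rfl⟩⟩, rfl⟩ | ⟨⟨⟨rfl, rfl⟩, gw03, ⟨rfl, rfl⟩⟩, rfl⟩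
      · have t := pc2 q04 c04.out (by have := v0.out; have := qn05.out; have := qn06.out; omega)
        clear c04
        rcases t with ⟨⟨⟨rfl, rfl⟩, gw04, ⟨rfl, rfl⟩⟩, rfl⟩ | ⟨⟨⟨rfl, rfl⟩, gw04, ⟨rfl, rfl⟩⟩, rfl⟩ | ⟨⟨⟨rfl, rfl⟩, gw04, ⟨rfl, rfl⟩⟩, rfl⟩ | ⟨⟨⟨rfl, rfl⟩, gw04, ⟨rfl, rfl⟩⟩, rfl⟩
        · have t := pc2 q05 c05.out (by have := v0.out; have := qn06.out; omega)
          clear c05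
          rcases t with ⟨⟨⟨rfl, rfl⟩, gw05, ⟨rfl, rfl⟩⟩, rfl⟩ | ⟨⟨⟨rfl, rfl⟩, gw05, ⟨rfl, rfl⟩⟩, rfl⟩ | ⟨⟨⟨rfl, rfl⟩, gw05, ⟨rfl, rfl⟩⟩, rfl⟩ | ⟨⟨⟨rfl, rfl⟩, gw05, ⟨rfl, rfl⟩⟩, rfl⟩
          · have t := pc2 q06 c06.out (by have := v0.out; omega)
            clear c06
            rcases t with ⟨⟨⟨rfl, rfl⟩, gw06, ⟨rfl, rfl⟩⟩, rfl⟩ | ⟨⟨⟨rfl, rfl⟩, gw06, ⟨rfl, rfl⟩⟩, rfl⟩ | ⟨⟨⟨rfl, rfl⟩, gw06, ⟨rfl, rfl⟩⟩, rfl⟩ | ⟨⟨⟨rfl, rfl⟩, gw06, ⟨rfl, rfl⟩⟩, rfl⟩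
            · have t := pc3 q12 c12.out (by have := v1.out; have := qn13.out; have := qn14.out; have := qn15.out; have := qn16.out; omega)
              clear c12
              rcases t with ⟨⟨⟨rfl, rfl⟩, gw12, ⟨rfl, rfl⟩⟩, rfl⟩ | ⟨⟨⟨rfl, rfl⟩, gw12, ⟨rfl, rfl⟩⟩, rfl⟩ | ⟨⟨⟨rfl, rfl⟩, gw12, ⟨rfl, rfl⟩⟩, rfl⟩ | ⟨⟨⟨rfl, rfl⟩, gw12, ⟨rfl, rfl⟩⟩, rfl⟩ | ⟨⟨⟨rfl, rfl⟩, gw12, ⟨rfl, rfl⟩⟩, rfl⟩ | ⟨⟨⟨rfl, rfl⟩, gw12, ⟨rfl, rfl⟩⟩, rfl⟩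
              · have t := pc3 q13 c13.out (by have := v1.out; have := qn14.out; have := qn15.out; have := qn16.out; omega)
                clear c13
                rcases t with ⟨⟨⟨rfl, rfl⟩, gw13, ⟨rfl, rfl⟩⟩, rfl⟩ | ⟨⟨⟨rfl, rfl⟩, gw13, ⟨rfl, rfl⟩⟩, rfl⟩ | ⟨⟨⟨rfl, rfl⟩, gw13, ⟨rfl, rfl⟩⟩, rfl⟩ | ⟨⟨⟨rfl, rfl⟩, gw13, ⟨rfl, rfl⟩⟩, rfl⟩ | ⟨⟨⟨rfl, rfl⟩, gw13, ⟨rfl, rfl⟩⟩, rfl⟩ | ⟨⟨⟨rfl, rfl⟩, gw13, ⟨rfl, rfl⟩⟩, rfl⟩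
                · have t := pc3 q14 c14.out (by have := v1.out; have := qn15.out; have := qn16.out; omega)
                  clear c14
                  rcases t with ⟨⟨⟨rfl, rfl⟩, gw14, ⟨rfl, rfl⟩⟩, rfl⟩ | ⟨⟨⟨rfl, rfl⟩, gw14, ⟨rfl, rfl⟩⟩, rfl⟩ | ⟨⟨⟨rfl, rfl⟩, gw14, ⟨rfl, rfl⟩⟩, rfl⟩ | ⟨⟨⟨rfl, rfl⟩, gw14, ⟨rfl, rfl⟩⟩, rfl⟩ | ⟨⟨⟨rfl, rfl⟩, gw14, ⟨rfl, rfl⟩⟩, rfl⟩ | ⟨⟨⟨rfl, rfl⟩, gw14, ⟨rfl, rfl⟩⟩, rfl⟩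
                  · have t := pc3 q15 c15.out (by have := v1.out; have := qn16.out; omega)
                    clear c15
                    rcases t with ⟨⟨⟨rfl, rfl⟩, gw15, ⟨rfl, rfl⟩⟩, rfl⟩ | ⟨⟨⟨rfl, rfl⟩, gw15, ⟨rfl, rfl⟩⟩, rfl⟩ | ⟨⟨⟨rfl, rfl⟩, gw15, ⟨rfl, rfl⟩⟩, rfl⟩ | ⟨⟨⟨rfl, rfl⟩, gw15, ⟨rfl, rfl⟩⟩, rfl⟩ | ⟨⟨⟨rfl, rfl⟩, gw15, ⟨rfl, rfl⟩⟩, rfl⟩ | ⟨⟨⟨rfl, rfl⟩, gw15, ⟨rfl, rfl⟩⟩, rfl⟩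
                    · exact part40 T α16 α23 α24 α25 α26 α32 α34 α35 α36 α42 α43 α45 α46 α52 α53 α54 α56 α61 α62 α63 α64 α65 x16 x23 x24 x25 x26 x32 x34 x35 x36 x42 x43 x45 x46 x52 x53 x54 x56 x61 x62 x63 x64 x65 q16 q23 q24 q25 q26 q34 q35 q36 q45 q46 q56 hm0 hm1 hm2 hm3 hm4 hm5 hm6 om1 om2 om3 om4 om5 om6 e0 e1 e2 e3 e4 e5 e6 r01 r02 r03 r04 r05 r06 r10 r12 r13 r14 r15 r16 r20 r21 r23 r24 r25 r26 r30 r31 r32 r34 r35 r36 r40 r41 r42 r43 r45 r46 r50 r51 r52 r53 r54 r56 r60 r61 r62 r63 r64 r65 hw0 hw1 hw2 hw3 hw4 hw5 hw6 hs01 hs02 hs03 hs04 hs05 hs06 hs12 hs13 hs14 hs15 hs16 hs23 hs24 hs25 hs26 hs34 hs35 hs36 hs45 hs46 hs56 ha00 ha11 ha22 ha33 ha44 ha55 ha66 v0 v1 v2 v3 v4 v5 v6 qn01 qn02 qn03 qn04 qn05 qn06 qn12 qn13 qn14 qn15 qn16 qn23 qn24 qn25 qn26 qn34 qn35 qn36 qn45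 qn46 qn56 od1 od2 od3 od4 od5 od6 c16 c23 c24 c25 c26 c34 c35 c36 c45 c46 c56 gw01 gw02 gw03 gw04 gw05 gw06 gw12 gw13 gw14 gw15
                    · exact part41 T α16 α23 α24 α25 α26 α32 α34 α35 α36 α42 α43 α45 α46 α52 α53 α54 α56 α61 α62 α63 α64 α65 x16 x23 x24 x25 x26 x32 x34 x35 x36 x42 x43 x45 x46 x52 x53 x54 x56 x61 x62 x63 x64 x65 q16 q23 q24 q25 q26 q34 q35 q36 q45 q46 q56 hm0 hm1 hm2 hm3 hm4 hm5 hm6 om1 om2 om3 om4 om5 om6 e0 e1 e2 e3 e4 e5 e6 r01 r02 r03 r04 r05 r06 r10 r12 r13 r14 r15 r16 r20 r21 r23 r24 r25 r26 r30 r31 r32 r34 r35 r36 r40 r41 r42 r43 r45 r46 r50 r51 r52 r53 r54 r56 r60 r61 r62 r63 r64 r65 hw0 hw1 hw2 hw3 hw4 hw5 hw6 hs01 hs02 hs03 hs04 hs05 hs06 hs12 hs13 hs14 hs15 hs16 hs23 hs24 hs25 hs26 hs34 hs35 hs36 hs45 hs46 hs56 ha00 ha11 ha22 ha33 ha44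 ha55 ha66 v0 v1 v2 v3 v4 v5 v6 qn01 qn02 qn03 qn04 qn05 qn06 qn12 qn13 qn14 qn15 qn16 qn23 qn24 qn25 qn26 qn34 qn35 qn36 qn45 qn46 qn56 od1 od2 od3 od4 od5 od6 c16 c23 c24 c25 c26 c34 c35 c36 c45 c46 c56 gw01 gw02 gw03 gw04 gw05 gw06 gw12 gw13 gw14 gw15
                    · exact part42 T α16 α23 α24 α25 α26 α32 α34 α35 α36 α42 α43 α45 α46 α52 α53 α54 α56 α61 α62 α63 α64 α65 x16 x23 x24 x25 x26 x32 x34 x35 x36 x42 x43 x45 x46 x52 x53 x54 x56 x61 x62 x63 x64 x65 q16 q23 q24 q25 q26 q34 q35 q36 q45 q46 q56 hm0 hm1 hm2 hm3 hm4 hm5 hm6 om1 om2 om3 om4 om5 om6 e0 e1 e2 e3 e4 e5 e6 r01 r02 r03 r04 r05 r06 r10 r12 r13 r14 r15 r16 r20 r21 r23 r24 r25 r26 r30 r31 r32 r34 r35 r36 r40 r41 r42 r43 r45 r46 r50 r51 r52 r53 r54 r56 r60 r61 r62 r63 r64 r65 hw0 hw1 hw2 hw3 hw4 hw5 hw6 hs01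 hs02 hs03 hs04 hs05 hs06 hs12 hs13 hs14 hs15 hs16 hs23 hs24 hs25 hs26 hs34 hs35 hs36 hs45 hs46 hs56 ha00 ha11 ha22 ha33 ha44 ha55 ha66 v0 v1 v2 v3 v4 v5 v6 qn01 qn02 qn03 qn04 qn05 qn06 qn12 qn13 qn14 qn15 qn16 qn23 qn24 qn25 qn26 qn34 qn35 qn36 qn45 qn46 qn56 od1 od2 od3 od4 od5 od6 c16 c23 c24 c25 c26 c34 c35 c36 c45 c46 c56 gw01 gw02 gw03 gw04 gw05 gw06 gw12 gw13 gw14 gw15
                    · (have := hm1.out; have := om2.out; have := om5.out; have := e0.out; have := e1.out; have := r16.out; omega)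
                    · (have := hm2.out; have := e0.out; have := e1.out; have := r16.out; have := e5.out; have := r52.out; have := r53.out; have := r54.out; have := r56.out; omega)
                    · (have := hm2.out; have := om5.out; have := e0.out; have := e1.out; have := r16.out; omega)
                  · exact part43 T α15 α16 α23 α24 α25 α26 α32 α34 α35 α36 α42 α43 α45 α46 α51 α52 α53 α54 α56 α61 α62 α63 α64 α65 x15 x16 x23 x24 x25 x26 x32 x34 x35 x36 x42 x43 x45 x46 x51 x52 x53 x54 x56 x61 x62 x63 x64 x65 q15 q16 q23 q24 q25 q26 q34 q35 q36 q45 q46 q56 hm0 hm1 hm2 hm3 hm4 hm5 hm6 om1 om2 om3 om4 om5 om6 e0 e1 e2 e3 e4 e5 e6 r01 r02 r03 r04 r05 r06 r10 r12 r13 r14 r15 r16 r20 r21 r23 r24 r25 r26 r30 r31 r32 r34 r35 r36 r40 r41 r42 r43 r45 r46 r50 r51 r52 r53 r54 r56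 r60 r61 r62 r63 r64 r65 hw0 hw1 hw2 hw3 hw4 hw5 hw6 hs01 hs02 hs03 hs04 hs05 hs06 hs12 hs13 hs14 hs15 hs16 hs23 hs24 hs25 hs26 hs34 hs35 hs36 hs45 hs46 hs56 ha00 ha11 ha22 ha33 ha44 ha55 ha66 v0 v1 v2 v3 v4 v5 v6 qn01 qn02 qn03 qn04 qn05 qn06 qn12 qn13 qn14 qn15 qn16 qn23 qn24 qn25 qn26 qn34 qn35 qn36 qn45 qn46 qn56 od1 od2 od3 od4 od5 od6 c15 c16 c23 c24 c25 c26 c34 c35 c36 c45 c46 c56 gw01 gw02 gw03 gw04 gw05 gw06 gw12 gw13 gw14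
                  · exact part44 T α15 α16 α23 α24 α25 α26 α32 α34 α35 α36 α42 α43 α45 α46 α51 α52 α53 α54 α56 α61 α62 α63 α64 α65 x15 x16 x23 x24 x25 x26 x32 x34 x35 x36 x42 x43 x45 x46 x51 x52 x53 x54 x56 x61 x62 x63 x64 x65 q15 q16 q23 q24 q25 q26 q34 q35 q36 q45 q46 q56 hm0 hm1 hm2 hm3 hm4 hm5 hm6 om1 om2 om3 om4 om5 om6 e0 e1 e2 e3 e4 e5 e6 r01 r02 r03 r04 r05 r06 r10 r12 r13 r14 r15 r16 r20 r21 r23 r24 r25 r26 r30 r31 r32 r34 r35 r36 r40 r41 r42 r43 r45 r46 r50 r51 r52 r53 r54 r56 r60 r61 r62 r63 r64 r65 hw0 hw1 hw2 hw3 hw4 hw5 hw6 hs01 hs02 hs03 hs04 hs05 hs06 hs12 hs13 hs14 hs15 hs16 hs23 hs24 hs25 hs26 hs34 hs35 hs36 hs45 hs46 hs56 ha00 ha11 ha22 ha33 ha44 ha55 ha66 v0 v1 v2 v3 v4 v5 v6 qn01 qn02 qn03 qn04 qn05 qn06 qn12 qn13 qn14 qn15 qn16 qn23 qn24 qn25 qn26 qn34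 qn35 qn36 qn45 qn46 qn56 od1 od2 od3 od4 od5 od6 c15 c16 c23 c24 c25 c26 c34 c35 c36 c45 c46 c56 gw01 gw02 gw03 gw04 gw05 gw06 gw12 gw13 gw14
                  · (have := hm1.out; have := om2.out; have := om4.out; have := e0.out; have := e1.out; have := r15.out; have := r16.out; omega)
                  · (have := hm2.out; have := e0.out; have := e1.out; have := r15.out; have := r16.out; have := e4.out; have := r42.out; have := r43.out; have := r45.out; have := r46.out; omega)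
                  · (have := hm2.out; have := om4.out; have := e0.out; have := e1.out; have := r15.out; have := r16.out; omega)
                · have t := pc2 q14 c14.out (by have := v1.out; have := qn15.out; have := qn16.out; omega)
                  clear c14
                  rcases t with ⟨⟨⟨rfl, rfl⟩, gw14, ⟨rfl, rfl⟩⟩, rfl⟩ | ⟨⟨⟨rfl, rfl⟩, gw14, ⟨rfl, rfl⟩⟩, rfl⟩ | ⟨⟨⟨rfl, rfl⟩, gw14, ⟨rfl, rfl⟩⟩, rfl⟩ | ⟨⟨⟨rfl, rfl⟩, gw14, ⟨rfl, rfl⟩⟩, rfl⟩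
                  · have t := pc2 q15 c15.out (by have := v1.out; have := qn16.out; omega)
                    clear c15
                    rcases t with ⟨⟨⟨rfl, rfl⟩, gw15, ⟨rfl, rfl⟩⟩, rfl⟩ | ⟨⟨⟨rfl, rfl⟩, gw15, ⟨rfl, rfl⟩⟩, rfl⟩ | ⟨⟨⟨rfl, rfl⟩, gw15, ⟨rfl, rfl⟩⟩, rfl⟩ | ⟨⟨⟨rfl, rfl⟩, gw15, ⟨rfl, rfl⟩⟩, rfl⟩
                    · have t := pc2 q16 c16.out (by have := v1.out; omega)
                      clear c16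
                      rcases t with ⟨⟨⟨rfl, rfl⟩, gw16, ⟨rfl, rfl⟩⟩, rfl⟩ | ⟨⟨⟨rfl, rfl⟩, gw16, ⟨rfl, rfl⟩⟩, rfl⟩ | ⟨⟨⟨rfl, rfl⟩, gw16, ⟨rfl, rfl⟩⟩, rfl⟩ | ⟨⟨⟨rfl, rfl⟩, gw16, ⟨rfl, rfl⟩⟩, rfl⟩
                      · have t := pc3 q23 c23.out (by have := v2.out; have := qn24.out; have := qn25.out; have := qn26.out; omega)
                        clear c23
                        rcases t with ⟨⟨⟨rfl, rfl⟩, gw23, ⟨rfl, rfl⟩⟩, rfl⟩ | ⟨⟨⟨rfl, rfl⟩, gw23, ⟨rfl, rfl⟩⟩, rfl⟩ | ⟨⟨⟨rfl, rfl⟩, gw23, ⟨rfl, rfl⟩⟩, rfl⟩ | ⟨⟨⟨rfl, rfl⟩, gw23, ⟨rfl, rfl⟩⟩, rfl⟩ | ⟨⟨⟨rfl, rfl⟩, gw23, ⟨rfl, rfl⟩⟩, rfl⟩ | ⟨⟨⟨rfl, rfl⟩, gw23, ⟨rfl, rfl⟩⟩, rfl⟩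
                        · have t := pc3 q24 c24.out (by have := v2.out; have := qn25.out; have := qn26.out; omega)
                          clear c24
                          rcases t with ⟨⟨⟨rfl, rfl⟩, gw24, ⟨rfl, rfl⟩⟩, rfl⟩ | ⟨⟨⟨rfl, rfl⟩, gw24, ⟨rfl, rfl⟩⟩, rfl⟩ | ⟨⟨⟨rfl, rfl⟩, gw24, ⟨rfl, rfl⟩⟩, rfl⟩ | ⟨⟨⟨rfl, rfl⟩, gw24, ⟨rfl, rfl⟩⟩, rfl⟩ | ⟨⟨⟨rfl, rfl⟩, gw24, ⟨rfl, rfl⟩⟩, rfl⟩ | ⟨⟨⟨rfl, rfl⟩, gw24, ⟨rfl, rfl⟩⟩, rfl⟩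
                          · exact part45 T α25 α26 α34 α35 α36 α43 α45 α46 α52 α53 α54 α56 α62 α63 α64 α65 x25 x26 x34 x35 x36 x43 x45 x46 x52 x53 x54 x56 x62 x63 x64 x65 q25 q26 q34 q35 q36 q45 q46 q56 hm0 hm1 hm2 hm3 hm4 hm5 hm6 om1 om2 om3 om4 om5 om6 e0 e1 e2 e3 e4 e5 e6 r01 r02 r03 r04 r05 r06 r10 r12 r13 r14 r15 r16 r20 r21 r23 r24 r25 r26 r30 r31 r32 r34 r35 r36 r40 r41 r42 r43 r45 r46 r50 r51 r52 r53 r54 r56 r60 r61 r62 r63 r64 r65 hw0 hw1 hw2 hw3 hw4 hw5 hw6 hs01 hs02 hs03 hs04 hs05 hs06 hs12 hs13 hs14 hs15 hs16 hs23 hs24 hs25 hs26 hs34 hs35 hs36 hs45 hs46 hs56 ha00 ha11 ha22 ha33 ha44 ha55 ha66 v0 v1 v2 v3 v4 v5 v6 qn01 qn02 qn03 qn04 qn05 qn06 qn12 qn13 qn14 qn15 qn16 qn23 qn24 qn25 qn26 qn34 qn35 qn36 qn45 qn46 qn56 od1 od2 od3 od4 od5 od6 c25 c26 c34 c35 c36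 c45 c46 c56 gw01 gw02 gw03 gw04 gw05 gw06 gw12 gw13 gw14 gw15 gw16 gw23 gw24
                          · exact part46 T α25 α26 α34 α35 α36 α43 α45 α46 α52 α53 α54 α56 α62 α63 α64 α65 x25 x26 x34 x35 x36 x43 x45 x46 x52 x53 x54 x56 x62 x63 x64 x65 q25 q26 q34 q35 q36 q45 q46 q56 hm0 hm1 hm2 hm3 hm4 hm5 hm6 om1 om2 om3 om4 om5 om6 e0 e1 e2 e3 e4 e5 e6 r01 r02 r03 r04 r05 r06 r10 r12 r13 r14 r15 r16 r20 r21 r23 r24 r25 r26 r30 r31 r32 r34 r35 r36 r40 r41 r42 r43 r45 r46 r50 r51 r52 r53 r54 r56 r60 r61 r62 r63 r64 r65 hw0 hw1 hw2 hw3 hw4 hw5 hw6 hs01 hs02 hs03 hs04 hs05 hs06 hs12 hs13 hs14 hs15 hs16 hs23 hs24 hs25 hs26 hs34 hs35 hs36 hs45 hs46 hs56 ha00 ha11 ha22 ha33 ha44 ha55 ha66 v0 v1 v2 v3 v4 v5 v6 qn01 qn02 qn03 qn04 qn05 qn06 qn12 qn13 qn14 qn15 qn16 qn23 qn24 qn25 qn26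 qn34 qn35 qn36 qn45 qn46 qn56 od1 od2 od3 od4 od5 od6 c25 c26 c34 c35 c36 c45 c46 c56 gw01 gw02 gw03 gw04 gw05 gw06 gw12 gw13 gw14 gw15 gw16 gw23 gw24
                          · exact part47 T α25 α26 α34 α35 α36 α43 α45 α46 α52 α53 α54 α56 α62 α63 α64 α65 x25 x26 x34 x35 x36 x43 x45 x46 x52 x53 x54 x56 x62 x63 x64 x65 q25 q26 q34 q35 q36 q45 q46 q56 hm0 hm1 hm2 hm3 hm4 hm5 hm6 om1 om2 om3 om4 om5 om6 e0 e1 e2 e3 e4 e5 e6 r01 r02 r03 r04 r05 r06 r10 r12 r13 r14 r15 r16 r20 r21 r23 r24 r25 r26 r30 r31 r32 r34 r35 r36 r40 r41 r42 r43 r45 r46 r50 r51 r52 r53 r54 r56 r60 r61 r62 r63 r64 r65 hw0 hw1 hw2 hw3 hw4 hw5 hw6 hs01 hs02 hs03 hs04 hs05 hs06 hs12 hs13 hs14 hs15 hs16 hs23 hs24 hs25 hs26 hs34 hs35 hs36 hs45 hs46 hs56 ha00 ha11 ha22 ha33 ha44 ha55 ha66 v0 v1 v2 v3 v4 v5 v6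 qn01 qn02 qn03 qn04 qn05 qn06 qn12 qn13 qn14 qn15 qn16 qn23 qn24 qn25 qn26 qn34 qn35 qn36 qn45 qn46 qn56 od1 od2 od3 od4 od5 od6 c25 c26 c34 c35 c36 c45 c46 c56 gw01 gw02 gw03 gw04 gw05 gw06 gw12 gw13 gw14 gw15 gw16 gw23 gw24
                          · (have := hm3.out; have := om4.out; have := e0.out; have := e1.out; have := e2.out; have := r25.out; have := r26.out; omega)
                          · (have := hm1.out; have := e0.out; have := e2.out; have := r25.out; have := r26.out; have := e4.out; have := r43.out; have := r45.out; have := r46.out; omega)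
                          · (have := hm1.out; have := om4.out; have := e0.out; have := e2.out; have := r25.out; have := r26.out; omega)
                        · exact part48 T α24 α25 α26 α34 α35 α36 α42 α43 α45 α46 α52 α53 α54 α56 α62 α63 α64 α65 x24 x25 x26 x34 x35 x36 x42 x43 x45 x46 x52 x53 x54 x56 x62 x63 x64 x65 q24 q25 q26 q34 q35 q36 q45 q46 q56 hm0 hm1 hm2 hm3 hm4 hm5 hm6 om1 om2 om3 om4 om5 om6 e0 e1 e2 e3 e4 e5 e6 r01 r02 r03 r04 r05 r06 r10 r12 r13 r14 r15 r16 r20 r21 r23 r24 r25 r26 r30 r31 r32 r34 r35 r36 r40 r41 r42 r43 r45 r46 r50 r51 r52 r53 r54 r56 r60 r61 r62 r63 r64 r65 hw0 hw1 hw2 hw3 hw4 hw5 hw6 hs01 hs02 hs03 hs04 hs05 hs06 hs12 hs13 hs14 hs15 hs16 hs23 hs24 hs25 hs26 hs34 hs35 hs36 hs45 hs46 hs56 ha00 ha11 ha22 ha33 ha44 ha55 ha66 v0 v1 v2 v3 v4 v5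 v6 qn01 qn02 qn03 qn04 qn05 qn06 qn12 qn13 qn14 qn15 qn16 qn23 qn24 qn25 qn26 qn34 qn35 qn36 qn45 qn46 qn56 od1 od2 od3 od4 od5 od6 c24 c25 c26 c34 c35 c36 c45 c46 c56 gw01 gw02 gw03 gw04 gw05 gw06 gw12 gw13 gw14 gw15 gw16 gw23
                        · (have := hm2.out; have := e0.out; have := e1.out; have := e2.out; have := r24.out; have := r25.out; have := r26.out; have := e3.out; have := r34.out; have := r35.out; have := r36.out; omega)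
                        · (have := hm3.out; have := om3.out; have := e0.out; have := e1.out; have := e2.out; have := r24.out; have := r25.out; have := r26.out; omega)
                        · (have := hm0.out; have := e1.out; have := e2.out; have := r24.out; have := r25.out; have := r26.out; have := e3.out; have := r34.out; have := r35.out; have := r36.out; omega)
                        · (have := hm0.out; have := e1.out; have := e2.out; have := r24.out; have := r25.out; have := r26.out; have := e3.out; have := r34.out; have := r35.out; have := r36.out; omega)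
                      · (have := hm3.out; have := om2.out; have := om6.out; have := e0.out; have := e1.out; omega)
                      · (have := hm3.out; have := om2.out; have := om6.out; have := e0.out; have := e1.out; omega)
                      · (have := hm2.out; have := om3.out; have := om6.out; have := e0.out; have := e1.out; omega)
                    · (have := hm3.out; have := om2.out; have := om5.out; have := e0.out; have := e1.out; have := r16.out; omega)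
                    · (have := hm3.out; have := om2.out; have := om5.out; have := e0.out; have := e1.out; have := r16.out; omega)
                    · (have := hm2.out; have := om3.out; have := om5.out; have := e0.out; have := e1.out; have := r16.out; omega)
                  · (have := hm3.out; have := om2.out; have := om4.out; have := e0.out; have := e1.out; have := r15.out; have := r16.out; omega)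
                  · (have := hm3.out; have := om2.out; have := om4.out; have := e0.out; have := e1.out; have := r15.out; have := r16.out; omega)
                  · (have := hm2.out; have := om3.out; have := om4.out; have := e0.out; have := e1.out; have := r15.out; have := r16.out; omega)
                · exact part49 T α14 α15 α16 α23 α24 α25 α26 α32 α34 α35 α36 α41 α42 α43 α45 α46 α51 α52 α53 α54 α56 α61 α62 α63 α64 α65 x14 x15 x16 x23 x24 x25 x26 x32 x34 x35 x36 x41 x42 x43 x45 x46 x51 x52 x53 x54 x56 x61 x62 x63 x64 x65 q14 q15 q16 q23 q24 q25 q26 q34 q35 q36 q45 q46 q56 hm0 hm1 hm2 hm3 hm4 hm5 hm6 om1 om2 om3 om4 om5 om6 e0 e1 e2 e3 e4 e5 e6 r01 r02 r03 r04 r05 r06 r10 r12 r13 r14 r15 r16 r20 r21 r23 r24 r25 r26 r30 r31 r32 r34 r35 r36 r40 r41 r42 r43 r45 r46 r50 r51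 r52 r53 r54 r56 r60 r61 r62 r63 r64 r65 hw0 hw1 hw2 hw3 hw4 hw5 hw6 hs01 hs02 hs03 hs04 hs05 hs06 hs12 hs13 hs14 hs15 hs16 hs23 hs24 hs25 hs26 hs34 hs35 hs36 hs45 hs46 hs56 ha00 ha11 ha22 ha33 ha44 ha55 ha66 v0 v1 v2 v3 v4 v5 v6 qn01 qn02 qn03 qn04 qn05 qn06 qn12 qn13 qn14 qn15 qn16 qn23 qn24 qn25 qn26 qn34 qn35 qn36 qn45 qn46 qn56 od1 od2 od3 od4 od5 od6 c14 c15 c16 c23 c24 c25 c26 c34 c35 c36 c45 c46 c56 gw01 gw02 gw03 gw04 gw05 gw06 gw12 gw13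
                · (have := hm1.out; have := om2.out; have := om3.out; have := e0.out; have := e1.out; have := r14.out; have := r15.out; have := r16.out; omega)
                · (have := hm2.out; have := e0.out; have := e1.out; have := r14.out; have := r15.out; have := r16.out; have := e3.out; have := r32.out; have := r34.out; have := r35.out; have := r36.out; omega)
                · (have := hm2.out; have := om3.out; have := e0.out; have := e1.out; have := r14.out; have := r15.out; have := r16.out; omega)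
              · exact part50 T α13 α14 α15 α16 α23 α24 α25 α26 α31 α32 α34 α35 α36 α41 α42 α43 α45 α46 α51 α52 α53 α54 α56 α61 α62 α63 α64 α65 x13 x14 x15 x16 x23 x24 x25 x26 x31 x32 x34 x35 x36 x41 x42 x43 x45 x46 x51 x52 x53 x54 x56 x61 x62 x63 x64 x65 q13 q14 q15 q16 q23 q24 q25 q26 q34 q35 q36 q45 q46 q56 hm0 hm1 hm2 hm3 hm4 hm5 hm6 om1 om2 om3 om4 om5 om6 e0 e1 e2 e3 e4 e5 e6 r01 r02 r03 r04 r05 r06 r10 r12 r13 r14 r15 r16 r20 r21 r23 r24 r25 r26 r30 r31 r32 r34 r35 r36 r40 r41 r42 r43 r45 r46 r50 r51 r52 r53 r54 r56 r60 r61 r62 r63 r64 r65 hw0 hw1 hw2 hw3 hw4 hw5 hw6 hs01 hs02 hs03 hs04 hs05 hs06 hs12 hs13 hs14 hs15 hs16 hs23 hs24 hs25 hs26 hs34 hs35 hs36 hs45 hs46 hs56 ha00 ha11 ha22 ha33 ha44 ha55 ha66 v0 v1 v2 v3 v4 v5 v6 qn01 qn02 qn03 qn04 qn05 qn06 qn12 qn13 qn14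 qn15 qn16 qn23 qn24 qn25 qn26 qn34 qn35 qn36 qn45 qn46 qn56 od1 od2 od3 od4 od5 od6 c13 c14 c15 c16 c23 c24 c25 c26 c34 c35 c36 c45 c46 c56 gw01 gw02 gw03 gw04 gw05 gw06 gw12
              · (have := hm1.out; have := e0.out; have := e1.out; have := r13.out; have := r14.out; have := r15.out; have := r16.out; have := e2.out; have := r23.out; have := r24.out; have := r25.out; have := r26.out; omega)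
              · (have := hm2.out; have := om2.out; have := e0.out; have := e1.out; have := r13.out; have := r14.out; have := r15.out; have := r16.out; omega)
              · (have := hm1.out; have := om1.out; have := e0.out; have := e2.out; have := r23.out; have := r24.out; have := r25.out; have := r26.out; omega)
              · (have := hm2.out; have := om2.out; have := e0.out; have := e1.out; have := r13.out; have := r14.out; have := r15.out; have := r16.out; omega)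
            · (have := hm1.out; have := om2.out; have := om6.out; have := e0.out; omega)
            · (have := hm1.out; have := om2.out; have := om6.out; have := e0.out; omega)
            · (have := hm1.out; have := om2.out; have := e0.out; have := e6.out; have := r61.out; have := r62.out; have := r63.out; have := r64.out; have := r65.out; omega)
          · (have := hm1.out; have := om2.out; have := om5.out; have := e0.out; have := r06.out; omega)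
          · (have := hm1.out; have := om2.out; have := om5.out; have := e0.out; have := r06.out; omega)
          · (have := hm1.out; have := om2.out; have := e0.out; have := r06.out; have := e5.out; have := r51.out; have := r52.out; have := r53.out; have := r54.out; have := r56.out; omega)
        · (have := hm1.out; have := om2.out; have := om4.out; have := e0.out; have := r05.out; have := r06.out; omega)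
        · (have := hm1.out; have := om2.out; have := om4.out; have := e0.out; have := r05.out; have := r06.out; omega)
        · (have := hm1.out; have := om2.out; have := e0.out; have := r05.out; have := r06.out; have := e4.out; have := r41.out; have := r42.out; have := r43.out; have := r45.out; have := r46.out; omega)
      · (have := hm1.out; have := om2.out; have := om3.out; have := e0.out; have := r04.out; have := r05.out; have := r06.out; omega)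
      · (have := hm1.out; have := om2.out; have := om3.out; have := e0.out; have := r04.out; have := r05.out; have := r06.out; omega)
      · (have := hm1.out; have := om2.out; have := e0.out; have := r04.out; have := r05.out; have := r06.out; have := e3.out; have := r31.out; have := r32.out; have := r34.out; have := r35.out; have := r36.out; omega)
    · exact part51 T α03 α04 α05 α06 α12 α13 α14 α15 α16 α21 α23 α24 α25 α26 α30 α31 α32 α34 α35 α36 α40 α41 α42 α43 α45 α46 α50 α51 α52 α53 α54 α56 α60 α61 α62 α63 α64 α65 x03 x04 x05 x06 x12 x13 x14 x15 x16 x21 x23 x24 x25 x26 x30 x31 x32 x34 x35 x36 x40 x41 x42 x43 x45 x46 x50 x51 x52 x53 x54 x56 x60 x61 x62 x63 x64 x65 q03 q04 q05 q06 q12 q13 q14 q15 q16 q23 q24 q25 q26 q34 q35 q36 q45 q46 q56 hm0 hm1 hm2 hm3 hm4 hm5 hm6 om1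 om2 om3 om4 om5 om6 e0 e1 e2 e3 e4 e5 e6 r01 r02 r03 r04 r05 r06 r10 r12 r13 r14 r15 r16 r20 r21 r23 r24 r25 r26 r30 r31 r32 r34 r35 r36 r40 r41 r42 r43 r45 r46 r50 r51 r52 r53 r54 r56 r60 r61 r62 r63 r64 r65 hw0 hw1 hw2 hw3 hw4 hw5 hw6 hs01 hs02 hs03 hs04 hs05 hs06 hs12 hs13 hs14 hs15 hs16 hs23 hs24 hs25 hs26 hs34 hs35 hs36 hs45 hs46 hs56 ha00 ha11 ha22 ha33 ha44 ha55 ha66 v0 v1 v2 v3 v4 v5 v6 qn01 qn02 qn03 qn04 qn05 qn06 qn12 qn13 qn14 qn15 qn16 qn23 qn24 qn25 qn26 qn34 qn35 qn36 qn45 qn46 qn56 od1 od2 od3 od4 od5 od6 c03 c04 c05 c06 c12 c13 c14 c15 c16 c23 c24 c25 c26 c34 c35 c36 c45 c46 c56 gw01 gw02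
    · (have := hm1.out; have := om2.out; have := e0.out; have := r03.out; have := r04.out; have := r05.out; have := r06.out; omega)
    · (have := hm2.out; have := om1.out; have := e0.out; have := r03.out; have := r04.out; have := r05.out; have := r06.out; have := e2.out; have := r21.out; have := r23.out; have := r24.out; have := r25.out; have := r26.out; omega)
    · (have := hm2.out; have := om1.out; have := om2.out; have := e0.out; have := r03.out; have := r04.out; have := r05.out; have := r06.out; omega)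
  · have t := pc2 q02 c02.out (by have := v0.out; have := qn03.out; have := qn04.out; have := qn05.out; have := qn06.out; omega)
    clear c02
    rcases t with ⟨⟨⟨rfl, rfl⟩, gw02, ⟨rfl, rfl⟩⟩, rfl⟩ | ⟨⟨⟨rfl, rfl⟩, gw02, ⟨rfl, rfl⟩⟩, rfl⟩ | ⟨⟨⟨rfl, rfl⟩, gw02, ⟨rfl, rfl⟩⟩, rfl⟩ | ⟨⟨⟨rfl, rfl⟩, gw02, ⟨rfl, rfl⟩⟩, rfl⟩
    · have t := pc2 q03 c03.out (by have := v0.out; have := qn04.out; have := qn05.out; have := qn06.out; omega)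
      clear c03
      rcases t with ⟨⟨⟨rfl, rfl⟩, gw03, ⟨rfl, rfl⟩⟩, rfl⟩ | ⟨⟨⟨rfl, rfl⟩, gw03, ⟨rfl, rfl⟩⟩, rfl⟩ | ⟨⟨⟨rfl, rfl⟩, gw03, ⟨rfl, rfl⟩⟩, rfl⟩ | ⟨⟨⟨rfl, rfl⟩, gw03, ⟨rfl, rfl⟩⟩, rfl⟩
      · have t := pc2 q04 c04.out (by have := v0.out; have := qn05.out; have := qn06.out; omega)
        clear c04
        rcases t with ⟨⟨⟨rfl, rfl⟩, gw04, ⟨rfl, rfl⟩⟩, rfl⟩ | ⟨⟨⟨rfl, rfl⟩, gw04, ⟨rfl, rfl⟩⟩, rfl⟩ | ⟨⟨⟨rfl, rfl⟩, gw04, ⟨rfl, rfl⟩⟩, rfl⟩ | ⟨⟨⟨rfl, rfl⟩, gw04, ⟨rfl, rfl⟩⟩, rfl⟩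
        · have t := pc2 q05 c05.out (by have := v0.out; have := qn06.out; omega)
          clear c05
          rcases t with ⟨⟨⟨rfl, rfl⟩, gw05, ⟨rfl, rfl⟩⟩, rfl⟩ | ⟨⟨⟨rfl, rfl⟩, gw05, ⟨rfl, rfl⟩⟩, rfl⟩ | ⟨⟨⟨rfl, rfl⟩, gw05, ⟨rfl, rfl⟩⟩, rfl⟩ | ⟨⟨⟨rfl, rfl⟩, gw05, ⟨rfl, rfl⟩⟩, rfl⟩
          · have t := pc2 q06 c06.out (by have := v0.out; omega)
            clear c06
            rcases t with ⟨⟨⟨rfl, rfl⟩, gw06, ⟨rfl, rfl⟩⟩, rfl⟩ | ⟨⟨⟨rfl, rfl⟩, gw06, ⟨rfl, rfl⟩⟩, rfl⟩ | ⟨⟨⟨rfl, rfl⟩, gw06, ⟨rfl, rfl⟩⟩, rfl⟩ | ⟨⟨⟨rfl, rfl⟩, gw06, ⟨rfl, rfl⟩⟩, rfl⟩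
            · have t := pc2 q12 c12.out (by have := v1.out; have := qn13.out; have := qn14.out; have := qn15.out; have := qn16.out; omega)
              clear c12
              rcases t with ⟨⟨⟨rfl, rfl⟩, gw12, ⟨rfl, rfl⟩⟩, rfl⟩ | ⟨⟨⟨rfl, rfl⟩, gw12, ⟨rfl, rfl⟩⟩, rfl⟩ | ⟨⟨⟨rfl, rfl⟩, gw12, ⟨rfl, rfl⟩⟩, rfl⟩ | ⟨⟨⟨rfl, rfl⟩, gw12, ⟨rfl, rfl⟩⟩, rfl⟩
              · (have := od2.out; omega)
              · exact part52 T α13 α14 α15 α16 α23 α24 α25 α26 α31 α32 α34 α35 α36 α41 α42 α43 α45 α46 α51 α52 α53 α54 α56 α61 α62 α63 α64 α65 x13 x14 x15 x16 x23 x24 x25 x26 x31 x32 x34 x35 x36 x41 x42 x43 x45 x46 x51 x52 x53 x54 x56 x61 x62 x63 x64 x65 q13 q14 q15 q16 q23 q24 q25 q26 q34 q35 q36 q45 q46 q56 hm0 hm1 hm2 hm3 hm4 hm5 hm6 om1 om2 om3 om4 om5 om6 e0 e1 e2 e3 e4 e5 e6 r01 r02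 r03 r04 r05 r06 r10 r12 r13 r14 r15 r16 r20 r21 r23 r24 r25 r26 r30 r31 r32 r34 r35 r36 r40 r41 r42 r43 r45 r46 r50 r51 r52 r53 r54 r56 r60 r61 r62 r63 r64 r65 hw0 hw1 hw2 hw3 hw4 hw5 hw6 hs01 hs02 hs03 hs04 hs05 hs06 hs12 hs13 hs14 hs15 hs16 hs23 hs24 hs25 hs26 hs34 hs35 hs36 hs45 hs46 hs56 ha00 ha11 ha22 ha33 ha44 ha55 ha66 v0 v1 v2 v3 v4 v5 v6 qn01 qn02 qn03 qn04 qn05 qn06 qn12 qn13 qn14 qn15 qn16 qn23 qn24 qn25 qn26 qn34 qn35 qn36 qn45 qn46 qn56 od1 od2 od3 od4 od5 od6 c13 c14 c15 c16 c23 c24 c25 c26 c34 c35 c36 c45 c46 c56 gw01 gw02 gw03 gw04 gw05 gw06 gw12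
              · exact part53 T α13 α14 α15 α16 α23 α24 α25 α26 α31 α32 α34 α35 α36 α41 α42 α43 α45 α46 α51 α52 α53 α54 α56 α61 α62 α63 α64 α65 x13 x14 x15 x16 x23 x24 x25 x26 x31 x32 x34 x35 x36 x41 x42 x43 x45 x46 x51 x52 x53 x54 x56 x61 x62 x63 x64 x65 q13 q14 q15 q16 q23 q24 q25 q26 q34 q35 q36 q45 q46 q56 hm0 hm1 hm2 hm3 hm4 hm5 hm6 om1 om2 om3 om4 om5 om6 e0 e1 e2 e3 e4 e5 e6 r01 r02 r03 r04 r05 r06 r10 r12 r13 r14 r15 r16 r20 r21 r23 r24 r25 r26 r30 r31 r32 r34 r35 r36 r40 r41 r42 r43 r45 r46 r50 r51 r52 r53 r54 r56 r60 r61 r62 r63 r64 r65 hw0 hw1 hw2 hw3 hw4 hw5 hw6 hs01 hs02 hs03 hs04 hs05 hs06 hs12 hs13 hs14 hs15 hs16 hs23 hs24 hs25 hs26 hs34 hs35 hs36 hs45 hs46 hs56 ha00 ha11 ha22 ha33 ha44 ha55 ha66 v0 v1 v2 v3 v4 v5 v6 qn01 qn02 qn03 qn04 qn05 qn06 qn12 qn13 qn14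 qn15 qn16 qn23 qn24 qn25 qn26 qn34 qn35 qn36 qn45 qn46 qn56 od1 od2 od3 od4 od5 od6 c13 c14 c15 c16 c23 c24 c25 c26 c34 c35 c36 c45 c46 c56 gw01 gw02 gw03 gw04 gw05 gw06 gw12
              · exact part54 T α13 α14 α15 α16 α23 α24 α25 α26 α31 α32 α34 α35 α36 α41 α42 α43 α45 α46 α51 α52 α53 α54 α56 α61 α62 α63 α64 α65 x13 x14 x15 x16 x23 x24 x25 x26 x31 x32 x34 x35 x36 x41 x42 x43 x45 x46 x51 x52 x53 x54 x56 x61 x62 x63 x64 x65 q13 q14 q15 q16 q23 q24 q25 q26 q34 q35 q36 q45 q46 q56 hm0 hm1 hm2 hm3 hm4 hm5 hm6 om1 om2 om3 om4 om5 om6 e0 e1 e2 e3 e4 e5 e6 r01 r02 r03 r04 r05 r06 r10 r12 r13 r14 r15 r16 r20 r21 r23 r24 r25 r26 r30 r31 r32 r34 r35 r36 r40 r41 r42 r43 r45 r46 r50 r51 r52 r53 r54 r56 r60 r61 r62 r63 r64 r65 hw0 hw1 hw2 hw3 hw4 hw5 hw6 hs01 hs02 hs03 hs04 hs05 hs06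 hs12 hs13 hs14 hs15 hs16 hs23 hs24 hs25 hs26 hs34 hs35 hs36 hs45 hs46 hs56 ha00 ha11 ha22 ha33 ha44 ha55 ha66 v0 v1 v2 v3 v4 v5 v6 qn01 qn02 qn03 qn04 qn05 qn06 qn12 qn13 qn14 qn15 qn16 qn23 qn24 qn25 qn26 qn34 qn35 qn36 qn45 qn46 qn56 od1 od2 od3 od4 od5 od6 c13 c14 c15 c16 c23 c24 c25 c26 c34 c35 c36 c45 c46 c56 gw01 gw02 gw03 gw04 gw05 gw06 gw12
            · exact part55 T α12 α13 α14 α15 α16 α21 α23 α24 α25 α26 α31 α32 α34 α35 α36 α41 α42 α43 α45 α46 α51 α52 α53 α54 α56 α61 α62 α63 α64 α65 x12 x13 x14 x15 x16 x21 x23 x24 x25 x26 x31 x32 x34 x35 x36 x41 x42 x43 x45 x46 x51 x52 x53 x54 x56 x61 x62 x63 x64 x65 q12 q13 q14 q15 q16 q23 q24 q25 q26 q34 q35 q36 q45 q46 q56 hm0 hm1 hm2 hm3 hm4 hm5 hm6 om1 om2 om3 om4 om5 om6 e0 e1 e2 e3 e4 e5 e6 r01 r02 r03 r04 r05 r06 r10 r12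 r13 r14 r15 r16 r20 r21 r23 r24 r25 r26 r30 r31 r32 r34 r35 r36 r40 r41 r42 r43 r45 r46 r50 r51 r52 r53 r54 r56 r60 r61 r62 r63 r64 r65 hw0 hw1 hw2 hw3 hw4 hw5 hw6 hs01 hs02 hs03 hs04 hs05 hs06 hs12 hs13 hs14 hs15 hs16 hs23 hs24 hs25 hs26 hs34 hs35 hs36 hs45 hs46 hs56 ha00 ha11 ha22 ha33 ha44 ha55 ha66 v0 v1 v2 v3 v4 v5 v6 qn01 qn02 qn03 qn04 qn05 qn06 qn12 qn13 qn14 qn15 qn16 qn23 qn24 qn25 qn26 qn34 qn35 qn36 qn45 qn46 qn56 od1 od2 od3 od4 od5 od6 c12 c13 c14 c15 c16 c23 c24 c25 c26 c34 c35 c36 c45 c46 c56 gw01 gw02 gw03 gw04 gw05 gw06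
            · exact part56 T α12 α13 α14 α15 α16 α21 α23 α24 α25 α26 α31 α32 α34 α35 α36 α41 α42 α43 α45 α46 α51 α52 α53 α54 α56 α61 α62 α63 α64 α65 x12 x13 x14 x15 x16 x21 x23 x24 x25 x26 x31 x32 x34 x35 x36 x41 x42 x43 x45 x46 x51 x52 x53 x54 x56 x61 x62 x63 x64 x65 q12 q13 q14 q15 q16 q23 q24 q25 q26 q34 q35 q36 q45 q46 q56 hm0 hm1 hm2 hm3 hm4 hm5 hm6 om1 om2 om3 om4 om5 om6 e0 e1 e2 e3 e4 e5 e6 r01 r02 r03 r04 r05 r06 r10 r12 r13 r14 r15 r16 r20 r21 r23 r24 r25 r26 r30 r31 r32 r34 r35 r36 r40 r41 r42 r43 r45 r46 r50 r51 r52 r53 r54 r56 r60 r61 r62 r63 r64 r65 hw0 hw1 hw2 hw3 hw4 hw5 hw6 hs01 hs02 hs03 hs04 hs05 hs06 hs12 hs13 hs14 hs15 hs16 hs23 hs24 hs25 hs26 hs34 hs35 hs36 hs45 hs46 hs56 ha00 ha11 ha22 ha33 ha44 ha55 ha66 v0 v1 v2 v3 v4 v5 v6 qn01 qn02 qn03 qn04 qn05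 qn06 qn12 qn13 qn14 qn15 qn16 qn23 qn24 qn25 qn26 qn34 qn35 qn36 qn45 qn46 qn56 od1 od2 od3 od4 od5 od6 c12 c13 c14 c15 c16 c23 c24 c25 c26 c34 c35 c36 c45 c46 c56 gw01 gw02 gw03 gw04 gw05 gw06
            · (have := hm1.out; have := om6.out; have := e0.out; omega)
          · exact part57 T α06 α12 α13 α14 α15 α16 α21 α23 α24 α25 α26 α31 α32 α34 α35 α36 α41 α42 α43 α45 α46 α51 α52 α53 α54 α56 α60 α61 α62 α63 α64 α65 x06 x12 x13 x14 x15 x16 x21 x23 x24 x25 x26 x31 x32 x34 x35 x36 x41 x42 x43 x45 x46 x51 x52 x53 x54 x56 x60 x61 x62 x63 x64 x65 q06 q12 q13 q14 q15 q16 q23 q24 q25 q26 q34 q35 q36 q45 q46 q56 hm0 hm1 hm2 hm3 hm4 hm5 hm6 om1 om2 om3 om4 om5 om6 e0 e1 e2 e3 e4 e5 e6 r01 r02 r03 r04 r05 r06 r10 r12 r13 r14 r15 r16 r20 r21 r23 r24 r25 r26 r30 r31 r32 r34 r35 r36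 r40 r41 r42 r43 r45 r46 r50 r51 r52 r53 r54 r56 r60 r61 r62 r63 r64 r65 hw0 hw1 hw2 hw3 hw4 hw5 hw6 hs01 hs02 hs03 hs04 hs05 hs06 hs12 hs13 hs14 hs15 hs16 hs23 hs24 hs25 hs26 hs34 hs35 hs36 hs45 hs46 hs56 ha00 ha11 ha22 ha33 ha44 ha55 ha66 v0 v1 v2 v3 v4 v5 v6 qn01 qn02 qn03 qn04 qn05 qn06 qn12 qn13 qn14 qn15 qn16 qn23 qn24 qn25 qn26 qn34 qn35 qn36 qn45 qn46 qn56 od1 od2 od3 od4 od5 od6 c06 c12 c13 c14 c15 c16 c23 c24 c25 c26 c34 c35 c36 c45 c46 c56 gw01 gw02 gw03 gw04 gw05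
          · exact part58 T α06 α12 α13 α14 α15 α16 α21 α23 α24 α25 α26 α31 α32 α34 α35 α36 α41 α42 α43 α45 α46 α51 α52 α53 α54 α56 α60 α61 α62 α63 α64 α65 x06 x12 x13 x14 x15 x16 x21 x23 x24 x25 x26 x31 x32 x34 x35 x36 x41 x42 x43 x45 x46 x51 x52 x53 x54 x56 x60 x61 x62 x63 x64 x65 q06 q12 q13 q14 q15 q16 q23 q24 q25 q26 q34 q35 q36 q45 q46 q56 hm0 hm1 hm2 hm3 hm4 hm5 hm6 om1 om2 om3 om4 om5 om6 e0 e1 e2 e3 e4 e5 e6 r01 r02 r03 r04 r05 r06 r10 r12 r13 r14 r15 r16 r20 r21 r23 r24 r25 r26 r30 r31 r32 r34 r35 r36 r40 r41 r42 r43 r45 r46 r50 r51 r52 r53 r54 r56 r60 r61 r62 r63 r64 r65 hw0 hw1 hw2 hw3 hw4 hw5 hw6 hs01 hs02 hs03 hs04 hs05 hs06 hs12 hs13 hs14 hs15 hs16 hs23 hs24 hs25 hs26 hs34 hs35 hs36 hs45 hs46 hs56 ha00 ha11 ha22 ha33 ha44 ha55 ha66 v0 v1 v2 v3 v4 v5 v6 qn01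 qn02 qn03 qn04 qn05 qn06 qn12 qn13 qn14 qn15 qn16 qn23 qn24 qn25 qn26 qn34 qn35 qn36 qn45 qn46 qn56 od1 od2 od3 od4 od5 od6 c06 c12 c13 c14 c15 c16 c23 c24 c25 c26 c34 c35 c36 c45 c46 c56 gw01 gw02 gw03 gw04 gw05
          · (have := hm1.out; have := om5.out; have := e0.out; have := r06.out; omega)
        · exact part59 T α05 α06 α12 α13 α14 α15 α16 α21 α23 α24 α25 α26 α31 α32 α34 α35 α36 α41 α42 α43 α45 α46 α50 α51 α52 α53 α54 α56 α60 α61 α62 α63 α64 α65 x05 x06 x12 x13 x14 x15 x16 x21 x23 x24 x25 x26 x31 x32 x34 x35 x36 x41 x42 x43 x45 x46 x50 x51 x52 x53 x54 x56 x60 x61 x62 x63 x64 x65 q05 q06 q12 q13 q14 q15 q16 q23 q24 q25 q26 q34 q35 q36 q45 q46 q56 hm0 hm1 hm2 hm3 hm4 hm5 hm6 om1 om2 om3 om4 om5 om6 e0 e1 e2 e3 e4 e5 e6 r01 r02 r03 r04 r05 r06 r10 r12 r13 r14 r15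 r16 r20 r21 r23 r24 r25 r26 r30 r31 r32 r34 r35 r36 r40 r41 r42 r43 r45 r46 r50 r51 r52 r53 r54 r56 r60 r61 r62 r63 r64 r65 hw0 hw1 hw2 hw3 hw4 hw5 hw6 hs01 hs02 hs03 hs04 hs05 hs06 hs12 hs13 hs14 hs15 hs16 hs23 hs24 hs25 hs26 hs34 hs35 hs36 hs45 hs46 hs56 ha00 ha11 ha22 ha33 ha44 ha55 ha66 v0 v1 v2 v3 v4 v5 v6 qn01 qn02 qn03 qn04 qn05 qn06 qn12 qn13 qn14 qn15 qn16 qn23 qn24 qn25 qn26 qn34 qn35 qn36 qn45 qn46 qn56 od1 od2 od3 od4 od5 od6 c05 c06 c12 c13 c14 c15 c16 c23 c24 c25 c26 c34 c35 c36 c45 c46 c56 gw01 gw02 gw03 gw04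
        · exact part60 T α05 α06 α12 α13 α14 α15 α16 α21 α23 α24 α25 α26 α31 α32 α34 α35 α36 α41 α42 α43 α45 α46 α50 α51 α52 α53 α54 α56 α60 α61 α62 α63 α64 α65 x05 x06 x12 x13 x14 x15 x16 x21 x23 x24 x25 x26 x31 x32 x34 x35 x36 x41 x42 x43 x45 x46 x50 x51 x52 x53 x54 x56 x60 x61 x62 x63 x64 x65 q05 q06 q12 q13 q14 q15 q16 q23 q24 q25 q26 q34 q35 q36 q45 q46 q56 hm0 hm1 hm2 hm3 hm4 hm5 hm6 om1 om2 om3 om4 om5 om6 e0 e1 e2 e3 e4 e5 e6 r01 r02 r03 r04 r05 r06 r10 r12 r13 r14 r15 r16 r20 r21 r23 r24 r25 r26 r30 r31 r32 r34 r35 r36 r40 r41 r42 r43 r45 r46 r50 r51 r52 r53 r54 r56 r60 r61 r62 r63 r64 r65 hw0 hw1 hw2 hw3 hw4 hw5 hw6 hs01 hs02 hs03 hs04 hs05 hs06 hs12 hs13 hs14 hs15 hs16 hs23 hs24 hs25 hs26 hs34 hs35 hs36 hs45 hs46 hs56 ha00 ha11 ha22 ha33 ha44 ha55 ha66 v0 v1 v2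 v3 v4 v5 v6 qn01 qn02 qn03 qn04 qn05 qn06 qn12 qn13 qn14 qn15 qn16 qn23 qn24 qn25 qn26 qn34 qn35 qn36 qn45 qn46 qn56 od1 od2 od3 od4 od5 od6 c05 c06 c12 c13 c14 c15 c16 c23 c24 c25 c26 c34 c35 c36 c45 c46 c56 gw01 gw02 gw03 gw04
        · (have := hm1.out; have := om4.out; have := e0.out; have := r05.out; have := r06.out; omega)
      · exact part61 T α04 α05 α06 α12 α13 α14 α15 α16 α21 α23 α24 α25 α26 α31 α32 α34 α35 α36 α40 α41 α42 α43 α45 α46 α50 α51 α52 α53 α54 α56 α60 α61 α62 α63 α64 α65 x04 x05 x06 x12 x13 x14 x15 x16 x21 x23 x24 x25 x26 x31 x32 x34 x35 x36 x40 x41 x42 x43 x45 x46 x50 x51 x52 x53 x54 x56 x60 x61 x62 x63 x64 x65 q04 q05 q06 q12 q13 q14 q15 q16 q23 q24 q25 q26 q34 q35 q36 q45 q46 q56 hm0 hm1 hm2 hm3 hm4 hm5 hm6 om1 om2 om3 om4 om5 om6 e0 e1 e2 e3 e4 e5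 e6 r01 r02 r03 r04 r05 r06 r10 r12 r13 r14 r15 r16 r20 r21 r23 r24 r25 r26 r30 r31 r32 r34 r35 r36 r40 r41 r42 r43 r45 r46 r50 r51 r52 r53 r54 r56 r60 r61 r62 r63 r64 r65 hw0 hw1 hw2 hw3 hw4 hw5 hw6 hs01 hs02 hs03 hs04 hs05 hs06 hs12 hs13 hs14 hs15 hs16 hs23 hs24 hs25 hs26 hs34 hs35 hs36 hs45 hs46 hs56 ha00 ha11 ha22 ha33 ha44 ha55 ha66 v0 v1 v2 v3 v4 v5 v6 qn01 qn02 qn03 qn04 qn05 qn06 qn12 qn13 qn14 qn15 qn16 qn23 qn24 qn25 qn26 qn34 qn35 qn36 qn45 qn46 qn56 od1 od2 od3 od4 od5 od6 c04 c05 c06 c12 c13 c14 c15 c16 c23 c24 c25 c26 c34 c35 c36 c45 c46 c56 gw01 gw02 gw03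
      · exact part62 T α04 α05 α06 α12 α13 α14 α15 α16 α21 α23 α24 α25 α26 α31 α32 α34 α35 α36 α40 α41 α42 α43 α45 α46 α50 α51 α52 α53 α54 α56 α60 α61 α62 α63 α64 α65 x04 x05 x06 x12 x13 x14 x15 x16 x21 x23 x24 x25 x26 x31 x32 x34 x35 x36 x40 x41 x42 x43 x45 x46 x50 x51 x52 x53 x54 x56 x60 x61 x62 x63 x64 x65 q04 q05 q06 q12 q13 q14 q15 q16 q23 q24 q25 q26 q34 q35 q36 q45 q46 q56 hm0 hm1 hm2 hm3 hm4 hm5 hm6 om1 om2 om3 om4 om5 om6 e0 e1 e2 e3 e4 e5 e6 r01 r02 r03 r04 r05 r06 r10 r12 r13 r14 r15 r16 r20 r21 r23 r24 r25 r26 r30 r31 r32 r34 r35 r36 r40 r41 r42 r43 r45 r46 r50 r51 r52 r53 r54 r56 r60 r61 r62 r63 r64 r65 hw0 hw1 hw2 hw3 hw4 hw5 hw6 hs01 hs02 hs03 hs04 hs05 hs06 hs12 hs13 hs14 hs15 hs16 hs23 hs24 hs25 hs26 hs34 hs35 hs36 hs45 hs46 hs56 ha00 ha11 ha22 ha33 ha44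 ha55 ha66 v0 v1 v2 v3 v4 v5 v6 qn01 qn02 qn03 qn04 qn05 qn06 qn12 qn13 qn14 qn15 qn16 qn23 qn24 qn25 qn26 qn34 qn35 qn36 qn45 qn46 qn56 od1 od2 od3 od4 od5 od6 c04 c05 c06 c12 c13 c14 c15 c16 c23 c24 c25 c26 c34 c35 c36 c45 c46 c56 gw01 gw02 gw03
      · (have := hm1.out; have := om3.out; have := e0.out; have := r04.out; have := r05.out; have := r06.out; omega)
    · exact part63 T α03 α04 α05 α06 α12 α13 α14 α15 α16 α21 α23 α24 α25 α26 α30 α31 α32 α34 α35 α36 α40 α41 α42 α43 α45 α46 α50 α51 α52 α53 α54 α56 α60 α61 α62 α63 α64 α65 x03 x04 x05 x06 x12 x13 x14 x15 x16 x21 x23 x24 x25 x26 x30 x31 x32 x34 x35 x36 x40 x41 x42 x43 x45 x46 x50 x51 x52 x53 x54 x56 x60 x61 x62 x63 x64 x65 q03 q04 q05 q06 q12 q13 q14 q15 q16 q23 q24 q25 q26 q34 q35 q36 q45 q46 q56 hm0 hm1 hm2 hm3 hm4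 hm5 hm6 om1 om2 om3 om4 om5 om6 e0 e1 e2 e3 e4 e5 e6 r01 r02 r03 r04 r05 r06 r10 r12 r13 r14 r15 r16 r20 r21 r23 r24 r25 r26 r30 r31 r32 r34 r35 r36 r40 r41 r42 r43 r45 r46 r50 r51 r52 r53 r54 r56 r60 r61 r62 r63 r64 r65 hw0 hw1 hw2 hw3 hw4 hw5 hw6 hs01 hs02 hs03 hs04 hs05 hs06 hs12 hs13 hs14 hs15 hs16 hs23 hs24 hs25 hs26 hs34 hs35 hs36 hs45 hs46 hs56 ha00 ha11 ha22 ha33 ha44 ha55 ha66 v0 v1 v2 v3 v4 v5 v6 qn01 qn02 qn03 qn04 qn05 qn06 qn12 qn13 qn14 qn15 qn16 qn23 qn24 qn25 qn26 qn34 qn35 qn36 qn45 qn46 qn56 od1 od2 od3 od4 od5 od6 c03 c04 c05 c06 c12 c13 c14 c15 c16 c23 c24 c25 c26 c34 c35 c36 c45 c46 c56 gw01 gw02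
    · exact part64 T α03 α04 α05 α06 α12 α13 α14 α15 α16 α21 α23 α24 α25 α26 α30 α31 α32 α34 α35 α36 α40 α41 α42 α43 α45 α46 α50 α51 α52 α53 α54 α56 α60 α61 α62 α63 α64 α65 x03 x04 x05 x06 x12 x13 x14 x15 x16 x21 x23 x24 x25 x26 x30 x31 x32 x34 x35 x36 x40 x41 x42 x43 x45 x46 x50 x51 x52 x53 x54 x56 x60 x61 x62 x63 x64 x65 q03 q04 q05 q06 q12 q13 q14 q15 q16 q23 q24 q25 q26 q34 q35 q36 q45 q46 q56 hm0 hm1 hm2 hm3 hm4 hm5 hm6 om1 om2 om3 om4 om5 om6 e0 e1 e2 e3 e4 e5 e6 r01 r02 r03 r04 r05 r06 r10 r12 r13 r14 r15 r16 r20 r21 r23 r24 r25 r26 r30 r31 r32 r34 r35 r36 r40 r41 r42 r43 r45 r46 r50 r51 r52 r53 r54 r56 r60 r61 r62 r63 r64 r65 hw0 hw1 hw2 hw3 hw4 hw5 hw6 hs01 hs02 hs03 hs04 hs05 hs06 hs12 hs13 hs14 hs15 hs16 hs23 hs24 hs25 hs26 hs34 hs35 hs36 hs45 hs46 hs56 ha00 ha11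 ha22 ha33 ha44 ha55 ha66 v0 v1 v2 v3 v4 v5 v6 qn01 qn02 qn03 qn04 qn05 qn06 qn12 qn13 qn14 qn15 qn16 qn23 qn24 qn25 qn26 qn34 qn35 qn36 qn45 qn46 qn56 od1 od2 od3 od4 od5 od6 c03 c04 c05 c06 c12 c13 c14 c15 c16 c23 c24 c25 c26 c34 c35 c36 c45 c46 c56 gw01 gw02
    · (have := hm1.out; have := om2.out; have := e0.out; have := r03.out; have := r04.out; have := r05.out; have := r06.out; omega)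
  · exact part65 T α02 α03 α04 α05 α06 α12 α13 α14 α15 α16 α20 α21 α23 α24 α25 α26 α30 α31 α32 α34 α35 α36 α40 α41 α42 α43 α45 α46 α50 α51 α52 α53 α54 α56 α60 α61 α62 α63 α64 α65 x02 x03 x04 x05 x06 x12 x13 x14 x15 x16 x20 x21 x23 x24 x25 x26 x30 x31 x32 x34 x35 x36 x40 x41 x42 x43 x45 x46 x50 x51 x52 x53 x54 x56 x60 x61 x62 x63 x64 x65 q02 q03 q04 q05 q06 q12 q13 q14 q15 q16 q23 q24 q25 q26 q34 q35 q36 q45 q46 q56 hm0 hm1 hm2 hm3 hm4 hm5 hm6 om1 om2 om3 om4 om5 om6 e0 e1 e2 e3 e4 e5 e6 r01 r02 r03 r04 r05 r06 r10 r12 r13 r14 r15 r16 r20 r21 r23 r24 r25 r26 r30 r31 r32 r34 r35 r36 r40 r41 r42 r43 r45 r46 r50 r51 r52 r53 r54 r56 r60 r61 r62 r63 r64 r65 hw0 hw1 hw2 hw3 hw4 hw5 hw6 hs01 hs02 hs03 hs04 hs05 hs06 hs12 hs13 hs14 hs15 hs16 hs23 hs24 hs25 hs26 hs34 hs35 hs36 hs45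 hs46 hs56 ha00 ha11 ha22 ha33 ha44 ha55 ha66 v0 v1 v2 v3 v4 v5 v6 qn01 qn02 qn03 qn04 qn05 qn06 qn12 qn13 qn14 qn15 qn16 qn23 qn24 qn25 qn26 qn34 qn35 qn36 qn45 qn46 qn56 od1 od2 od3 od4 od5 od6 c02 c03 c04 c05 c06 c12 c13 c14 c15 c16 c23 c24 c25 c26 c34 c35 c36 c45 c46 c56 gw01
  · exact part66 T α02 α03 α04 α05 α06 α12 α13 α14 α15 α16 α20 α21 α23 α24 α25 α26 α30 α31 α32 α34 α35 α36 α40 α41 α42 α43 α45 α46 α50 α51 α52 α53 α54 α56 α60 α61 α62 α63 α64 α65 x02 x03 x04 x05 x06 x12 x13 x14 x15 x16 x20 x21 x23 x24 x25 x26 x30 x31 x32 x34 x35 x36 x40 x41 x42 x43 x45 x46 x50 x51 x52 x53 x54 x56 x60 x61 x62 x63 x64 x65 q02 q03 q04 q05 q06 q12 q13 q14 q15 q16 q23 q24 q25 q26 q34 q35 q36 q45 q46 q56 hm0 hm1 hm2 hm3 hm4 hm5 hm6 om1 om2 om3 om4 om5 om6 e0 e1 e2 e3 e4 e5 e6 r01 r02 r03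 r04 r05 r06 r10 r12 r13 r14 r15 r16 r20 r21 r23 r24 r25 r26 r30 r31 r32 r34 r35 r36 r40 r41 r42 r43 r45 r46 r50 r51 r52 r53 r54 r56 r60 r61 r62 r63 r64 r65 hw0 hw1 hw2 hw3 hw4 hw5 hw6 hs01 hs02 hs03 hs04 hs05 hs06 hs12 hs13 hs14 hs15 hs16 hs23 hs24 hs25 hs26 hs34 hs35 hs36 hs45 hs46 hs56 ha00 ha11 ha22 ha33 ha44 ha55 ha66 v0 v1 v2 v3 v4 v5 v6 qn01 qn02 qn03 qn04 qn05 qn06 qn12 qn13 qn14 qn15 qn16 qn23 qn24 qn25 qn26 qn34 qn35 qn36 qn45 qn46 qn56 od1 od2 od3 od4 od5 od6 c02 c03 c04 c05 c06 c12 c13 c14 c15 c16 c23 c24 c25 c26 c34 c35 c36 c45 c46 c56 gw01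
  · (have := hm0.out; have := om1.out; have := e0.out; have := r02.out; have := r03.out; have := r04.out; have := r05.out; have := r06.out; omega)
  · exact part67 T α02 α03 α04 α05 α06 α12 α13 α14 α15 α16 α20 α21 α23 α24 α25 α26 α30 α31 α32 α34 α35 α36 α40 α41 α42 α43 α45 α46 α50 α51 α52 α53 α54 α56 α60 α61 α62 α63 α64 α65 x02 x03 x04 x05 x06 x12 x13 x14 x15 x16 x20 x21 x23 x24 x25 x26 x30 x31 x32 x34 x35 x36 x40 x41 x42 x43 x45 x46 x50 x51 x52 x53 x54 x56 x60 x61 x62 x63 x64 x65 q02 q03 q04 q05 q06 q12 q13 q14 q15 q16 q23 q24 q25 q26 q34 q35 q36 q45 q46 q56 hm0 hm1 hm2 hm3 hm4 hm5 hm6 om1 om2 om3 om4 om5 om6 e0 e1 e2 e3 e4 e5 e6 r01 r02 r03 r04 r05 r06 r10 r12 r13 r14 r15 r16 r20 r21 r23 r24 r25 r26 r30 r31 r32 r34 r35 r36 r40 r41 r42 r43 r45 r46 r50 r51 r52 r53 r54 r56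 r60 r61 r62 r63 r64 r65 hw0 hw1 hw2 hw3 hw4 hw5 hw6 hs01 hs02 hs03 hs04 hs05 hs06 hs12 hs13 hs14 hs15 hs16 hs23 hs24 hs25 hs26 hs34 hs35 hs36 hs45 hs46 hs56 ha00 ha11 ha22 ha33 ha44 ha55 ha66 v0 v1 v2 v3 v4 v5 v6 qn01 qn02 qn03 qn04 qn05 qn06 qn12 qn13 qn14 qn15 qn16 qn23 qn24 qn25 qn26 qn34 qn35 qn36 qn45 qn46 qn56 od1 od2 od3 od4 od5 od6 c02 c03 c04 c05 c06 c12 c13 c14 c15 c16 c23 c24 c25 c26 c34 c35 c36 c45 c46 c56 gw01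
  · (have := hm0.out; have := om1.out; have := e0.out; have := r02.out; have := r03.out; have := r04.out; have := r05.out; have := r06.out; omega)
  · exact part68 T α02 α03 α04 α05 α06 α12 α13 α14 α15 α16 α20 α21 α23 α24 α25 α26 α30 α31 α32 α34 α35 α36 α40 α41 α42 α43 α45 α46 α50 α51 α52 α53 α54 α56 α60 α61 α62 α63 α64 α65 x02 x03 x04 x05 x06 x12 x13 x14 x15 x16 x20 x21 x23 x24 x25 x26 x30 x31 x32 x34 x35 x36 x40 x41 x42 x43 x45 x46 x50 x51 x52 x53 x54 x56 x60 x61 x62 x63 x64 x65 q02 q03 q04 q05 q06 q12 q13 q14 q15 q16 q23 q24 q25 q26 q34 q35 q36 q45 q46 q56 hm0 hm1 hm2 hm3 hm4 hm5 hm6 om1 om2 om3 om4 om5 om6 e0 e1 e2 e3 e4 e5 e6 r01 r02 r03 r04 r05 r06 r10 r12 r13 r14 r15 r16 r20 r21 r23 r24 r25 r26 r30 r31 r32 r34 r35 r36 r40 r41 r42 r43 r45 r46 r50 r51 r52 r53 r54 r56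 r60 r61 r62 r63 r64 r65 hw0 hw1 hw2 hw3 hw4 hw5 hw6 hs01 hs02 hs03 hs04 hs05 hs06 hs12 hs13 hs14 hs15 hs16 hs23 hs24 hs25 hs26 hs34 hs35 hs36 hs45 hs46 hs56 ha00 ha11 ha22 ha33 ha44 ha55 ha66 v0 v1 v2 v3 v4 v5 v6 qn01 qn02 qn03 qn04 qn05 qn06 qn12 qn13 qn14 qn15 qn16 qn23 qn24 qn25 qn26 qn34 qn35 qn36 qn45 qn46 qn56 od1 od2 od3 od4 od5 od6 c02 c03 c04 c05 c06 c12 c13 c14 c15 c16 c23 c24 c25 c26 c34 c35 c36 c45 c46 c56 gw01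

end Groth.Agent.Lib.helper20.G1n7
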