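import Groth.Agent.Lib.Helper20.G1n8Base

set_option autoImplicit false
set_option linter.unusedVariables false
open Finset
open Models Models.NumericalType

namespace Groth.Agent.Lib.helper20.G1n8

set_option maxHeartbeats 0 in
theorem part0 (T : Models.NumericalType 8) (α36 α37 α45 α46 α47 α54 α56 α57 α63 α64 α65 α67 α73 α74 α75 α76 x36 x37 x45 x46 x47 x54 x56 x57 x63 x64 x65 x67 x73 x74 x75 x76 q36 q37 q45 q46 q47 q56 q57 q67 : ℤ)
    (hm0 : Hide (0 < T.m 0))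
    (hm1 : Hide (0 < T.m 1))
    (hm2 : Hide (0 < T.m 2))
    (hm3 : Hide (0 < T.m 3))
    (hm4 : Hide (0 < T.m 4))
    (hm5 : Hide (0 < T.m 5))
    (hm6 : Hide (0 < T.m 6))
    (hm7 : Hide (0 < T.m 7))
    (om1 : Hide (T.m 0 ≤ T.m 1))
    (om2 : Hide (T.m 0 ≤ T.m 2))
    (om3 : Hide (T.m 0 ≤ T.m 3))
    (om4 : Hide (T.m 0 ≤ T.m 4))
    (om5 : Hide (T.m 0 ≤ T.m 5))
    (om6 : Hide (T.m 0 ≤ T.m 6))
    (om7 : Hide (T.m 0 ≤ T.m 7))
    (e0 : Hide (T.m 1 + (0 : ℤ) + (0 : ℤ) + (0 : ℤ) + (0 : ℤ) + (0 : ℤ) + (0 : ℤ) = 2 * T.m 0))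
    (e1 : Hide (T.m 0 + T.m 2 + (0 : ℤ) + (0 : ℤ) + (0 : ℤ) + (0 : ℤ) + (0 : ℤ) = 2 * T.m 1))
    (e2 : Hide ((0 : ℤ) + T.m 1 + T.m 3 + (0 : ℤ) + (0 : ℤ) + (0 : ℤ) + (0 : ℤ) = 2 * T.m 2))
    (e3 : Hide ((0 : ℤ) + (0 : ℤ) + T.m 2 + T.m 4 + (0 : ℤ) + x36 + x37 = 2 * T.m 3))
    (e4 : Hide ((0 : ℤ) + (0 : ℤ) + (0 : ℤ) + T.m 3 + x45 + x46 + x47 = 2 * T.m 4))
    (e5 : Hide ((0 : ℤ) + (0 : ℤ) + (0 : ℤ) + (0 : ℤ) + x54 + x56 + x57 = 2 * T.m 5))
    (e6 : Hide ((0 : ℤ) + (0 : ℤ) + (0 : ℤ) + x63 + x64 + x65 + x67 = 2 * T.m 6))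
    (e7 : Hide ((0 : ℤ) + (0 : ℤ) + (0 : ℤ) + x73 + x74 + x75 + x76 = 2 * T.m 7))
    (r01 : Hide (0 ≤ T.m 1))
    (r02 : Hide (0 ≤ (0 : ℤ)))
    (r03 : Hide (0 ≤ (0 : ℤ)))
    (r04 : Hide (0 ≤ (0 : ℤ)))
    (r05 : Hide (0 ≤ (0 : ℤ)))
    (r06 : Hide (0 ≤ (0 : ℤ)))
    (r07 : Hide (0 ≤ (0 : ℤ)))
    (r10 : Hide (0 ≤ T.m 0))
    (r12 : Hide (0 ≤ T.m 2))
    (r13 : Hide (0 ≤ (0 : ℤ)))
    (r14 : Hide (0 ≤ (0 : ℤ)))
    (r15 : Hide (0 ≤ (0 : ℤ)))
    (r16 : Hide (0 ≤ (0 : ℤ)))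
    (r17 : Hide (0 ≤ (0 : ℤ)))
    (r20 : Hide (0 ≤ (0 : ℤ)))
    (r21 : Hide (0 ≤ T.m 1))
    (r23 : Hide (0 ≤ T.m 3))
    (r24 : Hide (0 ≤ (0 : ℤ)))
    (r25 : Hide (0 ≤ (0 : ℤ)))
    (r26 : Hide (0 ≤ (0 : ℤ)))
    (r27 : Hide (0 ≤ (0 : ℤ)))
    (r30 : Hide (0 ≤ (0 : ℤ)))
    (r31 : Hide (0 ≤ (0 : ℤ)))
    (r32 : Hide (0 ≤ T.m 2))
    (r34 : Hide (0 ≤ T.m 4))
    (r35 : Hide (0 ≤ (0 : ℤ)))
    (r36 : Hide (0 ≤ x36))
    (r37 : Hide (0 ≤ x37))
    (r40 : Hide (0 ≤ (0 : ℤ)))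
    (r41 : Hide (0 ≤ (0 : ℤ)))
    (r42 : Hide (0 ≤ (0 : ℤ)))
    (r43 : Hide (0 ≤ T.m 3))
    (r45 : Hide (0 ≤ x45))
    (r46 : Hide (0 ≤ x46))
    (r47 : Hide (0 ≤ x47))
    (r50 : Hide (0 ≤ (0 : ℤ)))
    (r51 : Hide (0 ≤ (0 : ℤ)))
    (r52 : Hide (0 ≤ (0 : ℤ)))
    (r53 : Hide (0 ≤ (0 : ℤ)))
    (r54 : Hide (0 ≤ x54))
    (r56 : Hide (0 ≤ x56))
    (r57 : Hide (0 ≤ x57))
    (r60 : Hide (0 ≤ (0 : ℤ)))
    (r61 : Hide (0 ≤ (0 : ℤ)))
    (r62 : Hide (0 ≤ (0 : ℤ)))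
    (r63 : Hide (0 ≤ x63))
    (r64 : Hide (0 ≤ x64))
    (r65 : Hide (0 ≤ x65))
    (r67 : Hide (0 ≤ x67))
    (r70 : Hide (0 ≤ (0 : ℤ)))
    (r71 : Hide (0 ≤ (0 : ℤ)))
    (r72 : Hide (0 ≤ (0 : ℤ)))
    (r73 : Hide (0 ≤ x73))
    (r74 : Hide (0 ≤ x74))
    (r75 : Hide (0 ≤ x75))
    (r76 : Hide (0 ≤ x76))
    (hw0 : Hide (0 < T.w 0))
    (hw1 : Hide (0 < T.w 1))
    (hw2 : Hide (0 < T.w 2))
    (hw3 : Hide (0 < T.w 3))
    (hw4 : Hide (0 < T.w 4))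
    (hw5 : Hide (0 < T.w 5))
    (hw6 : Hide (0 < T.w 6))
    (hw7 : Hide (0 < T.w 7))
    (hs01 : Hide (T.a 0 1 = T.a 1 0))
    (hs02 : Hide (T.a 0 2 = T.a 2 0))
    (hs03 : Hide (T.a 0 3 = T.a 3 0))
    (hs04 : Hide (T.a 0 4 = T.a 4 0))
    (hs05 : Hide (T.a 0 5 = T.a 5 0))
    (hs06 : Hide (T.a 0 6 = T.a 6 0))
    (hs07 : Hide (T.a 0 7 = T.a 7 0))
    (hs12 : Hide (T.a 1 2 = T.a 2 1))
    (hs13 : Hide (T.a 1 3 = T.a 3 1))
    (hs14 : Hide (T.a 1 4 = T.a 4 1))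
    (hs15 : Hide (T.a 1 5 = T.a 5 1))
    (hs16 : Hide (T.a 1 6 = T.a 6 1))
    (hs17 : Hide (T.a 1 7 = T.a 7 1))
    (hs23 : Hide (T.a 2 3 = T.a 3 2))
    (hs24 : Hide (T.a 2 4 = T.a 4 2))
    (hs25 : Hide (T.a 2 5 = T.a 5 2))
    (hs26 : Hide (T.a 2 6 = T.a 6 2))
    (hs27 : Hide (T.a 2 7 = T.a 7 2))
    (hs34 : Hide (T.a 3 4 = T.a 4 3))
    (hs35 : Hide (T.a 3 5 = T.a 5 3))
    (hs36 : Hide (T.a 3 6 = T.a 6 3))
    (hs37 : Hide (T.a 3 7 = T.a 7 3))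
    (hs45 : Hide (T.a 4 5 = T.a 5 4))
    (hs46 : Hide (T.a 4 6 = T.a 6 4))
    (hs47 : Hide (T.a 4 7 = T.a 7 4))
    (hs56 : Hide (T.a 5 6 = T.a 6 5))
    (hs57 : Hide (T.a 5 7 = T.a 7 5))
    (hs67 : Hide (T.a 6 7 = T.a 7 6))
    (ha00 : Hide (T.a 0 0 = -2 * T.w 0))
    (ha11 : Hide (T.a 1 1 = -2 * T.w 1))
    (ha22 : Hide (T.a 2 2 = -2 * T.w 2))
    (ha33 : Hide (T.a 3 3 = -2 * T.w 3))
    (ha44 : Hide (T.a 4 4 = -2 * T.w 4))
    (ha55 : Hide (T.a 5 5 = -2 * T.w 5))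
    (ha66 : Hide (T.a 6 6 = -2 * T.w 6))
    (ha77 : Hide (T.a 7 7 = -2 * T.w 7))
    (v0 : Hide ((1 : ℤ) + (0 : ℤ) + (0 : ℤ) + (0 : ℤ) + (0 : ℤ) + (0 : ℤ) + (0 : ℤ) ≤ 4))
    (v1 : Hide ((1 : ℤ) + (1 : ℤ) + (0 : ℤ) + (0 : ℤ) + (0 : ℤ) + (0 : ℤ) + (0 : ℤ) ≤ 4))
    (v2 : Hide ((0 : ℤ) + (1 : ℤ) + (1 : ℤ) + (0 : ℤ) + (0 : ℤ) + (0 : ℤ) + (0 : ℤ) ≤ 4))
    (v3 : Hide ((0 : ℤ) + (0 : ℤ) + (1 : ℤ) + (1 : ℤ) + (0 : ℤ) + q36 + q37 ≤ 4))
    (v4 : Hide ((0 : ℤ) + (0 : ℤ) + (0 : ℤ) + (1 : ℤ) + q45 + q46 + q47 ≤ 4))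
    (v5 : Hide ((0 : ℤ) + (0 : ℤ) + (0 : ℤ) + (0 : ℤ) + q45 + q56 + q57 ≤ 4))
    (v6 : Hide ((0 : ℤ) + (0 : ℤ) + (0 : ℤ) + q36 + q46 + q56 + q67 ≤ 4))
    (v7 : Hide ((0 : ℤ) + (0 : ℤ) + (0 : ℤ) + q37 + q47 + q57 + q67 ≤ 4))
    (qn01 : Hide (0 ≤ (1 : ℤ)))
    (qn02 : Hide (0 ≤ (0 : ℤ)))
    (qn03 : Hide (0 ≤ (0 : ℤ)))
    (qn04 : Hide (0 ≤ (0 : ℤ)))
    (qn05 : Hide (0 ≤ (0 : ℤ)))
    (qn06 : Hide (0 ≤ (0 : ℤ)))
    (qn07 : Hide (0 ≤ (0 : ℤ)))
    (qn12 : Hide (0 ≤ (1 : ℤ)))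
    (qn13 : Hide (0 ≤ (0 : ℤ)))
    (qn14 : Hide (0 ≤ (0 : ℤ)))
    (qn15 : Hide (0 ≤ (0 : ℤ)))
    (qn16 : Hide (0 ≤ (0 : ℤ)))
    (qn17 : Hide (0 ≤ (0 : ℤ)))
    (qn23 : Hide (0 ≤ (1 : ℤ)))
    (qn24 : Hide (0 ≤ (0 : ℤ)))
    (qn25 : Hide (0 ≤ (0 : ℤ)))
    (qn26 : Hide (0 ≤ (0 : ℤ)))
    (qn27 : Hide (0 ≤ (0 : ℤ)))
    (qn34 : Hide (0 ≤ (1 : ℤ)))
    (qn35 : Hide (0 ≤ (0 : ℤ)))
    (qn36 : Hide (0 ≤ q36))
    (qn37 : Hide (0 ≤ q37))
    (qn45 : Hide (0 ≤ q45))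
    (qn46 : Hide (0 ≤ q46))
    (qn47 : Hide (0 ≤ q47))
    (qn56 : Hide (0 ≤ q56))
    (qn57 : Hide (0 ≤ q57))
    (qn67 : Hide (0 ≤ q67))
    (od1 : Hide (0 < (1 : ℤ)))
    (od2 : Hide (0 < (0 : ℤ) + (1 : ℤ)))
    (od3 : Hide (0 < (0 : ℤ) + (0 : ℤ) + (1 : ℤ)))
    (od4 : Hide (0 < (0 : ℤ) + (0 : ℤ) + (0 : ℤ) + (1 : ℤ)))
    (od5 : Hide (0 < (0 : ℤ) + (0 : ℤ) + (0 : ℤ) + (0 : ℤ) + α45))
    (od6 : Hide (0 < (0 : ℤ) + (0 : ℤ) + (0 : ℤ) + α36 + α46 + α56))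
    (od7 : Hide (0 < (0 : ℤ) + (0 : ℤ) + (0 : ℤ) + α37 + α47 + α57 + α67))
    (c36 : Hide (((Hide (x36 = 0 ∧ x63 = 0) ∧ Hide (T.a 3 6 = 0 ∧ T.a 6 3 = 0) ∧ Hide (α36 = 0 ∧ α63 = 0)) ∧ q36 = 0) ∨ ((Hide (x36 = T.m 6 ∧ x63 = T.m 3) ∧ Hide (T.a 3 6 = T.w 3 ∧ T.a 6 3 = T.w 6) ∧ Hide (α36 = 1 ∧ α63 = 1)) ∧ q36 = 1) ∨ ((Hide (x36 = T.m 6 ∧ x63 = 2 * T.m 3) ∧ Hide (T.a 3 6 = T.w 3 ∧ T.a 6 3 = 2 * T.w 6) ∧ Hide (α36 = 1 ∧ α63 = 2)) ∧ q36 = 2) ∨ ((Hide (x36 = 2 * T.m 6 ∧ x63 = T.m 3) ∧ Hide (T.a 3 6 = 2 * T.w 3 ∧ T.a 6 3 = T.w 6) ∧ Hide (α36 = 2 ∧ α63 = 1)) ∧ q36 = 2) ∨ ((Hide (x36 = T.m 6 ∧ x63 = 3 * T.m 3) ∧ Hide (T.a 3 6 = T.w 3 ∧ T.a 6 3 = 3 * T.w 6) ∧ Hide (α36 = 1 ∧ α63 = 3)) ∧ q36 = 3) ∨ ((Hide (x36 = 3 * T.m 6 ∧ x63 = T.m 3) ∧ Hide (T.a 3 6 = 3 * T.w 3 ∧ T.a 6 3 = T.w 6) ∧ Hide (α36 = 3 ∧ α63 = 1)) ∧ q36 = 3) ∨ ((Hide (x36 = T.m 6 ∧ x63 = 4 * T.m 3) ∧ Hide (T.a 3 6 = T.w 3 ∧ T.a 6 3 = 4 * T.w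 6) ∧ Hide (α36 = 1 ∧ α63 = 4)) ∧ q36 = 4) ∨ ((Hide (x36 = 4 * T.m 6 ∧ x63 = T.m 3) ∧ Hide (T.a 3 6 = 4 * T.w 3 ∧ T.a 6 3 = T.w 6) ∧ Hide (α36 = 4 ∧ α63 = 1)) ∧ q36 = 4) ∨ ((Hide (x36 = 2 * T.m 6 ∧ x63 = 2 * T.m 3) ∧ Hide (T.a 3 6 = 2 * T.w 3 ∧ T.a 6 3 = 2 * T.w 6) ∧ Hide (α36 = 2 ∧ α63 = 2)) ∧ q36 = 4)))
    (c37 : Hide (((Hide (x37 = 0 ∧ x73 = 0) ∧ Hide (T.a 3 7 = 0 ∧ T.a 7 3 = 0) ∧ Hide (α37 = 0 ∧ α73 = 0)) ∧ q37 = 0) ∨ ((Hide (x37 = T.m 7 ∧ x73 = T.m 3) ∧ Hide (T.a 3 7 = T.w 3 ∧ T.a 7 3 = T.w 7) ∧ Hide (α37 = 1 ∧ α73 = 1)) ∧ q37 = 1) ∨ ((Hide (x37 = T.m 7 ∧ x73 = 2 * T.m 3) ∧ Hide (T.a 3 7 = T.w 3 ∧ T.a 7 3 = 2 * T.w 7) ∧ Hide (α37 = 1 ∧ α73 = 2)) ∧ q37 = 2) ∨ ((Hide (x37 = 2 * T.m 7 ∧ x73 = T.m 3) ∧ Hide (T.a 3 7 = 2 * T.w 3 ∧ T.a 7 3 = T.w 7) ∧ Hide (α37 = 2 ∧ α73 = 1)) ∧ q37 = 2) ∨ ((Hide (x37 = T.m 7 ∧ x73 = 3 * T.m 3) ∧ Hide (T.a 3 7 = T.w 3 ∧ T.a 7 3 = 3 * T.w 7) ∧ Hide (α37 = 1 ∧ α73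 = 3)) ∧ q37 = 3) ∨ ((Hide (x37 = 3 * T.m 7 ∧ x73 = T.m 3) ∧ Hide (T.a 3 7 = 3 * T.w 3 ∧ T.a 7 3 = T.w 7) ∧ Hide (α37 = 3 ∧ α73 = 1)) ∧ q37 = 3) ∨ ((Hide (x37 = T.m 7 ∧ x73 = 4 * T.m 3) ∧ Hide (T.a 3 7 = T.w 3 ∧ T.a 7 3 = 4 * T.w 7) ∧ Hide (α37 = 1 ∧ α73 = 4)) ∧ q37 = 4) ∨ ((Hide (x37 = 4 * T.m 7 ∧ x73 = T.m 3) ∧ Hide (T.a 3 7 = 4 * T.w 3 ∧ T.a 7 3 = T.w 7) ∧ Hide (α37 = 4 ∧ α73 = 1)) ∧ q37 = 4) ∨ ((Hide (x37 = 2 * T.m 7 ∧ x73 = 2 * T.m 3) ∧ Hide (T.a 3 7 = 2 * T.w 3 ∧ T.a 7 3 = 2 * T.w 7) ∧ Hide (α37 = 2 ∧ α73 = 2)) ∧ q37 = 4)))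
    (c45 : Hide (((Hide (x45 = 0 ∧ x54 = 0) ∧ Hide (T.a 4 5 = 0 ∧ T.a 5 4 = 0) ∧ Hide (α45 = 0 ∧ α54 = 0)) ∧ q45 = 0) ∨ ((Hide (x45 = T.m 5 ∧ x54 = T.m 4) ∧ Hide (T.a 4 5 = T.w 4 ∧ T.a 5 4 = T.w 5) ∧ Hide (α45 = 1 ∧ α54 = 1)) ∧ q45 = 1) ∨ ((Hide (x45 = T.m 5 ∧ x54 = 2 * T.m 4) ∧ Hide (T.a 4 5 = T.w 4 ∧ T.a 5 4 = 2 * T.w 5) ∧ Hide (α45 = 1 ∧ α54 = 2)) ∧ q45 = 2) ∨ ((Hide (x45 = 2 * T.m 5 ∧ x54 = T.m 4) ∧ Hide (T.a 4 5 = 2 * T.w 4 ∧ T.a 5 4 = T.w 5) ∧ Hide (α45 = 2 ∧ α54 = 1)) ∧ q45 = 2) ∨ ((Hide (x45 = T.m 5 ∧ x54 = 3 * T.m 4) ∧ Hide (T.a 4 5 = T.w 4 ∧ T.a 5 4 = 3 * T.w 5) ∧ Hide (α45 = 1 ∧ α54 = 3)) ∧ q45 = 3) ∨ ((Hide (x45 = 3 * T.m 5 ∧ x54 = T.m 4) ∧ Hide (T.a 4 5 = 3 * T.w 4 ∧ T.a 5 4 = T.w 5) ∧ Hide (α45 = 3 ∧ α54 = 1)) ∧ q45 = 3) ∨ ((Hide (x45 = T.m 5 ∧ x54 = 4 * T.m 4) ∧ Hide (T.a 4 5 = T.w 4 ∧ T.a 5 4 = 4 * T.w 5) ∧ Hide (α45 = 1 ∧ α54 = 4)) ∧ q45 = 4) ∨ ((Hide (x45 = 4 * T.m 5 ∧ x54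 = T.m 4) ∧ Hide (T.a 4 5 = 4 * T.w 4 ∧ T.a 5 4 = T.w 5) ∧ Hide (α45 = 4 ∧ α54 = 1)) ∧ q45 = 4) ∨ ((Hide (x45 = 2 * T.m 5 ∧ x54 = 2 * T.m 4) ∧ Hide (T.a 4 5 = 2 * T.w 4 ∧ T.a 5 4 = 2 * T.w 5) ∧ Hide (α45 = 2 ∧ α54 = 2)) ∧ q45 = 4)))
    (c46 : Hide (((Hide (x46 = 0 ∧ x64 = 0) ∧ Hide (T.a 4 6 = 0 ∧ T.a 6 4 = 0) ∧ Hide (α46 = 0 ∧ α64 = 0)) ∧ q46 = 0) ∨ ((Hide (x46 = T.m 6 ∧ x64 = T.m 4) ∧ Hide (T.a 4 6 = T.w 4 ∧ T.a 6 4 = T.w 6) ∧ Hide (α46 = 1 ∧ α64 = 1)) ∧ q46 = 1) ∨ ((Hide (x46 = T.m 6 ∧ x64 = 2 * T.m 4) ∧ Hide (T.a 4 6 = T.w 4 ∧ T.a 6 4 = 2 * T.w 6) ∧ Hide (α46 = 1 ∧ α64 = 2)) ∧ q46 = 2) ∨ ((Hide (x46 = 2 * T.m 6 ∧ x64 = T.m 4) ∧ Hide (T.a 4 6 = 2 * T.w 4 ∧ T.a 6 4 = T.w 6) ∧ Hide (α46 = 2 ∧ α64 = 1)) ∧ q46 = 2) ∨ ((Hide (x46 = T.m 6 ∧ x64 = 3 * T.m 4) ∧ Hide (T.a 4 6 = T.w 4 ∧ T.a 6 4 = 3 * T.w 6) ∧ Hide (α46 = 1 ∧ α64 = 3)) ∧ q46 = 3) ∨ ((Hide (x46 = 3 * T.m 6 ∧ x64 = T.m 4) ∧ Hide (T.a 4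 6 = 3 * T.w 4 ∧ T.a 6 4 = T.w 6) ∧ Hide (α46 = 3 ∧ α64 = 1)) ∧ q46 = 3) ∨ ((Hide (x46 = T.m 6 ∧ x64 = 4 * T.m 4) ∧ Hide (T.a 4 6 = T.w 4 ∧ T.a 6 4 = 4 * T.w 6) ∧ Hide (α46 = 1 ∧ α64 = 4)) ∧ q46 = 4) ∨ ((Hide (x46 = 4 * T.m 6 ∧ x64 = T.m 4) ∧ Hide (T.a 4 6 = 4 * T.w 4 ∧ T.a 6 4 = T.w 6) ∧ Hide (α46 = 4 ∧ α64 = 1)) ∧ q46 = 4) ∨ ((Hide (x46 = 2 * T.m 6 ∧ x64 = 2 * T.m 4) ∧ Hide (T.a 4 6 = 2 * T.w 4 ∧ T.a 6 4 = 2 * T.w 6) ∧ Hide (α46 = 2 ∧ α64 = 2)) ∧ q46 = 4)))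
    (c47 : Hide (((Hide (x47 = 0 ∧ x74 = 0) ∧ Hide (T.a 4 7 = 0 ∧ T.a 7 4 = 0) ∧ Hide (α47 = 0 ∧ α74 = 0)) ∧ q47 = 0) ∨ ((Hide (x47 = T.m 7 ∧ x74 = T.m 4) ∧ Hide (T.a 4 7 = T.w 4 ∧ T.a 7 4 = T.w 7) ∧ Hide (α47 = 1 ∧ α74 = 1)) ∧ q47 = 1) ∨ ((Hide (x47 = T.m 7 ∧ x74 = 2 * T.m 4) ∧ Hide (T.a 4 7 = T.w 4 ∧ T.a 7 4 = 2 * T.w 7) ∧ Hide (α47 = 1 ∧ α74 = 2)) ∧ q47 = 2) ∨ ((Hide (x47 = 2 * T.m 7 ∧ x74 = T.m 4) ∧ Hide (T.a 4 7 = 2 * T.w 4 ∧ T.a 7 4 = T.w 7) ∧ Hide (α47 = 2 ∧ α74 = 1)) ∧ q47 = 2) ∨ ((Hide (x47 = T.m 7 ∧ x74 = 3 * T.m 4) ∧ Hide (T.a 4 7 = T.w 4 ∧ T.a 7 4 = 3 * T.w 7) ∧ Hide (α47 = 1 ∧ α74 = 3)) ∧ q47 = 3) ∨ ((Hide (x47 = 3 * T.m 7 ∧ x74 = T.m 4) ∧ Hide (T.a 4 7 = 3 * T.w 4 ∧ T.a 7 4 = T.w 7) ∧ Hide (α47 = 3 ∧ α74 = 1)) ∧ q47 = 3) ∨ ((Hide (x47 = T.m 7 ∧ x74 = 4 * T.m 4) ∧ Hide (T.a 4 7 = T.w 4 ∧ T.a 7 4 = 4 * T.w 7) ∧ Hide (α47 = 1 ∧ α74 = 4)) ∧ q47 = 4) ∨ ((Hide (x47 = 4 * T.m 7 ∧ x74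 = T.m 4) ∧ Hide (T.a 4 7 = 4 * T.w 4 ∧ T.a 7 4 = T.w 7) ∧ Hide (α47 = 4 ∧ α74 = 1)) ∧ q47 = 4) ∨ ((Hide (x47 = 2 * T.m 7 ∧ x74 = 2 * T.m 4) ∧ Hide (T.a 4 7 = 2 * T.w 4 ∧ T.a 7 4 = 2 * T.w 7) ∧ Hide (α47 = 2 ∧ α74 = 2)) ∧ q47 = 4)))
    (c56 : Hide (((Hide (x56 = 0 ∧ x65 = 0) ∧ Hide (T.a 5 6 = 0 ∧ T.a 6 5 = 0) ∧ Hide (α56 = 0 ∧ α65 = 0)) ∧ q56 = 0) ∨ ((Hide (x56 = T.m 6 ∧ x65 = T.m 5) ∧ Hide (T.a 5 6 = T.w 5 ∧ T.a 6 5 = T.w 6) ∧ Hide (α56 = 1 ∧ α65 = 1)) ∧ q56 = 1) ∨ ((Hide (x56 = T.m 6 ∧ x65 = 2 * T.m 5) ∧ Hide (T.a 5 6 = T.w 5 ∧ T.a 6 5 = 2 * T.w 6) ∧ Hide (α56 = 1 ∧ α65 = 2)) ∧ q56 = 2) ∨ ((Hide (x56 = 2 * T.m 6 ∧ x65 = T.m 5) ∧ Hide (T.a 5 6 = 2 * T.w 5 ∧ T.a 6 5 = T.w 6) ∧ Hide (α56 = 2 ∧ α65 = 1)) ∧ q56 = 2) ∨ ((Hide (x56 = T.m 6 ∧ x65 = 3 * T.m 5) ∧ Hide (T.a 5 6 = T.w 5 ∧ T.a 6 5 = 3 * T.w 6) ∧ Hide (α56 = 1 ∧ α65 = 3)) ∧ q56 = 3) ∨ ((Hide (x56 = 3 * T.m 6 ∧ x65 = T.m 5) ∧ Hide (T.a 5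 6 = 3 * T.w 5 ∧ T.a 6 5 = T.w 6) ∧ Hide (α56 = 3 ∧ α65 = 1)) ∧ q56 = 3) ∨ ((Hide (x56 = T.m 6 ∧ x65 = 4 * T.m 5) ∧ Hide (T.a 5 6 = T.w 5 ∧ T.a 6 5 = 4 * T.w 6) ∧ Hide (α56 = 1 ∧ α65 = 4)) ∧ q56 = 4) ∨ ((Hide (x56 = 4 * T.m 6 ∧ x65 = T.m 5) ∧ Hide (T.a 5 6 = 4 * T.w 5 ∧ T.a 6 5 = T.w 6) ∧ Hide (α56 = 4 ∧ α65 = 1)) ∧ q56 = 4) ∨ ((Hide (x56 = 2 * T.m 6 ∧ x65 = 2 * T.m 5) ∧ Hide (T.a 5 6 = 2 * T.w 5 ∧ T.a 6 5 = 2 * T.w 6) ∧ Hide (α56 = 2 ∧ α65 = 2)) ∧ q56 = 4)))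
    (c57 : Hide (((Hide (x57 = 0 ∧ x75 = 0) ∧ Hide (T.a 5 7 = 0 ∧ T.a 7 5 = 0) ∧ Hide (α57 = 0 ∧ α75 = 0)) ∧ q57 = 0) ∨ ((Hide (x57 = T.m 7 ∧ x75 = T.m 5) ∧ Hide (T.a 5 7 = T.w 5 ∧ T.a 7 5 = T.w 7) ∧ Hide (α57 = 1 ∧ α75 = 1)) ∧ q57 = 1) ∨ ((Hide (x57 = T.m 7 ∧ x75 = 2 * T.m 5) ∧ Hide (T.a 5 7 = T.w 5 ∧ T.a 7 5 = 2 * T.w 7) ∧ Hide (α57 = 1 ∧ α75 = 2)) ∧ q57 = 2) ∨ ((Hide (x57 = 2 * T.m 7 ∧ x75 = T.m 5) ∧ Hide (T.a 5 7 = 2 * T.w 5 ∧ T.a 7 5 = T.w 7) ∧ Hide (α57 = 2 ∧ α75 = 1)) ∧ q57 = 2) ∨ ((Hide (x57 = T.m 7 ∧ x75 = 3 * T.m 5) ∧ Hide (T.a 5 7 = T.w 5 ∧ T.a 7 5 = 3 * T.w 7) ∧ Hide (α57 = 1 ∧ α75 = 3)) ∧ q57 = 3) ∨ ((Hide (x57 = 3 * T.m 7 ∧ x75 = T.m 5) ∧ Hide (T.a 5 7 = 3 * T.w 5 ∧ T.a 7 5 = T.w 7) ∧ Hide (α57 = 3 ∧ α75 = 1)) ∧ q57 = 3) ∨ ((Hide (x57 = T.m 7 ∧ x75 = 4 * T.m 5) ∧ Hide (T.a 5 7 = T.w 5 ∧ T.a 7 5 = 4 * T.w 7) ∧ Hide (α57 = 1 ∧ α75 = 4)) ∧ q57 = 4) ∨ ((Hide (x57 = 4 * T.m 7 ∧ x75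 = T.m 5) ∧ Hide (T.a 5 7 = 4 * T.w 5 ∧ T.a 7 5 = T.w 7) ∧ Hide (α57 = 4 ∧ α75 = 1)) ∧ q57 = 4) ∨ ((Hide (x57 = 2 * T.m 7 ∧ x75 = 2 * T.m 5) ∧ Hide (T.a 5 7 = 2 * T.w 5 ∧ T.a 7 5 = 2 * T.w 7) ∧ Hide (α57 = 2 ∧ α75 = 2)) ∧ q57 = 4)))
    (c67 : Hide (((Hide (x67 = 0 ∧ x76 = 0) ∧ Hide (T.a 6 7 = 0 ∧ T.a 7 6 = 0) ∧ Hide (α67 = 0 ∧ α76 = 0)) ∧ q67 = 0) ∨ ((Hide (x67 = T.m 7 ∧ x76 = T.m 6) ∧ Hide (T.a 6 7 = T.w 6 ∧ T.a 7 6 = T.w 7) ∧ Hide (α67 = 1 ∧ α76 = 1)) ∧ q67 = 1) ∨ ((Hide (x67 = T.m 7 ∧ x76 = 2 * T.m 6) ∧ Hide (T.a 6 7 = T.w 6 ∧ T.a 7 6 = 2 * T.w 7) ∧ Hide (α67 = 1 ∧ α76 = 2)) ∧ q67 = 2) ∨ ((Hide (x67 = 2 * T.m 7 ∧ x76 = T.m 6) ∧ Hide (T.a 6 7 = 2 * T.w 6 ∧ T.a 7 6 = T.w 7) ∧ Hide (α67 = 2 ∧ α76 = 1)) ∧ q67 = 2) ∨ ((Hide (x67 = T.m 7 ∧ x76 = 3 * T.m 6) ∧ Hide (T.a 6 7 = T.w 6 ∧ T.a 7 6 = 3 * T.w 7) ∧ Hide (α67 = 1 ∧ α76 = 3)) ∧ q67 = 3) ∨ ((Hide (x67 = 3 * T.m 7 ∧ x76 = T.m 6) ∧ Hide (T.a 6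 7 = 3 * T.w 6 ∧ T.a 7 6 = T.w 7) ∧ Hide (α67 = 3 ∧ α76 = 1)) ∧ q67 = 3) ∨ ((Hide (x67 = T.m 7 ∧ x76 = 4 * T.m 6) ∧ Hide (T.a 6 7 = T.w 6 ∧ T.a 7 6 = 4 * T.w 7) ∧ Hide (α67 = 1 ∧ α76 = 4)) ∧ q67 = 4) ∨ ((Hide (x67 = 4 * T.m 7 ∧ x76 = T.m 6) ∧ Hide (T.a 6 7 = 4 * T.w 6 ∧ T.a 7 6 = T.w 7) ∧ Hide (α67 = 4 ∧ α76 = 1)) ∧ q67 = 4) ∨ ((Hide (x67 = 2 * T.m 7 ∧ x76 = 2 * T.m 6) ∧ Hide (T.a 6 7 = 2 * T.w 6 ∧ T.a 7 6 = 2 * T.w 7) ∧ Hide (α67 = 2 ∧ α76 = 2)) ∧ q67 = 4)))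
    (gw01 : Hide (T.a 0 1 = T.w 0 ∧ T.a 1 0 = T.w 1))
    (gw02 : Hide (T.a 0 2 = 0 ∧ T.a 2 0 = 0))
    (gw03 : Hide (T.a 0 3 = 0 ∧ T.a 3 0 = 0))
    (gw04 : Hide (T.a 0 4 = 0 ∧ T.a 4 0 = 0))
    (gw05 : Hide (T.a 0 5 = 0 ∧ T.a 5 0 = 0))
    (gw06 : Hide (T.a 0 6 = 0 ∧ T.a 6 0 = 0))
    (gw07 : Hide (T.a 0 7 = 0 ∧ T.a 7 0 = 0))
    (gw12 : Hide (T.a 1 2 = T.w 1 ∧ T.a 2 1 = T.w 2))
    (gw13 : Hide (T.a 1 3 = 0 ∧ T.a 3 1 = 0))
    (gw14 : Hide (T.a 1 4 = 0 ∧ T.a 4 1 = 0))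
    (gw15 : Hide (T.a 1 5 = 0 ∧ T.a 5 1 = 0))
    (gw16 : Hide (T.a 1 6 = 0 ∧ T.a 6 1 = 0))
    (gw17 : Hide (T.a 1 7 = 0 ∧ T.a 7 1 = 0))
    (gw23 : Hide (T.a 2 3 = T.w 2 ∧ T.a 3 2 = T.w 3))
    (gw24 : Hide (T.a 2 4 = 0 ∧ T.a 4 2 = 0))
    (gw25 : Hide (T.a 2 5 = 0 ∧ T.a 5 2 = 0))
    (gw26 : Hide (T.a 2 6 = 0 ∧ T.a 6 2 = 0))
    (gw27 : Hide (T.a 2 7 = 0 ∧ T.a 7 2 = 0))
    (gw34 : Hide (T.a 3 4 = T.w 3 ∧ T.a 4 3 = T.w 4))
    (gw35 : Hide (T.a 3 5 = 0 ∧ T.a 5 3 = 0)) : Goal T := by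
  have t := pc2 q36 c36.out (by have := v3.out; have := qn37.out; omega)
  clear c36
  rcases t with ⟨⟨⟨rfl, rfl⟩, gw36, ⟨rfl, rfl⟩⟩, rfl⟩ | ⟨⟨⟨rfl, rfl⟩, gw36, ⟨rfl, rfl⟩⟩, rfl⟩ | ⟨⟨⟨rfl, rfl⟩, gw36, ⟨rfl, rfl⟩⟩, rfl⟩ | ⟨⟨⟨rfl, rfl⟩, gw36, ⟨rfl, rfl⟩⟩, rfl⟩
  · have t := pc2 q37 c37.out (by have := v3.out; omega)
    clear c37
    rcases t with ⟨⟨⟨rfl, rfl⟩, gw37, ⟨rfl, rfl⟩⟩, rfl⟩ | ⟨⟨⟨rfl, rfl⟩, gw37, ⟨rfl, rfl⟩⟩, rfl⟩ | ⟨⟨⟨rfl, rfl⟩, gw37, ⟨rfl, rfl⟩⟩, rfl⟩ | ⟨⟨⟨rfl, rfl⟩, gw37, ⟨rfl, rfl⟩⟩, rfl⟩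
    · have t := pc3 q45 c45.out (by have := v4.out; have := qn46.out; have := qn47.out; omega)
      clear c45
      rcases t with ⟨⟨⟨rfl, rfl⟩, gw45, ⟨rfl, rfl⟩⟩, rfl⟩ | ⟨⟨⟨rfl, rfl⟩, gw45, ⟨rfl, rfl⟩⟩, rfl⟩ | ⟨⟨⟨rfl, rfl⟩, gw45, ⟨rfl, rfl⟩⟩, rfl⟩ | ⟨⟨⟨rfl, rfl⟩, gw45, ⟨rfl, rfl⟩⟩, rfl⟩ | ⟨⟨⟨rfl, rfl⟩, gw45, ⟨rfl, rfl⟩⟩, rfl⟩ | ⟨⟨⟨rfl, rfl⟩, gw45, ⟨rfl, rfl⟩⟩, rfl⟩
      · (have := od5.out; omega)
      · have t := pc2 q46 c46.out (by have := v4.out; have := qn47.out; omega)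
        clear c46
        rcases t with ⟨⟨⟨rfl, rfl⟩, gw46, ⟨rfl, rfl⟩⟩, rfl⟩ | ⟨⟨⟨rfl, rfl⟩, gw46, ⟨rfl, rfl⟩⟩, rfl⟩ | ⟨⟨⟨rfl, rfl⟩, gw46, ⟨rfl, rfl⟩⟩, rfl⟩ | ⟨⟨⟨rfl, rfl⟩, gw46, ⟨rfl, rfl⟩⟩, rfl⟩
        · have t := pc2 q47 c47.out (by have := v4.out; omega)
          clear c47
          rcases t with ⟨⟨⟨rfl, rfl⟩, gw47, ⟨rfl, rfl⟩⟩, rfl⟩ | ⟨⟨⟨rfl, rfl⟩, gw47, ⟨rfl, rfl⟩⟩, rfl⟩ | ⟨⟨⟨rfl, rfl⟩, gw47, ⟨rfl, rfl⟩⟩, rfl⟩ | ⟨⟨⟨rfl, rfl⟩, gw47, ⟨rfl, rfl⟩⟩, rfl⟩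
          · have t := pc3 q56 c56.out (by have := v5.out; have := qn57.out; omega)
            clear c56
            rcases t with ⟨⟨⟨rfl, rfl⟩, gw56, ⟨rfl, rfl⟩⟩, rfl⟩ | ⟨⟨⟨rfl, rfl⟩, gw56, ⟨rfl, rfl⟩⟩, rfl⟩ | ⟨⟨⟨rfl, rfl⟩, gw56, ⟨rfl, rfl⟩⟩, rfl⟩ | ⟨⟨⟨rfl, rfl⟩, gw56, ⟨rfl, rfl⟩⟩, rfl⟩ | ⟨⟨⟨rfl, rfl⟩, gw56, ⟨rfl, rfl⟩⟩, rfl⟩ | ⟨⟨⟨rfl, rfl⟩, gw56, ⟨rfl, rfl⟩⟩, rfl⟩
            · (have := od6.out; omega)
            · have t := pc2 q57 c57.out (by have := v5.out; omega)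
              clear c57
              rcases t with ⟨⟨⟨rfl, rfl⟩, gw57, ⟨rfl, rfl⟩⟩, rfl⟩ | ⟨⟨⟨rfl, rfl⟩, gw57, ⟨rfl, rfl⟩⟩, rfl⟩ | ⟨⟨⟨rfl, rfl⟩, gw57, ⟨rfl, rfl⟩⟩, rfl⟩ | ⟨⟨⟨rfl, rfl⟩, gw57, ⟨rfl, rfl⟩⟩, rfl⟩
              · have t := pc3 q67 c67.out (by have := v6.out; omega)
                clear c67
                rcases t with ⟨⟨⟨rfl, rfl⟩, gw67, ⟨rfl, rfl⟩⟩, rfl⟩ | ⟨⟨⟨rfl, rfl⟩, gw67, ⟨rfl, rfl⟩⟩, rfl⟩ | ⟨⟨⟨rfl, rfl⟩, gw67, ⟨rfl, rfl⟩⟩, rfl⟩ | ⟨⟨⟨rfl, rfl⟩, gw67, ⟨rfl, rfl⟩⟩, rfl⟩ | ⟨⟨⟨rfl, rfl⟩, gw67, ⟨rfl, rfl⟩⟩, rfl⟩ | ⟨⟨⟨rfl, rfl⟩, gw67, ⟨rfl, rfl⟩⟩, rfl⟩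
                · (have := od7.out; omega)
                · (have := hm2.out; have := om7.out; have := e0.out; have := e1.out; have := e3.out; have := e4.out; have := e5.out; have := e6.out; have := e7.out; omega)
                · (have := hm2.out; have := e0.out; have := e1.out; have := e2.out; have := e3.out; have := e4.out; have := e5.out; have := e6.out; have := e7.out; omega)
                · (have := hm2.out; have := e0.out; have := e1.out; have := e2.out; have := e3.out; have := e4.out; have := e5.out; have := e6.out; have := e7.out; omega)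
                · (have := hm4.out; have := e5.out; have := e6.out; have := e7.out; omega)
                · (have := hm4.out; have := e5.out; have := e6.out; have := e7.out; omega)
              · have t := pc3 q67 c67.out (by have := v6.out; omega)
                clear c67
                rcases t with ⟨⟨⟨rfl, rfl⟩, gw67, ⟨rfl, rfl⟩⟩, rfl⟩ | ⟨⟨⟨rfl, rfl⟩, gw67, ⟨rfl, rfl⟩⟩, rfl⟩ | ⟨⟨⟨rfl, rfl⟩, gw67, ⟨rfl, rfl⟩⟩, rfl⟩ | ⟨⟨⟨rfl, rfl⟩, gw67, ⟨rfl, rfl⟩⟩, rfl⟩ | ⟨⟨⟨rfl, rfl⟩, gw67, ⟨rfl, rfl⟩⟩, rfl⟩ | ⟨⟨⟨rfl, rfl⟩, gw67, ⟨rfl, rfl⟩⟩, rfl⟩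
                · (have := hm6.out; have := om7.out; have := e1.out; have := e2.out; have := e3.out; have := e4.out; have := e5.out; have := e6.out; have := e7.out; omega)
                · (have := hm4.out; have := e5.out; have := e6.out; have := e7.out; omega)
                · (have := hm4.out; have := hm6.out; have := e5.out; have := e6.out; have := e7.out; omega)
                · (have := hm4.out; have := hm7.out; have := e5.out; have := e6.out; have := e7.out; omega)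
                · (have := hm4.out; have := hm7.out; have := e5.out; have := e6.out; have := e7.out; omega)
                · (have := hm4.out; have := hm6.out; have := e5.out; have := e6.out; have := e7.out; omega)
              · (have := hm3.out; have := e4.out; have := e5.out; have := e6.out; have := r67.out; have := e7.out; have := r76.out; omega)
              · (have := hm3.out; have := e4.out; have := e5.out; have := e6.out; have := r67.out; have := e7.out; have := r76.out; omega)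
            · have t := pc1 q57 c57.out (by have := v5.out; omega)
              clear c57
              rcases t with ⟨⟨⟨rfl, rfl⟩, gw57, ⟨rfl, rfl⟩⟩, rfl⟩ | ⟨⟨⟨rfl, rfl⟩, gw57, ⟨rfl, rfl⟩⟩, rfl⟩
              · have t := pc2 q67 c67.out (by have := v6.out; omega)
                clear c67
                rcases t with ⟨⟨⟨rfl, rfl⟩, gw67, ⟨rfl, rfl⟩⟩, rfl⟩ | ⟨⟨⟨rfl, rfl⟩, gw67, ⟨rfl, rfl⟩⟩, rfl⟩ | ⟨⟨⟨rfl, rfl⟩, gw67, ⟨rfl, rfl⟩⟩, rfl⟩ | ⟨⟨⟨rfl, rfl⟩, gw67, ⟨rfl, rfl⟩⟩, rfl⟩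
                · (have := od7.out; omega)
                · (have := hm2.out; have := e3.out; have := e4.out; have := e5.out; have := e6.out; have := e7.out; omega)
                · (have := hm4.out; have := e5.out; have := e6.out; have := e7.out; omega)
                · (have := hm4.out; have := e5.out; have := e6.out; have := e7.out; omega)
              · (have := hm3.out; have := e4.out; have := e5.out; have := e6.out; have := r67.out; have := e7.out; have := r76.out; omega)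
            · have t := pc1 q57 c57.out (by have := v5.out; omega)
              clear c57
              rcases t with ⟨⟨⟨rfl, rfl⟩, gw57, ⟨rfl, rfl⟩⟩, rfl⟩ | ⟨⟨⟨rfl, rfl⟩, gw57, ⟨rfl, rfl⟩⟩, rfl⟩
              · have t := pc2 q67 c67.out (by have := v6.out; omega)
                clear c67
                rcases t with ⟨⟨⟨rfl, rfl⟩, gw67, ⟨rfl, rfl⟩⟩, rfl⟩ | ⟨⟨⟨rfl, rfl⟩, gw67, ⟨rfl, rfl⟩⟩, rfl⟩ | ⟨⟨⟨rfl, rfl⟩, gw67, ⟨rfl, rfl⟩⟩, rfl⟩ | ⟨⟨⟨rfl, rfl⟩, gw67, ⟨rfl, rfl⟩⟩, rfl⟩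
                · (have := od7.out; omega)
                · (have := hm2.out; have := e3.out; have := e4.out; have := e5.out; have := e6.out; have := e7.out; omega)
                · (have := hm4.out; have := e5.out; have := e6.out; have := e7.out; omega)
                · (have := hm4.out; have := e5.out; have := e6.out; have := e7.out; omega)
              · (have := hm3.out; have := e4.out; have := e5.out; have := e6.out; have := r67.out; have := e7.out; have := r76.out; omega)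
            · (have := hm3.out; have := e4.out; have := e5.out; have := r57.out; have := e6.out; have := r67.out; omega)
            · (have := hm3.out; have := e4.out; have := e5.out; have := r57.out; have := e6.out; have := r67.out; omega)
          · have t := pc3 q56 c56.out (by have := v5.out; have := qn57.out; omega)
            clear c56
            rcases t with ⟨⟨⟨rfl, rfl⟩, gw56, ⟨rfl, rfl⟩⟩, rfl⟩ | ⟨⟨⟨rfl, rfl⟩, gw56, ⟨rfl, rfl⟩⟩, rfl⟩ | ⟨⟨⟨rfl, rfl⟩, gw56, ⟨rfl, rfl⟩⟩, rfl⟩ | ⟨⟨⟨rfl, rfl⟩, gw56, ⟨rfl, rfl⟩⟩, rfl⟩ | ⟨⟨⟨rfl, rfl⟩, gw56, ⟨rfl, rfl⟩⟩, rfl⟩ | ⟨⟨⟨rfl, rfl⟩, gw56, ⟨rfl, rfl⟩⟩, rfl⟩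
            · (have := od6.out; omega)
            · have t := pc2 q57 c57.out (by have := v5.out; omega)
              clear c57
              rcases t with ⟨⟨⟨rfl, rfl⟩, gw57, ⟨rfl, rfl⟩⟩, rfl⟩ | ⟨⟨⟨rfl, rfl⟩, gw57, ⟨rfl, rfl⟩⟩, rfl⟩ | ⟨⟨⟨rfl, rfl⟩, gw57, ⟨rfl, rfl⟩⟩, rfl⟩ | ⟨⟨⟨rfl, rfl⟩, gw57, ⟨rfl, rfl⟩⟩, rfl⟩
              · have t := pc3 q67 c67.out (by have := v6.out; omega)
                clear c67
                rcases t with ⟨⟨⟨rfl, rfl⟩, gw67, ⟨rfl, rfl⟩⟩, rfl⟩ | ⟨⟨⟨rfl, rfl⟩, gw67, ⟨rfl, rfl⟩⟩, rfl⟩ | ⟨⟨⟨rfl, rfl⟩, gw67, ⟨rfl, rfl⟩⟩, rfl⟩ | ⟨⟨⟨rfl, rfl⟩, gw67, ⟨rfl, rfl⟩⟩, rfl⟩ | ⟨⟨⟨rfl, rfl⟩, gw67, ⟨rfl, rfl⟩⟩, rfl⟩ | ⟨⟨⟨rfl, rfl⟩, gw67, ⟨rfl, rfl⟩⟩, rfl⟩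
                · (have := hm2.out; have := e0.out; have := e1.out; have := e2.out; have := e3.out; have := e4.out; have := e5.out; have := e6.out; have := e7.out; omega)
                · (have := hm1.out; have := hm7.out; have := e2.out; have := e3.out; have := e4.out; have := e5.out; have := e6.out; have := e7.out; omega)
                · (have := hm2.out; have := hm7.out; have := e3.out; have := e4.out; have := e5.out; have := e6.out; have := e7.out; omega)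
                · (have := hm1.out; have := hm6.out; have := om5.out; have := e1.out; have := e3.out; have := e4.out; have := e5.out; have := e6.out; have := e7.out; omega)
                · (have := hm1.out; have := om5.out; have := e0.out; have := e1.out; have := e2.out; have := e4.out; have := e6.out; have := e7.out; omega)
                · (have := hm2.out; have := om5.out; have := e0.out; have := e2.out; have := e4.out; have := e6.out; have := e7.out; omega)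
              · (have := hm2.out; have := hm6.out; have := om6.out; have := e1.out; have := e2.out; have := e4.out; have := e5.out; have := e7.out; have := r76.out; omega)
              · (have := hm2.out; have := om5.out; have := om6.out; have := e0.out; have := e2.out; have := e4.out; have := e5.out; have := e7.out; have := r76.out; omega)
              · (have := hm1.out; have := hm5.out; have := om6.out; have := e1.out; have := e3.out; have := e4.out; have := e5.out; have := e7.out; have := r76.out; omega)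
            · (have := hm1.out; have := hm6.out; have := e2.out; have := e3.out; have := e4.out; have := e5.out; have := r57.out; have := e6.out; have := r67.out; have := e7.out; have := r75.out; have := r76.out; omega)
            · (have := hm1.out; have := hm6.out; have := e2.out; have := e3.out; have := e4.out; have := e5.out; have := r57.out; have := e6.out; have := r67.out; have := e7.out; have := r75.out; have := r76.out; omega)
            · (have := hm2.out; have := om4.out; have := e1.out; have := e2.out; have := e4.out; have := e5.out; have := r57.out; have := e6.out; have := r67.out; have := e7.out; have := r75.out; have := r76.out; omega)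
            · (have := hm2.out; have := om4.out; have := e1.out; have := e2.out; have := e4.out; have := e5.out; have := r57.out; have := e6.out; have := r67.out; have := e7.out; have := r75.out; have := r76.out; omega)
          · (have := hm2.out; have := e3.out; have := e4.out; have := e5.out; have := r56.out; have := r57.out; have := e7.out; have := r75.out; have := r76.out; omega)
          · (have := hm2.out; have := e3.out; have := e4.out; have := e5.out; have := r56.out; have := r57.out; have := e7.out; have := r75.out; have := r76.out; omega)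
        · have t := pc1 q47 c47.out (by have := v4.out; omega)
          clear c47
          rcases t with ⟨⟨⟨rfl, rfl⟩, gw47, ⟨rfl, rfl⟩⟩, rfl⟩ | ⟨⟨⟨rfl, rfl⟩, gw47, ⟨rfl, rfl⟩⟩, rfl⟩
          · have t := pc3 q56 c56.out (by have := v5.out; have := qn57.out; omega)
            clear c56
            rcases t with ⟨⟨⟨rfl, rfl⟩, gw56, ⟨rfl, rfl⟩⟩, rfl⟩ | ⟨⟨⟨rfl, rfl⟩, gw56, ⟨rfl, rfl⟩⟩, rfl⟩ | ⟨⟨⟨rfl, rfl⟩, gw56, ⟨rfl, rfl⟩⟩, rfl⟩ | ⟨⟨⟨rfl, rfl⟩, gw56, ⟨rfl, rfl⟩⟩, rfl⟩ | ⟨⟨⟨rfl, rfl⟩, gw56, ⟨rfl, rfl⟩⟩, rfl⟩ | ⟨⟨⟨rfl, rfl⟩, gw56, ⟨rfl, rfl⟩⟩, rfl⟩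
            · have t := pc3 q57 c57.out (by have := v5.out; omega)
              clear c57
              rcases t with ⟨⟨⟨rfl, rfl⟩, gw57, ⟨rfl, rfl⟩⟩, rfl⟩ | ⟨⟨⟨rfl, rfl⟩, gw57, ⟨rfl, rfl⟩⟩, rfl⟩ | ⟨⟨⟨rfl, rfl⟩, gw57, ⟨rfl, rfl⟩⟩, rfl⟩ | ⟨⟨⟨rfl, rfl⟩, gw57, ⟨rfl, rfl⟩⟩, rfl⟩ | ⟨⟨⟨rfl, rfl⟩, gw57, ⟨rfl, rfl⟩⟩, rfl⟩ | ⟨⟨⟨rfl, rfl⟩, gw57, ⟨rfl, rfl⟩⟩, rfl⟩
              · have t := pc3 q67 c67.out (by have := v6.out; omega)
                clear c67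
                rcases t with ⟨⟨⟨rfl, rfl⟩, gw67, ⟨rfl, rfl⟩⟩, rfl⟩ | ⟨⟨⟨rfl, rfl⟩, gw67, ⟨rfl, rfl⟩⟩, rfl⟩ | ⟨⟨⟨rfl, rfl⟩, gw67, ⟨rfl, rfl⟩⟩, rfl⟩ | ⟨⟨⟨rfl, rfl⟩, gw67, ⟨rfl, rfl⟩⟩, rfl⟩ | ⟨⟨⟨rfl, rfl⟩, gw67, ⟨rfl, rfl⟩⟩, rfl⟩ | ⟨⟨⟨rfl, rfl⟩, gw67, ⟨rfl, rfl⟩⟩, rfl⟩
                · (have := od7.out; omega)
                · (have := hm2.out; have := e0.out; have := e1.out; have := e2.out; have := e3.out; have := e4.out; have := e5.out; have := e6.out; have := e7.out; omega)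
                · (have := hm2.out; have := e3.out; have := e4.out; have := e5.out; have := e6.out; have := e7.out; omega)
                · (have := hm2.out; have := e3.out; have := e4.out; have := e5.out; have := e6.out; have := e7.out; omega)
                · (have := hm2.out; have := om4.out; have := e1.out; have := e2.out; have := e4.out; have := e5.out; have := e6.out; have := e7.out; omega)
                · (have := hm2.out; have := om4.out; have := e1.out; have := e2.out; have := e4.out; have := e5.out; have := e6.out; have := e7.out; omega)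
              · have t := pc3 q67 c67.out (by have := v6.out; omega)
                clear c67
                rcases t with ⟨⟨⟨rfl, rfl⟩, gw67, ⟨rfl, rfl⟩⟩, rfl⟩ | ⟨⟨⟨rfl, rfl⟩, gw67, ⟨rfl, rfl⟩⟩, rfl⟩ | ⟨⟨⟨rfl, rfl⟩, gw67, ⟨rfl, rfl⟩⟩, rfl⟩ | ⟨⟨⟨rfl, rfl⟩, gw67, ⟨rfl, rfl⟩⟩, rfl⟩ | ⟨⟨⟨rfl, rfl⟩, gw67, ⟨rfl, rfl⟩⟩, rfl⟩ | ⟨⟨⟨rfl, rfl⟩, gw67, ⟨rfl, rfl⟩⟩, rfl⟩
                · (have := hm2.out; have := e0.out; have := e1.out; have := e2.out; have := e3.out; have := e4.out; have := e5.out; have := e6.out; have := e7.out; omega)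
                · (have := hm1.out; have := hm6.out; have := e2.out; have := e3.out; have := e4.out; have := e5.out; have := e6.out; have := e7.out; omega)
                · (have := hm1.out; have := hm7.out; have := om5.out; have := e1.out; have := e3.out; have := e4.out; have := e5.out; have := e6.out; have := e7.out; omega)
                · (have := hm2.out; have := hm6.out; have := e3.out; have := e4.out; have := e5.out; have := e6.out; have := e7.out; omega)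
                · (have := hm2.out; have := om5.out; have := e0.out; have := e2.out; have := e4.out; have := e6.out; have := e7.out; omega)
                · (have := hm1.out; have := om5.out; have := e0.out; have := e1.out; have := e2.out; have := e4.out; have := e6.out; have := e7.out; omega)
              · (have := hm2.out; have := e3.out; have := e4.out; have := e5.out; have := e6.out; have := r67.out; have := e7.out; have := r76.out; omega)
              · (have := hm2.out; have := e3.out; have := e4.out; have := e5.out; have := e6.out; have := r67.out; have := e7.out; have := r76.out; omega)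
              · (have := hm2.out; have := om4.out; have := e1.out; have := e2.out; have := e4.out; have := e5.out; have := e6.out; have := r67.out; have := e7.out; have := r76.out; omega)
              · (have := hm2.out; have := om4.out; have := e1.out; have := e2.out; have := e4.out; have := e5.out; have := e6.out; have := r67.out; have := e7.out; have := r76.out; omega)
            · (have := hm3.out; have := e4.out; have := e5.out; have := r57.out; have := e6.out; have := r67.out; omega)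
            · (have := hm2.out; have := hm5.out; have := om5.out; have := e1.out; have := e2.out; have := e4.out; have := e5.out; have := r57.out; have := e6.out; have := r67.out; omega)
            · (have := hm2.out; have := hm5.out; have := e3.out; have := e4.out; have := e5.out; have := r57.out; have := e6.out; have := r67.out; omega)
            · (have := hm2.out; have := om5.out; have := e0.out; have := e2.out; have := e4.out; have := e5.out; have := r57.out; have := e6.out; have := r67.out; omega)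
            · (have := hm2.out; have := om6.out; have := e0.out; have := e2.out; have := e4.out; have := e5.out; have := r57.out; have := e6.out; have := r67.out; omega)
          · (have := hm1.out; have := hm6.out; have := e2.out; have := e3.out; have := e4.out; have := e5.out; have := r56.out; have := r57.out; have := e6.out; have := r65.out; have := r67.out; have := e7.out; have := r75.out; have := r76.out; omega)
        · (have := hm2.out; have := e3.out; have := e4.out; have := r47.out; have := e5.out; have := r56.out; have := r57.out; have := e6.out; have := r65.out; have := r67.out; omega)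
        · (have := hm2.out; have := e3.out; have := e4.out; have := r47.out; have := e5.out; have := r56.out; have := r57.out; have := e6.out; have := r65.out; have := r67.out; omega)
      · have t := pc1 q46 c46.out (by have := v4.out; have := qn47.out; omega)
        clear c46
        rcases t with ⟨⟨⟨rfl, rfl⟩, gw46, ⟨rfl, rfl⟩⟩, rfl⟩ | ⟨⟨⟨rfl, rfl⟩, gw46, ⟨rfl, rfl⟩⟩, rfl⟩
        · have t := pc1 q47 c47.out (by have := v4.out; omega)
          clear c47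
          rcases t with ⟨⟨⟨rfl, rfl⟩, gw47, ⟨rfl, rfl⟩⟩, rfl⟩ | ⟨⟨⟨rfl, rfl⟩, gw47, ⟨rfl, rfl⟩⟩, rfl⟩
          · have t := pc2 q56 c56.out (by have := v5.out; have := qn57.out; omega)
            clear c56
            rcases t with ⟨⟨⟨rfl, rfl⟩, gw56, ⟨rfl, rfl⟩⟩, rfl⟩ | ⟨⟨⟨rfl, rfl⟩, gw56, ⟨rfl, rfl⟩⟩, rfl⟩ | ⟨⟨⟨rfl, rfl⟩, gw56, ⟨rfl, rfl⟩⟩, rfl⟩ | ⟨⟨⟨rfl, rfl⟩, gw56, ⟨rfl, rfl⟩⟩, rfl⟩
            · (have := od6.out; omega)
            · (have := hm1.out; have := e2.out; have := e3.out; have := e4.out; have := e5.out; have := r57.out; have := e6.out; have := r67.out; omega)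
            · (have := hm3.out; have := e4.out; have := e5.out; have := r57.out; have := e6.out; have := r67.out; omega)
            · (have := hm3.out; have := e4.out; have := e5.out; have := r57.out; have := e6.out; have := r67.out; omega)
          · (have := hm2.out; have := e3.out; have := e4.out; have := e5.out; have := r56.out; have := r57.out; have := e7.out; have := r75.out; have := r76.out; omega)
        · (have := hm2.out; have := e3.out; have := e4.out; have := r47.out; have := e5.out; have := r56.out; have := r57.out; have := e6.out; have := r65.out; have := r67.out; omega)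
      · have t := pc1 q46 c46.out (by have := v4.out; have := qn47.out; omega)
        clear c46
        rcases t with ⟨⟨⟨rfl, rfl⟩, gw46, ⟨rfl, rfl⟩⟩, rfl⟩ | ⟨⟨⟨rfl, rfl⟩, gw46, ⟨rfl, rfl⟩⟩, rfl⟩
        · have t := pc1 q47 c47.out (by have := v4.out; omega)
          clear c47
          rcases t with ⟨⟨⟨rfl, rfl⟩, gw47, ⟨rfl, rfl⟩⟩, rfl⟩ | ⟨⟨⟨rfl, rfl⟩, gw47, ⟨rfl, rfl⟩⟩, rfl⟩
          · have t := pc2 q56 c56.out (by have := v5.out; have := qn57.out; omega)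
            clear c56
            rcases t with ⟨⟨⟨rfl, rfl⟩, gw56, ⟨rfl, rfl⟩⟩, rfl⟩ | ⟨⟨⟨rfl, rfl⟩, gw56, ⟨rfl, rfl⟩⟩, rfl⟩ | ⟨⟨⟨rfl, rfl⟩, gw56, ⟨rfl, rfl⟩⟩, rfl⟩ | ⟨⟨⟨rfl, rfl⟩, gw56, ⟨rfl, rfl⟩⟩, rfl⟩
            · (have := od6.out; omega)
            · (have := hm1.out; have := e2.out; have := e3.out; have := e4.out; have := e5.out; have := r57.out; have := e6.out; have := r67.out; omega)
            · (have := hm3.out; have := e4.out; have := e5.out; have := r57.out; have := e6.out; have := r67.out; omega)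
            · (have := hm0.out; have := om6.out; have := e0.out; have := e1.out; have := e2.out; have := e3.out; have := e4.out; have := e5.out; have := r57.out; omega)
          · (have := hm2.out; have := e3.out; have := e4.out; have := e5.out; have := r56.out; have := r57.out; have := e7.out; have := r75.out; have := r76.out; omega)
        · (have := hm2.out; have := e3.out; have := e4.out; have := r47.out; have := e5.out; have := r56.out; have := r57.out; have := e6.out; have := r65.out; have := r67.out; omega)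
      · (have := hm2.out; have := e3.out; have := e4.out; have := r46.out; have := r47.out; have := e5.out; have := r56.out; have := r57.out; omega)
      · (have := hm2.out; have := e3.out; have := e4.out; have := r46.out; have := r47.out; have := e5.out; have := r56.out; have := r57.out; omega)
    · have t := pc3 q45 c45.out (by have := v4.out; have := qn46.out; have := qn47.out; omega)
      clear c45
      rcases t with ⟨⟨⟨rfl, rfl⟩, gw45, ⟨rfl, rfl⟩⟩, rfl⟩ | ⟨⟨⟨rfl, rfl⟩, gw45, ⟨rfl, rfl⟩⟩, rfl⟩ | ⟨⟨⟨rfl, rfl⟩, gw45, ⟨rfl, rfl⟩⟩, rfl⟩ | ⟨⟨⟨rfl, rfl⟩, gw45, ⟨rfl, rfl⟩⟩, rfl⟩ | ⟨⟨⟨rfl, rfl⟩, gw45, ⟨rfl, rfl⟩⟩, rfl⟩ | ⟨⟨⟨rfl, rfl⟩, gw45, ⟨rfl, rfl⟩⟩, rfl⟩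
      · (have := od5.out; omega)
      · have t := pc2 q46 c46.out (by have := v4.out; have := qn47.out; omega)
        clear c46
        rcases t with ⟨⟨⟨rfl, rfl⟩, gw46, ⟨rfl, rfl⟩⟩, rfl⟩ | ⟨⟨⟨rfl, rfl⟩, gw46, ⟨rfl, rfl⟩⟩, rfl⟩ | ⟨⟨⟨rfl, rfl⟩, gw46, ⟨rfl, rfl⟩⟩, rfl⟩ | ⟨⟨⟨rfl, rfl⟩, gw46, ⟨rfl, rfl⟩⟩, rfl⟩
        · have t := pc2 q47 c47.out (by have := v4.out; omega)
          clear c47
          rcases t with ⟨⟨⟨rfl, rfl⟩, gw47, ⟨rfl, rfl⟩⟩, rfl⟩ | ⟨⟨⟨rfl, rfl⟩, gw47, ⟨rfl, rfl⟩⟩, rfl⟩ | ⟨⟨⟨rfl, rfl⟩, gw47, ⟨rfl, rfl⟩⟩, rfl⟩ | ⟨⟨⟨rfl, rfl⟩, gw47, ⟨rfl, rfl⟩⟩, rfl⟩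
          · have t := pc3 q56 c56.out (by have := v5.out; have := qn57.out; omega)
            clear c56
            rcases t with ⟨⟨⟨rfl, rfl⟩, gw56, ⟨rfl, rfl⟩⟩, rfl⟩ | ⟨⟨⟨rfl, rfl⟩, gw56, ⟨rfl, rfl⟩⟩, rfl⟩ | ⟨⟨⟨rfl, rfl⟩, gw56, ⟨rfl, rfl⟩⟩, rfl⟩ | ⟨⟨⟨rfl, rfl⟩, gw56, ⟨rfl, rfl⟩⟩, rfl⟩ | ⟨⟨⟨rfl, rfl⟩, gw56, ⟨rfl, rfl⟩⟩, rfl⟩ | ⟨⟨⟨rfl, rfl⟩, gw56, ⟨rfl, rfl⟩⟩, rfl⟩
            · (have := od6.out; omega)
            · have t := pc2 q57 c57.out (by have := v5.out; omega)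
              clear c57
              rcases t with ⟨⟨⟨rfl, rfl⟩, gw57, ⟨rfl, rfl⟩⟩, rfl⟩ | ⟨⟨⟨rfl, rfl⟩, gw57, ⟨rfl, rfl⟩⟩, rfl⟩ | ⟨⟨⟨rfl, rfl⟩, gw57, ⟨rfl, rfl⟩⟩, rfl⟩ | ⟨⟨⟨rfl, rfl⟩, gw57, ⟨rfl, rfl⟩⟩, rfl⟩
              · have t := pc3 q67 c67.out (by have := v6.out; omega)
                clear c67
                rcases t with ⟨⟨⟨rfl, rfl⟩, gw67, ⟨rfl, rfl⟩⟩, rfl⟩ | ⟨⟨⟨rfl, rfl⟩, gw67, ⟨rfl, rfl⟩⟩, rfl⟩ | ⟨⟨⟨rfl, rfl⟩, gw67, ⟨rfl, rfl⟩⟩, rfl⟩ | ⟨⟨⟨rfl, rfl⟩, gw67, ⟨rfl, rfl⟩⟩, rfl⟩ | ⟨⟨⟨rfl, rfl⟩, gw67, ⟨rfl, rfl⟩⟩, rfl⟩ | ⟨⟨⟨rfl, rfl⟩, gw67, ⟨rfl, rfl⟩⟩, rfl⟩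
                · have := hm0.out
                  have := hm1.out
                  have := hm2.out
                  have := hm3.out
                  have := hm4.out
                  have := hm5.out
                  have := hm6.out
                  have := hm7.out
                  have := e0.out
                  have := e1.out
                  have := e2.out
                  have := e3.out
                  have := e4.out
                  have := e5.out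
                  have := e6.out
                  have := e7.out
                  have := hw0.out
                  have := hw1.out
                  have := hw2.out
                  have := hw3.out
                  have := hw4.out
                  have := hw5.out
                  have := hw6.out
                  have := hw7.out
                  have := hs01.out
                  have := hs02.out
                  have := hs03.out
                  have := hs04.out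
                  have := hs05.out
                  have := hs06.out
                  have := hs07.out
                  have := hs12.out
                  have := hs13.out
                  have := hs14.out
                  have := hs15.out
                  have := hs16.out
                  have := hs17.out
                  have := hs23.out
                  have := hs24.out
                  have := hs25.out
                  have := hs26.out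
                  have := hs27.out
                  have := hs34.out
                  have := hs35.out
                  have := hs36.out
                  have := hs37.out
                  have := hs45.out
                  have := hs46.out
                  have := hs47.out
                  have := hs56.out
                  have := hs57.out
                  have := hs67.out
                  have := ha00.out
                  have := ha11.out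
                  have := ha22.out
                  have := ha33.out
                  have := ha44.out
                  have := ha55.out
                  have := ha66.out
                  have := ha77.out
                  have := gw01.out
                  have := gw02.out
                  have := gw03.out
                  have := gw04.out
                  have := gw05.out
                  have := gw06.out
                  have := gw07.out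
                  have := gw12.out
                  have := gw13.out
                  have := gw14.out
                  have := gw15.out
                  have := gw16.out
                  have := gw17.out
                  have := gw23.out
                  have := gw24.out
                  have := gw25.out
                  have := gw26.out
                  have := gw27.out
                  have := gw34.out
                  have := gw35.out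
                  have := gw36.out
                  have := gw37.out
                  have := gw45.out
                  have := gw46.out
                  have := gw47.out
                  have := gw56.out
                  have := gw57.out
                  have := gw67.out
                  exact ⟨p01234567, T.m 0, T.w 0, Or.inr (Or.inr (Or.inr (Or.inr (Or.inr (Or.inr (Or.inr ((show T.m 0 = T.m 0 ∧ T.m 1 = 2 * T.m 0 ∧ T.m 2 = 3 * T.m 0 ∧ T.m 3 = 4 * T.m 0 ∧ T.m 4 = 3 * T.m 0 ∧ T.m 5 = 2 * T.m 0 ∧ T.m 6 = T.m 0 ∧ T.m 7 = 2 * T.m 0 ∧ T.w 0 = T.w 0 ∧ T.w 1 = T.w 0 ∧ T.w 2 = T.w 0 ∧ T.w 3 = T.w 0 ∧ T.w 4 = T.w 0 ∧ T.w 5 = T.w 0 ∧ T.w 6 = T.w 0 ∧ T.w 7 = T.w 0 ∧ T.a 0 0 = -2 * T.w 0 ∧ T.a 0 1 = T.w 0 ∧ T.a 0 2 = 0 ∧ T.a 0 3 = 0 ∧ T.a 0 4 = 0 ∧ T.a 0 5 = 0 ∧ T.a 0 6 = 0 ∧ T.a 0 7 = 0 ∧ T.a 1 1 = -2 * T.w 0 ∧ T.a 1 2 = T.w 0 ∧ T.a 1 3 = 0 ∧ T.a 1 4 = 0 ∧ T.a 1 5 = 0 ∧ T.a 1 6 = 0 ∧ T.a 1 7 =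 0 ∧ T.a 2 2 = -2 * T.w 0 ∧ T.a 2 3 = T.w 0 ∧ T.a 2 4 = 0 ∧ T.a 2 5 = 0 ∧ T.a 2 6 = 0 ∧ T.a 2 7 = 0 ∧ T.a 3 3 = -2 * T.w 0 ∧ T.a 3 4 = T.w 0 ∧ T.a 3 5 = 0 ∧ T.a 3 6 = 0 ∧ T.a 3 7 = T.w 0 ∧ T.a 4 4 = -2 * T.w 0 ∧ T.a 4 5 = T.w 0 ∧ T.a 4 6 = 0 ∧ T.a 4 7 = 0 ∧ T.a 5 5 = -2 * T.w 0 ∧ T.a 5 6 = T.w 0 ∧ T.a 5 7 = 0 ∧ T.a 6 6 = -2 * T.w 0 ∧ T.a 6 7 = 0 ∧ T.a 7 7 = -2 * T.w 0 from by omega))))))))⟩
                · (have := hm2.out; have := e3.out; have := e4.out; have := e5.out; have := e6.out; have := e7.out; omega)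
                · (have := hm1.out; have := om6.out; have := e1.out; have := e3.out; have := e4.out; have := e5.out; have := e6.out; have := e7.out; omega)
                · (have := hm1.out; have := om7.out; have := e1.out; have := e3.out; have := e4.out; have := e5.out; have := e6.out; have := e7.out; omega)
                · (have := hm1.out; have := om1.out; have := om4.out; have := e1.out; have := e2.out; have := e5.out; have := e6.out; have := e7.out; omega)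
                · (have := hm1.out; have := hm5.out; have := om4.out; have := e1.out; have := e3.out; have := e6.out; have := e7.out; omega)
              · (have := hm1.out; have := om6.out; have := e1.out; have := e3.out; have := e4.out; have := e5.out; have := e7.out; have := r76.out; omega)
              · (have := hm1.out; have := hm6.out; have := om5.out; have := e1.out; have := e3.out; have := e4.out; have := e5.out; have := e7.out; have := r76.out; omega)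
              · (have := hm1.out; have := hm4.out; have := om6.out; have := e1.out; have := e3.out; have := e4.out; have := e5.out; have := e7.out; have := r76.out; omega)
            · (have := hm1.out; have := e2.out; have := e3.out; have := e4.out; have := e5.out; have := r57.out; have := e6.out; have := r67.out; have := e7.out; have := r75.out; have := r76.out; omega)
            · (have := hm1.out; have := e2.out; have := e3.out; have := e4.out; have := e5.out; have := r57.out; have := e6.out; have := r67.out; have := e7.out; have := r75.out; have := r76.out; omega)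
            · (have := hm3.out; have := e4.out; have := e5.out; have := r57.out; have := e6.out; have := r67.out; omega)
            · (have := hm3.out; have := e4.out; have := e5.out; have := r57.out; have := e6.out; have := r67.out; omega)
          · (have := hm1.out; have := om5.out; have := e1.out; have := e3.out; have := e4.out; have := e7.out; have := r75.out; have := r76.out; omega)
          · (have := hm1.out; have := hm4.out; have := om5.out; have := e1.out; have := e3.out; have := e4.out; have := e7.out; have := r75.out; have := r76.out; omega)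
          · (have := hm1.out; have := hm4.out; have := hm5.out; have := e2.out; have := e3.out; have := e4.out; have := e7.out; have := r75.out; have := r76.out; omega)
        · (have := hm1.out; have := e2.out; have := e3.out; have := e4.out; have := r47.out; have := e5.out; have := r56.out; have := r57.out; have := e6.out; have := r65.out; have := r67.out; have := e7.out; have := r74.out; have := r75.out; have := r76.out; omega)
        · (have := hm1.out; have := om7.out; have := e1.out; have := e3.out; have := e4.out; have := r47.out; have := e5.out; have := r56.out; have := r57.out; have := e6.out; have := r65.out; have := r67.out; omega)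
        · (have := hm1.out; have := om7.out; have := e1.out; have := e3.out; have := e4.out; have := r47.out; have := e5.out; have := r56.out; have := r57.out; have := e6.out; have := r65.out; have := r67.out; omega)
      · (have := hm1.out; have := e2.out; have := e3.out; have := e4.out; have := r46.out; have := r47.out; have := e5.out; have := r56.out; have := r57.out; have := e7.out; have := r74.out; have := r75.out; have := r76.out; omega)
      · (have := hm1.out; have := e2.out; have := e3.out; have := e4.out; have := r46.out; have := r47.out; have := e5.out; have := r56.out; have := r57.out; have := e7.out; have := r74.out; have := r75.out; have := r76.out; omega)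
      · (have := hm1.out; have := om7.out; have := e1.out; have := e3.out; have := e4.out; have := r46.out; have := r47.out; have := e5.out; have := r56.out; have := r57.out; omega)
      · (have := hm1.out; have := om7.out; have := e1.out; have := e3.out; have := e4.out; have := r46.out; have := r47.out; have := e5.out; have := r56.out; have := r57.out; omega)
    · (have := hm1.out; have := e2.out; have := e3.out; have := e4.out; have := r45.out; have := r46.out; have := r47.out; have := e7.out; have := r74.out; have := r75.out; have := r76.out; omega)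
    · (have := hm1.out; have := e2.out; have := e3.out; have := e4.out; have := r45.out; have := r46.out; have := r47.out; have := e7.out; have := r74.out; have := r75.out; have := r76.out; omega)
  · have t := pc1 q37 c37.out (by have := v3.out; omega)
    clear c37
    rcases t with ⟨⟨⟨rfl, rfl⟩, gw37, ⟨rfl, rfl⟩⟩, rfl⟩ | ⟨⟨⟨rfl, rfl⟩, gw37, ⟨rfl, rfl⟩⟩, rfl⟩
    · have t := pc3 q45 c45.out (by have := v4.out; have := qn46.out; have := qn47.out; omega)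
      clear c45
      rcases t with ⟨⟨⟨rfl, rfl⟩, gw45, ⟨rfl, rfl⟩⟩, rfl⟩ | ⟨⟨⟨rfl, rfl⟩, gw45, ⟨rfl, rfl⟩⟩, rfl⟩ | ⟨⟨⟨rfl, rfl⟩, gw45, ⟨rfl, rfl⟩⟩, rfl⟩ | ⟨⟨⟨rfl, rfl⟩, gw45, ⟨rfl, rfl⟩⟩, rfl⟩ | ⟨⟨⟨rfl, rfl⟩, gw45, ⟨rfl, rfl⟩⟩, rfl⟩ | ⟨⟨⟨rfl, rfl⟩, gw45, ⟨rfl, rfl⟩⟩, rfl⟩
      · (have := od5.out; omega)
      · have t := pc2 q46 c46.out (by have := v4.out; have := qn47.out; omega)
        clear c46
        rcases t with ⟨⟨⟨rfl, rfl⟩, gw46, ⟨rfl, rfl⟩⟩, rfl⟩ | ⟨⟨⟨rfl, rfl⟩, gw46, ⟨rfl, rfl⟩⟩, rfl⟩ | ⟨⟨⟨rfl, rfl⟩, gw46, ⟨rfl, rfl⟩⟩, rfl⟩ | ⟨⟨⟨rfl, rfl⟩, gw46, ⟨rfl, rfl⟩⟩, rfl⟩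
        · have t := pc2 q47 c47.out (by have := v4.out; omega)
          clear c47
          rcases t with ⟨⟨⟨rfl, rfl⟩, gw47, ⟨rfl, rfl⟩⟩, rfl⟩ | ⟨⟨⟨rfl, rfl⟩, gw47, ⟨rfl, rfl⟩⟩, rfl⟩ | ⟨⟨⟨rfl, rfl⟩, gw47, ⟨rfl, rfl⟩⟩, rfl⟩ | ⟨⟨⟨rfl, rfl⟩, gw47, ⟨rfl, rfl⟩⟩, rfl⟩
          · have t := pc3 q56 c56.out (by have := v5.out; have := qn57.out; omega)
            clear c56
            rcases t with ⟨⟨⟨rfl, rfl⟩, gw56, ⟨rfl, rfl⟩⟩, rfl⟩ | ⟨⟨⟨rfl, rfl⟩, gw56, ⟨rfl, rfl⟩⟩, rfl⟩ | ⟨⟨⟨rfl, rfl⟩, gw56, ⟨rfl, rfl⟩⟩, rfl⟩ | ⟨⟨⟨rfl, rfl⟩, gw56, ⟨rfl, rfl⟩⟩, rfl⟩ | ⟨⟨⟨rfl, rfl⟩, gw56, ⟨rfl, rfl⟩⟩, rfl⟩ | ⟨⟨⟨rfl, rfl⟩, gw56, ⟨rfl, rfl⟩⟩, rfl⟩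
            · have t := pc3 q57 c57.out (by have := v5.out; omega)
              clear c57
              rcases t with ⟨⟨⟨rfl, rfl⟩, gw57, ⟨rfl, rfl⟩⟩, rfl⟩ | ⟨⟨⟨rfl, rfl⟩, gw57, ⟨rfl, rfl⟩⟩, rfl⟩ | ⟨⟨⟨rfl, rfl⟩, gw57, ⟨rfl, rfl⟩⟩, rfl⟩ | ⟨⟨⟨rfl, rfl⟩, gw57, ⟨rfl, rfl⟩⟩, rfl⟩ | ⟨⟨⟨rfl, rfl⟩, gw57, ⟨rfl, rfl⟩⟩, rfl⟩ | ⟨⟨⟨rfl, rfl⟩, gw57, ⟨rfl, rfl⟩⟩, rfl⟩
              · have t := pc3 q67 c67.out (by have := v6.out; omega)
                clear c67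
                rcases t with ⟨⟨⟨rfl, rfl⟩, gw67, ⟨rfl, rfl⟩⟩, rfl⟩ | ⟨⟨⟨rfl, rfl⟩, gw67, ⟨rfl, rfl⟩⟩, rfl⟩ | ⟨⟨⟨rfl, rfl⟩, gw67, ⟨rfl, rfl⟩⟩, rfl⟩ | ⟨⟨⟨rfl, rfl⟩, gw67, ⟨rfl, rfl⟩⟩, rfl⟩ | ⟨⟨⟨rfl, rfl⟩, gw67, ⟨rfl, rfl⟩⟩, rfl⟩ | ⟨⟨⟨rfl, rfl⟩, gw67, ⟨rfl, rfl⟩⟩, rfl⟩
                · (have := od7.out; omega)
                · (have := hm0.out; have := e1.out; have := e2.out; have := e3.out; have := e4.out; have := e5.out; have := e6.out; have := e7.out; omega)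
                · (have := hm1.out; have := hm5.out; have := e2.out; have := e3.out; have := e4.out; have := e6.out; have := e7.out; omega)
                · (have := hm1.out; have := hm5.out; have := e2.out; have := e3.out; have := e4.out; have := e6.out; have := e7.out; omega)
                · (have := hm1.out; have := om4.out; have := e1.out; have := e3.out; have := e6.out; have := e7.out; omega)
                · (have := hm1.out; have := om4.out; have := e1.out; have := e3.out; have := e6.out; have := e7.out; omega)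
              · have t := pc3 q67 c67.out (by have := v6.out; omega)
                clear c67
                rcases t with ⟨⟨⟨rfl, rfl⟩, gw67, ⟨rfl, rfl⟩⟩, rfl⟩ | ⟨⟨⟨rfl, rfl⟩, gw67, ⟨rfl, rfl⟩⟩, rfl⟩ | ⟨⟨⟨rfl, rfl⟩, gw67, ⟨rfl, rfl⟩⟩, rfl⟩ | ⟨⟨⟨rfl, rfl⟩, gw67, ⟨rfl, rfl⟩⟩, rfl⟩ | ⟨⟨⟨rfl, rfl⟩, gw67, ⟨rfl, rfl⟩⟩, rfl⟩ | ⟨⟨⟨rfl, rfl⟩, gw67, ⟨rfl, rfl⟩⟩, rfl⟩
                · have := hm0.out
                  have := hm1.out
                  have := hm2.out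
                  have := hm3.out
                  have := hm4.out
                  have := hm5.out
                  have := hm6.out
                  have := hm7.out
                  have := e0.out
                  have := e1.out
                  have := e2.out
                  have := e3.out
                  have := e4.out
                  have := e5.out
                  have := e6.out
                  have := e7.out
                  have := hw0.out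
                  have := hw1.out
                  have := hw2.out
                  have := hw3.out
                  have := hw4.out
                  have := hw5.out
                  have := hw6.out
                  have := hw7.out
                  have := hs01.out
                  have := hs02.out
                  have := hs03.out
                  have := hs04.out
                  have := hs05.out
                  have := hs06.out
                  have := hs07.out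
                  have := hs12.out
                  have := hs13.out
                  have := hs14.out
                  have := hs15.out
                  have := hs16.out
                  have := hs17.out
                  have := hs23.out
                  have := hs24.out
                  have := hs25.out
                  have := hs26.out
                  have := hs27.out
                  have := hs34.out
                  have := hs35.out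
                  have := hs36.out
                  have := hs37.out
                  have := hs45.out
                  have := hs46.out
                  have := hs47.out
                  have := hs56.out
                  have := hs57.out
                  have := hs67.out
                  have := ha00.out
                  have := ha11.out
                  have := ha22.out
                  have := ha33.out
                  have := ha44.out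
                  have := ha55.out
                  have := ha66.out
                  have := ha77.out
                  have := gw01.out
                  have := gw02.out
                  have := gw03.out
                  have := gw04.out
                  have := gw05.out
                  have := gw06.out
                  have := gw07.out
                  have := gw12.out
                  have := gw13.out
                  have := gw14.out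
                  have := gw15.out
                  have := gw16.out
                  have := gw17.out
                  have := gw23.out
                  have := gw24.out
                  have := gw25.out
                  have := gw26.out
                  have := gw27.out
                  have := gw34.out
                  have := gw35.out
                  have := gw36.out
                  have := gw37.out
                  have := gw45.out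
                  have := gw46.out
                  have := gw47.out
                  have := gw56.out
                  have := gw57.out
                  have := gw67.out
                  exact ⟨p01234576, T.m 0, T.w 0, Or.inr (Or.inr (Or.inr (Or.inr (Or.inr (Or.inr (Or.inr ((show T.m 0 = T.m 0 ∧ T.m 1 = 2 * T.m 0 ∧ T.m 2 = 3 * T.m 0 ∧ T.m 3 = 4 * T.m 0 ∧ T.m 4 = 3 * T.m 0 ∧ T.m 5 = 2 * T.m 0 ∧ T.m 7 = T.m 0 ∧ T.m 6 = 2 * T.m 0 ∧ T.w 0 = T.w 0 ∧ T.w 1 = T.w 0 ∧ T.w 2 = T.w 0 ∧ T.w 3 = T.w 0 ∧ T.w 4 = T.w 0 ∧ T.w 5 = T.w 0 ∧ T.w 7 = T.w 0 ∧ T.w 6 = T.w 0 ∧ T.a 0 0 = -2 * T.w 0 ∧ T.a 0 1 = T.w 0 ∧ T.a 0 2 = 0 ∧ T.a 0 3 = 0 ∧ T.a 0 4 = 0 ∧ T.a 0 5 = 0 ∧ T.a 0 7 = 0 ∧ T.a 0 6 = 0 ∧ T.a 1 1 = -2 * T.w 0 ∧ T.a 1 2 = T.w 0 ∧ T.a 1 3 = 0 ∧ T.a 1 4 = 0 ∧ T.a 1 5 = 0 ∧ T.a 1 7 = 0 ∧ T.a 1 6 = 0 ∧ T.a 2 2 = -2 * T.w 0 ∧ T.a 2 3 = T.w 0 ∧ T.a 2 4 = 0 ∧ T.a 2 5 = 0 ∧ T.a 2 7 = 0 ∧ T.a 2 6 = 0 ∧ T.a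 3 3 = -2 * T.w 0 ∧ T.a 3 4 = T.w 0 ∧ T.a 3 5 = 0 ∧ T.a 3 7 = 0 ∧ T.a 3 6 = T.w 0 ∧ T.a 4 4 = -2 * T.w 0 ∧ T.a 4 5 = T.w 0 ∧ T.a 4 7 = 0 ∧ T.a 4 6 = 0 ∧ T.a 5 5 = -2 * T.w 0 ∧ T.a 5 7 = T.w 0 ∧ T.a 5 6 = 0 ∧ T.a 7 7 = -2 * T.w 0 ∧ T.a 7 6 = 0 ∧ T.a 6 6 = -2 * T.w 0 from by omega))))))))⟩
                · (have := hm1.out; have := hm5.out; have := e2.out; have := e3.out; have := e4.out; have := e5.out; have := e6.out; have := e7.out; omega)
                · (have := hm1.out; have := om6.out; have := e1.out; have := e3.out; have := e4.out; have := e5.out; have := e6.out; have := e7.out; omega)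
                · (have := hm1.out; have := om7.out; have := e1.out; have := e3.out; have := e4.out; have := e5.out; have := e6.out; have := e7.out; omega)
                · (have := hm3.out; have := hm4.out; have := e5.out; have := e6.out; have := e7.out; omega)
                · (have := hm3.out; have := hm4.out; have := e5.out; have := e6.out; have := e7.out; omega)
              · (have := hm1.out; have := e2.out; have := e3.out; have := e4.out; have := e5.out; have := e6.out; have := r67.out; have := e7.out; have := r76.out; omega)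
              · (have := hm1.out; have := e2.out; have := e3.out; have := e4.out; have := e5.out; have := e6.out; have := r67.out; have := e7.out; have := r76.out; omega)
              · (have := hm3.out; have := e4.out; have := e5.out; have := e7.out; have := r76.out; omega)
              · (have := hm3.out; have := e4.out; have := e5.out; have := e7.out; have := r76.out; omega)
            · (have := hm1.out; have := hm5.out; have := e2.out; have := e3.out; have := e4.out; have := e5.out; have := r57.out; have := e6.out; have := r67.out; omega)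
            · (have := hm1.out; have := om5.out; have := e1.out; have := e3.out; have := e4.out; have := e5.out; have := r57.out; have := e6.out; have := r67.out; omega)
            · (have := hm1.out; have := om6.out; have := e1.out; have := e3.out; have := e4.out; have := e5.out; have := r57.out; have := e6.out; have := r67.out; omega)
            · (have := hm2.out; have := hm4.out; have := e3.out; have := e5.out; have := r57.out; have := e6.out; have := r67.out; omega)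
            · (have := hm2.out; have := hm4.out; have := e3.out; have := e5.out; have := r57.out; have := e6.out; have := r67.out; omega)
          · (have := hm1.out; have := e2.out; have := e3.out; have := e4.out; have := e5.out; have := r56.out; have := r57.out; have := e6.out; have := r65.out; have := r67.out; have := e7.out; have := r75.out; have := r76.out; omega)
          · (have := hm1.out; have := om6.out; have := e1.out; have := e3.out; have := e4.out; have := e5.out; have := r56.out; have := r57.out; have := e7.out; have := r75.out; have := r76.out; omega)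
          · (have := hm1.out; have := om6.out; have := e1.out; have := e3.out; have := e4.out; have := e5.out; have := r56.out; have := r57.out; have := e7.out; have := r75.out; have := r76.out; omega)
        · (have := hm1.out; have := om5.out; have := e1.out; have := e3.out; have := e4.out; have := r47.out; have := e6.out; have := r65.out; have := r67.out; omega)
        · (have := hm1.out; have := hm4.out; have := om5.out; have := e1.out; have := e3.out; have := e4.out; have := r47.out; have := e6.out; have := r65.out; have := r67.out; omega)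
        · (have := hm1.out; have := hm4.out; have := hm5.out; have := e2.out; have := e3.out; have := e4.out; have := r47.out; have := e6.out; have := r65.out; have := r67.out; omega)
      · (have := hm1.out; have := e2.out; have := e3.out; have := e4.out; have := r46.out; have := r47.out; have := e5.out; have := r56.out; have := r57.out; have := e6.out; have := r64.out; have := r65.out; have := r67.out; omega)
      · (have := hm1.out; have := e2.out; have := e3.out; have := e4.out; have := r46.out; have := r47.out; have := e5.out; have := r56.out; have := r57.out; have := e6.out; have := r64.out; have := r65.out; have := r67.out; omega)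
      · (have := hm1.out; have := om6.out; have := e1.out; have := e3.out; have := e4.out; have := r46.out; have := r47.out; have := e5.out; have := r56.out; have := r57.out; omega)
      · (have := hm1.out; have := om6.out; have := e1.out; have := e3.out; have := e4.out; have := r46.out; have := r47.out; have := e5.out; have := r56.out; have := r57.out; omega)
    · (have := hm1.out; have := e2.out; have := e3.out; have := e4.out; have := r45.out; have := r46.out; have := r47.out; have := e6.out; have := r64.out; have := r65.out; have := r67.out; have := e7.out; have := r74.out; have := r75.out; have := r76.out; omega)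
  · (have := hm1.out; have := e2.out; have := e3.out; have := r37.out; have := e4.out; have := r45.out; have := r46.out; have := r47.out; have := e6.out; have := r64.out; have := r65.out; have := r67.out; omega)
  · (have := hm1.out; have := e2.out; have := e3.out; have := r37.out; have := e4.out; have := r45.out; have := r46.out; have := r47.out; have := e6.out; have := r64.out; have := r65.out; have := r67.out; omega)

end Groth.Agent.Lib.helper20.G1n8
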