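import Groth.Agent.Lib.Helper20.G1n8Base

set_option autoImplicit false
set_option linter.unusedVariables false
open Finset
open Models Models.NumericalType

namespace Groth.Agent.Lib.helper20.G1n8

set_option maxHeartbeats 0 in
theorem part32 (T : Models.NumericalType 8) (α35 α36 α37 α45 α46 α47 α53 α54 α56 α57 α63 α64 α65 α67 α73 α74 α75 α76 x35 x36 x37 x45 x46 x47 x53 x54 x56 x57 x63 x64 x65 x67 x73 x74 x75 x76 q35 q36 q37 q45 q46 q47 q56 q57 q67 : ℤ)
    (hm0 : Hide (0 < T.m 0))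
    (hm1 : Hide (0 < T.m 1))
    (hm2 : Hide (0 < T.m 2))
    (hm3 : Hide (0 < T.m 3))
    (hm4 : Hide (0 < T.m 4))
    (hm5 : Hide (0 < T.m 5))
    (hm6 : Hide (0 < T.m 6))
    (hm7 : Hide (0 < T.m 7))
    (om1 : Hide (T.m 0 ≤ T.m 1))
    (om2 : Hide (T.m 0 ≤ T.m 2))
    (om3 : Hide (T.m 0 ≤ T.m 3))
    (om4 : Hide (T.m 0 ≤ T.m 4))
    (om5 : Hide (T.m 0 ≤ T.m 5))
    (om6 : Hide (T.m 0 ≤ T.m 6))
    (om7 : Hide (T.m 0 ≤ T.m 7))
    (e0 : Hide (T.m 1 + (0 : ℤ) + (0 : ℤ) + (0 : ℤ) + (0 : ℤ) + (0 : ℤ) + (0 : ℤ) = 2 * T.m 0))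
    (e1 : Hide (T.m 0 + T.m 2 + (0 : ℤ) + T.m 4 + (0 : ℤ) + (0 : ℤ) + (0 : ℤ) = 2 * T.m 1))
    (e2 : Hide ((0 : ℤ) + T.m 1 + T.m 3 + (0 : ℤ) + (0 : ℤ) + (0 : ℤ) + (0 : ℤ) = 2 * T.m 2))
    (e3 : Hide ((0 : ℤ) + (0 : ℤ) + T.m 2 + (0 : ℤ) + x35 + x36 + x37 = 2 * T.m 3))
    (e4 : Hide ((0 : ℤ) + T.m 1 + (0 : ℤ) + (0 : ℤ) + x45 + x46 + x47 = 2 * T.m 4))
    (e5 : Hide ((0 : ℤ) + (0 : ℤ) + (0 : ℤ) + x53 + x54 + x56 + x57 = 2 * T.m 5))
    (e6 : Hide ((0 : ℤ) + (0 : ℤ) + (0 : ℤ) + x63 + x64 + x65 + x67 = 2 * T.m 6))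
    (e7 : Hide ((0 : ℤ) + (0 : ℤ) + (0 : ℤ) + x73 + x74 + x75 + x76 = 2 * T.m 7))
    (r01 : Hide (0 ≤ T.m 1))
    (r02 : Hide (0 ≤ (0 : ℤ)))
    (r03 : Hide (0 ≤ (0 : ℤ)))
    (r04 : Hide (0 ≤ (0 : ℤ)))
    (r05 : Hide (0 ≤ (0 : ℤ)))
    (r06 : Hide (0 ≤ (0 : ℤ)))
    (r07 : Hide (0 ≤ (0 : ℤ)))
    (r10 : Hide (0 ≤ T.m 0))
    (r12 : Hide (0 ≤ T.m 2))
    (r13 : Hide (0 ≤ (0 : ℤ)))
    (r14 : Hide (0 ≤ T.m 4))
    (r15 : Hide (0 ≤ (0 : ℤ)))
    (r16 : Hide (0 ≤ (0 : ℤ)))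
    (r17 : Hide (0 ≤ (0 : ℤ)))
    (r20 : Hide (0 ≤ (0 : ℤ)))
    (r21 : Hide (0 ≤ T.m 1))
    (r23 : Hide (0 ≤ T.m 3))
    (r24 : Hide (0 ≤ (0 : ℤ)))
    (r25 : Hide (0 ≤ (0 : ℤ)))
    (r26 : Hide (0 ≤ (0 : ℤ)))
    (r27 : Hide (0 ≤ (0 : ℤ)))
    (r30 : Hide (0 ≤ (0 : ℤ)))
    (r31 : Hide (0 ≤ (0 : ℤ)))
    (r32 : Hide (0 ≤ T.m 2))
    (r34 : Hide (0 ≤ (0 : ℤ)))
    (r35 : Hide (0 ≤ x35))
    (r36 : Hide (0 ≤ x36))
    (r37 : Hide (0 ≤ x37))
    (r40 : Hide (0 ≤ (0 : ℤ)))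
    (r41 : Hide (0 ≤ T.m 1))
    (r42 : Hide (0 ≤ (0 : ℤ)))
    (r43 : Hide (0 ≤ (0 : ℤ)))
    (r45 : Hide (0 ≤ x45))
    (r46 : Hide (0 ≤ x46))
    (r47 : Hide (0 ≤ x47))
    (r50 : Hide (0 ≤ (0 : ℤ)))
    (r51 : Hide (0 ≤ (0 : ℤ)))
    (r52 : Hide (0 ≤ (0 : ℤ)))
    (r53 : Hide (0 ≤ x53))
    (r54 : Hide (0 ≤ x54))
    (r56 : Hide (0 ≤ x56))
    (r57 : Hide (0 ≤ x57))
    (r60 : Hide (0 ≤ (0 : ℤ)))
    (r61 : Hide (0 ≤ (0 : ℤ)))
    (r62 : Hide (0 ≤ (0 : ℤ)))
    (r63 : Hide (0 ≤ x63))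
    (r64 : Hide (0 ≤ x64))
    (r65 : Hide (0 ≤ x65))
    (r67 : Hide (0 ≤ x67))
    (r70 : Hide (0 ≤ (0 : ℤ)))
    (r71 : Hide (0 ≤ (0 : ℤ)))
    (r72 : Hide (0 ≤ (0 : ℤ)))
    (r73 : Hide (0 ≤ x73))
    (r74 : Hide (0 ≤ x74))
    (r75 : Hide (0 ≤ x75))
    (r76 : Hide (0 ≤ x76))
    (hw0 : Hide (0 < T.w 0))
    (hw1 : Hide (0 < T.w 1))
    (hw2 : Hide (0 < T.w 2))
    (hw3 : Hide (0 < T.w 3))
    (hw4 : Hide (0 < T.w 4))
    (hw5 : Hide (0 < T.w 5))
    (hw6 : Hide (0 < T.w 6))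
    (hw7 : Hide (0 < T.w 7))
    (hs01 : Hide (T.a 0 1 = T.a 1 0))
    (hs02 : Hide (T.a 0 2 = T.a 2 0))
    (hs03 : Hide (T.a 0 3 = T.a 3 0))
    (hs04 : Hide (T.a 0 4 = T.a 4 0))
    (hs05 : Hide (T.a 0 5 = T.a 5 0))
    (hs06 : Hide (T.a 0 6 = T.a 6 0))
    (hs07 : Hide (T.a 0 7 = T.a 7 0))
    (hs12 : Hide (T.a 1 2 = T.a 2 1))
    (hs13 : Hide (T.a 1 3 = T.a 3 1))
    (hs14 : Hide (T.a 1 4 = T.a 4 1))
    (hs15 : Hide (T.a 1 5 = T.a 5 1))
    (hs16 : Hide (T.a 1 6 = T.a 6 1))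
    (hs17 : Hide (T.a 1 7 = T.a 7 1))
    (hs23 : Hide (T.a 2 3 = T.a 3 2))
    (hs24 : Hide (T.a 2 4 = T.a 4 2))
    (hs25 : Hide (T.a 2 5 = T.a 5 2))
    (hs26 : Hide (T.a 2 6 = T.a 6 2))
    (hs27 : Hide (T.a 2 7 = T.a 7 2))
    (hs34 : Hide (T.a 3 4 = T.a 4 3))
    (hs35 : Hide (T.a 3 5 = T.a 5 3))
    (hs36 : Hide (T.a 3 6 = T.a 6 3))
    (hs37 : Hide (T.a 3 7 = T.a 7 3))
    (hs45 : Hide (T.a 4 5 = T.a 5 4))
    (hs46 : Hide (T.a 4 6 = T.a 6 4))
    (hs47 : Hide (T.a 4 7 = T.a 7 4))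
    (hs56 : Hide (T.a 5 6 = T.a 6 5))
    (hs57 : Hide (T.a 5 7 = T.a 7 5))
    (hs67 : Hide (T.a 6 7 = T.a 7 6))
    (ha00 : Hide (T.a 0 0 = -2 * T.w 0))
    (ha11 : Hide (T.a 1 1 = -2 * T.w 1))
    (ha22 : Hide (T.a 2 2 = -2 * T.w 2))
    (ha33 : Hide (T.a 3 3 = -2 * T.w 3))
    (ha44 : Hide (T.a 4 4 = -2 * T.w 4))
    (ha55 : Hide (T.a 5 5 = -2 * T.w 5))
    (ha66 : Hide (T.a 6 6 = -2 * T.w 6))
    (ha77 : Hide (T.a 7 7 = -2 * T.w 7))
    (v0 : Hide ((1 : ℤ) + (0 : ℤ) + (0 : ℤ) + (0 : ℤ) + (0 : ℤ) + (0 : ℤ) + (0 : ℤ) ≤ 4))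
    (v1 : Hide ((1 : ℤ) + (1 : ℤ) + (0 : ℤ) + (1 : ℤ) + (0 : ℤ) + (0 : ℤ) + (0 : ℤ) ≤ 4))
    (v2 : Hide ((0 : ℤ) + (1 : ℤ) + (1 : ℤ) + (0 : ℤ) + (0 : ℤ) + (0 : ℤ) + (0 : ℤ) ≤ 4))
    (v3 : Hide ((0 : ℤ) + (0 : ℤ) + (1 : ℤ) + (0 : ℤ) + q35 + q36 + q37 ≤ 4))
    (v4 : Hide ((0 : ℤ) + (1 : ℤ) + (0 : ℤ) + (0 : ℤ) + q45 + q46 + q47 ≤ 4))
    (v5 : Hide ((0 : ℤ) + (0 : ℤ) + (0 : ℤ) + q35 + q45 + q56 + q57 ≤ 4))
    (v6 : Hide ((0 : ℤ) + (0 : ℤ) + (0 : ℤ) + q36 + q46 + q56 + q67 ≤ 4))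
    (v7 : Hide ((0 : ℤ) + (0 : ℤ) + (0 : ℤ) + q37 + q47 + q57 + q67 ≤ 4))
    (qn01 : Hide (0 ≤ (1 : ℤ)))
    (qn02 : Hide (0 ≤ (0 : ℤ)))
    (qn03 : Hide (0 ≤ (0 : ℤ)))
    (qn04 : Hide (0 ≤ (0 : ℤ)))
    (qn05 : Hide (0 ≤ (0 : ℤ)))
    (qn06 : Hide (0 ≤ (0 : ℤ)))
    (qn07 : Hide (0 ≤ (0 : ℤ)))
    (qn12 : Hide (0 ≤ (1 : ℤ)))
    (qn13 : Hide (0 ≤ (0 : ℤ)))
    (qn14 : Hide (0 ≤ (1 : ℤ)))
    (qn15 : Hide (0 ≤ (0 : ℤ)))
    (qn16 : Hide (0 ≤ (0 : ℤ)))
    (qn17 : Hide (0 ≤ (0 : ℤ)))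
    (qn23 : Hide (0 ≤ (1 : ℤ)))
    (qn24 : Hide (0 ≤ (0 : ℤ)))
    (qn25 : Hide (0 ≤ (0 : ℤ)))
    (qn26 : Hide (0 ≤ (0 : ℤ)))
    (qn27 : Hide (0 ≤ (0 : ℤ)))
    (qn34 : Hide (0 ≤ (0 : ℤ)))
    (qn35 : Hide (0 ≤ q35))
    (qn36 : Hide (0 ≤ q36))
    (qn37 : Hide (0 ≤ q37))
    (qn45 : Hide (0 ≤ q45))
    (qn46 : Hide (0 ≤ q46))
    (qn47 : Hide (0 ≤ q47))
    (qn56 : Hide (0 ≤ q56))
    (qn57 : Hide (0 ≤ q57))
    (qn67 : Hide (0 ≤ q67))
    (od1 : Hide (0 < (1 : ℤ)))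
    (od2 : Hide (0 < (0 : ℤ) + (1 : ℤ)))
    (od3 : Hide (0 < (0 : ℤ) + (0 : ℤ) + (1 : ℤ)))
    (od4 : Hide (0 < (0 : ℤ) + (1 : ℤ) + (0 : ℤ) + (0 : ℤ)))
    (od5 : Hide (0 < (0 : ℤ) + (0 : ℤ) + (0 : ℤ) + α35 + α45))
    (od6 : Hide (0 < (0 : ℤ) + (0 : ℤ) + (0 : ℤ) + α36 + α46 + α56))
    (od7 : Hide (0 < (0 : ℤ) + (0 : ℤ) + (0 : ℤ) + α37 + α47 + α57 + α67))
    (c35 : Hide (((Hide (x35 = 0 ∧ x53 = 0) ∧ Hide (T.a 3 5 = 0 ∧ T.a 5 3 = 0) ∧ Hide (α35 = 0 ∧ α53 = 0)) ∧ q35 = 0) ∨ ((Hide (x35 = T.m 5 ∧ x53 = T.m 3) ∧ Hide (T.a 3 5 = T.w 3 ∧ T.a 5 3 = T.w 5) ∧ Hide (α35 = 1 ∧ α53 = 1)) ∧ q35 = 1) ∨ ((Hide (x35 = T.m 5 ∧ x53 = 2 * T.m 3) ∧ Hide (T.a 3 5 = T.w 3 ∧ T.a 5 3 = 2 * T.w 5) ∧ Hide (α35 = 1 ∧ α53 = 2)) ∧ q35 = 2) ∨ ((Hide (x35 = 2 * T.m 5 ∧ x53 = T.m 3) ∧ Hide (T.a 3 5 = 2 * T.w 3 ∧ T.a 5 3 = T.w 5) ∧ Hide (α35 = 2 ∧ α53 = 1)) ∧ q35 = 2) ∨ ((Hide (x35 = T.m 5 ∧ x53 = 3 * T.m 3) ∧ Hide (T.a 3 5 = T.w 3 ∧ T.a 5 3 = 3 * T.w 5)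 ∧ Hide (α35 = 1 ∧ α53 = 3)) ∧ q35 = 3) ∨ ((Hide (x35 = 3 * T.m 5 ∧ x53 = T.m 3) ∧ Hide (T.a 3 5 = 3 * T.w 3 ∧ T.a 5 3 = T.w 5) ∧ Hide (α35 = 3 ∧ α53 = 1)) ∧ q35 = 3) ∨ ((Hide (x35 = T.m 5 ∧ x53 = 4 * T.m 3) ∧ Hide (T.a 3 5 = T.w 3 ∧ T.a 5 3 = 4 * T.w 5) ∧ Hide (α35 = 1 ∧ α53 = 4)) ∧ q35 = 4) ∨ ((Hide (x35 = 4 * T.m 5 ∧ x53 = T.m 3) ∧ Hide (T.a 3 5 = 4 * T.w 3 ∧ T.a 5 3 = T.w 5) ∧ Hide (α35 = 4 ∧ α53 = 1)) ∧ q35 = 4) ∨ ((Hide (x35 = 2 * T.m 5 ∧ x53 = 2 * T.m 3) ∧ Hide (T.a 3 5 = 2 * T.w 3 ∧ T.a 5 3 = 2 * T.w 5) ∧ Hide (α35 = 2 ∧ α53 = 2)) ∧ q35 = 4)))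
    (c36 : Hide (((Hide (x36 = 0 ∧ x63 = 0) ∧ Hide (T.a 3 6 = 0 ∧ T.a 6 3 = 0) ∧ Hide (α36 = 0 ∧ α63 = 0)) ∧ q36 = 0) ∨ ((Hide (x36 = T.m 6 ∧ x63 = T.m 3) ∧ Hide (T.a 3 6 = T.w 3 ∧ T.a 6 3 = T.w 6) ∧ Hide (α36 = 1 ∧ α63 = 1)) ∧ q36 = 1) ∨ ((Hide (x36 = T.m 6 ∧ x63 = 2 * T.m 3) ∧ Hide (T.a 3 6 = T.w 3 ∧ T.a 6 3 = 2 * T.w 6) ∧ Hide (α36 = 1 ∧ α63 = 2)) ∧ q36 = 2) ∨ ((Hide (x36 = 2 * T.m 6 ∧ x63 = T.m 3) ∧ Hide (T.a 3 6 = 2 * T.w 3 ∧ T.a 6 3 = T.w 6) ∧ Hide (α36 = 2 ∧ α63 = 1)) ∧ q36 = 2) ∨ ((Hide (x36 = T.m 6 ∧ x63 = 3 * T.m 3) ∧ Hide (T.a 3 6 = T.w 3 ∧ T.a 6 3 = 3 * T.w 6) ∧ Hide (α36 = 1 ∧ α63 = 3)) ∧ q36 = 3) ∨ ((Hide (x36 = 3 * T.m 6 ∧ x63 = T.m 3) ∧ Hide (T.a 3 6 = 3 * T.w 3 ∧ T.a 6 3 = T.w 6) ∧ Hide (α36 = 3 ∧ α63 = 1)) ∧ q36 = 3) ∨ ((Hide (x36 = T.m 6 ∧ x63 = 4 * T.m 3) ∧ Hide (T.a 3 6 = T.w 3 ∧ T.a 6 3 = 4 * T.w 6) ∧ Hide (α36 = 1 ∧ α63 = 4)) ∧ q36 = 4) ∨ ((Hide (x36 = 4 * T.m 6 ∧ x63 = T.m 3) ∧ Hide (T.a 3 6 = 4 * T.w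 3 ∧ T.a 6 3 = T.w 6) ∧ Hide (α36 = 4 ∧ α63 = 1)) ∧ q36 = 4) ∨ ((Hide (x36 = 2 * T.m 6 ∧ x63 = 2 * T.m 3) ∧ Hide (T.a 3 6 = 2 * T.w 3 ∧ T.a 6 3 = 2 * T.w 6) ∧ Hide (α36 = 2 ∧ α63 = 2)) ∧ q36 = 4)))
    (c37 : Hide (((Hide (x37 = 0 ∧ x73 = 0) ∧ Hide (T.a 3 7 = 0 ∧ T.a 7 3 = 0) ∧ Hide (α37 = 0 ∧ α73 = 0)) ∧ q37 = 0) ∨ ((Hide (x37 = T.m 7 ∧ x73 = T.m 3) ∧ Hide (T.a 3 7 = T.w 3 ∧ T.a 7 3 = T.w 7) ∧ Hide (α37 = 1 ∧ α73 = 1)) ∧ q37 = 1) ∨ ((Hide (x37 = T.m 7 ∧ x73 = 2 * T.m 3) ∧ Hide (T.a 3 7 = T.w 3 ∧ T.a 7 3 = 2 * T.w 7) ∧ Hide (α37 = 1 ∧ α73 = 2)) ∧ q37 = 2) ∨ ((Hide (x37 = 2 * T.m 7 ∧ x73 = T.m 3) ∧ Hide (T.a 3 7 = 2 * T.w 3 ∧ T.a 7 3 = T.w 7) ∧ Hide (α37 = 2 ∧ α73 = 1)) ∧ q37 = 2) ∨ ((Hide (x37 = T.m 7 ∧ x73 = 3 * T.m 3) ∧ Hide (T.a 3 7 = T.w 3 ∧ T.a 7 3 = 3 * T.w 7) ∧ Hide (α37 = 1 ∧ α73 = 3)) ∧ q37 = 3) ∨ ((Hide (x37 = 3 * T.m 7 ∧ x73 = T.m 3) ∧ Hide (T.a 3 7 = 3 * T.w 3 ∧ T.a 7 3 = T.w 7) ∧ Hide (α37 = 3 ∧ α73 = 1)) ∧ q37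 = 3) ∨ ((Hide (x37 = T.m 7 ∧ x73 = 4 * T.m 3) ∧ Hide (T.a 3 7 = T.w 3 ∧ T.a 7 3 = 4 * T.w 7) ∧ Hide (α37 = 1 ∧ α73 = 4)) ∧ q37 = 4) ∨ ((Hide (x37 = 4 * T.m 7 ∧ x73 = T.m 3) ∧ Hide (T.a 3 7 = 4 * T.w 3 ∧ T.a 7 3 = T.w 7) ∧ Hide (α37 = 4 ∧ α73 = 1)) ∧ q37 = 4) ∨ ((Hide (x37 = 2 * T.m 7 ∧ x73 = 2 * T.m 3) ∧ Hide (T.a 3 7 = 2 * T.w 3 ∧ T.a 7 3 = 2 * T.w 7) ∧ Hide (α37 = 2 ∧ α73 = 2)) ∧ q37 = 4)))
    (c45 : Hide (((Hide (x45 = 0 ∧ x54 = 0) ∧ Hide (T.a 4 5 = 0 ∧ T.a 5 4 = 0) ∧ Hide (α45 = 0 ∧ α54 = 0)) ∧ q45 = 0) ∨ ((Hide (x45 = T.m 5 ∧ x54 = T.m 4) ∧ Hide (T.a 4 5 = T.w 4 ∧ T.a 5 4 = T.w 5) ∧ Hide (α45 = 1 ∧ α54 = 1)) ∧ q45 = 1) ∨ ((Hide (x45 = T.m 5 ∧ x54 = 2 * T.m 4) ∧ Hide (T.a 4 5 = T.w 4 ∧ T.a 5 4 = 2 * T.w 5) ∧ Hide (α45 = 1 ∧ α54 = 2)) ∧ q45 = 2) ∨ ((Hide (x45 = 2 * T.m 5 ∧ x54 = T.m 4) ∧ Hide (T.a 4 5 = 2 * T.w 4 ∧ T.a 5 4 = T.w 5) ∧ Hide (α45 = 2 ∧ α54 = 1)) ∧ q45 = 2) ∨ ((Hide (x45 = T.m 5 ∧ x54 = 3 * T.m 4) ∧ Hide (T.a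 4 5 = T.w 4 ∧ T.a 5 4 = 3 * T.w 5) ∧ Hide (α45 = 1 ∧ α54 = 3)) ∧ q45 = 3) ∨ ((Hide (x45 = 3 * T.m 5 ∧ x54 = T.m 4) ∧ Hide (T.a 4 5 = 3 * T.w 4 ∧ T.a 5 4 = T.w 5) ∧ Hide (α45 = 3 ∧ α54 = 1)) ∧ q45 = 3) ∨ ((Hide (x45 = T.m 5 ∧ x54 = 4 * T.m 4) ∧ Hide (T.a 4 5 = T.w 4 ∧ T.a 5 4 = 4 * T.w 5) ∧ Hide (α45 = 1 ∧ α54 = 4)) ∧ q45 = 4) ∨ ((Hide (x45 = 4 * T.m 5 ∧ x54 = T.m 4) ∧ Hide (T.a 4 5 = 4 * T.w 4 ∧ T.a 5 4 = T.w 5) ∧ Hide (α45 = 4 ∧ α54 = 1)) ∧ q45 = 4) ∨ ((Hide (x45 = 2 * T.m 5 ∧ x54 = 2 * T.m 4) ∧ Hide (T.a 4 5 = 2 * T.w 4 ∧ T.a 5 4 = 2 * T.w 5) ∧ Hide (α45 = 2 ∧ α54 = 2)) ∧ q45 = 4)))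
    (c46 : Hide (((Hide (x46 = 0 ∧ x64 = 0) ∧ Hide (T.a 4 6 = 0 ∧ T.a 6 4 = 0) ∧ Hide (α46 = 0 ∧ α64 = 0)) ∧ q46 = 0) ∨ ((Hide (x46 = T.m 6 ∧ x64 = T.m 4) ∧ Hide (T.a 4 6 = T.w 4 ∧ T.a 6 4 = T.w 6) ∧ Hide (α46 = 1 ∧ α64 = 1)) ∧ q46 = 1) ∨ ((Hide (x46 = T.m 6 ∧ x64 = 2 * T.m 4) ∧ Hide (T.a 4 6 = T.w 4 ∧ T.a 6 4 = 2 * T.w 6) ∧ Hide (α46 = 1 ∧ α64 = 2)) ∧ q46 = 2) ∨ ((Hide (x46 = 2 * T.m 6 ∧ x64 = T.m 4) ∧ Hide (T.a 4 6 = 2 * T.w 4 ∧ T.a 6 4 = T.w 6) ∧ Hide (α46 = 2 ∧ α64 = 1)) ∧ q46 = 2) ∨ ((Hide (x46 = T.m 6 ∧ x64 = 3 * T.m 4) ∧ Hide (T.a 4 6 = T.w 4 ∧ T.a 6 4 = 3 * T.w 6) ∧ Hide (α46 = 1 ∧ α64 = 3)) ∧ q46 = 3) ∨ ((Hide (x46 = 3 * T.m 6 ∧ x64 = T.m 4) ∧ Hide (T.a 4 6 = 3 * T.w 4 ∧ T.a 6 4 = T.w 6) ∧ Hide (α46 = 3 ∧ α64 = 1)) ∧ q46 = 3) ∨ ((Hide (x46 = T.m 6 ∧ x64 = 4 * T.m 4) ∧ Hide (T.a 4 6 = T.w 4 ∧ T.a 6 4 = 4 * T.w 6) ∧ Hide (α46 = 1 ∧ α64 = 4)) ∧ q46 = 4) ∨ ((Hide (x46 = 4 * T.m 6 ∧ x64 = T.m 4) ∧ Hide (T.a 4 6 = 4 * T.w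 4 ∧ T.a 6 4 = T.w 6) ∧ Hide (α46 = 4 ∧ α64 = 1)) ∧ q46 = 4) ∨ ((Hide (x46 = 2 * T.m 6 ∧ x64 = 2 * T.m 4) ∧ Hide (T.a 4 6 = 2 * T.w 4 ∧ T.a 6 4 = 2 * T.w 6) ∧ Hide (α46 = 2 ∧ α64 = 2)) ∧ q46 = 4)))
    (c47 : Hide (((Hide (x47 = 0 ∧ x74 = 0) ∧ Hide (T.a 4 7 = 0 ∧ T.a 7 4 = 0) ∧ Hide (α47 = 0 ∧ α74 = 0)) ∧ q47 = 0) ∨ ((Hide (x47 = T.m 7 ∧ x74 = T.m 4) ∧ Hide (T.a 4 7 = T.w 4 ∧ T.a 7 4 = T.w 7) ∧ Hide (α47 = 1 ∧ α74 = 1)) ∧ q47 = 1) ∨ ((Hide (x47 = T.m 7 ∧ x74 = 2 * T.m 4) ∧ Hide (T.a 4 7 = T.w 4 ∧ T.a 7 4 = 2 * T.w 7) ∧ Hide (α47 = 1 ∧ α74 = 2)) ∧ q47 = 2) ∨ ((Hide (x47 = 2 * T.m 7 ∧ x74 = T.m 4) ∧ Hide (T.a 4 7 = 2 * T.w 4 ∧ T.a 7 4 = T.w 7) ∧ Hide (α47 = 2 ∧ α74 = 1)) ∧ q47 = 2) ∨ ((Hide (x47 = T.m 7 ∧ x74 = 3 * T.m 4) ∧ Hide (T.a 4 7 = T.w 4 ∧ T.a 7 4 = 3 * T.w 7) ∧ Hide (α47 = 1 ∧ α74 = 3)) ∧ q47 = 3) ∨ ((Hide (x47 = 3 * T.m 7 ∧ x74 = T.m 4) ∧ Hide (T.a 4 7 = 3 * T.w 4 ∧ T.a 7 4 = T.w 7) ∧ Hide (α47 = 3 ∧ α74 = 1)) ∧ q47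 = 3) ∨ ((Hide (x47 = T.m 7 ∧ x74 = 4 * T.m 4) ∧ Hide (T.a 4 7 = T.w 4 ∧ T.a 7 4 = 4 * T.w 7) ∧ Hide (α47 = 1 ∧ α74 = 4)) ∧ q47 = 4) ∨ ((Hide (x47 = 4 * T.m 7 ∧ x74 = T.m 4) ∧ Hide (T.a 4 7 = 4 * T.w 4 ∧ T.a 7 4 = T.w 7) ∧ Hide (α47 = 4 ∧ α74 = 1)) ∧ q47 = 4) ∨ ((Hide (x47 = 2 * T.m 7 ∧ x74 = 2 * T.m 4) ∧ Hide (T.a 4 7 = 2 * T.w 4 ∧ T.a 7 4 = 2 * T.w 7) ∧ Hide (α47 = 2 ∧ α74 = 2)) ∧ q47 = 4)))
    (c56 : Hide (((Hide (x56 = 0 ∧ x65 = 0) ∧ Hide (T.a 5 6 = 0 ∧ T.a 6 5 = 0) ∧ Hide (α56 = 0 ∧ α65 = 0)) ∧ q56 = 0) ∨ ((Hide (x56 = T.m 6 ∧ x65 = T.m 5) ∧ Hide (T.a 5 6 = T.w 5 ∧ T.a 6 5 = T.w 6) ∧ Hide (α56 = 1 ∧ α65 = 1)) ∧ q56 = 1) ∨ ((Hide (x56 = T.m 6 ∧ x65 = 2 * T.m 5) ∧ Hide (T.a 5 6 = T.w 5 ∧ T.a 6 5 = 2 * T.w 6) ∧ Hide (α56 = 1 ∧ α65 = 2)) ∧ q56 = 2) ∨ ((Hide (x56 = 2 * T.m 6 ∧ x65 = T.m 5) ∧ Hide (T.a 5 6 = 2 * T.w 5 ∧ T.a 6 5 = T.w 6) ∧ Hide (α56 = 2 ∧ α65 = 1)) ∧ q56 = 2) ∨ ((Hide (x56 = T.m 6 ∧ x65 = 3 * T.m 5) ∧ Hide (T.a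 5 6 = T.w 5 ∧ T.a 6 5 = 3 * T.w 6) ∧ Hide (α56 = 1 ∧ α65 = 3)) ∧ q56 = 3) ∨ ((Hide (x56 = 3 * T.m 6 ∧ x65 = T.m 5) ∧ Hide (T.a 5 6 = 3 * T.w 5 ∧ T.a 6 5 = T.w 6) ∧ Hide (α56 = 3 ∧ α65 = 1)) ∧ q56 = 3) ∨ ((Hide (x56 = T.m 6 ∧ x65 = 4 * T.m 5) ∧ Hide (T.a 5 6 = T.w 5 ∧ T.a 6 5 = 4 * T.w 6) ∧ Hide (α56 = 1 ∧ α65 = 4)) ∧ q56 = 4) ∨ ((Hide (x56 = 4 * T.m 6 ∧ x65 = T.m 5) ∧ Hide (T.a 5 6 = 4 * T.w 5 ∧ T.a 6 5 = T.w 6) ∧ Hide (α56 = 4 ∧ α65 = 1)) ∧ q56 = 4) ∨ ((Hide (x56 = 2 * T.m 6 ∧ x65 = 2 * T.m 5) ∧ Hide (T.a 5 6 = 2 * T.w 5 ∧ T.a 6 5 = 2 * T.w 6) ∧ Hide (α56 = 2 ∧ α65 = 2)) ∧ q56 = 4)))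
    (c57 : Hide (((Hide (x57 = 0 ∧ x75 = 0) ∧ Hide (T.a 5 7 = 0 ∧ T.a 7 5 = 0) ∧ Hide (α57 = 0 ∧ α75 = 0)) ∧ q57 = 0) ∨ ((Hide (x57 = T.m 7 ∧ x75 = T.m 5) ∧ Hide (T.a 5 7 = T.w 5 ∧ T.a 7 5 = T.w 7) ∧ Hide (α57 = 1 ∧ α75 = 1)) ∧ q57 = 1) ∨ ((Hide (x57 = T.m 7 ∧ x75 = 2 * T.m 5) ∧ Hide (T.a 5 7 = T.w 5 ∧ T.a 7 5 = 2 * T.w 7) ∧ Hide (α57 = 1 ∧ α75 = 2)) ∧ q57 = 2) ∨ ((Hide (x57 = 2 * T.m 7 ∧ x75 = T.m 5) ∧ Hide (T.a 5 7 = 2 * T.w 5 ∧ T.a 7 5 = T.w 7) ∧ Hide (α57 = 2 ∧ α75 = 1)) ∧ q57 = 2) ∨ ((Hide (x57 = T.m 7 ∧ x75 = 3 * T.m 5) ∧ Hide (T.a 5 7 = T.w 5 ∧ T.a 7 5 = 3 * T.w 7) ∧ Hide (α57 = 1 ∧ α75 = 3)) ∧ q57 = 3) ∨ ((Hide (x57 = 3 * T.m 7 ∧ x75 = T.m 5) ∧ Hide (T.a 5 7 = 3 * T.w 5 ∧ T.a 7 5 = T.w 7) ∧ Hide (α57 = 3 ∧ α75 = 1)) ∧ q57 = 3) ∨ ((Hide (x57 = T.m 7 ∧ x75 = 4 * T.m 5) ∧ Hide (T.a 5 7 = T.w 5 ∧ T.a 7 5 = 4 * T.w 7) ∧ Hide (α57 = 1 ∧ α75 = 4)) ∧ q57 = 4) ∨ ((Hide (x57 = 4 * T.m 7 ∧ x75 = T.m 5) ∧ Hide (T.a 5 7 = 4 * T.w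 5 ∧ T.a 7 5 = T.w 7) ∧ Hide (α57 = 4 ∧ α75 = 1)) ∧ q57 = 4) ∨ ((Hide (x57 = 2 * T.m 7 ∧ x75 = 2 * T.m 5) ∧ Hide (T.a 5 7 = 2 * T.w 5 ∧ T.a 7 5 = 2 * T.w 7) ∧ Hide (α57 = 2 ∧ α75 = 2)) ∧ q57 = 4)))
    (c67 : Hide (((Hide (x67 = 0 ∧ x76 = 0) ∧ Hide (T.a 6 7 = 0 ∧ T.a 7 6 = 0) ∧ Hide (α67 = 0 ∧ α76 = 0)) ∧ q67 = 0) ∨ ((Hide (x67 = T.m 7 ∧ x76 = T.m 6) ∧ Hide (T.a 6 7 = T.w 6 ∧ T.a 7 6 = T.w 7) ∧ Hide (α67 = 1 ∧ α76 = 1)) ∧ q67 = 1) ∨ ((Hide (x67 = T.m 7 ∧ x76 = 2 * T.m 6) ∧ Hide (T.a 6 7 = T.w 6 ∧ T.a 7 6 = 2 * T.w 7) ∧ Hide (α67 = 1 ∧ α76 = 2)) ∧ q67 = 2) ∨ ((Hide (x67 = 2 * T.m 7 ∧ x76 = T.m 6) ∧ Hide (T.a 6 7 = 2 * T.w 6 ∧ T.a 7 6 = T.w 7) ∧ Hide (α67 = 2 ∧ α76 = 1)) ∧ q67 = 2) ∨ ((Hide (x67 = T.m 7 ∧ x76 = 3 * T.m 6) ∧ Hide (T.a 6 7 = T.w 6 ∧ T.a 7 6 = 3 * T.w 7) ∧ Hide (α67 = 1 ∧ α76 = 3)) ∧ q67 = 3) ∨ ((Hide (x67 = 3 * T.m 7 ∧ x76 = T.m 6) ∧ Hide (T.a 6 7 = 3 * T.w 6 ∧ T.a 7 6 = T.w 7) ∧ Hide (α67 = 3 ∧ α76 = 1)) ∧ q67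 = 3) ∨ ((Hide (x67 = T.m 7 ∧ x76 = 4 * T.m 6) ∧ Hide (T.a 6 7 = T.w 6 ∧ T.a 7 6 = 4 * T.w 7) ∧ Hide (α67 = 1 ∧ α76 = 4)) ∧ q67 = 4) ∨ ((Hide (x67 = 4 * T.m 7 ∧ x76 = T.m 6) ∧ Hide (T.a 6 7 = 4 * T.w 6 ∧ T.a 7 6 = T.w 7) ∧ Hide (α67 = 4 ∧ α76 = 1)) ∧ q67 = 4) ∨ ((Hide (x67 = 2 * T.m 7 ∧ x76 = 2 * T.m 6) ∧ Hide (T.a 6 7 = 2 * T.w 6 ∧ T.a 7 6 = 2 * T.w 7) ∧ Hide (α67 = 2 ∧ α76 = 2)) ∧ q67 = 4)))
    (gw01 : Hide (T.a 0 1 = T.w 0 ∧ T.a 1 0 = T.w 1))
    (gw02 : Hide (T.a 0 2 = 0 ∧ T.a 2 0 = 0))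
    (gw03 : Hide (T.a 0 3 = 0 ∧ T.a 3 0 = 0))
    (gw04 : Hide (T.a 0 4 = 0 ∧ T.a 4 0 = 0))
    (gw05 : Hide (T.a 0 5 = 0 ∧ T.a 5 0 = 0))
    (gw06 : Hide (T.a 0 6 = 0 ∧ T.a 6 0 = 0))
    (gw07 : Hide (T.a 0 7 = 0 ∧ T.a 7 0 = 0))
    (gw12 : Hide (T.a 1 2 = T.w 1 ∧ T.a 2 1 = T.w 2))
    (gw13 : Hide (T.a 1 3 = 0 ∧ T.a 3 1 = 0))
    (gw14 : Hide (T.a 1 4 = T.w 1 ∧ T.a 4 1 = T.w 4))
    (gw15 : Hide (T.a 1 5 = 0 ∧ T.a 5 1 = 0))
    (gw16 : Hide (T.a 1 6 = 0 ∧ T.a 6 1 = 0))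
    (gw17 : Hide (T.a 1 7 = 0 ∧ T.a 7 1 = 0))
    (gw23 : Hide (T.a 2 3 = T.w 2 ∧ T.a 3 2 = T.w 3))
    (gw24 : Hide (T.a 2 4 = 0 ∧ T.a 4 2 = 0))
    (gw25 : Hide (T.a 2 5 = 0 ∧ T.a 5 2 = 0))
    (gw26 : Hide (T.a 2 6 = 0 ∧ T.a 6 2 = 0))
    (gw27 : Hide (T.a 2 7 = 0 ∧ T.a 7 2 = 0))
    (gw34 : Hide (T.a 3 4 = 0 ∧ T.a 4 3 = 0)) : Goal T := by
  have t := pc3 q35 c35.out (by have := v3.out; have := qn36.out; have := qn37.out; omega)
  clear c35
  rcases t with ⟨⟨⟨rfl, rfl⟩, gw35, ⟨rfl, rfl⟩⟩, rfl⟩ | ⟨⟨⟨rfl, rfl⟩, gw35, ⟨rfl, rfl⟩⟩, rfl⟩ | ⟨⟨⟨rfl, rfl⟩, gw35, ⟨rfl, rfl⟩⟩, rfl⟩ | ⟨⟨⟨rfl, rfl⟩, gw35, ⟨rfl, rfl⟩⟩, rfl⟩ | ⟨⟨⟨rfl, rfl⟩, gw35, ⟨rfl, rfl⟩⟩, rfl⟩ | ⟨⟨⟨rfl, rfl⟩, gw35, ⟨rfl, rfl⟩⟩, rfl⟩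
  · have t := pc3 q36 c36.out (by have := v3.out; have := qn37.out; omega)
    clear c36
    rcases t with ⟨⟨⟨rfl, rfl⟩, gw36, ⟨rfl, rfl⟩⟩, rfl⟩ | ⟨⟨⟨rfl, rfl⟩, gw36, ⟨rfl, rfl⟩⟩, rfl⟩ | ⟨⟨⟨rfl, rfl⟩, gw36, ⟨rfl, rfl⟩⟩, rfl⟩ | ⟨⟨⟨rfl, rfl⟩, gw36, ⟨rfl, rfl⟩⟩, rfl⟩ | ⟨⟨⟨rfl, rfl⟩, gw36, ⟨rfl, rfl⟩⟩, rfl⟩ | ⟨⟨⟨rfl, rfl⟩, gw36, ⟨rfl, rfl⟩⟩, rfl⟩
    · have t := pc3 q37 c37.out (by have := v3.out; omega)
      clear c37
      rcases t with ⟨⟨⟨rfl, rfl⟩, gw37, ⟨rfl, rfl⟩⟩, rfl⟩ | ⟨⟨⟨rfl, rfl⟩, gw37, ⟨rfl, rfl⟩⟩, rfl⟩ | ⟨⟨⟨rfl, rfl⟩, gw37, ⟨rfl, rfl⟩⟩, rfl⟩ | ⟨⟨⟨rfl, rfl⟩, gw37, ⟨rfl, rfl⟩⟩, rfl⟩ | ⟨⟨⟨rfl, rfl⟩, gw37, ⟨rfl, rfl⟩⟩, rfl⟩ | ⟨⟨⟨rfl, rfl⟩, gw37, ⟨rfl, rfl⟩⟩, rfl⟩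
      · (have := hm1.out; have := om3.out; have := e0.out; have := e2.out; have := e3.out; omega)
      · have t := pc3 q45 c45.out (by have := v4.out; have := qn46.out; have := qn47.out; omega)
        clear c45
        rcases t with ⟨⟨⟨rfl, rfl⟩, gw45, ⟨rfl, rfl⟩⟩, rfl⟩ | ⟨⟨⟨rfl, rfl⟩, gw45, ⟨rfl, rfl⟩⟩, rfl⟩ | ⟨⟨⟨rfl, rfl⟩, gw45, ⟨rfl, rfl⟩⟩, rfl⟩ | ⟨⟨⟨rfl, rfl⟩, gw45, ⟨rfl, rfl⟩⟩, rfl⟩ | ⟨⟨⟨rfl, rfl⟩, gw45, ⟨rfl, rfl⟩⟩, rfl⟩ | ⟨⟨⟨rfl, rfl⟩, gw45, ⟨rfl, rfl⟩⟩, rfl⟩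
        · (have := od5.out; omega)
        · (have := hm2.out; have := om5.out; have := om7.out; have := e0.out; have := e1.out; have := e2.out; have := e3.out; have := e4.out; have := r46.out; have := r47.out; omega)
        · (have := hm3.out; have := e0.out; have := e1.out; have := e2.out; have := e4.out; have := r46.out; have := r47.out; have := e5.out; have := r56.out; have := r57.out; omega)
        · (have := hm3.out; have := om5.out; have := e0.out; have := e1.out; have := e2.out; have := e4.out; have := r46.out; have := r47.out; omega)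
        · (have := hm0.out; have := hm2.out; have := e1.out; have := e4.out; have := r46.out; have := r47.out; have := e5.out; have := r56.out; have := r57.out; omega)
        · (have := hm0.out; have := hm2.out; have := e1.out; have := e4.out; have := r46.out; have := r47.out; have := e5.out; have := r56.out; have := r57.out; omega)
      · have t := pc3 q45 c45.out (by have := v4.out; have := qn46.out; have := qn47.out; omega)
        clear c45
        rcases t with ⟨⟨⟨rfl, rfl⟩, gw45, ⟨rfl, rfl⟩⟩, rfl⟩ | ⟨⟨⟨rfl, rfl⟩, gw45, ⟨rfl, rfl⟩⟩, rfl⟩ | ⟨⟨⟨rfl, rfl⟩, gw45, ⟨rfl, rfl⟩⟩, rfl⟩ | ⟨⟨⟨rfl, rfl⟩, gw45, ⟨rfl, rfl⟩⟩, rfl⟩ | ⟨⟨⟨rfl, rfl⟩, gw45, ⟨rfl, rfl⟩⟩, rfl⟩ | ⟨⟨⟨rfl, rfl⟩, gw45, ⟨rfl, rfl⟩⟩, rfl⟩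
        · (have := od5.out; omega)
        · (have := hm5.out; have := e0.out; have := e1.out; have := e2.out; have := e3.out; have := e4.out; have := r46.out; have := r47.out; have := e7.out; have := r74.out; have := r75.out; have := r76.out; omega)
        · (have := hm3.out; have := e0.out; have := e1.out; have := e2.out; have := e4.out; have := r46.out; have := r47.out; have := e5.out; have := r56.out; have := r57.out; omega)
        · (have := hm3.out; have := om5.out; have := e0.out; have := e1.out; have := e2.out; have := e4.out; have := r46.out; have := r47.out; omega)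
        · (have := hm5.out; have := e0.out; have := e1.out; have := e2.out; have := e3.out; have := e4.out; have := r46.out; have := r47.out; have := e7.out; have := r74.out; have := r75.out; have := r76.out; omega)
        · (have := hm5.out; have := e0.out; have := e1.out; have := e2.out; have := e3.out; have := e4.out; have := r46.out; have := r47.out; have := e7.out; have := r74.out; have := r75.out; have := r76.out; omega)
      · have t := pc3 q45 c45.out (by have := v4.out; have := qn46.out; have := qn47.out; omega)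
        clear c45
        rcases t with ⟨⟨⟨rfl, rfl⟩, gw45, ⟨rfl, rfl⟩⟩, rfl⟩ | ⟨⟨⟨rfl, rfl⟩, gw45, ⟨rfl, rfl⟩⟩, rfl⟩ | ⟨⟨⟨rfl, rfl⟩, gw45, ⟨rfl, rfl⟩⟩, rfl⟩ | ⟨⟨⟨rfl, rfl⟩, gw45, ⟨rfl, rfl⟩⟩, rfl⟩ | ⟨⟨⟨rfl, rfl⟩, gw45, ⟨rfl, rfl⟩⟩, rfl⟩ | ⟨⟨⟨rfl, rfl⟩, gw45, ⟨rfl, rfl⟩⟩, rfl⟩
        · (have := od5.out; omega)
        · (have := hm5.out; have := e0.out; have := e1.out; have := e2.out; have := e3.out; have := e4.out; have := r46.out; have := r47.out; have := e7.out; have := r74.out; have := r75.out; have := r76.out; omega)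
        · (have := hm3.out; have := e0.out; have := e1.out; have := e2.out; have := e4.out; have := r46.out; have := r47.out; have := e5.out; have := r56.out; have := r57.out; omega)
        · (have := hm3.out; have := om5.out; have := e0.out; have := e1.out; have := e2.out; have := e4.out; have := r46.out; have := r47.out; omega)
        · (have := hm5.out; have := e0.out; have := e1.out; have := e2.out; have := e3.out; have := e4.out; have := r46.out; have := r47.out; have := e7.out; have := r74.out; have := r75.out; have := r76.out; omega)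
        · (have := hm5.out; have := e0.out; have := e1.out; have := e2.out; have := e3.out; have := e4.out; have := r46.out; have := r47.out; have := e7.out; have := r74.out; have := r75.out; have := r76.out; omega)
      · (have := hm1.out; have := e2.out; have := e3.out; have := e7.out; have := r74.out; have := r75.out; have := r76.out; omega)
      · (have := hm1.out; have := e2.out; have := e3.out; have := e7.out; have := r74.out; have := r75.out; have := r76.out; omega)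
    · have t := pc2 q37 c37.out (by have := v3.out; omega)
      clear c37
      rcases t with ⟨⟨⟨rfl, rfl⟩, gw37, ⟨rfl, rfl⟩⟩, rfl⟩ | ⟨⟨⟨rfl, rfl⟩, gw37, ⟨rfl, rfl⟩⟩, rfl⟩ | ⟨⟨⟨rfl, rfl⟩, gw37, ⟨rfl, rfl⟩⟩, rfl⟩ | ⟨⟨⟨rfl, rfl⟩, gw37, ⟨rfl, rfl⟩⟩, rfl⟩
      · have t := pc3 q45 c45.out (by have := v4.out; have := qn46.out; have := qn47.out; omega)
        clear c45
        rcases t with ⟨⟨⟨rfl, rfl⟩, gw45, ⟨rfl, rfl⟩⟩, rfl⟩ | ⟨⟨⟨rfl, rfl⟩, gw45, ⟨rfl, rfl⟩⟩, rfl⟩ | ⟨⟨⟨rfl, rfl⟩, gw45, ⟨rfl, rfl⟩⟩, rfl⟩ | ⟨⟨⟨rfl, rfl⟩, gw45, ⟨rfl, rfl⟩⟩, rfl⟩ | ⟨⟨⟨rfl, rfl⟩, gw45, ⟨rfl, rfl⟩⟩, rfl⟩ | ⟨⟨⟨rfl, rfl⟩, gw45, ⟨rfl, rfl⟩⟩, rfl⟩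
        · (have := od5.out; omega)
        · (have := hm2.out; have := om5.out; have := om6.out; have := e0.out; have := e1.out; have := e2.out; have := e3.out; have := e4.out; have := r46.out; have := r47.out; omega)
        · (have := hm3.out; have := e0.out; have := e1.out; have := e2.out; have := e4.out; have := r46.out; have := r47.out; have := e5.out; have := r56.out; have := r57.out; omega)
        · (have := hm3.out; have := om5.out; have := e0.out; have := e1.out; have := e2.out; have := e4.out; have := r46.out; have := r47.out; omega)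
        · (have := hm0.out; have := hm2.out; have := e1.out; have := e4.out; have := r46.out; have := r47.out; have := e5.out; have := r56.out; have := r57.out; omega)
        · (have := hm0.out; have := hm2.out; have := e1.out; have := e4.out; have := r46.out; have := r47.out; have := e5.out; have := r56.out; have := r57.out; omega)
      · have t := pc3 q45 c45.out (by have := v4.out; have := qn46.out; have := qn47.out; omega)
        clear c45
        rcases t with ⟨⟨⟨rfl, rfl⟩, gw45, ⟨rfl, rfl⟩⟩, rfl⟩ | ⟨⟨⟨rfl, rfl⟩, gw45, ⟨rfl, rfl⟩⟩, rfl⟩ | ⟨⟨⟨rfl, rfl⟩, gw45, ⟨rfl, rfl⟩⟩, rfl⟩ | ⟨⟨⟨rfl, rfl⟩, gw45, ⟨rfl, rfl⟩⟩, rfl⟩ | ⟨⟨⟨rfl, rfl⟩, gw45, ⟨rfl, rfl⟩⟩, rfl⟩ | ⟨⟨⟨rfl, rfl⟩, gw45, ⟨rfl, rfl⟩⟩, rfl⟩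
        · (have := od5.out; omega)
        · (have := hm7.out; have := om5.out; have := e0.out; have := e1.out; have := e2.out; have := e3.out; have := e4.out; have := r46.out; have := r47.out; have := e6.out; have := r64.out; have := r65.out; have := r67.out; omega)
        · (have := hm3.out; have := e0.out; have := e1.out; have := e2.out; have := e4.out; have := r46.out; have := r47.out; have := e5.out; have := r56.out; have := r57.out; omega)
        · (have := hm3.out; have := om5.out; have := e0.out; have := e1.out; have := e2.out; have := e4.out; have := r46.out; have := r47.out; omega)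
        · (have := hm7.out; have := om5.out; have := e0.out; have := e1.out; have := e2.out; have := e3.out; have := e4.out; have := r46.out; have := r47.out; have := e6.out; have := r64.out; have := r65.out; have := r67.out; omega)
        · (have := hm5.out; have := e0.out; have := e1.out; have := e2.out; have := e3.out; have := e4.out; have := r46.out; have := r47.out; have := e6.out; have := r64.out; have := r65.out; have := r67.out; have := e7.out; have := r74.out; have := r75.out; have := r76.out; omega)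
      · (have := hm6.out; have := om4.out; have := e0.out; have := e1.out; have := e2.out; have := e3.out; have := e7.out; have := r74.out; have := r75.out; have := r76.out; omega)
      · (have := hm6.out; have := om4.out; have := e0.out; have := e1.out; have := e2.out; have := e3.out; have := e7.out; have := r74.out; have := r75.out; have := r76.out; omega)
    · have t := pc1 q37 c37.out (by have := v3.out; omega)
      clear c37
      rcases t with ⟨⟨⟨rfl, rfl⟩, gw37, ⟨rfl, rfl⟩⟩, rfl⟩ | ⟨⟨⟨rfl, rfl⟩, gw37, ⟨rfl, rfl⟩⟩, rfl⟩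
      · have t := pc3 q45 c45.out (by have := v4.out; have := qn46.out; have := qn47.out; omega)
        clear c45
        rcases t with ⟨⟨⟨rfl, rfl⟩, gw45, ⟨rfl, rfl⟩⟩, rfl⟩ | ⟨⟨⟨rfl, rfl⟩, gw45, ⟨rfl, rfl⟩⟩, rfl⟩ | ⟨⟨⟨rfl, rfl⟩, gw45, ⟨rfl, rfl⟩⟩, rfl⟩ | ⟨⟨⟨rfl, rfl⟩, gw45, ⟨rfl, rfl⟩⟩, rfl⟩ | ⟨⟨⟨rfl, rfl⟩, gw45, ⟨rfl, rfl⟩⟩, rfl⟩ | ⟨⟨⟨rfl, rfl⟩, gw45, ⟨rfl, rfl⟩⟩, rfl⟩
        · (have := od5.out; omega)
        · (have := hm5.out; have := e0.out; have := e1.out; have := e2.out; have := e3.out; have := e4.out; have := r46.out; have := r47.out; have := e6.out; have := r64.out; have := r65.out; have := r67.out; omega)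
        · (have := hm3.out; have := e0.out; have := e1.out; have := e2.out; have := e4.out; have := r46.out; have := r47.out; have := e5.out; have := r56.out; have := r57.out; omega)
        · (have := hm3.out; have := om5.out; have := e0.out; have := e1.out; have := e2.out; have := e4.out; have := r46.out; have := r47.out; omega)
        · (have := hm5.out; have := e0.out; have := e1.out; have := e2.out; have := e3.out; have := e4.out; have := r46.out; have := r47.out; have := e6.out; have := r64.out; have := r65.out; have := r67.out; omega)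
        · (have := hm5.out; have := e0.out; have := e1.out; have := e2.out; have := e3.out; have := e4.out; have := r46.out; have := r47.out; have := e6.out; have := r64.out; have := r65.out; have := r67.out; omega)
      · (have := hm7.out; have := om4.out; have := e0.out; have := e1.out; have := e2.out; have := e3.out; have := e6.out; have := r64.out; have := r65.out; have := r67.out; omega)
    · have t := pc1 q37 c37.out (by have := v3.out; omega)
      clear c37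
      rcases t with ⟨⟨⟨rfl, rfl⟩, gw37, ⟨rfl, rfl⟩⟩, rfl⟩ | ⟨⟨⟨rfl, rfl⟩, gw37, ⟨rfl, rfl⟩⟩, rfl⟩
      · have t := pc3 q45 c45.out (by have := v4.out; have := qn46.out; have := qn47.out; omega)
        clear c45
        rcases t with ⟨⟨⟨rfl, rfl⟩, gw45, ⟨rfl, rfl⟩⟩, rfl⟩ | ⟨⟨⟨rfl, rfl⟩, gw45, ⟨rfl, rfl⟩⟩, rfl⟩ | ⟨⟨⟨rfl, rfl⟩, gw45, ⟨rfl, rfl⟩⟩, rfl⟩ | ⟨⟨⟨rfl, rfl⟩, gw45, ⟨rfl, rfl⟩⟩, rfl⟩ | ⟨⟨⟨rfl, rfl⟩, gw45, ⟨rfl, rfl⟩⟩, rfl⟩ | ⟨⟨⟨rfl, rfl⟩, gw45, ⟨rfl, rfl⟩⟩, rfl⟩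
        · (have := od5.out; omega)
        · (have := hm5.out; have := e0.out; have := e1.out; have := e2.out; have := e3.out; have := e4.out; have := r46.out; have := r47.out; have := e6.out; have := r64.out; have := r65.out; have := r67.out; omega)
        · (have := hm3.out; have := e0.out; have := e1.out; have := e2.out; have := e4.out; have := r46.out; have := r47.out; have := e5.out; have := r56.out; have := r57.out; omega)
        · (have := hm3.out; have := om5.out; have := e0.out; have := e1.out; have := e2.out; have := e4.out; have := r46.out; have := r47.out; omega)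
        · (have := hm5.out; have := e0.out; have := e1.out; have := e2.out; have := e3.out; have := e4.out; have := r46.out; have := r47.out; have := e6.out; have := r64.out; have := r65.out; have := r67.out; omega)
        · (have := hm5.out; have := e0.out; have := e1.out; have := e2.out; have := e3.out; have := e4.out; have := r46.out; have := r47.out; have := e6.out; have := r64.out; have := r65.out; have := r67.out; omega)
      · (have := hm7.out; have := om4.out; have := e0.out; have := e1.out; have := e2.out; have := e3.out; have := e6.out; have := r64.out; have := r65.out; have := r67.out; omega)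
    · (have := hm1.out; have := e2.out; have := e3.out; have := r37.out; have := e6.out; have := r64.out; have := r65.out; have := r67.out; omega)
    · (have := hm1.out; have := e2.out; have := e3.out; have := r37.out; have := e6.out; have := r64.out; have := r65.out; have := r67.out; omega)
  · have t := pc2 q36 c36.out (by have := v3.out; have := qn37.out; omega)
    clear c36
    rcases t with ⟨⟨⟨rfl, rfl⟩, gw36, ⟨rfl, rfl⟩⟩, rfl⟩ | ⟨⟨⟨rfl, rfl⟩, gw36, ⟨rfl, rfl⟩⟩, rfl⟩ | ⟨⟨⟨rfl, rfl⟩, gw36, ⟨rfl, rfl⟩⟩, rfl⟩ | ⟨⟨⟨rfl, rfl⟩, gw36, ⟨rfl, rfl⟩⟩, rfl⟩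
    · have t := pc2 q37 c37.out (by have := v3.out; omega)
      clear c37
      rcases t with ⟨⟨⟨rfl, rfl⟩, gw37, ⟨rfl, rfl⟩⟩, rfl⟩ | ⟨⟨⟨rfl, rfl⟩, gw37, ⟨rfl, rfl⟩⟩, rfl⟩ | ⟨⟨⟨rfl, rfl⟩, gw37, ⟨rfl, rfl⟩⟩, rfl⟩ | ⟨⟨⟨rfl, rfl⟩, gw37, ⟨rfl, rfl⟩⟩, rfl⟩
      · have t := pc3 q45 c45.out (by have := v4.out; have := qn46.out; have := qn47.out; omega)
        clear c45
        rcases t with ⟨⟨⟨rfl, rfl⟩, gw45, ⟨rfl, rfl⟩⟩, rfl⟩ | ⟨⟨⟨rfl, rfl⟩, gw45, ⟨rfl, rfl⟩⟩, rfl⟩ | ⟨⟨⟨rfl, rfl⟩, gw45, ⟨rfl, rfl⟩⟩, rfl⟩ | ⟨⟨⟨rfl, rfl⟩, gw45, ⟨rfl, rfl⟩⟩, rfl⟩ | ⟨⟨⟨rfl, rfl⟩, gw45, ⟨rfl, rfl⟩⟩, rfl⟩ | ⟨⟨⟨rfl, rfl⟩, gw45, ⟨rfl, rfl⟩⟩, rfl⟩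
        · have t := pc3 q46 c46.out (by have := v4.out; have := qn47.out; omega)
          clear c46
          rcases t with ⟨⟨⟨rfl, rfl⟩, gw46, ⟨rfl, rfl⟩⟩, rfl⟩ | ⟨⟨⟨rfl, rfl⟩, gw46, ⟨rfl, rfl⟩⟩, rfl⟩ | ⟨⟨⟨rfl, rfl⟩, gw46, ⟨rfl, rfl⟩⟩, rfl⟩ | ⟨⟨⟨rfl, rfl⟩, gw46, ⟨rfl, rfl⟩⟩, rfl⟩ | ⟨⟨⟨rfl, rfl⟩, gw46, ⟨rfl, rfl⟩⟩, rfl⟩ | ⟨⟨⟨rfl, rfl⟩, gw46, ⟨rfl, rfl⟩⟩, rfl⟩
          · have t := pc3 q47 c47.out (by have := v4.out; omega)
            clear c47
            rcases t with ⟨⟨⟨rfl, rfl⟩, gw47, ⟨rfl, rfl⟩⟩, rfl⟩ | ⟨⟨⟨rfl, rfl⟩, gw47, ⟨rfl, rfl⟩⟩, rfl⟩ | ⟨⟨⟨rfl, rfl⟩, gw47, ⟨rfl, rfl⟩⟩, rfl⟩ | ⟨⟨⟨rfl, rfl⟩, gw47, ⟨rfl, rfl⟩⟩, rfl⟩ | ⟨⟨⟨rfl, rfl⟩, gw47, ⟨rfl, rfl⟩⟩, rfl⟩ | ⟨⟨⟨rfl, rfl⟩, gw47, ⟨rfl, rfl⟩⟩, rfl⟩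
            · have t := pc3 q56 c56.out (by have := v5.out; have := qn57.out; omega)
              clear c56
              rcases t with ⟨⟨⟨rfl, rfl⟩, gw56, ⟨rfl, rfl⟩⟩, rfl⟩ | ⟨⟨⟨rfl, rfl⟩, gw56, ⟨rfl, rfl⟩⟩, rfl⟩ | ⟨⟨⟨rfl, rfl⟩, gw56, ⟨rfl, rfl⟩⟩, rfl⟩ | ⟨⟨⟨rfl, rfl⟩, gw56, ⟨rfl, rfl⟩⟩, rfl⟩ | ⟨⟨⟨rfl, rfl⟩, gw56, ⟨rfl, rfl⟩⟩, rfl⟩ | ⟨⟨⟨rfl, rfl⟩, gw56, ⟨rfl, rfl⟩⟩, rfl⟩
              · (have := od6.out; omega)
              · have t := pc2 q57 c57.out (by have := v5.out; omega)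
                clear c57
                rcases t with ⟨⟨⟨rfl, rfl⟩, gw57, ⟨rfl, rfl⟩⟩, rfl⟩ | ⟨⟨⟨rfl, rfl⟩, gw57, ⟨rfl, rfl⟩⟩, rfl⟩ | ⟨⟨⟨rfl, rfl⟩, gw57, ⟨rfl, rfl⟩⟩, rfl⟩ | ⟨⟨⟨rfl, rfl⟩, gw57, ⟨rfl, rfl⟩⟩, rfl⟩
                · have t := pc3 q67 c67.out (by have := v6.out; omega)
                  clear c67
                  rcases t with ⟨⟨⟨rfl, rfl⟩, gw67, ⟨rfl, rfl⟩⟩, rfl⟩ | ⟨⟨⟨rfl, rfl⟩, gw67, ⟨rfl, rfl⟩⟩, rfl⟩ | ⟨⟨⟨rfl, rfl⟩, gw67, ⟨rfl, rfl⟩⟩, rfl⟩ | ⟨⟨⟨rfl, rfl⟩, gw67, ⟨rfl, rfl⟩⟩, rfl⟩ | ⟨⟨⟨rfl, rfl⟩, gw67, ⟨rfl, rfl⟩⟩, rfl⟩ | ⟨⟨⟨rfl, rfl⟩, gw67, ⟨rfl, rfl⟩⟩, rfl⟩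
                  · (have := od7.out; omega)
                  · (have := hm0.out; have := om7.out; have := e0.out; have := e1.out; have := e2.out; have := e4.out; have := e5.out; have := e6.out; have := e7.out; omega)
                  · have := hm0.out
                    have := hm1.out
                    have := hm2.out
                    have := hm3.out
                    have := hm4.out
                    have := hm5.out
                    have := hm6.out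
                    have := hm7.out
                    have := e0.out
                    have := e1.out
                    have := e2.out
                    have := e3.out
                    have := e4.out
                    have := e5.out
                    have := e6.out
                    have := e7.out
                    have := hw0.out
                    have := hw1.out
                    have := hw2.out
                    have := hw3.out
                    have := hw4.out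
                    have := hw5.out
                    have := hw6.out
                    have := hw7.out
                    have := hs01.out
                    have := hs02.out
                    have := hs03.out
                    have := hs04.out
                    have := hs05.out
                    have := hs06.out
                    have := hs07.out
                    have := hs12.out
                    have := hs13.out
                    have := hs14.out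
                    have := hs15.out
                    have := hs16.out
                    have := hs17.out
                    have := hs23.out
                    have := hs24.out
                    have := hs25.out
                    have := hs26.out
                    have := hs27.out
                    have := hs34.out
                    have := hs35.out
                    have := hs36.out
                    have := hs37.out
                    have := hs45.out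
                    have := hs46.out
                    have := hs47.out
                    have := hs56.out
                    have := hs57.out
                    have := hs67.out
                    have := ha00.out
                    have := ha11.out
                    have := ha22.out
                    have := ha33.out
                    have := ha44.out
                    have := ha55.out
                    have := ha66.out
                    have := ha77.out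
                    have := gw01.out
                    have := gw02.out
                    have := gw03.out
                    have := gw04.out
                    have := gw05.out
                    have := gw06.out
                    have := gw07.out
                    have := gw12.out
                    have := gw13.out
                    have := gw14.out
                    have := gw15.out
                    have := gw16.out
                    have := gw17.out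
                    have := gw23.out
                    have := gw24.out
                    have := gw25.out
                    have := gw26.out
                    have := gw27.out
                    have := gw34.out
                    have := gw35.out
                    have := gw36.out
                    have := gw37.out
                    have := gw45.out
                    have := gw46.out
                    have := gw47.out
                    have := gw56.out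
                    have := gw57.out
                    have := gw67.out
                    exact ⟨p76532104, T.m 0, T.w 7, Or.inr (Or.inr (Or.inr (Or.inr (Or.inr (Or.inl ((show T.m 7 = 2 * T.m 0 ∧ T.m 6 = 2 * T.m 0 ∧ T.m 5 = 2 * T.m 0 ∧ T.m 3 = 2 * T.m 0 ∧ T.m 2 = 2 * T.m 0 ∧ T.m 1 = 2 * T.m 0 ∧ T.m 0 = T.m 0 ∧ T.m 4 = T.m 0 ∧ T.w 7 = T.w 7 ∧ T.w 6 = 2 * T.w 7 ∧ T.w 5 = 2 * T.w 7 ∧ T.w 3 = 2 * T.w 7 ∧ T.w 2 = 2 * T.w 7 ∧ T.w 1 = 2 * T.w 7 ∧ T.w 0 = 2 * T.w 7 ∧ T.w 4 = 2 * T.w 7 ∧ T.a 7 7 = -2 * T.w 7 ∧ T.a 7 6 = 2 * T.w 7 ∧ T.a 7 5 = 0 ∧ T.a 7 3 = 0 ∧ T.a 7 2 = 0 ∧ T.a 7 1 = 0 ∧ T.a 7 0 = 0 ∧ T.a 7 4 = 0 ∧ T.a 6 6 = -4 * T.w 7 ∧ T.a 6 5 = 2 * T.w 7 ∧ T.a 6 3 = 0 ∧ T.a 6 2 = 0 ∧ T.a 6 1 = 0 ∧ T.a 6 0 = 0 ∧ T.a 6 4 = 0 ∧ T.a 5 5 = -4 * T.w 7 ∧ T.a 5 3 = 2 * T.w 7 ∧ T.a 5 2 = 0 ∧ T.a 5 1 = 0 ∧ T.a 5 0 = 0 ∧ T.a 5 4 = 0 ∧ T.a 3 3 = -4 * T.w 7 ∧ T.a 3 2 = 2 * T.w 7 ∧ T.a 3 1 = 0 ∧ T.a 3 0 = 0 ∧ T.a 3 4 = 0 ∧ T.a 2 2 = -4 * T.w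 7 ∧ T.a 2 1 = 2 * T.w 7 ∧ T.a 2 0 = 0 ∧ T.a 2 4 = 0 ∧ T.a 1 1 = -4 * T.w 7 ∧ T.a 1 0 = 2 * T.w 7 ∧ T.a 1 4 = 2 * T.w 7 ∧ T.a 0 0 = -4 * T.w 7 ∧ T.a 0 4 = 0 ∧ T.a 4 4 = -4 * T.w 7 from by omega)))))))⟩
                  · have := hm0.out
                    have := hm1.out
                    have := hm2.out
                    have := hm3.out
                    have := hm4.out
                    have := hm5.out
                    have := hm6.out
                    have := hm7.out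
                    have := e0.out
                    have := e1.out
                    have := e2.out
                    have := e3.out
                    have := e4.out
                    have := e5.out
                    have := e6.out
                    have := e7.out
                    have := hw0.out
                    have := hw1.out
                    have := hw2.out
                    have := hw3.out
                    have := hw4.out
                    have := hw5.out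
                    have := hw6.out
                    have := hw7.out
                    have := hs01.out
                    have := hs02.out
                    have := hs03.out
                    have := hs04.out
                    have := hs05.out
                    have := hs06.out
                    have := hs07.out
                    have := hs12.out
                    have := hs13.out
                    have := hs14.out
                    have := hs15.out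
                    have := hs16.out
                    have := hs17.out
                    have := hs23.out
                    have := hs24.out
                    have := hs25.out
                    have := hs26.out
                    have := hs27.out
                    have := hs34.out
                    have := hs35.out
                    have := hs36.out
                    have := hs37.out
                    have := hs45.out
                    have := hs46.out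
                    have := hs47.out
                    have := hs56.out
                    have := hs57.out
                    have := hs67.out
                    have := ha00.out
                    have := ha11.out
                    have := ha22.out
                    have := ha33.out
                    have := ha44.out
                    have := ha55.out
                    have := ha66.out
                    have := ha77.out
                    have := gw01.out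
                    have := gw02.out
                    have := gw03.out
                    have := gw04.out
                    have := gw05.out
                    have := gw06.out
                    have := gw07.out
                    have := gw12.out
                    have := gw13.out
                    have := gw14.out
                    have := gw15.out
                    have := gw16.out
                    have := gw17.out
                    have := gw23.out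
                    have := gw24.out
                    have := gw25.out
                    have := gw26.out
                    have := gw27.out
                    have := gw34.out
                    have := gw35.out
                    have := gw36.out
                    have := gw37.out
                    have := gw45.out
                    have := gw46.out
                    have := gw47.out
                    have := gw56.out
                    have := gw57.out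
                    have := gw67.out
                    exact ⟨p76532104, T.m 7, T.w 6, Or.inr (Or.inr (Or.inr (Or.inr (Or.inl ((show T.m 7 = T.m 7 ∧ T.m 6 = 2 * T.m 7 ∧ T.m 5 = 2 * T.m 7 ∧ T.m 3 = 2 * T.m 7 ∧ T.m 2 = 2 * T.m 7 ∧ T.m 1 = 2 * T.m 7 ∧ T.m 0 = T.m 7 ∧ T.m 4 = T.m 7 ∧ T.w 7 = 2 * T.w 6 ∧ T.w 6 = T.w 6 ∧ T.w 5 = T.w 6 ∧ T.w 3 = T.w 6 ∧ T.w 2 = T.w 6 ∧ T.w 1 = T.w 6 ∧ T.w 0 = T.w 6 ∧ T.w 4 = T.w 6 ∧ T.a 7 7 = -4 * T.w 6 ∧ T.a 7 6 = 2 * T.w 6 ∧ T.a 7 5 = 0 ∧ T.a 7 3 = 0 ∧ T.a 7 2 = 0 ∧ T.a 7 1 = 0 ∧ T.a 7 0 = 0 ∧ T.a 7 4 = 0 ∧ T.a 6 6 = -2 * T.w 6 ∧ T.a 6 5 = T.w 6 ∧ T.a 6 3 = 0 ∧ T.a 6 2 = 0 ∧ T.a 6 1 = 0 ∧ T.a 6 0 = 0 ∧ T.a 6 4 = 0 ∧ T.a 5 5 = -2 * T.w 6 ∧ T.a 5 3 = T.w 6 ∧ T.a 5 2 = 0 ∧ T.a 5 1 = 0 ∧ T.a 5 0 = 0 ∧ T.a 5 4 = 0 ∧ T.a 3 3 = -2 * T.w 6 ∧ T.a 3 2 = T.w 6 ∧ T.a 3 1 = 0 ∧ T.a 3 0 = 0 ∧ T.a 3 4 = 0 ∧ T.a 2 2 = -2 * T.w 6 ∧ T.a 2 1 = T.w 6 ∧ T.a 2 0 = 0 ∧ T.a 2 4 = 0 ∧ T.a 1 1 = -2 * T.w 6 ∧ T.a 1 0 =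 T.w 6 ∧ T.a 1 4 = T.w 6 ∧ T.a 0 0 = -2 * T.w 6 ∧ T.a 0 4 = 0 ∧ T.a 4 4 = -2 * T.w 6 from by omega))))))⟩
                  · (have := hm3.out; have := e5.out; have := e6.out; have := e7.out; omega)
                  · (have := hm3.out; have := e5.out; have := e6.out; have := e7.out; omega)
                · have t := pc3 q67 c67.out (by have := v6.out; omega)
                  clear c67
                  rcases t with ⟨⟨⟨rfl, rfl⟩, gw67, ⟨rfl, rfl⟩⟩, rfl⟩ | ⟨⟨⟨rfl, rfl⟩, gw67, ⟨rfl, rfl⟩⟩, rfl⟩ | ⟨⟨⟨rfl, rfl⟩, gw67, ⟨rfl, rfl⟩⟩, rfl⟩ | ⟨⟨⟨rfl, rfl⟩, gw67, ⟨rfl, rfl⟩⟩, rfl⟩ | ⟨⟨⟨rfl, rfl⟩, gw67, ⟨rfl, rfl⟩⟩, rfl⟩ | ⟨⟨⟨rfl, rfl⟩, gw67, ⟨rfl, rfl⟩⟩, rfl⟩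
                  · have := hm0.out
                    have := hm1.out
                    have := hm2.out
                    have := hm3.out
                    have := hm4.out
                    have := hm5.out
                    have := hm6.out
                    have := hm7.out
                    have := e0.out
                    have := e1.out
                    have := e2.out
                    have := e3.out
                    have := e4.out
                    have := e5.out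
                    have := e6.out
                    have := e7.out
                    have := hw0.out
                    have := hw1.out
                    have := hw2.out
                    have := hw3.out
                    have := hw4.out
                    have := hw5.out
                    have := hw6.out
                    have := hw7.out
                    have := hs01.out
                    have := hs02.out
                    have := hs03.out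
                    have := hs04.out
                    have := hs05.out
                    have := hs06.out
                    have := hs07.out
                    have := hs12.out
                    have := hs13.out
                    have := hs14.out
                    have := hs15.out
                    have := hs16.out
                    have := hs17.out
                    have := hs23.out
                    have := hs24.out
                    have := hs25.out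
                    have := hs26.out
                    have := hs27.out
                    have := hs34.out
                    have := hs35.out
                    have := hs36.out
                    have := hs37.out
                    have := hs45.out
                    have := hs46.out
                    have := hs47.out
                    have := hs56.out
                    have := hs57.out
                    have := hs67.out
                    have := ha00.out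
                    have := ha11.out
                    have := ha22.out
                    have := ha33.out
                    have := ha44.out
                    have := ha55.out
                    have := ha66.out
                    have := ha77.out
                    have := gw01.out
                    have := gw02.out
                    have := gw03.out
                    have := gw04.out
                    have := gw05.out
                    have := gw06.out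
                    have := gw07.out
                    have := gw12.out
                    have := gw13.out
                    have := gw14.out
                    have := gw15.out
                    have := gw16.out
                    have := gw17.out
                    have := gw23.out
                    have := gw24.out
                    have := gw25.out
                    have := gw26.out
                    have := gw27.out
                    have := gw34.out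
                    have := gw35.out
                    have := gw36.out
                    have := gw37.out
                    have := gw45.out
                    have := gw46.out
                    have := gw47.out
                    have := gw56.out
                    have := gw57.out
                    have := gw67.out
                    exact ⟨p04123567, T.m 0, T.w 0, Or.inr (Or.inr (Or.inr (Or.inr (Or.inr (Or.inr (Or.inl ((show T.m 0 = T.m 0 ∧ T.m 4 = T.m 0 ∧ T.m 1 = 2 * T.m 0 ∧ T.m 2 = 2 * T.m 0 ∧ T.m 3 = 2 * T.m 0 ∧ T.m 5 = 2 * T.m 0 ∧ T.m 6 = T.m 0 ∧ T.m 7 = T.m 0 ∧ T.w 0 = T.w 0 ∧ T.w 4 = T.w 0 ∧ T.w 1 = T.w 0 ∧ T.w 2 = T.w 0 ∧ T.w 3 = T.w 0 ∧ T.w 5 = T.w 0 ∧ T.w 6 = T.w 0 ∧ T.w 7 = T.w 0 ∧ T.a 0 0 = -2 * T.w 0 ∧ T.a 0 4 = 0 ∧ T.a 0 1 = T.w 0 ∧ T.a 0 2 = 0 ∧ T.a 0 3 = 0 ∧ T.a 0 5 = 0 ∧ T.a 0 6 = 0 ∧ T.a 0 7 = 0 ∧ T.a 4 4 = -2 * T.w 0 ∧ T.a 4 1 = T.w 0 ∧ T.a 4 2 = 0 ∧ T.a 4 3 = 0 ∧ T.a 4 5 = 0 ∧ T.a 4 6 =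 0 ∧ T.a 4 7 = 0 ∧ T.a 1 1 = -2 * T.w 0 ∧ T.a 1 2 = T.w 0 ∧ T.a 1 3 = 0 ∧ T.a 1 5 = 0 ∧ T.a 1 6 = 0 ∧ T.a 1 7 = 0 ∧ T.a 2 2 = -2 * T.w 0 ∧ T.a 2 3 = T.w 0 ∧ T.a 2 5 = 0 ∧ T.a 2 6 = 0 ∧ T.a 2 7 = 0 ∧ T.a 3 3 = -2 * T.w 0 ∧ T.a 3 5 = T.w 0 ∧ T.a 3 6 = 0 ∧ T.a 3 7 = 0 ∧ T.a 5 5 = -2 * T.w 0 ∧ T.a 5 6 = T.w 0 ∧ T.a 5 7 = T.w 0 ∧ T.a 6 6 = -2 * T.w 0 ∧ T.a 6 7 = 0 ∧ T.a 7 7 = -2 * T.w 0 from by omega))))))))⟩
                  · (have := hm3.out; have := e5.out; have := e6.out; have := e7.out; omega)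
                  · (have := hm3.out; have := hm6.out; have := e5.out; have := e6.out; have := e7.out; omega)
                  · (have := hm3.out; have := hm7.out; have := e5.out; have := e6.out; have := e7.out; omega)
                  · (have := hm0.out; have := om6.out; have := e0.out; have := e1.out; have := e2.out; have := e4.out; have := e5.out; have := e6.out; have := e7.out; omega)
                  · (have := hm1.out; have := om6.out; have := e0.out; have := e2.out; have := e3.out; have := e5.out; have := e6.out; have := e7.out; omega)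
                · (have := hm6.out; have := om4.out; have := e0.out; have := e1.out; have := e2.out; have := e3.out; have := e5.out; have := e7.out; have := r76.out; omega)
                · (have := hm6.out; have := om4.out; have := e0.out; have := e1.out; have := e2.out; have := e3.out; have := e5.out; have := e7.out; have := r76.out; omega)
              · have t := pc1 q57 c57.out (by have := v5.out; omega)
                clear c57
                rcases t with ⟨⟨⟨rfl, rfl⟩, gw57, ⟨rfl, rfl⟩⟩, rfl⟩ | ⟨⟨⟨rfl, rfl⟩, gw57, ⟨rfl, rfl⟩⟩, rfl⟩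
                · have t := pc2 q67 c67.out (by have := v6.out; omega)
                  clear c67
                  rcases t with ⟨⟨⟨rfl, rfl⟩, gw67, ⟨rfl, rfl⟩⟩, rfl⟩ | ⟨⟨⟨rfl, rfl⟩, gw67, ⟨rfl, rfl⟩⟩, rfl⟩ | ⟨⟨⟨rfl, rfl⟩, gw67, ⟨rfl, rfl⟩⟩, rfl⟩ | ⟨⟨⟨rfl, rfl⟩, gw67, ⟨rfl, rfl⟩⟩, rfl⟩
                  · (have := od7.out; omega)
                  · (have := hm1.out; have := e2.out; have := e3.out; have := e5.out; have := e6.out; have := e7.out; omega)
                  · (have := hm3.out; have := e5.out; have := e6.out; have := e7.out; omega)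
                  · (have := hm3.out; have := e5.out; have := e6.out; have := e7.out; omega)
                · (have := hm7.out; have := om4.out; have := e0.out; have := e1.out; have := e2.out; have := e3.out; have := e5.out; have := e6.out; have := r67.out; omega)
              · have t := pc1 q57 c57.out (by have := v5.out; omega)
                clear c57
                rcases t with ⟨⟨⟨rfl, rfl⟩, gw57, ⟨rfl, rfl⟩⟩, rfl⟩ | ⟨⟨⟨rfl, rfl⟩, gw57, ⟨rfl, rfl⟩⟩, rfl⟩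
                · have t := pc2 q67 c67.out (by have := v6.out; omega)
                  clear c67
                  rcases t with ⟨⟨⟨rfl, rfl⟩, gw67, ⟨rfl, rfl⟩⟩, rfl⟩ | ⟨⟨⟨rfl, rfl⟩, gw67, ⟨rfl, rfl⟩⟩, rfl⟩ | ⟨⟨⟨rfl, rfl⟩, gw67, ⟨rfl, rfl⟩⟩, rfl⟩ | ⟨⟨⟨rfl, rfl⟩, gw67, ⟨rfl, rfl⟩⟩, rfl⟩
                  · (have := od7.out; omega)
                  · (have := hm1.out; have := e2.out; have := e3.out; have := e5.out; have := e6.out; have := e7.out; omega)
                  · (have := hm3.out; have := e5.out; have := e6.out; have := e7.out; omega)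
                  · (have := hm3.out; have := e5.out; have := e6.out; have := e7.out; omega)
                · (have := hm7.out; have := om4.out; have := e0.out; have := e1.out; have := e2.out; have := e3.out; have := e5.out; have := e6.out; have := r67.out; omega)
              · (have := hm2.out; have := e3.out; have := e5.out; have := r57.out; have := e6.out; have := r67.out; omega)
              · (have := hm2.out; have := e3.out; have := e5.out; have := r57.out; have := e6.out; have := r67.out; omega)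
            · (have := hm4.out; have := om5.out; have := om7.out; have := e0.out; have := e1.out; have := e2.out; have := e3.out; have := e4.out; omega)
            · (have := hm3.out; have := e0.out; have := e1.out; have := e2.out; have := e4.out; have := e7.out; have := r75.out; have := r76.out; omega)
            · (have := hm3.out; have := e0.out; have := e1.out; have := e2.out; have := e4.out; have := e7.out; have := r75.out; have := r76.out; omega)
            · (have := hm0.out; have := om2.out; have := e1.out; have := e4.out; have := e7.out; have := r75.out; have := r76.out; omega)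
            · (have := hm0.out; have := om2.out; have := e1.out; have := e4.out; have := e7.out; have := r75.out; have := r76.out; omega)
          · (have := hm4.out; have := om5.out; have := om6.out; have := e0.out; have := e1.out; have := e2.out; have := e3.out; have := e4.out; have := r47.out; omega)
          · (have := hm3.out; have := e0.out; have := e1.out; have := e2.out; have := e4.out; have := r47.out; have := e6.out; have := r65.out; have := r67.out; omega)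
          · (have := hm3.out; have := e0.out; have := e1.out; have := e2.out; have := e4.out; have := r47.out; have := e6.out; have := r65.out; have := r67.out; omega)
          · (have := hm0.out; have := om2.out; have := e1.out; have := e4.out; have := r47.out; have := e6.out; have := r65.out; have := r67.out; omega)
          · (have := hm0.out; have := om2.out; have := e1.out; have := e4.out; have := r47.out; have := e6.out; have := r65.out; have := r67.out; omega)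
        · (have := hm2.out; have := e0.out; have := e1.out; have := e2.out; have := e3.out; have := e4.out; have := r46.out; have := r47.out; have := e5.out; have := r56.out; have := r57.out; omega)
        · (have := hm2.out; have := e0.out; have := e1.out; have := e3.out; have := e4.out; have := r46.out; have := r47.out; have := e5.out; have := r56.out; have := r57.out; omega)
        · (have := hm3.out; have := om5.out; have := e0.out; have := e1.out; have := e2.out; have := e4.out; have := r46.out; have := r47.out; omega)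
        · (have := hm0.out; have := hm2.out; have := hm3.out; have := e1.out; have := e4.out; have := r46.out; have := r47.out; have := e5.out; have := r56.out; have := r57.out; omega)
        · (have := hm0.out; have := hm2.out; have := hm3.out; have := e1.out; have := e4.out; have := r46.out; have := r47.out; have := e5.out; have := r56.out; have := r57.out; omega)
      · have t := pc3 q45 c45.out (by have := v4.out; have := qn46.out; have := qn47.out; omega)
        clear c45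
        rcases t with ⟨⟨⟨rfl, rfl⟩, gw45, ⟨rfl, rfl⟩⟩, rfl⟩ | ⟨⟨⟨rfl, rfl⟩, gw45, ⟨rfl, rfl⟩⟩, rfl⟩ | ⟨⟨⟨rfl, rfl⟩, gw45, ⟨rfl, rfl⟩⟩, rfl⟩ | ⟨⟨⟨rfl, rfl⟩, gw45, ⟨rfl, rfl⟩⟩, rfl⟩ | ⟨⟨⟨rfl, rfl⟩, gw45, ⟨rfl, rfl⟩⟩, rfl⟩ | ⟨⟨⟨rfl, rfl⟩, gw45, ⟨rfl, rfl⟩⟩, rfl⟩
        · have t := pc3 q46 c46.out (by have := v4.out; have := qn47.out; omega)
          clear c46
          rcases t with ⟨⟨⟨rfl, rfl⟩, gw46, ⟨rfl, rfl⟩⟩, rfl⟩ | ⟨⟨⟨rfl, rfl⟩, gw46, ⟨rfl, rfl⟩⟩, rfl⟩ | ⟨⟨⟨rfl, rfl⟩, gw46, ⟨rfl, rfl⟩⟩, rfl⟩ | ⟨⟨⟨rfl, rfl⟩, gw46, ⟨rfl, rfl⟩⟩, rfl⟩ | ⟨⟨⟨rfl, rfl⟩, gw46, ⟨rfl, rfl⟩⟩, rfl⟩ | ⟨⟨⟨rfl, rfl⟩, gw46, ⟨rfl, rfl⟩⟩, rfl⟩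
          · have t := pc3 q47 c47.out (by have := v4.out; omega)
            clear c47
            rcases t with ⟨⟨⟨rfl, rfl⟩, gw47, ⟨rfl, rfl⟩⟩, rfl⟩ | ⟨⟨⟨rfl, rfl⟩, gw47, ⟨rfl, rfl⟩⟩, rfl⟩ | ⟨⟨⟨rfl, rfl⟩, gw47, ⟨rfl, rfl⟩⟩, rfl⟩ | ⟨⟨⟨rfl, rfl⟩, gw47, ⟨rfl, rfl⟩⟩, rfl⟩ | ⟨⟨⟨rfl, rfl⟩, gw47, ⟨rfl, rfl⟩⟩, rfl⟩ | ⟨⟨⟨rfl, rfl⟩, gw47, ⟨rfl, rfl⟩⟩, rfl⟩
            · have t := pc3 q56 c56.out (by have := v5.out; have := qn57.out; omega)
              clear c56
              rcases t with ⟨⟨⟨rfl, rfl⟩, gw56, ⟨rfl, rfl⟩⟩, rfl⟩ | ⟨⟨⟨rfl, rfl⟩, gw56, ⟨rfl, rfl⟩⟩, rfl⟩ | ⟨⟨⟨rfl, rfl⟩, gw56, ⟨rfl, rfl⟩⟩, rfl⟩ | ⟨⟨⟨rfl, rfl⟩, gw56, ⟨rfl, rfl⟩⟩, rfl⟩ | ⟨⟨⟨rfl, rfl⟩, gw56, ⟨rfl, rfl⟩⟩, rfl⟩ | ⟨⟨⟨rfl, rfl⟩, gw56, ⟨rfl, rfl⟩⟩, rfl⟩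
              · (have := od6.out; omega)
              · (have := hm6.out; have := om4.out; have := e0.out; have := e1.out; have := e2.out; have := e3.out; have := e5.out; have := r57.out; have := e7.out; have := r75.out; have := r76.out; omega)
              · (have := hm7.out; have := om4.out; have := e0.out; have := e1.out; have := e2.out; have := e3.out; have := e5.out; have := r57.out; have := e6.out; have := r67.out; omega)
              · (have := hm7.out; have := om4.out; have := e0.out; have := e1.out; have := e2.out; have := e3.out; have := e5.out; have := r57.out; have := e6.out; have := r67.out; omega)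
              · (have := hm1.out; have := om7.out; have := e1.out; have := e3.out; have := e4.out; have := e5.out; have := r57.out; have := e6.out; have := r67.out; omega)
              · (have := hm1.out; have := om7.out; have := e1.out; have := e3.out; have := e4.out; have := e5.out; have := r57.out; have := e6.out; have := r67.out; omega)
            · (have := hm0.out; have := om3.out; have := e0.out; have := e1.out; have := e2.out; have := e4.out; have := e7.out; have := r75.out; have := r76.out; omega)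
            · (have := hm1.out; have := e2.out; have := e3.out; have := e4.out; have := e5.out; have := r56.out; have := r57.out; have := e7.out; have := r75.out; have := r76.out; omega)
            · (have := hm2.out; have := om3.out; have := e0.out; have := e1.out; have := e4.out; have := e7.out; have := r75.out; have := r76.out; omega)
            · (have := hm1.out; have := om2.out; have := e1.out; have := e3.out; have := e4.out; have := e5.out; have := r56.out; have := r57.out; have := e7.out; have := r75.out; have := r76.out; omega)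
            · (have := hm0.out; have := om3.out; have := om7.out; have := e0.out; have := e1.out; have := e2.out; have := e4.out; omega)
          · (have := hm7.out; have := om6.out; have := e0.out; have := e1.out; have := e2.out; have := e3.out; have := e4.out; have := r47.out; have := e5.out; have := r56.out; have := r57.out; omega)
          · (have := hm3.out; have := e0.out; have := e1.out; have := e2.out; have := e4.out; have := r47.out; have := e6.out; have := r65.out; have := r67.out; omega)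
          · (have := hm3.out; have := om6.out; have := e0.out; have := e1.out; have := e2.out; have := e4.out; have := r47.out; omega)
          · (have := hm7.out; have := om6.out; have := e0.out; have := e1.out; have := e2.out; have := e3.out; have := e4.out; have := r47.out; have := e5.out; have := r56.out; have := r57.out; omega)
          · (have := hm6.out; have := e0.out; have := e1.out; have := e2.out; have := e3.out; have := e4.out; have := r47.out; have := e5.out; have := r56.out; have := r57.out; have := e7.out; have := r74.out; have := r75.out; have := r76.out; omega)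
        · (have := hm0.out; have := om2.out; have := e1.out; have := e2.out; have := e3.out; have := e4.out; have := r46.out; have := r47.out; have := e5.out; have := r56.out; have := r57.out; have := e7.out; have := r74.out; have := r75.out; have := r76.out; omega)
        · (have := hm3.out; have := om2.out; have := e0.out; have := e1.out; have := e4.out; have := r46.out; have := r47.out; have := e5.out; have := r56.out; have := r57.out; omega)
        · (have := hm3.out; have := om2.out; have := e0.out; have := e1.out; have := e4.out; have := r46.out; have := r47.out; have := e5.out; have := r56.out; have := r57.out; omega)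
        · (have := hm1.out; have := om2.out; have := e1.out; have := e3.out; have := e4.out; have := r46.out; have := r47.out; have := e5.out; have := r56.out; have := r57.out; have := e7.out; have := r74.out; have := r75.out; have := r76.out; omega)
        · (have := hm1.out; have := hm2.out; have := hm7.out; have := e3.out; have := e4.out; have := r46.out; have := r47.out; have := e5.out; have := r56.out; have := r57.out; omega)
      · (have := hm5.out; have := om4.out; have := e0.out; have := e1.out; have := e2.out; have := e3.out; have := e7.out; have := r74.out; have := r75.out; have := r76.out; omega)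
      · (have := hm5.out; have := om4.out; have := e0.out; have := e1.out; have := e2.out; have := e3.out; have := e7.out; have := r74.out; have := r75.out; have := r76.out; omega)
    · have t := pc1 q37 c37.out (by have := v3.out; omega)
      clear c37
      rcases t with ⟨⟨⟨rfl, rfl⟩, gw37, ⟨rfl, rfl⟩⟩, rfl⟩ | ⟨⟨⟨rfl, rfl⟩, gw37, ⟨rfl, rfl⟩⟩, rfl⟩
      · have t := pc3 q45 c45.out (by have := v4.out; have := qn46.out; have := qn47.out; omega)
        clear c45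
        rcases t with ⟨⟨⟨rfl, rfl⟩, gw45, ⟨rfl, rfl⟩⟩, rfl⟩ | ⟨⟨⟨rfl, rfl⟩, gw45, ⟨rfl, rfl⟩⟩, rfl⟩ | ⟨⟨⟨rfl, rfl⟩, gw45, ⟨rfl, rfl⟩⟩, rfl⟩ | ⟨⟨⟨rfl, rfl⟩, gw45, ⟨rfl, rfl⟩⟩, rfl⟩ | ⟨⟨⟨rfl, rfl⟩, gw45, ⟨rfl, rfl⟩⟩, rfl⟩ | ⟨⟨⟨rfl, rfl⟩, gw45, ⟨rfl, rfl⟩⟩, rfl⟩
        · have t := pc3 q46 c46.out (by have := v4.out; have := qn47.out; omega)
          clear c46
          rcases t with ⟨⟨⟨rfl, rfl⟩, gw46, ⟨rfl, rfl⟩⟩, rfl⟩ | ⟨⟨⟨rfl, rfl⟩, gw46, ⟨rfl, rfl⟩⟩, rfl⟩ | ⟨⟨⟨rfl, rfl⟩, gw46, ⟨rfl, rfl⟩⟩, rfl⟩ | ⟨⟨⟨rfl, rfl⟩, gw46, ⟨rfl, rfl⟩⟩, rfl⟩ | ⟨⟨⟨rfl, rfl⟩, gw46, ⟨rfl, rfl⟩⟩, rfl⟩ | ⟨⟨⟨rfl, rfl⟩, gw46, ⟨rfl, rfl⟩⟩, rfl⟩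
          · have t := pc3 q47 c47.out (by have := v4.out; omega)
            clear c47
            rcases t with ⟨⟨⟨rfl, rfl⟩, gw47, ⟨rfl, rfl⟩⟩, rfl⟩ | ⟨⟨⟨rfl, rfl⟩, gw47, ⟨rfl, rfl⟩⟩, rfl⟩ | ⟨⟨⟨rfl, rfl⟩, gw47, ⟨rfl, rfl⟩⟩, rfl⟩ | ⟨⟨⟨rfl, rfl⟩, gw47, ⟨rfl, rfl⟩⟩, rfl⟩ | ⟨⟨⟨rfl, rfl⟩, gw47, ⟨rfl, rfl⟩⟩, rfl⟩ | ⟨⟨⟨rfl, rfl⟩, gw47, ⟨rfl, rfl⟩⟩, rfl⟩
            · have t := pc3 q56 c56.out (by have := v5.out; have := qn57.out; omega)
              clear c56
              rcases t with ⟨⟨⟨rfl, rfl⟩, gw56, ⟨rfl, rfl⟩⟩, rfl⟩ | ⟨⟨⟨rfl, rfl⟩, gw56, ⟨rfl, rfl⟩⟩, rfl⟩ | ⟨⟨⟨rfl, rfl⟩, gw56, ⟨rfl, rfl⟩⟩, rfl⟩ | ⟨⟨⟨rfl, rfl⟩, gw56, ⟨rfl, rfl⟩⟩, rfl⟩ | ⟨⟨⟨rfl, rfl⟩, gw56, ⟨rfl, rfl⟩⟩, rfl⟩ | ⟨⟨⟨rfl, rfl⟩, gw56, ⟨rfl, rfl⟩⟩, rfl⟩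
              · have t := pc3 q57 c57.out (by have := v5.out; omega)
                clear c57
                rcases t with ⟨⟨⟨rfl, rfl⟩, gw57, ⟨rfl, rfl⟩⟩, rfl⟩ | ⟨⟨⟨rfl, rfl⟩, gw57, ⟨rfl, rfl⟩⟩, rfl⟩ | ⟨⟨⟨rfl, rfl⟩, gw57, ⟨rfl, rfl⟩⟩, rfl⟩ | ⟨⟨⟨rfl, rfl⟩, gw57, ⟨rfl, rfl⟩⟩, rfl⟩ | ⟨⟨⟨rfl, rfl⟩, gw57, ⟨rfl, rfl⟩⟩, rfl⟩ | ⟨⟨⟨rfl, rfl⟩, gw57, ⟨rfl, rfl⟩⟩, rfl⟩
                · have t := pc3 q67 c67.out (by have := v6.out; omega)
                  clear c67
                  rcases t with ⟨⟨⟨rfl, rfl⟩, gw67, ⟨rfl, rfl⟩⟩, rfl⟩ | ⟨⟨⟨rfl, rfl⟩, gw67, ⟨rfl, rfl⟩⟩, rfl⟩ | ⟨⟨⟨rfl, rfl⟩, gw67, ⟨rfl, rfl⟩⟩, rfl⟩ | ⟨⟨⟨rfl, rfl⟩, gw67, ⟨rfl, rfl⟩⟩, rfl⟩ | ⟨⟨⟨rfl, rfl⟩, gw67, ⟨rfl, rfl⟩⟩, rfl⟩ | ⟨⟨⟨rfl, rfl⟩, gw67, ⟨rfl, rfl⟩⟩, rfl⟩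
                  · (have := od7.out; omega)
                  · (have := hm7.out; have := om4.out; have := e0.out; have := e1.out; have := e2.out; have := e3.out; have := e5.out; have := e6.out; omega)
                  · (have := hm1.out; have := e2.out; have := e3.out; have := e5.out; have := e6.out; have := e7.out; omega)
                  · (have := hm1.out; have := e2.out; have := e3.out; have := e5.out; have := e6.out; have := e7.out; omega)
                  · (have := hm1.out; have := om5.out; have := e1.out; have := e3.out; have := e4.out; have := e6.out; have := e7.out; omega)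
                  · (have := hm1.out; have := om5.out; have := e1.out; have := e3.out; have := e4.out; have := e6.out; have := e7.out; omega)
                · (have := hm7.out; have := om4.out; have := e0.out; have := e1.out; have := e2.out; have := e3.out; have := e5.out; have := e6.out; have := r67.out; omega)
                · (have := hm7.out; have := om4.out; have := e0.out; have := e1.out; have := e2.out; have := e3.out; have := e5.out; have := e6.out; have := r67.out; omega)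
                · (have := hm7.out; have := om4.out; have := e0.out; have := e1.out; have := e2.out; have := e3.out; have := e5.out; have := e6.out; have := r67.out; omega)
                · (have := hm1.out; have := om6.out; have := e1.out; have := e3.out; have := e4.out; have := e5.out; have := e7.out; have := r76.out; omega)
                · (have := hm1.out; have := om6.out; have := e1.out; have := e3.out; have := e4.out; have := e5.out; have := e7.out; have := r76.out; omega)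
              · (have := hm0.out; have := hm5.out; have := e1.out; have := e2.out; have := e3.out; have := e4.out; have := e5.out; have := r57.out; have := e6.out; have := r67.out; omega)
              · (have := hm1.out; have := om5.out; have := e1.out; have := e3.out; have := e4.out; have := e5.out; have := r57.out; have := e6.out; have := r67.out; omega)
              · (have := hm1.out; have := hm5.out; have := e2.out; have := e3.out; have := e5.out; have := r57.out; have := e6.out; have := r67.out; omega)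
              · (have := hm0.out; have := om4.out; have := om5.out; have := e0.out; have := e1.out; have := e2.out; have := e3.out; have := e6.out; have := r67.out; omega)
              · (have := hm0.out; have := om4.out; have := om6.out; have := e0.out; have := e1.out; have := e2.out; have := e3.out; have := e5.out; have := r57.out; omega)
            · (have := hm6.out; have := om7.out; have := e0.out; have := e1.out; have := e2.out; have := e3.out; have := e4.out; have := e5.out; have := r56.out; have := r57.out; omega)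
            · (have := hm3.out; have := e0.out; have := e1.out; have := e2.out; have := e4.out; have := e7.out; have := r75.out; have := r76.out; omega)
            · (have := hm3.out; have := om7.out; have := e0.out; have := e1.out; have := e2.out; have := e4.out; omega)
            · (have := hm6.out; have := om7.out; have := e0.out; have := e1.out; have := e2.out; have := e3.out; have := e4.out; have := e5.out; have := r56.out; have := r57.out; omega)
            · (have := hm7.out; have := e0.out; have := e1.out; have := e2.out; have := e3.out; have := e4.out; have := e5.out; have := r56.out; have := r57.out; have := e6.out; have := r65.out; have := r67.out; omega)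
          · (have := hm0.out; have := om2.out; have := e1.out; have := e2.out; have := e3.out; have := e4.out; have := r47.out; have := e5.out; have := r56.out; have := r57.out; have := e6.out; have := r65.out; have := r67.out; omega)
          · (have := hm3.out; have := om2.out; have := e0.out; have := e1.out; have := e4.out; have := r47.out; have := e6.out; have := r65.out; have := r67.out; omega)
          · (have := hm3.out; have := om2.out; have := e0.out; have := e1.out; have := e4.out; have := r47.out; have := e6.out; have := r65.out; have := r67.out; omega)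
          · (have := hm1.out; have := om2.out; have := e1.out; have := e3.out; have := e4.out; have := r47.out; have := e5.out; have := r56.out; have := r57.out; have := e6.out; have := r65.out; have := r67.out; omega)
          · (have := hm1.out; have := hm2.out; have := hm5.out; have := e3.out; have := e4.out; have := r47.out; have := e6.out; have := r65.out; have := r67.out; omega)
        · (have := hm0.out; have := om2.out; have := e1.out; have := e2.out; have := e3.out; have := e4.out; have := r46.out; have := r47.out; have := e5.out; have := r56.out; have := r57.out; have := e6.out; have := r64.out; have := r65.out; have := r67.out; omega)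
        · (have := hm3.out; have := om2.out; have := e0.out; have := e1.out; have := e4.out; have := r46.out; have := r47.out; have := e5.out; have := r56.out; have := r57.out; omega)
        · (have := hm3.out; have := om2.out; have := e0.out; have := e1.out; have := e4.out; have := r46.out; have := r47.out; have := e5.out; have := r56.out; have := r57.out; omega)
        · (have := hm1.out; have := om2.out; have := e1.out; have := e3.out; have := e4.out; have := r46.out; have := r47.out; have := e5.out; have := r56.out; have := r57.out; have := e6.out; have := r64.out; have := r65.out; have := r67.out; omega)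
        · (have := hm1.out; have := hm2.out; have := hm6.out; have := e3.out; have := e4.out; have := r46.out; have := r47.out; have := e5.out; have := r56.out; have := r57.out; omega)
      · (have := hm1.out; have := e2.out; have := e3.out; have := e5.out; have := r54.out; have := r56.out; have := r57.out; have := e6.out; have := r64.out; have := r65.out; have := r67.out; have := e7.out; have := r74.out; have := r75.out; have := r76.out; omega)
    · (have := hm5.out; have := om4.out; have := e0.out; have := e1.out; have := e2.out; have := e3.out; have := r37.out; have := e6.out; have := r64.out; have := r65.out; have := r67.out; omega)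
    · (have := hm5.out; have := om4.out; have := e0.out; have := e1.out; have := e2.out; have := e3.out; have := r37.out; have := e6.out; have := r64.out; have := r65.out; have := r67.out; omega)
  · have t := pc1 q36 c36.out (by have := v3.out; have := qn37.out; omega)
    clear c36
    rcases t with ⟨⟨⟨rfl, rfl⟩, gw36, ⟨rfl, rfl⟩⟩, rfl⟩ | ⟨⟨⟨rfl, rfl⟩, gw36, ⟨rfl, rfl⟩⟩, rfl⟩
    · have t := pc1 q37 c37.out (by have := v3.out; omega)
      clear c37
      rcases t with ⟨⟨⟨rfl, rfl⟩, gw37, ⟨rfl, rfl⟩⟩, rfl⟩ | ⟨⟨⟨rfl, rfl⟩, gw37, ⟨rfl, rfl⟩⟩, rfl⟩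
      · have t := pc2 q45 c45.out (by have := v5.out; have := qn56.out; have := qn57.out; omega)
        clear c45
        rcases t with ⟨⟨⟨rfl, rfl⟩, gw45, ⟨rfl, rfl⟩⟩, rfl⟩ | ⟨⟨⟨rfl, rfl⟩, gw45, ⟨rfl, rfl⟩⟩, rfl⟩ | ⟨⟨⟨rfl, rfl⟩, gw45, ⟨rfl, rfl⟩⟩, rfl⟩ | ⟨⟨⟨rfl, rfl⟩, gw45, ⟨rfl, rfl⟩⟩, rfl⟩
        · have t := pc3 q46 c46.out (by have := v4.out; have := qn47.out; omega)
          clear c46
          rcases t with ⟨⟨⟨rfl, rfl⟩, gw46, ⟨rfl, rfl⟩⟩, rfl⟩ | ⟨⟨⟨rfl, rfl⟩, gw46, ⟨rfl, rfl⟩⟩, rfl⟩ | ⟨⟨⟨rfl, rfl⟩, gw46, ⟨rfl, rfl⟩⟩, rfl⟩ | ⟨⟨⟨rfl, rfl⟩, gw46, ⟨rfl, rfl⟩⟩, rfl⟩ | ⟨⟨⟨rfl, rfl⟩, gw46, ⟨rfl, rfl⟩⟩, rfl⟩ | ⟨⟨⟨rfl, rfl⟩, gw46, ⟨rfl, rfl⟩⟩, rfl⟩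
          · have t := pc3 q47 c47.out (by have := v4.out; omega)
            clear c47
            rcases t with ⟨⟨⟨rfl, rfl⟩, gw47, ⟨rfl, rfl⟩⟩, rfl⟩ | ⟨⟨⟨rfl, rfl⟩, gw47, ⟨rfl, rfl⟩⟩, rfl⟩ | ⟨⟨⟨rfl, rfl⟩, gw47, ⟨rfl, rfl⟩⟩, rfl⟩ | ⟨⟨⟨rfl, rfl⟩, gw47, ⟨rfl, rfl⟩⟩, rfl⟩ | ⟨⟨⟨rfl, rfl⟩, gw47, ⟨rfl, rfl⟩⟩, rfl⟩ | ⟨⟨⟨rfl, rfl⟩, gw47, ⟨rfl, rfl⟩⟩, rfl⟩
            · have t := pc2 q56 c56.out (by have := v5.out; have := qn57.out; omega)
              clear c56
              rcases t with ⟨⟨⟨rfl, rfl⟩, gw56, ⟨rfl, rfl⟩⟩, rfl⟩ | ⟨⟨⟨rfl, rfl⟩, gw56, ⟨rfl, rfl⟩⟩, rfl⟩ | ⟨⟨⟨rfl, rfl⟩, gw56, ⟨rfl, rfl⟩⟩, rfl⟩ | ⟨⟨⟨rfl, rfl⟩, gw56, ⟨rfl, rfl⟩⟩, rfl⟩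
              · (have := od6.out; omega)
              · (have := hm6.out; have := e0.out; have := e1.out; have := e2.out; have := e3.out; have := e4.out; have := e5.out; have := r57.out; omega)
              · (have := hm6.out; have := om4.out; have := e0.out; have := e1.out; have := e2.out; have := e3.out; have := e5.out; have := r57.out; omega)
              · (have := hm6.out; have := om4.out; have := e0.out; have := e1.out; have := e2.out; have := e3.out; have := e5.out; have := r57.out; omega)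
            · (have := hm7.out; have := e0.out; have := e1.out; have := e2.out; have := e3.out; have := e4.out; have := e5.out; have := r56.out; have := r57.out; omega)
            · (have := hm3.out; have := e0.out; have := e1.out; have := e2.out; have := e4.out; have := e7.out; have := r75.out; have := r76.out; omega)
            · (have := hm3.out; have := e0.out; have := e1.out; have := e2.out; have := e4.out; have := e7.out; have := r75.out; have := r76.out; omega)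
            · (have := hm0.out; have := om2.out; have := e1.out; have := e4.out; have := e7.out; have := r75.out; have := r76.out; omega)
            · (have := hm0.out; have := om2.out; have := e1.out; have := e4.out; have := e7.out; have := r75.out; have := r76.out; omega)
          · (have := hm6.out; have := e0.out; have := e1.out; have := e2.out; have := e3.out; have := e4.out; have := r47.out; have := e5.out; have := r56.out; have := r57.out; omega)
          · (have := hm3.out; have := e0.out; have := e1.out; have := e2.out; have := e4.out; have := r47.out; have := e6.out; have := r65.out; have := r67.out; omega)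
          · (have := hm3.out; have := e0.out; have := e1.out; have := e2.out; have := e4.out; have := r47.out; have := e6.out; have := r65.out; have := r67.out; omega)
          · (have := hm0.out; have := om2.out; have := e1.out; have := e4.out; have := r47.out; have := e6.out; have := r65.out; have := r67.out; omega)
          · (have := hm0.out; have := om2.out; have := e1.out; have := e4.out; have := r47.out; have := e6.out; have := r65.out; have := r67.out; omega)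
        · (have := hm4.out; have := om3.out; have := e0.out; have := e1.out; have := e2.out; have := e4.out; have := r46.out; have := r47.out; have := e5.out; have := r56.out; have := r57.out; omega)
        · (have := hm3.out; have := e0.out; have := e1.out; have := e2.out; have := e4.out; have := r46.out; have := r47.out; have := e5.out; have := r56.out; have := r57.out; omega)
        · (have := hm3.out; have := om5.out; have := e0.out; have := e1.out; have := e2.out; have := e4.out; have := r46.out; have := r47.out; omega)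
      · (have := hm7.out; have := om4.out; have := e0.out; have := e1.out; have := e2.out; have := e3.out; have := e5.out; have := r54.out; have := r56.out; have := r57.out; omega)
    · (have := hm6.out; have := om4.out; have := e0.out; have := e1.out; have := e2.out; have := e3.out; have := r37.out; have := e5.out; have := r54.out; have := r56.out; have := r57.out; omega)
  · have t := pc1 q36 c36.out (by have := v3.out; have := qn37.out; omega)
    clear c36
    rcases t with ⟨⟨⟨rfl, rfl⟩, gw36, ⟨rfl, rfl⟩⟩, rfl⟩ | ⟨⟨⟨rfl, rfl⟩, gw36, ⟨rfl, rfl⟩⟩, rfl⟩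
    · have t := pc1 q37 c37.out (by have := v3.out; omega)
      clear c37
      rcases t with ⟨⟨⟨rfl, rfl⟩, gw37, ⟨rfl, rfl⟩⟩, rfl⟩ | ⟨⟨⟨rfl, rfl⟩, gw37, ⟨rfl, rfl⟩⟩, rfl⟩
      · have t := pc2 q45 c45.out (by have := v5.out; have := qn56.out; have := qn57.out; omega)
        clear c45
        rcases t with ⟨⟨⟨rfl, rfl⟩, gw45, ⟨rfl, rfl⟩⟩, rfl⟩ | ⟨⟨⟨rfl, rfl⟩, gw45, ⟨rfl, rfl⟩⟩, rfl⟩ | ⟨⟨⟨rfl, rfl⟩, gw45, ⟨rfl, rfl⟩⟩, rfl⟩ | ⟨⟨⟨rfl, rfl⟩, gw45, ⟨rfl, rfl⟩⟩, rfl⟩
        · have t := pc3 q46 c46.out (by have := v4.out; have := qn47.out; omega)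
          clear c46
          rcases t with ⟨⟨⟨rfl, rfl⟩, gw46, ⟨rfl, rfl⟩⟩, rfl⟩ | ⟨⟨⟨rfl, rfl⟩, gw46, ⟨rfl, rfl⟩⟩, rfl⟩ | ⟨⟨⟨rfl, rfl⟩, gw46, ⟨rfl, rfl⟩⟩, rfl⟩ | ⟨⟨⟨rfl, rfl⟩, gw46, ⟨rfl, rfl⟩⟩, rfl⟩ | ⟨⟨⟨rfl, rfl⟩, gw46, ⟨rfl, rfl⟩⟩, rfl⟩ | ⟨⟨⟨rfl, rfl⟩, gw46, ⟨rfl, rfl⟩⟩, rfl⟩
          · have t := pc3 q47 c47.out (by have := v4.out; omega)
            clear c47
            rcases t with ⟨⟨⟨rfl, rfl⟩, gw47, ⟨rfl, rfl⟩⟩, rfl⟩ | ⟨⟨⟨rfl, rfl⟩, gw47, ⟨rfl, rfl⟩⟩, rfl⟩ | ⟨⟨⟨rfl, rfl⟩, gw47, ⟨rfl, rfl⟩⟩, rfl⟩ | ⟨⟨⟨rfl, rfl⟩, gw47, ⟨rfl, rfl⟩⟩, rfl⟩ | ⟨⟨⟨rfl, rfl⟩, gw47, ⟨rfl, rfl⟩⟩, rfl⟩ | ⟨⟨⟨rfl, rfl⟩, gw47, ⟨rfl, rfl⟩⟩, rfl⟩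
            · have t := pc2 q56 c56.out (by have := v5.out; have := qn57.out; omega)
              clear c56
              rcases t with ⟨⟨⟨rfl, rfl⟩, gw56, ⟨rfl, rfl⟩⟩, rfl⟩ | ⟨⟨⟨rfl, rfl⟩, gw56, ⟨rfl, rfl⟩⟩, rfl⟩ | ⟨⟨⟨rfl, rfl⟩, gw56, ⟨rfl, rfl⟩⟩, rfl⟩ | ⟨⟨⟨rfl, rfl⟩, gw56, ⟨rfl, rfl⟩⟩, rfl⟩
              · (have := od6.out; omega)
              · (have := hm6.out; have := e0.out; have := e1.out; have := e2.out; have := e3.out; have := e4.out; have := e5.out; have := r57.out; omega)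
              · (have := hm6.out; have := om4.out; have := e0.out; have := e1.out; have := e2.out; have := e3.out; have := e5.out; have := r57.out; omega)
              · (have := hm6.out; have := om4.out; have := e0.out; have := e1.out; have := e2.out; have := e3.out; have := e5.out; have := r57.out; omega)
            · (have := hm7.out; have := om5.out; have := e0.out; have := e1.out; have := e2.out; have := e3.out; have := e4.out; omega)
            · (have := hm3.out; have := e0.out; have := e1.out; have := e2.out; have := e4.out; have := e7.out; have := r75.out; have := r76.out; omega)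
            · (have := hm3.out; have := e0.out; have := e1.out; have := e2.out; have := e4.out; have := e7.out; have := r75.out; have := r76.out; omega)
            · (have := hm0.out; have := om2.out; have := e1.out; have := e4.out; have := e7.out; have := r75.out; have := r76.out; omega)
            · (have := hm0.out; have := om2.out; have := e1.out; have := e4.out; have := e7.out; have := r75.out; have := r76.out; omega)
          · (have := hm6.out; have := om5.out; have := e0.out; have := e1.out; have := e2.out; have := e3.out; have := e4.out; have := r47.out; omega)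
          · (have := hm3.out; have := e0.out; have := e1.out; have := e2.out; have := e4.out; have := r47.out; have := e6.out; have := r65.out; have := r67.out; omega)
          · (have := hm3.out; have := e0.out; have := e1.out; have := e2.out; have := e4.out; have := r47.out; have := e6.out; have := r65.out; have := r67.out; omega)
          · (have := hm0.out; have := om2.out; have := e1.out; have := e4.out; have := r47.out; have := e6.out; have := r65.out; have := r67.out; omega)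
          · (have := hm0.out; have := om2.out; have := e1.out; have := e4.out; have := r47.out; have := e6.out; have := r65.out; have := r67.out; omega)
        · (have := hm0.out; have := om1.out; have := e1.out; have := e2.out; have := e3.out; have := e4.out; have := r46.out; have := r47.out; have := e5.out; have := r56.out; have := r57.out; omega)
        · (have := hm3.out; have := om2.out; have := e0.out; have := e1.out; have := e4.out; have := r46.out; have := r47.out; have := e5.out; have := r56.out; have := r57.out; omega)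
        · (have := hm3.out; have := om5.out; have := e0.out; have := e1.out; have := e2.out; have := e4.out; have := r46.out; have := r47.out; omega)
      · (have := hm7.out; have := om4.out; have := e0.out; have := e1.out; have := e2.out; have := e3.out; have := e5.out; have := r54.out; have := r56.out; have := r57.out; omega)
    · (have := hm6.out; have := om4.out; have := e0.out; have := e1.out; have := e2.out; have := e3.out; have := r37.out; have := e5.out; have := r54.out; have := r56.out; have := r57.out; omega)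
  · (have := hm1.out; have := e2.out; have := e3.out; have := r36.out; have := r37.out; have := e5.out; have := r54.out; have := r56.out; have := r57.out; omega)
  · (have := hm1.out; have := e2.out; have := e3.out; have := r36.out; have := r37.out; have := e5.out; have := r54.out; have := r56.out; have := r57.out; omega)

end Groth.Agent.Lib.helper20.G1n8
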