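import Groth.Agent.Lib.Helper20.G1n8Base

set_option autoImplicit false
set_option linter.unusedVariables false
open Finset
open Models Models.NumericalType

namespace Groth.Agent.Lib.helper20.G1n8

set_option maxHeartbeats 0 in
theorem part33 (T : Models.NumericalType 8) (α34 α35 α36 α37 α43 α45 α46 α47 α53 α54 α56 α57 α63 α64 α65 α67 α73 α74 α75 α76 x34 x35 x36 x37 x43 x45 x46 x47 x53 x54 x56 x57 x63 x64 x65 x67 x73 x74 x75 x76 q34 q35 q36 q37 q45 q46 q47 q56 q57 q67 : ℤ)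
    (hm0 : Hide (0 < T.m 0))
    (hm1 : Hide (0 < T.m 1))
    (hm2 : Hide (0 < T.m 2))
    (hm3 : Hide (0 < T.m 3))
    (hm4 : Hide (0 < T.m 4))
    (hm5 : Hide (0 < T.m 5))
    (hm6 : Hide (0 < T.m 6))
    (hm7 : Hide (0 < T.m 7))
    (om1 : Hide (T.m 0 ≤ T.m 1))
    (om2 : Hide (T.m 0 ≤ T.m 2))
    (om3 : Hide (T.m 0 ≤ T.m 3))
    (om4 : Hide (T.m 0 ≤ T.m 4))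
    (om5 : Hide (T.m 0 ≤ T.m 5))
    (om6 : Hide (T.m 0 ≤ T.m 6))
    (om7 : Hide (T.m 0 ≤ T.m 7))
    (e0 : Hide (T.m 1 + (0 : ℤ) + (0 : ℤ) + (0 : ℤ) + (0 : ℤ) + (0 : ℤ) + (0 : ℤ) = 2 * T.m 0))
    (e1 : Hide (T.m 0 + T.m 2 + (0 : ℤ) + T.m 4 + (0 : ℤ) + (0 : ℤ) + (0 : ℤ) = 2 * T.m 1))
    (e2 : Hide ((0 : ℤ) + T.m 1 + T.m 3 + (0 : ℤ) + (0 : ℤ) + (0 : ℤ) + T.m 7 = 2 * T.m 2))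
    (e3 : Hide ((0 : ℤ) + (0 : ℤ) + T.m 2 + x34 + x35 + x36 + x37 = 2 * T.m 3))
    (e4 : Hide ((0 : ℤ) + T.m 1 + (0 : ℤ) + x43 + x45 + x46 + x47 = 2 * T.m 4))
    (e5 : Hide ((0 : ℤ) + (0 : ℤ) + (0 : ℤ) + x53 + x54 + x56 + x57 = 2 * T.m 5))
    (e6 : Hide ((0 : ℤ) + (0 : ℤ) + (0 : ℤ) + x63 + x64 + x65 + x67 = 2 * T.m 6))
    (e7 : Hide ((0 : ℤ) + (0 : ℤ) + T.m 2 + x73 + x74 + x75 + x76 = 2 * T.m 7))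
    (r01 : Hide (0 ≤ T.m 1))
    (r02 : Hide (0 ≤ (0 : ℤ)))
    (r03 : Hide (0 ≤ (0 : ℤ)))
    (r04 : Hide (0 ≤ (0 : ℤ)))
    (r05 : Hide (0 ≤ (0 : ℤ)))
    (r06 : Hide (0 ≤ (0 : ℤ)))
    (r07 : Hide (0 ≤ (0 : ℤ)))
    (r10 : Hide (0 ≤ T.m 0))
    (r12 : Hide (0 ≤ T.m 2))
    (r13 : Hide (0 ≤ (0 : ℤ)))
    (r14 : Hide (0 ≤ T.m 4))
    (r15 : Hide (0 ≤ (0 : ℤ)))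
    (r16 : Hide (0 ≤ (0 : ℤ)))
    (r17 : Hide (0 ≤ (0 : ℤ)))
    (r20 : Hide (0 ≤ (0 : ℤ)))
    (r21 : Hide (0 ≤ T.m 1))
    (r23 : Hide (0 ≤ T.m 3))
    (r24 : Hide (0 ≤ (0 : ℤ)))
    (r25 : Hide (0 ≤ (0 : ℤ)))
    (r26 : Hide (0 ≤ (0 : ℤ)))
    (r27 : Hide (0 ≤ T.m 7))
    (r30 : Hide (0 ≤ (0 : ℤ)))
    (r31 : Hide (0 ≤ (0 : ℤ)))
    (r32 : Hide (0 ≤ T.m 2))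
    (r34 : Hide (0 ≤ x34))
    (r35 : Hide (0 ≤ x35))
    (r36 : Hide (0 ≤ x36))
    (r37 : Hide (0 ≤ x37))
    (r40 : Hide (0 ≤ (0 : ℤ)))
    (r41 : Hide (0 ≤ T.m 1))
    (r42 : Hide (0 ≤ (0 : ℤ)))
    (r43 : Hide (0 ≤ x43))
    (r45 : Hide (0 ≤ x45))
    (r46 : Hide (0 ≤ x46))
    (r47 : Hide (0 ≤ x47))
    (r50 : Hide (0 ≤ (0 : ℤ)))
    (r51 : Hide (0 ≤ (0 : ℤ)))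
    (r52 : Hide (0 ≤ (0 : ℤ)))
    (r53 : Hide (0 ≤ x53))
    (r54 : Hide (0 ≤ x54))
    (r56 : Hide (0 ≤ x56))
    (r57 : Hide (0 ≤ x57))
    (r60 : Hide (0 ≤ (0 : ℤ)))
    (r61 : Hide (0 ≤ (0 : ℤ)))
    (r62 : Hide (0 ≤ (0 : ℤ)))
    (r63 : Hide (0 ≤ x63))
    (r64 : Hide (0 ≤ x64))
    (r65 : Hide (0 ≤ x65))
    (r67 : Hide (0 ≤ x67))
    (r70 : Hide (0 ≤ (0 : ℤ)))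
    (r71 : Hide (0 ≤ (0 : ℤ)))
    (r72 : Hide (0 ≤ T.m 2))
    (r73 : Hide (0 ≤ x73))
    (r74 : Hide (0 ≤ x74))
    (r75 : Hide (0 ≤ x75))
    (r76 : Hide (0 ≤ x76))
    (hw0 : Hide (0 < T.w 0))
    (hw1 : Hide (0 < T.w 1))
    (hw2 : Hide (0 < T.w 2))
    (hw3 : Hide (0 < T.w 3))
    (hw4 : Hide (0 < T.w 4))
    (hw5 : Hide (0 < T.w 5))
    (hw6 : Hide (0 < T.w 6))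
    (hw7 : Hide (0 < T.w 7))
    (hs01 : Hide (T.a 0 1 = T.a 1 0))
    (hs02 : Hide (T.a 0 2 = T.a 2 0))
    (hs03 : Hide (T.a 0 3 = T.a 3 0))
    (hs04 : Hide (T.a 0 4 = T.a 4 0))
    (hs05 : Hide (T.a 0 5 = T.a 5 0))
    (hs06 : Hide (T.a 0 6 = T.a 6 0))
    (hs07 : Hide (T.a 0 7 = T.a 7 0))
    (hs12 : Hide (T.a 1 2 = T.a 2 1))
    (hs13 : Hide (T.a 1 3 = T.a 3 1))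
    (hs14 : Hide (T.a 1 4 = T.a 4 1))
    (hs15 : Hide (T.a 1 5 = T.a 5 1))
    (hs16 : Hide (T.a 1 6 = T.a 6 1))
    (hs17 : Hide (T.a 1 7 = T.a 7 1))
    (hs23 : Hide (T.a 2 3 = T.a 3 2))
    (hs24 : Hide (T.a 2 4 = T.a 4 2))
    (hs25 : Hide (T.a 2 5 = T.a 5 2))
    (hs26 : Hide (T.a 2 6 = T.a 6 2))
    (hs27 : Hide (T.a 2 7 = T.a 7 2))
    (hs34 : Hide (T.a 3 4 = T.a 4 3))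
    (hs35 : Hide (T.a 3 5 = T.a 5 3))
    (hs36 : Hide (T.a 3 6 = T.a 6 3))
    (hs37 : Hide (T.a 3 7 = T.a 7 3))
    (hs45 : Hide (T.a 4 5 = T.a 5 4))
    (hs46 : Hide (T.a 4 6 = T.a 6 4))
    (hs47 : Hide (T.a 4 7 = T.a 7 4))
    (hs56 : Hide (T.a 5 6 = T.a 6 5))
    (hs57 : Hide (T.a 5 7 = T.a 7 5))
    (hs67 : Hide (T.a 6 7 = T.a 7 6))
    (ha00 : Hide (T.a 0 0 = -2 * T.w 0))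
    (ha11 : Hide (T.a 1 1 = -2 * T.w 1))
    (ha22 : Hide (T.a 2 2 = -2 * T.w 2))
    (ha33 : Hide (T.a 3 3 = -2 * T.w 3))
    (ha44 : Hide (T.a 4 4 = -2 * T.w 4))
    (ha55 : Hide (T.a 5 5 = -2 * T.w 5))
    (ha66 : Hide (T.a 6 6 = -2 * T.w 6))
    (ha77 : Hide (T.a 7 7 = -2 * T.w 7))
    (v0 : Hide ((1 : ℤ) + (0 : ℤ) + (0 : ℤ) + (0 : ℤ) + (0 : ℤ) + (0 : ℤ) + (0 : ℤ) ≤ 4))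
    (v1 : Hide ((1 : ℤ) + (1 : ℤ) + (0 : ℤ) + (1 : ℤ) + (0 : ℤ) + (0 : ℤ) + (0 : ℤ) ≤ 4))
    (v2 : Hide ((0 : ℤ) + (1 : ℤ) + (1 : ℤ) + (0 : ℤ) + (0 : ℤ) + (0 : ℤ) + (1 : ℤ) ≤ 4))
    (v3 : Hide ((0 : ℤ) + (0 : ℤ) + (1 : ℤ) + q34 + q35 + q36 + q37 ≤ 4))
    (v4 : Hide ((0 : ℤ) + (1 : ℤ) + (0 : ℤ) + q34 + q45 + q46 + q47 ≤ 4))
    (v5 : Hide ((0 : ℤ) + (0 : ℤ) + (0 : ℤ) + q35 + q45 + q56 + q57 ≤ 4))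
    (v6 : Hide ((0 : ℤ) + (0 : ℤ) + (0 : ℤ) + q36 + q46 + q56 + q67 ≤ 4))
    (v7 : Hide ((0 : ℤ) + (0 : ℤ) + (1 : ℤ) + q37 + q47 + q57 + q67 ≤ 4))
    (qn01 : Hide (0 ≤ (1 : ℤ)))
    (qn02 : Hide (0 ≤ (0 : ℤ)))
    (qn03 : Hide (0 ≤ (0 : ℤ)))
    (qn04 : Hide (0 ≤ (0 : ℤ)))
    (qn05 : Hide (0 ≤ (0 : ℤ)))
    (qn06 : Hide (0 ≤ (0 : ℤ)))
    (qn07 : Hide (0 ≤ (0 : ℤ)))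
    (qn12 : Hide (0 ≤ (1 : ℤ)))
    (qn13 : Hide (0 ≤ (0 : ℤ)))
    (qn14 : Hide (0 ≤ (1 : ℤ)))
    (qn15 : Hide (0 ≤ (0 : ℤ)))
    (qn16 : Hide (0 ≤ (0 : ℤ)))
    (qn17 : Hide (0 ≤ (0 : ℤ)))
    (qn23 : Hide (0 ≤ (1 : ℤ)))
    (qn24 : Hide (0 ≤ (0 : ℤ)))
    (qn25 : Hide (0 ≤ (0 : ℤ)))
    (qn26 : Hide (0 ≤ (0 : ℤ)))
    (qn27 : Hide (0 ≤ (1 : ℤ)))
    (qn34 : Hide (0 ≤ q34))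
    (qn35 : Hide (0 ≤ q35))
    (qn36 : Hide (0 ≤ q36))
    (qn37 : Hide (0 ≤ q37))
    (qn45 : Hide (0 ≤ q45))
    (qn46 : Hide (0 ≤ q46))
    (qn47 : Hide (0 ≤ q47))
    (qn56 : Hide (0 ≤ q56))
    (qn57 : Hide (0 ≤ q57))
    (qn67 : Hide (0 ≤ q67))
    (od1 : Hide (0 < (1 : ℤ)))
    (od2 : Hide (0 < (0 : ℤ) + (1 : ℤ)))
    (od3 : Hide (0 < (0 : ℤ) + (0 : ℤ) + (1 : ℤ)))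
    (od4 : Hide (0 < (0 : ℤ) + (1 : ℤ) + (0 : ℤ) + α34))
    (od5 : Hide (0 < (0 : ℤ) + (0 : ℤ) + (0 : ℤ) + α35 + α45))
    (od6 : Hide (0 < (0 : ℤ) + (0 : ℤ) + (0 : ℤ) + α36 + α46 + α56))
    (od7 : Hide (0 < (0 : ℤ) + (0 : ℤ) + (1 : ℤ) + α37 + α47 + α57 + α67))
    (c34 : Hide (((Hide (x34 = 0 ∧ x43 = 0) ∧ Hide (T.a 3 4 = 0 ∧ T.a 4 3 = 0) ∧ Hide (α34 = 0 ∧ α43 = 0)) ∧ q34 = 0) ∨ ((Hide (x34 = T.m 4 ∧ x43 = T.m 3) ∧ Hide (T.a 3 4 = T.w 3 ∧ T.a 4 3 = T.w 4) ∧ Hide (α34 = 1 ∧ α43 = 1)) ∧ q34 = 1) ∨ ((Hide (x34 = T.m 4 ∧ x43 = 2 * T.m 3) ∧ Hide (T.a 3 4 = T.w 3 ∧ T.a 4 3 = 2 * T.w 4) ∧ Hide (α34 = 1 ∧ α43 = 2)) ∧ q34 = 2) ∨ ((Hide (x34 = 2 * T.m 4 ∧ x43 = T.m 3) ∧ Hide (T.a 3 4 = 2 * T.w 3 ∧ T.a 4 3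 = T.w 4) ∧ Hide (α34 = 2 ∧ α43 = 1)) ∧ q34 = 2) ∨ ((Hide (x34 = T.m 4 ∧ x43 = 3 * T.m 3) ∧ Hide (T.a 3 4 = T.w 3 ∧ T.a 4 3 = 3 * T.w 4) ∧ Hide (α34 = 1 ∧ α43 = 3)) ∧ q34 = 3) ∨ ((Hide (x34 = 3 * T.m 4 ∧ x43 = T.m 3) ∧ Hide (T.a 3 4 = 3 * T.w 3 ∧ T.a 4 3 = T.w 4) ∧ Hide (α34 = 3 ∧ α43 = 1)) ∧ q34 = 3) ∨ ((Hide (x34 = T.m 4 ∧ x43 = 4 * T.m 3) ∧ Hide (T.a 3 4 = T.w 3 ∧ T.a 4 3 = 4 * T.w 4) ∧ Hide (α34 = 1 ∧ α43 = 4)) ∧ q34 = 4) ∨ ((Hide (x34 = 4 * T.m 4 ∧ x43 = T.m 3) ∧ Hide (T.a 3 4 = 4 * T.w 3 ∧ T.a 4 3 = T.w 4) ∧ Hide (α34 = 4 ∧ α43 = 1)) ∧ q34 = 4) ∨ ((Hide (x34 = 2 * T.m 4 ∧ x43 = 2 * T.m 3) ∧ Hide (T.a 3 4 = 2 * T.w 3 ∧ T.a 4 3 = 2 * T.w 4) ∧ Hide (α34 = 2 ∧ α43 = 2)) ∧ q34 = 4)))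
    (c35 : Hide (((Hide (x35 = 0 ∧ x53 = 0) ∧ Hide (T.a 3 5 = 0 ∧ T.a 5 3 = 0) ∧ Hide (α35 = 0 ∧ α53 = 0)) ∧ q35 = 0) ∨ ((Hide (x35 = T.m 5 ∧ x53 = T.m 3) ∧ Hide (T.a 3 5 = T.w 3 ∧ T.a 5 3 = T.w 5) ∧ Hide (α35 = 1 ∧ α53 = 1)) ∧ q35 = 1) ∨ ((Hide (x35 = T.m 5 ∧ x53 = 2 * T.m 3) ∧ Hide (T.a 3 5 = T.w 3 ∧ T.a 5 3 = 2 * T.w 5) ∧ Hide (α35 = 1 ∧ α53 = 2)) ∧ q35 = 2) ∨ ((Hide (x35 = 2 * T.m 5 ∧ x53 = T.m 3) ∧ Hide (T.a 3 5 = 2 * T.w 3 ∧ T.a 5 3 = T.w 5) ∧ Hide (α35 = 2 ∧ α53 = 1)) ∧ q35 = 2) ∨ ((Hide (x35 = T.m 5 ∧ x53 = 3 * T.m 3) ∧ Hide (T.a 3 5 = T.w 3 ∧ T.a 5 3 = 3 * T.w 5) ∧ Hide (α35 = 1 ∧ α53 = 3)) ∧ q35 = 3) ∨ ((Hide (x35 = 3 * T.m 5 ∧ x53 = T.m 3) ∧ Hide (T.a 3 5 = 3 * T.w 3 ∧ T.a 5 3 = T.w 5)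 ∧ Hide (α35 = 3 ∧ α53 = 1)) ∧ q35 = 3) ∨ ((Hide (x35 = T.m 5 ∧ x53 = 4 * T.m 3) ∧ Hide (T.a 3 5 = T.w 3 ∧ T.a 5 3 = 4 * T.w 5) ∧ Hide (α35 = 1 ∧ α53 = 4)) ∧ q35 = 4) ∨ ((Hide (x35 = 4 * T.m 5 ∧ x53 = T.m 3) ∧ Hide (T.a 3 5 = 4 * T.w 3 ∧ T.a 5 3 = T.w 5) ∧ Hide (α35 = 4 ∧ α53 = 1)) ∧ q35 = 4) ∨ ((Hide (x35 = 2 * T.m 5 ∧ x53 = 2 * T.m 3) ∧ Hide (T.a 3 5 = 2 * T.w 3 ∧ T.a 5 3 = 2 * T.w 5) ∧ Hide (α35 = 2 ∧ α53 = 2)) ∧ q35 = 4)))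
    (c36 : Hide (((Hide (x36 = 0 ∧ x63 = 0) ∧ Hide (T.a 3 6 = 0 ∧ T.a 6 3 = 0) ∧ Hide (α36 = 0 ∧ α63 = 0)) ∧ q36 = 0) ∨ ((Hide (x36 = T.m 6 ∧ x63 = T.m 3) ∧ Hide (T.a 3 6 = T.w 3 ∧ T.a 6 3 = T.w 6) ∧ Hide (α36 = 1 ∧ α63 = 1)) ∧ q36 = 1) ∨ ((Hide (x36 = T.m 6 ∧ x63 = 2 * T.m 3) ∧ Hide (T.a 3 6 = T.w 3 ∧ T.a 6 3 = 2 * T.w 6) ∧ Hide (α36 = 1 ∧ α63 = 2)) ∧ q36 = 2) ∨ ((Hide (x36 = 2 * T.m 6 ∧ x63 = T.m 3) ∧ Hide (T.a 3 6 = 2 * T.w 3 ∧ T.a 6 3 = T.w 6) ∧ Hide (α36 = 2 ∧ α63 = 1)) ∧ q36 = 2) ∨ ((Hide (x36 = T.m 6 ∧ x63 = 3 * T.m 3) ∧ Hide (T.a 3 6 = T.w 3 ∧ T.a 6 3 = 3 * T.w 6) ∧ Hide (α36 = 1 ∧ α63 = 3)) ∧ q36 = 3) ∨ ((Hide (x36 = 3 * T.m 6 ∧ x63 = T.m 3) ∧ Hide (T.a 3 6 = 3 * T.w 3 ∧ T.a 6 3 = T.w 6)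 ∧ Hide (α36 = 3 ∧ α63 = 1)) ∧ q36 = 3) ∨ ((Hide (x36 = T.m 6 ∧ x63 = 4 * T.m 3) ∧ Hide (T.a 3 6 = T.w 3 ∧ T.a 6 3 = 4 * T.w 6) ∧ Hide (α36 = 1 ∧ α63 = 4)) ∧ q36 = 4) ∨ ((Hide (x36 = 4 * T.m 6 ∧ x63 = T.m 3) ∧ Hide (T.a 3 6 = 4 * T.w 3 ∧ T.a 6 3 = T.w 6) ∧ Hide (α36 = 4 ∧ α63 = 1)) ∧ q36 = 4) ∨ ((Hide (x36 = 2 * T.m 6 ∧ x63 = 2 * T.m 3) ∧ Hide (T.a 3 6 = 2 * T.w 3 ∧ T.a 6 3 = 2 * T.w 6) ∧ Hide (α36 = 2 ∧ α63 = 2)) ∧ q36 = 4)))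
    (c37 : Hide (((Hide (x37 = 0 ∧ x73 = 0) ∧ Hide (T.a 3 7 = 0 ∧ T.a 7 3 = 0) ∧ Hide (α37 = 0 ∧ α73 = 0)) ∧ q37 = 0) ∨ ((Hide (x37 = T.m 7 ∧ x73 = T.m 3) ∧ Hide (T.a 3 7 = T.w 3 ∧ T.a 7 3 = T.w 7) ∧ Hide (α37 = 1 ∧ α73 = 1)) ∧ q37 = 1) ∨ ((Hide (x37 = T.m 7 ∧ x73 = 2 * T.m 3) ∧ Hide (T.a 3 7 = T.w 3 ∧ T.a 7 3 = 2 * T.w 7) ∧ Hide (α37 = 1 ∧ α73 = 2)) ∧ q37 = 2) ∨ ((Hide (x37 = 2 * T.m 7 ∧ x73 = T.m 3) ∧ Hide (T.a 3 7 = 2 * T.w 3 ∧ T.a 7 3 = T.w 7) ∧ Hide (α37 = 2 ∧ α73 = 1)) ∧ q37 = 2) ∨ ((Hide (x37 = T.m 7 ∧ x73 = 3 * T.m 3) ∧ Hide (T.a 3 7 = T.w 3 ∧ T.a 7 3 = 3 * T.w 7) ∧ Hide (α37 = 1 ∧ α73 = 3)) ∧ q37 = 3) ∨ ((Hide (x37 = 3 * T.m 7 ∧ x73 = T.m 3) ∧ Hide (T.a 3 7 = 3 * T.w 3 ∧ T.a 7 3 = T.w 7)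 ∧ Hide (α37 = 3 ∧ α73 = 1)) ∧ q37 = 3) ∨ ((Hide (x37 = T.m 7 ∧ x73 = 4 * T.m 3) ∧ Hide (T.a 3 7 = T.w 3 ∧ T.a 7 3 = 4 * T.w 7) ∧ Hide (α37 = 1 ∧ α73 = 4)) ∧ q37 = 4) ∨ ((Hide (x37 = 4 * T.m 7 ∧ x73 = T.m 3) ∧ Hide (T.a 3 7 = 4 * T.w 3 ∧ T.a 7 3 = T.w 7) ∧ Hide (α37 = 4 ∧ α73 = 1)) ∧ q37 = 4) ∨ ((Hide (x37 = 2 * T.m 7 ∧ x73 = 2 * T.m 3) ∧ Hide (T.a 3 7 = 2 * T.w 3 ∧ T.a 7 3 = 2 * T.w 7) ∧ Hide (α37 = 2 ∧ α73 = 2)) ∧ q37 = 4)))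
    (c45 : Hide (((Hide (x45 = 0 ∧ x54 = 0) ∧ Hide (T.a 4 5 = 0 ∧ T.a 5 4 = 0) ∧ Hide (α45 = 0 ∧ α54 = 0)) ∧ q45 = 0) ∨ ((Hide (x45 = T.m 5 ∧ x54 = T.m 4) ∧ Hide (T.a 4 5 = T.w 4 ∧ T.a 5 4 = T.w 5) ∧ Hide (α45 = 1 ∧ α54 = 1)) ∧ q45 = 1) ∨ ((Hide (x45 = T.m 5 ∧ x54 = 2 * T.m 4) ∧ Hide (T.a 4 5 = T.w 4 ∧ T.a 5 4 = 2 * T.w 5) ∧ Hide (α45 = 1 ∧ α54 = 2)) ∧ q45 = 2) ∨ ((Hide (x45 = 2 * T.m 5 ∧ x54 = T.m 4) ∧ Hide (T.a 4 5 = 2 * T.w 4 ∧ T.a 5 4 = T.w 5) ∧ Hide (α45 = 2 ∧ α54 = 1)) ∧ q45 = 2) ∨ ((Hide (x45 = T.m 5 ∧ x54 = 3 * T.m 4) ∧ Hide (T.a 4 5 = T.w 4 ∧ T.a 5 4 = 3 * T.w 5) ∧ Hide (α45 = 1 ∧ α54 = 3)) ∧ q45 = 3) ∨ ((Hide (x45 = 3 * T.m 5 ∧ x54 = T.m 4) ∧ Hide (T.a 4 5 = 3 * T.w 4 ∧ T.a 5 4 = T.w 5)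 ∧ Hide (α45 = 3 ∧ α54 = 1)) ∧ q45 = 3) ∨ ((Hide (x45 = T.m 5 ∧ x54 = 4 * T.m 4) ∧ Hide (T.a 4 5 = T.w 4 ∧ T.a 5 4 = 4 * T.w 5) ∧ Hide (α45 = 1 ∧ α54 = 4)) ∧ q45 = 4) ∨ ((Hide (x45 = 4 * T.m 5 ∧ x54 = T.m 4) ∧ Hide (T.a 4 5 = 4 * T.w 4 ∧ T.a 5 4 = T.w 5) ∧ Hide (α45 = 4 ∧ α54 = 1)) ∧ q45 = 4) ∨ ((Hide (x45 = 2 * T.m 5 ∧ x54 = 2 * T.m 4) ∧ Hide (T.a 4 5 = 2 * T.w 4 ∧ T.a 5 4 = 2 * T.w 5) ∧ Hide (α45 = 2 ∧ α54 = 2)) ∧ q45 = 4)))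
    (c46 : Hide (((Hide (x46 = 0 ∧ x64 = 0) ∧ Hide (T.a 4 6 = 0 ∧ T.a 6 4 = 0) ∧ Hide (α46 = 0 ∧ α64 = 0)) ∧ q46 = 0) ∨ ((Hide (x46 = T.m 6 ∧ x64 = T.m 4) ∧ Hide (T.a 4 6 = T.w 4 ∧ T.a 6 4 = T.w 6) ∧ Hide (α46 = 1 ∧ α64 = 1)) ∧ q46 = 1) ∨ ((Hide (x46 = T.m 6 ∧ x64 = 2 * T.m 4) ∧ Hide (T.a 4 6 = T.w 4 ∧ T.a 6 4 = 2 * T.w 6) ∧ Hide (α46 = 1 ∧ α64 = 2)) ∧ q46 = 2) ∨ ((Hide (x46 = 2 * T.m 6 ∧ x64 = T.m 4) ∧ Hide (T.a 4 6 = 2 * T.w 4 ∧ T.a 6 4 = T.w 6) ∧ Hide (α46 = 2 ∧ α64 = 1)) ∧ q46 = 2) ∨ ((Hide (x46 = T.m 6 ∧ x64 = 3 * T.m 4) ∧ Hide (T.a 4 6 = T.w 4 ∧ T.a 6 4 = 3 * T.w 6) ∧ Hide (α46 = 1 ∧ α64 = 3)) ∧ q46 = 3) ∨ ((Hide (x46 = 3 * T.m 6 ∧ x64 = T.m 4) ∧ Hide (T.a 4 6 = 3 * T.w 4 ∧ T.a 6 4 = T.w 6)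 ∧ Hide (α46 = 3 ∧ α64 = 1)) ∧ q46 = 3) ∨ ((Hide (x46 = T.m 6 ∧ x64 = 4 * T.m 4) ∧ Hide (T.a 4 6 = T.w 4 ∧ T.a 6 4 = 4 * T.w 6) ∧ Hide (α46 = 1 ∧ α64 = 4)) ∧ q46 = 4) ∨ ((Hide (x46 = 4 * T.m 6 ∧ x64 = T.m 4) ∧ Hide (T.a 4 6 = 4 * T.w 4 ∧ T.a 6 4 = T.w 6) ∧ Hide (α46 = 4 ∧ α64 = 1)) ∧ q46 = 4) ∨ ((Hide (x46 = 2 * T.m 6 ∧ x64 = 2 * T.m 4) ∧ Hide (T.a 4 6 = 2 * T.w 4 ∧ T.a 6 4 = 2 * T.w 6) ∧ Hide (α46 = 2 ∧ α64 = 2)) ∧ q46 = 4)))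
    (c47 : Hide (((Hide (x47 = 0 ∧ x74 = 0) ∧ Hide (T.a 4 7 = 0 ∧ T.a 7 4 = 0) ∧ Hide (α47 = 0 ∧ α74 = 0)) ∧ q47 = 0) ∨ ((Hide (x47 = T.m 7 ∧ x74 = T.m 4) ∧ Hide (T.a 4 7 = T.w 4 ∧ T.a 7 4 = T.w 7) ∧ Hide (α47 = 1 ∧ α74 = 1)) ∧ q47 = 1) ∨ ((Hide (x47 = T.m 7 ∧ x74 = 2 * T.m 4) ∧ Hide (T.a 4 7 = T.w 4 ∧ T.a 7 4 = 2 * T.w 7) ∧ Hide (α47 = 1 ∧ α74 = 2)) ∧ q47 = 2) ∨ ((Hide (x47 = 2 * T.m 7 ∧ x74 = T.m 4) ∧ Hide (T.a 4 7 = 2 * T.w 4 ∧ T.a 7 4 = T.w 7) ∧ Hide (α47 = 2 ∧ α74 = 1)) ∧ q47 = 2) ∨ ((Hide (x47 = T.m 7 ∧ x74 = 3 * T.m 4) ∧ Hide (T.a 4 7 = T.w 4 ∧ T.a 7 4 = 3 * T.w 7) ∧ Hide (α47 = 1 ∧ α74 = 3)) ∧ q47 = 3) ∨ ((Hide (x47 = 3 * T.m 7 ∧ x74 = T.m 4) ∧ Hide (T.a 4 7 = 3 * T.w 4 ∧ T.a 7 4 = T.w 7)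 ∧ Hide (α47 = 3 ∧ α74 = 1)) ∧ q47 = 3) ∨ ((Hide (x47 = T.m 7 ∧ x74 = 4 * T.m 4) ∧ Hide (T.a 4 7 = T.w 4 ∧ T.a 7 4 = 4 * T.w 7) ∧ Hide (α47 = 1 ∧ α74 = 4)) ∧ q47 = 4) ∨ ((Hide (x47 = 4 * T.m 7 ∧ x74 = T.m 4) ∧ Hide (T.a 4 7 = 4 * T.w 4 ∧ T.a 7 4 = T.w 7) ∧ Hide (α47 = 4 ∧ α74 = 1)) ∧ q47 = 4) ∨ ((Hide (x47 = 2 * T.m 7 ∧ x74 = 2 * T.m 4) ∧ Hide (T.a 4 7 = 2 * T.w 4 ∧ T.a 7 4 = 2 * T.w 7) ∧ Hide (α47 = 2 ∧ α74 = 2)) ∧ q47 = 4)))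
    (c56 : Hide (((Hide (x56 = 0 ∧ x65 = 0) ∧ Hide (T.a 5 6 = 0 ∧ T.a 6 5 = 0) ∧ Hide (α56 = 0 ∧ α65 = 0)) ∧ q56 = 0) ∨ ((Hide (x56 = T.m 6 ∧ x65 = T.m 5) ∧ Hide (T.a 5 6 = T.w 5 ∧ T.a 6 5 = T.w 6) ∧ Hide (α56 = 1 ∧ α65 = 1)) ∧ q56 = 1) ∨ ((Hide (x56 = T.m 6 ∧ x65 = 2 * T.m 5) ∧ Hide (T.a 5 6 = T.w 5 ∧ T.a 6 5 = 2 * T.w 6) ∧ Hide (α56 = 1 ∧ α65 = 2)) ∧ q56 = 2) ∨ ((Hide (x56 = 2 * T.m 6 ∧ x65 = T.m 5) ∧ Hide (T.a 5 6 = 2 * T.w 5 ∧ T.a 6 5 = T.w 6) ∧ Hide (α56 = 2 ∧ α65 = 1)) ∧ q56 = 2) ∨ ((Hide (x56 = T.m 6 ∧ x65 = 3 * T.m 5) ∧ Hide (T.a 5 6 = T.w 5 ∧ T.a 6 5 = 3 * T.w 6) ∧ Hide (α56 = 1 ∧ α65 = 3)) ∧ q56 = 3) ∨ ((Hide (x56 = 3 * T.m 6 ∧ x65 = T.m 5) ∧ Hide (T.a 5 6 = 3 * T.w 5 ∧ T.a 6 5 = T.w 6)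 ∧ Hide (α56 = 3 ∧ α65 = 1)) ∧ q56 = 3) ∨ ((Hide (x56 = T.m 6 ∧ x65 = 4 * T.m 5) ∧ Hide (T.a 5 6 = T.w 5 ∧ T.a 6 5 = 4 * T.w 6) ∧ Hide (α56 = 1 ∧ α65 = 4)) ∧ q56 = 4) ∨ ((Hide (x56 = 4 * T.m 6 ∧ x65 = T.m 5) ∧ Hide (T.a 5 6 = 4 * T.w 5 ∧ T.a 6 5 = T.w 6) ∧ Hide (α56 = 4 ∧ α65 = 1)) ∧ q56 = 4) ∨ ((Hide (x56 = 2 * T.m 6 ∧ x65 = 2 * T.m 5) ∧ Hide (T.a 5 6 = 2 * T.w 5 ∧ T.a 6 5 = 2 * T.w 6) ∧ Hide (α56 = 2 ∧ α65 = 2)) ∧ q56 = 4)))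
    (c57 : Hide (((Hide (x57 = 0 ∧ x75 = 0) ∧ Hide (T.a 5 7 = 0 ∧ T.a 7 5 = 0) ∧ Hide (α57 = 0 ∧ α75 = 0)) ∧ q57 = 0) ∨ ((Hide (x57 = T.m 7 ∧ x75 = T.m 5) ∧ Hide (T.a 5 7 = T.w 5 ∧ T.a 7 5 = T.w 7) ∧ Hide (α57 = 1 ∧ α75 = 1)) ∧ q57 = 1) ∨ ((Hide (x57 = T.m 7 ∧ x75 = 2 * T.m 5) ∧ Hide (T.a 5 7 = T.w 5 ∧ T.a 7 5 = 2 * T.w 7) ∧ Hide (α57 = 1 ∧ α75 = 2)) ∧ q57 = 2) ∨ ((Hide (x57 = 2 * T.m 7 ∧ x75 = T.m 5) ∧ Hide (T.a 5 7 = 2 * T.w 5 ∧ T.a 7 5 = T.w 7) ∧ Hide (α57 = 2 ∧ α75 = 1)) ∧ q57 = 2) ∨ ((Hide (x57 = T.m 7 ∧ x75 = 3 * T.m 5) ∧ Hide (T.a 5 7 = T.w 5 ∧ T.a 7 5 = 3 * T.w 7) ∧ Hide (α57 = 1 ∧ α75 = 3)) ∧ q57 = 3) ∨ ((Hide (x57 = 3 * T.m 7 ∧ x75 = T.m 5) ∧ Hide (T.a 5 7 = 3 * T.w 5 ∧ T.a 7 5 = T.w 7)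 ∧ Hide (α57 = 3 ∧ α75 = 1)) ∧ q57 = 3) ∨ ((Hide (x57 = T.m 7 ∧ x75 = 4 * T.m 5) ∧ Hide (T.a 5 7 = T.w 5 ∧ T.a 7 5 = 4 * T.w 7) ∧ Hide (α57 = 1 ∧ α75 = 4)) ∧ q57 = 4) ∨ ((Hide (x57 = 4 * T.m 7 ∧ x75 = T.m 5) ∧ Hide (T.a 5 7 = 4 * T.w 5 ∧ T.a 7 5 = T.w 7) ∧ Hide (α57 = 4 ∧ α75 = 1)) ∧ q57 = 4) ∨ ((Hide (x57 = 2 * T.m 7 ∧ x75 = 2 * T.m 5) ∧ Hide (T.a 5 7 = 2 * T.w 5 ∧ T.a 7 5 = 2 * T.w 7) ∧ Hide (α57 = 2 ∧ α75 = 2)) ∧ q57 = 4)))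
    (c67 : Hide (((Hide (x67 = 0 ∧ x76 = 0) ∧ Hide (T.a 6 7 = 0 ∧ T.a 7 6 = 0) ∧ Hide (α67 = 0 ∧ α76 = 0)) ∧ q67 = 0) ∨ ((Hide (x67 = T.m 7 ∧ x76 = T.m 6) ∧ Hide (T.a 6 7 = T.w 6 ∧ T.a 7 6 = T.w 7) ∧ Hide (α67 = 1 ∧ α76 = 1)) ∧ q67 = 1) ∨ ((Hide (x67 = T.m 7 ∧ x76 = 2 * T.m 6) ∧ Hide (T.a 6 7 = T.w 6 ∧ T.a 7 6 = 2 * T.w 7) ∧ Hide (α67 = 1 ∧ α76 = 2)) ∧ q67 = 2) ∨ ((Hide (x67 = 2 * T.m 7 ∧ x76 = T.m 6) ∧ Hide (T.a 6 7 = 2 * T.w 6 ∧ T.a 7 6 = T.w 7) ∧ Hide (α67 = 2 ∧ α76 = 1)) ∧ q67 = 2) ∨ ((Hide (x67 = T.m 7 ∧ x76 = 3 * T.m 6) ∧ Hide (T.a 6 7 = T.w 6 ∧ T.a 7 6 = 3 * T.w 7) ∧ Hide (α67 = 1 ∧ α76 = 3)) ∧ q67 = 3) ∨ ((Hide (x67 = 3 * T.m 7 ∧ x76 = T.m 6) ∧ Hide (T.a 6 7 = 3 * T.w 6 ∧ T.a 7 6 = T.w 7)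 ∧ Hide (α67 = 3 ∧ α76 = 1)) ∧ q67 = 3) ∨ ((Hide (x67 = T.m 7 ∧ x76 = 4 * T.m 6) ∧ Hide (T.a 6 7 = T.w 6 ∧ T.a 7 6 = 4 * T.w 7) ∧ Hide (α67 = 1 ∧ α76 = 4)) ∧ q67 = 4) ∨ ((Hide (x67 = 4 * T.m 7 ∧ x76 = T.m 6) ∧ Hide (T.a 6 7 = 4 * T.w 6 ∧ T.a 7 6 = T.w 7) ∧ Hide (α67 = 4 ∧ α76 = 1)) ∧ q67 = 4) ∨ ((Hide (x67 = 2 * T.m 7 ∧ x76 = 2 * T.m 6) ∧ Hide (T.a 6 7 = 2 * T.w 6 ∧ T.a 7 6 = 2 * T.w 7) ∧ Hide (α67 = 2 ∧ α76 = 2)) ∧ q67 = 4)))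
    (gw01 : Hide (T.a 0 1 = T.w 0 ∧ T.a 1 0 = T.w 1))
    (gw02 : Hide (T.a 0 2 = 0 ∧ T.a 2 0 = 0))
    (gw03 : Hide (T.a 0 3 = 0 ∧ T.a 3 0 = 0))
    (gw04 : Hide (T.a 0 4 = 0 ∧ T.a 4 0 = 0))
    (gw05 : Hide (T.a 0 5 = 0 ∧ T.a 5 0 = 0))
    (gw06 : Hide (T.a 0 6 = 0 ∧ T.a 6 0 = 0))
    (gw07 : Hide (T.a 0 7 = 0 ∧ T.a 7 0 = 0))
    (gw12 : Hide (T.a 1 2 = T.w 1 ∧ T.a 2 1 = T.w 2))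
    (gw13 : Hide (T.a 1 3 = 0 ∧ T.a 3 1 = 0))
    (gw14 : Hide (T.a 1 4 = T.w 1 ∧ T.a 4 1 = T.w 4))
    (gw15 : Hide (T.a 1 5 = 0 ∧ T.a 5 1 = 0))
    (gw16 : Hide (T.a 1 6 = 0 ∧ T.a 6 1 = 0))
    (gw17 : Hide (T.a 1 7 = 0 ∧ T.a 7 1 = 0))
    (gw23 : Hide (T.a 2 3 = T.w 2 ∧ T.a 3 2 = T.w 3))
    (gw24 : Hide (T.a 2 4 = 0 ∧ T.a 4 2 = 0))
    (gw25 : Hide (T.a 2 5 = 0 ∧ T.a 5 2 = 0))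
    (gw26 : Hide (T.a 2 6 = 0 ∧ T.a 6 2 = 0))
    (gw27 : Hide (T.a 2 7 = T.w 2 ∧ T.a 7 2 = T.w 7)) : Goal T := by
  have t := pc3 q34 c34.out (by have := v3.out; have := qn35.out; have := qn36.out; have := qn37.out; omega)
  clear c34
  rcases t with ⟨⟨⟨rfl, rfl⟩, gw34, ⟨rfl, rfl⟩⟩, rfl⟩ | ⟨⟨⟨rfl, rfl⟩, gw34, ⟨rfl, rfl⟩⟩, rfl⟩ | ⟨⟨⟨rfl, rfl⟩, gw34, ⟨rfl, rfl⟩⟩, rfl⟩ | ⟨⟨⟨rfl, rfl⟩, gw34, ⟨rfl, rfl⟩⟩, rfl⟩ | ⟨⟨⟨rfl, rfl⟩, gw34, ⟨rfl, rfl⟩⟩, rfl⟩ | ⟨⟨⟨rfl, rfl⟩, gw34, ⟨rfl, rfl⟩⟩, rfl⟩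
  · have t := pc3 q35 c35.out (by have := v3.out; have := qn36.out; have := qn37.out; omega)
    clear c35
    rcases t with ⟨⟨⟨rfl, rfl⟩, gw35, ⟨rfl, rfl⟩⟩, rfl⟩ | ⟨⟨⟨rfl, rfl⟩, gw35, ⟨rfl, rfl⟩⟩, rfl⟩ | ⟨⟨⟨rfl, rfl⟩, gw35, ⟨rfl, rfl⟩⟩, rfl⟩ | ⟨⟨⟨rfl, rfl⟩, gw35, ⟨rfl, rfl⟩⟩, rfl⟩ | ⟨⟨⟨rfl, rfl⟩, gw35, ⟨rfl, rfl⟩⟩, rfl⟩ | ⟨⟨⟨rfl, rfl⟩, gw35, ⟨rfl, rfl⟩⟩, rfl⟩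
    · have t := pc3 q36 c36.out (by have := v3.out; have := qn37.out; omega)
      clear c36
      rcases t with ⟨⟨⟨rfl, rfl⟩, gw36, ⟨rfl, rfl⟩⟩, rfl⟩ | ⟨⟨⟨rfl, rfl⟩, gw36, ⟨rfl, rfl⟩⟩, rfl⟩ | ⟨⟨⟨rfl, rfl⟩, gw36, ⟨rfl, rfl⟩⟩, rfl⟩ | ⟨⟨⟨rfl, rfl⟩, gw36, ⟨rfl, rfl⟩⟩, rfl⟩ | ⟨⟨⟨rfl, rfl⟩, gw36, ⟨rfl, rfl⟩⟩, rfl⟩ | ⟨⟨⟨rfl, rfl⟩, gw36, ⟨rfl, rfl⟩⟩, rfl⟩
      · have t := pc3 q37 c37.out (by have := v3.out; omega)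
        clear c37
        rcases t with ⟨⟨⟨rfl, rfl⟩, gw37, ⟨rfl, rfl⟩⟩, rfl⟩ | ⟨⟨⟨rfl, rfl⟩, gw37, ⟨rfl, rfl⟩⟩, rfl⟩ | ⟨⟨⟨rfl, rfl⟩, gw37, ⟨rfl, rfl⟩⟩, rfl⟩ | ⟨⟨⟨rfl, rfl⟩, gw37, ⟨rfl, rfl⟩⟩, rfl⟩ | ⟨⟨⟨rfl, rfl⟩, gw37, ⟨rfl, rfl⟩⟩, rfl⟩ | ⟨⟨⟨rfl, rfl⟩, gw37, ⟨rfl, rfl⟩⟩, rfl⟩
        · have t := pc3 q45 c45.out (by have := v4.out; have := qn46.out; have := qn47.out; omega)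
          clear c45
          rcases t with ⟨⟨⟨rfl, rfl⟩, gw45, ⟨rfl, rfl⟩⟩, rfl⟩ | ⟨⟨⟨rfl, rfl⟩, gw45, ⟨rfl, rfl⟩⟩, rfl⟩ | ⟨⟨⟨rfl, rfl⟩, gw45, ⟨rfl, rfl⟩⟩, rfl⟩ | ⟨⟨⟨rfl, rfl⟩, gw45, ⟨rfl, rfl⟩⟩, rfl⟩ | ⟨⟨⟨rfl, rfl⟩, gw45, ⟨rfl, rfl⟩⟩, rfl⟩ | ⟨⟨⟨rfl, rfl⟩, gw45, ⟨rfl, rfl⟩⟩, rfl⟩
          · (have := od5.out; omega)
          · (have := hm7.out; have := om3.out; have := om5.out; have := e0.out; have := e1.out; have := e2.out; have := e4.out; have := r46.out; have := r47.out; omega)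
          · (have := hm0.out; have := e1.out; have := e2.out; have := e3.out; have := e4.out; have := r46.out; have := r47.out; have := e5.out; have := r56.out; have := r57.out; have := e7.out; have := r74.out; have := r75.out; have := r76.out; omega)
          · (have := hm0.out; have := e1.out; have := e2.out; have := e3.out; have := e4.out; have := r46.out; have := r47.out; have := e5.out; have := r56.out; have := r57.out; have := e7.out; have := r74.out; have := r75.out; have := r76.out; omega)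
          · (have := hm7.out; have := om3.out; have := om5.out; have := e0.out; have := e1.out; have := e2.out; have := e4.out; have := r46.out; have := r47.out; omega)
          · (have := hm5.out; have := e0.out; have := e1.out; have := e2.out; have := e3.out; have := e4.out; have := r46.out; have := r47.out; have := e7.out; have := r74.out; have := r75.out; have := r76.out; omega)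
        · (have := hm7.out; have := om4.out; have := e0.out; have := e1.out; have := e2.out; have := e3.out; have := e7.out; have := r74.out; have := r75.out; have := r76.out; omega)
        · (have := hm0.out; have := hm7.out; have := om4.out; have := e1.out; have := e2.out; have := e3.out; have := e7.out; have := r74.out; have := r75.out; have := r76.out; omega)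
        · (have := hm7.out; have := om4.out; have := om7.out; have := e0.out; have := e1.out; have := e2.out; have := e3.out; omega)
        · (have := hm0.out; have := om3.out; have := e0.out; have := e1.out; have := e2.out; have := e4.out; have := r45.out; have := r46.out; have := r47.out; have := e7.out; have := r74.out; have := r75.out; have := r76.out; omega)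
        · (have := hm0.out; have := om7.out; have := e0.out; have := e1.out; have := e2.out; have := e3.out; have := e4.out; have := r45.out; have := r46.out; have := r47.out; omega)
      · (have := hm6.out; have := om4.out; have := e0.out; have := e1.out; have := e2.out; have := e3.out; have := r37.out; have := e7.out; have := r73.out; have := r74.out; have := r75.out; have := r76.out; omega)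
      · (have := hm7.out; have := om4.out; have := e0.out; have := e1.out; have := e2.out; have := e3.out; have := r37.out; have := e6.out; have := r64.out; have := r65.out; have := r67.out; omega)
      · (have := hm7.out; have := om4.out; have := e0.out; have := e1.out; have := e2.out; have := e3.out; have := r37.out; have := e6.out; have := r64.out; have := r65.out; have := r67.out; omega)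
      · (have := hm6.out; have := om4.out; have := e0.out; have := e1.out; have := e2.out; have := e3.out; have := r37.out; have := e7.out; have := r73.out; have := r74.out; have := r75.out; have := r76.out; omega)
      · (have := hm6.out; have := om4.out; have := e0.out; have := e1.out; have := e2.out; have := e3.out; have := r37.out; have := e7.out; have := r73.out; have := r74.out; have := r75.out; have := r76.out; omega)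
    · (have := hm5.out; have := om4.out; have := e0.out; have := e1.out; have := e2.out; have := e3.out; have := r36.out; have := r37.out; have := e7.out; have := r73.out; have := r74.out; have := r75.out; have := r76.out; omega)
    · (have := hm7.out; have := om4.out; have := e0.out; have := e1.out; have := e2.out; have := e3.out; have := r36.out; have := r37.out; have := e5.out; have := r54.out; have := r56.out; have := r57.out; omega)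
    · (have := hm7.out; have := om4.out; have := e0.out; have := e1.out; have := e2.out; have := e3.out; have := r36.out; have := r37.out; have := e5.out; have := r54.out; have := r56.out; have := r57.out; omega)
    · (have := hm5.out; have := om4.out; have := e0.out; have := e1.out; have := e2.out; have := e3.out; have := r36.out; have := r37.out; have := e7.out; have := r73.out; have := r74.out; have := r75.out; have := r76.out; omega)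
    · (have := hm5.out; have := om4.out; have := e0.out; have := e1.out; have := e2.out; have := e3.out; have := r36.out; have := r37.out; have := e7.out; have := r73.out; have := r74.out; have := r75.out; have := r76.out; omega)
  · (have := hm7.out; have := om3.out; have := e0.out; have := e1.out; have := e2.out; have := e4.out; have := r45.out; have := r46.out; have := r47.out; omega)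
  · (have := hm0.out; have := om2.out; have := e0.out; have := e1.out; have := e3.out; have := r35.out; have := r36.out; have := r37.out; have := e4.out; have := r45.out; have := r46.out; have := r47.out; omega)
  · (have := hm7.out; have := om3.out; have := e0.out; have := e1.out; have := e2.out; have := e4.out; have := r45.out; have := r46.out; have := r47.out; omega)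
  · (have := hm1.out; have := hm7.out; have := e2.out; have := e3.out; have := r35.out; have := r36.out; have := r37.out; have := e4.out; have := r45.out; have := r46.out; have := r47.out; omega)
  · (have := hm1.out; have := hm7.out; have := e2.out; have := e3.out; have := r35.out; have := r36.out; have := r37.out; have := e4.out; have := r45.out; have := r46.out; have := r47.out; omega)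

set_option maxHeartbeats 0 in
theorem part34 (T : Models.NumericalType 8) (α27 α34 α35 α36 α37 α43 α45 α46 α47 α53 α54 α56 α57 α63 α64 α65 α67 α72 α73 α74 α75 α76 x27 x34 x35 x36 x37 x43 x45 x46 x47 x53 x54 x56 x57 x63 x64 x65 x67 x72 x73 x74 x75 x76 q27 q34 q35 q36 q37 q45 q46 q47 q56 q57 q67 : ℤ)
    (hm0 : Hide (0 < T.m 0))
    (hm1 : Hide (0 < T.m 1))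
    (hm2 : Hide (0 < T.m 2))
    (hm3 : Hide (0 < T.m 3))
    (hm4 : Hide (0 < T.m 4))
    (hm5 : Hide (0 < T.m 5))
    (hm6 : Hide (0 < T.m 6))
    (hm7 : Hide (0 < T.m 7))
    (om1 : Hide (T.m 0 ≤ T.m 1))
    (om2 : Hide (T.m 0 ≤ T.m 2))
    (om3 : Hide (T.m 0 ≤ T.m 3))
    (om4 : Hide (T.m 0 ≤ T.m 4))
    (om5 : Hide (T.m 0 ≤ T.m 5))
    (om6 : Hide (T.m 0 ≤ T.m 6))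
    (om7 : Hide (T.m 0 ≤ T.m 7))
    (e0 : Hide (T.m 1 + (0 : ℤ) + (0 : ℤ) + (0 : ℤ) + (0 : ℤ) + (0 : ℤ) + (0 : ℤ) = 2 * T.m 0))
    (e1 : Hide (T.m 0 + T.m 2 + (0 : ℤ) + T.m 4 + (0 : ℤ) + (0 : ℤ) + (0 : ℤ) = 2 * T.m 1))
    (e2 : Hide ((0 : ℤ) + T.m 1 + T.m 3 + (0 : ℤ) + (0 : ℤ) + T.m 6 + x27 = 2 * T.m 2))
    (e3 : Hide ((0 : ℤ) + (0 : ℤ) + T.m 2 + x34 + x35 + x36 + x37 = 2 * T.m 3))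
    (e4 : Hide ((0 : ℤ) + T.m 1 + (0 : ℤ) + x43 + x45 + x46 + x47 = 2 * T.m 4))
    (e5 : Hide ((0 : ℤ) + (0 : ℤ) + (0 : ℤ) + x53 + x54 + x56 + x57 = 2 * T.m 5))
    (e6 : Hide ((0 : ℤ) + (0 : ℤ) + T.m 2 + x63 + x64 + x65 + x67 = 2 * T.m 6))
    (e7 : Hide ((0 : ℤ) + (0 : ℤ) + x72 + x73 + x74 + x75 + x76 = 2 * T.m 7))
    (r01 : Hide (0 ≤ T.m 1))
    (r02 : Hide (0 ≤ (0 : ℤ)))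
    (r03 : Hide (0 ≤ (0 : ℤ)))
    (r04 : Hide (0 ≤ (0 : ℤ)))
    (r05 : Hide (0 ≤ (0 : ℤ)))
    (r06 : Hide (0 ≤ (0 : ℤ)))
    (r07 : Hide (0 ≤ (0 : ℤ)))
    (r10 : Hide (0 ≤ T.m 0))
    (r12 : Hide (0 ≤ T.m 2))
    (r13 : Hide (0 ≤ (0 : ℤ)))
    (r14 : Hide (0 ≤ T.m 4))
    (r15 : Hide (0 ≤ (0 : ℤ)))
    (r16 : Hide (0 ≤ (0 : ℤ)))
    (r17 : Hide (0 ≤ (0 : ℤ)))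
    (r20 : Hide (0 ≤ (0 : ℤ)))
    (r21 : Hide (0 ≤ T.m 1))
    (r23 : Hide (0 ≤ T.m 3))
    (r24 : Hide (0 ≤ (0 : ℤ)))
    (r25 : Hide (0 ≤ (0 : ℤ)))
    (r26 : Hide (0 ≤ T.m 6))
    (r27 : Hide (0 ≤ x27))
    (r30 : Hide (0 ≤ (0 : ℤ)))
    (r31 : Hide (0 ≤ (0 : ℤ)))
    (r32 : Hide (0 ≤ T.m 2))
    (r34 : Hide (0 ≤ x34))
    (r35 : Hide (0 ≤ x35))
    (r36 : Hide (0 ≤ x36))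
    (r37 : Hide (0 ≤ x37))
    (r40 : Hide (0 ≤ (0 : ℤ)))
    (r41 : Hide (0 ≤ T.m 1))
    (r42 : Hide (0 ≤ (0 : ℤ)))
    (r43 : Hide (0 ≤ x43))
    (r45 : Hide (0 ≤ x45))
    (r46 : Hide (0 ≤ x46))
    (r47 : Hide (0 ≤ x47))
    (r50 : Hide (0 ≤ (0 : ℤ)))
    (r51 : Hide (0 ≤ (0 : ℤ)))
    (r52 : Hide (0 ≤ (0 : ℤ)))
    (r53 : Hide (0 ≤ x53))
    (r54 : Hide (0 ≤ x54))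
    (r56 : Hide (0 ≤ x56))
    (r57 : Hide (0 ≤ x57))
    (r60 : Hide (0 ≤ (0 : ℤ)))
    (r61 : Hide (0 ≤ (0 : ℤ)))
    (r62 : Hide (0 ≤ T.m 2))
    (r63 : Hide (0 ≤ x63))
    (r64 : Hide (0 ≤ x64))
    (r65 : Hide (0 ≤ x65))
    (r67 : Hide (0 ≤ x67))
    (r70 : Hide (0 ≤ (0 : ℤ)))
    (r71 : Hide (0 ≤ (0 : ℤ)))
    (r72 : Hide (0 ≤ x72))
    (r73 : Hide (0 ≤ x73))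
    (r74 : Hide (0 ≤ x74))
    (r75 : Hide (0 ≤ x75))
    (r76 : Hide (0 ≤ x76))
    (hw0 : Hide (0 < T.w 0))
    (hw1 : Hide (0 < T.w 1))
    (hw2 : Hide (0 < T.w 2))
    (hw3 : Hide (0 < T.w 3))
    (hw4 : Hide (0 < T.w 4))
    (hw5 : Hide (0 < T.w 5))
    (hw6 : Hide (0 < T.w 6))
    (hw7 : Hide (0 < T.w 7))
    (hs01 : Hide (T.a 0 1 = T.a 1 0))
    (hs02 : Hide (T.a 0 2 = T.a 2 0))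
    (hs03 : Hide (T.a 0 3 = T.a 3 0))
    (hs04 : Hide (T.a 0 4 = T.a 4 0))
    (hs05 : Hide (T.a 0 5 = T.a 5 0))
    (hs06 : Hide (T.a 0 6 = T.a 6 0))
    (hs07 : Hide (T.a 0 7 = T.a 7 0))
    (hs12 : Hide (T.a 1 2 = T.a 2 1))
    (hs13 : Hide (T.a 1 3 = T.a 3 1))
    (hs14 : Hide (T.a 1 4 = T.a 4 1))
    (hs15 : Hide (T.a 1 5 = T.a 5 1))
    (hs16 : Hide (T.a 1 6 = T.a 6 1))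
    (hs17 : Hide (T.a 1 7 = T.a 7 1))
    (hs23 : Hide (T.a 2 3 = T.a 3 2))
    (hs24 : Hide (T.a 2 4 = T.a 4 2))
    (hs25 : Hide (T.a 2 5 = T.a 5 2))
    (hs26 : Hide (T.a 2 6 = T.a 6 2))
    (hs27 : Hide (T.a 2 7 = T.a 7 2))
    (hs34 : Hide (T.a 3 4 = T.a 4 3))
    (hs35 : Hide (T.a 3 5 = T.a 5 3))
    (hs36 : Hide (T.a 3 6 = T.a 6 3))
    (hs37 : Hide (T.a 3 7 = T.a 7 3))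
    (hs45 : Hide (T.a 4 5 = T.a 5 4))
    (hs46 : Hide (T.a 4 6 = T.a 6 4))
    (hs47 : Hide (T.a 4 7 = T.a 7 4))
    (hs56 : Hide (T.a 5 6 = T.a 6 5))
    (hs57 : Hide (T.a 5 7 = T.a 7 5))
    (hs67 : Hide (T.a 6 7 = T.a 7 6))
    (ha00 : Hide (T.a 0 0 = -2 * T.w 0))
    (ha11 : Hide (T.a 1 1 = -2 * T.w 1))
    (ha22 : Hide (T.a 2 2 = -2 * T.w 2))
    (ha33 : Hide (T.a 3 3 = -2 * T.w 3))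
    (ha44 : Hide (T.a 4 4 = -2 * T.w 4))
    (ha55 : Hide (T.a 5 5 = -2 * T.w 5))
    (ha66 : Hide (T.a 6 6 = -2 * T.w 6))
    (ha77 : Hide (T.a 7 7 = -2 * T.w 7))
    (v0 : Hide ((1 : ℤ) + (0 : ℤ) + (0 : ℤ) + (0 : ℤ) + (0 : ℤ) + (0 : ℤ) + (0 : ℤ) ≤ 4))
    (v1 : Hide ((1 : ℤ) + (1 : ℤ) + (0 : ℤ) + (1 : ℤ) + (0 : ℤ) + (0 : ℤ) + (0 : ℤ) ≤ 4))
    (v2 : Hide ((0 : ℤ) + (1 : ℤ) + (1 : ℤ) + (0 : ℤ) + (0 : ℤ) + (1 : ℤ) + q27 ≤ 4))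
    (v3 : Hide ((0 : ℤ) + (0 : ℤ) + (1 : ℤ) + q34 + q35 + q36 + q37 ≤ 4))
    (v4 : Hide ((0 : ℤ) + (1 : ℤ) + (0 : ℤ) + q34 + q45 + q46 + q47 ≤ 4))
    (v5 : Hide ((0 : ℤ) + (0 : ℤ) + (0 : ℤ) + q35 + q45 + q56 + q57 ≤ 4))
    (v6 : Hide ((0 : ℤ) + (0 : ℤ) + (1 : ℤ) + q36 + q46 + q56 + q67 ≤ 4))
    (v7 : Hide ((0 : ℤ) + (0 : ℤ) + q27 + q37 + q47 + q57 + q67 ≤ 4))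
    (qn01 : Hide (0 ≤ (1 : ℤ)))
    (qn02 : Hide (0 ≤ (0 : ℤ)))
    (qn03 : Hide (0 ≤ (0 : ℤ)))
    (qn04 : Hide (0 ≤ (0 : ℤ)))
    (qn05 : Hide (0 ≤ (0 : ℤ)))
    (qn06 : Hide (0 ≤ (0 : ℤ)))
    (qn07 : Hide (0 ≤ (0 : ℤ)))
    (qn12 : Hide (0 ≤ (1 : ℤ)))
    (qn13 : Hide (0 ≤ (0 : ℤ)))
    (qn14 : Hide (0 ≤ (1 : ℤ)))
    (qn15 : Hide (0 ≤ (0 : ℤ)))
    (qn16 : Hide (0 ≤ (0 : ℤ)))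
    (qn17 : Hide (0 ≤ (0 : ℤ)))
    (qn23 : Hide (0 ≤ (1 : ℤ)))
    (qn24 : Hide (0 ≤ (0 : ℤ)))
    (qn25 : Hide (0 ≤ (0 : ℤ)))
    (qn26 : Hide (0 ≤ (1 : ℤ)))
    (qn27 : Hide (0 ≤ q27))
    (qn34 : Hide (0 ≤ q34))
    (qn35 : Hide (0 ≤ q35))
    (qn36 : Hide (0 ≤ q36))
    (qn37 : Hide (0 ≤ q37))
    (qn45 : Hide (0 ≤ q45))
    (qn46 : Hide (0 ≤ q46))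
    (qn47 : Hide (0 ≤ q47))
    (qn56 : Hide (0 ≤ q56))
    (qn57 : Hide (0 ≤ q57))
    (qn67 : Hide (0 ≤ q67))
    (od1 : Hide (0 < (1 : ℤ)))
    (od2 : Hide (0 < (0 : ℤ) + (1 : ℤ)))
    (od3 : Hide (0 < (0 : ℤ) + (0 : ℤ) + (1 : ℤ)))
    (od4 : Hide (0 < (0 : ℤ) + (1 : ℤ) + (0 : ℤ) + α34))
    (od5 : Hide (0 < (0 : ℤ) + (0 : ℤ) + (0 : ℤ) + α35 + α45))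
    (od6 : Hide (0 < (0 : ℤ) + (0 : ℤ) + (1 : ℤ) + α36 + α46 + α56))
    (od7 : Hide (0 < (0 : ℤ) + (0 : ℤ) + α27 + α37 + α47 + α57 + α67))
    (c27 : Hide (((Hide (x27 = 0 ∧ x72 = 0) ∧ Hide (T.a 2 7 = 0 ∧ T.a 7 2 = 0) ∧ Hide (α27 = 0 ∧ α72 = 0)) ∧ q27 = 0) ∨ ((Hide (x27 = T.m 7 ∧ x72 = T.m 2) ∧ Hide (T.a 2 7 = T.w 2 ∧ T.a 7 2 = T.w 7) ∧ Hide (α27 = 1 ∧ α72 = 1)) ∧ q27 = 1) ∨ ((Hide (x27 = T.m 7 ∧ x72 = 2 * T.m 2) ∧ Hide (T.a 2 7 = T.w 2 ∧ T.a 7 2 = 2 * T.w 7) ∧ Hide (α27 = 1 ∧ α72 = 2)) ∧ q27 = 2) ∨ ((Hide (x27 = 2 * T.m 7 ∧ x72 = T.m 2) ∧ Hide (T.a 2 7 = 2 * T.w 2 ∧ T.a 7 2 = T.w 7) ∧ Hide (α27 = 2 ∧ α72 = 1)) ∧ q27 = 2) ∨ ((Hide (x27 = T.m 7 ∧ x72 = 3 * T.m 2) ∧ Hide (T.a 2 7 = T.w 2 ∧ T.a 7 2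 = 3 * T.w 7) ∧ Hide (α27 = 1 ∧ α72 = 3)) ∧ q27 = 3) ∨ ((Hide (x27 = 3 * T.m 7 ∧ x72 = T.m 2) ∧ Hide (T.a 2 7 = 3 * T.w 2 ∧ T.a 7 2 = T.w 7) ∧ Hide (α27 = 3 ∧ α72 = 1)) ∧ q27 = 3) ∨ ((Hide (x27 = T.m 7 ∧ x72 = 4 * T.m 2) ∧ Hide (T.a 2 7 = T.w 2 ∧ T.a 7 2 = 4 * T.w 7) ∧ Hide (α27 = 1 ∧ α72 = 4)) ∧ q27 = 4) ∨ ((Hide (x27 = 4 * T.m 7 ∧ x72 = T.m 2) ∧ Hide (T.a 2 7 = 4 * T.w 2 ∧ T.a 7 2 = T.w 7) ∧ Hide (α27 = 4 ∧ α72 = 1)) ∧ q27 = 4) ∨ ((Hide (x27 = 2 * T.m 7 ∧ x72 = 2 * T.m 2) ∧ Hide (T.a 2 7 = 2 * T.w 2 ∧ T.a 7 2 = 2 * T.w 7) ∧ Hide (α27 = 2 ∧ α72 = 2)) ∧ q27 = 4)))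
    (c34 : Hide (((Hide (x34 = 0 ∧ x43 = 0) ∧ Hide (T.a 3 4 = 0 ∧ T.a 4 3 = 0) ∧ Hide (α34 = 0 ∧ α43 = 0)) ∧ q34 = 0) ∨ ((Hide (x34 = T.m 4 ∧ x43 = T.m 3) ∧ Hide (T.a 3 4 = T.w 3 ∧ T.a 4 3 = T.w 4) ∧ Hide (α34 = 1 ∧ α43 = 1)) ∧ q34 = 1) ∨ ((Hide (x34 = T.m 4 ∧ x43 = 2 * T.m 3) ∧ Hide (T.a 3 4 = T.w 3 ∧ T.a 4 3 = 2 * T.w 4) ∧ Hide (α34 = 1 ∧ α43 = 2)) ∧ q34 = 2) ∨ ((Hide (x34 = 2 * T.m 4 ∧ x43 = T.m 3) ∧ Hide (T.a 3 4 = 2 * T.w 3 ∧ T.a 4 3 = T.w 4) ∧ Hide (α34 = 2 ∧ α43 = 1)) ∧ q34 = 2) ∨ ((Hide (x34 = T.m 4 ∧ x43 = 3 * T.m 3) ∧ Hide (T.a 3 4 = T.w 3 ∧ T.a 4 3 = 3 * T.w 4) ∧ Hide (α34 = 1 ∧ α43 = 3)) ∧ q34 = 3) ∨ ((Hide (x34 = 3 * T.m 4 ∧ x43 = T.m 3) ∧ Hide (T.a 3 4 = 3 * T.w 3 ∧ T.a 4 3 = T.w 4)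 ∧ Hide (α34 = 3 ∧ α43 = 1)) ∧ q34 = 3) ∨ ((Hide (x34 = T.m 4 ∧ x43 = 4 * T.m 3) ∧ Hide (T.a 3 4 = T.w 3 ∧ T.a 4 3 = 4 * T.w 4) ∧ Hide (α34 = 1 ∧ α43 = 4)) ∧ q34 = 4) ∨ ((Hide (x34 = 4 * T.m 4 ∧ x43 = T.m 3) ∧ Hide (T.a 3 4 = 4 * T.w 3 ∧ T.a 4 3 = T.w 4) ∧ Hide (α34 = 4 ∧ α43 = 1)) ∧ q34 = 4) ∨ ((Hide (x34 = 2 * T.m 4 ∧ x43 = 2 * T.m 3) ∧ Hide (T.a 3 4 = 2 * T.w 3 ∧ T.a 4 3 = 2 * T.w 4) ∧ Hide (α34 = 2 ∧ α43 = 2)) ∧ q34 = 4)))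
    (c35 : Hide (((Hide (x35 = 0 ∧ x53 = 0) ∧ Hide (T.a 3 5 = 0 ∧ T.a 5 3 = 0) ∧ Hide (α35 = 0 ∧ α53 = 0)) ∧ q35 = 0) ∨ ((Hide (x35 = T.m 5 ∧ x53 = T.m 3) ∧ Hide (T.a 3 5 = T.w 3 ∧ T.a 5 3 = T.w 5) ∧ Hide (α35 = 1 ∧ α53 = 1)) ∧ q35 = 1) ∨ ((Hide (x35 = T.m 5 ∧ x53 = 2 * T.m 3) ∧ Hide (T.a 3 5 = T.w 3 ∧ T.a 5 3 = 2 * T.w 5) ∧ Hide (α35 = 1 ∧ α53 = 2)) ∧ q35 = 2) ∨ ((Hide (x35 = 2 * T.m 5 ∧ x53 = T.m 3) ∧ Hide (T.a 3 5 = 2 * T.w 3 ∧ T.a 5 3 = T.w 5) ∧ Hide (α35 = 2 ∧ α53 = 1)) ∧ q35 = 2) ∨ ((Hide (x35 = T.m 5 ∧ x53 = 3 * T.m 3) ∧ Hide (T.a 3 5 = T.w 3 ∧ T.a 5 3 = 3 * T.w 5) ∧ Hide (α35 = 1 ∧ α53 = 3)) ∧ q35 = 3) ∨ ((Hide (x35 = 3 * T.m 5 ∧ x53 = T.m 3) ∧ Hide (T.a 3 5 = 3 * T.w 3 ∧ T.a 5 3 = T.w 5)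 ∧ Hide (α35 = 3 ∧ α53 = 1)) ∧ q35 = 3) ∨ ((Hide (x35 = T.m 5 ∧ x53 = 4 * T.m 3) ∧ Hide (T.a 3 5 = T.w 3 ∧ T.a 5 3 = 4 * T.w 5) ∧ Hide (α35 = 1 ∧ α53 = 4)) ∧ q35 = 4) ∨ ((Hide (x35 = 4 * T.m 5 ∧ x53 = T.m 3) ∧ Hide (T.a 3 5 = 4 * T.w 3 ∧ T.a 5 3 = T.w 5) ∧ Hide (α35 = 4 ∧ α53 = 1)) ∧ q35 = 4) ∨ ((Hide (x35 = 2 * T.m 5 ∧ x53 = 2 * T.m 3) ∧ Hide (T.a 3 5 = 2 * T.w 3 ∧ T.a 5 3 = 2 * T.w 5) ∧ Hide (α35 = 2 ∧ α53 = 2)) ∧ q35 = 4)))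
    (c36 : Hide (((Hide (x36 = 0 ∧ x63 = 0) ∧ Hide (T.a 3 6 = 0 ∧ T.a 6 3 = 0) ∧ Hide (α36 = 0 ∧ α63 = 0)) ∧ q36 = 0) ∨ ((Hide (x36 = T.m 6 ∧ x63 = T.m 3) ∧ Hide (T.a 3 6 = T.w 3 ∧ T.a 6 3 = T.w 6) ∧ Hide (α36 = 1 ∧ α63 = 1)) ∧ q36 = 1) ∨ ((Hide (x36 = T.m 6 ∧ x63 = 2 * T.m 3) ∧ Hide (T.a 3 6 = T.w 3 ∧ T.a 6 3 = 2 * T.w 6) ∧ Hide (α36 = 1 ∧ α63 = 2)) ∧ q36 = 2) ∨ ((Hide (x36 = 2 * T.m 6 ∧ x63 = T.m 3) ∧ Hide (T.a 3 6 = 2 * T.w 3 ∧ T.a 6 3 = T.w 6) ∧ Hide (α36 = 2 ∧ α63 = 1)) ∧ q36 = 2) ∨ ((Hide (x36 = T.m 6 ∧ x63 = 3 * T.m 3) ∧ Hide (T.a 3 6 = T.w 3 ∧ T.a 6 3 = 3 * T.w 6) ∧ Hide (α36 = 1 ∧ α63 = 3)) ∧ q36 = 3) ∨ ((Hide (x36 = 3 * T.m 6 ∧ x63 = T.m 3) ∧ Hide (T.a 3 6 = 3 * T.w 3 ∧ T.a 6 3 = T.w 6)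 ∧ Hide (α36 = 3 ∧ α63 = 1)) ∧ q36 = 3) ∨ ((Hide (x36 = T.m 6 ∧ x63 = 4 * T.m 3) ∧ Hide (T.a 3 6 = T.w 3 ∧ T.a 6 3 = 4 * T.w 6) ∧ Hide (α36 = 1 ∧ α63 = 4)) ∧ q36 = 4) ∨ ((Hide (x36 = 4 * T.m 6 ∧ x63 = T.m 3) ∧ Hide (T.a 3 6 = 4 * T.w 3 ∧ T.a 6 3 = T.w 6) ∧ Hide (α36 = 4 ∧ α63 = 1)) ∧ q36 = 4) ∨ ((Hide (x36 = 2 * T.m 6 ∧ x63 = 2 * T.m 3) ∧ Hide (T.a 3 6 = 2 * T.w 3 ∧ T.a 6 3 = 2 * T.w 6) ∧ Hide (α36 = 2 ∧ α63 = 2)) ∧ q36 = 4)))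
    (c37 : Hide (((Hide (x37 = 0 ∧ x73 = 0) ∧ Hide (T.a 3 7 = 0 ∧ T.a 7 3 = 0) ∧ Hide (α37 = 0 ∧ α73 = 0)) ∧ q37 = 0) ∨ ((Hide (x37 = T.m 7 ∧ x73 = T.m 3) ∧ Hide (T.a 3 7 = T.w 3 ∧ T.a 7 3 = T.w 7) ∧ Hide (α37 = 1 ∧ α73 = 1)) ∧ q37 = 1) ∨ ((Hide (x37 = T.m 7 ∧ x73 = 2 * T.m 3) ∧ Hide (T.a 3 7 = T.w 3 ∧ T.a 7 3 = 2 * T.w 7) ∧ Hide (α37 = 1 ∧ α73 = 2)) ∧ q37 = 2) ∨ ((Hide (x37 = 2 * T.m 7 ∧ x73 = T.m 3) ∧ Hide (T.a 3 7 = 2 * T.w 3 ∧ T.a 7 3 = T.w 7) ∧ Hide (α37 = 2 ∧ α73 = 1)) ∧ q37 = 2) ∨ ((Hide (x37 = T.m 7 ∧ x73 = 3 * T.m 3) ∧ Hide (T.a 3 7 = T.w 3 ∧ T.a 7 3 = 3 * T.w 7) ∧ Hide (α37 = 1 ∧ α73 = 3)) ∧ q37 = 3) ∨ ((Hide (x37 = 3 * T.m 7 ∧ x73 = T.m 3) ∧ Hide (T.a 3 7 = 3 * T.w 3 ∧ T.a 7 3 = T.w 7)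 ∧ Hide (α37 = 3 ∧ α73 = 1)) ∧ q37 = 3) ∨ ((Hide (x37 = T.m 7 ∧ x73 = 4 * T.m 3) ∧ Hide (T.a 3 7 = T.w 3 ∧ T.a 7 3 = 4 * T.w 7) ∧ Hide (α37 = 1 ∧ α73 = 4)) ∧ q37 = 4) ∨ ((Hide (x37 = 4 * T.m 7 ∧ x73 = T.m 3) ∧ Hide (T.a 3 7 = 4 * T.w 3 ∧ T.a 7 3 = T.w 7) ∧ Hide (α37 = 4 ∧ α73 = 1)) ∧ q37 = 4) ∨ ((Hide (x37 = 2 * T.m 7 ∧ x73 = 2 * T.m 3) ∧ Hide (T.a 3 7 = 2 * T.w 3 ∧ T.a 7 3 = 2 * T.w 7) ∧ Hide (α37 = 2 ∧ α73 = 2)) ∧ q37 = 4)))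
    (c45 : Hide (((Hide (x45 = 0 ∧ x54 = 0) ∧ Hide (T.a 4 5 = 0 ∧ T.a 5 4 = 0) ∧ Hide (α45 = 0 ∧ α54 = 0)) ∧ q45 = 0) ∨ ((Hide (x45 = T.m 5 ∧ x54 = T.m 4) ∧ Hide (T.a 4 5 = T.w 4 ∧ T.a 5 4 = T.w 5) ∧ Hide (α45 = 1 ∧ α54 = 1)) ∧ q45 = 1) ∨ ((Hide (x45 = T.m 5 ∧ x54 = 2 * T.m 4) ∧ Hide (T.a 4 5 = T.w 4 ∧ T.a 5 4 = 2 * T.w 5) ∧ Hide (α45 = 1 ∧ α54 = 2)) ∧ q45 = 2) ∨ ((Hide (x45 = 2 * T.m 5 ∧ x54 = T.m 4) ∧ Hide (T.a 4 5 = 2 * T.w 4 ∧ T.a 5 4 = T.w 5) ∧ Hide (α45 = 2 ∧ α54 = 1)) ∧ q45 = 2) ∨ ((Hide (x45 = T.m 5 ∧ x54 = 3 * T.m 4) ∧ Hide (T.a 4 5 = T.w 4 ∧ T.a 5 4 = 3 * T.w 5) ∧ Hide (α45 = 1 ∧ α54 = 3)) ∧ q45 = 3) ∨ ((Hide (x45 = 3 * T.m 5 ∧ x54 = T.m 4) ∧ Hide (T.a 4 5 = 3 * T.w 4 ∧ T.a 5 4 = T.w 5)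 ∧ Hide (α45 = 3 ∧ α54 = 1)) ∧ q45 = 3) ∨ ((Hide (x45 = T.m 5 ∧ x54 = 4 * T.m 4) ∧ Hide (T.a 4 5 = T.w 4 ∧ T.a 5 4 = 4 * T.w 5) ∧ Hide (α45 = 1 ∧ α54 = 4)) ∧ q45 = 4) ∨ ((Hide (x45 = 4 * T.m 5 ∧ x54 = T.m 4) ∧ Hide (T.a 4 5 = 4 * T.w 4 ∧ T.a 5 4 = T.w 5) ∧ Hide (α45 = 4 ∧ α54 = 1)) ∧ q45 = 4) ∨ ((Hide (x45 = 2 * T.m 5 ∧ x54 = 2 * T.m 4) ∧ Hide (T.a 4 5 = 2 * T.w 4 ∧ T.a 5 4 = 2 * T.w 5) ∧ Hide (α45 = 2 ∧ α54 = 2)) ∧ q45 = 4)))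
    (c46 : Hide (((Hide (x46 = 0 ∧ x64 = 0) ∧ Hide (T.a 4 6 = 0 ∧ T.a 6 4 = 0) ∧ Hide (α46 = 0 ∧ α64 = 0)) ∧ q46 = 0) ∨ ((Hide (x46 = T.m 6 ∧ x64 = T.m 4) ∧ Hide (T.a 4 6 = T.w 4 ∧ T.a 6 4 = T.w 6) ∧ Hide (α46 = 1 ∧ α64 = 1)) ∧ q46 = 1) ∨ ((Hide (x46 = T.m 6 ∧ x64 = 2 * T.m 4) ∧ Hide (T.a 4 6 = T.w 4 ∧ T.a 6 4 = 2 * T.w 6) ∧ Hide (α46 = 1 ∧ α64 = 2)) ∧ q46 = 2) ∨ ((Hide (x46 = 2 * T.m 6 ∧ x64 = T.m 4) ∧ Hide (T.a 4 6 = 2 * T.w 4 ∧ T.a 6 4 = T.w 6) ∧ Hide (α46 = 2 ∧ α64 = 1)) ∧ q46 = 2) ∨ ((Hide (x46 = T.m 6 ∧ x64 = 3 * T.m 4) ∧ Hide (T.a 4 6 = T.w 4 ∧ T.a 6 4 = 3 * T.w 6) ∧ Hide (α46 = 1 ∧ α64 = 3)) ∧ q46 = 3) ∨ ((Hide (x46 = 3 * T.m 6 ∧ x64 = T.m 4) ∧ Hide (T.a 4 6 = 3 * T.w 4 ∧ T.a 6 4 = T.w 6)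 ∧ Hide (α46 = 3 ∧ α64 = 1)) ∧ q46 = 3) ∨ ((Hide (x46 = T.m 6 ∧ x64 = 4 * T.m 4) ∧ Hide (T.a 4 6 = T.w 4 ∧ T.a 6 4 = 4 * T.w 6) ∧ Hide (α46 = 1 ∧ α64 = 4)) ∧ q46 = 4) ∨ ((Hide (x46 = 4 * T.m 6 ∧ x64 = T.m 4) ∧ Hide (T.a 4 6 = 4 * T.w 4 ∧ T.a 6 4 = T.w 6) ∧ Hide (α46 = 4 ∧ α64 = 1)) ∧ q46 = 4) ∨ ((Hide (x46 = 2 * T.m 6 ∧ x64 = 2 * T.m 4) ∧ Hide (T.a 4 6 = 2 * T.w 4 ∧ T.a 6 4 = 2 * T.w 6) ∧ Hide (α46 = 2 ∧ α64 = 2)) ∧ q46 = 4)))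
    (c47 : Hide (((Hide (x47 = 0 ∧ x74 = 0) ∧ Hide (T.a 4 7 = 0 ∧ T.a 7 4 = 0) ∧ Hide (α47 = 0 ∧ α74 = 0)) ∧ q47 = 0) ∨ ((Hide (x47 = T.m 7 ∧ x74 = T.m 4) ∧ Hide (T.a 4 7 = T.w 4 ∧ T.a 7 4 = T.w 7) ∧ Hide (α47 = 1 ∧ α74 = 1)) ∧ q47 = 1) ∨ ((Hide (x47 = T.m 7 ∧ x74 = 2 * T.m 4) ∧ Hide (T.a 4 7 = T.w 4 ∧ T.a 7 4 = 2 * T.w 7) ∧ Hide (α47 = 1 ∧ α74 = 2)) ∧ q47 = 2) ∨ ((Hide (x47 = 2 * T.m 7 ∧ x74 = T.m 4) ∧ Hide (T.a 4 7 = 2 * T.w 4 ∧ T.a 7 4 = T.w 7) ∧ Hide (α47 = 2 ∧ α74 = 1)) ∧ q47 = 2) ∨ ((Hide (x47 = T.m 7 ∧ x74 = 3 * T.m 4) ∧ Hide (T.a 4 7 = T.w 4 ∧ T.a 7 4 = 3 * T.w 7) ∧ Hide (α47 = 1 ∧ α74 = 3)) ∧ q47 = 3) ∨ ((Hide (x47 = 3 * T.m 7 ∧ x74 = T.m 4) ∧ Hide (T.a 4 7 = 3 * T.w 4 ∧ T.a 7 4 = T.w 7)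 ∧ Hide (α47 = 3 ∧ α74 = 1)) ∧ q47 = 3) ∨ ((Hide (x47 = T.m 7 ∧ x74 = 4 * T.m 4) ∧ Hide (T.a 4 7 = T.w 4 ∧ T.a 7 4 = 4 * T.w 7) ∧ Hide (α47 = 1 ∧ α74 = 4)) ∧ q47 = 4) ∨ ((Hide (x47 = 4 * T.m 7 ∧ x74 = T.m 4) ∧ Hide (T.a 4 7 = 4 * T.w 4 ∧ T.a 7 4 = T.w 7) ∧ Hide (α47 = 4 ∧ α74 = 1)) ∧ q47 = 4) ∨ ((Hide (x47 = 2 * T.m 7 ∧ x74 = 2 * T.m 4) ∧ Hide (T.a 4 7 = 2 * T.w 4 ∧ T.a 7 4 = 2 * T.w 7) ∧ Hide (α47 = 2 ∧ α74 = 2)) ∧ q47 = 4)))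
    (c56 : Hide (((Hide (x56 = 0 ∧ x65 = 0) ∧ Hide (T.a 5 6 = 0 ∧ T.a 6 5 = 0) ∧ Hide (α56 = 0 ∧ α65 = 0)) ∧ q56 = 0) ∨ ((Hide (x56 = T.m 6 ∧ x65 = T.m 5) ∧ Hide (T.a 5 6 = T.w 5 ∧ T.a 6 5 = T.w 6) ∧ Hide (α56 = 1 ∧ α65 = 1)) ∧ q56 = 1) ∨ ((Hide (x56 = T.m 6 ∧ x65 = 2 * T.m 5) ∧ Hide (T.a 5 6 = T.w 5 ∧ T.a 6 5 = 2 * T.w 6) ∧ Hide (α56 = 1 ∧ α65 = 2)) ∧ q56 = 2) ∨ ((Hide (x56 = 2 * T.m 6 ∧ x65 = T.m 5) ∧ Hide (T.a 5 6 = 2 * T.w 5 ∧ T.a 6 5 = T.w 6) ∧ Hide (α56 = 2 ∧ α65 = 1)) ∧ q56 = 2) ∨ ((Hide (x56 = T.m 6 ∧ x65 = 3 * T.m 5) ∧ Hide (T.a 5 6 = T.w 5 ∧ T.a 6 5 = 3 * T.w 6) ∧ Hide (α56 = 1 ∧ α65 = 3)) ∧ q56 = 3) ∨ ((Hide (x56 = 3 * T.m 6 ∧ x65 = T.m 5) ∧ Hide (T.a 5 6 = 3 * T.w 5 ∧ T.a 6 5 = T.w 6)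 ∧ Hide (α56 = 3 ∧ α65 = 1)) ∧ q56 = 3) ∨ ((Hide (x56 = T.m 6 ∧ x65 = 4 * T.m 5) ∧ Hide (T.a 5 6 = T.w 5 ∧ T.a 6 5 = 4 * T.w 6) ∧ Hide (α56 = 1 ∧ α65 = 4)) ∧ q56 = 4) ∨ ((Hide (x56 = 4 * T.m 6 ∧ x65 = T.m 5) ∧ Hide (T.a 5 6 = 4 * T.w 5 ∧ T.a 6 5 = T.w 6) ∧ Hide (α56 = 4 ∧ α65 = 1)) ∧ q56 = 4) ∨ ((Hide (x56 = 2 * T.m 6 ∧ x65 = 2 * T.m 5) ∧ Hide (T.a 5 6 = 2 * T.w 5 ∧ T.a 6 5 = 2 * T.w 6) ∧ Hide (α56 = 2 ∧ α65 = 2)) ∧ q56 = 4)))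
    (c57 : Hide (((Hide (x57 = 0 ∧ x75 = 0) ∧ Hide (T.a 5 7 = 0 ∧ T.a 7 5 = 0) ∧ Hide (α57 = 0 ∧ α75 = 0)) ∧ q57 = 0) ∨ ((Hide (x57 = T.m 7 ∧ x75 = T.m 5) ∧ Hide (T.a 5 7 = T.w 5 ∧ T.a 7 5 = T.w 7) ∧ Hide (α57 = 1 ∧ α75 = 1)) ∧ q57 = 1) ∨ ((Hide (x57 = T.m 7 ∧ x75 = 2 * T.m 5) ∧ Hide (T.a 5 7 = T.w 5 ∧ T.a 7 5 = 2 * T.w 7) ∧ Hide (α57 = 1 ∧ α75 = 2)) ∧ q57 = 2) ∨ ((Hide (x57 = 2 * T.m 7 ∧ x75 = T.m 5) ∧ Hide (T.a 5 7 = 2 * T.w 5 ∧ T.a 7 5 = T.w 7) ∧ Hide (α57 = 2 ∧ α75 = 1)) ∧ q57 = 2) ∨ ((Hide (x57 = T.m 7 ∧ x75 = 3 * T.m 5) ∧ Hide (T.a 5 7 = T.w 5 ∧ T.a 7 5 = 3 * T.w 7) ∧ Hide (α57 = 1 ∧ α75 = 3)) ∧ q57 = 3) ∨ ((Hide (x57 = 3 * T.m 7 ∧ x75 = T.m 5) ∧ Hide (T.a 5 7 = 3 * T.w 5 ∧ T.a 7 5 = T.w 7)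 ∧ Hide (α57 = 3 ∧ α75 = 1)) ∧ q57 = 3) ∨ ((Hide (x57 = T.m 7 ∧ x75 = 4 * T.m 5) ∧ Hide (T.a 5 7 = T.w 5 ∧ T.a 7 5 = 4 * T.w 7) ∧ Hide (α57 = 1 ∧ α75 = 4)) ∧ q57 = 4) ∨ ((Hide (x57 = 4 * T.m 7 ∧ x75 = T.m 5) ∧ Hide (T.a 5 7 = 4 * T.w 5 ∧ T.a 7 5 = T.w 7) ∧ Hide (α57 = 4 ∧ α75 = 1)) ∧ q57 = 4) ∨ ((Hide (x57 = 2 * T.m 7 ∧ x75 = 2 * T.m 5) ∧ Hide (T.a 5 7 = 2 * T.w 5 ∧ T.a 7 5 = 2 * T.w 7) ∧ Hide (α57 = 2 ∧ α75 = 2)) ∧ q57 = 4)))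
    (c67 : Hide (((Hide (x67 = 0 ∧ x76 = 0) ∧ Hide (T.a 6 7 = 0 ∧ T.a 7 6 = 0) ∧ Hide (α67 = 0 ∧ α76 = 0)) ∧ q67 = 0) ∨ ((Hide (x67 = T.m 7 ∧ x76 = T.m 6) ∧ Hide (T.a 6 7 = T.w 6 ∧ T.a 7 6 = T.w 7) ∧ Hide (α67 = 1 ∧ α76 = 1)) ∧ q67 = 1) ∨ ((Hide (x67 = T.m 7 ∧ x76 = 2 * T.m 6) ∧ Hide (T.a 6 7 = T.w 6 ∧ T.a 7 6 = 2 * T.w 7) ∧ Hide (α67 = 1 ∧ α76 = 2)) ∧ q67 = 2) ∨ ((Hide (x67 = 2 * T.m 7 ∧ x76 = T.m 6) ∧ Hide (T.a 6 7 = 2 * T.w 6 ∧ T.a 7 6 = T.w 7) ∧ Hide (α67 = 2 ∧ α76 = 1)) ∧ q67 = 2) ∨ ((Hide (x67 = T.m 7 ∧ x76 = 3 * T.m 6) ∧ Hide (T.a 6 7 = T.w 6 ∧ T.a 7 6 = 3 * T.w 7) ∧ Hide (α67 = 1 ∧ α76 = 3)) ∧ q67 = 3) ∨ ((Hide (x67 = 3 * T.m 7 ∧ x76 = T.m 6) ∧ Hide (T.a 6 7 = 3 * T.w 6 ∧ T.a 7 6 = T.w 7)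 ∧ Hide (α67 = 3 ∧ α76 = 1)) ∧ q67 = 3) ∨ ((Hide (x67 = T.m 7 ∧ x76 = 4 * T.m 6) ∧ Hide (T.a 6 7 = T.w 6 ∧ T.a 7 6 = 4 * T.w 7) ∧ Hide (α67 = 1 ∧ α76 = 4)) ∧ q67 = 4) ∨ ((Hide (x67 = 4 * T.m 7 ∧ x76 = T.m 6) ∧ Hide (T.a 6 7 = 4 * T.w 6 ∧ T.a 7 6 = T.w 7) ∧ Hide (α67 = 4 ∧ α76 = 1)) ∧ q67 = 4) ∨ ((Hide (x67 = 2 * T.m 7 ∧ x76 = 2 * T.m 6) ∧ Hide (T.a 6 7 = 2 * T.w 6 ∧ T.a 7 6 = 2 * T.w 7) ∧ Hide (α67 = 2 ∧ α76 = 2)) ∧ q67 = 4)))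
    (gw01 : Hide (T.a 0 1 = T.w 0 ∧ T.a 1 0 = T.w 1))
    (gw02 : Hide (T.a 0 2 = 0 ∧ T.a 2 0 = 0))
    (gw03 : Hide (T.a 0 3 = 0 ∧ T.a 3 0 = 0))
    (gw04 : Hide (T.a 0 4 = 0 ∧ T.a 4 0 = 0))
    (gw05 : Hide (T.a 0 5 = 0 ∧ T.a 5 0 = 0))
    (gw06 : Hide (T.a 0 6 = 0 ∧ T.a 6 0 = 0))
    (gw07 : Hide (T.a 0 7 = 0 ∧ T.a 7 0 = 0))
    (gw12 : Hide (T.a 1 2 = T.w 1 ∧ T.a 2 1 = T.w 2))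
    (gw13 : Hide (T.a 1 3 = 0 ∧ T.a 3 1 = 0))
    (gw14 : Hide (T.a 1 4 = T.w 1 ∧ T.a 4 1 = T.w 4))
    (gw15 : Hide (T.a 1 5 = 0 ∧ T.a 5 1 = 0))
    (gw16 : Hide (T.a 1 6 = 0 ∧ T.a 6 1 = 0))
    (gw17 : Hide (T.a 1 7 = 0 ∧ T.a 7 1 = 0))
    (gw23 : Hide (T.a 2 3 = T.w 2 ∧ T.a 3 2 = T.w 3))
    (gw24 : Hide (T.a 2 4 = 0 ∧ T.a 4 2 = 0))
    (gw25 : Hide (T.a 2 5 = 0 ∧ T.a 5 2 = 0))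
    (gw26 : Hide (T.a 2 6 = T.w 2 ∧ T.a 6 2 = T.w 6)) : Goal T := by
  have t := pc1 q27 c27.out (by have := v2.out; omega)
  clear c27
  rcases t with ⟨⟨⟨rfl, rfl⟩, gw27, ⟨rfl, rfl⟩⟩, rfl⟩ | ⟨⟨⟨rfl, rfl⟩, gw27, ⟨rfl, rfl⟩⟩, rfl⟩
  · have t := pc3 q34 c34.out (by have := v3.out; have := qn35.out; have := qn36.out; have := qn37.out; omega)
    clear c34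
    rcases t with ⟨⟨⟨rfl, rfl⟩, gw34, ⟨rfl, rfl⟩⟩, rfl⟩ | ⟨⟨⟨rfl, rfl⟩, gw34, ⟨rfl, rfl⟩⟩, rfl⟩ | ⟨⟨⟨rfl, rfl⟩, gw34, ⟨rfl, rfl⟩⟩, rfl⟩ | ⟨⟨⟨rfl, rfl⟩, gw34, ⟨rfl, rfl⟩⟩, rfl⟩ | ⟨⟨⟨rfl, rfl⟩, gw34, ⟨rfl, rfl⟩⟩, rfl⟩ | ⟨⟨⟨rfl, rfl⟩, gw34, ⟨rfl, rfl⟩⟩, rfl⟩
    · have t := pc3 q35 c35.out (by have := v3.out; have := qn36.out; have := qn37.out; omega)
      clear c35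
      rcases t with ⟨⟨⟨rfl, rfl⟩, gw35, ⟨rfl, rfl⟩⟩, rfl⟩ | ⟨⟨⟨rfl, rfl⟩, gw35, ⟨rfl, rfl⟩⟩, rfl⟩ | ⟨⟨⟨rfl, rfl⟩, gw35, ⟨rfl, rfl⟩⟩, rfl⟩ | ⟨⟨⟨rfl, rfl⟩, gw35, ⟨rfl, rfl⟩⟩, rfl⟩ | ⟨⟨⟨rfl, rfl⟩, gw35, ⟨rfl, rfl⟩⟩, rfl⟩ | ⟨⟨⟨rfl, rfl⟩, gw35, ⟨rfl, rfl⟩⟩, rfl⟩
      · have t := pc3 q36 c36.out (by have := v3.out; have := qn37.out; omega)
        clear c36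
        rcases t with ⟨⟨⟨rfl, rfl⟩, gw36, ⟨rfl, rfl⟩⟩, rfl⟩ | ⟨⟨⟨rfl, rfl⟩, gw36, ⟨rfl, rfl⟩⟩, rfl⟩ | ⟨⟨⟨rfl, rfl⟩, gw36, ⟨rfl, rfl⟩⟩, rfl⟩ | ⟨⟨⟨rfl, rfl⟩, gw36, ⟨rfl, rfl⟩⟩, rfl⟩ | ⟨⟨⟨rfl, rfl⟩, gw36, ⟨rfl, rfl⟩⟩, rfl⟩ | ⟨⟨⟨rfl, rfl⟩, gw36, ⟨rfl, rfl⟩⟩, rfl⟩
        · have t := pc3 q37 c37.out (by have := v3.out; omega)
          clear c37
          rcases t with ⟨⟨⟨rfl, rfl⟩, gw37, ⟨rfl, rfl⟩⟩, rfl⟩ | ⟨⟨⟨rfl, rfl⟩, gw37, ⟨rfl, rfl⟩⟩, rfl⟩ | ⟨⟨⟨rfl, rfl⟩, gw37, ⟨rfl, rfl⟩⟩, rfl⟩ | ⟨⟨⟨rfl, rfl⟩, gw37, ⟨rfl, rfl⟩⟩, rfl⟩ | ⟨⟨⟨rfl, rfl⟩, gw37, ⟨rfl, rfl⟩⟩, rfl⟩ | ⟨⟨⟨rfl, rfl⟩, gw37, ⟨rfl, rfl⟩⟩, rfl⟩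
          · have t := pc3 q45 c45.out (by have := v4.out; have := qn46.out; have := qn47.out; omega)
            clear c45
            rcases t with ⟨⟨⟨rfl, rfl⟩, gw45, ⟨rfl, rfl⟩⟩, rfl⟩ | ⟨⟨⟨rfl, rfl⟩, gw45, ⟨rfl, rfl⟩⟩, rfl⟩ | ⟨⟨⟨rfl, rfl⟩, gw45, ⟨rfl, rfl⟩⟩, rfl⟩ | ⟨⟨⟨rfl, rfl⟩, gw45, ⟨rfl, rfl⟩⟩, rfl⟩ | ⟨⟨⟨rfl, rfl⟩, gw45, ⟨rfl, rfl⟩⟩, rfl⟩ | ⟨⟨⟨rfl, rfl⟩, gw45, ⟨rfl, rfl⟩⟩, rfl⟩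
            · (have := od5.out; omega)
            · (have := hm6.out; have := om3.out; have := om5.out; have := e0.out; have := e1.out; have := e2.out; have := e4.out; have := r46.out; have := r47.out; omega)
            · (have := hm0.out; have := e1.out; have := e2.out; have := e3.out; have := e4.out; have := r46.out; have := r47.out; have := e5.out; have := r56.out; have := r57.out; have := e6.out; have := r64.out; have := r65.out; have := r67.out; omega)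
            · (have := hm0.out; have := e1.out; have := e2.out; have := e3.out; have := e4.out; have := r46.out; have := r47.out; have := e5.out; have := r56.out; have := r57.out; have := e6.out; have := r64.out; have := r65.out; have := r67.out; omega)
            · (have := hm6.out; have := om3.out; have := om5.out; have := e0.out; have := e1.out; have := e2.out; have := e4.out; have := r46.out; have := r47.out; omega)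
            · (have := hm5.out; have := e0.out; have := e1.out; have := e2.out; have := e3.out; have := e4.out; have := r46.out; have := r47.out; have := e6.out; have := r64.out; have := r65.out; have := r67.out; omega)
          · (have := hm7.out; have := om4.out; have := e0.out; have := e1.out; have := e2.out; have := e3.out; have := e6.out; have := r64.out; have := r65.out; have := r67.out; omega)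
          · (have := hm7.out; have := om4.out; have := e0.out; have := e1.out; have := e2.out; have := e3.out; have := e6.out; have := r64.out; have := r65.out; have := r67.out; omega)
          · (have := hm7.out; have := om4.out; have := e0.out; have := e1.out; have := e2.out; have := e3.out; have := e6.out; have := r64.out; have := r65.out; have := r67.out; omega)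
          · (have := hm7.out; have := om4.out; have := e0.out; have := e1.out; have := e2.out; have := e3.out; have := e6.out; have := r64.out; have := r65.out; have := r67.out; omega)
          · (have := hm7.out; have := om4.out; have := e0.out; have := e1.out; have := e2.out; have := e3.out; have := e6.out; have := r64.out; have := r65.out; have := r67.out; omega)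
        · (have := hm3.out; have := om4.out; have := e0.out; have := e1.out; have := e2.out; have := e3.out; have := r37.out; have := e6.out; have := r64.out; have := r65.out; have := r67.out; omega)
        · (have := hm3.out; have := om3.out; have := om4.out; have := e0.out; have := e1.out; have := e2.out; have := e6.out; have := r64.out; have := r65.out; have := r67.out; omega)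
        · (have := hm0.out; have := hm3.out; have := om4.out; have := e1.out; have := e2.out; have := e3.out; have := r37.out; have := e6.out; have := r64.out; have := r65.out; have := r67.out; omega)
        · (have := hm0.out; have := om3.out; have := e0.out; have := e1.out; have := e2.out; have := e4.out; have := r45.out; have := r46.out; have := r47.out; have := e6.out; have := r64.out; have := r65.out; have := r67.out; omega)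
        · (have := hm0.out; have := om6.out; have := e0.out; have := e1.out; have := e2.out; have := e3.out; have := r37.out; have := e4.out; have := r45.out; have := r46.out; have := r47.out; omega)
      · (have := hm5.out; have := om4.out; have := e0.out; have := e1.out; have := e2.out; have := e3.out; have := r36.out; have := r37.out; have := e6.out; have := r63.out; have := r64.out; have := r65.out; have := r67.out; omega)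
      · (have := hm6.out; have := om4.out; have := e0.out; have := e1.out; have := e2.out; have := e3.out; have := r36.out; have := r37.out; have := e5.out; have := r54.out; have := r56.out; have := r57.out; omega)
      · (have := hm6.out; have := om4.out; have := e0.out; have := e1.out; have := e2.out; have := e3.out; have := r36.out; have := r37.out; have := e5.out; have := r54.out; have := r56.out; have := r57.out; omega)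
      · (have := hm5.out; have := om4.out; have := e0.out; have := e1.out; have := e2.out; have := e3.out; have := r36.out; have := r37.out; have := e6.out; have := r63.out; have := r64.out; have := r65.out; have := r67.out; omega)
      · (have := hm5.out; have := om4.out; have := e0.out; have := e1.out; have := e2.out; have := e3.out; have := r36.out; have := r37.out; have := e6.out; have := r63.out; have := r64.out; have := r65.out; have := r67.out; omega)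
    · (have := hm6.out; have := om3.out; have := e0.out; have := e1.out; have := e2.out; have := e4.out; have := r45.out; have := r46.out; have := r47.out; omega)
    · (have := hm0.out; have := om2.out; have := e0.out; have := e1.out; have := e3.out; have := r35.out; have := r36.out; have := r37.out; have := e4.out; have := r45.out; have := r46.out; have := r47.out; omega)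
    · (have := hm6.out; have := om3.out; have := e0.out; have := e1.out; have := e2.out; have := e4.out; have := r45.out; have := r46.out; have := r47.out; omega)
    · (have := hm1.out; have := hm6.out; have := e2.out; have := e3.out; have := r35.out; have := r36.out; have := r37.out; have := e4.out; have := r45.out; have := r46.out; have := r47.out; omega)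
    · (have := hm1.out; have := hm6.out; have := e2.out; have := e3.out; have := r35.out; have := r36.out; have := r37.out; have := e4.out; have := r45.out; have := r46.out; have := r47.out; omega)
  · (have := hm7.out; have := om4.out; have := e0.out; have := e1.out; have := e2.out; have := e3.out; have := r34.out; have := r35.out; have := r36.out; have := r37.out; have := e6.out; have := r63.out; have := r64.out; have := r65.out; have := r67.out; omega)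

set_option maxHeartbeats 0 in
theorem part35 (T : Models.NumericalType 8) (α26 α27 α34 α35 α36 α37 α43 α45 α46 α47 α53 α54 α56 α57 α62 α63 α64 α65 α67 α72 α73 α74 α75 α76 x26 x27 x34 x35 x36 x37 x43 x45 x46 x47 x53 x54 x56 x57 x62 x63 x64 x65 x67 x72 x73 x74 x75 x76 q26 q27 q34 q35 q36 q37 q45 q46 q47 q56 q57 q67 : ℤ)
    (hm0 : Hide (0 < T.m 0))
    (hm1 : Hide (0 < T.m 1))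
    (hm2 : Hide (0 < T.m 2))
    (hm3 : Hide (0 < T.m 3))
    (hm4 : Hide (0 < T.m 4))
    (hm5 : Hide (0 < T.m 5))
    (hm6 : Hide (0 < T.m 6))
    (hm7 : Hide (0 < T.m 7))
    (om1 : Hide (T.m 0 ≤ T.m 1))
    (om2 : Hide (T.m 0 ≤ T.m 2))
    (om3 : Hide (T.m 0 ≤ T.m 3))
    (om4 : Hide (T.m 0 ≤ T.m 4))
    (om5 : Hide (T.m 0 ≤ T.m 5))
    (om6 : Hide (T.m 0 ≤ T.m 6))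
    (om7 : Hide (T.m 0 ≤ T.m 7))
    (e0 : Hide (T.m 1 + (0 : ℤ) + (0 : ℤ) + (0 : ℤ) + (0 : ℤ) + (0 : ℤ) + (0 : ℤ) = 2 * T.m 0))
    (e1 : Hide (T.m 0 + T.m 2 + (0 : ℤ) + T.m 4 + (0 : ℤ) + (0 : ℤ) + (0 : ℤ) = 2 * T.m 1))
    (e2 : Hide ((0 : ℤ) + T.m 1 + T.m 3 + (0 : ℤ) + T.m 5 + x26 + x27 = 2 * T.m 2))
    (e3 : Hide ((0 : ℤ) + (0 : ℤ) + T.m 2 + x34 + x35 + x36 + x37 = 2 * T.m 3))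
    (e4 : Hide ((0 : ℤ) + T.m 1 + (0 : ℤ) + x43 + x45 + x46 + x47 = 2 * T.m 4))
    (e5 : Hide ((0 : ℤ) + (0 : ℤ) + T.m 2 + x53 + x54 + x56 + x57 = 2 * T.m 5))
    (e6 : Hide ((0 : ℤ) + (0 : ℤ) + x62 + x63 + x64 + x65 + x67 = 2 * T.m 6))
    (e7 : Hide ((0 : ℤ) + (0 : ℤ) + x72 + x73 + x74 + x75 + x76 = 2 * T.m 7))
    (r01 : Hide (0 ≤ T.m 1))
    (r02 : Hide (0 ≤ (0 : ℤ)))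
    (r03 : Hide (0 ≤ (0 : ℤ)))
    (r04 : Hide (0 ≤ (0 : ℤ)))
    (r05 : Hide (0 ≤ (0 : ℤ)))
    (r06 : Hide (0 ≤ (0 : ℤ)))
    (r07 : Hide (0 ≤ (0 : ℤ)))
    (r10 : Hide (0 ≤ T.m 0))
    (r12 : Hide (0 ≤ T.m 2))
    (r13 : Hide (0 ≤ (0 : ℤ)))
    (r14 : Hide (0 ≤ T.m 4))
    (r15 : Hide (0 ≤ (0 : ℤ)))
    (r16 : Hide (0 ≤ (0 : ℤ)))
    (r17 : Hide (0 ≤ (0 : ℤ)))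
    (r20 : Hide (0 ≤ (0 : ℤ)))
    (r21 : Hide (0 ≤ T.m 1))
    (r23 : Hide (0 ≤ T.m 3))
    (r24 : Hide (0 ≤ (0 : ℤ)))
    (r25 : Hide (0 ≤ T.m 5))
    (r26 : Hide (0 ≤ x26))
    (r27 : Hide (0 ≤ x27))
    (r30 : Hide (0 ≤ (0 : ℤ)))
    (r31 : Hide (0 ≤ (0 : ℤ)))
    (r32 : Hide (0 ≤ T.m 2))
    (r34 : Hide (0 ≤ x34))
    (r35 : Hide (0 ≤ x35))
    (r36 : Hide (0 ≤ x36))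
    (r37 : Hide (0 ≤ x37))
    (r40 : Hide (0 ≤ (0 : ℤ)))
    (r41 : Hide (0 ≤ T.m 1))
    (r42 : Hide (0 ≤ (0 : ℤ)))
    (r43 : Hide (0 ≤ x43))
    (r45 : Hide (0 ≤ x45))
    (r46 : Hide (0 ≤ x46))
    (r47 : Hide (0 ≤ x47))
    (r50 : Hide (0 ≤ (0 : ℤ)))
    (r51 : Hide (0 ≤ (0 : ℤ)))
    (r52 : Hide (0 ≤ T.m 2))
    (r53 : Hide (0 ≤ x53))
    (r54 : Hide (0 ≤ x54))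
    (r56 : Hide (0 ≤ x56))
    (r57 : Hide (0 ≤ x57))
    (r60 : Hide (0 ≤ (0 : ℤ)))
    (r61 : Hide (0 ≤ (0 : ℤ)))
    (r62 : Hide (0 ≤ x62))
    (r63 : Hide (0 ≤ x63))
    (r64 : Hide (0 ≤ x64))
    (r65 : Hide (0 ≤ x65))
    (r67 : Hide (0 ≤ x67))
    (r70 : Hide (0 ≤ (0 : ℤ)))
    (r71 : Hide (0 ≤ (0 : ℤ)))
    (r72 : Hide (0 ≤ x72))
    (r73 : Hide (0 ≤ x73))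
    (r74 : Hide (0 ≤ x74))
    (r75 : Hide (0 ≤ x75))
    (r76 : Hide (0 ≤ x76))
    (hw0 : Hide (0 < T.w 0))
    (hw1 : Hide (0 < T.w 1))
    (hw2 : Hide (0 < T.w 2))
    (hw3 : Hide (0 < T.w 3))
    (hw4 : Hide (0 < T.w 4))
    (hw5 : Hide (0 < T.w 5))
    (hw6 : Hide (0 < T.w 6))
    (hw7 : Hide (0 < T.w 7))
    (hs01 : Hide (T.a 0 1 = T.a 1 0))
    (hs02 : Hide (T.a 0 2 = T.a 2 0))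
    (hs03 : Hide (T.a 0 3 = T.a 3 0))
    (hs04 : Hide (T.a 0 4 = T.a 4 0))
    (hs05 : Hide (T.a 0 5 = T.a 5 0))
    (hs06 : Hide (T.a 0 6 = T.a 6 0))
    (hs07 : Hide (T.a 0 7 = T.a 7 0))
    (hs12 : Hide (T.a 1 2 = T.a 2 1))
    (hs13 : Hide (T.a 1 3 = T.a 3 1))
    (hs14 : Hide (T.a 1 4 = T.a 4 1))
    (hs15 : Hide (T.a 1 5 = T.a 5 1))
    (hs16 : Hide (T.a 1 6 = T.a 6 1))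
    (hs17 : Hide (T.a 1 7 = T.a 7 1))
    (hs23 : Hide (T.a 2 3 = T.a 3 2))
    (hs24 : Hide (T.a 2 4 = T.a 4 2))
    (hs25 : Hide (T.a 2 5 = T.a 5 2))
    (hs26 : Hide (T.a 2 6 = T.a 6 2))
    (hs27 : Hide (T.a 2 7 = T.a 7 2))
    (hs34 : Hide (T.a 3 4 = T.a 4 3))
    (hs35 : Hide (T.a 3 5 = T.a 5 3))
    (hs36 : Hide (T.a 3 6 = T.a 6 3))
    (hs37 : Hide (T.a 3 7 = T.a 7 3))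
    (hs45 : Hide (T.a 4 5 = T.a 5 4))
    (hs46 : Hide (T.a 4 6 = T.a 6 4))
    (hs47 : Hide (T.a 4 7 = T.a 7 4))
    (hs56 : Hide (T.a 5 6 = T.a 6 5))
    (hs57 : Hide (T.a 5 7 = T.a 7 5))
    (hs67 : Hide (T.a 6 7 = T.a 7 6))
    (ha00 : Hide (T.a 0 0 = -2 * T.w 0))
    (ha11 : Hide (T.a 1 1 = -2 * T.w 1))
    (ha22 : Hide (T.a 2 2 = -2 * T.w 2))
    (ha33 : Hide (T.a 3 3 = -2 * T.w 3))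
    (ha44 : Hide (T.a 4 4 = -2 * T.w 4))
    (ha55 : Hide (T.a 5 5 = -2 * T.w 5))
    (ha66 : Hide (T.a 6 6 = -2 * T.w 6))
    (ha77 : Hide (T.a 7 7 = -2 * T.w 7))
    (v0 : Hide ((1 : ℤ) + (0 : ℤ) + (0 : ℤ) + (0 : ℤ) + (0 : ℤ) + (0 : ℤ) + (0 : ℤ) ≤ 4))
    (v1 : Hide ((1 : ℤ) + (1 : ℤ) + (0 : ℤ) + (1 : ℤ) + (0 : ℤ) + (0 : ℤ) + (0 : ℤ) ≤ 4))
    (v2 : Hide ((0 : ℤ) + (1 : ℤ) + (1 : ℤ) + (0 : ℤ) + (1 : ℤ) + q26 + q27 ≤ 4))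
    (v3 : Hide ((0 : ℤ) + (0 : ℤ) + (1 : ℤ) + q34 + q35 + q36 + q37 ≤ 4))
    (v4 : Hide ((0 : ℤ) + (1 : ℤ) + (0 : ℤ) + q34 + q45 + q46 + q47 ≤ 4))
    (v5 : Hide ((0 : ℤ) + (0 : ℤ) + (1 : ℤ) + q35 + q45 + q56 + q57 ≤ 4))
    (v6 : Hide ((0 : ℤ) + (0 : ℤ) + q26 + q36 + q46 + q56 + q67 ≤ 4))
    (v7 : Hide ((0 : ℤ) + (0 : ℤ) + q27 + q37 + q47 + q57 + q67 ≤ 4))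
    (qn01 : Hide (0 ≤ (1 : ℤ)))
    (qn02 : Hide (0 ≤ (0 : ℤ)))
    (qn03 : Hide (0 ≤ (0 : ℤ)))
    (qn04 : Hide (0 ≤ (0 : ℤ)))
    (qn05 : Hide (0 ≤ (0 : ℤ)))
    (qn06 : Hide (0 ≤ (0 : ℤ)))
    (qn07 : Hide (0 ≤ (0 : ℤ)))
    (qn12 : Hide (0 ≤ (1 : ℤ)))
    (qn13 : Hide (0 ≤ (0 : ℤ)))
    (qn14 : Hide (0 ≤ (1 : ℤ)))
    (qn15 : Hide (0 ≤ (0 : ℤ)))
    (qn16 : Hide (0 ≤ (0 : ℤ)))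
    (qn17 : Hide (0 ≤ (0 : ℤ)))
    (qn23 : Hide (0 ≤ (1 : ℤ)))
    (qn24 : Hide (0 ≤ (0 : ℤ)))
    (qn25 : Hide (0 ≤ (1 : ℤ)))
    (qn26 : Hide (0 ≤ q26))
    (qn27 : Hide (0 ≤ q27))
    (qn34 : Hide (0 ≤ q34))
    (qn35 : Hide (0 ≤ q35))
    (qn36 : Hide (0 ≤ q36))
    (qn37 : Hide (0 ≤ q37))
    (qn45 : Hide (0 ≤ q45))
    (qn46 : Hide (0 ≤ q46))
    (qn47 : Hide (0 ≤ q47))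
    (qn56 : Hide (0 ≤ q56))
    (qn57 : Hide (0 ≤ q57))
    (qn67 : Hide (0 ≤ q67))
    (od1 : Hide (0 < (1 : ℤ)))
    (od2 : Hide (0 < (0 : ℤ) + (1 : ℤ)))
    (od3 : Hide (0 < (0 : ℤ) + (0 : ℤ) + (1 : ℤ)))
    (od4 : Hide (0 < (0 : ℤ) + (1 : ℤ) + (0 : ℤ) + α34))
    (od5 : Hide (0 < (0 : ℤ) + (0 : ℤ) + (1 : ℤ) + α35 + α45))
    (od6 : Hide (0 < (0 : ℤ) + (0 : ℤ) + α26 + α36 + α46 + α56))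
    (od7 : Hide (0 < (0 : ℤ) + (0 : ℤ) + α27 + α37 + α47 + α57 + α67))
    (c26 : Hide (((Hide (x26 = 0 ∧ x62 = 0) ∧ Hide (T.a 2 6 = 0 ∧ T.a 6 2 = 0) ∧ Hide (α26 = 0 ∧ α62 = 0)) ∧ q26 = 0) ∨ ((Hide (x26 = T.m 6 ∧ x62 = T.m 2) ∧ Hide (T.a 2 6 = T.w 2 ∧ T.a 6 2 = T.w 6) ∧ Hide (α26 = 1 ∧ α62 = 1)) ∧ q26 = 1) ∨ ((Hide (x26 = T.m 6 ∧ x62 = 2 * T.m 2) ∧ Hide (T.a 2 6 = T.w 2 ∧ T.a 6 2 = 2 * T.w 6) ∧ Hide (α26 = 1 ∧ α62 = 2)) ∧ q26 = 2) ∨ ((Hide (x26 = 2 * T.m 6 ∧ x62 = T.m 2) ∧ Hide (T.a 2 6 = 2 * T.w 2 ∧ T.a 6 2 = T.w 6) ∧ Hide (α26 = 2 ∧ α62 = 1)) ∧ q26 = 2) ∨ ((Hide (x26 = T.m 6 ∧ x62 = 3 * T.m 2) ∧ Hide (T.a 2 6 = T.w 2 ∧ T.a 6 2 = 3 * T.w 6) ∧ Hide (α26 = 1 ∧ α62 = 3)) ∧ q26 = 3) ∨ ((Hide (x26 = 3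 * T.m 6 ∧ x62 = T.m 2) ∧ Hide (T.a 2 6 = 3 * T.w 2 ∧ T.a 6 2 = T.w 6) ∧ Hide (α26 = 3 ∧ α62 = 1)) ∧ q26 = 3) ∨ ((Hide (x26 = T.m 6 ∧ x62 = 4 * T.m 2) ∧ Hide (T.a 2 6 = T.w 2 ∧ T.a 6 2 = 4 * T.w 6) ∧ Hide (α26 = 1 ∧ α62 = 4)) ∧ q26 = 4) ∨ ((Hide (x26 = 4 * T.m 6 ∧ x62 = T.m 2) ∧ Hide (T.a 2 6 = 4 * T.w 2 ∧ T.a 6 2 = T.w 6) ∧ Hide (α26 = 4 ∧ α62 = 1)) ∧ q26 = 4) ∨ ((Hide (x26 = 2 * T.m 6 ∧ x62 = 2 * T.m 2) ∧ Hide (T.a 2 6 = 2 * T.w 2 ∧ T.a 6 2 = 2 * T.w 6) ∧ Hide (α26 = 2 ∧ α62 = 2)) ∧ q26 = 4)))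
    (c27 : Hide (((Hide (x27 = 0 ∧ x72 = 0) ∧ Hide (T.a 2 7 = 0 ∧ T.a 7 2 = 0) ∧ Hide (α27 = 0 ∧ α72 = 0)) ∧ q27 = 0) ∨ ((Hide (x27 = T.m 7 ∧ x72 = T.m 2) ∧ Hide (T.a 2 7 = T.w 2 ∧ T.a 7 2 = T.w 7) ∧ Hide (α27 = 1 ∧ α72 = 1)) ∧ q27 = 1) ∨ ((Hide (x27 = T.m 7 ∧ x72 = 2 * T.m 2) ∧ Hide (T.a 2 7 = T.w 2 ∧ T.a 7 2 = 2 * T.w 7) ∧ Hide (α27 = 1 ∧ α72 = 2)) ∧ q27 = 2) ∨ ((Hide (x27 = 2 * T.m 7 ∧ x72 = T.m 2) ∧ Hide (T.a 2 7 = 2 * T.w 2 ∧ T.a 7 2 = T.w 7) ∧ Hide (α27 = 2 ∧ α72 = 1)) ∧ q27 = 2) ∨ ((Hide (x27 = T.m 7 ∧ x72 = 3 * T.m 2) ∧ Hide (T.a 2 7 = T.w 2 ∧ T.a 7 2 = 3 * T.w 7) ∧ Hide (α27 = 1 ∧ α72 = 3)) ∧ q27 = 3) ∨ ((Hide (x27 = 3 * T.m 7 ∧ x72 = T.m 2) ∧ Hide (T.a 2 7 = 3 * T.w 2 ∧ T.a 7 2 = T.w 7)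 ∧ Hide (α27 = 3 ∧ α72 = 1)) ∧ q27 = 3) ∨ ((Hide (x27 = T.m 7 ∧ x72 = 4 * T.m 2) ∧ Hide (T.a 2 7 = T.w 2 ∧ T.a 7 2 = 4 * T.w 7) ∧ Hide (α27 = 1 ∧ α72 = 4)) ∧ q27 = 4) ∨ ((Hide (x27 = 4 * T.m 7 ∧ x72 = T.m 2) ∧ Hide (T.a 2 7 = 4 * T.w 2 ∧ T.a 7 2 = T.w 7) ∧ Hide (α27 = 4 ∧ α72 = 1)) ∧ q27 = 4) ∨ ((Hide (x27 = 2 * T.m 7 ∧ x72 = 2 * T.m 2) ∧ Hide (T.a 2 7 = 2 * T.w 2 ∧ T.a 7 2 = 2 * T.w 7) ∧ Hide (α27 = 2 ∧ α72 = 2)) ∧ q27 = 4)))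
    (c34 : Hide (((Hide (x34 = 0 ∧ x43 = 0) ∧ Hide (T.a 3 4 = 0 ∧ T.a 4 3 = 0) ∧ Hide (α34 = 0 ∧ α43 = 0)) ∧ q34 = 0) ∨ ((Hide (x34 = T.m 4 ∧ x43 = T.m 3) ∧ Hide (T.a 3 4 = T.w 3 ∧ T.a 4 3 = T.w 4) ∧ Hide (α34 = 1 ∧ α43 = 1)) ∧ q34 = 1) ∨ ((Hide (x34 = T.m 4 ∧ x43 = 2 * T.m 3) ∧ Hide (T.a 3 4 = T.w 3 ∧ T.a 4 3 = 2 * T.w 4) ∧ Hide (α34 = 1 ∧ α43 = 2)) ∧ q34 = 2) ∨ ((Hide (x34 = 2 * T.m 4 ∧ x43 = T.m 3) ∧ Hide (T.a 3 4 = 2 * T.w 3 ∧ T.a 4 3 = T.w 4) ∧ Hide (α34 = 2 ∧ α43 = 1)) ∧ q34 = 2) ∨ ((Hide (x34 = T.m 4 ∧ x43 = 3 * T.m 3) ∧ Hide (T.a 3 4 = T.w 3 ∧ T.a 4 3 = 3 * T.w 4) ∧ Hide (α34 = 1 ∧ α43 = 3)) ∧ q34 = 3) ∨ ((Hide (x34 = 3 * T.m 4 ∧ x43 = T.m 3) ∧ Hide (T.a 3 4 = 3 * T.w 3 ∧ T.a 4 3 = T.w 4)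 ∧ Hide (α34 = 3 ∧ α43 = 1)) ∧ q34 = 3) ∨ ((Hide (x34 = T.m 4 ∧ x43 = 4 * T.m 3) ∧ Hide (T.a 3 4 = T.w 3 ∧ T.a 4 3 = 4 * T.w 4) ∧ Hide (α34 = 1 ∧ α43 = 4)) ∧ q34 = 4) ∨ ((Hide (x34 = 4 * T.m 4 ∧ x43 = T.m 3) ∧ Hide (T.a 3 4 = 4 * T.w 3 ∧ T.a 4 3 = T.w 4) ∧ Hide (α34 = 4 ∧ α43 = 1)) ∧ q34 = 4) ∨ ((Hide (x34 = 2 * T.m 4 ∧ x43 = 2 * T.m 3) ∧ Hide (T.a 3 4 = 2 * T.w 3 ∧ T.a 4 3 = 2 * T.w 4) ∧ Hide (α34 = 2 ∧ α43 = 2)) ∧ q34 = 4)))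
    (c35 : Hide (((Hide (x35 = 0 ∧ x53 = 0) ∧ Hide (T.a 3 5 = 0 ∧ T.a 5 3 = 0) ∧ Hide (α35 = 0 ∧ α53 = 0)) ∧ q35 = 0) ∨ ((Hide (x35 = T.m 5 ∧ x53 = T.m 3) ∧ Hide (T.a 3 5 = T.w 3 ∧ T.a 5 3 = T.w 5) ∧ Hide (α35 = 1 ∧ α53 = 1)) ∧ q35 = 1) ∨ ((Hide (x35 = T.m 5 ∧ x53 = 2 * T.m 3) ∧ Hide (T.a 3 5 = T.w 3 ∧ T.a 5 3 = 2 * T.w 5) ∧ Hide (α35 = 1 ∧ α53 = 2)) ∧ q35 = 2) ∨ ((Hide (x35 = 2 * T.m 5 ∧ x53 = T.m 3) ∧ Hide (T.a 3 5 = 2 * T.w 3 ∧ T.a 5 3 = T.w 5) ∧ Hide (α35 = 2 ∧ α53 = 1)) ∧ q35 = 2) ∨ ((Hide (x35 = T.m 5 ∧ x53 = 3 * T.m 3) ∧ Hide (T.a 3 5 = T.w 3 ∧ T.a 5 3 = 3 * T.w 5) ∧ Hide (α35 = 1 ∧ α53 = 3)) ∧ q35 = 3) ∨ ((Hide (x35 = 3 * T.m 5 ∧ x53 = T.m 3) ∧ Hide (T.a 3 5 = 3 * T.w 3 ∧ T.a 5 3 = T.w 5)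 ∧ Hide (α35 = 3 ∧ α53 = 1)) ∧ q35 = 3) ∨ ((Hide (x35 = T.m 5 ∧ x53 = 4 * T.m 3) ∧ Hide (T.a 3 5 = T.w 3 ∧ T.a 5 3 = 4 * T.w 5) ∧ Hide (α35 = 1 ∧ α53 = 4)) ∧ q35 = 4) ∨ ((Hide (x35 = 4 * T.m 5 ∧ x53 = T.m 3) ∧ Hide (T.a 3 5 = 4 * T.w 3 ∧ T.a 5 3 = T.w 5) ∧ Hide (α35 = 4 ∧ α53 = 1)) ∧ q35 = 4) ∨ ((Hide (x35 = 2 * T.m 5 ∧ x53 = 2 * T.m 3) ∧ Hide (T.a 3 5 = 2 * T.w 3 ∧ T.a 5 3 = 2 * T.w 5) ∧ Hide (α35 = 2 ∧ α53 = 2)) ∧ q35 = 4)))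
    (c36 : Hide (((Hide (x36 = 0 ∧ x63 = 0) ∧ Hide (T.a 3 6 = 0 ∧ T.a 6 3 = 0) ∧ Hide (α36 = 0 ∧ α63 = 0)) ∧ q36 = 0) ∨ ((Hide (x36 = T.m 6 ∧ x63 = T.m 3) ∧ Hide (T.a 3 6 = T.w 3 ∧ T.a 6 3 = T.w 6) ∧ Hide (α36 = 1 ∧ α63 = 1)) ∧ q36 = 1) ∨ ((Hide (x36 = T.m 6 ∧ x63 = 2 * T.m 3) ∧ Hide (T.a 3 6 = T.w 3 ∧ T.a 6 3 = 2 * T.w 6) ∧ Hide (α36 = 1 ∧ α63 = 2)) ∧ q36 = 2) ∨ ((Hide (x36 = 2 * T.m 6 ∧ x63 = T.m 3) ∧ Hide (T.a 3 6 = 2 * T.w 3 ∧ T.a 6 3 = T.w 6) ∧ Hide (α36 = 2 ∧ α63 = 1)) ∧ q36 = 2) ∨ ((Hide (x36 = T.m 6 ∧ x63 = 3 * T.m 3) ∧ Hide (T.a 3 6 = T.w 3 ∧ T.a 6 3 = 3 * T.w 6) ∧ Hide (α36 = 1 ∧ α63 = 3)) ∧ q36 = 3) ∨ ((Hide (x36 = 3 * T.m 6 ∧ x63 = T.m 3) ∧ Hide (T.a 3 6 = 3 * T.w 3 ∧ T.a 6 3 = T.w 6)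 ∧ Hide (α36 = 3 ∧ α63 = 1)) ∧ q36 = 3) ∨ ((Hide (x36 = T.m 6 ∧ x63 = 4 * T.m 3) ∧ Hide (T.a 3 6 = T.w 3 ∧ T.a 6 3 = 4 * T.w 6) ∧ Hide (α36 = 1 ∧ α63 = 4)) ∧ q36 = 4) ∨ ((Hide (x36 = 4 * T.m 6 ∧ x63 = T.m 3) ∧ Hide (T.a 3 6 = 4 * T.w 3 ∧ T.a 6 3 = T.w 6) ∧ Hide (α36 = 4 ∧ α63 = 1)) ∧ q36 = 4) ∨ ((Hide (x36 = 2 * T.m 6 ∧ x63 = 2 * T.m 3) ∧ Hide (T.a 3 6 = 2 * T.w 3 ∧ T.a 6 3 = 2 * T.w 6) ∧ Hide (α36 = 2 ∧ α63 = 2)) ∧ q36 = 4)))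
    (c37 : Hide (((Hide (x37 = 0 ∧ x73 = 0) ∧ Hide (T.a 3 7 = 0 ∧ T.a 7 3 = 0) ∧ Hide (α37 = 0 ∧ α73 = 0)) ∧ q37 = 0) ∨ ((Hide (x37 = T.m 7 ∧ x73 = T.m 3) ∧ Hide (T.a 3 7 = T.w 3 ∧ T.a 7 3 = T.w 7) ∧ Hide (α37 = 1 ∧ α73 = 1)) ∧ q37 = 1) ∨ ((Hide (x37 = T.m 7 ∧ x73 = 2 * T.m 3) ∧ Hide (T.a 3 7 = T.w 3 ∧ T.a 7 3 = 2 * T.w 7) ∧ Hide (α37 = 1 ∧ α73 = 2)) ∧ q37 = 2) ∨ ((Hide (x37 = 2 * T.m 7 ∧ x73 = T.m 3) ∧ Hide (T.a 3 7 = 2 * T.w 3 ∧ T.a 7 3 = T.w 7) ∧ Hide (α37 = 2 ∧ α73 = 1)) ∧ q37 = 2) ∨ ((Hide (x37 = T.m 7 ∧ x73 = 3 * T.m 3) ∧ Hide (T.a 3 7 = T.w 3 ∧ T.a 7 3 = 3 * T.w 7) ∧ Hide (α37 = 1 ∧ α73 = 3)) ∧ q37 = 3) ∨ ((Hide (x37 = 3 * T.m 7 ∧ x73 = T.m 3) ∧ Hide (T.a 3 7 = 3 * T.w 3 ∧ T.a 7 3 = T.w 7)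 ∧ Hide (α37 = 3 ∧ α73 = 1)) ∧ q37 = 3) ∨ ((Hide (x37 = T.m 7 ∧ x73 = 4 * T.m 3) ∧ Hide (T.a 3 7 = T.w 3 ∧ T.a 7 3 = 4 * T.w 7) ∧ Hide (α37 = 1 ∧ α73 = 4)) ∧ q37 = 4) ∨ ((Hide (x37 = 4 * T.m 7 ∧ x73 = T.m 3) ∧ Hide (T.a 3 7 = 4 * T.w 3 ∧ T.a 7 3 = T.w 7) ∧ Hide (α37 = 4 ∧ α73 = 1)) ∧ q37 = 4) ∨ ((Hide (x37 = 2 * T.m 7 ∧ x73 = 2 * T.m 3) ∧ Hide (T.a 3 7 = 2 * T.w 3 ∧ T.a 7 3 = 2 * T.w 7) ∧ Hide (α37 = 2 ∧ α73 = 2)) ∧ q37 = 4)))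
    (c45 : Hide (((Hide (x45 = 0 ∧ x54 = 0) ∧ Hide (T.a 4 5 = 0 ∧ T.a 5 4 = 0) ∧ Hide (α45 = 0 ∧ α54 = 0)) ∧ q45 = 0) ∨ ((Hide (x45 = T.m 5 ∧ x54 = T.m 4) ∧ Hide (T.a 4 5 = T.w 4 ∧ T.a 5 4 = T.w 5) ∧ Hide (α45 = 1 ∧ α54 = 1)) ∧ q45 = 1) ∨ ((Hide (x45 = T.m 5 ∧ x54 = 2 * T.m 4) ∧ Hide (T.a 4 5 = T.w 4 ∧ T.a 5 4 = 2 * T.w 5) ∧ Hide (α45 = 1 ∧ α54 = 2)) ∧ q45 = 2) ∨ ((Hide (x45 = 2 * T.m 5 ∧ x54 = T.m 4) ∧ Hide (T.a 4 5 = 2 * T.w 4 ∧ T.a 5 4 = T.w 5) ∧ Hide (α45 = 2 ∧ α54 = 1)) ∧ q45 = 2) ∨ ((Hide (x45 = T.m 5 ∧ x54 = 3 * T.m 4) ∧ Hide (T.a 4 5 = T.w 4 ∧ T.a 5 4 = 3 * T.w 5) ∧ Hide (α45 = 1 ∧ α54 = 3)) ∧ q45 = 3) ∨ ((Hide (x45 = 3 * T.m 5 ∧ x54 = T.m 4) ∧ Hide (T.a 4 5 = 3 * T.w 4 ∧ T.a 5 4 = T.w 5)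 ∧ Hide (α45 = 3 ∧ α54 = 1)) ∧ q45 = 3) ∨ ((Hide (x45 = T.m 5 ∧ x54 = 4 * T.m 4) ∧ Hide (T.a 4 5 = T.w 4 ∧ T.a 5 4 = 4 * T.w 5) ∧ Hide (α45 = 1 ∧ α54 = 4)) ∧ q45 = 4) ∨ ((Hide (x45 = 4 * T.m 5 ∧ x54 = T.m 4) ∧ Hide (T.a 4 5 = 4 * T.w 4 ∧ T.a 5 4 = T.w 5) ∧ Hide (α45 = 4 ∧ α54 = 1)) ∧ q45 = 4) ∨ ((Hide (x45 = 2 * T.m 5 ∧ x54 = 2 * T.m 4) ∧ Hide (T.a 4 5 = 2 * T.w 4 ∧ T.a 5 4 = 2 * T.w 5) ∧ Hide (α45 = 2 ∧ α54 = 2)) ∧ q45 = 4)))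
    (c46 : Hide (((Hide (x46 = 0 ∧ x64 = 0) ∧ Hide (T.a 4 6 = 0 ∧ T.a 6 4 = 0) ∧ Hide (α46 = 0 ∧ α64 = 0)) ∧ q46 = 0) ∨ ((Hide (x46 = T.m 6 ∧ x64 = T.m 4) ∧ Hide (T.a 4 6 = T.w 4 ∧ T.a 6 4 = T.w 6) ∧ Hide (α46 = 1 ∧ α64 = 1)) ∧ q46 = 1) ∨ ((Hide (x46 = T.m 6 ∧ x64 = 2 * T.m 4) ∧ Hide (T.a 4 6 = T.w 4 ∧ T.a 6 4 = 2 * T.w 6) ∧ Hide (α46 = 1 ∧ α64 = 2)) ∧ q46 = 2) ∨ ((Hide (x46 = 2 * T.m 6 ∧ x64 = T.m 4) ∧ Hide (T.a 4 6 = 2 * T.w 4 ∧ T.a 6 4 = T.w 6) ∧ Hide (α46 = 2 ∧ α64 = 1)) ∧ q46 = 2) ∨ ((Hide (x46 = T.m 6 ∧ x64 = 3 * T.m 4) ∧ Hide (T.a 4 6 = T.w 4 ∧ T.a 6 4 = 3 * T.w 6) ∧ Hide (α46 = 1 ∧ α64 = 3)) ∧ q46 = 3) ∨ ((Hide (x46 = 3 * T.m 6 ∧ x64 = T.m 4) ∧ Hide (T.a 4 6 = 3 * T.w 4 ∧ T.a 6 4 = T.w 6)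 ∧ Hide (α46 = 3 ∧ α64 = 1)) ∧ q46 = 3) ∨ ((Hide (x46 = T.m 6 ∧ x64 = 4 * T.m 4) ∧ Hide (T.a 4 6 = T.w 4 ∧ T.a 6 4 = 4 * T.w 6) ∧ Hide (α46 = 1 ∧ α64 = 4)) ∧ q46 = 4) ∨ ((Hide (x46 = 4 * T.m 6 ∧ x64 = T.m 4) ∧ Hide (T.a 4 6 = 4 * T.w 4 ∧ T.a 6 4 = T.w 6) ∧ Hide (α46 = 4 ∧ α64 = 1)) ∧ q46 = 4) ∨ ((Hide (x46 = 2 * T.m 6 ∧ x64 = 2 * T.m 4) ∧ Hide (T.a 4 6 = 2 * T.w 4 ∧ T.a 6 4 = 2 * T.w 6) ∧ Hide (α46 = 2 ∧ α64 = 2)) ∧ q46 = 4)))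
    (c47 : Hide (((Hide (x47 = 0 ∧ x74 = 0) ∧ Hide (T.a 4 7 = 0 ∧ T.a 7 4 = 0) ∧ Hide (α47 = 0 ∧ α74 = 0)) ∧ q47 = 0) ∨ ((Hide (x47 = T.m 7 ∧ x74 = T.m 4) ∧ Hide (T.a 4 7 = T.w 4 ∧ T.a 7 4 = T.w 7) ∧ Hide (α47 = 1 ∧ α74 = 1)) ∧ q47 = 1) ∨ ((Hide (x47 = T.m 7 ∧ x74 = 2 * T.m 4) ∧ Hide (T.a 4 7 = T.w 4 ∧ T.a 7 4 = 2 * T.w 7) ∧ Hide (α47 = 1 ∧ α74 = 2)) ∧ q47 = 2) ∨ ((Hide (x47 = 2 * T.m 7 ∧ x74 = T.m 4) ∧ Hide (T.a 4 7 = 2 * T.w 4 ∧ T.a 7 4 = T.w 7) ∧ Hide (α47 = 2 ∧ α74 = 1)) ∧ q47 = 2) ∨ ((Hide (x47 = T.m 7 ∧ x74 = 3 * T.m 4) ∧ Hide (T.a 4 7 = T.w 4 ∧ T.a 7 4 = 3 * T.w 7) ∧ Hide (α47 = 1 ∧ α74 = 3)) ∧ q47 = 3) ∨ ((Hide (x47 = 3 * T.m 7 ∧ x74 = T.m 4) ∧ Hide (T.a 4 7 = 3 * T.w 4 ∧ T.a 7 4 = T.w 7)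 ∧ Hide (α47 = 3 ∧ α74 = 1)) ∧ q47 = 3) ∨ ((Hide (x47 = T.m 7 ∧ x74 = 4 * T.m 4) ∧ Hide (T.a 4 7 = T.w 4 ∧ T.a 7 4 = 4 * T.w 7) ∧ Hide (α47 = 1 ∧ α74 = 4)) ∧ q47 = 4) ∨ ((Hide (x47 = 4 * T.m 7 ∧ x74 = T.m 4) ∧ Hide (T.a 4 7 = 4 * T.w 4 ∧ T.a 7 4 = T.w 7) ∧ Hide (α47 = 4 ∧ α74 = 1)) ∧ q47 = 4) ∨ ((Hide (x47 = 2 * T.m 7 ∧ x74 = 2 * T.m 4) ∧ Hide (T.a 4 7 = 2 * T.w 4 ∧ T.a 7 4 = 2 * T.w 7) ∧ Hide (α47 = 2 ∧ α74 = 2)) ∧ q47 = 4)))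
    (c56 : Hide (((Hide (x56 = 0 ∧ x65 = 0) ∧ Hide (T.a 5 6 = 0 ∧ T.a 6 5 = 0) ∧ Hide (α56 = 0 ∧ α65 = 0)) ∧ q56 = 0) ∨ ((Hide (x56 = T.m 6 ∧ x65 = T.m 5) ∧ Hide (T.a 5 6 = T.w 5 ∧ T.a 6 5 = T.w 6) ∧ Hide (α56 = 1 ∧ α65 = 1)) ∧ q56 = 1) ∨ ((Hide (x56 = T.m 6 ∧ x65 = 2 * T.m 5) ∧ Hide (T.a 5 6 = T.w 5 ∧ T.a 6 5 = 2 * T.w 6) ∧ Hide (α56 = 1 ∧ α65 = 2)) ∧ q56 = 2) ∨ ((Hide (x56 = 2 * T.m 6 ∧ x65 = T.m 5) ∧ Hide (T.a 5 6 = 2 * T.w 5 ∧ T.a 6 5 = T.w 6) ∧ Hide (α56 = 2 ∧ α65 = 1)) ∧ q56 = 2) ∨ ((Hide (x56 = T.m 6 ∧ x65 = 3 * T.m 5) ∧ Hide (T.a 5 6 = T.w 5 ∧ T.a 6 5 = 3 * T.w 6) ∧ Hide (α56 = 1 ∧ α65 = 3)) ∧ q56 = 3) ∨ ((Hide (x56 = 3 * T.m 6 ∧ x65 = T.m 5) ∧ Hide (T.a 5 6 = 3 * T.w 5 ∧ T.a 6 5 = T.w 6)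 ∧ Hide (α56 = 3 ∧ α65 = 1)) ∧ q56 = 3) ∨ ((Hide (x56 = T.m 6 ∧ x65 = 4 * T.m 5) ∧ Hide (T.a 5 6 = T.w 5 ∧ T.a 6 5 = 4 * T.w 6) ∧ Hide (α56 = 1 ∧ α65 = 4)) ∧ q56 = 4) ∨ ((Hide (x56 = 4 * T.m 6 ∧ x65 = T.m 5) ∧ Hide (T.a 5 6 = 4 * T.w 5 ∧ T.a 6 5 = T.w 6) ∧ Hide (α56 = 4 ∧ α65 = 1)) ∧ q56 = 4) ∨ ((Hide (x56 = 2 * T.m 6 ∧ x65 = 2 * T.m 5) ∧ Hide (T.a 5 6 = 2 * T.w 5 ∧ T.a 6 5 = 2 * T.w 6) ∧ Hide (α56 = 2 ∧ α65 = 2)) ∧ q56 = 4)))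
    (c57 : Hide (((Hide (x57 = 0 ∧ x75 = 0) ∧ Hide (T.a 5 7 = 0 ∧ T.a 7 5 = 0) ∧ Hide (α57 = 0 ∧ α75 = 0)) ∧ q57 = 0) ∨ ((Hide (x57 = T.m 7 ∧ x75 = T.m 5) ∧ Hide (T.a 5 7 = T.w 5 ∧ T.a 7 5 = T.w 7) ∧ Hide (α57 = 1 ∧ α75 = 1)) ∧ q57 = 1) ∨ ((Hide (x57 = T.m 7 ∧ x75 = 2 * T.m 5) ∧ Hide (T.a 5 7 = T.w 5 ∧ T.a 7 5 = 2 * T.w 7) ∧ Hide (α57 = 1 ∧ α75 = 2)) ∧ q57 = 2) ∨ ((Hide (x57 = 2 * T.m 7 ∧ x75 = T.m 5) ∧ Hide (T.a 5 7 = 2 * T.w 5 ∧ T.a 7 5 = T.w 7) ∧ Hide (α57 = 2 ∧ α75 = 1)) ∧ q57 = 2) ∨ ((Hide (x57 = T.m 7 ∧ x75 = 3 * T.m 5) ∧ Hide (T.a 5 7 = T.w 5 ∧ T.a 7 5 = 3 * T.w 7) ∧ Hide (α57 = 1 ∧ α75 = 3)) ∧ q57 = 3) ∨ ((Hide (x57 = 3 * T.m 7 ∧ x75 = T.m 5) ∧ Hide (T.a 5 7 = 3 * T.w 5 ∧ T.a 7 5 = T.w 7)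 ∧ Hide (α57 = 3 ∧ α75 = 1)) ∧ q57 = 3) ∨ ((Hide (x57 = T.m 7 ∧ x75 = 4 * T.m 5) ∧ Hide (T.a 5 7 = T.w 5 ∧ T.a 7 5 = 4 * T.w 7) ∧ Hide (α57 = 1 ∧ α75 = 4)) ∧ q57 = 4) ∨ ((Hide (x57 = 4 * T.m 7 ∧ x75 = T.m 5) ∧ Hide (T.a 5 7 = 4 * T.w 5 ∧ T.a 7 5 = T.w 7) ∧ Hide (α57 = 4 ∧ α75 = 1)) ∧ q57 = 4) ∨ ((Hide (x57 = 2 * T.m 7 ∧ x75 = 2 * T.m 5) ∧ Hide (T.a 5 7 = 2 * T.w 5 ∧ T.a 7 5 = 2 * T.w 7) ∧ Hide (α57 = 2 ∧ α75 = 2)) ∧ q57 = 4)))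
    (c67 : Hide (((Hide (x67 = 0 ∧ x76 = 0) ∧ Hide (T.a 6 7 = 0 ∧ T.a 7 6 = 0) ∧ Hide (α67 = 0 ∧ α76 = 0)) ∧ q67 = 0) ∨ ((Hide (x67 = T.m 7 ∧ x76 = T.m 6) ∧ Hide (T.a 6 7 = T.w 6 ∧ T.a 7 6 = T.w 7) ∧ Hide (α67 = 1 ∧ α76 = 1)) ∧ q67 = 1) ∨ ((Hide (x67 = T.m 7 ∧ x76 = 2 * T.m 6) ∧ Hide (T.a 6 7 = T.w 6 ∧ T.a 7 6 = 2 * T.w 7) ∧ Hide (α67 = 1 ∧ α76 = 2)) ∧ q67 = 2) ∨ ((Hide (x67 = 2 * T.m 7 ∧ x76 = T.m 6) ∧ Hide (T.a 6 7 = 2 * T.w 6 ∧ T.a 7 6 = T.w 7) ∧ Hide (α67 = 2 ∧ α76 = 1)) ∧ q67 = 2) ∨ ((Hide (x67 = T.m 7 ∧ x76 = 3 * T.m 6) ∧ Hide (T.a 6 7 = T.w 6 ∧ T.a 7 6 = 3 * T.w 7) ∧ Hide (α67 = 1 ∧ α76 = 3)) ∧ q67 = 3) ∨ ((Hide (x67 = 3 * T.m 7 ∧ x76 = T.m 6) ∧ Hide (T.a 6 7 = 3 * T.w 6 ∧ T.a 7 6 = T.w 7)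 ∧ Hide (α67 = 3 ∧ α76 = 1)) ∧ q67 = 3) ∨ ((Hide (x67 = T.m 7 ∧ x76 = 4 * T.m 6) ∧ Hide (T.a 6 7 = T.w 6 ∧ T.a 7 6 = 4 * T.w 7) ∧ Hide (α67 = 1 ∧ α76 = 4)) ∧ q67 = 4) ∨ ((Hide (x67 = 4 * T.m 7 ∧ x76 = T.m 6) ∧ Hide (T.a 6 7 = 4 * T.w 6 ∧ T.a 7 6 = T.w 7) ∧ Hide (α67 = 4 ∧ α76 = 1)) ∧ q67 = 4) ∨ ((Hide (x67 = 2 * T.m 7 ∧ x76 = 2 * T.m 6) ∧ Hide (T.a 6 7 = 2 * T.w 6 ∧ T.a 7 6 = 2 * T.w 7) ∧ Hide (α67 = 2 ∧ α76 = 2)) ∧ q67 = 4)))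
    (gw01 : Hide (T.a 0 1 = T.w 0 ∧ T.a 1 0 = T.w 1))
    (gw02 : Hide (T.a 0 2 = 0 ∧ T.a 2 0 = 0))
    (gw03 : Hide (T.a 0 3 = 0 ∧ T.a 3 0 = 0))
    (gw04 : Hide (T.a 0 4 = 0 ∧ T.a 4 0 = 0))
    (gw05 : Hide (T.a 0 5 = 0 ∧ T.a 5 0 = 0))
    (gw06 : Hide (T.a 0 6 = 0 ∧ T.a 6 0 = 0))
    (gw07 : Hide (T.a 0 7 = 0 ∧ T.a 7 0 = 0))
    (gw12 : Hide (T.a 1 2 = T.w 1 ∧ T.a 2 1 = T.w 2))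
    (gw13 : Hide (T.a 1 3 = 0 ∧ T.a 3 1 = 0))
    (gw14 : Hide (T.a 1 4 = T.w 1 ∧ T.a 4 1 = T.w 4))
    (gw15 : Hide (T.a 1 5 = 0 ∧ T.a 5 1 = 0))
    (gw16 : Hide (T.a 1 6 = 0 ∧ T.a 6 1 = 0))
    (gw17 : Hide (T.a 1 7 = 0 ∧ T.a 7 1 = 0))
    (gw23 : Hide (T.a 2 3 = T.w 2 ∧ T.a 3 2 = T.w 3))
    (gw24 : Hide (T.a 2 4 = 0 ∧ T.a 4 2 = 0))
    (gw25 : Hide (T.a 2 5 = T.w 2 ∧ T.a 5 2 = T.w 5)) : Goal T := by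
  have t := pc1 q26 c26.out (by have := v2.out; have := qn27.out; omega)
  clear c26
  rcases t with ⟨⟨⟨rfl, rfl⟩, gw26, ⟨rfl, rfl⟩⟩, rfl⟩ | ⟨⟨⟨rfl, rfl⟩, gw26, ⟨rfl, rfl⟩⟩, rfl⟩
  · have t := pc1 q27 c27.out (by have := v2.out; omega)
    clear c27
    rcases t with ⟨⟨⟨rfl, rfl⟩, gw27, ⟨rfl, rfl⟩⟩, rfl⟩ | ⟨⟨⟨rfl, rfl⟩, gw27, ⟨rfl, rfl⟩⟩, rfl⟩
    · have t := pc3 q34 c34.out (by have := v3.out; have := qn35.out; have := qn36.out; have := qn37.out; omega)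
      clear c34
      rcases t with ⟨⟨⟨rfl, rfl⟩, gw34, ⟨rfl, rfl⟩⟩, rfl⟩ | ⟨⟨⟨rfl, rfl⟩, gw34, ⟨rfl, rfl⟩⟩, rfl⟩ | ⟨⟨⟨rfl, rfl⟩, gw34, ⟨rfl, rfl⟩⟩, rfl⟩ | ⟨⟨⟨rfl, rfl⟩, gw34, ⟨rfl, rfl⟩⟩, rfl⟩ | ⟨⟨⟨rfl, rfl⟩, gw34, ⟨rfl, rfl⟩⟩, rfl⟩ | ⟨⟨⟨rfl, rfl⟩, gw34, ⟨rfl, rfl⟩⟩, rfl⟩
      · have t := pc3 q35 c35.out (by have := v3.out; have := qn36.out; have := qn37.out; omega)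
        clear c35
        rcases t with ⟨⟨⟨rfl, rfl⟩, gw35, ⟨rfl, rfl⟩⟩, rfl⟩ | ⟨⟨⟨rfl, rfl⟩, gw35, ⟨rfl, rfl⟩⟩, rfl⟩ | ⟨⟨⟨rfl, rfl⟩, gw35, ⟨rfl, rfl⟩⟩, rfl⟩ | ⟨⟨⟨rfl, rfl⟩, gw35, ⟨rfl, rfl⟩⟩, rfl⟩ | ⟨⟨⟨rfl, rfl⟩, gw35, ⟨rfl, rfl⟩⟩, rfl⟩ | ⟨⟨⟨rfl, rfl⟩, gw35, ⟨rfl, rfl⟩⟩, rfl⟩
        · have t := pc3 q36 c36.out (by have := v3.out; have := qn37.out; omega)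
          clear c36
          rcases t with ⟨⟨⟨rfl, rfl⟩, gw36, ⟨rfl, rfl⟩⟩, rfl⟩ | ⟨⟨⟨rfl, rfl⟩, gw36, ⟨rfl, rfl⟩⟩, rfl⟩ | ⟨⟨⟨rfl, rfl⟩, gw36, ⟨rfl, rfl⟩⟩, rfl⟩ | ⟨⟨⟨rfl, rfl⟩, gw36, ⟨rfl, rfl⟩⟩, rfl⟩ | ⟨⟨⟨rfl, rfl⟩, gw36, ⟨rfl, rfl⟩⟩, rfl⟩ | ⟨⟨⟨rfl, rfl⟩, gw36, ⟨rfl, rfl⟩⟩, rfl⟩
          · have t := pc3 q37 c37.out (by have := v3.out; omega)
            clear c37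
            rcases t with ⟨⟨⟨rfl, rfl⟩, gw37, ⟨rfl, rfl⟩⟩, rfl⟩ | ⟨⟨⟨rfl, rfl⟩, gw37, ⟨rfl, rfl⟩⟩, rfl⟩ | ⟨⟨⟨rfl, rfl⟩, gw37, ⟨rfl, rfl⟩⟩, rfl⟩ | ⟨⟨⟨rfl, rfl⟩, gw37, ⟨rfl, rfl⟩⟩, rfl⟩ | ⟨⟨⟨rfl, rfl⟩, gw37, ⟨rfl, rfl⟩⟩, rfl⟩ | ⟨⟨⟨rfl, rfl⟩, gw37, ⟨rfl, rfl⟩⟩, rfl⟩
            · have t := pc3 q45 c45.out (by have := v4.out; have := qn46.out; have := qn47.out; omega)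
              clear c45
              rcases t with ⟨⟨⟨rfl, rfl⟩, gw45, ⟨rfl, rfl⟩⟩, rfl⟩ | ⟨⟨⟨rfl, rfl⟩, gw45, ⟨rfl, rfl⟩⟩, rfl⟩ | ⟨⟨⟨rfl, rfl⟩, gw45, ⟨rfl, rfl⟩⟩, rfl⟩ | ⟨⟨⟨rfl, rfl⟩, gw45, ⟨rfl, rfl⟩⟩, rfl⟩ | ⟨⟨⟨rfl, rfl⟩, gw45, ⟨rfl, rfl⟩⟩, rfl⟩ | ⟨⟨⟨rfl, rfl⟩, gw45, ⟨rfl, rfl⟩⟩, rfl⟩
              · have t := pc3 q46 c46.out (by have := v4.out; have := qn47.out; omega)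
                clear c46
                rcases t with ⟨⟨⟨rfl, rfl⟩, gw46, ⟨rfl, rfl⟩⟩, rfl⟩ | ⟨⟨⟨rfl, rfl⟩, gw46, ⟨rfl, rfl⟩⟩, rfl⟩ | ⟨⟨⟨rfl, rfl⟩, gw46, ⟨rfl, rfl⟩⟩, rfl⟩ | ⟨⟨⟨rfl, rfl⟩, gw46, ⟨rfl, rfl⟩⟩, rfl⟩ | ⟨⟨⟨rfl, rfl⟩, gw46, ⟨rfl, rfl⟩⟩, rfl⟩ | ⟨⟨⟨rfl, rfl⟩, gw46, ⟨rfl, rfl⟩⟩, rfl⟩
                · have t := pc3 q47 c47.out (by have := v4.out; omega)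
                  clear c47
                  rcases t with ⟨⟨⟨rfl, rfl⟩, gw47, ⟨rfl, rfl⟩⟩, rfl⟩ | ⟨⟨⟨rfl, rfl⟩, gw47, ⟨rfl, rfl⟩⟩, rfl⟩ | ⟨⟨⟨rfl, rfl⟩, gw47, ⟨rfl, rfl⟩⟩, rfl⟩ | ⟨⟨⟨rfl, rfl⟩, gw47, ⟨rfl, rfl⟩⟩, rfl⟩ | ⟨⟨⟨rfl, rfl⟩, gw47, ⟨rfl, rfl⟩⟩, rfl⟩ | ⟨⟨⟨rfl, rfl⟩, gw47, ⟨rfl, rfl⟩⟩, rfl⟩
                  · have t := pc3 q56 c56.out (by have := v5.out; have := qn57.out; omega)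
                    clear c56
                    rcases t with ⟨⟨⟨rfl, rfl⟩, gw56, ⟨rfl, rfl⟩⟩, rfl⟩ | ⟨⟨⟨rfl, rfl⟩, gw56, ⟨rfl, rfl⟩⟩, rfl⟩ | ⟨⟨⟨rfl, rfl⟩, gw56, ⟨rfl, rfl⟩⟩, rfl⟩ | ⟨⟨⟨rfl, rfl⟩, gw56, ⟨rfl, rfl⟩⟩, rfl⟩ | ⟨⟨⟨rfl, rfl⟩, gw56, ⟨rfl, rfl⟩⟩, rfl⟩ | ⟨⟨⟨rfl, rfl⟩, gw56, ⟨rfl, rfl⟩⟩, rfl⟩
                    · (have := od6.out; omega)
                    · (have := hm6.out; have := om4.out; have := e0.out; have := e1.out; have := e2.out; have := e3.out; have := e5.out; have := r57.out; omega)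
                    · (have := hm3.out; have := om4.out; have := e0.out; have := e1.out; have := e2.out; have := e5.out; have := r57.out; have := e6.out; have := r67.out; omega)
                    · (have := hm3.out; have := om4.out; have := e0.out; have := e1.out; have := e2.out; have := e5.out; have := r57.out; have := e6.out; have := r67.out; omega)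
                    · (have := hm6.out; have := om4.out; have := e0.out; have := e1.out; have := e2.out; have := e3.out; have := e5.out; have := r57.out; omega)
                    · (have := hm6.out; have := om4.out; have := e0.out; have := e1.out; have := e2.out; have := e3.out; have := e5.out; have := r57.out; omega)
                  · (have := hm5.out; have := om3.out; have := om7.out; have := e0.out; have := e1.out; have := e2.out; have := e4.out; omega)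
                  · (have := hm0.out; have := e1.out; have := e2.out; have := e3.out; have := e4.out; have := e5.out; have := r56.out; have := r57.out; have := e7.out; have := r75.out; have := r76.out; omega)
                  · (have := hm0.out; have := e1.out; have := e2.out; have := e3.out; have := e4.out; have := e5.out; have := r56.out; have := r57.out; have := e7.out; have := r75.out; have := r76.out; omega)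
                  · (have := hm5.out; have := om3.out; have := om7.out; have := e0.out; have := e1.out; have := e2.out; have := e4.out; omega)
                  · (have := hm7.out; have := e0.out; have := e1.out; have := e2.out; have := e3.out; have := e4.out; have := e5.out; have := r56.out; have := r57.out; omega)
                · (have := hm5.out; have := om3.out; have := om6.out; have := e0.out; have := e1.out; have := e2.out; have := e4.out; have := r47.out; omega)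
                · (have := hm0.out; have := e1.out; have := e2.out; have := e3.out; have := e4.out; have := r47.out; have := e5.out; have := r56.out; have := r57.out; have := e6.out; have := r65.out; have := r67.out; omega)
                · (have := hm0.out; have := e1.out; have := e2.out; have := e3.out; have := e4.out; have := r47.out; have := e5.out; have := r56.out; have := r57.out; have := e6.out; have := r65.out; have := r67.out; omega)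
                · (have := hm5.out; have := om3.out; have := om6.out; have := e0.out; have := e1.out; have := e2.out; have := e4.out; have := r47.out; omega)
                · (have := hm6.out; have := e0.out; have := e1.out; have := e2.out; have := e3.out; have := e4.out; have := r47.out; have := e5.out; have := r56.out; have := r57.out; omega)
              · (have := hm0.out; have := om3.out; have := e1.out; have := e2.out; have := e4.out; have := r46.out; have := r47.out; have := e5.out; have := r56.out; have := r57.out; omega)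
              · (have := hm5.out; have := om3.out; have := e0.out; have := e1.out; have := e3.out; have := e4.out; have := r46.out; have := r47.out; omega)
              · (have := hm5.out; have := om3.out; have := e0.out; have := e1.out; have := e3.out; have := e4.out; have := r46.out; have := r47.out; omega)
              · (have := hm1.out; have := hm3.out; have := e2.out; have := e4.out; have := r46.out; have := r47.out; have := e5.out; have := r56.out; have := r57.out; omega)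
              · (have := hm1.out; have := hm3.out; have := e2.out; have := e4.out; have := r46.out; have := r47.out; have := e5.out; have := r56.out; have := r57.out; omega)
            · (have := hm7.out; have := om4.out; have := e0.out; have := e1.out; have := e2.out; have := e3.out; have := e5.out; have := r54.out; have := r56.out; have := r57.out; omega)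
            · (have := hm7.out; have := om4.out; have := e0.out; have := e1.out; have := e2.out; have := e3.out; have := e5.out; have := r54.out; have := r56.out; have := r57.out; omega)
            · (have := hm7.out; have := om4.out; have := e0.out; have := e1.out; have := e2.out; have := e3.out; have := e5.out; have := r54.out; have := r56.out; have := r57.out; omega)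
            · (have := hm7.out; have := om4.out; have := e0.out; have := e1.out; have := e2.out; have := e3.out; have := e5.out; have := r54.out; have := r56.out; have := r57.out; omega)
            · (have := hm7.out; have := om4.out; have := e0.out; have := e1.out; have := e2.out; have := e3.out; have := e5.out; have := r54.out; have := r56.out; have := r57.out; omega)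
          · (have := hm6.out; have := om4.out; have := e0.out; have := e1.out; have := e2.out; have := e3.out; have := r37.out; have := e5.out; have := r54.out; have := r56.out; have := r57.out; omega)
          · (have := hm6.out; have := om4.out; have := e0.out; have := e1.out; have := e2.out; have := e3.out; have := r37.out; have := e5.out; have := r54.out; have := r56.out; have := r57.out; omega)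
          · (have := hm6.out; have := om4.out; have := e0.out; have := e1.out; have := e2.out; have := e3.out; have := r37.out; have := e5.out; have := r54.out; have := r56.out; have := r57.out; omega)
          · (have := hm6.out; have := om4.out; have := e0.out; have := e1.out; have := e2.out; have := e3.out; have := r37.out; have := e5.out; have := r54.out; have := r56.out; have := r57.out; omega)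
          · (have := hm6.out; have := om4.out; have := e0.out; have := e1.out; have := e2.out; have := e3.out; have := r37.out; have := e5.out; have := r54.out; have := r56.out; have := r57.out; omega)
        · (have := hm3.out; have := om4.out; have := e0.out; have := e1.out; have := e2.out; have := e3.out; have := r36.out; have := r37.out; have := e5.out; have := r54.out; have := r56.out; have := r57.out; omega)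
        · (have := hm3.out; have := om3.out; have := om4.out; have := e0.out; have := e1.out; have := e2.out; have := e5.out; have := r54.out; have := r56.out; have := r57.out; omega)
        · (have := hm0.out; have := hm3.out; have := om4.out; have := e1.out; have := e2.out; have := e3.out; have := r36.out; have := r37.out; have := e5.out; have := r54.out; have := r56.out; have := r57.out; omega)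
        · (have := hm0.out; have := om3.out; have := e0.out; have := e1.out; have := e2.out; have := e4.out; have := r45.out; have := r46.out; have := r47.out; have := e5.out; have := r54.out; have := r56.out; have := r57.out; omega)
        · (have := hm0.out; have := om5.out; have := e0.out; have := e1.out; have := e2.out; have := e3.out; have := r36.out; have := r37.out; have := e4.out; have := r45.out; have := r46.out; have := r47.out; omega)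
      · (have := hm5.out; have := om3.out; have := e0.out; have := e1.out; have := e2.out; have := e4.out; have := r45.out; have := r46.out; have := r47.out; omega)
      · (have := hm0.out; have := om2.out; have := e0.out; have := e1.out; have := e3.out; have := r35.out; have := r36.out; have := r37.out; have := e4.out; have := r45.out; have := r46.out; have := r47.out; omega)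
      · (have := hm5.out; have := om3.out; have := e0.out; have := e1.out; have := e2.out; have := e4.out; have := r45.out; have := r46.out; have := r47.out; omega)
      · (have := hm1.out; have := hm5.out; have := e2.out; have := e3.out; have := r35.out; have := r36.out; have := r37.out; have := e4.out; have := r45.out; have := r46.out; have := r47.out; omega)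
      · (have := hm1.out; have := hm5.out; have := e2.out; have := e3.out; have := r35.out; have := r36.out; have := r37.out; have := e4.out; have := r45.out; have := r46.out; have := r47.out; omega)
    · (have := hm7.out; have := om4.out; have := e0.out; have := e1.out; have := e2.out; have := e3.out; have := r34.out; have := r35.out; have := r36.out; have := r37.out; have := e5.out; have := r53.out; have := r54.out; have := r56.out; have := r57.out; omega)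
  · (have := hm6.out; have := om4.out; have := e0.out; have := e1.out; have := e2.out; have := r27.out; have := e3.out; have := r34.out; have := r35.out; have := r36.out; have := r37.out; have := e5.out; have := r53.out; have := r54.out; have := r56.out; have := r57.out; omega)

set_option maxHeartbeats 0 in
theorem part36 (T : Models.NumericalType 8) (α24 α25 α26 α27 α34 α35 α36 α37 α42 α43 α45 α46 α47 α52 α53 α54 α56 α57 α62 α63 α64 α65 α67 α72 α73 α74 α75 α76 x24 x25 x26 x27 x34 x35 x36 x37 x42 x43 x45 x46 x47 x52 x53 x54 x56 x57 x62 x63 x64 x65 x67 x72 x73 x74 x75 x76 q24 q25 q26 q27 q34 q35 q36 q37 q45 q46 q47 q56 q57 q67 : ℤ)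
    (hm0 : Hide (0 < T.m 0))
    (hm1 : Hide (0 < T.m 1))
    (hm2 : Hide (0 < T.m 2))
    (hm3 : Hide (0 < T.m 3))
    (hm4 : Hide (0 < T.m 4))
    (hm5 : Hide (0 < T.m 5))
    (hm6 : Hide (0 < T.m 6))
    (hm7 : Hide (0 < T.m 7))
    (om1 : Hide (T.m 0 ≤ T.m 1))
    (om2 : Hide (T.m 0 ≤ T.m 2))
    (om3 : Hide (T.m 0 ≤ T.m 3))
    (om4 : Hide (T.m 0 ≤ T.m 4))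
    (om5 : Hide (T.m 0 ≤ T.m 5))
    (om6 : Hide (T.m 0 ≤ T.m 6))
    (om7 : Hide (T.m 0 ≤ T.m 7))
    (e0 : Hide (T.m 1 + (0 : ℤ) + (0 : ℤ) + (0 : ℤ) + (0 : ℤ) + (0 : ℤ) + (0 : ℤ) = 2 * T.m 0))
    (e1 : Hide (T.m 0 + T.m 2 + (0 : ℤ) + T.m 4 + (0 : ℤ) + (0 : ℤ) + (0 : ℤ) = 2 * T.m 1))
    (e2 : Hide ((0 : ℤ) + T.m 1 + T.m 3 + x24 + x25 + x26 + x27 = 2 * T.m 2))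
    (e3 : Hide ((0 : ℤ) + (0 : ℤ) + 2 * T.m 2 + x34 + x35 + x36 + x37 = 2 * T.m 3))
    (e4 : Hide ((0 : ℤ) + T.m 1 + x42 + x43 + x45 + x46 + x47 = 2 * T.m 4))
    (e5 : Hide ((0 : ℤ) + (0 : ℤ) + x52 + x53 + x54 + x56 + x57 = 2 * T.m 5))
    (e6 : Hide ((0 : ℤ) + (0 : ℤ) + x62 + x63 + x64 + x65 + x67 = 2 * T.m 6))
    (e7 : Hide ((0 : ℤ) + (0 : ℤ) + x72 + x73 + x74 + x75 + x76 = 2 * T.m 7))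
    (r01 : Hide (0 ≤ T.m 1))
    (r02 : Hide (0 ≤ (0 : ℤ)))
    (r03 : Hide (0 ≤ (0 : ℤ)))
    (r04 : Hide (0 ≤ (0 : ℤ)))
    (r05 : Hide (0 ≤ (0 : ℤ)))
    (r06 : Hide (0 ≤ (0 : ℤ)))
    (r07 : Hide (0 ≤ (0 : ℤ)))
    (r10 : Hide (0 ≤ T.m 0))
    (r12 : Hide (0 ≤ T.m 2))
    (r13 : Hide (0 ≤ (0 : ℤ)))
    (r14 : Hide (0 ≤ T.m 4))
    (r15 : Hide (0 ≤ (0 : ℤ)))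
    (r16 : Hide (0 ≤ (0 : ℤ)))
    (r17 : Hide (0 ≤ (0 : ℤ)))
    (r20 : Hide (0 ≤ (0 : ℤ)))
    (r21 : Hide (0 ≤ T.m 1))
    (r23 : Hide (0 ≤ T.m 3))
    (r24 : Hide (0 ≤ x24))
    (r25 : Hide (0 ≤ x25))
    (r26 : Hide (0 ≤ x26))
    (r27 : Hide (0 ≤ x27))
    (r30 : Hide (0 ≤ (0 : ℤ)))
    (r31 : Hide (0 ≤ (0 : ℤ)))
    (r32 : Hide (0 ≤ 2 * T.m 2))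
    (r34 : Hide (0 ≤ x34))
    (r35 : Hide (0 ≤ x35))
    (r36 : Hide (0 ≤ x36))
    (r37 : Hide (0 ≤ x37))
    (r40 : Hide (0 ≤ (0 : ℤ)))
    (r41 : Hide (0 ≤ T.m 1))
    (r42 : Hide (0 ≤ x42))
    (r43 : Hide (0 ≤ x43))
    (r45 : Hide (0 ≤ x45))
    (r46 : Hide (0 ≤ x46))
    (r47 : Hide (0 ≤ x47))
    (r50 : Hide (0 ≤ (0 : ℤ)))
    (r51 : Hide (0 ≤ (0 : ℤ)))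
    (r52 : Hide (0 ≤ x52))
    (r53 : Hide (0 ≤ x53))
    (r54 : Hide (0 ≤ x54))
    (r56 : Hide (0 ≤ x56))
    (r57 : Hide (0 ≤ x57))
    (r60 : Hide (0 ≤ (0 : ℤ)))
    (r61 : Hide (0 ≤ (0 : ℤ)))
    (r62 : Hide (0 ≤ x62))
    (r63 : Hide (0 ≤ x63))
    (r64 : Hide (0 ≤ x64))
    (r65 : Hide (0 ≤ x65))
    (r67 : Hide (0 ≤ x67))
    (r70 : Hide (0 ≤ (0 : ℤ)))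
    (r71 : Hide (0 ≤ (0 : ℤ)))
    (r72 : Hide (0 ≤ x72))
    (r73 : Hide (0 ≤ x73))
    (r74 : Hide (0 ≤ x74))
    (r75 : Hide (0 ≤ x75))
    (r76 : Hide (0 ≤ x76))
    (hw0 : Hide (0 < T.w 0))
    (hw1 : Hide (0 < T.w 1))
    (hw2 : Hide (0 < T.w 2))
    (hw3 : Hide (0 < T.w 3))
    (hw4 : Hide (0 < T.w 4))
    (hw5 : Hide (0 < T.w 5))
    (hw6 : Hide (0 < T.w 6))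
    (hw7 : Hide (0 < T.w 7))
    (hs01 : Hide (T.a 0 1 = T.a 1 0))
    (hs02 : Hide (T.a 0 2 = T.a 2 0))
    (hs03 : Hide (T.a 0 3 = T.a 3 0))
    (hs04 : Hide (T.a 0 4 = T.a 4 0))
    (hs05 : Hide (T.a 0 5 = T.a 5 0))
    (hs06 : Hide (T.a 0 6 = T.a 6 0))
    (hs07 : Hide (T.a 0 7 = T.a 7 0))
    (hs12 : Hide (T.a 1 2 = T.a 2 1))
    (hs13 : Hide (T.a 1 3 = T.a 3 1))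
    (hs14 : Hide (T.a 1 4 = T.a 4 1))
    (hs15 : Hide (T.a 1 5 = T.a 5 1))
    (hs16 : Hide (T.a 1 6 = T.a 6 1))
    (hs17 : Hide (T.a 1 7 = T.a 7 1))
    (hs23 : Hide (T.a 2 3 = T.a 3 2))
    (hs24 : Hide (T.a 2 4 = T.a 4 2))
    (hs25 : Hide (T.a 2 5 = T.a 5 2))
    (hs26 : Hide (T.a 2 6 = T.a 6 2))
    (hs27 : Hide (T.a 2 7 = T.a 7 2))
    (hs34 : Hide (T.a 3 4 = T.a 4 3))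
    (hs35 : Hide (T.a 3 5 = T.a 5 3))
    (hs36 : Hide (T.a 3 6 = T.a 6 3))
    (hs37 : Hide (T.a 3 7 = T.a 7 3))
    (hs45 : Hide (T.a 4 5 = T.a 5 4))
    (hs46 : Hide (T.a 4 6 = T.a 6 4))
    (hs47 : Hide (T.a 4 7 = T.a 7 4))
    (hs56 : Hide (T.a 5 6 = T.a 6 5))
    (hs57 : Hide (T.a 5 7 = T.a 7 5))
    (hs67 : Hide (T.a 6 7 = T.a 7 6))
    (ha00 : Hide (T.a 0 0 = -2 * T.w 0))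
    (ha11 : Hide (T.a 1 1 = -2 * T.w 1))
    (ha22 : Hide (T.a 2 2 = -2 * T.w 2))
    (ha33 : Hide (T.a 3 3 = -2 * T.w 3))
    (ha44 : Hide (T.a 4 4 = -2 * T.w 4))
    (ha55 : Hide (T.a 5 5 = -2 * T.w 5))
    (ha66 : Hide (T.a 6 6 = -2 * T.w 6))
    (ha77 : Hide (T.a 7 7 = -2 * T.w 7))
    (v0 : Hide ((1 : ℤ) + (0 : ℤ) + (0 : ℤ) + (0 : ℤ) + (0 : ℤ) + (0 : ℤ) + (0 : ℤ) ≤ 4))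
    (v1 : Hide ((1 : ℤ) + (1 : ℤ) + (0 : ℤ) + (1 : ℤ) + (0 : ℤ) + (0 : ℤ) + (0 : ℤ) ≤ 4))
    (v2 : Hide ((0 : ℤ) + (1 : ℤ) + (2 : ℤ) + q24 + q25 + q26 + q27 ≤ 4))
    (v3 : Hide ((0 : ℤ) + (0 : ℤ) + (2 : ℤ) + q34 + q35 + q36 + q37 ≤ 4))
    (v4 : Hide ((0 : ℤ) + (1 : ℤ) + q24 + q34 + q45 + q46 + q47 ≤ 4))
    (v5 : Hide ((0 : ℤ) + (0 : ℤ) + q25 + q35 + q45 + q56 + q57 ≤ 4))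
    (v6 : Hide ((0 : ℤ) + (0 : ℤ) + q26 + q36 + q46 + q56 + q67 ≤ 4))
    (v7 : Hide ((0 : ℤ) + (0 : ℤ) + q27 + q37 + q47 + q57 + q67 ≤ 4))
    (qn01 : Hide (0 ≤ (1 : ℤ)))
    (qn02 : Hide (0 ≤ (0 : ℤ)))
    (qn03 : Hide (0 ≤ (0 : ℤ)))
    (qn04 : Hide (0 ≤ (0 : ℤ)))
    (qn05 : Hide (0 ≤ (0 : ℤ)))
    (qn06 : Hide (0 ≤ (0 : ℤ)))
    (qn07 : Hide (0 ≤ (0 : ℤ)))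
    (qn12 : Hide (0 ≤ (1 : ℤ)))
    (qn13 : Hide (0 ≤ (0 : ℤ)))
    (qn14 : Hide (0 ≤ (1 : ℤ)))
    (qn15 : Hide (0 ≤ (0 : ℤ)))
    (qn16 : Hide (0 ≤ (0 : ℤ)))
    (qn17 : Hide (0 ≤ (0 : ℤ)))
    (qn23 : Hide (0 ≤ (2 : ℤ)))
    (qn24 : Hide (0 ≤ q24))
    (qn25 : Hide (0 ≤ q25))
    (qn26 : Hide (0 ≤ q26))
    (qn27 : Hide (0 ≤ q27))
    (qn34 : Hide (0 ≤ q34))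
    (qn35 : Hide (0 ≤ q35))
    (qn36 : Hide (0 ≤ q36))
    (qn37 : Hide (0 ≤ q37))
    (qn45 : Hide (0 ≤ q45))
    (qn46 : Hide (0 ≤ q46))
    (qn47 : Hide (0 ≤ q47))
    (qn56 : Hide (0 ≤ q56))
    (qn57 : Hide (0 ≤ q57))
    (qn67 : Hide (0 ≤ q67))
    (od1 : Hide (0 < (1 : ℤ)))
    (od2 : Hide (0 < (0 : ℤ) + (1 : ℤ)))
    (od3 : Hide (0 < (0 : ℤ) + (0 : ℤ) + (1 : ℤ)))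
    (od4 : Hide (0 < (0 : ℤ) + (1 : ℤ) + α24 + α34))
    (od5 : Hide (0 < (0 : ℤ) + (0 : ℤ) + α25 + α35 + α45))
    (od6 : Hide (0 < (0 : ℤ) + (0 : ℤ) + α26 + α36 + α46 + α56))
    (od7 : Hide (0 < (0 : ℤ) + (0 : ℤ) + α27 + α37 + α47 + α57 + α67))
    (c24 : Hide (((Hide (x24 = 0 ∧ x42 = 0) ∧ Hide (T.a 2 4 = 0 ∧ T.a 4 2 = 0) ∧ Hide (α24 = 0 ∧ α42 = 0)) ∧ q24 = 0) ∨ ((Hide (x24 = T.m 4 ∧ x42 = T.m 2) ∧ Hide (T.a 2 4 = T.w 2 ∧ T.a 4 2 = T.w 4) ∧ Hide (α24 = 1 ∧ α42 = 1)) ∧ q24 = 1) ∨ ((Hide (x24 = T.m 4 ∧ x42 = 2 * T.m 2) ∧ Hide (T.a 2 4 = T.w 2 ∧ T.a 4 2 = 2 * T.w 4) ∧ Hide (α24 = 1 ∧ α42 = 2)) ∧ q24 = 2) ∨ ((Hide (x24 = 2 * T.m 4 ∧ x42 = T.m 2) ∧ Hide (T.a 2 4 = 2 * T.w 2 ∧ T.a 4 2 = T.w 4) ∧ Hide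 (α24 = 2 ∧ α42 = 1)) ∧ q24 = 2) ∨ ((Hide (x24 = T.m 4 ∧ x42 = 3 * T.m 2) ∧ Hide (T.a 2 4 = T.w 2 ∧ T.a 4 2 = 3 * T.w 4) ∧ Hide (α24 = 1 ∧ α42 = 3)) ∧ q24 = 3) ∨ ((Hide (x24 = 3 * T.m 4 ∧ x42 = T.m 2) ∧ Hide (T.a 2 4 = 3 * T.w 2 ∧ T.a 4 2 = T.w 4) ∧ Hide (α24 = 3 ∧ α42 = 1)) ∧ q24 = 3) ∨ ((Hide (x24 = T.m 4 ∧ x42 = 4 * T.m 2) ∧ Hide (T.a 2 4 = T.w 2 ∧ T.a 4 2 = 4 * T.w 4) ∧ Hide (α24 = 1 ∧ α42 = 4)) ∧ q24 = 4) ∨ ((Hide (x24 = 4 * T.m 4 ∧ x42 = T.m 2) ∧ Hide (T.a 2 4 = 4 * T.w 2 ∧ T.a 4 2 = T.w 4) ∧ Hide (α24 = 4 ∧ α42 = 1)) ∧ q24 = 4) ∨ ((Hide (x24 = 2 * T.m 4 ∧ x42 = 2 * T.m 2) ∧ Hide (T.a 2 4 = 2 * T.w 2 ∧ T.a 4 2 = 2 * T.w 4) ∧ Hide (α24 = 2 ∧ α42 = 2)) ∧ q24 = 4)))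
    (c25 : Hide (((Hide (x25 = 0 ∧ x52 = 0) ∧ Hide (T.a 2 5 = 0 ∧ T.a 5 2 = 0) ∧ Hide (α25 = 0 ∧ α52 = 0)) ∧ q25 = 0) ∨ ((Hide (x25 = T.m 5 ∧ x52 = T.m 2) ∧ Hide (T.a 2 5 = T.w 2 ∧ T.a 5 2 = T.w 5) ∧ Hide (α25 = 1 ∧ α52 = 1)) ∧ q25 = 1) ∨ ((Hide (x25 = T.m 5 ∧ x52 = 2 * T.m 2) ∧ Hide (T.a 2 5 = T.w 2 ∧ T.a 5 2 = 2 * T.w 5) ∧ Hide (α25 = 1 ∧ α52 = 2)) ∧ q25 = 2) ∨ ((Hide (x25 = 2 * T.m 5 ∧ x52 = T.m 2) ∧ Hide (T.a 2 5 = 2 * T.w 2 ∧ T.a 5 2 = T.w 5) ∧ Hide (α25 = 2 ∧ α52 = 1)) ∧ q25 = 2) ∨ ((Hide (x25 = T.m 5 ∧ x52 = 3 * T.m 2) ∧ Hide (T.a 2 5 = T.w 2 ∧ T.a 5 2 = 3 * T.w 5) ∧ Hide (α25 = 1 ∧ α52 = 3)) ∧ q25 = 3) ∨ ((Hide (x25 = 3 * T.m 5 ∧ x52 = T.m 2) ∧ Hide (T.a 2 5 = 3 * T.w 2 ∧ T.a 5 2 = T.w 5)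 ∧ Hide (α25 = 3 ∧ α52 = 1)) ∧ q25 = 3) ∨ ((Hide (x25 = T.m 5 ∧ x52 = 4 * T.m 2) ∧ Hide (T.a 2 5 = T.w 2 ∧ T.a 5 2 = 4 * T.w 5) ∧ Hide (α25 = 1 ∧ α52 = 4)) ∧ q25 = 4) ∨ ((Hide (x25 = 4 * T.m 5 ∧ x52 = T.m 2) ∧ Hide (T.a 2 5 = 4 * T.w 2 ∧ T.a 5 2 = T.w 5) ∧ Hide (α25 = 4 ∧ α52 = 1)) ∧ q25 = 4) ∨ ((Hide (x25 = 2 * T.m 5 ∧ x52 = 2 * T.m 2) ∧ Hide (T.a 2 5 = 2 * T.w 2 ∧ T.a 5 2 = 2 * T.w 5) ∧ Hide (α25 = 2 ∧ α52 = 2)) ∧ q25 = 4)))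
    (c26 : Hide (((Hide (x26 = 0 ∧ x62 = 0) ∧ Hide (T.a 2 6 = 0 ∧ T.a 6 2 = 0) ∧ Hide (α26 = 0 ∧ α62 = 0)) ∧ q26 = 0) ∨ ((Hide (x26 = T.m 6 ∧ x62 = T.m 2) ∧ Hide (T.a 2 6 = T.w 2 ∧ T.a 6 2 = T.w 6) ∧ Hide (α26 = 1 ∧ α62 = 1)) ∧ q26 = 1) ∨ ((Hide (x26 = T.m 6 ∧ x62 = 2 * T.m 2) ∧ Hide (T.a 2 6 = T.w 2 ∧ T.a 6 2 = 2 * T.w 6) ∧ Hide (α26 = 1 ∧ α62 = 2)) ∧ q26 = 2) ∨ ((Hide (x26 = 2 * T.m 6 ∧ x62 = T.m 2) ∧ Hide (T.a 2 6 = 2 * T.w 2 ∧ T.a 6 2 = T.w 6) ∧ Hide (α26 = 2 ∧ α62 = 1)) ∧ q26 = 2) ∨ ((Hide (x26 = T.m 6 ∧ x62 = 3 * T.m 2) ∧ Hide (T.a 2 6 = T.w 2 ∧ T.a 6 2 = 3 * T.w 6) ∧ Hide (α26 = 1 ∧ α62 = 3)) ∧ q26 = 3) ∨ ((Hide (x26 = 3 * T.m 6 ∧ x62 = T.m 2) ∧ Hide (T.a 2 6 = 3 * T.w 2 ∧ T.a 6 2 = T.w 6)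 ∧ Hide (α26 = 3 ∧ α62 = 1)) ∧ q26 = 3) ∨ ((Hide (x26 = T.m 6 ∧ x62 = 4 * T.m 2) ∧ Hide (T.a 2 6 = T.w 2 ∧ T.a 6 2 = 4 * T.w 6) ∧ Hide (α26 = 1 ∧ α62 = 4)) ∧ q26 = 4) ∨ ((Hide (x26 = 4 * T.m 6 ∧ x62 = T.m 2) ∧ Hide (T.a 2 6 = 4 * T.w 2 ∧ T.a 6 2 = T.w 6) ∧ Hide (α26 = 4 ∧ α62 = 1)) ∧ q26 = 4) ∨ ((Hide (x26 = 2 * T.m 6 ∧ x62 = 2 * T.m 2) ∧ Hide (T.a 2 6 = 2 * T.w 2 ∧ T.a 6 2 = 2 * T.w 6) ∧ Hide (α26 = 2 ∧ α62 = 2)) ∧ q26 = 4)))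
    (c27 : Hide (((Hide (x27 = 0 ∧ x72 = 0) ∧ Hide (T.a 2 7 = 0 ∧ T.a 7 2 = 0) ∧ Hide (α27 = 0 ∧ α72 = 0)) ∧ q27 = 0) ∨ ((Hide (x27 = T.m 7 ∧ x72 = T.m 2) ∧ Hide (T.a 2 7 = T.w 2 ∧ T.a 7 2 = T.w 7) ∧ Hide (α27 = 1 ∧ α72 = 1)) ∧ q27 = 1) ∨ ((Hide (x27 = T.m 7 ∧ x72 = 2 * T.m 2) ∧ Hide (T.a 2 7 = T.w 2 ∧ T.a 7 2 = 2 * T.w 7) ∧ Hide (α27 = 1 ∧ α72 = 2)) ∧ q27 = 2) ∨ ((Hide (x27 = 2 * T.m 7 ∧ x72 = T.m 2) ∧ Hide (T.a 2 7 = 2 * T.w 2 ∧ T.a 7 2 = T.w 7) ∧ Hide (α27 = 2 ∧ α72 = 1)) ∧ q27 = 2) ∨ ((Hide (x27 = T.m 7 ∧ x72 = 3 * T.m 2) ∧ Hide (T.a 2 7 = T.w 2 ∧ T.a 7 2 = 3 * T.w 7) ∧ Hide (α27 = 1 ∧ α72 = 3)) ∧ q27 = 3) ∨ ((Hide (x27 = 3 * T.m 7 ∧ x72 = T.m 2) ∧ Hide (T.a 2 7 = 3 * T.w 2 ∧ T.a 7 2 = T.w 7)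 ∧ Hide (α27 = 3 ∧ α72 = 1)) ∧ q27 = 3) ∨ ((Hide (x27 = T.m 7 ∧ x72 = 4 * T.m 2) ∧ Hide (T.a 2 7 = T.w 2 ∧ T.a 7 2 = 4 * T.w 7) ∧ Hide (α27 = 1 ∧ α72 = 4)) ∧ q27 = 4) ∨ ((Hide (x27 = 4 * T.m 7 ∧ x72 = T.m 2) ∧ Hide (T.a 2 7 = 4 * T.w 2 ∧ T.a 7 2 = T.w 7) ∧ Hide (α27 = 4 ∧ α72 = 1)) ∧ q27 = 4) ∨ ((Hide (x27 = 2 * T.m 7 ∧ x72 = 2 * T.m 2) ∧ Hide (T.a 2 7 = 2 * T.w 2 ∧ T.a 7 2 = 2 * T.w 7) ∧ Hide (α27 = 2 ∧ α72 = 2)) ∧ q27 = 4)))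
    (c34 : Hide (((Hide (x34 = 0 ∧ x43 = 0) ∧ Hide (T.a 3 4 = 0 ∧ T.a 4 3 = 0) ∧ Hide (α34 = 0 ∧ α43 = 0)) ∧ q34 = 0) ∨ ((Hide (x34 = T.m 4 ∧ x43 = T.m 3) ∧ Hide (T.a 3 4 = T.w 3 ∧ T.a 4 3 = T.w 4) ∧ Hide (α34 = 1 ∧ α43 = 1)) ∧ q34 = 1) ∨ ((Hide (x34 = T.m 4 ∧ x43 = 2 * T.m 3) ∧ Hide (T.a 3 4 = T.w 3 ∧ T.a 4 3 = 2 * T.w 4) ∧ Hide (α34 = 1 ∧ α43 = 2)) ∧ q34 = 2) ∨ ((Hide (x34 = 2 * T.m 4 ∧ x43 = T.m 3) ∧ Hide (T.a 3 4 = 2 * T.w 3 ∧ T.a 4 3 = T.w 4) ∧ Hide (α34 = 2 ∧ α43 = 1)) ∧ q34 = 2) ∨ ((Hide (x34 = T.m 4 ∧ x43 = 3 * T.m 3) ∧ Hide (T.a 3 4 = T.w 3 ∧ T.a 4 3 = 3 * T.w 4) ∧ Hide (α34 = 1 ∧ α43 = 3)) ∧ q34 = 3) ∨ ((Hide (x34 = 3 * T.m 4 ∧ x43 = T.m 3) ∧ Hide (T.a 3 4 = 3 * T.w 3 ∧ T.a 4 3 = T.w 4)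 ∧ Hide (α34 = 3 ∧ α43 = 1)) ∧ q34 = 3) ∨ ((Hide (x34 = T.m 4 ∧ x43 = 4 * T.m 3) ∧ Hide (T.a 3 4 = T.w 3 ∧ T.a 4 3 = 4 * T.w 4) ∧ Hide (α34 = 1 ∧ α43 = 4)) ∧ q34 = 4) ∨ ((Hide (x34 = 4 * T.m 4 ∧ x43 = T.m 3) ∧ Hide (T.a 3 4 = 4 * T.w 3 ∧ T.a 4 3 = T.w 4) ∧ Hide (α34 = 4 ∧ α43 = 1)) ∧ q34 = 4) ∨ ((Hide (x34 = 2 * T.m 4 ∧ x43 = 2 * T.m 3) ∧ Hide (T.a 3 4 = 2 * T.w 3 ∧ T.a 4 3 = 2 * T.w 4) ∧ Hide (α34 = 2 ∧ α43 = 2)) ∧ q34 = 4)))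
    (c35 : Hide (((Hide (x35 = 0 ∧ x53 = 0) ∧ Hide (T.a 3 5 = 0 ∧ T.a 5 3 = 0) ∧ Hide (α35 = 0 ∧ α53 = 0)) ∧ q35 = 0) ∨ ((Hide (x35 = T.m 5 ∧ x53 = T.m 3) ∧ Hide (T.a 3 5 = T.w 3 ∧ T.a 5 3 = T.w 5) ∧ Hide (α35 = 1 ∧ α53 = 1)) ∧ q35 = 1) ∨ ((Hide (x35 = T.m 5 ∧ x53 = 2 * T.m 3) ∧ Hide (T.a 3 5 = T.w 3 ∧ T.a 5 3 = 2 * T.w 5) ∧ Hide (α35 = 1 ∧ α53 = 2)) ∧ q35 = 2) ∨ ((Hide (x35 = 2 * T.m 5 ∧ x53 = T.m 3) ∧ Hide (T.a 3 5 = 2 * T.w 3 ∧ T.a 5 3 = T.w 5) ∧ Hide (α35 = 2 ∧ α53 = 1)) ∧ q35 = 2) ∨ ((Hide (x35 = T.m 5 ∧ x53 = 3 * T.m 3) ∧ Hide (T.a 3 5 = T.w 3 ∧ T.a 5 3 = 3 * T.w 5) ∧ Hide (α35 = 1 ∧ α53 = 3)) ∧ q35 = 3) ∨ ((Hide (x35 = 3 * T.m 5 ∧ x53 = T.m 3) ∧ Hide (T.a 3 5 = 3 * T.w 3 ∧ T.a 5 3 = T.w 5)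 ∧ Hide (α35 = 3 ∧ α53 = 1)) ∧ q35 = 3) ∨ ((Hide (x35 = T.m 5 ∧ x53 = 4 * T.m 3) ∧ Hide (T.a 3 5 = T.w 3 ∧ T.a 5 3 = 4 * T.w 5) ∧ Hide (α35 = 1 ∧ α53 = 4)) ∧ q35 = 4) ∨ ((Hide (x35 = 4 * T.m 5 ∧ x53 = T.m 3) ∧ Hide (T.a 3 5 = 4 * T.w 3 ∧ T.a 5 3 = T.w 5) ∧ Hide (α35 = 4 ∧ α53 = 1)) ∧ q35 = 4) ∨ ((Hide (x35 = 2 * T.m 5 ∧ x53 = 2 * T.m 3) ∧ Hide (T.a 3 5 = 2 * T.w 3 ∧ T.a 5 3 = 2 * T.w 5) ∧ Hide (α35 = 2 ∧ α53 = 2)) ∧ q35 = 4)))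
    (c36 : Hide (((Hide (x36 = 0 ∧ x63 = 0) ∧ Hide (T.a 3 6 = 0 ∧ T.a 6 3 = 0) ∧ Hide (α36 = 0 ∧ α63 = 0)) ∧ q36 = 0) ∨ ((Hide (x36 = T.m 6 ∧ x63 = T.m 3) ∧ Hide (T.a 3 6 = T.w 3 ∧ T.a 6 3 = T.w 6) ∧ Hide (α36 = 1 ∧ α63 = 1)) ∧ q36 = 1) ∨ ((Hide (x36 = T.m 6 ∧ x63 = 2 * T.m 3) ∧ Hide (T.a 3 6 = T.w 3 ∧ T.a 6 3 = 2 * T.w 6) ∧ Hide (α36 = 1 ∧ α63 = 2)) ∧ q36 = 2) ∨ ((Hide (x36 = 2 * T.m 6 ∧ x63 = T.m 3) ∧ Hide (T.a 3 6 = 2 * T.w 3 ∧ T.a 6 3 = T.w 6) ∧ Hide (α36 = 2 ∧ α63 = 1)) ∧ q36 = 2) ∨ ((Hide (x36 = T.m 6 ∧ x63 = 3 * T.m 3) ∧ Hide (T.a 3 6 = T.w 3 ∧ T.a 6 3 = 3 * T.w 6) ∧ Hide (α36 = 1 ∧ α63 = 3)) ∧ q36 = 3) ∨ ((Hide (x36 = 3 * T.m 6 ∧ x63 = T.m 3) ∧ Hide (T.a 3 6 = 3 * T.w 3 ∧ T.a 6 3 = T.w 6)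 ∧ Hide (α36 = 3 ∧ α63 = 1)) ∧ q36 = 3) ∨ ((Hide (x36 = T.m 6 ∧ x63 = 4 * T.m 3) ∧ Hide (T.a 3 6 = T.w 3 ∧ T.a 6 3 = 4 * T.w 6) ∧ Hide (α36 = 1 ∧ α63 = 4)) ∧ q36 = 4) ∨ ((Hide (x36 = 4 * T.m 6 ∧ x63 = T.m 3) ∧ Hide (T.a 3 6 = 4 * T.w 3 ∧ T.a 6 3 = T.w 6) ∧ Hide (α36 = 4 ∧ α63 = 1)) ∧ q36 = 4) ∨ ((Hide (x36 = 2 * T.m 6 ∧ x63 = 2 * T.m 3) ∧ Hide (T.a 3 6 = 2 * T.w 3 ∧ T.a 6 3 = 2 * T.w 6) ∧ Hide (α36 = 2 ∧ α63 = 2)) ∧ q36 = 4)))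
    (c37 : Hide (((Hide (x37 = 0 ∧ x73 = 0) ∧ Hide (T.a 3 7 = 0 ∧ T.a 7 3 = 0) ∧ Hide (α37 = 0 ∧ α73 = 0)) ∧ q37 = 0) ∨ ((Hide (x37 = T.m 7 ∧ x73 = T.m 3) ∧ Hide (T.a 3 7 = T.w 3 ∧ T.a 7 3 = T.w 7) ∧ Hide (α37 = 1 ∧ α73 = 1)) ∧ q37 = 1) ∨ ((Hide (x37 = T.m 7 ∧ x73 = 2 * T.m 3) ∧ Hide (T.a 3 7 = T.w 3 ∧ T.a 7 3 = 2 * T.w 7) ∧ Hide (α37 = 1 ∧ α73 = 2)) ∧ q37 = 2) ∨ ((Hide (x37 = 2 * T.m 7 ∧ x73 = T.m 3) ∧ Hide (T.a 3 7 = 2 * T.w 3 ∧ T.a 7 3 = T.w 7) ∧ Hide (α37 = 2 ∧ α73 = 1)) ∧ q37 = 2) ∨ ((Hide (x37 = T.m 7 ∧ x73 = 3 * T.m 3) ∧ Hide (T.a 3 7 = T.w 3 ∧ T.a 7 3 = 3 * T.w 7) ∧ Hide (α37 = 1 ∧ α73 = 3)) ∧ q37 = 3) ∨ ((Hide (x37 = 3 * T.m 7 ∧ x73 = T.m 3) ∧ Hide (T.a 3 7 = 3 * T.w 3 ∧ T.a 7 3 = T.w 7)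 ∧ Hide (α37 = 3 ∧ α73 = 1)) ∧ q37 = 3) ∨ ((Hide (x37 = T.m 7 ∧ x73 = 4 * T.m 3) ∧ Hide (T.a 3 7 = T.w 3 ∧ T.a 7 3 = 4 * T.w 7) ∧ Hide (α37 = 1 ∧ α73 = 4)) ∧ q37 = 4) ∨ ((Hide (x37 = 4 * T.m 7 ∧ x73 = T.m 3) ∧ Hide (T.a 3 7 = 4 * T.w 3 ∧ T.a 7 3 = T.w 7) ∧ Hide (α37 = 4 ∧ α73 = 1)) ∧ q37 = 4) ∨ ((Hide (x37 = 2 * T.m 7 ∧ x73 = 2 * T.m 3) ∧ Hide (T.a 3 7 = 2 * T.w 3 ∧ T.a 7 3 = 2 * T.w 7) ∧ Hide (α37 = 2 ∧ α73 = 2)) ∧ q37 = 4)))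
    (c45 : Hide (((Hide (x45 = 0 ∧ x54 = 0) ∧ Hide (T.a 4 5 = 0 ∧ T.a 5 4 = 0) ∧ Hide (α45 = 0 ∧ α54 = 0)) ∧ q45 = 0) ∨ ((Hide (x45 = T.m 5 ∧ x54 = T.m 4) ∧ Hide (T.a 4 5 = T.w 4 ∧ T.a 5 4 = T.w 5) ∧ Hide (α45 = 1 ∧ α54 = 1)) ∧ q45 = 1) ∨ ((Hide (x45 = T.m 5 ∧ x54 = 2 * T.m 4) ∧ Hide (T.a 4 5 = T.w 4 ∧ T.a 5 4 = 2 * T.w 5) ∧ Hide (α45 = 1 ∧ α54 = 2)) ∧ q45 = 2) ∨ ((Hide (x45 = 2 * T.m 5 ∧ x54 = T.m 4) ∧ Hide (T.a 4 5 = 2 * T.w 4 ∧ T.a 5 4 = T.w 5) ∧ Hide (α45 = 2 ∧ α54 = 1)) ∧ q45 = 2) ∨ ((Hide (x45 = T.m 5 ∧ x54 = 3 * T.m 4) ∧ Hide (T.a 4 5 = T.w 4 ∧ T.a 5 4 = 3 * T.w 5) ∧ Hide (α45 = 1 ∧ α54 = 3)) ∧ q45 = 3) ∨ ((Hide (x45 = 3 * T.m 5 ∧ x54 = T.m 4) ∧ Hide (T.a 4 5 = 3 * T.w 4 ∧ T.a 5 4 = T.w 5)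 ∧ Hide (α45 = 3 ∧ α54 = 1)) ∧ q45 = 3) ∨ ((Hide (x45 = T.m 5 ∧ x54 = 4 * T.m 4) ∧ Hide (T.a 4 5 = T.w 4 ∧ T.a 5 4 = 4 * T.w 5) ∧ Hide (α45 = 1 ∧ α54 = 4)) ∧ q45 = 4) ∨ ((Hide (x45 = 4 * T.m 5 ∧ x54 = T.m 4) ∧ Hide (T.a 4 5 = 4 * T.w 4 ∧ T.a 5 4 = T.w 5) ∧ Hide (α45 = 4 ∧ α54 = 1)) ∧ q45 = 4) ∨ ((Hide (x45 = 2 * T.m 5 ∧ x54 = 2 * T.m 4) ∧ Hide (T.a 4 5 = 2 * T.w 4 ∧ T.a 5 4 = 2 * T.w 5) ∧ Hide (α45 = 2 ∧ α54 = 2)) ∧ q45 = 4)))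
    (c46 : Hide (((Hide (x46 = 0 ∧ x64 = 0) ∧ Hide (T.a 4 6 = 0 ∧ T.a 6 4 = 0) ∧ Hide (α46 = 0 ∧ α64 = 0)) ∧ q46 = 0) ∨ ((Hide (x46 = T.m 6 ∧ x64 = T.m 4) ∧ Hide (T.a 4 6 = T.w 4 ∧ T.a 6 4 = T.w 6) ∧ Hide (α46 = 1 ∧ α64 = 1)) ∧ q46 = 1) ∨ ((Hide (x46 = T.m 6 ∧ x64 = 2 * T.m 4) ∧ Hide (T.a 4 6 = T.w 4 ∧ T.a 6 4 = 2 * T.w 6) ∧ Hide (α46 = 1 ∧ α64 = 2)) ∧ q46 = 2) ∨ ((Hide (x46 = 2 * T.m 6 ∧ x64 = T.m 4) ∧ Hide (T.a 4 6 = 2 * T.w 4 ∧ T.a 6 4 = T.w 6) ∧ Hide (α46 = 2 ∧ α64 = 1)) ∧ q46 = 2) ∨ ((Hide (x46 = T.m 6 ∧ x64 = 3 * T.m 4) ∧ Hide (T.a 4 6 = T.w 4 ∧ T.a 6 4 = 3 * T.w 6) ∧ Hide (α46 = 1 ∧ α64 = 3)) ∧ q46 = 3) ∨ ((Hide (x46 = 3 * T.m 6 ∧ x64 = T.m 4) ∧ Hide (T.a 4 6 = 3 * T.w 4 ∧ T.a 6 4 = T.w 6)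 ∧ Hide (α46 = 3 ∧ α64 = 1)) ∧ q46 = 3) ∨ ((Hide (x46 = T.m 6 ∧ x64 = 4 * T.m 4) ∧ Hide (T.a 4 6 = T.w 4 ∧ T.a 6 4 = 4 * T.w 6) ∧ Hide (α46 = 1 ∧ α64 = 4)) ∧ q46 = 4) ∨ ((Hide (x46 = 4 * T.m 6 ∧ x64 = T.m 4) ∧ Hide (T.a 4 6 = 4 * T.w 4 ∧ T.a 6 4 = T.w 6) ∧ Hide (α46 = 4 ∧ α64 = 1)) ∧ q46 = 4) ∨ ((Hide (x46 = 2 * T.m 6 ∧ x64 = 2 * T.m 4) ∧ Hide (T.a 4 6 = 2 * T.w 4 ∧ T.a 6 4 = 2 * T.w 6) ∧ Hide (α46 = 2 ∧ α64 = 2)) ∧ q46 = 4)))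
    (c47 : Hide (((Hide (x47 = 0 ∧ x74 = 0) ∧ Hide (T.a 4 7 = 0 ∧ T.a 7 4 = 0) ∧ Hide (α47 = 0 ∧ α74 = 0)) ∧ q47 = 0) ∨ ((Hide (x47 = T.m 7 ∧ x74 = T.m 4) ∧ Hide (T.a 4 7 = T.w 4 ∧ T.a 7 4 = T.w 7) ∧ Hide (α47 = 1 ∧ α74 = 1)) ∧ q47 = 1) ∨ ((Hide (x47 = T.m 7 ∧ x74 = 2 * T.m 4) ∧ Hide (T.a 4 7 = T.w 4 ∧ T.a 7 4 = 2 * T.w 7) ∧ Hide (α47 = 1 ∧ α74 = 2)) ∧ q47 = 2) ∨ ((Hide (x47 = 2 * T.m 7 ∧ x74 = T.m 4) ∧ Hide (T.a 4 7 = 2 * T.w 4 ∧ T.a 7 4 = T.w 7) ∧ Hide (α47 = 2 ∧ α74 = 1)) ∧ q47 = 2) ∨ ((Hide (x47 = T.m 7 ∧ x74 = 3 * T.m 4) ∧ Hide (T.a 4 7 = T.w 4 ∧ T.a 7 4 = 3 * T.w 7) ∧ Hide (α47 = 1 ∧ α74 = 3)) ∧ q47 = 3) ∨ ((Hide (x47 = 3 * T.m 7 ∧ x74 = T.m 4) ∧ Hide (T.a 4 7 = 3 * T.w 4 ∧ T.a 7 4 = T.w 7)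 ∧ Hide (α47 = 3 ∧ α74 = 1)) ∧ q47 = 3) ∨ ((Hide (x47 = T.m 7 ∧ x74 = 4 * T.m 4) ∧ Hide (T.a 4 7 = T.w 4 ∧ T.a 7 4 = 4 * T.w 7) ∧ Hide (α47 = 1 ∧ α74 = 4)) ∧ q47 = 4) ∨ ((Hide (x47 = 4 * T.m 7 ∧ x74 = T.m 4) ∧ Hide (T.a 4 7 = 4 * T.w 4 ∧ T.a 7 4 = T.w 7) ∧ Hide (α47 = 4 ∧ α74 = 1)) ∧ q47 = 4) ∨ ((Hide (x47 = 2 * T.m 7 ∧ x74 = 2 * T.m 4) ∧ Hide (T.a 4 7 = 2 * T.w 4 ∧ T.a 7 4 = 2 * T.w 7) ∧ Hide (α47 = 2 ∧ α74 = 2)) ∧ q47 = 4)))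
    (c56 : Hide (((Hide (x56 = 0 ∧ x65 = 0) ∧ Hide (T.a 5 6 = 0 ∧ T.a 6 5 = 0) ∧ Hide (α56 = 0 ∧ α65 = 0)) ∧ q56 = 0) ∨ ((Hide (x56 = T.m 6 ∧ x65 = T.m 5) ∧ Hide (T.a 5 6 = T.w 5 ∧ T.a 6 5 = T.w 6) ∧ Hide (α56 = 1 ∧ α65 = 1)) ∧ q56 = 1) ∨ ((Hide (x56 = T.m 6 ∧ x65 = 2 * T.m 5) ∧ Hide (T.a 5 6 = T.w 5 ∧ T.a 6 5 = 2 * T.w 6) ∧ Hide (α56 = 1 ∧ α65 = 2)) ∧ q56 = 2) ∨ ((Hide (x56 = 2 * T.m 6 ∧ x65 = T.m 5) ∧ Hide (T.a 5 6 = 2 * T.w 5 ∧ T.a 6 5 = T.w 6) ∧ Hide (α56 = 2 ∧ α65 = 1)) ∧ q56 = 2) ∨ ((Hide (x56 = T.m 6 ∧ x65 = 3 * T.m 5) ∧ Hide (T.a 5 6 = T.w 5 ∧ T.a 6 5 = 3 * T.w 6) ∧ Hide (α56 = 1 ∧ α65 = 3)) ∧ q56 = 3) ∨ ((Hide (x56 = 3 * T.m 6 ∧ x65 = T.m 5) ∧ Hide (T.a 5 6 = 3 * T.w 5 ∧ T.a 6 5 = T.w 6)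 ∧ Hide (α56 = 3 ∧ α65 = 1)) ∧ q56 = 3) ∨ ((Hide (x56 = T.m 6 ∧ x65 = 4 * T.m 5) ∧ Hide (T.a 5 6 = T.w 5 ∧ T.a 6 5 = 4 * T.w 6) ∧ Hide (α56 = 1 ∧ α65 = 4)) ∧ q56 = 4) ∨ ((Hide (x56 = 4 * T.m 6 ∧ x65 = T.m 5) ∧ Hide (T.a 5 6 = 4 * T.w 5 ∧ T.a 6 5 = T.w 6) ∧ Hide (α56 = 4 ∧ α65 = 1)) ∧ q56 = 4) ∨ ((Hide (x56 = 2 * T.m 6 ∧ x65 = 2 * T.m 5) ∧ Hide (T.a 5 6 = 2 * T.w 5 ∧ T.a 6 5 = 2 * T.w 6) ∧ Hide (α56 = 2 ∧ α65 = 2)) ∧ q56 = 4)))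
    (c57 : Hide (((Hide (x57 = 0 ∧ x75 = 0) ∧ Hide (T.a 5 7 = 0 ∧ T.a 7 5 = 0) ∧ Hide (α57 = 0 ∧ α75 = 0)) ∧ q57 = 0) ∨ ((Hide (x57 = T.m 7 ∧ x75 = T.m 5) ∧ Hide (T.a 5 7 = T.w 5 ∧ T.a 7 5 = T.w 7) ∧ Hide (α57 = 1 ∧ α75 = 1)) ∧ q57 = 1) ∨ ((Hide (x57 = T.m 7 ∧ x75 = 2 * T.m 5) ∧ Hide (T.a 5 7 = T.w 5 ∧ T.a 7 5 = 2 * T.w 7) ∧ Hide (α57 = 1 ∧ α75 = 2)) ∧ q57 = 2) ∨ ((Hide (x57 = 2 * T.m 7 ∧ x75 = T.m 5) ∧ Hide (T.a 5 7 = 2 * T.w 5 ∧ T.a 7 5 = T.w 7) ∧ Hide (α57 = 2 ∧ α75 = 1)) ∧ q57 = 2) ∨ ((Hide (x57 = T.m 7 ∧ x75 = 3 * T.m 5) ∧ Hide (T.a 5 7 = T.w 5 ∧ T.a 7 5 = 3 * T.w 7) ∧ Hide (α57 = 1 ∧ α75 = 3)) ∧ q57 = 3) ∨ ((Hide (x57 = 3 * T.m 7 ∧ x75 = T.m 5) ∧ Hide (T.a 5 7 = 3 * T.w 5 ∧ T.a 7 5 = T.w 7)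 ∧ Hide (α57 = 3 ∧ α75 = 1)) ∧ q57 = 3) ∨ ((Hide (x57 = T.m 7 ∧ x75 = 4 * T.m 5) ∧ Hide (T.a 5 7 = T.w 5 ∧ T.a 7 5 = 4 * T.w 7) ∧ Hide (α57 = 1 ∧ α75 = 4)) ∧ q57 = 4) ∨ ((Hide (x57 = 4 * T.m 7 ∧ x75 = T.m 5) ∧ Hide (T.a 5 7 = 4 * T.w 5 ∧ T.a 7 5 = T.w 7) ∧ Hide (α57 = 4 ∧ α75 = 1)) ∧ q57 = 4) ∨ ((Hide (x57 = 2 * T.m 7 ∧ x75 = 2 * T.m 5) ∧ Hide (T.a 5 7 = 2 * T.w 5 ∧ T.a 7 5 = 2 * T.w 7) ∧ Hide (α57 = 2 ∧ α75 = 2)) ∧ q57 = 4)))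
    (c67 : Hide (((Hide (x67 = 0 ∧ x76 = 0) ∧ Hide (T.a 6 7 = 0 ∧ T.a 7 6 = 0) ∧ Hide (α67 = 0 ∧ α76 = 0)) ∧ q67 = 0) ∨ ((Hide (x67 = T.m 7 ∧ x76 = T.m 6) ∧ Hide (T.a 6 7 = T.w 6 ∧ T.a 7 6 = T.w 7) ∧ Hide (α67 = 1 ∧ α76 = 1)) ∧ q67 = 1) ∨ ((Hide (x67 = T.m 7 ∧ x76 = 2 * T.m 6) ∧ Hide (T.a 6 7 = T.w 6 ∧ T.a 7 6 = 2 * T.w 7) ∧ Hide (α67 = 1 ∧ α76 = 2)) ∧ q67 = 2) ∨ ((Hide (x67 = 2 * T.m 7 ∧ x76 = T.m 6) ∧ Hide (T.a 6 7 = 2 * T.w 6 ∧ T.a 7 6 = T.w 7) ∧ Hide (α67 = 2 ∧ α76 = 1)) ∧ q67 = 2) ∨ ((Hide (x67 = T.m 7 ∧ x76 = 3 * T.m 6) ∧ Hide (T.a 6 7 = T.w 6 ∧ T.a 7 6 = 3 * T.w 7) ∧ Hide (α67 = 1 ∧ α76 = 3)) ∧ q67 = 3) ∨ ((Hide (x67 = 3 * T.m 7 ∧ x76 = T.m 6) ∧ Hide (T.a 6 7 = 3 * T.w 6 ∧ T.a 7 6 = T.w 7)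 ∧ Hide (α67 = 3 ∧ α76 = 1)) ∧ q67 = 3) ∨ ((Hide (x67 = T.m 7 ∧ x76 = 4 * T.m 6) ∧ Hide (T.a 6 7 = T.w 6 ∧ T.a 7 6 = 4 * T.w 7) ∧ Hide (α67 = 1 ∧ α76 = 4)) ∧ q67 = 4) ∨ ((Hide (x67 = 4 * T.m 7 ∧ x76 = T.m 6) ∧ Hide (T.a 6 7 = 4 * T.w 6 ∧ T.a 7 6 = T.w 7) ∧ Hide (α67 = 4 ∧ α76 = 1)) ∧ q67 = 4) ∨ ((Hide (x67 = 2 * T.m 7 ∧ x76 = 2 * T.m 6) ∧ Hide (T.a 6 7 = 2 * T.w 6 ∧ T.a 7 6 = 2 * T.w 7) ∧ Hide (α67 = 2 ∧ α76 = 2)) ∧ q67 = 4)))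
    (gw01 : Hide (T.a 0 1 = T.w 0 ∧ T.a 1 0 = T.w 1))
    (gw02 : Hide (T.a 0 2 = 0 ∧ T.a 2 0 = 0))
    (gw03 : Hide (T.a 0 3 = 0 ∧ T.a 3 0 = 0))
    (gw04 : Hide (T.a 0 4 = 0 ∧ T.a 4 0 = 0))
    (gw05 : Hide (T.a 0 5 = 0 ∧ T.a 5 0 = 0))
    (gw06 : Hide (T.a 0 6 = 0 ∧ T.a 6 0 = 0))
    (gw07 : Hide (T.a 0 7 = 0 ∧ T.a 7 0 = 0))
    (gw12 : Hide (T.a 1 2 = T.w 1 ∧ T.a 2 1 = T.w 2))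
    (gw13 : Hide (T.a 1 3 = 0 ∧ T.a 3 1 = 0))
    (gw14 : Hide (T.a 1 4 = T.w 1 ∧ T.a 4 1 = T.w 4))
    (gw15 : Hide (T.a 1 5 = 0 ∧ T.a 5 1 = 0))
    (gw16 : Hide (T.a 1 6 = 0 ∧ T.a 6 1 = 0))
    (gw17 : Hide (T.a 1 7 = 0 ∧ T.a 7 1 = 0))
    (gw23 : Hide (T.a 2 3 = T.w 2 ∧ T.a 3 2 = 2 * T.w 3)) : Goal T := by
  have t := pc1 q24 c24.out (by have := v2.out; have := qn25.out; have := qn26.out; have := qn27.out; omega)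
  clear c24
  rcases t with ⟨⟨⟨rfl, rfl⟩, gw24, ⟨rfl, rfl⟩⟩, rfl⟩ | ⟨⟨⟨rfl, rfl⟩, gw24, ⟨rfl, rfl⟩⟩, rfl⟩
  · have t := pc1 q25 c25.out (by have := v2.out; have := qn26.out; have := qn27.out; omega)
    clear c25
    rcases t with ⟨⟨⟨rfl, rfl⟩, gw25, ⟨rfl, rfl⟩⟩, rfl⟩ | ⟨⟨⟨rfl, rfl⟩, gw25, ⟨rfl, rfl⟩⟩, rfl⟩
    · have t := pc1 q26 c26.out (by have := v2.out; have := qn27.out; omega)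
      clear c26
      rcases t with ⟨⟨⟨rfl, rfl⟩, gw26, ⟨rfl, rfl⟩⟩, rfl⟩ | ⟨⟨⟨rfl, rfl⟩, gw26, ⟨rfl, rfl⟩⟩, rfl⟩
      · have t := pc1 q27 c27.out (by have := v2.out; omega)
        clear c27
        rcases t with ⟨⟨⟨rfl, rfl⟩, gw27, ⟨rfl, rfl⟩⟩, rfl⟩ | ⟨⟨⟨rfl, rfl⟩, gw27, ⟨rfl, rfl⟩⟩, rfl⟩
        · have t := pc2 q34 c34.out (by have := v3.out; have := qn35.out; have := qn36.out; have := qn37.out; omega)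
          clear c34
          rcases t with ⟨⟨⟨rfl, rfl⟩, gw34, ⟨rfl, rfl⟩⟩, rfl⟩ | ⟨⟨⟨rfl, rfl⟩, gw34, ⟨rfl, rfl⟩⟩, rfl⟩ | ⟨⟨⟨rfl, rfl⟩, gw34, ⟨rfl, rfl⟩⟩, rfl⟩ | ⟨⟨⟨rfl, rfl⟩, gw34, ⟨rfl, rfl⟩⟩, rfl⟩
          · have t := pc2 q35 c35.out (by have := v3.out; have := qn36.out; have := qn37.out; omega)
            clear c35
            rcases t with ⟨⟨⟨rfl, rfl⟩, gw35, ⟨rfl, rfl⟩⟩, rfl⟩ | ⟨⟨⟨rfl, rfl⟩, gw35, ⟨rfl, rfl⟩⟩, rfl⟩ | ⟨⟨⟨rfl, rfl⟩, gw35, ⟨rfl, rfl⟩⟩, rfl⟩ | ⟨⟨⟨rfl, rfl⟩, gw35, ⟨rfl, rfl⟩⟩, rfl⟩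
            · have t := pc2 q36 c36.out (by have := v3.out; have := qn37.out; omega)
              clear c36
              rcases t with ⟨⟨⟨rfl, rfl⟩, gw36, ⟨rfl, rfl⟩⟩, rfl⟩ | ⟨⟨⟨rfl, rfl⟩, gw36, ⟨rfl, rfl⟩⟩, rfl⟩ | ⟨⟨⟨rfl, rfl⟩, gw36, ⟨rfl, rfl⟩⟩, rfl⟩ | ⟨⟨⟨rfl, rfl⟩, gw36, ⟨rfl, rfl⟩⟩, rfl⟩
              · have t := pc2 q37 c37.out (by have := v3.out; omega)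
                clear c37
                rcases t with ⟨⟨⟨rfl, rfl⟩, gw37, ⟨rfl, rfl⟩⟩, rfl⟩ | ⟨⟨⟨rfl, rfl⟩, gw37, ⟨rfl, rfl⟩⟩, rfl⟩ | ⟨⟨⟨rfl, rfl⟩, gw37, ⟨rfl, rfl⟩⟩, rfl⟩ | ⟨⟨⟨rfl, rfl⟩, gw37, ⟨rfl, rfl⟩⟩, rfl⟩
                · have t := pc3 q45 c45.out (by have := v4.out; have := qn46.out; have := qn47.out; omega)
                  clear c45
                  rcases t with ⟨⟨⟨rfl, rfl⟩, gw45, ⟨rfl, rfl⟩⟩, rfl⟩ | ⟨⟨⟨rfl, rfl⟩, gw45, ⟨rfl, rfl⟩⟩, rfl⟩ | ⟨⟨⟨rfl, rfl⟩, gw45, ⟨rfl, rfl⟩⟩, rfl⟩ | ⟨⟨⟨rfl, rfl⟩, gw45, ⟨rfl, rfl⟩⟩, rfl⟩ | ⟨⟨⟨rfl, rfl⟩, gw45, ⟨rfl, rfl⟩⟩, rfl⟩ | ⟨⟨⟨rfl, rfl⟩, gw45, ⟨rfl, rfl⟩⟩, rfl⟩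
                  · (have := od5.out; omega)
                  · (have := hm5.out; have := e0.out; have := e1.out; have := e2.out; have := e3.out; have := e4.out; have := r46.out; have := r47.out; omega)
                  · (have := hm0.out; have := e1.out; have := e2.out; have := e3.out; have := e4.out; have := r46.out; have := r47.out; have := e5.out; have := r56.out; have := r57.out; omega)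
                  · (have := hm0.out; have := e1.out; have := e2.out; have := e3.out; have := e4.out; have := r46.out; have := r47.out; have := e5.out; have := r56.out; have := r57.out; omega)
                  · (have := hm5.out; have := e0.out; have := e1.out; have := e2.out; have := e3.out; have := e4.out; have := r46.out; have := r47.out; omega)
                  · (have := hm5.out; have := e0.out; have := e1.out; have := e2.out; have := e3.out; have := e4.out; have := r46.out; have := r47.out; omega)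
                · (have := hm7.out; have := om4.out; have := e0.out; have := e1.out; have := e2.out; have := e3.out; omega)
                · (have := hm7.out; have := om4.out; have := e0.out; have := e1.out; have := e2.out; have := e3.out; omega)
                · (have := hm7.out; have := om4.out; have := e0.out; have := e1.out; have := e2.out; have := e3.out; omega)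
              · (have := hm6.out; have := om4.out; have := e0.out; have := e1.out; have := e2.out; have := e3.out; have := r37.out; omega)
              · (have := hm6.out; have := om4.out; have := e0.out; have := e1.out; have := e2.out; have := e3.out; have := r37.out; omega)
              · (have := hm6.out; have := om4.out; have := e0.out; have := e1.out; have := e2.out; have := e3.out; have := r37.out; omega)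
            · (have := hm5.out; have := om4.out; have := e0.out; have := e1.out; have := e2.out; have := e3.out; have := r36.out; have := r37.out; omega)
            · (have := hm5.out; have := om4.out; have := e0.out; have := e1.out; have := e2.out; have := e3.out; have := r36.out; have := r37.out; omega)
            · (have := hm5.out; have := om4.out; have := e0.out; have := e1.out; have := e2.out; have := e3.out; have := r36.out; have := r37.out; omega)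
          · (have := hm3.out; have := e0.out; have := e1.out; have := e2.out; have := e3.out; have := r35.out; have := r36.out; have := r37.out; have := e4.out; have := r45.out; have := r46.out; have := r47.out; omega)
          · (have := hm3.out; have := om3.out; have := e0.out; have := e1.out; have := e2.out; have := e4.out; have := r45.out; have := r46.out; have := r47.out; omega)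
          · (have := hm0.out; have := hm3.out; have := e1.out; have := e2.out; have := e3.out; have := r35.out; have := r36.out; have := r37.out; have := e4.out; have := r45.out; have := r46.out; have := r47.out; omega)
        · (have := hm7.out; have := om4.out; have := e0.out; have := e1.out; have := e2.out; have := e3.out; have := r34.out; have := r35.out; have := r36.out; have := r37.out; omega)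
      · (have := hm6.out; have := om4.out; have := e0.out; have := e1.out; have := e2.out; have := r27.out; have := e3.out; have := r34.out; have := r35.out; have := r36.out; have := r37.out; omega)
    · (have := hm5.out; have := om4.out; have := e0.out; have := e1.out; have := e2.out; have := r26.out; have := r27.out; have := e3.out; have := r34.out; have := r35.out; have := r36.out; have := r37.out; omega)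
  · (have := hm0.out; have := om3.out; have := e1.out; have := e2.out; have := r25.out; have := r26.out; have := r27.out; have := e4.out; have := r43.out; have := r45.out; have := r46.out; have := r47.out; omega)

set_option maxHeartbeats 0 in
theorem part37 (T : Models.NumericalType 8) (α24 α25 α26 α27 α34 α35 α36 α37 α42 α43 α45 α46 α47 α52 α53 α54 α56 α57 α62 α63 α64 α65 α67 α72 α73 α74 α75 α76 x24 x25 x26 x27 x34 x35 x36 x37 x42 x43 x45 x46 x47 x52 x53 x54 x56 x57 x62 x63 x64 x65 x67 x72 x73 x74 x75 x76 q24 q25 q26 q27 q34 q35 q36 q37 q45 q46 q47 q56 q57 q67 : ℤ)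
    (hm0 : Hide (0 < T.m 0))
    (hm1 : Hide (0 < T.m 1))
    (hm2 : Hide (0 < T.m 2))
    (hm3 : Hide (0 < T.m 3))
    (hm4 : Hide (0 < T.m 4))
    (hm5 : Hide (0 < T.m 5))
    (hm6 : Hide (0 < T.m 6))
    (hm7 : Hide (0 < T.m 7))
    (om1 : Hide (T.m 0 ≤ T.m 1))
    (om2 : Hide (T.m 0 ≤ T.m 2))
    (om3 : Hide (T.m 0 ≤ T.m 3))
    (om4 : Hide (T.m 0 ≤ T.m 4))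
    (om5 : Hide (T.m 0 ≤ T.m 5))
    (om6 : Hide (T.m 0 ≤ T.m 6))
    (om7 : Hide (T.m 0 ≤ T.m 7))
    (e0 : Hide (T.m 1 + (0 : ℤ) + (0 : ℤ) + (0 : ℤ) + (0 : ℤ) + (0 : ℤ) + (0 : ℤ) = 2 * T.m 0))
    (e1 : Hide (T.m 0 + T.m 2 + (0 : ℤ) + T.m 4 + (0 : ℤ) + (0 : ℤ) + (0 : ℤ) = 2 * T.m 1))
    (e2 : Hide ((0 : ℤ) + T.m 1 + 2 * T.m 3 + x24 + x25 + x26 + x27 = 2 * T.m 2))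
    (e3 : Hide ((0 : ℤ) + (0 : ℤ) + T.m 2 + x34 + x35 + x36 + x37 = 2 * T.m 3))
    (e4 : Hide ((0 : ℤ) + T.m 1 + x42 + x43 + x45 + x46 + x47 = 2 * T.m 4))
    (e5 : Hide ((0 : ℤ) + (0 : ℤ) + x52 + x53 + x54 + x56 + x57 = 2 * T.m 5))
    (e6 : Hide ((0 : ℤ) + (0 : ℤ) + x62 + x63 + x64 + x65 + x67 = 2 * T.m 6))
    (e7 : Hide ((0 : ℤ) + (0 : ℤ) + x72 + x73 + x74 + x75 + x76 = 2 * T.m 7))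
    (r01 : Hide (0 ≤ T.m 1))
    (r02 : Hide (0 ≤ (0 : ℤ)))
    (r03 : Hide (0 ≤ (0 : ℤ)))
    (r04 : Hide (0 ≤ (0 : ℤ)))
    (r05 : Hide (0 ≤ (0 : ℤ)))
    (r06 : Hide (0 ≤ (0 : ℤ)))
    (r07 : Hide (0 ≤ (0 : ℤ)))
    (r10 : Hide (0 ≤ T.m 0))
    (r12 : Hide (0 ≤ T.m 2))
    (r13 : Hide (0 ≤ (0 : ℤ)))
    (r14 : Hide (0 ≤ T.m 4))
    (r15 : Hide (0 ≤ (0 : ℤ)))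
    (r16 : Hide (0 ≤ (0 : ℤ)))
    (r17 : Hide (0 ≤ (0 : ℤ)))
    (r20 : Hide (0 ≤ (0 : ℤ)))
    (r21 : Hide (0 ≤ T.m 1))
    (r23 : Hide (0 ≤ 2 * T.m 3))
    (r24 : Hide (0 ≤ x24))
    (r25 : Hide (0 ≤ x25))
    (r26 : Hide (0 ≤ x26))
    (r27 : Hide (0 ≤ x27))
    (r30 : Hide (0 ≤ (0 : ℤ)))
    (r31 : Hide (0 ≤ (0 : ℤ)))
    (r32 : Hide (0 ≤ T.m 2))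
    (r34 : Hide (0 ≤ x34))
    (r35 : Hide (0 ≤ x35))
    (r36 : Hide (0 ≤ x36))
    (r37 : Hide (0 ≤ x37))
    (r40 : Hide (0 ≤ (0 : ℤ)))
    (r41 : Hide (0 ≤ T.m 1))
    (r42 : Hide (0 ≤ x42))
    (r43 : Hide (0 ≤ x43))
    (r45 : Hide (0 ≤ x45))
    (r46 : Hide (0 ≤ x46))
    (r47 : Hide (0 ≤ x47))
    (r50 : Hide (0 ≤ (0 : ℤ)))
    (r51 : Hide (0 ≤ (0 : ℤ)))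
    (r52 : Hide (0 ≤ x52))
    (r53 : Hide (0 ≤ x53))
    (r54 : Hide (0 ≤ x54))
    (r56 : Hide (0 ≤ x56))
    (r57 : Hide (0 ≤ x57))
    (r60 : Hide (0 ≤ (0 : ℤ)))
    (r61 : Hide (0 ≤ (0 : ℤ)))
    (r62 : Hide (0 ≤ x62))
    (r63 : Hide (0 ≤ x63))
    (r64 : Hide (0 ≤ x64))
    (r65 : Hide (0 ≤ x65))
    (r67 : Hide (0 ≤ x67))
    (r70 : Hide (0 ≤ (0 : ℤ)))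
    (r71 : Hide (0 ≤ (0 : ℤ)))
    (r72 : Hide (0 ≤ x72))
    (r73 : Hide (0 ≤ x73))
    (r74 : Hide (0 ≤ x74))
    (r75 : Hide (0 ≤ x75))
    (r76 : Hide (0 ≤ x76))
    (hw0 : Hide (0 < T.w 0))
    (hw1 : Hide (0 < T.w 1))
    (hw2 : Hide (0 < T.w 2))
    (hw3 : Hide (0 < T.w 3))
    (hw4 : Hide (0 < T.w 4))
    (hw5 : Hide (0 < T.w 5))
    (hw6 : Hide (0 < T.w 6))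
    (hw7 : Hide (0 < T.w 7))
    (hs01 : Hide (T.a 0 1 = T.a 1 0))
    (hs02 : Hide (T.a 0 2 = T.a 2 0))
    (hs03 : Hide (T.a 0 3 = T.a 3 0))
    (hs04 : Hide (T.a 0 4 = T.a 4 0))
    (hs05 : Hide (T.a 0 5 = T.a 5 0))
    (hs06 : Hide (T.a 0 6 = T.a 6 0))
    (hs07 : Hide (T.a 0 7 = T.a 7 0))
    (hs12 : Hide (T.a 1 2 = T.a 2 1))
    (hs13 : Hide (T.a 1 3 = T.a 3 1))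
    (hs14 : Hide (T.a 1 4 = T.a 4 1))
    (hs15 : Hide (T.a 1 5 = T.a 5 1))
    (hs16 : Hide (T.a 1 6 = T.a 6 1))
    (hs17 : Hide (T.a 1 7 = T.a 7 1))
    (hs23 : Hide (T.a 2 3 = T.a 3 2))
    (hs24 : Hide (T.a 2 4 = T.a 4 2))
    (hs25 : Hide (T.a 2 5 = T.a 5 2))
    (hs26 : Hide (T.a 2 6 = T.a 6 2))
    (hs27 : Hide (T.a 2 7 = T.a 7 2))
    (hs34 : Hide (T.a 3 4 = T.a 4 3))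
    (hs35 : Hide (T.a 3 5 = T.a 5 3))
    (hs36 : Hide (T.a 3 6 = T.a 6 3))
    (hs37 : Hide (T.a 3 7 = T.a 7 3))
    (hs45 : Hide (T.a 4 5 = T.a 5 4))
    (hs46 : Hide (T.a 4 6 = T.a 6 4))
    (hs47 : Hide (T.a 4 7 = T.a 7 4))
    (hs56 : Hide (T.a 5 6 = T.a 6 5))
    (hs57 : Hide (T.a 5 7 = T.a 7 5))
    (hs67 : Hide (T.a 6 7 = T.a 7 6))
    (ha00 : Hide (T.a 0 0 = -2 * T.w 0))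
    (ha11 : Hide (T.a 1 1 = -2 * T.w 1))
    (ha22 : Hide (T.a 2 2 = -2 * T.w 2))
    (ha33 : Hide (T.a 3 3 = -2 * T.w 3))
    (ha44 : Hide (T.a 4 4 = -2 * T.w 4))
    (ha55 : Hide (T.a 5 5 = -2 * T.w 5))
    (ha66 : Hide (T.a 6 6 = -2 * T.w 6))
    (ha77 : Hide (T.a 7 7 = -2 * T.w 7))
    (v0 : Hide ((1 : ℤ) + (0 : ℤ) + (0 : ℤ) + (0 : ℤ) + (0 : ℤ) + (0 : ℤ) + (0 : ℤ) ≤ 4))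
    (v1 : Hide ((1 : ℤ) + (1 : ℤ) + (0 : ℤ) + (1 : ℤ) + (0 : ℤ) + (0 : ℤ) + (0 : ℤ) ≤ 4))
    (v2 : Hide ((0 : ℤ) + (1 : ℤ) + (2 : ℤ) + q24 + q25 + q26 + q27 ≤ 4))
    (v3 : Hide ((0 : ℤ) + (0 : ℤ) + (2 : ℤ) + q34 + q35 + q36 + q37 ≤ 4))
    (v4 : Hide ((0 : ℤ) + (1 : ℤ) + q24 + q34 + q45 + q46 + q47 ≤ 4))
    (v5 : Hide ((0 : ℤ) + (0 : ℤ) + q25 + q35 + q45 + q56 + q57 ≤ 4))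
    (v6 : Hide ((0 : ℤ) + (0 : ℤ) + q26 + q36 + q46 + q56 + q67 ≤ 4))
    (v7 : Hide ((0 : ℤ) + (0 : ℤ) + q27 + q37 + q47 + q57 + q67 ≤ 4))
    (qn01 : Hide (0 ≤ (1 : ℤ)))
    (qn02 : Hide (0 ≤ (0 : ℤ)))
    (qn03 : Hide (0 ≤ (0 : ℤ)))
    (qn04 : Hide (0 ≤ (0 : ℤ)))
    (qn05 : Hide (0 ≤ (0 : ℤ)))
    (qn06 : Hide (0 ≤ (0 : ℤ)))
    (qn07 : Hide (0 ≤ (0 : ℤ)))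
    (qn12 : Hide (0 ≤ (1 : ℤ)))
    (qn13 : Hide (0 ≤ (0 : ℤ)))
    (qn14 : Hide (0 ≤ (1 : ℤ)))
    (qn15 : Hide (0 ≤ (0 : ℤ)))
    (qn16 : Hide (0 ≤ (0 : ℤ)))
    (qn17 : Hide (0 ≤ (0 : ℤ)))
    (qn23 : Hide (0 ≤ (2 : ℤ)))
    (qn24 : Hide (0 ≤ q24))
    (qn25 : Hide (0 ≤ q25))
    (qn26 : Hide (0 ≤ q26))
    (qn27 : Hide (0 ≤ q27))
    (qn34 : Hide (0 ≤ q34))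
    (qn35 : Hide (0 ≤ q35))
    (qn36 : Hide (0 ≤ q36))
    (qn37 : Hide (0 ≤ q37))
    (qn45 : Hide (0 ≤ q45))
    (qn46 : Hide (0 ≤ q46))
    (qn47 : Hide (0 ≤ q47))
    (qn56 : Hide (0 ≤ q56))
    (qn57 : Hide (0 ≤ q57))
    (qn67 : Hide (0 ≤ q67))
    (od1 : Hide (0 < (1 : ℤ)))
    (od2 : Hide (0 < (0 : ℤ) + (1 : ℤ)))
    (od3 : Hide (0 < (0 : ℤ) + (0 : ℤ) + (2 : ℤ)))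
    (od4 : Hide (0 < (0 : ℤ) + (1 : ℤ) + α24 + α34))
    (od5 : Hide (0 < (0 : ℤ) + (0 : ℤ) + α25 + α35 + α45))
    (od6 : Hide (0 < (0 : ℤ) + (0 : ℤ) + α26 + α36 + α46 + α56))
    (od7 : Hide (0 < (0 : ℤ) + (0 : ℤ) + α27 + α37 + α47 + α57 + α67))
    (c24 : Hide (((Hide (x24 = 0 ∧ x42 = 0) ∧ Hide (T.a 2 4 = 0 ∧ T.a 4 2 = 0) ∧ Hide (α24 = 0 ∧ α42 = 0)) ∧ q24 = 0) ∨ ((Hide (x24 = T.m 4 ∧ x42 = T.m 2) ∧ Hide (T.a 2 4 = T.w 2 ∧ T.a 4 2 = T.w 4) ∧ Hide (α24 = 1 ∧ α42 = 1)) ∧ q24 = 1) ∨ ((Hide (x24 = T.m 4 ∧ x42 = 2 * T.m 2) ∧ Hide (T.a 2 4 = T.w 2 ∧ T.a 4 2 = 2 * T.w 4) ∧ Hide (α24 = 1 ∧ α42 = 2)) ∧ q24 = 2) ∨ ((Hide (x24 = 2 * T.m 4 ∧ x42 = T.m 2) ∧ Hide (T.a 2 4 = 2 * T.w 2 ∧ T.a 4 2 = T.w 4) ∧ Hide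 (α24 = 2 ∧ α42 = 1)) ∧ q24 = 2) ∨ ((Hide (x24 = T.m 4 ∧ x42 = 3 * T.m 2) ∧ Hide (T.a 2 4 = T.w 2 ∧ T.a 4 2 = 3 * T.w 4) ∧ Hide (α24 = 1 ∧ α42 = 3)) ∧ q24 = 3) ∨ ((Hide (x24 = 3 * T.m 4 ∧ x42 = T.m 2) ∧ Hide (T.a 2 4 = 3 * T.w 2 ∧ T.a 4 2 = T.w 4) ∧ Hide (α24 = 3 ∧ α42 = 1)) ∧ q24 = 3) ∨ ((Hide (x24 = T.m 4 ∧ x42 = 4 * T.m 2) ∧ Hide (T.a 2 4 = T.w 2 ∧ T.a 4 2 = 4 * T.w 4) ∧ Hide (α24 = 1 ∧ α42 = 4)) ∧ q24 = 4) ∨ ((Hide (x24 = 4 * T.m 4 ∧ x42 = T.m 2) ∧ Hide (T.a 2 4 = 4 * T.w 2 ∧ T.a 4 2 = T.w 4) ∧ Hide (α24 = 4 ∧ α42 = 1)) ∧ q24 = 4) ∨ ((Hide (x24 = 2 * T.m 4 ∧ x42 = 2 * T.m 2) ∧ Hide (T.a 2 4 = 2 * T.w 2 ∧ T.a 4 2 = 2 * T.w 4) ∧ Hide (α24 = 2 ∧ α42 = 2)) ∧ q24 = 4)))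
    (c25 : Hide (((Hide (x25 = 0 ∧ x52 = 0) ∧ Hide (T.a 2 5 = 0 ∧ T.a 5 2 = 0) ∧ Hide (α25 = 0 ∧ α52 = 0)) ∧ q25 = 0) ∨ ((Hide (x25 = T.m 5 ∧ x52 = T.m 2) ∧ Hide (T.a 2 5 = T.w 2 ∧ T.a 5 2 = T.w 5) ∧ Hide (α25 = 1 ∧ α52 = 1)) ∧ q25 = 1) ∨ ((Hide (x25 = T.m 5 ∧ x52 = 2 * T.m 2) ∧ Hide (T.a 2 5 = T.w 2 ∧ T.a 5 2 = 2 * T.w 5) ∧ Hide (α25 = 1 ∧ α52 = 2)) ∧ q25 = 2) ∨ ((Hide (x25 = 2 * T.m 5 ∧ x52 = T.m 2) ∧ Hide (T.a 2 5 = 2 * T.w 2 ∧ T.a 5 2 = T.w 5) ∧ Hide (α25 = 2 ∧ α52 = 1)) ∧ q25 = 2) ∨ ((Hide (x25 = T.m 5 ∧ x52 = 3 * T.m 2) ∧ Hide (T.a 2 5 = T.w 2 ∧ T.a 5 2 = 3 * T.w 5) ∧ Hide (α25 = 1 ∧ α52 = 3)) ∧ q25 = 3) ∨ ((Hide (x25 = 3 * T.m 5 ∧ x52 = T.m 2) ∧ Hide (T.a 2 5 = 3 * T.w 2 ∧ T.a 5 2 = T.w 5)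 ∧ Hide (α25 = 3 ∧ α52 = 1)) ∧ q25 = 3) ∨ ((Hide (x25 = T.m 5 ∧ x52 = 4 * T.m 2) ∧ Hide (T.a 2 5 = T.w 2 ∧ T.a 5 2 = 4 * T.w 5) ∧ Hide (α25 = 1 ∧ α52 = 4)) ∧ q25 = 4) ∨ ((Hide (x25 = 4 * T.m 5 ∧ x52 = T.m 2) ∧ Hide (T.a 2 5 = 4 * T.w 2 ∧ T.a 5 2 = T.w 5) ∧ Hide (α25 = 4 ∧ α52 = 1)) ∧ q25 = 4) ∨ ((Hide (x25 = 2 * T.m 5 ∧ x52 = 2 * T.m 2) ∧ Hide (T.a 2 5 = 2 * T.w 2 ∧ T.a 5 2 = 2 * T.w 5) ∧ Hide (α25 = 2 ∧ α52 = 2)) ∧ q25 = 4)))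
    (c26 : Hide (((Hide (x26 = 0 ∧ x62 = 0) ∧ Hide (T.a 2 6 = 0 ∧ T.a 6 2 = 0) ∧ Hide (α26 = 0 ∧ α62 = 0)) ∧ q26 = 0) ∨ ((Hide (x26 = T.m 6 ∧ x62 = T.m 2) ∧ Hide (T.a 2 6 = T.w 2 ∧ T.a 6 2 = T.w 6) ∧ Hide (α26 = 1 ∧ α62 = 1)) ∧ q26 = 1) ∨ ((Hide (x26 = T.m 6 ∧ x62 = 2 * T.m 2) ∧ Hide (T.a 2 6 = T.w 2 ∧ T.a 6 2 = 2 * T.w 6) ∧ Hide (α26 = 1 ∧ α62 = 2)) ∧ q26 = 2) ∨ ((Hide (x26 = 2 * T.m 6 ∧ x62 = T.m 2) ∧ Hide (T.a 2 6 = 2 * T.w 2 ∧ T.a 6 2 = T.w 6) ∧ Hide (α26 = 2 ∧ α62 = 1)) ∧ q26 = 2) ∨ ((Hide (x26 = T.m 6 ∧ x62 = 3 * T.m 2) ∧ Hide (T.a 2 6 = T.w 2 ∧ T.a 6 2 = 3 * T.w 6) ∧ Hide (α26 = 1 ∧ α62 = 3)) ∧ q26 = 3) ∨ ((Hide (x26 = 3 * T.m 6 ∧ x62 = T.m 2) ∧ Hide (T.a 2 6 = 3 * T.w 2 ∧ T.a 6 2 = T.w 6)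 ∧ Hide (α26 = 3 ∧ α62 = 1)) ∧ q26 = 3) ∨ ((Hide (x26 = T.m 6 ∧ x62 = 4 * T.m 2) ∧ Hide (T.a 2 6 = T.w 2 ∧ T.a 6 2 = 4 * T.w 6) ∧ Hide (α26 = 1 ∧ α62 = 4)) ∧ q26 = 4) ∨ ((Hide (x26 = 4 * T.m 6 ∧ x62 = T.m 2) ∧ Hide (T.a 2 6 = 4 * T.w 2 ∧ T.a 6 2 = T.w 6) ∧ Hide (α26 = 4 ∧ α62 = 1)) ∧ q26 = 4) ∨ ((Hide (x26 = 2 * T.m 6 ∧ x62 = 2 * T.m 2) ∧ Hide (T.a 2 6 = 2 * T.w 2 ∧ T.a 6 2 = 2 * T.w 6) ∧ Hide (α26 = 2 ∧ α62 = 2)) ∧ q26 = 4)))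
    (c27 : Hide (((Hide (x27 = 0 ∧ x72 = 0) ∧ Hide (T.a 2 7 = 0 ∧ T.a 7 2 = 0) ∧ Hide (α27 = 0 ∧ α72 = 0)) ∧ q27 = 0) ∨ ((Hide (x27 = T.m 7 ∧ x72 = T.m 2) ∧ Hide (T.a 2 7 = T.w 2 ∧ T.a 7 2 = T.w 7) ∧ Hide (α27 = 1 ∧ α72 = 1)) ∧ q27 = 1) ∨ ((Hide (x27 = T.m 7 ∧ x72 = 2 * T.m 2) ∧ Hide (T.a 2 7 = T.w 2 ∧ T.a 7 2 = 2 * T.w 7) ∧ Hide (α27 = 1 ∧ α72 = 2)) ∧ q27 = 2) ∨ ((Hide (x27 = 2 * T.m 7 ∧ x72 = T.m 2) ∧ Hide (T.a 2 7 = 2 * T.w 2 ∧ T.a 7 2 = T.w 7) ∧ Hide (α27 = 2 ∧ α72 = 1)) ∧ q27 = 2) ∨ ((Hide (x27 = T.m 7 ∧ x72 = 3 * T.m 2) ∧ Hide (T.a 2 7 = T.w 2 ∧ T.a 7 2 = 3 * T.w 7) ∧ Hide (α27 = 1 ∧ α72 = 3)) ∧ q27 = 3) ∨ ((Hide (x27 = 3 * T.m 7 ∧ x72 = T.m 2) ∧ Hide (T.a 2 7 = 3 * T.w 2 ∧ T.a 7 2 = T.w 7)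 ∧ Hide (α27 = 3 ∧ α72 = 1)) ∧ q27 = 3) ∨ ((Hide (x27 = T.m 7 ∧ x72 = 4 * T.m 2) ∧ Hide (T.a 2 7 = T.w 2 ∧ T.a 7 2 = 4 * T.w 7) ∧ Hide (α27 = 1 ∧ α72 = 4)) ∧ q27 = 4) ∨ ((Hide (x27 = 4 * T.m 7 ∧ x72 = T.m 2) ∧ Hide (T.a 2 7 = 4 * T.w 2 ∧ T.a 7 2 = T.w 7) ∧ Hide (α27 = 4 ∧ α72 = 1)) ∧ q27 = 4) ∨ ((Hide (x27 = 2 * T.m 7 ∧ x72 = 2 * T.m 2) ∧ Hide (T.a 2 7 = 2 * T.w 2 ∧ T.a 7 2 = 2 * T.w 7) ∧ Hide (α27 = 2 ∧ α72 = 2)) ∧ q27 = 4)))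
    (c34 : Hide (((Hide (x34 = 0 ∧ x43 = 0) ∧ Hide (T.a 3 4 = 0 ∧ T.a 4 3 = 0) ∧ Hide (α34 = 0 ∧ α43 = 0)) ∧ q34 = 0) ∨ ((Hide (x34 = T.m 4 ∧ x43 = T.m 3) ∧ Hide (T.a 3 4 = T.w 3 ∧ T.a 4 3 = T.w 4) ∧ Hide (α34 = 1 ∧ α43 = 1)) ∧ q34 = 1) ∨ ((Hide (x34 = T.m 4 ∧ x43 = 2 * T.m 3) ∧ Hide (T.a 3 4 = T.w 3 ∧ T.a 4 3 = 2 * T.w 4) ∧ Hide (α34 = 1 ∧ α43 = 2)) ∧ q34 = 2) ∨ ((Hide (x34 = 2 * T.m 4 ∧ x43 = T.m 3) ∧ Hide (T.a 3 4 = 2 * T.w 3 ∧ T.a 4 3 = T.w 4) ∧ Hide (α34 = 2 ∧ α43 = 1)) ∧ q34 = 2) ∨ ((Hide (x34 = T.m 4 ∧ x43 = 3 * T.m 3) ∧ Hide (T.a 3 4 = T.w 3 ∧ T.a 4 3 = 3 * T.w 4) ∧ Hide (α34 = 1 ∧ α43 = 3)) ∧ q34 = 3) ∨ ((Hide (x34 = 3 * T.m 4 ∧ x43 = T.m 3) ∧ Hide (T.a 3 4 = 3 * T.w 3 ∧ T.a 4 3 = T.w 4)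 ∧ Hide (α34 = 3 ∧ α43 = 1)) ∧ q34 = 3) ∨ ((Hide (x34 = T.m 4 ∧ x43 = 4 * T.m 3) ∧ Hide (T.a 3 4 = T.w 3 ∧ T.a 4 3 = 4 * T.w 4) ∧ Hide (α34 = 1 ∧ α43 = 4)) ∧ q34 = 4) ∨ ((Hide (x34 = 4 * T.m 4 ∧ x43 = T.m 3) ∧ Hide (T.a 3 4 = 4 * T.w 3 ∧ T.a 4 3 = T.w 4) ∧ Hide (α34 = 4 ∧ α43 = 1)) ∧ q34 = 4) ∨ ((Hide (x34 = 2 * T.m 4 ∧ x43 = 2 * T.m 3) ∧ Hide (T.a 3 4 = 2 * T.w 3 ∧ T.a 4 3 = 2 * T.w 4) ∧ Hide (α34 = 2 ∧ α43 = 2)) ∧ q34 = 4)))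
    (c35 : Hide (((Hide (x35 = 0 ∧ x53 = 0) ∧ Hide (T.a 3 5 = 0 ∧ T.a 5 3 = 0) ∧ Hide (α35 = 0 ∧ α53 = 0)) ∧ q35 = 0) ∨ ((Hide (x35 = T.m 5 ∧ x53 = T.m 3) ∧ Hide (T.a 3 5 = T.w 3 ∧ T.a 5 3 = T.w 5) ∧ Hide (α35 = 1 ∧ α53 = 1)) ∧ q35 = 1) ∨ ((Hide (x35 = T.m 5 ∧ x53 = 2 * T.m 3) ∧ Hide (T.a 3 5 = T.w 3 ∧ T.a 5 3 = 2 * T.w 5) ∧ Hide (α35 = 1 ∧ α53 = 2)) ∧ q35 = 2) ∨ ((Hide (x35 = 2 * T.m 5 ∧ x53 = T.m 3) ∧ Hide (T.a 3 5 = 2 * T.w 3 ∧ T.a 5 3 = T.w 5) ∧ Hide (α35 = 2 ∧ α53 = 1)) ∧ q35 = 2) ∨ ((Hide (x35 = T.m 5 ∧ x53 = 3 * T.m 3) ∧ Hide (T.a 3 5 = T.w 3 ∧ T.a 5 3 = 3 * T.w 5) ∧ Hide (α35 = 1 ∧ α53 = 3)) ∧ q35 = 3) ∨ ((Hide (x35 = 3 * T.m 5 ∧ x53 = T.m 3) ∧ Hide (T.a 3 5 = 3 * T.w 3 ∧ T.a 5 3 = T.w 5)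 ∧ Hide (α35 = 3 ∧ α53 = 1)) ∧ q35 = 3) ∨ ((Hide (x35 = T.m 5 ∧ x53 = 4 * T.m 3) ∧ Hide (T.a 3 5 = T.w 3 ∧ T.a 5 3 = 4 * T.w 5) ∧ Hide (α35 = 1 ∧ α53 = 4)) ∧ q35 = 4) ∨ ((Hide (x35 = 4 * T.m 5 ∧ x53 = T.m 3) ∧ Hide (T.a 3 5 = 4 * T.w 3 ∧ T.a 5 3 = T.w 5) ∧ Hide (α35 = 4 ∧ α53 = 1)) ∧ q35 = 4) ∨ ((Hide (x35 = 2 * T.m 5 ∧ x53 = 2 * T.m 3) ∧ Hide (T.a 3 5 = 2 * T.w 3 ∧ T.a 5 3 = 2 * T.w 5) ∧ Hide (α35 = 2 ∧ α53 = 2)) ∧ q35 = 4)))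
    (c36 : Hide (((Hide (x36 = 0 ∧ x63 = 0) ∧ Hide (T.a 3 6 = 0 ∧ T.a 6 3 = 0) ∧ Hide (α36 = 0 ∧ α63 = 0)) ∧ q36 = 0) ∨ ((Hide (x36 = T.m 6 ∧ x63 = T.m 3) ∧ Hide (T.a 3 6 = T.w 3 ∧ T.a 6 3 = T.w 6) ∧ Hide (α36 = 1 ∧ α63 = 1)) ∧ q36 = 1) ∨ ((Hide (x36 = T.m 6 ∧ x63 = 2 * T.m 3) ∧ Hide (T.a 3 6 = T.w 3 ∧ T.a 6 3 = 2 * T.w 6) ∧ Hide (α36 = 1 ∧ α63 = 2)) ∧ q36 = 2) ∨ ((Hide (x36 = 2 * T.m 6 ∧ x63 = T.m 3) ∧ Hide (T.a 3 6 = 2 * T.w 3 ∧ T.a 6 3 = T.w 6) ∧ Hide (α36 = 2 ∧ α63 = 1)) ∧ q36 = 2) ∨ ((Hide (x36 = T.m 6 ∧ x63 = 3 * T.m 3) ∧ Hide (T.a 3 6 = T.w 3 ∧ T.a 6 3 = 3 * T.w 6) ∧ Hide (α36 = 1 ∧ α63 = 3)) ∧ q36 = 3) ∨ ((Hide (x36 = 3 * T.m 6 ∧ x63 = T.m 3) ∧ Hide (T.a 3 6 = 3 * T.w 3 ∧ T.a 6 3 = T.w 6)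 ∧ Hide (α36 = 3 ∧ α63 = 1)) ∧ q36 = 3) ∨ ((Hide (x36 = T.m 6 ∧ x63 = 4 * T.m 3) ∧ Hide (T.a 3 6 = T.w 3 ∧ T.a 6 3 = 4 * T.w 6) ∧ Hide (α36 = 1 ∧ α63 = 4)) ∧ q36 = 4) ∨ ((Hide (x36 = 4 * T.m 6 ∧ x63 = T.m 3) ∧ Hide (T.a 3 6 = 4 * T.w 3 ∧ T.a 6 3 = T.w 6) ∧ Hide (α36 = 4 ∧ α63 = 1)) ∧ q36 = 4) ∨ ((Hide (x36 = 2 * T.m 6 ∧ x63 = 2 * T.m 3) ∧ Hide (T.a 3 6 = 2 * T.w 3 ∧ T.a 6 3 = 2 * T.w 6) ∧ Hide (α36 = 2 ∧ α63 = 2)) ∧ q36 = 4)))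
    (c37 : Hide (((Hide (x37 = 0 ∧ x73 = 0) ∧ Hide (T.a 3 7 = 0 ∧ T.a 7 3 = 0) ∧ Hide (α37 = 0 ∧ α73 = 0)) ∧ q37 = 0) ∨ ((Hide (x37 = T.m 7 ∧ x73 = T.m 3) ∧ Hide (T.a 3 7 = T.w 3 ∧ T.a 7 3 = T.w 7) ∧ Hide (α37 = 1 ∧ α73 = 1)) ∧ q37 = 1) ∨ ((Hide (x37 = T.m 7 ∧ x73 = 2 * T.m 3) ∧ Hide (T.a 3 7 = T.w 3 ∧ T.a 7 3 = 2 * T.w 7) ∧ Hide (α37 = 1 ∧ α73 = 2)) ∧ q37 = 2) ∨ ((Hide (x37 = 2 * T.m 7 ∧ x73 = T.m 3) ∧ Hide (T.a 3 7 = 2 * T.w 3 ∧ T.a 7 3 = T.w 7) ∧ Hide (α37 = 2 ∧ α73 = 1)) ∧ q37 = 2) ∨ ((Hide (x37 = T.m 7 ∧ x73 = 3 * T.m 3) ∧ Hide (T.a 3 7 = T.w 3 ∧ T.a 7 3 = 3 * T.w 7) ∧ Hide (α37 = 1 ∧ α73 = 3)) ∧ q37 = 3) ∨ ((Hide (x37 = 3 * T.m 7 ∧ x73 = T.m 3) ∧ Hide (T.a 3 7 = 3 * T.w 3 ∧ T.a 7 3 = T.w 7)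 ∧ Hide (α37 = 3 ∧ α73 = 1)) ∧ q37 = 3) ∨ ((Hide (x37 = T.m 7 ∧ x73 = 4 * T.m 3) ∧ Hide (T.a 3 7 = T.w 3 ∧ T.a 7 3 = 4 * T.w 7) ∧ Hide (α37 = 1 ∧ α73 = 4)) ∧ q37 = 4) ∨ ((Hide (x37 = 4 * T.m 7 ∧ x73 = T.m 3) ∧ Hide (T.a 3 7 = 4 * T.w 3 ∧ T.a 7 3 = T.w 7) ∧ Hide (α37 = 4 ∧ α73 = 1)) ∧ q37 = 4) ∨ ((Hide (x37 = 2 * T.m 7 ∧ x73 = 2 * T.m 3) ∧ Hide (T.a 3 7 = 2 * T.w 3 ∧ T.a 7 3 = 2 * T.w 7) ∧ Hide (α37 = 2 ∧ α73 = 2)) ∧ q37 = 4)))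
    (c45 : Hide (((Hide (x45 = 0 ∧ x54 = 0) ∧ Hide (T.a 4 5 = 0 ∧ T.a 5 4 = 0) ∧ Hide (α45 = 0 ∧ α54 = 0)) ∧ q45 = 0) ∨ ((Hide (x45 = T.m 5 ∧ x54 = T.m 4) ∧ Hide (T.a 4 5 = T.w 4 ∧ T.a 5 4 = T.w 5) ∧ Hide (α45 = 1 ∧ α54 = 1)) ∧ q45 = 1) ∨ ((Hide (x45 = T.m 5 ∧ x54 = 2 * T.m 4) ∧ Hide (T.a 4 5 = T.w 4 ∧ T.a 5 4 = 2 * T.w 5) ∧ Hide (α45 = 1 ∧ α54 = 2)) ∧ q45 = 2) ∨ ((Hide (x45 = 2 * T.m 5 ∧ x54 = T.m 4) ∧ Hide (T.a 4 5 = 2 * T.w 4 ∧ T.a 5 4 = T.w 5) ∧ Hide (α45 = 2 ∧ α54 = 1)) ∧ q45 = 2) ∨ ((Hide (x45 = T.m 5 ∧ x54 = 3 * T.m 4) ∧ Hide (T.a 4 5 = T.w 4 ∧ T.a 5 4 = 3 * T.w 5) ∧ Hide (α45 = 1 ∧ α54 = 3)) ∧ q45 = 3) ∨ ((Hide (x45 = 3 * T.m 5 ∧ x54 = T.m 4) ∧ Hide (T.a 4 5 = 3 * T.w 4 ∧ T.a 5 4 = T.w 5)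 ∧ Hide (α45 = 3 ∧ α54 = 1)) ∧ q45 = 3) ∨ ((Hide (x45 = T.m 5 ∧ x54 = 4 * T.m 4) ∧ Hide (T.a 4 5 = T.w 4 ∧ T.a 5 4 = 4 * T.w 5) ∧ Hide (α45 = 1 ∧ α54 = 4)) ∧ q45 = 4) ∨ ((Hide (x45 = 4 * T.m 5 ∧ x54 = T.m 4) ∧ Hide (T.a 4 5 = 4 * T.w 4 ∧ T.a 5 4 = T.w 5) ∧ Hide (α45 = 4 ∧ α54 = 1)) ∧ q45 = 4) ∨ ((Hide (x45 = 2 * T.m 5 ∧ x54 = 2 * T.m 4) ∧ Hide (T.a 4 5 = 2 * T.w 4 ∧ T.a 5 4 = 2 * T.w 5) ∧ Hide (α45 = 2 ∧ α54 = 2)) ∧ q45 = 4)))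
    (c46 : Hide (((Hide (x46 = 0 ∧ x64 = 0) ∧ Hide (T.a 4 6 = 0 ∧ T.a 6 4 = 0) ∧ Hide (α46 = 0 ∧ α64 = 0)) ∧ q46 = 0) ∨ ((Hide (x46 = T.m 6 ∧ x64 = T.m 4) ∧ Hide (T.a 4 6 = T.w 4 ∧ T.a 6 4 = T.w 6) ∧ Hide (α46 = 1 ∧ α64 = 1)) ∧ q46 = 1) ∨ ((Hide (x46 = T.m 6 ∧ x64 = 2 * T.m 4) ∧ Hide (T.a 4 6 = T.w 4 ∧ T.a 6 4 = 2 * T.w 6) ∧ Hide (α46 = 1 ∧ α64 = 2)) ∧ q46 = 2) ∨ ((Hide (x46 = 2 * T.m 6 ∧ x64 = T.m 4) ∧ Hide (T.a 4 6 = 2 * T.w 4 ∧ T.a 6 4 = T.w 6) ∧ Hide (α46 = 2 ∧ α64 = 1)) ∧ q46 = 2) ∨ ((Hide (x46 = T.m 6 ∧ x64 = 3 * T.m 4) ∧ Hide (T.a 4 6 = T.w 4 ∧ T.a 6 4 = 3 * T.w 6) ∧ Hide (α46 = 1 ∧ α64 = 3)) ∧ q46 = 3) ∨ ((Hide (x46 = 3 * T.m 6 ∧ x64 = T.m 4) ∧ Hide (T.a 4 6 = 3 * T.w 4 ∧ T.a 6 4 = T.w 6)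 ∧ Hide (α46 = 3 ∧ α64 = 1)) ∧ q46 = 3) ∨ ((Hide (x46 = T.m 6 ∧ x64 = 4 * T.m 4) ∧ Hide (T.a 4 6 = T.w 4 ∧ T.a 6 4 = 4 * T.w 6) ∧ Hide (α46 = 1 ∧ α64 = 4)) ∧ q46 = 4) ∨ ((Hide (x46 = 4 * T.m 6 ∧ x64 = T.m 4) ∧ Hide (T.a 4 6 = 4 * T.w 4 ∧ T.a 6 4 = T.w 6) ∧ Hide (α46 = 4 ∧ α64 = 1)) ∧ q46 = 4) ∨ ((Hide (x46 = 2 * T.m 6 ∧ x64 = 2 * T.m 4) ∧ Hide (T.a 4 6 = 2 * T.w 4 ∧ T.a 6 4 = 2 * T.w 6) ∧ Hide (α46 = 2 ∧ α64 = 2)) ∧ q46 = 4)))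
    (c47 : Hide (((Hide (x47 = 0 ∧ x74 = 0) ∧ Hide (T.a 4 7 = 0 ∧ T.a 7 4 = 0) ∧ Hide (α47 = 0 ∧ α74 = 0)) ∧ q47 = 0) ∨ ((Hide (x47 = T.m 7 ∧ x74 = T.m 4) ∧ Hide (T.a 4 7 = T.w 4 ∧ T.a 7 4 = T.w 7) ∧ Hide (α47 = 1 ∧ α74 = 1)) ∧ q47 = 1) ∨ ((Hide (x47 = T.m 7 ∧ x74 = 2 * T.m 4) ∧ Hide (T.a 4 7 = T.w 4 ∧ T.a 7 4 = 2 * T.w 7) ∧ Hide (α47 = 1 ∧ α74 = 2)) ∧ q47 = 2) ∨ ((Hide (x47 = 2 * T.m 7 ∧ x74 = T.m 4) ∧ Hide (T.a 4 7 = 2 * T.w 4 ∧ T.a 7 4 = T.w 7) ∧ Hide (α47 = 2 ∧ α74 = 1)) ∧ q47 = 2) ∨ ((Hide (x47 = T.m 7 ∧ x74 = 3 * T.m 4) ∧ Hide (T.a 4 7 = T.w 4 ∧ T.a 7 4 = 3 * T.w 7) ∧ Hide (α47 = 1 ∧ α74 = 3)) ∧ q47 = 3) ∨ ((Hide (x47 = 3 * T.m 7 ∧ x74 = T.m 4) ∧ Hide (T.a 4 7 = 3 * T.w 4 ∧ T.a 7 4 = T.w 7)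 ∧ Hide (α47 = 3 ∧ α74 = 1)) ∧ q47 = 3) ∨ ((Hide (x47 = T.m 7 ∧ x74 = 4 * T.m 4) ∧ Hide (T.a 4 7 = T.w 4 ∧ T.a 7 4 = 4 * T.w 7) ∧ Hide (α47 = 1 ∧ α74 = 4)) ∧ q47 = 4) ∨ ((Hide (x47 = 4 * T.m 7 ∧ x74 = T.m 4) ∧ Hide (T.a 4 7 = 4 * T.w 4 ∧ T.a 7 4 = T.w 7) ∧ Hide (α47 = 4 ∧ α74 = 1)) ∧ q47 = 4) ∨ ((Hide (x47 = 2 * T.m 7 ∧ x74 = 2 * T.m 4) ∧ Hide (T.a 4 7 = 2 * T.w 4 ∧ T.a 7 4 = 2 * T.w 7) ∧ Hide (α47 = 2 ∧ α74 = 2)) ∧ q47 = 4)))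
    (c56 : Hide (((Hide (x56 = 0 ∧ x65 = 0) ∧ Hide (T.a 5 6 = 0 ∧ T.a 6 5 = 0) ∧ Hide (α56 = 0 ∧ α65 = 0)) ∧ q56 = 0) ∨ ((Hide (x56 = T.m 6 ∧ x65 = T.m 5) ∧ Hide (T.a 5 6 = T.w 5 ∧ T.a 6 5 = T.w 6) ∧ Hide (α56 = 1 ∧ α65 = 1)) ∧ q56 = 1) ∨ ((Hide (x56 = T.m 6 ∧ x65 = 2 * T.m 5) ∧ Hide (T.a 5 6 = T.w 5 ∧ T.a 6 5 = 2 * T.w 6) ∧ Hide (α56 = 1 ∧ α65 = 2)) ∧ q56 = 2) ∨ ((Hide (x56 = 2 * T.m 6 ∧ x65 = T.m 5) ∧ Hide (T.a 5 6 = 2 * T.w 5 ∧ T.a 6 5 = T.w 6) ∧ Hide (α56 = 2 ∧ α65 = 1)) ∧ q56 = 2) ∨ ((Hide (x56 = T.m 6 ∧ x65 = 3 * T.m 5) ∧ Hide (T.a 5 6 = T.w 5 ∧ T.a 6 5 = 3 * T.w 6) ∧ Hide (α56 = 1 ∧ α65 = 3)) ∧ q56 = 3) ∨ ((Hide (x56 = 3 * T.m 6 ∧ x65 = T.m 5) ∧ Hide (T.a 5 6 = 3 * T.w 5 ∧ T.a 6 5 = T.w 6)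 ∧ Hide (α56 = 3 ∧ α65 = 1)) ∧ q56 = 3) ∨ ((Hide (x56 = T.m 6 ∧ x65 = 4 * T.m 5) ∧ Hide (T.a 5 6 = T.w 5 ∧ T.a 6 5 = 4 * T.w 6) ∧ Hide (α56 = 1 ∧ α65 = 4)) ∧ q56 = 4) ∨ ((Hide (x56 = 4 * T.m 6 ∧ x65 = T.m 5) ∧ Hide (T.a 5 6 = 4 * T.w 5 ∧ T.a 6 5 = T.w 6) ∧ Hide (α56 = 4 ∧ α65 = 1)) ∧ q56 = 4) ∨ ((Hide (x56 = 2 * T.m 6 ∧ x65 = 2 * T.m 5) ∧ Hide (T.a 5 6 = 2 * T.w 5 ∧ T.a 6 5 = 2 * T.w 6) ∧ Hide (α56 = 2 ∧ α65 = 2)) ∧ q56 = 4)))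
    (c57 : Hide (((Hide (x57 = 0 ∧ x75 = 0) ∧ Hide (T.a 5 7 = 0 ∧ T.a 7 5 = 0) ∧ Hide (α57 = 0 ∧ α75 = 0)) ∧ q57 = 0) ∨ ((Hide (x57 = T.m 7 ∧ x75 = T.m 5) ∧ Hide (T.a 5 7 = T.w 5 ∧ T.a 7 5 = T.w 7) ∧ Hide (α57 = 1 ∧ α75 = 1)) ∧ q57 = 1) ∨ ((Hide (x57 = T.m 7 ∧ x75 = 2 * T.m 5) ∧ Hide (T.a 5 7 = T.w 5 ∧ T.a 7 5 = 2 * T.w 7) ∧ Hide (α57 = 1 ∧ α75 = 2)) ∧ q57 = 2) ∨ ((Hide (x57 = 2 * T.m 7 ∧ x75 = T.m 5) ∧ Hide (T.a 5 7 = 2 * T.w 5 ∧ T.a 7 5 = T.w 7) ∧ Hide (α57 = 2 ∧ α75 = 1)) ∧ q57 = 2) ∨ ((Hide (x57 = T.m 7 ∧ x75 = 3 * T.m 5) ∧ Hide (T.a 5 7 = T.w 5 ∧ T.a 7 5 = 3 * T.w 7) ∧ Hide (α57 = 1 ∧ α75 = 3)) ∧ q57 = 3) ∨ ((Hide (x57 = 3 * T.m 7 ∧ x75 = T.m 5) ∧ Hide (T.a 5 7 = 3 * T.w 5 ∧ T.a 7 5 = T.w 7)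 ∧ Hide (α57 = 3 ∧ α75 = 1)) ∧ q57 = 3) ∨ ((Hide (x57 = T.m 7 ∧ x75 = 4 * T.m 5) ∧ Hide (T.a 5 7 = T.w 5 ∧ T.a 7 5 = 4 * T.w 7) ∧ Hide (α57 = 1 ∧ α75 = 4)) ∧ q57 = 4) ∨ ((Hide (x57 = 4 * T.m 7 ∧ x75 = T.m 5) ∧ Hide (T.a 5 7 = 4 * T.w 5 ∧ T.a 7 5 = T.w 7) ∧ Hide (α57 = 4 ∧ α75 = 1)) ∧ q57 = 4) ∨ ((Hide (x57 = 2 * T.m 7 ∧ x75 = 2 * T.m 5) ∧ Hide (T.a 5 7 = 2 * T.w 5 ∧ T.a 7 5 = 2 * T.w 7) ∧ Hide (α57 = 2 ∧ α75 = 2)) ∧ q57 = 4)))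
    (c67 : Hide (((Hide (x67 = 0 ∧ x76 = 0) ∧ Hide (T.a 6 7 = 0 ∧ T.a 7 6 = 0) ∧ Hide (α67 = 0 ∧ α76 = 0)) ∧ q67 = 0) ∨ ((Hide (x67 = T.m 7 ∧ x76 = T.m 6) ∧ Hide (T.a 6 7 = T.w 6 ∧ T.a 7 6 = T.w 7) ∧ Hide (α67 = 1 ∧ α76 = 1)) ∧ q67 = 1) ∨ ((Hide (x67 = T.m 7 ∧ x76 = 2 * T.m 6) ∧ Hide (T.a 6 7 = T.w 6 ∧ T.a 7 6 = 2 * T.w 7) ∧ Hide (α67 = 1 ∧ α76 = 2)) ∧ q67 = 2) ∨ ((Hide (x67 = 2 * T.m 7 ∧ x76 = T.m 6) ∧ Hide (T.a 6 7 = 2 * T.w 6 ∧ T.a 7 6 = T.w 7) ∧ Hide (α67 = 2 ∧ α76 = 1)) ∧ q67 = 2) ∨ ((Hide (x67 = T.m 7 ∧ x76 = 3 * T.m 6) ∧ Hide (T.a 6 7 = T.w 6 ∧ T.a 7 6 = 3 * T.w 7) ∧ Hide (α67 = 1 ∧ α76 = 3)) ∧ q67 = 3) ∨ ((Hide (x67 = 3 * T.m 7 ∧ x76 = T.m 6) ∧ Hide (T.a 6 7 = 3 * T.w 6 ∧ T.a 7 6 = T.w 7)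 ∧ Hide (α67 = 3 ∧ α76 = 1)) ∧ q67 = 3) ∨ ((Hide (x67 = T.m 7 ∧ x76 = 4 * T.m 6) ∧ Hide (T.a 6 7 = T.w 6 ∧ T.a 7 6 = 4 * T.w 7) ∧ Hide (α67 = 1 ∧ α76 = 4)) ∧ q67 = 4) ∨ ((Hide (x67 = 4 * T.m 7 ∧ x76 = T.m 6) ∧ Hide (T.a 6 7 = 4 * T.w 6 ∧ T.a 7 6 = T.w 7) ∧ Hide (α67 = 4 ∧ α76 = 1)) ∧ q67 = 4) ∨ ((Hide (x67 = 2 * T.m 7 ∧ x76 = 2 * T.m 6) ∧ Hide (T.a 6 7 = 2 * T.w 6 ∧ T.a 7 6 = 2 * T.w 7) ∧ Hide (α67 = 2 ∧ α76 = 2)) ∧ q67 = 4)))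
    (gw01 : Hide (T.a 0 1 = T.w 0 ∧ T.a 1 0 = T.w 1))
    (gw02 : Hide (T.a 0 2 = 0 ∧ T.a 2 0 = 0))
    (gw03 : Hide (T.a 0 3 = 0 ∧ T.a 3 0 = 0))
    (gw04 : Hide (T.a 0 4 = 0 ∧ T.a 4 0 = 0))
    (gw05 : Hide (T.a 0 5 = 0 ∧ T.a 5 0 = 0))
    (gw06 : Hide (T.a 0 6 = 0 ∧ T.a 6 0 = 0))
    (gw07 : Hide (T.a 0 7 = 0 ∧ T.a 7 0 = 0))
    (gw12 : Hide (T.a 1 2 = T.w 1 ∧ T.a 2 1 = T.w 2))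
    (gw13 : Hide (T.a 1 3 = 0 ∧ T.a 3 1 = 0))
    (gw14 : Hide (T.a 1 4 = T.w 1 ∧ T.a 4 1 = T.w 4))
    (gw15 : Hide (T.a 1 5 = 0 ∧ T.a 5 1 = 0))
    (gw16 : Hide (T.a 1 6 = 0 ∧ T.a 6 1 = 0))
    (gw17 : Hide (T.a 1 7 = 0 ∧ T.a 7 1 = 0))
    (gw23 : Hide (T.a 2 3 = 2 * T.w 2 ∧ T.a 3 2 = T.w 3)) : Goal T := by
  have t := pc1 q24 c24.out (by have := v2.out; have := qn25.out; have := qn26.out; have := qn27.out; omega)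
  clear c24
  rcases t with ⟨⟨⟨rfl, rfl⟩, gw24, ⟨rfl, rfl⟩⟩, rfl⟩ | ⟨⟨⟨rfl, rfl⟩, gw24, ⟨rfl, rfl⟩⟩, rfl⟩
  · have t := pc1 q25 c25.out (by have := v2.out; have := qn26.out; have := qn27.out; omega)
    clear c25
    rcases t with ⟨⟨⟨rfl, rfl⟩, gw25, ⟨rfl, rfl⟩⟩, rfl⟩ | ⟨⟨⟨rfl, rfl⟩, gw25, ⟨rfl, rfl⟩⟩, rfl⟩
    · have t := pc1 q26 c26.out (by have := v2.out; have := qn27.out; omega)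
      clear c26
      rcases t with ⟨⟨⟨rfl, rfl⟩, gw26, ⟨rfl, rfl⟩⟩, rfl⟩ | ⟨⟨⟨rfl, rfl⟩, gw26, ⟨rfl, rfl⟩⟩, rfl⟩
      · have t := pc1 q27 c27.out (by have := v2.out; omega)
        clear c27
        rcases t with ⟨⟨⟨rfl, rfl⟩, gw27, ⟨rfl, rfl⟩⟩, rfl⟩ | ⟨⟨⟨rfl, rfl⟩, gw27, ⟨rfl, rfl⟩⟩, rfl⟩
        · have t := pc2 q34 c34.out (by have := v3.out; have := qn35.out; have := qn36.out; have := qn37.out; omega)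
          clear c34
          rcases t with ⟨⟨⟨rfl, rfl⟩, gw34, ⟨rfl, rfl⟩⟩, rfl⟩ | ⟨⟨⟨rfl, rfl⟩, gw34, ⟨rfl, rfl⟩⟩, rfl⟩ | ⟨⟨⟨rfl, rfl⟩, gw34, ⟨rfl, rfl⟩⟩, rfl⟩ | ⟨⟨⟨rfl, rfl⟩, gw34, ⟨rfl, rfl⟩⟩, rfl⟩
          · have t := pc2 q35 c35.out (by have := v3.out; have := qn36.out; have := qn37.out; omega)
            clear c35
            rcases t with ⟨⟨⟨rfl, rfl⟩, gw35, ⟨rfl, rfl⟩⟩, rfl⟩ | ⟨⟨⟨rfl, rfl⟩, gw35, ⟨rfl, rfl⟩⟩, rfl⟩ | ⟨⟨⟨rfl, rfl⟩, gw35, ⟨rfl, rfl⟩⟩, rfl⟩ | ⟨⟨⟨rfl, rfl⟩, gw35, ⟨rfl, rfl⟩⟩, rfl⟩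
            · have t := pc2 q36 c36.out (by have := v3.out; have := qn37.out; omega)
              clear c36
              rcases t with ⟨⟨⟨rfl, rfl⟩, gw36, ⟨rfl, rfl⟩⟩, rfl⟩ | ⟨⟨⟨rfl, rfl⟩, gw36, ⟨rfl, rfl⟩⟩, rfl⟩ | ⟨⟨⟨rfl, rfl⟩, gw36, ⟨rfl, rfl⟩⟩, rfl⟩ | ⟨⟨⟨rfl, rfl⟩, gw36, ⟨rfl, rfl⟩⟩, rfl⟩
              · have t := pc2 q37 c37.out (by have := v3.out; omega)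
                clear c37
                rcases t with ⟨⟨⟨rfl, rfl⟩, gw37, ⟨rfl, rfl⟩⟩, rfl⟩ | ⟨⟨⟨rfl, rfl⟩, gw37, ⟨rfl, rfl⟩⟩, rfl⟩ | ⟨⟨⟨rfl, rfl⟩, gw37, ⟨rfl, rfl⟩⟩, rfl⟩ | ⟨⟨⟨rfl, rfl⟩, gw37, ⟨rfl, rfl⟩⟩, rfl⟩
                · have t := pc3 q45 c45.out (by have := v4.out; have := qn46.out; have := qn47.out; omega)
                  clear c45
                  rcases t with ⟨⟨⟨rfl, rfl⟩, gw45, ⟨rfl, rfl⟩⟩, rfl⟩ | ⟨⟨⟨rfl, rfl⟩, gw45, ⟨rfl, rfl⟩⟩, rfl⟩ | ⟨⟨⟨rfl, rfl⟩, gw45, ⟨rfl, rfl⟩⟩, rfl⟩ | ⟨⟨⟨rfl, rfl⟩, gw45, ⟨rfl, rfl⟩⟩, rfl⟩ | ⟨⟨⟨rfl, rfl⟩, gw45, ⟨rfl, rfl⟩⟩, rfl⟩ | ⟨⟨⟨rfl, rfl⟩, gw45, ⟨rfl, rfl⟩⟩, rfl⟩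
                  · (have := od5.out; omega)
                  · (have := hm5.out; have := e0.out; have := e1.out; have := e2.out; have := e3.out; have := e4.out; have := r46.out; have := r47.out; omega)
                  · (have := hm0.out; have := e1.out; have := e2.out; have := e3.out; have := e4.out; have := r46.out; have := r47.out; have := e5.out; have := r56.out; have := r57.out; omega)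
                  · (have := hm0.out; have := e1.out; have := e2.out; have := e3.out; have := e4.out; have := r46.out; have := r47.out; have := e5.out; have := r56.out; have := r57.out; omega)
                  · (have := hm5.out; have := e0.out; have := e1.out; have := e2.out; have := e3.out; have := e4.out; have := r46.out; have := r47.out; omega)
                  · (have := hm5.out; have := e0.out; have := e1.out; have := e2.out; have := e3.out; have := e4.out; have := r46.out; have := r47.out; omega)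
                · (have := hm7.out; have := om4.out; have := e0.out; have := e1.out; have := e2.out; have := e3.out; omega)
                · (have := hm7.out; have := om4.out; have := e0.out; have := e1.out; have := e2.out; have := e3.out; omega)
                · (have := hm7.out; have := om4.out; have := e0.out; have := e1.out; have := e2.out; have := e3.out; omega)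
              · (have := hm6.out; have := om4.out; have := e0.out; have := e1.out; have := e2.out; have := e3.out; have := r37.out; omega)
              · (have := hm6.out; have := om4.out; have := e0.out; have := e1.out; have := e2.out; have := e3.out; have := r37.out; omega)
              · (have := hm6.out; have := om4.out; have := e0.out; have := e1.out; have := e2.out; have := e3.out; have := r37.out; omega)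
            · (have := hm5.out; have := om4.out; have := e0.out; have := e1.out; have := e2.out; have := e3.out; have := r36.out; have := r37.out; omega)
            · (have := hm5.out; have := om4.out; have := e0.out; have := e1.out; have := e2.out; have := e3.out; have := r36.out; have := r37.out; omega)
            · (have := hm5.out; have := om4.out; have := e0.out; have := e1.out; have := e2.out; have := e3.out; have := r36.out; have := r37.out; omega)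
          · (have := hm0.out; have := hm4.out; have := e1.out; have := e2.out; have := e3.out; have := r35.out; have := r36.out; have := r37.out; have := e4.out; have := r45.out; have := r46.out; have := r47.out; omega)
          · (have := hm0.out; have := hm3.out; have := e1.out; have := e2.out; have := e3.out; have := r35.out; have := r36.out; have := r37.out; have := e4.out; have := r45.out; have := r46.out; have := r47.out; omega)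
          · (have := hm4.out; have := om4.out; have := e0.out; have := e1.out; have := e2.out; have := e3.out; have := r35.out; have := r36.out; have := r37.out; omega)
        · (have := hm7.out; have := om4.out; have := e0.out; have := e1.out; have := e2.out; have := e3.out; have := r34.out; have := r35.out; have := r36.out; have := r37.out; omega)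
      · (have := hm6.out; have := om4.out; have := e0.out; have := e1.out; have := e2.out; have := r27.out; have := e3.out; have := r34.out; have := r35.out; have := r36.out; have := r37.out; omega)
    · (have := hm5.out; have := om4.out; have := e0.out; have := e1.out; have := e2.out; have := r26.out; have := r27.out; have := e3.out; have := r34.out; have := r35.out; have := r36.out; have := r37.out; omega)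
  · (have := hm0.out; have := om3.out; have := e1.out; have := e2.out; have := r25.out; have := r26.out; have := r27.out; have := e4.out; have := r43.out; have := r45.out; have := r46.out; have := r47.out; omega)

set_option maxHeartbeats 0 in
theorem part38 (T : Models.NumericalType 8) (α23 α24 α25 α26 α27 α32 α34 α35 α36 α37 α42 α43 α45 α46 α47 α52 α53 α54 α56 α57 α62 α63 α64 α65 α67 α72 α73 α74 α75 α76 x23 x24 x25 x26 x27 x32 x34 x35 x36 x37 x42 x43 x45 x46 x47 x52 x53 x54 x56 x57 x62 x63 x64 x65 x67 x72 x73 x74 x75 x76 q23 q24 q25 q26 q27 q34 q35 q36 q37 q45 q46 q47 q56 q57 q67 : ℤ)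
    (hm0 : Hide (0 < T.m 0))
    (hm1 : Hide (0 < T.m 1))
    (hm2 : Hide (0 < T.m 2))
    (hm3 : Hide (0 < T.m 3))
    (hm4 : Hide (0 < T.m 4))
    (hm5 : Hide (0 < T.m 5))
    (hm6 : Hide (0 < T.m 6))
    (hm7 : Hide (0 < T.m 7))
    (om1 : Hide (T.m 0 ≤ T.m 1))
    (om2 : Hide (T.m 0 ≤ T.m 2))
    (om3 : Hide (T.m 0 ≤ T.m 3))
    (om4 : Hide (T.m 0 ≤ T.m 4))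
    (om5 : Hide (T.m 0 ≤ T.m 5))
    (om6 : Hide (T.m 0 ≤ T.m 6))
    (om7 : Hide (T.m 0 ≤ T.m 7))
    (e0 : Hide (T.m 1 + (0 : ℤ) + (0 : ℤ) + (0 : ℤ) + (0 : ℤ) + (0 : ℤ) + (0 : ℤ) = 2 * T.m 0))
    (e1 : Hide (T.m 0 + T.m 2 + (0 : ℤ) + T.m 4 + (0 : ℤ) + (0 : ℤ) + T.m 7 = 2 * T.m 1))
    (e2 : Hide ((0 : ℤ) + T.m 1 + x23 + x24 + x25 + x26 + x27 = 2 * T.m 2))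
    (e3 : Hide ((0 : ℤ) + (0 : ℤ) + x32 + x34 + x35 + x36 + x37 = 2 * T.m 3))
    (e4 : Hide ((0 : ℤ) + T.m 1 + x42 + x43 + x45 + x46 + x47 = 2 * T.m 4))
    (e5 : Hide ((0 : ℤ) + (0 : ℤ) + x52 + x53 + x54 + x56 + x57 = 2 * T.m 5))
    (e6 : Hide ((0 : ℤ) + (0 : ℤ) + x62 + x63 + x64 + x65 + x67 = 2 * T.m 6))
    (e7 : Hide ((0 : ℤ) + T.m 1 + x72 + x73 + x74 + x75 + x76 = 2 * T.m 7))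
    (r01 : Hide (0 ≤ T.m 1))
    (r02 : Hide (0 ≤ (0 : ℤ)))
    (r03 : Hide (0 ≤ (0 : ℤ)))
    (r04 : Hide (0 ≤ (0 : ℤ)))
    (r05 : Hide (0 ≤ (0 : ℤ)))
    (r06 : Hide (0 ≤ (0 : ℤ)))
    (r07 : Hide (0 ≤ (0 : ℤ)))
    (r10 : Hide (0 ≤ T.m 0))
    (r12 : Hide (0 ≤ T.m 2))
    (r13 : Hide (0 ≤ (0 : ℤ)))
    (r14 : Hide (0 ≤ T.m 4))
    (r15 : Hide (0 ≤ (0 : ℤ)))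
    (r16 : Hide (0 ≤ (0 : ℤ)))
    (r17 : Hide (0 ≤ T.m 7))
    (r20 : Hide (0 ≤ (0 : ℤ)))
    (r21 : Hide (0 ≤ T.m 1))
    (r23 : Hide (0 ≤ x23))
    (r24 : Hide (0 ≤ x24))
    (r25 : Hide (0 ≤ x25))
    (r26 : Hide (0 ≤ x26))
    (r27 : Hide (0 ≤ x27))
    (r30 : Hide (0 ≤ (0 : ℤ)))
    (r31 : Hide (0 ≤ (0 : ℤ)))
    (r32 : Hide (0 ≤ x32))
    (r34 : Hide (0 ≤ x34))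
    (r35 : Hide (0 ≤ x35))
    (r36 : Hide (0 ≤ x36))
    (r37 : Hide (0 ≤ x37))
    (r40 : Hide (0 ≤ (0 : ℤ)))
    (r41 : Hide (0 ≤ T.m 1))
    (r42 : Hide (0 ≤ x42))
    (r43 : Hide (0 ≤ x43))
    (r45 : Hide (0 ≤ x45))
    (r46 : Hide (0 ≤ x46))
    (r47 : Hide (0 ≤ x47))
    (r50 : Hide (0 ≤ (0 : ℤ)))
    (r51 : Hide (0 ≤ (0 : ℤ)))
    (r52 : Hide (0 ≤ x52))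
    (r53 : Hide (0 ≤ x53))
    (r54 : Hide (0 ≤ x54))
    (r56 : Hide (0 ≤ x56))
    (r57 : Hide (0 ≤ x57))
    (r60 : Hide (0 ≤ (0 : ℤ)))
    (r61 : Hide (0 ≤ (0 : ℤ)))
    (r62 : Hide (0 ≤ x62))
    (r63 : Hide (0 ≤ x63))
    (r64 : Hide (0 ≤ x64))
    (r65 : Hide (0 ≤ x65))
    (r67 : Hide (0 ≤ x67))
    (r70 : Hide (0 ≤ (0 : ℤ)))
    (r71 : Hide (0 ≤ T.m 1))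
    (r72 : Hide (0 ≤ x72))
    (r73 : Hide (0 ≤ x73))
    (r74 : Hide (0 ≤ x74))
    (r75 : Hide (0 ≤ x75))
    (r76 : Hide (0 ≤ x76))
    (hw0 : Hide (0 < T.w 0))
    (hw1 : Hide (0 < T.w 1))
    (hw2 : Hide (0 < T.w 2))
    (hw3 : Hide (0 < T.w 3))
    (hw4 : Hide (0 < T.w 4))
    (hw5 : Hide (0 < T.w 5))
    (hw6 : Hide (0 < T.w 6))
    (hw7 : Hide (0 < T.w 7))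
    (hs01 : Hide (T.a 0 1 = T.a 1 0))
    (hs02 : Hide (T.a 0 2 = T.a 2 0))
    (hs03 : Hide (T.a 0 3 = T.a 3 0))
    (hs04 : Hide (T.a 0 4 = T.a 4 0))
    (hs05 : Hide (T.a 0 5 = T.a 5 0))
    (hs06 : Hide (T.a 0 6 = T.a 6 0))
    (hs07 : Hide (T.a 0 7 = T.a 7 0))
    (hs12 : Hide (T.a 1 2 = T.a 2 1))
    (hs13 : Hide (T.a 1 3 = T.a 3 1))
    (hs14 : Hide (T.a 1 4 = T.a 4 1))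
    (hs15 : Hide (T.a 1 5 = T.a 5 1))
    (hs16 : Hide (T.a 1 6 = T.a 6 1))
    (hs17 : Hide (T.a 1 7 = T.a 7 1))
    (hs23 : Hide (T.a 2 3 = T.a 3 2))
    (hs24 : Hide (T.a 2 4 = T.a 4 2))
    (hs25 : Hide (T.a 2 5 = T.a 5 2))
    (hs26 : Hide (T.a 2 6 = T.a 6 2))
    (hs27 : Hide (T.a 2 7 = T.a 7 2))
    (hs34 : Hide (T.a 3 4 = T.a 4 3))
    (hs35 : Hide (T.a 3 5 = T.a 5 3))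
    (hs36 : Hide (T.a 3 6 = T.a 6 3))
    (hs37 : Hide (T.a 3 7 = T.a 7 3))
    (hs45 : Hide (T.a 4 5 = T.a 5 4))
    (hs46 : Hide (T.a 4 6 = T.a 6 4))
    (hs47 : Hide (T.a 4 7 = T.a 7 4))
    (hs56 : Hide (T.a 5 6 = T.a 6 5))
    (hs57 : Hide (T.a 5 7 = T.a 7 5))
    (hs67 : Hide (T.a 6 7 = T.a 7 6))
    (ha00 : Hide (T.a 0 0 = -2 * T.w 0))
    (ha11 : Hide (T.a 1 1 = -2 * T.w 1))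
    (ha22 : Hide (T.a 2 2 = -2 * T.w 2))
    (ha33 : Hide (T.a 3 3 = -2 * T.w 3))
    (ha44 : Hide (T.a 4 4 = -2 * T.w 4))
    (ha55 : Hide (T.a 5 5 = -2 * T.w 5))
    (ha66 : Hide (T.a 6 6 = -2 * T.w 6))
    (ha77 : Hide (T.a 7 7 = -2 * T.w 7))
    (v0 : Hide ((1 : ℤ) + (0 : ℤ) + (0 : ℤ) + (0 : ℤ) + (0 : ℤ) + (0 : ℤ) + (0 : ℤ) ≤ 4))
    (v1 : Hide ((1 : ℤ) + (1 : ℤ) + (0 : ℤ) + (1 : ℤ) + (0 : ℤ) + (0 : ℤ) + (1 : ℤ) ≤ 4))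
    (v2 : Hide ((0 : ℤ) + (1 : ℤ) + q23 + q24 + q25 + q26 + q27 ≤ 4))
    (v3 : Hide ((0 : ℤ) + (0 : ℤ) + q23 + q34 + q35 + q36 + q37 ≤ 4))
    (v4 : Hide ((0 : ℤ) + (1 : ℤ) + q24 + q34 + q45 + q46 + q47 ≤ 4))
    (v5 : Hide ((0 : ℤ) + (0 : ℤ) + q25 + q35 + q45 + q56 + q57 ≤ 4))
    (v6 : Hide ((0 : ℤ) + (0 : ℤ) + q26 + q36 + q46 + q56 + q67 ≤ 4))
    (v7 : Hide ((0 : ℤ) + (1 : ℤ) + q27 + q37 + q47 + q57 + q67 ≤ 4))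
    (qn01 : Hide (0 ≤ (1 : ℤ)))
    (qn02 : Hide (0 ≤ (0 : ℤ)))
    (qn03 : Hide (0 ≤ (0 : ℤ)))
    (qn04 : Hide (0 ≤ (0 : ℤ)))
    (qn05 : Hide (0 ≤ (0 : ℤ)))
    (qn06 : Hide (0 ≤ (0 : ℤ)))
    (qn07 : Hide (0 ≤ (0 : ℤ)))
    (qn12 : Hide (0 ≤ (1 : ℤ)))
    (qn13 : Hide (0 ≤ (0 : ℤ)))
    (qn14 : Hide (0 ≤ (1 : ℤ)))
    (qn15 : Hide (0 ≤ (0 : ℤ)))
    (qn16 : Hide (0 ≤ (0 : ℤ)))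
    (qn17 : Hide (0 ≤ (1 : ℤ)))
    (qn23 : Hide (0 ≤ q23))
    (qn24 : Hide (0 ≤ q24))
    (qn25 : Hide (0 ≤ q25))
    (qn26 : Hide (0 ≤ q26))
    (qn27 : Hide (0 ≤ q27))
    (qn34 : Hide (0 ≤ q34))
    (qn35 : Hide (0 ≤ q35))
    (qn36 : Hide (0 ≤ q36))
    (qn37 : Hide (0 ≤ q37))
    (qn45 : Hide (0 ≤ q45))
    (qn46 : Hide (0 ≤ q46))
    (qn47 : Hide (0 ≤ q47))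
    (qn56 : Hide (0 ≤ q56))
    (qn57 : Hide (0 ≤ q57))
    (qn67 : Hide (0 ≤ q67))
    (od1 : Hide (0 < (1 : ℤ)))
    (od2 : Hide (0 < (0 : ℤ) + (1 : ℤ)))
    (od3 : Hide (0 < (0 : ℤ) + (0 : ℤ) + α23))
    (od4 : Hide (0 < (0 : ℤ) + (1 : ℤ) + α24 + α34))
    (od5 : Hide (0 < (0 : ℤ) + (0 : ℤ) + α25 + α35 + α45))
    (od6 : Hide (0 < (0 : ℤ) + (0 : ℤ) + α26 + α36 + α46 + α56))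
    (od7 : Hide (0 < (0 : ℤ) + (1 : ℤ) + α27 + α37 + α47 + α57 + α67))
    (c23 : Hide (((Hide (x23 = 0 ∧ x32 = 0) ∧ Hide (T.a 2 3 = 0 ∧ T.a 3 2 = 0) ∧ Hide (α23 = 0 ∧ α32 = 0)) ∧ q23 = 0) ∨ ((Hide (x23 = T.m 3 ∧ x32 = T.m 2) ∧ Hide (T.a 2 3 = T.w 2 ∧ T.a 3 2 = T.w 3) ∧ Hide (α23 = 1 ∧ α32 = 1)) ∧ q23 = 1) ∨ ((Hide (x23 = T.m 3 ∧ x32 = 2 * T.m 2) ∧ Hide (T.a 2 3 = T.w 2 ∧ T.a 3 2 = 2 * T.w 3) ∧ Hide (α23 = 1 ∧ α32 = 2)) ∧ q23 = 2) ∨ ((Hide (x23 = 2 * T.m 3 ∧ x32 = T.m 2) ∧ Hide (T.a 2 3 = 2 * T.w 2 ∧ T.a 3 2 = T.w 3) ∧ Hide (α23 = 2 ∧ α32 = 1)) ∧ q23 = 2) ∨ ((Hide (x23 = T.m 3 ∧ x32 = 3 * T.m 2) ∧ Hide (T.a 2 3 = T.w 2 ∧ T.a 3 2 = 3 * T.w 3) ∧ Hide (α23 = 1 ∧ α32 = 3)) ∧ q23 = 3) ∨ ((Hide (x23 = 3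 * T.m 3 ∧ x32 = T.m 2) ∧ Hide (T.a 2 3 = 3 * T.w 2 ∧ T.a 3 2 = T.w 3) ∧ Hide (α23 = 3 ∧ α32 = 1)) ∧ q23 = 3) ∨ ((Hide (x23 = T.m 3 ∧ x32 = 4 * T.m 2) ∧ Hide (T.a 2 3 = T.w 2 ∧ T.a 3 2 = 4 * T.w 3) ∧ Hide (α23 = 1 ∧ α32 = 4)) ∧ q23 = 4) ∨ ((Hide (x23 = 4 * T.m 3 ∧ x32 = T.m 2) ∧ Hide (T.a 2 3 = 4 * T.w 2 ∧ T.a 3 2 = T.w 3) ∧ Hide (α23 = 4 ∧ α32 = 1)) ∧ q23 = 4) ∨ ((Hide (x23 = 2 * T.m 3 ∧ x32 = 2 * T.m 2) ∧ Hide (T.a 2 3 = 2 * T.w 2 ∧ T.a 3 2 = 2 * T.w 3) ∧ Hide (α23 = 2 ∧ α32 = 2)) ∧ q23 = 4)))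
    (c24 : Hide (((Hide (x24 = 0 ∧ x42 = 0) ∧ Hide (T.a 2 4 = 0 ∧ T.a 4 2 = 0) ∧ Hide (α24 = 0 ∧ α42 = 0)) ∧ q24 = 0) ∨ ((Hide (x24 = T.m 4 ∧ x42 = T.m 2) ∧ Hide (T.a 2 4 = T.w 2 ∧ T.a 4 2 = T.w 4) ∧ Hide (α24 = 1 ∧ α42 = 1)) ∧ q24 = 1) ∨ ((Hide (x24 = T.m 4 ∧ x42 = 2 * T.m 2) ∧ Hide (T.a 2 4 = T.w 2 ∧ T.a 4 2 = 2 * T.w 4) ∧ Hide (α24 = 1 ∧ α42 = 2)) ∧ q24 = 2) ∨ ((Hide (x24 = 2 * T.m 4 ∧ x42 = T.m 2) ∧ Hide (T.a 2 4 = 2 * T.w 2 ∧ T.a 4 2 = T.w 4) ∧ Hide (α24 = 2 ∧ α42 = 1)) ∧ q24 = 2) ∨ ((Hide (x24 = T.m 4 ∧ x42 = 3 * T.m 2) ∧ Hide (T.a 2 4 = T.w 2 ∧ T.a 4 2 = 3 * T.w 4) ∧ Hide (α24 = 1 ∧ α42 = 3)) ∧ q24 = 3) ∨ ((Hide (x24 = 3 * T.m 4 ∧ x42 = T.m 2) ∧ Hide (T.a 2 4 = 3 * T.w 2 ∧ T.a 4 2 = T.w 4)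 ∧ Hide (α24 = 3 ∧ α42 = 1)) ∧ q24 = 3) ∨ ((Hide (x24 = T.m 4 ∧ x42 = 4 * T.m 2) ∧ Hide (T.a 2 4 = T.w 2 ∧ T.a 4 2 = 4 * T.w 4) ∧ Hide (α24 = 1 ∧ α42 = 4)) ∧ q24 = 4) ∨ ((Hide (x24 = 4 * T.m 4 ∧ x42 = T.m 2) ∧ Hide (T.a 2 4 = 4 * T.w 2 ∧ T.a 4 2 = T.w 4) ∧ Hide (α24 = 4 ∧ α42 = 1)) ∧ q24 = 4) ∨ ((Hide (x24 = 2 * T.m 4 ∧ x42 = 2 * T.m 2) ∧ Hide (T.a 2 4 = 2 * T.w 2 ∧ T.a 4 2 = 2 * T.w 4) ∧ Hide (α24 = 2 ∧ α42 = 2)) ∧ q24 = 4)))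
    (c25 : Hide (((Hide (x25 = 0 ∧ x52 = 0) ∧ Hide (T.a 2 5 = 0 ∧ T.a 5 2 = 0) ∧ Hide (α25 = 0 ∧ α52 = 0)) ∧ q25 = 0) ∨ ((Hide (x25 = T.m 5 ∧ x52 = T.m 2) ∧ Hide (T.a 2 5 = T.w 2 ∧ T.a 5 2 = T.w 5) ∧ Hide (α25 = 1 ∧ α52 = 1)) ∧ q25 = 1) ∨ ((Hide (x25 = T.m 5 ∧ x52 = 2 * T.m 2) ∧ Hide (T.a 2 5 = T.w 2 ∧ T.a 5 2 = 2 * T.w 5) ∧ Hide (α25 = 1 ∧ α52 = 2)) ∧ q25 = 2) ∨ ((Hide (x25 = 2 * T.m 5 ∧ x52 = T.m 2) ∧ Hide (T.a 2 5 = 2 * T.w 2 ∧ T.a 5 2 = T.w 5) ∧ Hide (α25 = 2 ∧ α52 = 1)) ∧ q25 = 2) ∨ ((Hide (x25 = T.m 5 ∧ x52 = 3 * T.m 2) ∧ Hide (T.a 2 5 = T.w 2 ∧ T.a 5 2 = 3 * T.w 5) ∧ Hide (α25 = 1 ∧ α52 = 3)) ∧ q25 = 3) ∨ ((Hide (x25 = 3 * T.m 5 ∧ x52 = T.m 2) ∧ Hide (T.a 2 5 = 3 * T.w 2 ∧ T.a 5 2 = T.w 5)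 ∧ Hide (α25 = 3 ∧ α52 = 1)) ∧ q25 = 3) ∨ ((Hide (x25 = T.m 5 ∧ x52 = 4 * T.m 2) ∧ Hide (T.a 2 5 = T.w 2 ∧ T.a 5 2 = 4 * T.w 5) ∧ Hide (α25 = 1 ∧ α52 = 4)) ∧ q25 = 4) ∨ ((Hide (x25 = 4 * T.m 5 ∧ x52 = T.m 2) ∧ Hide (T.a 2 5 = 4 * T.w 2 ∧ T.a 5 2 = T.w 5) ∧ Hide (α25 = 4 ∧ α52 = 1)) ∧ q25 = 4) ∨ ((Hide (x25 = 2 * T.m 5 ∧ x52 = 2 * T.m 2) ∧ Hide (T.a 2 5 = 2 * T.w 2 ∧ T.a 5 2 = 2 * T.w 5) ∧ Hide (α25 = 2 ∧ α52 = 2)) ∧ q25 = 4)))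
    (c26 : Hide (((Hide (x26 = 0 ∧ x62 = 0) ∧ Hide (T.a 2 6 = 0 ∧ T.a 6 2 = 0) ∧ Hide (α26 = 0 ∧ α62 = 0)) ∧ q26 = 0) ∨ ((Hide (x26 = T.m 6 ∧ x62 = T.m 2) ∧ Hide (T.a 2 6 = T.w 2 ∧ T.a 6 2 = T.w 6) ∧ Hide (α26 = 1 ∧ α62 = 1)) ∧ q26 = 1) ∨ ((Hide (x26 = T.m 6 ∧ x62 = 2 * T.m 2) ∧ Hide (T.a 2 6 = T.w 2 ∧ T.a 6 2 = 2 * T.w 6) ∧ Hide (α26 = 1 ∧ α62 = 2)) ∧ q26 = 2) ∨ ((Hide (x26 = 2 * T.m 6 ∧ x62 = T.m 2) ∧ Hide (T.a 2 6 = 2 * T.w 2 ∧ T.a 6 2 = T.w 6) ∧ Hide (α26 = 2 ∧ α62 = 1)) ∧ q26 = 2) ∨ ((Hide (x26 = T.m 6 ∧ x62 = 3 * T.m 2) ∧ Hide (T.a 2 6 = T.w 2 ∧ T.a 6 2 = 3 * T.w 6) ∧ Hide (α26 = 1 ∧ α62 = 3)) ∧ q26 = 3) ∨ ((Hide (x26 = 3 * T.m 6 ∧ x62 = T.m 2) ∧ Hide (T.a 2 6 = 3 * T.w 2 ∧ T.a 6 2 = T.w 6)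 ∧ Hide (α26 = 3 ∧ α62 = 1)) ∧ q26 = 3) ∨ ((Hide (x26 = T.m 6 ∧ x62 = 4 * T.m 2) ∧ Hide (T.a 2 6 = T.w 2 ∧ T.a 6 2 = 4 * T.w 6) ∧ Hide (α26 = 1 ∧ α62 = 4)) ∧ q26 = 4) ∨ ((Hide (x26 = 4 * T.m 6 ∧ x62 = T.m 2) ∧ Hide (T.a 2 6 = 4 * T.w 2 ∧ T.a 6 2 = T.w 6) ∧ Hide (α26 = 4 ∧ α62 = 1)) ∧ q26 = 4) ∨ ((Hide (x26 = 2 * T.m 6 ∧ x62 = 2 * T.m 2) ∧ Hide (T.a 2 6 = 2 * T.w 2 ∧ T.a 6 2 = 2 * T.w 6) ∧ Hide (α26 = 2 ∧ α62 = 2)) ∧ q26 = 4)))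
    (c27 : Hide (((Hide (x27 = 0 ∧ x72 = 0) ∧ Hide (T.a 2 7 = 0 ∧ T.a 7 2 = 0) ∧ Hide (α27 = 0 ∧ α72 = 0)) ∧ q27 = 0) ∨ ((Hide (x27 = T.m 7 ∧ x72 = T.m 2) ∧ Hide (T.a 2 7 = T.w 2 ∧ T.a 7 2 = T.w 7) ∧ Hide (α27 = 1 ∧ α72 = 1)) ∧ q27 = 1) ∨ ((Hide (x27 = T.m 7 ∧ x72 = 2 * T.m 2) ∧ Hide (T.a 2 7 = T.w 2 ∧ T.a 7 2 = 2 * T.w 7) ∧ Hide (α27 = 1 ∧ α72 = 2)) ∧ q27 = 2) ∨ ((Hide (x27 = 2 * T.m 7 ∧ x72 = T.m 2) ∧ Hide (T.a 2 7 = 2 * T.w 2 ∧ T.a 7 2 = T.w 7) ∧ Hide (α27 = 2 ∧ α72 = 1)) ∧ q27 = 2) ∨ ((Hide (x27 = T.m 7 ∧ x72 = 3 * T.m 2) ∧ Hide (T.a 2 7 = T.w 2 ∧ T.a 7 2 = 3 * T.w 7) ∧ Hide (α27 = 1 ∧ α72 = 3)) ∧ q27 = 3) ∨ ((Hide (x27 = 3 * T.m 7 ∧ x72 = T.m 2) ∧ Hide (T.a 2 7 = 3 * T.w 2 ∧ T.a 7 2 = T.w 7)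 ∧ Hide (α27 = 3 ∧ α72 = 1)) ∧ q27 = 3) ∨ ((Hide (x27 = T.m 7 ∧ x72 = 4 * T.m 2) ∧ Hide (T.a 2 7 = T.w 2 ∧ T.a 7 2 = 4 * T.w 7) ∧ Hide (α27 = 1 ∧ α72 = 4)) ∧ q27 = 4) ∨ ((Hide (x27 = 4 * T.m 7 ∧ x72 = T.m 2) ∧ Hide (T.a 2 7 = 4 * T.w 2 ∧ T.a 7 2 = T.w 7) ∧ Hide (α27 = 4 ∧ α72 = 1)) ∧ q27 = 4) ∨ ((Hide (x27 = 2 * T.m 7 ∧ x72 = 2 * T.m 2) ∧ Hide (T.a 2 7 = 2 * T.w 2 ∧ T.a 7 2 = 2 * T.w 7) ∧ Hide (α27 = 2 ∧ α72 = 2)) ∧ q27 = 4)))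
    (c34 : Hide (((Hide (x34 = 0 ∧ x43 = 0) ∧ Hide (T.a 3 4 = 0 ∧ T.a 4 3 = 0) ∧ Hide (α34 = 0 ∧ α43 = 0)) ∧ q34 = 0) ∨ ((Hide (x34 = T.m 4 ∧ x43 = T.m 3) ∧ Hide (T.a 3 4 = T.w 3 ∧ T.a 4 3 = T.w 4) ∧ Hide (α34 = 1 ∧ α43 = 1)) ∧ q34 = 1) ∨ ((Hide (x34 = T.m 4 ∧ x43 = 2 * T.m 3) ∧ Hide (T.a 3 4 = T.w 3 ∧ T.a 4 3 = 2 * T.w 4) ∧ Hide (α34 = 1 ∧ α43 = 2)) ∧ q34 = 2) ∨ ((Hide (x34 = 2 * T.m 4 ∧ x43 = T.m 3) ∧ Hide (T.a 3 4 = 2 * T.w 3 ∧ T.a 4 3 = T.w 4) ∧ Hide (α34 = 2 ∧ α43 = 1)) ∧ q34 = 2) ∨ ((Hide (x34 = T.m 4 ∧ x43 = 3 * T.m 3) ∧ Hide (T.a 3 4 = T.w 3 ∧ T.a 4 3 = 3 * T.w 4) ∧ Hide (α34 = 1 ∧ α43 = 3)) ∧ q34 = 3) ∨ ((Hide (x34 = 3 * T.m 4 ∧ x43 = T.m 3) ∧ Hide (T.a 3 4 = 3 * T.w 3 ∧ T.a 4 3 = T.w 4)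 ∧ Hide (α34 = 3 ∧ α43 = 1)) ∧ q34 = 3) ∨ ((Hide (x34 = T.m 4 ∧ x43 = 4 * T.m 3) ∧ Hide (T.a 3 4 = T.w 3 ∧ T.a 4 3 = 4 * T.w 4) ∧ Hide (α34 = 1 ∧ α43 = 4)) ∧ q34 = 4) ∨ ((Hide (x34 = 4 * T.m 4 ∧ x43 = T.m 3) ∧ Hide (T.a 3 4 = 4 * T.w 3 ∧ T.a 4 3 = T.w 4) ∧ Hide (α34 = 4 ∧ α43 = 1)) ∧ q34 = 4) ∨ ((Hide (x34 = 2 * T.m 4 ∧ x43 = 2 * T.m 3) ∧ Hide (T.a 3 4 = 2 * T.w 3 ∧ T.a 4 3 = 2 * T.w 4) ∧ Hide (α34 = 2 ∧ α43 = 2)) ∧ q34 = 4)))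
    (c35 : Hide (((Hide (x35 = 0 ∧ x53 = 0) ∧ Hide (T.a 3 5 = 0 ∧ T.a 5 3 = 0) ∧ Hide (α35 = 0 ∧ α53 = 0)) ∧ q35 = 0) ∨ ((Hide (x35 = T.m 5 ∧ x53 = T.m 3) ∧ Hide (T.a 3 5 = T.w 3 ∧ T.a 5 3 = T.w 5) ∧ Hide (α35 = 1 ∧ α53 = 1)) ∧ q35 = 1) ∨ ((Hide (x35 = T.m 5 ∧ x53 = 2 * T.m 3) ∧ Hide (T.a 3 5 = T.w 3 ∧ T.a 5 3 = 2 * T.w 5) ∧ Hide (α35 = 1 ∧ α53 = 2)) ∧ q35 = 2) ∨ ((Hide (x35 = 2 * T.m 5 ∧ x53 = T.m 3) ∧ Hide (T.a 3 5 = 2 * T.w 3 ∧ T.a 5 3 = T.w 5) ∧ Hide (α35 = 2 ∧ α53 = 1)) ∧ q35 = 2) ∨ ((Hide (x35 = T.m 5 ∧ x53 = 3 * T.m 3) ∧ Hide (T.a 3 5 = T.w 3 ∧ T.a 5 3 = 3 * T.w 5) ∧ Hide (α35 = 1 ∧ α53 = 3)) ∧ q35 = 3) ∨ ((Hide (x35 = 3 * T.m 5 ∧ x53 = T.m 3) ∧ Hide (T.a 3 5 = 3 * T.w 3 ∧ T.a 5 3 = T.w 5)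 ∧ Hide (α35 = 3 ∧ α53 = 1)) ∧ q35 = 3) ∨ ((Hide (x35 = T.m 5 ∧ x53 = 4 * T.m 3) ∧ Hide (T.a 3 5 = T.w 3 ∧ T.a 5 3 = 4 * T.w 5) ∧ Hide (α35 = 1 ∧ α53 = 4)) ∧ q35 = 4) ∨ ((Hide (x35 = 4 * T.m 5 ∧ x53 = T.m 3) ∧ Hide (T.a 3 5 = 4 * T.w 3 ∧ T.a 5 3 = T.w 5) ∧ Hide (α35 = 4 ∧ α53 = 1)) ∧ q35 = 4) ∨ ((Hide (x35 = 2 * T.m 5 ∧ x53 = 2 * T.m 3) ∧ Hide (T.a 3 5 = 2 * T.w 3 ∧ T.a 5 3 = 2 * T.w 5) ∧ Hide (α35 = 2 ∧ α53 = 2)) ∧ q35 = 4)))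
    (c36 : Hide (((Hide (x36 = 0 ∧ x63 = 0) ∧ Hide (T.a 3 6 = 0 ∧ T.a 6 3 = 0) ∧ Hide (α36 = 0 ∧ α63 = 0)) ∧ q36 = 0) ∨ ((Hide (x36 = T.m 6 ∧ x63 = T.m 3) ∧ Hide (T.a 3 6 = T.w 3 ∧ T.a 6 3 = T.w 6) ∧ Hide (α36 = 1 ∧ α63 = 1)) ∧ q36 = 1) ∨ ((Hide (x36 = T.m 6 ∧ x63 = 2 * T.m 3) ∧ Hide (T.a 3 6 = T.w 3 ∧ T.a 6 3 = 2 * T.w 6) ∧ Hide (α36 = 1 ∧ α63 = 2)) ∧ q36 = 2) ∨ ((Hide (x36 = 2 * T.m 6 ∧ x63 = T.m 3) ∧ Hide (T.a 3 6 = 2 * T.w 3 ∧ T.a 6 3 = T.w 6) ∧ Hide (α36 = 2 ∧ α63 = 1)) ∧ q36 = 2) ∨ ((Hide (x36 = T.m 6 ∧ x63 = 3 * T.m 3) ∧ Hide (T.a 3 6 = T.w 3 ∧ T.a 6 3 = 3 * T.w 6) ∧ Hide (α36 = 1 ∧ α63 = 3)) ∧ q36 = 3) ∨ ((Hide (x36 = 3 * T.m 6 ∧ x63 = T.m 3) ∧ Hide (T.a 3 6 = 3 * T.w 3 ∧ T.a 6 3 = T.w 6)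 ∧ Hide (α36 = 3 ∧ α63 = 1)) ∧ q36 = 3) ∨ ((Hide (x36 = T.m 6 ∧ x63 = 4 * T.m 3) ∧ Hide (T.a 3 6 = T.w 3 ∧ T.a 6 3 = 4 * T.w 6) ∧ Hide (α36 = 1 ∧ α63 = 4)) ∧ q36 = 4) ∨ ((Hide (x36 = 4 * T.m 6 ∧ x63 = T.m 3) ∧ Hide (T.a 3 6 = 4 * T.w 3 ∧ T.a 6 3 = T.w 6) ∧ Hide (α36 = 4 ∧ α63 = 1)) ∧ q36 = 4) ∨ ((Hide (x36 = 2 * T.m 6 ∧ x63 = 2 * T.m 3) ∧ Hide (T.a 3 6 = 2 * T.w 3 ∧ T.a 6 3 = 2 * T.w 6) ∧ Hide (α36 = 2 ∧ α63 = 2)) ∧ q36 = 4)))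
    (c37 : Hide (((Hide (x37 = 0 ∧ x73 = 0) ∧ Hide (T.a 3 7 = 0 ∧ T.a 7 3 = 0) ∧ Hide (α37 = 0 ∧ α73 = 0)) ∧ q37 = 0) ∨ ((Hide (x37 = T.m 7 ∧ x73 = T.m 3) ∧ Hide (T.a 3 7 = T.w 3 ∧ T.a 7 3 = T.w 7) ∧ Hide (α37 = 1 ∧ α73 = 1)) ∧ q37 = 1) ∨ ((Hide (x37 = T.m 7 ∧ x73 = 2 * T.m 3) ∧ Hide (T.a 3 7 = T.w 3 ∧ T.a 7 3 = 2 * T.w 7) ∧ Hide (α37 = 1 ∧ α73 = 2)) ∧ q37 = 2) ∨ ((Hide (x37 = 2 * T.m 7 ∧ x73 = T.m 3) ∧ Hide (T.a 3 7 = 2 * T.w 3 ∧ T.a 7 3 = T.w 7) ∧ Hide (α37 = 2 ∧ α73 = 1)) ∧ q37 = 2) ∨ ((Hide (x37 = T.m 7 ∧ x73 = 3 * T.m 3) ∧ Hide (T.a 3 7 = T.w 3 ∧ T.a 7 3 = 3 * T.w 7) ∧ Hide (α37 = 1 ∧ α73 = 3)) ∧ q37 = 3) ∨ ((Hide (x37 = 3 * T.m 7 ∧ x73 = T.m 3) ∧ Hide (T.a 3 7 = 3 * T.w 3 ∧ T.a 7 3 = T.w 7)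 ∧ Hide (α37 = 3 ∧ α73 = 1)) ∧ q37 = 3) ∨ ((Hide (x37 = T.m 7 ∧ x73 = 4 * T.m 3) ∧ Hide (T.a 3 7 = T.w 3 ∧ T.a 7 3 = 4 * T.w 7) ∧ Hide (α37 = 1 ∧ α73 = 4)) ∧ q37 = 4) ∨ ((Hide (x37 = 4 * T.m 7 ∧ x73 = T.m 3) ∧ Hide (T.a 3 7 = 4 * T.w 3 ∧ T.a 7 3 = T.w 7) ∧ Hide (α37 = 4 ∧ α73 = 1)) ∧ q37 = 4) ∨ ((Hide (x37 = 2 * T.m 7 ∧ x73 = 2 * T.m 3) ∧ Hide (T.a 3 7 = 2 * T.w 3 ∧ T.a 7 3 = 2 * T.w 7) ∧ Hide (α37 = 2 ∧ α73 = 2)) ∧ q37 = 4)))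
    (c45 : Hide (((Hide (x45 = 0 ∧ x54 = 0) ∧ Hide (T.a 4 5 = 0 ∧ T.a 5 4 = 0) ∧ Hide (α45 = 0 ∧ α54 = 0)) ∧ q45 = 0) ∨ ((Hide (x45 = T.m 5 ∧ x54 = T.m 4) ∧ Hide (T.a 4 5 = T.w 4 ∧ T.a 5 4 = T.w 5) ∧ Hide (α45 = 1 ∧ α54 = 1)) ∧ q45 = 1) ∨ ((Hide (x45 = T.m 5 ∧ x54 = 2 * T.m 4) ∧ Hide (T.a 4 5 = T.w 4 ∧ T.a 5 4 = 2 * T.w 5) ∧ Hide (α45 = 1 ∧ α54 = 2)) ∧ q45 = 2) ∨ ((Hide (x45 = 2 * T.m 5 ∧ x54 = T.m 4) ∧ Hide (T.a 4 5 = 2 * T.w 4 ∧ T.a 5 4 = T.w 5) ∧ Hide (α45 = 2 ∧ α54 = 1)) ∧ q45 = 2) ∨ ((Hide (x45 = T.m 5 ∧ x54 = 3 * T.m 4) ∧ Hide (T.a 4 5 = T.w 4 ∧ T.a 5 4 = 3 * T.w 5) ∧ Hide (α45 = 1 ∧ α54 = 3)) ∧ q45 = 3) ∨ ((Hide (x45 = 3 * T.m 5 ∧ x54 = T.m 4) ∧ Hide (T.a 4 5 = 3 * T.w 4 ∧ T.a 5 4 = T.w 5)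 ∧ Hide (α45 = 3 ∧ α54 = 1)) ∧ q45 = 3) ∨ ((Hide (x45 = T.m 5 ∧ x54 = 4 * T.m 4) ∧ Hide (T.a 4 5 = T.w 4 ∧ T.a 5 4 = 4 * T.w 5) ∧ Hide (α45 = 1 ∧ α54 = 4)) ∧ q45 = 4) ∨ ((Hide (x45 = 4 * T.m 5 ∧ x54 = T.m 4) ∧ Hide (T.a 4 5 = 4 * T.w 4 ∧ T.a 5 4 = T.w 5) ∧ Hide (α45 = 4 ∧ α54 = 1)) ∧ q45 = 4) ∨ ((Hide (x45 = 2 * T.m 5 ∧ x54 = 2 * T.m 4) ∧ Hide (T.a 4 5 = 2 * T.w 4 ∧ T.a 5 4 = 2 * T.w 5) ∧ Hide (α45 = 2 ∧ α54 = 2)) ∧ q45 = 4)))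
    (c46 : Hide (((Hide (x46 = 0 ∧ x64 = 0) ∧ Hide (T.a 4 6 = 0 ∧ T.a 6 4 = 0) ∧ Hide (α46 = 0 ∧ α64 = 0)) ∧ q46 = 0) ∨ ((Hide (x46 = T.m 6 ∧ x64 = T.m 4) ∧ Hide (T.a 4 6 = T.w 4 ∧ T.a 6 4 = T.w 6) ∧ Hide (α46 = 1 ∧ α64 = 1)) ∧ q46 = 1) ∨ ((Hide (x46 = T.m 6 ∧ x64 = 2 * T.m 4) ∧ Hide (T.a 4 6 = T.w 4 ∧ T.a 6 4 = 2 * T.w 6) ∧ Hide (α46 = 1 ∧ α64 = 2)) ∧ q46 = 2) ∨ ((Hide (x46 = 2 * T.m 6 ∧ x64 = T.m 4) ∧ Hide (T.a 4 6 = 2 * T.w 4 ∧ T.a 6 4 = T.w 6) ∧ Hide (α46 = 2 ∧ α64 = 1)) ∧ q46 = 2) ∨ ((Hide (x46 = T.m 6 ∧ x64 = 3 * T.m 4) ∧ Hide (T.a 4 6 = T.w 4 ∧ T.a 6 4 = 3 * T.w 6) ∧ Hide (α46 = 1 ∧ α64 = 3)) ∧ q46 = 3) ∨ ((Hide (x46 = 3 * T.m 6 ∧ x64 = T.m 4) ∧ Hide (T.a 4 6 = 3 * T.w 4 ∧ T.a 6 4 = T.w 6)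 ∧ Hide (α46 = 3 ∧ α64 = 1)) ∧ q46 = 3) ∨ ((Hide (x46 = T.m 6 ∧ x64 = 4 * T.m 4) ∧ Hide (T.a 4 6 = T.w 4 ∧ T.a 6 4 = 4 * T.w 6) ∧ Hide (α46 = 1 ∧ α64 = 4)) ∧ q46 = 4) ∨ ((Hide (x46 = 4 * T.m 6 ∧ x64 = T.m 4) ∧ Hide (T.a 4 6 = 4 * T.w 4 ∧ T.a 6 4 = T.w 6) ∧ Hide (α46 = 4 ∧ α64 = 1)) ∧ q46 = 4) ∨ ((Hide (x46 = 2 * T.m 6 ∧ x64 = 2 * T.m 4) ∧ Hide (T.a 4 6 = 2 * T.w 4 ∧ T.a 6 4 = 2 * T.w 6) ∧ Hide (α46 = 2 ∧ α64 = 2)) ∧ q46 = 4)))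
    (c47 : Hide (((Hide (x47 = 0 ∧ x74 = 0) ∧ Hide (T.a 4 7 = 0 ∧ T.a 7 4 = 0) ∧ Hide (α47 = 0 ∧ α74 = 0)) ∧ q47 = 0) ∨ ((Hide (x47 = T.m 7 ∧ x74 = T.m 4) ∧ Hide (T.a 4 7 = T.w 4 ∧ T.a 7 4 = T.w 7) ∧ Hide (α47 = 1 ∧ α74 = 1)) ∧ q47 = 1) ∨ ((Hide (x47 = T.m 7 ∧ x74 = 2 * T.m 4) ∧ Hide (T.a 4 7 = T.w 4 ∧ T.a 7 4 = 2 * T.w 7) ∧ Hide (α47 = 1 ∧ α74 = 2)) ∧ q47 = 2) ∨ ((Hide (x47 = 2 * T.m 7 ∧ x74 = T.m 4) ∧ Hide (T.a 4 7 = 2 * T.w 4 ∧ T.a 7 4 = T.w 7) ∧ Hide (α47 = 2 ∧ α74 = 1)) ∧ q47 = 2) ∨ ((Hide (x47 = T.m 7 ∧ x74 = 3 * T.m 4) ∧ Hide (T.a 4 7 = T.w 4 ∧ T.a 7 4 = 3 * T.w 7) ∧ Hide (α47 = 1 ∧ α74 = 3)) ∧ q47 = 3) ∨ ((Hide (x47 = 3 * T.m 7 ∧ x74 = T.m 4) ∧ Hide (T.a 4 7 = 3 * T.w 4 ∧ T.a 7 4 = T.w 7)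 ∧ Hide (α47 = 3 ∧ α74 = 1)) ∧ q47 = 3) ∨ ((Hide (x47 = T.m 7 ∧ x74 = 4 * T.m 4) ∧ Hide (T.a 4 7 = T.w 4 ∧ T.a 7 4 = 4 * T.w 7) ∧ Hide (α47 = 1 ∧ α74 = 4)) ∧ q47 = 4) ∨ ((Hide (x47 = 4 * T.m 7 ∧ x74 = T.m 4) ∧ Hide (T.a 4 7 = 4 * T.w 4 ∧ T.a 7 4 = T.w 7) ∧ Hide (α47 = 4 ∧ α74 = 1)) ∧ q47 = 4) ∨ ((Hide (x47 = 2 * T.m 7 ∧ x74 = 2 * T.m 4) ∧ Hide (T.a 4 7 = 2 * T.w 4 ∧ T.a 7 4 = 2 * T.w 7) ∧ Hide (α47 = 2 ∧ α74 = 2)) ∧ q47 = 4)))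
    (c56 : Hide (((Hide (x56 = 0 ∧ x65 = 0) ∧ Hide (T.a 5 6 = 0 ∧ T.a 6 5 = 0) ∧ Hide (α56 = 0 ∧ α65 = 0)) ∧ q56 = 0) ∨ ((Hide (x56 = T.m 6 ∧ x65 = T.m 5) ∧ Hide (T.a 5 6 = T.w 5 ∧ T.a 6 5 = T.w 6) ∧ Hide (α56 = 1 ∧ α65 = 1)) ∧ q56 = 1) ∨ ((Hide (x56 = T.m 6 ∧ x65 = 2 * T.m 5) ∧ Hide (T.a 5 6 = T.w 5 ∧ T.a 6 5 = 2 * T.w 6) ∧ Hide (α56 = 1 ∧ α65 = 2)) ∧ q56 = 2) ∨ ((Hide (x56 = 2 * T.m 6 ∧ x65 = T.m 5) ∧ Hide (T.a 5 6 = 2 * T.w 5 ∧ T.a 6 5 = T.w 6) ∧ Hide (α56 = 2 ∧ α65 = 1)) ∧ q56 = 2) ∨ ((Hide (x56 = T.m 6 ∧ x65 = 3 * T.m 5) ∧ Hide (T.a 5 6 = T.w 5 ∧ T.a 6 5 = 3 * T.w 6) ∧ Hide (α56 = 1 ∧ α65 = 3)) ∧ q56 = 3) ∨ ((Hide (x56 = 3 * T.m 6 ∧ x65 = T.m 5) ∧ Hide (T.a 5 6 = 3 * T.w 5 ∧ T.a 6 5 = T.w 6)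 ∧ Hide (α56 = 3 ∧ α65 = 1)) ∧ q56 = 3) ∨ ((Hide (x56 = T.m 6 ∧ x65 = 4 * T.m 5) ∧ Hide (T.a 5 6 = T.w 5 ∧ T.a 6 5 = 4 * T.w 6) ∧ Hide (α56 = 1 ∧ α65 = 4)) ∧ q56 = 4) ∨ ((Hide (x56 = 4 * T.m 6 ∧ x65 = T.m 5) ∧ Hide (T.a 5 6 = 4 * T.w 5 ∧ T.a 6 5 = T.w 6) ∧ Hide (α56 = 4 ∧ α65 = 1)) ∧ q56 = 4) ∨ ((Hide (x56 = 2 * T.m 6 ∧ x65 = 2 * T.m 5) ∧ Hide (T.a 5 6 = 2 * T.w 5 ∧ T.a 6 5 = 2 * T.w 6) ∧ Hide (α56 = 2 ∧ α65 = 2)) ∧ q56 = 4)))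
    (c57 : Hide (((Hide (x57 = 0 ∧ x75 = 0) ∧ Hide (T.a 5 7 = 0 ∧ T.a 7 5 = 0) ∧ Hide (α57 = 0 ∧ α75 = 0)) ∧ q57 = 0) ∨ ((Hide (x57 = T.m 7 ∧ x75 = T.m 5) ∧ Hide (T.a 5 7 = T.w 5 ∧ T.a 7 5 = T.w 7) ∧ Hide (α57 = 1 ∧ α75 = 1)) ∧ q57 = 1) ∨ ((Hide (x57 = T.m 7 ∧ x75 = 2 * T.m 5) ∧ Hide (T.a 5 7 = T.w 5 ∧ T.a 7 5 = 2 * T.w 7) ∧ Hide (α57 = 1 ∧ α75 = 2)) ∧ q57 = 2) ∨ ((Hide (x57 = 2 * T.m 7 ∧ x75 = T.m 5) ∧ Hide (T.a 5 7 = 2 * T.w 5 ∧ T.a 7 5 = T.w 7) ∧ Hide (α57 = 2 ∧ α75 = 1)) ∧ q57 = 2) ∨ ((Hide (x57 = T.m 7 ∧ x75 = 3 * T.m 5) ∧ Hide (T.a 5 7 = T.w 5 ∧ T.a 7 5 = 3 * T.w 7) ∧ Hide (α57 = 1 ∧ α75 = 3)) ∧ q57 = 3) ∨ ((Hide (x57 = 3 * T.m 7 ∧ x75 = T.m 5) ∧ Hide (T.a 5 7 = 3 * T.w 5 ∧ T.a 7 5 = T.w 7)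 ∧ Hide (α57 = 3 ∧ α75 = 1)) ∧ q57 = 3) ∨ ((Hide (x57 = T.m 7 ∧ x75 = 4 * T.m 5) ∧ Hide (T.a 5 7 = T.w 5 ∧ T.a 7 5 = 4 * T.w 7) ∧ Hide (α57 = 1 ∧ α75 = 4)) ∧ q57 = 4) ∨ ((Hide (x57 = 4 * T.m 7 ∧ x75 = T.m 5) ∧ Hide (T.a 5 7 = 4 * T.w 5 ∧ T.a 7 5 = T.w 7) ∧ Hide (α57 = 4 ∧ α75 = 1)) ∧ q57 = 4) ∨ ((Hide (x57 = 2 * T.m 7 ∧ x75 = 2 * T.m 5) ∧ Hide (T.a 5 7 = 2 * T.w 5 ∧ T.a 7 5 = 2 * T.w 7) ∧ Hide (α57 = 2 ∧ α75 = 2)) ∧ q57 = 4)))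
    (c67 : Hide (((Hide (x67 = 0 ∧ x76 = 0) ∧ Hide (T.a 6 7 = 0 ∧ T.a 7 6 = 0) ∧ Hide (α67 = 0 ∧ α76 = 0)) ∧ q67 = 0) ∨ ((Hide (x67 = T.m 7 ∧ x76 = T.m 6) ∧ Hide (T.a 6 7 = T.w 6 ∧ T.a 7 6 = T.w 7) ∧ Hide (α67 = 1 ∧ α76 = 1)) ∧ q67 = 1) ∨ ((Hide (x67 = T.m 7 ∧ x76 = 2 * T.m 6) ∧ Hide (T.a 6 7 = T.w 6 ∧ T.a 7 6 = 2 * T.w 7) ∧ Hide (α67 = 1 ∧ α76 = 2)) ∧ q67 = 2) ∨ ((Hide (x67 = 2 * T.m 7 ∧ x76 = T.m 6) ∧ Hide (T.a 6 7 = 2 * T.w 6 ∧ T.a 7 6 = T.w 7) ∧ Hide (α67 = 2 ∧ α76 = 1)) ∧ q67 = 2) ∨ ((Hide (x67 = T.m 7 ∧ x76 = 3 * T.m 6) ∧ Hide (T.a 6 7 = T.w 6 ∧ T.a 7 6 = 3 * T.w 7) ∧ Hide (α67 = 1 ∧ α76 = 3)) ∧ q67 = 3) ∨ ((Hide (x67 = 3 * T.m 7 ∧ x76 = T.m 6) ∧ Hide (T.a 6 7 = 3 * T.w 6 ∧ T.a 7 6 = T.w 7)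 ∧ Hide (α67 = 3 ∧ α76 = 1)) ∧ q67 = 3) ∨ ((Hide (x67 = T.m 7 ∧ x76 = 4 * T.m 6) ∧ Hide (T.a 6 7 = T.w 6 ∧ T.a 7 6 = 4 * T.w 7) ∧ Hide (α67 = 1 ∧ α76 = 4)) ∧ q67 = 4) ∨ ((Hide (x67 = 4 * T.m 7 ∧ x76 = T.m 6) ∧ Hide (T.a 6 7 = 4 * T.w 6 ∧ T.a 7 6 = T.w 7) ∧ Hide (α67 = 4 ∧ α76 = 1)) ∧ q67 = 4) ∨ ((Hide (x67 = 2 * T.m 7 ∧ x76 = 2 * T.m 6) ∧ Hide (T.a 6 7 = 2 * T.w 6 ∧ T.a 7 6 = 2 * T.w 7) ∧ Hide (α67 = 2 ∧ α76 = 2)) ∧ q67 = 4)))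
    (gw01 : Hide (T.a 0 1 = T.w 0 ∧ T.a 1 0 = T.w 1))
    (gw02 : Hide (T.a 0 2 = 0 ∧ T.a 2 0 = 0))
    (gw03 : Hide (T.a 0 3 = 0 ∧ T.a 3 0 = 0))
    (gw04 : Hide (T.a 0 4 = 0 ∧ T.a 4 0 = 0))
    (gw05 : Hide (T.a 0 5 = 0 ∧ T.a 5 0 = 0))
    (gw06 : Hide (T.a 0 6 = 0 ∧ T.a 6 0 = 0))
    (gw07 : Hide (T.a 0 7 = 0 ∧ T.a 7 0 = 0))
    (gw12 : Hide (T.a 1 2 = T.w 1 ∧ T.a 2 1 = T.w 2))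
    (gw13 : Hide (T.a 1 3 = 0 ∧ T.a 3 1 = 0))
    (gw14 : Hide (T.a 1 4 = T.w 1 ∧ T.a 4 1 = T.w 4))
    (gw15 : Hide (T.a 1 5 = 0 ∧ T.a 5 1 = 0))
    (gw16 : Hide (T.a 1 6 = 0 ∧ T.a 6 1 = 0))
    (gw17 : Hide (T.a 1 7 = T.w 1 ∧ T.a 7 1 = T.w 7)) : Goal T := by
  have t := pc3 q23 c23.out (by have := v2.out; have := qn24.out; have := qn25.out; have := qn26.out; have := qn27.out; omega)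
  clear c23
  rcases t with ⟨⟨⟨rfl, rfl⟩, gw23, ⟨rfl, rfl⟩⟩, rfl⟩ | ⟨⟨⟨rfl, rfl⟩, gw23, ⟨rfl, rfl⟩⟩, rfl⟩ | ⟨⟨⟨rfl, rfl⟩, gw23, ⟨rfl, rfl⟩⟩, rfl⟩ | ⟨⟨⟨rfl, rfl⟩, gw23, ⟨rfl, rfl⟩⟩, rfl⟩ | ⟨⟨⟨rfl, rfl⟩, gw23, ⟨rfl, rfl⟩⟩, rfl⟩ | ⟨⟨⟨rfl, rfl⟩, gw23, ⟨rfl, rfl⟩⟩, rfl⟩
  · (have := od3.out; omega)
  · (have := hm3.out; have := e0.out; have := e1.out; have := e2.out; have := r24.out; have := r25.out; have := r26.out; have := r27.out; have := e4.out; have := r42.out; have := r43.out; have := r45.out; have := r46.out; have := r47.out; have := e7.out; have := r72.out; have := r73.out; have := r74.out; have := r75.out; have := r76.out; omega)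
  · (have := hm4.out; have := e0.out; have := e1.out; have := e2.out; have := r24.out; have := r25.out; have := r26.out; have := r27.out; have := e3.out; have := r34.out; have := r35.out; have := r36.out; have := r37.out; have := e7.out; have := r72.out; have := r73.out; have := r74.out; have := r75.out; have := r76.out; omega)
  · (have := hm4.out; have := om3.out; have := e0.out; have := e1.out; have := e2.out; have := r24.out; have := r25.out; have := r26.out; have := r27.out; have := e7.out; have := r72.out; have := r73.out; have := r74.out; have := r75.out; have := r76.out; omega)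
  · (have := hm0.out; have := hm4.out; have := hm7.out; have := e1.out; have := e2.out; have := r24.out; have := r25.out; have := r26.out; have := r27.out; have := e3.out; have := r34.out; have := r35.out; have := r36.out; have := r37.out; omega)
  · (have := hm0.out; have := hm4.out; have := hm7.out; have := e1.out; have := e2.out; have := r24.out; have := r25.out; have := r26.out; have := r27.out; have := e3.out; have := r34.out; have := r35.out; have := r36.out; have := r37.out; omega)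

set_option maxHeartbeats 0 in
theorem part39 (T : Models.NumericalType 8) (α17 α23 α24 α25 α26 α27 α32 α34 α35 α36 α37 α42 α43 α45 α46 α47 α52 α53 α54 α56 α57 α62 α63 α64 α65 α67 α71 α72 α73 α74 α75 α76 x17 x23 x24 x25 x26 x27 x32 x34 x35 x36 x37 x42 x43 x45 x46 x47 x52 x53 x54 x56 x57 x62 x63 x64 x65 x67 x71 x72 x73 x74 x75 x76 q17 q23 q24 q25 q26 q27 q34 q35 q36 q37 q45 q46 q47 q56 q57 q67 : ℤ)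
    (hm0 : Hide (0 < T.m 0))
    (hm1 : Hide (0 < T.m 1))
    (hm2 : Hide (0 < T.m 2))
    (hm3 : Hide (0 < T.m 3))
    (hm4 : Hide (0 < T.m 4))
    (hm5 : Hide (0 < T.m 5))
    (hm6 : Hide (0 < T.m 6))
    (hm7 : Hide (0 < T.m 7))
    (om1 : Hide (T.m 0 ≤ T.m 1))
    (om2 : Hide (T.m 0 ≤ T.m 2))
    (om3 : Hide (T.m 0 ≤ T.m 3))
    (om4 : Hide (T.m 0 ≤ T.m 4))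
    (om5 : Hide (T.m 0 ≤ T.m 5))
    (om6 : Hide (T.m 0 ≤ T.m 6))
    (om7 : Hide (T.m 0 ≤ T.m 7))
    (e0 : Hide (T.m 1 + (0 : ℤ) + (0 : ℤ) + (0 : ℤ) + (0 : ℤ) + (0 : ℤ) + (0 : ℤ) = 2 * T.m 0))
    (e1 : Hide (T.m 0 + T.m 2 + (0 : ℤ) + T.m 4 + (0 : ℤ) + T.m 6 + x17 = 2 * T.m 1))
    (e2 : Hide ((0 : ℤ) + T.m 1 + x23 + x24 + x25 + x26 + x27 = 2 * T.m 2))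
    (e3 : Hide ((0 : ℤ) + (0 : ℤ) + x32 + x34 + x35 + x36 + x37 = 2 * T.m 3))
    (e4 : Hide ((0 : ℤ) + T.m 1 + x42 + x43 + x45 + x46 + x47 = 2 * T.m 4))
    (e5 : Hide ((0 : ℤ) + (0 : ℤ) + x52 + x53 + x54 + x56 + x57 = 2 * T.m 5))
    (e6 : Hide ((0 : ℤ) + T.m 1 + x62 + x63 + x64 + x65 + x67 = 2 * T.m 6))
    (e7 : Hide ((0 : ℤ) + x71 + x72 + x73 + x74 + x75 + x76 = 2 * T.m 7))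
    (r01 : Hide (0 ≤ T.m 1))
    (r02 : Hide (0 ≤ (0 : ℤ)))
    (r03 : Hide (0 ≤ (0 : ℤ)))
    (r04 : Hide (0 ≤ (0 : ℤ)))
    (r05 : Hide (0 ≤ (0 : ℤ)))
    (r06 : Hide (0 ≤ (0 : ℤ)))
    (r07 : Hide (0 ≤ (0 : ℤ)))
    (r10 : Hide (0 ≤ T.m 0))
    (r12 : Hide (0 ≤ T.m 2))
    (r13 : Hide (0 ≤ (0 : ℤ)))
    (r14 : Hide (0 ≤ T.m 4))
    (r15 : Hide (0 ≤ (0 : ℤ)))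
    (r16 : Hide (0 ≤ T.m 6))
    (r17 : Hide (0 ≤ x17))
    (r20 : Hide (0 ≤ (0 : ℤ)))
    (r21 : Hide (0 ≤ T.m 1))
    (r23 : Hide (0 ≤ x23))
    (r24 : Hide (0 ≤ x24))
    (r25 : Hide (0 ≤ x25))
    (r26 : Hide (0 ≤ x26))
    (r27 : Hide (0 ≤ x27))
    (r30 : Hide (0 ≤ (0 : ℤ)))
    (r31 : Hide (0 ≤ (0 : ℤ)))
    (r32 : Hide (0 ≤ x32))
    (r34 : Hide (0 ≤ x34))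
    (r35 : Hide (0 ≤ x35))
    (r36 : Hide (0 ≤ x36))
    (r37 : Hide (0 ≤ x37))
    (r40 : Hide (0 ≤ (0 : ℤ)))
    (r41 : Hide (0 ≤ T.m 1))
    (r42 : Hide (0 ≤ x42))
    (r43 : Hide (0 ≤ x43))
    (r45 : Hide (0 ≤ x45))
    (r46 : Hide (0 ≤ x46))
    (r47 : Hide (0 ≤ x47))
    (r50 : Hide (0 ≤ (0 : ℤ)))
    (r51 : Hide (0 ≤ (0 : ℤ)))
    (r52 : Hide (0 ≤ x52))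
    (r53 : Hide (0 ≤ x53))
    (r54 : Hide (0 ≤ x54))
    (r56 : Hide (0 ≤ x56))
    (r57 : Hide (0 ≤ x57))
    (r60 : Hide (0 ≤ (0 : ℤ)))
    (r61 : Hide (0 ≤ T.m 1))
    (r62 : Hide (0 ≤ x62))
    (r63 : Hide (0 ≤ x63))
    (r64 : Hide (0 ≤ x64))
    (r65 : Hide (0 ≤ x65))
    (r67 : Hide (0 ≤ x67))
    (r70 : Hide (0 ≤ (0 : ℤ)))
    (r71 : Hide (0 ≤ x71))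
    (r72 : Hide (0 ≤ x72))
    (r73 : Hide (0 ≤ x73))
    (r74 : Hide (0 ≤ x74))
    (r75 : Hide (0 ≤ x75))
    (r76 : Hide (0 ≤ x76))
    (hw0 : Hide (0 < T.w 0))
    (hw1 : Hide (0 < T.w 1))
    (hw2 : Hide (0 < T.w 2))
    (hw3 : Hide (0 < T.w 3))
    (hw4 : Hide (0 < T.w 4))
    (hw5 : Hide (0 < T.w 5))
    (hw6 : Hide (0 < T.w 6))
    (hw7 : Hide (0 < T.w 7))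
    (hs01 : Hide (T.a 0 1 = T.a 1 0))
    (hs02 : Hide (T.a 0 2 = T.a 2 0))
    (hs03 : Hide (T.a 0 3 = T.a 3 0))
    (hs04 : Hide (T.a 0 4 = T.a 4 0))
    (hs05 : Hide (T.a 0 5 = T.a 5 0))
    (hs06 : Hide (T.a 0 6 = T.a 6 0))
    (hs07 : Hide (T.a 0 7 = T.a 7 0))
    (hs12 : Hide (T.a 1 2 = T.a 2 1))
    (hs13 : Hide (T.a 1 3 = T.a 3 1))
    (hs14 : Hide (T.a 1 4 = T.a 4 1))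
    (hs15 : Hide (T.a 1 5 = T.a 5 1))
    (hs16 : Hide (T.a 1 6 = T.a 6 1))
    (hs17 : Hide (T.a 1 7 = T.a 7 1))
    (hs23 : Hide (T.a 2 3 = T.a 3 2))
    (hs24 : Hide (T.a 2 4 = T.a 4 2))
    (hs25 : Hide (T.a 2 5 = T.a 5 2))
    (hs26 : Hide (T.a 2 6 = T.a 6 2))
    (hs27 : Hide (T.a 2 7 = T.a 7 2))
    (hs34 : Hide (T.a 3 4 = T.a 4 3))
    (hs35 : Hide (T.a 3 5 = T.a 5 3))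
    (hs36 : Hide (T.a 3 6 = T.a 6 3))
    (hs37 : Hide (T.a 3 7 = T.a 7 3))
    (hs45 : Hide (T.a 4 5 = T.a 5 4))
    (hs46 : Hide (T.a 4 6 = T.a 6 4))
    (hs47 : Hide (T.a 4 7 = T.a 7 4))
    (hs56 : Hide (T.a 5 6 = T.a 6 5))
    (hs57 : Hide (T.a 5 7 = T.a 7 5))
    (hs67 : Hide (T.a 6 7 = T.a 7 6))
    (ha00 : Hide (T.a 0 0 = -2 * T.w 0))
    (ha11 : Hide (T.a 1 1 = -2 * T.w 1))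
    (ha22 : Hide (T.a 2 2 = -2 * T.w 2))
    (ha33 : Hide (T.a 3 3 = -2 * T.w 3))
    (ha44 : Hide (T.a 4 4 = -2 * T.w 4))
    (ha55 : Hide (T.a 5 5 = -2 * T.w 5))
    (ha66 : Hide (T.a 6 6 = -2 * T.w 6))
    (ha77 : Hide (T.a 7 7 = -2 * T.w 7))
    (v0 : Hide ((1 : ℤ) + (0 : ℤ) + (0 : ℤ) + (0 : ℤ) + (0 : ℤ) + (0 : ℤ) + (0 : ℤ) ≤ 4))
    (v1 : Hide ((1 : ℤ) + (1 : ℤ) + (0 : ℤ) + (1 : ℤ) + (0 : ℤ) + (1 : ℤ) + q17 ≤ 4))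
    (v2 : Hide ((0 : ℤ) + (1 : ℤ) + q23 + q24 + q25 + q26 + q27 ≤ 4))
    (v3 : Hide ((0 : ℤ) + (0 : ℤ) + q23 + q34 + q35 + q36 + q37 ≤ 4))
    (v4 : Hide ((0 : ℤ) + (1 : ℤ) + q24 + q34 + q45 + q46 + q47 ≤ 4))
    (v5 : Hide ((0 : ℤ) + (0 : ℤ) + q25 + q35 + q45 + q56 + q57 ≤ 4))
    (v6 : Hide ((0 : ℤ) + (1 : ℤ) + q26 + q36 + q46 + q56 + q67 ≤ 4))
    (v7 : Hide ((0 : ℤ) + q17 + q27 + q37 + q47 + q57 + q67 ≤ 4))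
    (qn01 : Hide (0 ≤ (1 : ℤ)))
    (qn02 : Hide (0 ≤ (0 : ℤ)))
    (qn03 : Hide (0 ≤ (0 : ℤ)))
    (qn04 : Hide (0 ≤ (0 : ℤ)))
    (qn05 : Hide (0 ≤ (0 : ℤ)))
    (qn06 : Hide (0 ≤ (0 : ℤ)))
    (qn07 : Hide (0 ≤ (0 : ℤ)))
    (qn12 : Hide (0 ≤ (1 : ℤ)))
    (qn13 : Hide (0 ≤ (0 : ℤ)))
    (qn14 : Hide (0 ≤ (1 : ℤ)))
    (qn15 : Hide (0 ≤ (0 : ℤ)))
    (qn16 : Hide (0 ≤ (1 : ℤ)))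
    (qn17 : Hide (0 ≤ q17))
    (qn23 : Hide (0 ≤ q23))
    (qn24 : Hide (0 ≤ q24))
    (qn25 : Hide (0 ≤ q25))
    (qn26 : Hide (0 ≤ q26))
    (qn27 : Hide (0 ≤ q27))
    (qn34 : Hide (0 ≤ q34))
    (qn35 : Hide (0 ≤ q35))
    (qn36 : Hide (0 ≤ q36))
    (qn37 : Hide (0 ≤ q37))
    (qn45 : Hide (0 ≤ q45))
    (qn46 : Hide (0 ≤ q46))
    (qn47 : Hide (0 ≤ q47))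
    (qn56 : Hide (0 ≤ q56))
    (qn57 : Hide (0 ≤ q57))
    (qn67 : Hide (0 ≤ q67))
    (od1 : Hide (0 < (1 : ℤ)))
    (od2 : Hide (0 < (0 : ℤ) + (1 : ℤ)))
    (od3 : Hide (0 < (0 : ℤ) + (0 : ℤ) + α23))
    (od4 : Hide (0 < (0 : ℤ) + (1 : ℤ) + α24 + α34))
    (od5 : Hide (0 < (0 : ℤ) + (0 : ℤ) + α25 + α35 + α45))
    (od6 : Hide (0 < (0 : ℤ) + (1 : ℤ) + α26 + α36 + α46 + α56))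
    (od7 : Hide (0 < (0 : ℤ) + α17 + α27 + α37 + α47 + α57 + α67))
    (c17 : Hide (((Hide (x17 = 0 ∧ x71 = 0) ∧ Hide (T.a 1 7 = 0 ∧ T.a 7 1 = 0) ∧ Hide (α17 = 0 ∧ α71 = 0)) ∧ q17 = 0) ∨ ((Hide (x17 = T.m 7 ∧ x71 = T.m 1) ∧ Hide (T.a 1 7 = T.w 1 ∧ T.a 7 1 = T.w 7) ∧ Hide (α17 = 1 ∧ α71 = 1)) ∧ q17 = 1) ∨ ((Hide (x17 = T.m 7 ∧ x71 = 2 * T.m 1) ∧ Hide (T.a 1 7 = T.w 1 ∧ T.a 7 1 = 2 * T.w 7) ∧ Hide (α17 = 1 ∧ α71 = 2)) ∧ q17 = 2) ∨ ((Hide (x17 = 2 * T.m 7 ∧ x71 = T.m 1) ∧ Hide (T.a 1 7 = 2 * T.w 1 ∧ T.a 7 1 = T.w 7) ∧ Hide (α17 = 2 ∧ α71 = 1)) ∧ q17 = 2) ∨ ((Hide (x17 = T.m 7 ∧ x71 = 3 * T.m 1) ∧ Hide (T.a 1 7 = T.w 1 ∧ T.a 7 1 = 3 * T.w 7) ∧ Hide (α17 = 1 ∧ α71 = 3)) ∧ q17 = 3) ∨ ((Hide (x17 = 3 * T.m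 7 ∧ x71 = T.m 1) ∧ Hide (T.a 1 7 = 3 * T.w 1 ∧ T.a 7 1 = T.w 7) ∧ Hide (α17 = 3 ∧ α71 = 1)) ∧ q17 = 3) ∨ ((Hide (x17 = T.m 7 ∧ x71 = 4 * T.m 1) ∧ Hide (T.a 1 7 = T.w 1 ∧ T.a 7 1 = 4 * T.w 7) ∧ Hide (α17 = 1 ∧ α71 = 4)) ∧ q17 = 4) ∨ ((Hide (x17 = 4 * T.m 7 ∧ x71 = T.m 1) ∧ Hide (T.a 1 7 = 4 * T.w 1 ∧ T.a 7 1 = T.w 7) ∧ Hide (α17 = 4 ∧ α71 = 1)) ∧ q17 = 4) ∨ ((Hide (x17 = 2 * T.m 7 ∧ x71 = 2 * T.m 1) ∧ Hide (T.a 1 7 = 2 * T.w 1 ∧ T.a 7 1 = 2 * T.w 7) ∧ Hide (α17 = 2 ∧ α71 = 2)) ∧ q17 = 4)))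
    (c23 : Hide (((Hide (x23 = 0 ∧ x32 = 0) ∧ Hide (T.a 2 3 = 0 ∧ T.a 3 2 = 0) ∧ Hide (α23 = 0 ∧ α32 = 0)) ∧ q23 = 0) ∨ ((Hide (x23 = T.m 3 ∧ x32 = T.m 2) ∧ Hide (T.a 2 3 = T.w 2 ∧ T.a 3 2 = T.w 3) ∧ Hide (α23 = 1 ∧ α32 = 1)) ∧ q23 = 1) ∨ ((Hide (x23 = T.m 3 ∧ x32 = 2 * T.m 2) ∧ Hide (T.a 2 3 = T.w 2 ∧ T.a 3 2 = 2 * T.w 3) ∧ Hide (α23 = 1 ∧ α32 = 2)) ∧ q23 = 2) ∨ ((Hide (x23 = 2 * T.m 3 ∧ x32 = T.m 2) ∧ Hide (T.a 2 3 = 2 * T.w 2 ∧ T.a 3 2 = T.w 3) ∧ Hide (α23 = 2 ∧ α32 = 1)) ∧ q23 = 2) ∨ ((Hide (x23 = T.m 3 ∧ x32 = 3 * T.m 2) ∧ Hide (T.a 2 3 = T.w 2 ∧ T.a 3 2 = 3 * T.w 3) ∧ Hide (α23 = 1 ∧ α32 = 3)) ∧ q23 = 3) ∨ ((Hide (x23 = 3 * T.m 3 ∧ x32 = T.m 2) ∧ Hide (T.a 2 3 = 3 * T.w 2 ∧ T.a 3 2 = T.w 3)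 ∧ Hide (α23 = 3 ∧ α32 = 1)) ∧ q23 = 3) ∨ ((Hide (x23 = T.m 3 ∧ x32 = 4 * T.m 2) ∧ Hide (T.a 2 3 = T.w 2 ∧ T.a 3 2 = 4 * T.w 3) ∧ Hide (α23 = 1 ∧ α32 = 4)) ∧ q23 = 4) ∨ ((Hide (x23 = 4 * T.m 3 ∧ x32 = T.m 2) ∧ Hide (T.a 2 3 = 4 * T.w 2 ∧ T.a 3 2 = T.w 3) ∧ Hide (α23 = 4 ∧ α32 = 1)) ∧ q23 = 4) ∨ ((Hide (x23 = 2 * T.m 3 ∧ x32 = 2 * T.m 2) ∧ Hide (T.a 2 3 = 2 * T.w 2 ∧ T.a 3 2 = 2 * T.w 3) ∧ Hide (α23 = 2 ∧ α32 = 2)) ∧ q23 = 4)))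
    (c24 : Hide (((Hide (x24 = 0 ∧ x42 = 0) ∧ Hide (T.a 2 4 = 0 ∧ T.a 4 2 = 0) ∧ Hide (α24 = 0 ∧ α42 = 0)) ∧ q24 = 0) ∨ ((Hide (x24 = T.m 4 ∧ x42 = T.m 2) ∧ Hide (T.a 2 4 = T.w 2 ∧ T.a 4 2 = T.w 4) ∧ Hide (α24 = 1 ∧ α42 = 1)) ∧ q24 = 1) ∨ ((Hide (x24 = T.m 4 ∧ x42 = 2 * T.m 2) ∧ Hide (T.a 2 4 = T.w 2 ∧ T.a 4 2 = 2 * T.w 4) ∧ Hide (α24 = 1 ∧ α42 = 2)) ∧ q24 = 2) ∨ ((Hide (x24 = 2 * T.m 4 ∧ x42 = T.m 2) ∧ Hide (T.a 2 4 = 2 * T.w 2 ∧ T.a 4 2 = T.w 4) ∧ Hide (α24 = 2 ∧ α42 = 1)) ∧ q24 = 2) ∨ ((Hide (x24 = T.m 4 ∧ x42 = 3 * T.m 2) ∧ Hide (T.a 2 4 = T.w 2 ∧ T.a 4 2 = 3 * T.w 4) ∧ Hide (α24 = 1 ∧ α42 = 3)) ∧ q24 = 3) ∨ ((Hide (x24 = 3 * T.m 4 ∧ x42 = T.m 2) ∧ Hide (T.a 2 4 = 3 * T.w 2 ∧ T.a 4 2 = T.w 4)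 ∧ Hide (α24 = 3 ∧ α42 = 1)) ∧ q24 = 3) ∨ ((Hide (x24 = T.m 4 ∧ x42 = 4 * T.m 2) ∧ Hide (T.a 2 4 = T.w 2 ∧ T.a 4 2 = 4 * T.w 4) ∧ Hide (α24 = 1 ∧ α42 = 4)) ∧ q24 = 4) ∨ ((Hide (x24 = 4 * T.m 4 ∧ x42 = T.m 2) ∧ Hide (T.a 2 4 = 4 * T.w 2 ∧ T.a 4 2 = T.w 4) ∧ Hide (α24 = 4 ∧ α42 = 1)) ∧ q24 = 4) ∨ ((Hide (x24 = 2 * T.m 4 ∧ x42 = 2 * T.m 2) ∧ Hide (T.a 2 4 = 2 * T.w 2 ∧ T.a 4 2 = 2 * T.w 4) ∧ Hide (α24 = 2 ∧ α42 = 2)) ∧ q24 = 4)))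
    (c25 : Hide (((Hide (x25 = 0 ∧ x52 = 0) ∧ Hide (T.a 2 5 = 0 ∧ T.a 5 2 = 0) ∧ Hide (α25 = 0 ∧ α52 = 0)) ∧ q25 = 0) ∨ ((Hide (x25 = T.m 5 ∧ x52 = T.m 2) ∧ Hide (T.a 2 5 = T.w 2 ∧ T.a 5 2 = T.w 5) ∧ Hide (α25 = 1 ∧ α52 = 1)) ∧ q25 = 1) ∨ ((Hide (x25 = T.m 5 ∧ x52 = 2 * T.m 2) ∧ Hide (T.a 2 5 = T.w 2 ∧ T.a 5 2 = 2 * T.w 5) ∧ Hide (α25 = 1 ∧ α52 = 2)) ∧ q25 = 2) ∨ ((Hide (x25 = 2 * T.m 5 ∧ x52 = T.m 2) ∧ Hide (T.a 2 5 = 2 * T.w 2 ∧ T.a 5 2 = T.w 5) ∧ Hide (α25 = 2 ∧ α52 = 1)) ∧ q25 = 2) ∨ ((Hide (x25 = T.m 5 ∧ x52 = 3 * T.m 2) ∧ Hide (T.a 2 5 = T.w 2 ∧ T.a 5 2 = 3 * T.w 5) ∧ Hide (α25 = 1 ∧ α52 = 3)) ∧ q25 = 3) ∨ ((Hide (x25 = 3 * T.m 5 ∧ x52 = T.m 2) ∧ Hide (T.a 2 5 = 3 * T.w 2 ∧ T.a 5 2 = T.w 5)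 ∧ Hide (α25 = 3 ∧ α52 = 1)) ∧ q25 = 3) ∨ ((Hide (x25 = T.m 5 ∧ x52 = 4 * T.m 2) ∧ Hide (T.a 2 5 = T.w 2 ∧ T.a 5 2 = 4 * T.w 5) ∧ Hide (α25 = 1 ∧ α52 = 4)) ∧ q25 = 4) ∨ ((Hide (x25 = 4 * T.m 5 ∧ x52 = T.m 2) ∧ Hide (T.a 2 5 = 4 * T.w 2 ∧ T.a 5 2 = T.w 5) ∧ Hide (α25 = 4 ∧ α52 = 1)) ∧ q25 = 4) ∨ ((Hide (x25 = 2 * T.m 5 ∧ x52 = 2 * T.m 2) ∧ Hide (T.a 2 5 = 2 * T.w 2 ∧ T.a 5 2 = 2 * T.w 5) ∧ Hide (α25 = 2 ∧ α52 = 2)) ∧ q25 = 4)))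
    (c26 : Hide (((Hide (x26 = 0 ∧ x62 = 0) ∧ Hide (T.a 2 6 = 0 ∧ T.a 6 2 = 0) ∧ Hide (α26 = 0 ∧ α62 = 0)) ∧ q26 = 0) ∨ ((Hide (x26 = T.m 6 ∧ x62 = T.m 2) ∧ Hide (T.a 2 6 = T.w 2 ∧ T.a 6 2 = T.w 6) ∧ Hide (α26 = 1 ∧ α62 = 1)) ∧ q26 = 1) ∨ ((Hide (x26 = T.m 6 ∧ x62 = 2 * T.m 2) ∧ Hide (T.a 2 6 = T.w 2 ∧ T.a 6 2 = 2 * T.w 6) ∧ Hide (α26 = 1 ∧ α62 = 2)) ∧ q26 = 2) ∨ ((Hide (x26 = 2 * T.m 6 ∧ x62 = T.m 2) ∧ Hide (T.a 2 6 = 2 * T.w 2 ∧ T.a 6 2 = T.w 6) ∧ Hide (α26 = 2 ∧ α62 = 1)) ∧ q26 = 2) ∨ ((Hide (x26 = T.m 6 ∧ x62 = 3 * T.m 2) ∧ Hide (T.a 2 6 = T.w 2 ∧ T.a 6 2 = 3 * T.w 6) ∧ Hide (α26 = 1 ∧ α62 = 3)) ∧ q26 = 3) ∨ ((Hide (x26 = 3 * T.m 6 ∧ x62 = T.m 2) ∧ Hide (T.a 2 6 = 3 * T.w 2 ∧ T.a 6 2 = T.w 6)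 ∧ Hide (α26 = 3 ∧ α62 = 1)) ∧ q26 = 3) ∨ ((Hide (x26 = T.m 6 ∧ x62 = 4 * T.m 2) ∧ Hide (T.a 2 6 = T.w 2 ∧ T.a 6 2 = 4 * T.w 6) ∧ Hide (α26 = 1 ∧ α62 = 4)) ∧ q26 = 4) ∨ ((Hide (x26 = 4 * T.m 6 ∧ x62 = T.m 2) ∧ Hide (T.a 2 6 = 4 * T.w 2 ∧ T.a 6 2 = T.w 6) ∧ Hide (α26 = 4 ∧ α62 = 1)) ∧ q26 = 4) ∨ ((Hide (x26 = 2 * T.m 6 ∧ x62 = 2 * T.m 2) ∧ Hide (T.a 2 6 = 2 * T.w 2 ∧ T.a 6 2 = 2 * T.w 6) ∧ Hide (α26 = 2 ∧ α62 = 2)) ∧ q26 = 4)))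
    (c27 : Hide (((Hide (x27 = 0 ∧ x72 = 0) ∧ Hide (T.a 2 7 = 0 ∧ T.a 7 2 = 0) ∧ Hide (α27 = 0 ∧ α72 = 0)) ∧ q27 = 0) ∨ ((Hide (x27 = T.m 7 ∧ x72 = T.m 2) ∧ Hide (T.a 2 7 = T.w 2 ∧ T.a 7 2 = T.w 7) ∧ Hide (α27 = 1 ∧ α72 = 1)) ∧ q27 = 1) ∨ ((Hide (x27 = T.m 7 ∧ x72 = 2 * T.m 2) ∧ Hide (T.a 2 7 = T.w 2 ∧ T.a 7 2 = 2 * T.w 7) ∧ Hide (α27 = 1 ∧ α72 = 2)) ∧ q27 = 2) ∨ ((Hide (x27 = 2 * T.m 7 ∧ x72 = T.m 2) ∧ Hide (T.a 2 7 = 2 * T.w 2 ∧ T.a 7 2 = T.w 7) ∧ Hide (α27 = 2 ∧ α72 = 1)) ∧ q27 = 2) ∨ ((Hide (x27 = T.m 7 ∧ x72 = 3 * T.m 2) ∧ Hide (T.a 2 7 = T.w 2 ∧ T.a 7 2 = 3 * T.w 7) ∧ Hide (α27 = 1 ∧ α72 = 3)) ∧ q27 = 3) ∨ ((Hide (x27 = 3 * T.m 7 ∧ x72 = T.m 2) ∧ Hide (T.a 2 7 = 3 * T.w 2 ∧ T.a 7 2 = T.w 7)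 ∧ Hide (α27 = 3 ∧ α72 = 1)) ∧ q27 = 3) ∨ ((Hide (x27 = T.m 7 ∧ x72 = 4 * T.m 2) ∧ Hide (T.a 2 7 = T.w 2 ∧ T.a 7 2 = 4 * T.w 7) ∧ Hide (α27 = 1 ∧ α72 = 4)) ∧ q27 = 4) ∨ ((Hide (x27 = 4 * T.m 7 ∧ x72 = T.m 2) ∧ Hide (T.a 2 7 = 4 * T.w 2 ∧ T.a 7 2 = T.w 7) ∧ Hide (α27 = 4 ∧ α72 = 1)) ∧ q27 = 4) ∨ ((Hide (x27 = 2 * T.m 7 ∧ x72 = 2 * T.m 2) ∧ Hide (T.a 2 7 = 2 * T.w 2 ∧ T.a 7 2 = 2 * T.w 7) ∧ Hide (α27 = 2 ∧ α72 = 2)) ∧ q27 = 4)))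
    (c34 : Hide (((Hide (x34 = 0 ∧ x43 = 0) ∧ Hide (T.a 3 4 = 0 ∧ T.a 4 3 = 0) ∧ Hide (α34 = 0 ∧ α43 = 0)) ∧ q34 = 0) ∨ ((Hide (x34 = T.m 4 ∧ x43 = T.m 3) ∧ Hide (T.a 3 4 = T.w 3 ∧ T.a 4 3 = T.w 4) ∧ Hide (α34 = 1 ∧ α43 = 1)) ∧ q34 = 1) ∨ ((Hide (x34 = T.m 4 ∧ x43 = 2 * T.m 3) ∧ Hide (T.a 3 4 = T.w 3 ∧ T.a 4 3 = 2 * T.w 4) ∧ Hide (α34 = 1 ∧ α43 = 2)) ∧ q34 = 2) ∨ ((Hide (x34 = 2 * T.m 4 ∧ x43 = T.m 3) ∧ Hide (T.a 3 4 = 2 * T.w 3 ∧ T.a 4 3 = T.w 4) ∧ Hide (α34 = 2 ∧ α43 = 1)) ∧ q34 = 2) ∨ ((Hide (x34 = T.m 4 ∧ x43 = 3 * T.m 3) ∧ Hide (T.a 3 4 = T.w 3 ∧ T.a 4 3 = 3 * T.w 4) ∧ Hide (α34 = 1 ∧ α43 = 3)) ∧ q34 = 3) ∨ ((Hide (x34 = 3 * T.m 4 ∧ x43 = T.m 3) ∧ Hide (T.a 3 4 = 3 * T.w 3 ∧ T.a 4 3 = T.w 4)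 ∧ Hide (α34 = 3 ∧ α43 = 1)) ∧ q34 = 3) ∨ ((Hide (x34 = T.m 4 ∧ x43 = 4 * T.m 3) ∧ Hide (T.a 3 4 = T.w 3 ∧ T.a 4 3 = 4 * T.w 4) ∧ Hide (α34 = 1 ∧ α43 = 4)) ∧ q34 = 4) ∨ ((Hide (x34 = 4 * T.m 4 ∧ x43 = T.m 3) ∧ Hide (T.a 3 4 = 4 * T.w 3 ∧ T.a 4 3 = T.w 4) ∧ Hide (α34 = 4 ∧ α43 = 1)) ∧ q34 = 4) ∨ ((Hide (x34 = 2 * T.m 4 ∧ x43 = 2 * T.m 3) ∧ Hide (T.a 3 4 = 2 * T.w 3 ∧ T.a 4 3 = 2 * T.w 4) ∧ Hide (α34 = 2 ∧ α43 = 2)) ∧ q34 = 4)))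
    (c35 : Hide (((Hide (x35 = 0 ∧ x53 = 0) ∧ Hide (T.a 3 5 = 0 ∧ T.a 5 3 = 0) ∧ Hide (α35 = 0 ∧ α53 = 0)) ∧ q35 = 0) ∨ ((Hide (x35 = T.m 5 ∧ x53 = T.m 3) ∧ Hide (T.a 3 5 = T.w 3 ∧ T.a 5 3 = T.w 5) ∧ Hide (α35 = 1 ∧ α53 = 1)) ∧ q35 = 1) ∨ ((Hide (x35 = T.m 5 ∧ x53 = 2 * T.m 3) ∧ Hide (T.a 3 5 = T.w 3 ∧ T.a 5 3 = 2 * T.w 5) ∧ Hide (α35 = 1 ∧ α53 = 2)) ∧ q35 = 2) ∨ ((Hide (x35 = 2 * T.m 5 ∧ x53 = T.m 3) ∧ Hide (T.a 3 5 = 2 * T.w 3 ∧ T.a 5 3 = T.w 5) ∧ Hide (α35 = 2 ∧ α53 = 1)) ∧ q35 = 2) ∨ ((Hide (x35 = T.m 5 ∧ x53 = 3 * T.m 3) ∧ Hide (T.a 3 5 = T.w 3 ∧ T.a 5 3 = 3 * T.w 5) ∧ Hide (α35 = 1 ∧ α53 = 3)) ∧ q35 = 3) ∨ ((Hide (x35 = 3 * T.m 5 ∧ x53 = T.m 3) ∧ Hide (T.a 3 5 = 3 * T.w 3 ∧ T.a 5 3 = T.w 5)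 ∧ Hide (α35 = 3 ∧ α53 = 1)) ∧ q35 = 3) ∨ ((Hide (x35 = T.m 5 ∧ x53 = 4 * T.m 3) ∧ Hide (T.a 3 5 = T.w 3 ∧ T.a 5 3 = 4 * T.w 5) ∧ Hide (α35 = 1 ∧ α53 = 4)) ∧ q35 = 4) ∨ ((Hide (x35 = 4 * T.m 5 ∧ x53 = T.m 3) ∧ Hide (T.a 3 5 = 4 * T.w 3 ∧ T.a 5 3 = T.w 5) ∧ Hide (α35 = 4 ∧ α53 = 1)) ∧ q35 = 4) ∨ ((Hide (x35 = 2 * T.m 5 ∧ x53 = 2 * T.m 3) ∧ Hide (T.a 3 5 = 2 * T.w 3 ∧ T.a 5 3 = 2 * T.w 5) ∧ Hide (α35 = 2 ∧ α53 = 2)) ∧ q35 = 4)))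
    (c36 : Hide (((Hide (x36 = 0 ∧ x63 = 0) ∧ Hide (T.a 3 6 = 0 ∧ T.a 6 3 = 0) ∧ Hide (α36 = 0 ∧ α63 = 0)) ∧ q36 = 0) ∨ ((Hide (x36 = T.m 6 ∧ x63 = T.m 3) ∧ Hide (T.a 3 6 = T.w 3 ∧ T.a 6 3 = T.w 6) ∧ Hide (α36 = 1 ∧ α63 = 1)) ∧ q36 = 1) ∨ ((Hide (x36 = T.m 6 ∧ x63 = 2 * T.m 3) ∧ Hide (T.a 3 6 = T.w 3 ∧ T.a 6 3 = 2 * T.w 6) ∧ Hide (α36 = 1 ∧ α63 = 2)) ∧ q36 = 2) ∨ ((Hide (x36 = 2 * T.m 6 ∧ x63 = T.m 3) ∧ Hide (T.a 3 6 = 2 * T.w 3 ∧ T.a 6 3 = T.w 6) ∧ Hide (α36 = 2 ∧ α63 = 1)) ∧ q36 = 2) ∨ ((Hide (x36 = T.m 6 ∧ x63 = 3 * T.m 3) ∧ Hide (T.a 3 6 = T.w 3 ∧ T.a 6 3 = 3 * T.w 6) ∧ Hide (α36 = 1 ∧ α63 = 3)) ∧ q36 = 3) ∨ ((Hide (x36 = 3 * T.m 6 ∧ x63 = T.m 3) ∧ Hide (T.a 3 6 = 3 * T.w 3 ∧ T.a 6 3 = T.w 6)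 ∧ Hide (α36 = 3 ∧ α63 = 1)) ∧ q36 = 3) ∨ ((Hide (x36 = T.m 6 ∧ x63 = 4 * T.m 3) ∧ Hide (T.a 3 6 = T.w 3 ∧ T.a 6 3 = 4 * T.w 6) ∧ Hide (α36 = 1 ∧ α63 = 4)) ∧ q36 = 4) ∨ ((Hide (x36 = 4 * T.m 6 ∧ x63 = T.m 3) ∧ Hide (T.a 3 6 = 4 * T.w 3 ∧ T.a 6 3 = T.w 6) ∧ Hide (α36 = 4 ∧ α63 = 1)) ∧ q36 = 4) ∨ ((Hide (x36 = 2 * T.m 6 ∧ x63 = 2 * T.m 3) ∧ Hide (T.a 3 6 = 2 * T.w 3 ∧ T.a 6 3 = 2 * T.w 6) ∧ Hide (α36 = 2 ∧ α63 = 2)) ∧ q36 = 4)))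
    (c37 : Hide (((Hide (x37 = 0 ∧ x73 = 0) ∧ Hide (T.a 3 7 = 0 ∧ T.a 7 3 = 0) ∧ Hide (α37 = 0 ∧ α73 = 0)) ∧ q37 = 0) ∨ ((Hide (x37 = T.m 7 ∧ x73 = T.m 3) ∧ Hide (T.a 3 7 = T.w 3 ∧ T.a 7 3 = T.w 7) ∧ Hide (α37 = 1 ∧ α73 = 1)) ∧ q37 = 1) ∨ ((Hide (x37 = T.m 7 ∧ x73 = 2 * T.m 3) ∧ Hide (T.a 3 7 = T.w 3 ∧ T.a 7 3 = 2 * T.w 7) ∧ Hide (α37 = 1 ∧ α73 = 2)) ∧ q37 = 2) ∨ ((Hide (x37 = 2 * T.m 7 ∧ x73 = T.m 3) ∧ Hide (T.a 3 7 = 2 * T.w 3 ∧ T.a 7 3 = T.w 7) ∧ Hide (α37 = 2 ∧ α73 = 1)) ∧ q37 = 2) ∨ ((Hide (x37 = T.m 7 ∧ x73 = 3 * T.m 3) ∧ Hide (T.a 3 7 = T.w 3 ∧ T.a 7 3 = 3 * T.w 7) ∧ Hide (α37 = 1 ∧ α73 = 3)) ∧ q37 = 3) ∨ ((Hide (x37 = 3 * T.m 7 ∧ x73 = T.m 3) ∧ Hide (T.a 3 7 = 3 * T.w 3 ∧ T.a 7 3 = T.w 7)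 ∧ Hide (α37 = 3 ∧ α73 = 1)) ∧ q37 = 3) ∨ ((Hide (x37 = T.m 7 ∧ x73 = 4 * T.m 3) ∧ Hide (T.a 3 7 = T.w 3 ∧ T.a 7 3 = 4 * T.w 7) ∧ Hide (α37 = 1 ∧ α73 = 4)) ∧ q37 = 4) ∨ ((Hide (x37 = 4 * T.m 7 ∧ x73 = T.m 3) ∧ Hide (T.a 3 7 = 4 * T.w 3 ∧ T.a 7 3 = T.w 7) ∧ Hide (α37 = 4 ∧ α73 = 1)) ∧ q37 = 4) ∨ ((Hide (x37 = 2 * T.m 7 ∧ x73 = 2 * T.m 3) ∧ Hide (T.a 3 7 = 2 * T.w 3 ∧ T.a 7 3 = 2 * T.w 7) ∧ Hide (α37 = 2 ∧ α73 = 2)) ∧ q37 = 4)))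
    (c45 : Hide (((Hide (x45 = 0 ∧ x54 = 0) ∧ Hide (T.a 4 5 = 0 ∧ T.a 5 4 = 0) ∧ Hide (α45 = 0 ∧ α54 = 0)) ∧ q45 = 0) ∨ ((Hide (x45 = T.m 5 ∧ x54 = T.m 4) ∧ Hide (T.a 4 5 = T.w 4 ∧ T.a 5 4 = T.w 5) ∧ Hide (α45 = 1 ∧ α54 = 1)) ∧ q45 = 1) ∨ ((Hide (x45 = T.m 5 ∧ x54 = 2 * T.m 4) ∧ Hide (T.a 4 5 = T.w 4 ∧ T.a 5 4 = 2 * T.w 5) ∧ Hide (α45 = 1 ∧ α54 = 2)) ∧ q45 = 2) ∨ ((Hide (x45 = 2 * T.m 5 ∧ x54 = T.m 4) ∧ Hide (T.a 4 5 = 2 * T.w 4 ∧ T.a 5 4 = T.w 5) ∧ Hide (α45 = 2 ∧ α54 = 1)) ∧ q45 = 2) ∨ ((Hide (x45 = T.m 5 ∧ x54 = 3 * T.m 4) ∧ Hide (T.a 4 5 = T.w 4 ∧ T.a 5 4 = 3 * T.w 5) ∧ Hide (α45 = 1 ∧ α54 = 3)) ∧ q45 = 3) ∨ ((Hide (x45 = 3 * T.m 5 ∧ x54 = T.m 4) ∧ Hide (T.a 4 5 = 3 * T.w 4 ∧ T.a 5 4 = T.w 5)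 ∧ Hide (α45 = 3 ∧ α54 = 1)) ∧ q45 = 3) ∨ ((Hide (x45 = T.m 5 ∧ x54 = 4 * T.m 4) ∧ Hide (T.a 4 5 = T.w 4 ∧ T.a 5 4 = 4 * T.w 5) ∧ Hide (α45 = 1 ∧ α54 = 4)) ∧ q45 = 4) ∨ ((Hide (x45 = 4 * T.m 5 ∧ x54 = T.m 4) ∧ Hide (T.a 4 5 = 4 * T.w 4 ∧ T.a 5 4 = T.w 5) ∧ Hide (α45 = 4 ∧ α54 = 1)) ∧ q45 = 4) ∨ ((Hide (x45 = 2 * T.m 5 ∧ x54 = 2 * T.m 4) ∧ Hide (T.a 4 5 = 2 * T.w 4 ∧ T.a 5 4 = 2 * T.w 5) ∧ Hide (α45 = 2 ∧ α54 = 2)) ∧ q45 = 4)))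
    (c46 : Hide (((Hide (x46 = 0 ∧ x64 = 0) ∧ Hide (T.a 4 6 = 0 ∧ T.a 6 4 = 0) ∧ Hide (α46 = 0 ∧ α64 = 0)) ∧ q46 = 0) ∨ ((Hide (x46 = T.m 6 ∧ x64 = T.m 4) ∧ Hide (T.a 4 6 = T.w 4 ∧ T.a 6 4 = T.w 6) ∧ Hide (α46 = 1 ∧ α64 = 1)) ∧ q46 = 1) ∨ ((Hide (x46 = T.m 6 ∧ x64 = 2 * T.m 4) ∧ Hide (T.a 4 6 = T.w 4 ∧ T.a 6 4 = 2 * T.w 6) ∧ Hide (α46 = 1 ∧ α64 = 2)) ∧ q46 = 2) ∨ ((Hide (x46 = 2 * T.m 6 ∧ x64 = T.m 4) ∧ Hide (T.a 4 6 = 2 * T.w 4 ∧ T.a 6 4 = T.w 6) ∧ Hide (α46 = 2 ∧ α64 = 1)) ∧ q46 = 2) ∨ ((Hide (x46 = T.m 6 ∧ x64 = 3 * T.m 4) ∧ Hide (T.a 4 6 = T.w 4 ∧ T.a 6 4 = 3 * T.w 6) ∧ Hide (α46 = 1 ∧ α64 = 3)) ∧ q46 = 3) ∨ ((Hide (x46 = 3 * T.m 6 ∧ x64 = T.m 4) ∧ Hide (T.a 4 6 = 3 * T.w 4 ∧ T.a 6 4 = T.w 6)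 ∧ Hide (α46 = 3 ∧ α64 = 1)) ∧ q46 = 3) ∨ ((Hide (x46 = T.m 6 ∧ x64 = 4 * T.m 4) ∧ Hide (T.a 4 6 = T.w 4 ∧ T.a 6 4 = 4 * T.w 6) ∧ Hide (α46 = 1 ∧ α64 = 4)) ∧ q46 = 4) ∨ ((Hide (x46 = 4 * T.m 6 ∧ x64 = T.m 4) ∧ Hide (T.a 4 6 = 4 * T.w 4 ∧ T.a 6 4 = T.w 6) ∧ Hide (α46 = 4 ∧ α64 = 1)) ∧ q46 = 4) ∨ ((Hide (x46 = 2 * T.m 6 ∧ x64 = 2 * T.m 4) ∧ Hide (T.a 4 6 = 2 * T.w 4 ∧ T.a 6 4 = 2 * T.w 6) ∧ Hide (α46 = 2 ∧ α64 = 2)) ∧ q46 = 4)))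
    (c47 : Hide (((Hide (x47 = 0 ∧ x74 = 0) ∧ Hide (T.a 4 7 = 0 ∧ T.a 7 4 = 0) ∧ Hide (α47 = 0 ∧ α74 = 0)) ∧ q47 = 0) ∨ ((Hide (x47 = T.m 7 ∧ x74 = T.m 4) ∧ Hide (T.a 4 7 = T.w 4 ∧ T.a 7 4 = T.w 7) ∧ Hide (α47 = 1 ∧ α74 = 1)) ∧ q47 = 1) ∨ ((Hide (x47 = T.m 7 ∧ x74 = 2 * T.m 4) ∧ Hide (T.a 4 7 = T.w 4 ∧ T.a 7 4 = 2 * T.w 7) ∧ Hide (α47 = 1 ∧ α74 = 2)) ∧ q47 = 2) ∨ ((Hide (x47 = 2 * T.m 7 ∧ x74 = T.m 4) ∧ Hide (T.a 4 7 = 2 * T.w 4 ∧ T.a 7 4 = T.w 7) ∧ Hide (α47 = 2 ∧ α74 = 1)) ∧ q47 = 2) ∨ ((Hide (x47 = T.m 7 ∧ x74 = 3 * T.m 4) ∧ Hide (T.a 4 7 = T.w 4 ∧ T.a 7 4 = 3 * T.w 7) ∧ Hide (α47 = 1 ∧ α74 = 3)) ∧ q47 = 3) ∨ ((Hide (x47 = 3 * T.m 7 ∧ x74 = T.m 4) ∧ Hide (T.a 4 7 = 3 * T.w 4 ∧ T.a 7 4 = T.w 7)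 ∧ Hide (α47 = 3 ∧ α74 = 1)) ∧ q47 = 3) ∨ ((Hide (x47 = T.m 7 ∧ x74 = 4 * T.m 4) ∧ Hide (T.a 4 7 = T.w 4 ∧ T.a 7 4 = 4 * T.w 7) ∧ Hide (α47 = 1 ∧ α74 = 4)) ∧ q47 = 4) ∨ ((Hide (x47 = 4 * T.m 7 ∧ x74 = T.m 4) ∧ Hide (T.a 4 7 = 4 * T.w 4 ∧ T.a 7 4 = T.w 7) ∧ Hide (α47 = 4 ∧ α74 = 1)) ∧ q47 = 4) ∨ ((Hide (x47 = 2 * T.m 7 ∧ x74 = 2 * T.m 4) ∧ Hide (T.a 4 7 = 2 * T.w 4 ∧ T.a 7 4 = 2 * T.w 7) ∧ Hide (α47 = 2 ∧ α74 = 2)) ∧ q47 = 4)))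
    (c56 : Hide (((Hide (x56 = 0 ∧ x65 = 0) ∧ Hide (T.a 5 6 = 0 ∧ T.a 6 5 = 0) ∧ Hide (α56 = 0 ∧ α65 = 0)) ∧ q56 = 0) ∨ ((Hide (x56 = T.m 6 ∧ x65 = T.m 5) ∧ Hide (T.a 5 6 = T.w 5 ∧ T.a 6 5 = T.w 6) ∧ Hide (α56 = 1 ∧ α65 = 1)) ∧ q56 = 1) ∨ ((Hide (x56 = T.m 6 ∧ x65 = 2 * T.m 5) ∧ Hide (T.a 5 6 = T.w 5 ∧ T.a 6 5 = 2 * T.w 6) ∧ Hide (α56 = 1 ∧ α65 = 2)) ∧ q56 = 2) ∨ ((Hide (x56 = 2 * T.m 6 ∧ x65 = T.m 5) ∧ Hide (T.a 5 6 = 2 * T.w 5 ∧ T.a 6 5 = T.w 6) ∧ Hide (α56 = 2 ∧ α65 = 1)) ∧ q56 = 2) ∨ ((Hide (x56 = T.m 6 ∧ x65 = 3 * T.m 5) ∧ Hide (T.a 5 6 = T.w 5 ∧ T.a 6 5 = 3 * T.w 6) ∧ Hide (α56 = 1 ∧ α65 = 3)) ∧ q56 = 3) ∨ ((Hide (x56 = 3 * T.m 6 ∧ x65 = T.m 5) ∧ Hide (T.a 5 6 = 3 * T.w 5 ∧ T.a 6 5 = T.w 6)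 ∧ Hide (α56 = 3 ∧ α65 = 1)) ∧ q56 = 3) ∨ ((Hide (x56 = T.m 6 ∧ x65 = 4 * T.m 5) ∧ Hide (T.a 5 6 = T.w 5 ∧ T.a 6 5 = 4 * T.w 6) ∧ Hide (α56 = 1 ∧ α65 = 4)) ∧ q56 = 4) ∨ ((Hide (x56 = 4 * T.m 6 ∧ x65 = T.m 5) ∧ Hide (T.a 5 6 = 4 * T.w 5 ∧ T.a 6 5 = T.w 6) ∧ Hide (α56 = 4 ∧ α65 = 1)) ∧ q56 = 4) ∨ ((Hide (x56 = 2 * T.m 6 ∧ x65 = 2 * T.m 5) ∧ Hide (T.a 5 6 = 2 * T.w 5 ∧ T.a 6 5 = 2 * T.w 6) ∧ Hide (α56 = 2 ∧ α65 = 2)) ∧ q56 = 4)))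
    (c57 : Hide (((Hide (x57 = 0 ∧ x75 = 0) ∧ Hide (T.a 5 7 = 0 ∧ T.a 7 5 = 0) ∧ Hide (α57 = 0 ∧ α75 = 0)) ∧ q57 = 0) ∨ ((Hide (x57 = T.m 7 ∧ x75 = T.m 5) ∧ Hide (T.a 5 7 = T.w 5 ∧ T.a 7 5 = T.w 7) ∧ Hide (α57 = 1 ∧ α75 = 1)) ∧ q57 = 1) ∨ ((Hide (x57 = T.m 7 ∧ x75 = 2 * T.m 5) ∧ Hide (T.a 5 7 = T.w 5 ∧ T.a 7 5 = 2 * T.w 7) ∧ Hide (α57 = 1 ∧ α75 = 2)) ∧ q57 = 2) ∨ ((Hide (x57 = 2 * T.m 7 ∧ x75 = T.m 5) ∧ Hide (T.a 5 7 = 2 * T.w 5 ∧ T.a 7 5 = T.w 7) ∧ Hide (α57 = 2 ∧ α75 = 1)) ∧ q57 = 2) ∨ ((Hide (x57 = T.m 7 ∧ x75 = 3 * T.m 5) ∧ Hide (T.a 5 7 = T.w 5 ∧ T.a 7 5 = 3 * T.w 7) ∧ Hide (α57 = 1 ∧ α75 = 3)) ∧ q57 = 3) ∨ ((Hide (x57 = 3 * T.m 7 ∧ x75 = T.m 5) ∧ Hide (T.a 5 7 = 3 * T.w 5 ∧ T.a 7 5 = T.w 7)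 ∧ Hide (α57 = 3 ∧ α75 = 1)) ∧ q57 = 3) ∨ ((Hide (x57 = T.m 7 ∧ x75 = 4 * T.m 5) ∧ Hide (T.a 5 7 = T.w 5 ∧ T.a 7 5 = 4 * T.w 7) ∧ Hide (α57 = 1 ∧ α75 = 4)) ∧ q57 = 4) ∨ ((Hide (x57 = 4 * T.m 7 ∧ x75 = T.m 5) ∧ Hide (T.a 5 7 = 4 * T.w 5 ∧ T.a 7 5 = T.w 7) ∧ Hide (α57 = 4 ∧ α75 = 1)) ∧ q57 = 4) ∨ ((Hide (x57 = 2 * T.m 7 ∧ x75 = 2 * T.m 5) ∧ Hide (T.a 5 7 = 2 * T.w 5 ∧ T.a 7 5 = 2 * T.w 7) ∧ Hide (α57 = 2 ∧ α75 = 2)) ∧ q57 = 4)))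
    (c67 : Hide (((Hide (x67 = 0 ∧ x76 = 0) ∧ Hide (T.a 6 7 = 0 ∧ T.a 7 6 = 0) ∧ Hide (α67 = 0 ∧ α76 = 0)) ∧ q67 = 0) ∨ ((Hide (x67 = T.m 7 ∧ x76 = T.m 6) ∧ Hide (T.a 6 7 = T.w 6 ∧ T.a 7 6 = T.w 7) ∧ Hide (α67 = 1 ∧ α76 = 1)) ∧ q67 = 1) ∨ ((Hide (x67 = T.m 7 ∧ x76 = 2 * T.m 6) ∧ Hide (T.a 6 7 = T.w 6 ∧ T.a 7 6 = 2 * T.w 7) ∧ Hide (α67 = 1 ∧ α76 = 2)) ∧ q67 = 2) ∨ ((Hide (x67 = 2 * T.m 7 ∧ x76 = T.m 6) ∧ Hide (T.a 6 7 = 2 * T.w 6 ∧ T.a 7 6 = T.w 7) ∧ Hide (α67 = 2 ∧ α76 = 1)) ∧ q67 = 2) ∨ ((Hide (x67 = T.m 7 ∧ x76 = 3 * T.m 6) ∧ Hide (T.a 6 7 = T.w 6 ∧ T.a 7 6 = 3 * T.w 7) ∧ Hide (α67 = 1 ∧ α76 = 3)) ∧ q67 = 3) ∨ ((Hide (x67 = 3 * T.m 7 ∧ x76 = T.m 6) ∧ Hide (T.a 6 7 = 3 * T.w 6 ∧ T.a 7 6 = T.w 7)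 ∧ Hide (α67 = 3 ∧ α76 = 1)) ∧ q67 = 3) ∨ ((Hide (x67 = T.m 7 ∧ x76 = 4 * T.m 6) ∧ Hide (T.a 6 7 = T.w 6 ∧ T.a 7 6 = 4 * T.w 7) ∧ Hide (α67 = 1 ∧ α76 = 4)) ∧ q67 = 4) ∨ ((Hide (x67 = 4 * T.m 7 ∧ x76 = T.m 6) ∧ Hide (T.a 6 7 = 4 * T.w 6 ∧ T.a 7 6 = T.w 7) ∧ Hide (α67 = 4 ∧ α76 = 1)) ∧ q67 = 4) ∨ ((Hide (x67 = 2 * T.m 7 ∧ x76 = 2 * T.m 6) ∧ Hide (T.a 6 7 = 2 * T.w 6 ∧ T.a 7 6 = 2 * T.w 7) ∧ Hide (α67 = 2 ∧ α76 = 2)) ∧ q67 = 4)))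
    (gw01 : Hide (T.a 0 1 = T.w 0 ∧ T.a 1 0 = T.w 1))
    (gw02 : Hide (T.a 0 2 = 0 ∧ T.a 2 0 = 0))
    (gw03 : Hide (T.a 0 3 = 0 ∧ T.a 3 0 = 0))
    (gw04 : Hide (T.a 0 4 = 0 ∧ T.a 4 0 = 0))
    (gw05 : Hide (T.a 0 5 = 0 ∧ T.a 5 0 = 0))
    (gw06 : Hide (T.a 0 6 = 0 ∧ T.a 6 0 = 0))
    (gw07 : Hide (T.a 0 7 = 0 ∧ T.a 7 0 = 0))
    (gw12 : Hide (T.a 1 2 = T.w 1 ∧ T.a 2 1 = T.w 2))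
    (gw13 : Hide (T.a 1 3 = 0 ∧ T.a 3 1 = 0))
    (gw14 : Hide (T.a 1 4 = T.w 1 ∧ T.a 4 1 = T.w 4))
    (gw15 : Hide (T.a 1 5 = 0 ∧ T.a 5 1 = 0))
    (gw16 : Hide (T.a 1 6 = T.w 1 ∧ T.a 6 1 = T.w 6)) : Goal T := by
  have t := pc0 q17 c17.out (by have := v1.out; omega)
  clear c17
  obtain ⟨⟨⟨rfl, rfl⟩, gw17, ⟨rfl, rfl⟩⟩, rfl⟩ := t
  have t := pc3 q23 c23.out (by have := v2.out; have := qn24.out; have := qn25.out; have := qn26.out; have := qn27.out; omega)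
  clear c23
  rcases t with ⟨⟨⟨rfl, rfl⟩, gw23, ⟨rfl, rfl⟩⟩, rfl⟩ | ⟨⟨⟨rfl, rfl⟩, gw23, ⟨rfl, rfl⟩⟩, rfl⟩ | ⟨⟨⟨rfl, rfl⟩, gw23, ⟨rfl, rfl⟩⟩, rfl⟩ | ⟨⟨⟨rfl, rfl⟩, gw23, ⟨rfl, rfl⟩⟩, rfl⟩ | ⟨⟨⟨rfl, rfl⟩, gw23, ⟨rfl, rfl⟩⟩, rfl⟩ | ⟨⟨⟨rfl, rfl⟩, gw23, ⟨rfl, rfl⟩⟩, rfl⟩
  · (have := od3.out; omega)
  · (have := hm3.out; have := e0.out; have := e1.out; have := e2.out; have := r24.out; have := r25.out; have := r26.out; have := r27.out; have := e4.out; have := r42.out; have := r43.out; have := r45.out; have := r46.out; have := r47.out; have := e6.out; have := r62.out; have := r63.out; have := r64.out; have := r65.out; have := r67.out; omega)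
  · (have := hm4.out; have := e0.out; have := e1.out; have := e2.out; have := r24.out; have := r25.out; have := r26.out; have := r27.out; have := e3.out; have := r34.out; have := r35.out; have := r36.out; have := r37.out; have := e6.out; have := r62.out; have := r63.out; have := r64.out; have := r65.out; have := r67.out; omega)
  · (have := hm4.out; have := om3.out; have := e0.out; have := e1.out; have := e2.out; have := r24.out; have := r25.out; have := r26.out; have := r27.out; have := e6.out; have := r62.out; have := r63.out; have := r64.out; have := r65.out; have := r67.out; omega)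
  · (have := hm0.out; have := hm4.out; have := hm6.out; have := e1.out; have := e2.out; have := r24.out; have := r25.out; have := r26.out; have := r27.out; have := e3.out; have := r34.out; have := r35.out; have := r36.out; have := r37.out; omega)
  · (have := hm0.out; have := hm4.out; have := hm6.out; have := e1.out; have := e2.out; have := r24.out; have := r25.out; have := r26.out; have := r27.out; have := e3.out; have := r34.out; have := r35.out; have := r36.out; have := r37.out; omega)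

set_option maxHeartbeats 0 in
theorem part40 (T : Models.NumericalType 8) (α16 α17 α23 α24 α25 α26 α27 α32 α34 α35 α36 α37 α42 α43 α45 α46 α47 α52 α53 α54 α56 α57 α61 α62 α63 α64 α65 α67 α71 α72 α73 α74 α75 α76 x16 x17 x23 x24 x25 x26 x27 x32 x34 x35 x36 x37 x42 x43 x45 x46 x47 x52 x53 x54 x56 x57 x61 x62 x63 x64 x65 x67 x71 x72 x73 x74 x75 x76 q16 q17 q23 q24 q25 q26 q27 q34 q35 q36 q37 q45 q46 q47 q56 q57 q67 : ℤ)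
    (hm0 : Hide (0 < T.m 0))
    (hm1 : Hide (0 < T.m 1))
    (hm2 : Hide (0 < T.m 2))
    (hm3 : Hide (0 < T.m 3))
    (hm4 : Hide (0 < T.m 4))
    (hm5 : Hide (0 < T.m 5))
    (hm6 : Hide (0 < T.m 6))
    (hm7 : Hide (0 < T.m 7))
    (om1 : Hide (T.m 0 ≤ T.m 1))
    (om2 : Hide (T.m 0 ≤ T.m 2))
    (om3 : Hide (T.m 0 ≤ T.m 3))
    (om4 : Hide (T.m 0 ≤ T.m 4))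
    (om5 : Hide (T.m 0 ≤ T.m 5))
    (om6 : Hide (T.m 0 ≤ T.m 6))
    (om7 : Hide (T.m 0 ≤ T.m 7))
    (e0 : Hide (T.m 1 + (0 : ℤ) + (0 : ℤ) + (0 : ℤ) + (0 : ℤ) + (0 : ℤ) + (0 : ℤ) = 2 * T.m 0))
    (e1 : Hide (T.m 0 + T.m 2 + (0 : ℤ) + T.m 4 + T.m 5 + x16 + x17 = 2 * T.m 1))
    (e2 : Hide ((0 : ℤ) + T.m 1 + x23 + x24 + x25 + x26 + x27 = 2 * T.m 2))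
    (e3 : Hide ((0 : ℤ) + (0 : ℤ) + x32 + x34 + x35 + x36 + x37 = 2 * T.m 3))
    (e4 : Hide ((0 : ℤ) + T.m 1 + x42 + x43 + x45 + x46 + x47 = 2 * T.m 4))
    (e5 : Hide ((0 : ℤ) + T.m 1 + x52 + x53 + x54 + x56 + x57 = 2 * T.m 5))
    (e6 : Hide ((0 : ℤ) + x61 + x62 + x63 + x64 + x65 + x67 = 2 * T.m 6))
    (e7 : Hide ((0 : ℤ) + x71 + x72 + x73 + x74 + x75 + x76 = 2 * T.m 7))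
    (r01 : Hide (0 ≤ T.m 1))
    (r02 : Hide (0 ≤ (0 : ℤ)))
    (r03 : Hide (0 ≤ (0 : ℤ)))
    (r04 : Hide (0 ≤ (0 : ℤ)))
    (r05 : Hide (0 ≤ (0 : ℤ)))
    (r06 : Hide (0 ≤ (0 : ℤ)))
    (r07 : Hide (0 ≤ (0 : ℤ)))
    (r10 : Hide (0 ≤ T.m 0))
    (r12 : Hide (0 ≤ T.m 2))
    (r13 : Hide (0 ≤ (0 : ℤ)))
    (r14 : Hide (0 ≤ T.m 4))
    (r15 : Hide (0 ≤ T.m 5))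
    (r16 : Hide (0 ≤ x16))
    (r17 : Hide (0 ≤ x17))
    (r20 : Hide (0 ≤ (0 : ℤ)))
    (r21 : Hide (0 ≤ T.m 1))
    (r23 : Hide (0 ≤ x23))
    (r24 : Hide (0 ≤ x24))
    (r25 : Hide (0 ≤ x25))
    (r26 : Hide (0 ≤ x26))
    (r27 : Hide (0 ≤ x27))
    (r30 : Hide (0 ≤ (0 : ℤ)))
    (r31 : Hide (0 ≤ (0 : ℤ)))
    (r32 : Hide (0 ≤ x32))
    (r34 : Hide (0 ≤ x34))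
    (r35 : Hide (0 ≤ x35))
    (r36 : Hide (0 ≤ x36))
    (r37 : Hide (0 ≤ x37))
    (r40 : Hide (0 ≤ (0 : ℤ)))
    (r41 : Hide (0 ≤ T.m 1))
    (r42 : Hide (0 ≤ x42))
    (r43 : Hide (0 ≤ x43))
    (r45 : Hide (0 ≤ x45))
    (r46 : Hide (0 ≤ x46))
    (r47 : Hide (0 ≤ x47))
    (r50 : Hide (0 ≤ (0 : ℤ)))
    (r51 : Hide (0 ≤ T.m 1))
    (r52 : Hide (0 ≤ x52))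
    (r53 : Hide (0 ≤ x53))
    (r54 : Hide (0 ≤ x54))
    (r56 : Hide (0 ≤ x56))
    (r57 : Hide (0 ≤ x57))
    (r60 : Hide (0 ≤ (0 : ℤ)))
    (r61 : Hide (0 ≤ x61))
    (r62 : Hide (0 ≤ x62))
    (r63 : Hide (0 ≤ x63))
    (r64 : Hide (0 ≤ x64))
    (r65 : Hide (0 ≤ x65))
    (r67 : Hide (0 ≤ x67))
    (r70 : Hide (0 ≤ (0 : ℤ)))
    (r71 : Hide (0 ≤ x71))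
    (r72 : Hide (0 ≤ x72))
    (r73 : Hide (0 ≤ x73))
    (r74 : Hide (0 ≤ x74))
    (r75 : Hide (0 ≤ x75))
    (r76 : Hide (0 ≤ x76))
    (hw0 : Hide (0 < T.w 0))
    (hw1 : Hide (0 < T.w 1))
    (hw2 : Hide (0 < T.w 2))
    (hw3 : Hide (0 < T.w 3))
    (hw4 : Hide (0 < T.w 4))
    (hw5 : Hide (0 < T.w 5))
    (hw6 : Hide (0 < T.w 6))
    (hw7 : Hide (0 < T.w 7))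
    (hs01 : Hide (T.a 0 1 = T.a 1 0))
    (hs02 : Hide (T.a 0 2 = T.a 2 0))
    (hs03 : Hide (T.a 0 3 = T.a 3 0))
    (hs04 : Hide (T.a 0 4 = T.a 4 0))
    (hs05 : Hide (T.a 0 5 = T.a 5 0))
    (hs06 : Hide (T.a 0 6 = T.a 6 0))
    (hs07 : Hide (T.a 0 7 = T.a 7 0))
    (hs12 : Hide (T.a 1 2 = T.a 2 1))
    (hs13 : Hide (T.a 1 3 = T.a 3 1))
    (hs14 : Hide (T.a 1 4 = T.a 4 1))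
    (hs15 : Hide (T.a 1 5 = T.a 5 1))
    (hs16 : Hide (T.a 1 6 = T.a 6 1))
    (hs17 : Hide (T.a 1 7 = T.a 7 1))
    (hs23 : Hide (T.a 2 3 = T.a 3 2))
    (hs24 : Hide (T.a 2 4 = T.a 4 2))
    (hs25 : Hide (T.a 2 5 = T.a 5 2))
    (hs26 : Hide (T.a 2 6 = T.a 6 2))
    (hs27 : Hide (T.a 2 7 = T.a 7 2))
    (hs34 : Hide (T.a 3 4 = T.a 4 3))
    (hs35 : Hide (T.a 3 5 = T.a 5 3))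
    (hs36 : Hide (T.a 3 6 = T.a 6 3))
    (hs37 : Hide (T.a 3 7 = T.a 7 3))
    (hs45 : Hide (T.a 4 5 = T.a 5 4))
    (hs46 : Hide (T.a 4 6 = T.a 6 4))
    (hs47 : Hide (T.a 4 7 = T.a 7 4))
    (hs56 : Hide (T.a 5 6 = T.a 6 5))
    (hs57 : Hide (T.a 5 7 = T.a 7 5))
    (hs67 : Hide (T.a 6 7 = T.a 7 6))
    (ha00 : Hide (T.a 0 0 = -2 * T.w 0))
    (ha11 : Hide (T.a 1 1 = -2 * T.w 1))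
    (ha22 : Hide (T.a 2 2 = -2 * T.w 2))
    (ha33 : Hide (T.a 3 3 = -2 * T.w 3))
    (ha44 : Hide (T.a 4 4 = -2 * T.w 4))
    (ha55 : Hide (T.a 5 5 = -2 * T.w 5))
    (ha66 : Hide (T.a 6 6 = -2 * T.w 6))
    (ha77 : Hide (T.a 7 7 = -2 * T.w 7))
    (v0 : Hide ((1 : ℤ) + (0 : ℤ) + (0 : ℤ) + (0 : ℤ) + (0 : ℤ) + (0 : ℤ) + (0 : ℤ) ≤ 4))
    (v1 : Hide ((1 : ℤ) + (1 : ℤ) + (0 : ℤ) + (1 : ℤ) + (1 : ℤ) + q16 + q17 ≤ 4))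
    (v2 : Hide ((0 : ℤ) + (1 : ℤ) + q23 + q24 + q25 + q26 + q27 ≤ 4))
    (v3 : Hide ((0 : ℤ) + (0 : ℤ) + q23 + q34 + q35 + q36 + q37 ≤ 4))
    (v4 : Hide ((0 : ℤ) + (1 : ℤ) + q24 + q34 + q45 + q46 + q47 ≤ 4))
    (v5 : Hide ((0 : ℤ) + (1 : ℤ) + q25 + q35 + q45 + q56 + q57 ≤ 4))
    (v6 : Hide ((0 : ℤ) + q16 + q26 + q36 + q46 + q56 + q67 ≤ 4))
    (v7 : Hide ((0 : ℤ) + q17 + q27 + q37 + q47 + q57 + q67 ≤ 4))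
    (qn01 : Hide (0 ≤ (1 : ℤ)))
    (qn02 : Hide (0 ≤ (0 : ℤ)))
    (qn03 : Hide (0 ≤ (0 : ℤ)))
    (qn04 : Hide (0 ≤ (0 : ℤ)))
    (qn05 : Hide (0 ≤ (0 : ℤ)))
    (qn06 : Hide (0 ≤ (0 : ℤ)))
    (qn07 : Hide (0 ≤ (0 : ℤ)))
    (qn12 : Hide (0 ≤ (1 : ℤ)))
    (qn13 : Hide (0 ≤ (0 : ℤ)))
    (qn14 : Hide (0 ≤ (1 : ℤ)))
    (qn15 : Hide (0 ≤ (1 : ℤ)))
    (qn16 : Hide (0 ≤ q16))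
    (qn17 : Hide (0 ≤ q17))
    (qn23 : Hide (0 ≤ q23))
    (qn24 : Hide (0 ≤ q24))
    (qn25 : Hide (0 ≤ q25))
    (qn26 : Hide (0 ≤ q26))
    (qn27 : Hide (0 ≤ q27))
    (qn34 : Hide (0 ≤ q34))
    (qn35 : Hide (0 ≤ q35))
    (qn36 : Hide (0 ≤ q36))
    (qn37 : Hide (0 ≤ q37))
    (qn45 : Hide (0 ≤ q45))
    (qn46 : Hide (0 ≤ q46))
    (qn47 : Hide (0 ≤ q47))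
    (qn56 : Hide (0 ≤ q56))
    (qn57 : Hide (0 ≤ q57))
    (qn67 : Hide (0 ≤ q67))
    (od1 : Hide (0 < (1 : ℤ)))
    (od2 : Hide (0 < (0 : ℤ) + (1 : ℤ)))
    (od3 : Hide (0 < (0 : ℤ) + (0 : ℤ) + α23))
    (od4 : Hide (0 < (0 : ℤ) + (1 : ℤ) + α24 + α34))
    (od5 : Hide (0 < (0 : ℤ) + (1 : ℤ) + α25 + α35 + α45))
    (od6 : Hide (0 < (0 : ℤ) + α16 + α26 + α36 + α46 + α56))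
    (od7 : Hide (0 < (0 : ℤ) + α17 + α27 + α37 + α47 + α57 + α67))
    (c16 : Hide (((Hide (x16 = 0 ∧ x61 = 0) ∧ Hide (T.a 1 6 = 0 ∧ T.a 6 1 = 0) ∧ Hide (α16 = 0 ∧ α61 = 0)) ∧ q16 = 0) ∨ ((Hide (x16 = T.m 6 ∧ x61 = T.m 1) ∧ Hide (T.a 1 6 = T.w 1 ∧ T.a 6 1 = T.w 6) ∧ Hide (α16 = 1 ∧ α61 = 1)) ∧ q16 = 1) ∨ ((Hide (x16 = T.m 6 ∧ x61 = 2 * T.m 1) ∧ Hide (T.a 1 6 = T.w 1 ∧ T.a 6 1 = 2 * T.w 6) ∧ Hide (α16 = 1 ∧ α61 = 2)) ∧ q16 = 2) ∨ ((Hide (x16 = 2 * T.m 6 ∧ x61 = T.m 1) ∧ Hide (T.a 1 6 = 2 * T.w 1 ∧ T.a 6 1 = T.w 6) ∧ Hide (α16 = 2 ∧ α61 = 1)) ∧ q16 = 2) ∨ ((Hide (x16 = T.m 6 ∧ x61 = 3 * T.m 1) ∧ Hide (T.a 1 6 = T.w 1 ∧ T.a 6 1 = 3 * T.w 6) ∧ Hide (α16 = 1 ∧ α61 = 3)) ∧ q16 = 3) ∨ ((Hide (x16 = 3 * T.m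 6 ∧ x61 = T.m 1) ∧ Hide (T.a 1 6 = 3 * T.w 1 ∧ T.a 6 1 = T.w 6) ∧ Hide (α16 = 3 ∧ α61 = 1)) ∧ q16 = 3) ∨ ((Hide (x16 = T.m 6 ∧ x61 = 4 * T.m 1) ∧ Hide (T.a 1 6 = T.w 1 ∧ T.a 6 1 = 4 * T.w 6) ∧ Hide (α16 = 1 ∧ α61 = 4)) ∧ q16 = 4) ∨ ((Hide (x16 = 4 * T.m 6 ∧ x61 = T.m 1) ∧ Hide (T.a 1 6 = 4 * T.w 1 ∧ T.a 6 1 = T.w 6) ∧ Hide (α16 = 4 ∧ α61 = 1)) ∧ q16 = 4) ∨ ((Hide (x16 = 2 * T.m 6 ∧ x61 = 2 * T.m 1) ∧ Hide (T.a 1 6 = 2 * T.w 1 ∧ T.a 6 1 = 2 * T.w 6) ∧ Hide (α16 = 2 ∧ α61 = 2)) ∧ q16 = 4)))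
    (c17 : Hide (((Hide (x17 = 0 ∧ x71 = 0) ∧ Hide (T.a 1 7 = 0 ∧ T.a 7 1 = 0) ∧ Hide (α17 = 0 ∧ α71 = 0)) ∧ q17 = 0) ∨ ((Hide (x17 = T.m 7 ∧ x71 = T.m 1) ∧ Hide (T.a 1 7 = T.w 1 ∧ T.a 7 1 = T.w 7) ∧ Hide (α17 = 1 ∧ α71 = 1)) ∧ q17 = 1) ∨ ((Hide (x17 = T.m 7 ∧ x71 = 2 * T.m 1) ∧ Hide (T.a 1 7 = T.w 1 ∧ T.a 7 1 = 2 * T.w 7) ∧ Hide (α17 = 1 ∧ α71 = 2)) ∧ q17 = 2) ∨ ((Hide (x17 = 2 * T.m 7 ∧ x71 = T.m 1) ∧ Hide (T.a 1 7 = 2 * T.w 1 ∧ T.a 7 1 = T.w 7) ∧ Hide (α17 = 2 ∧ α71 = 1)) ∧ q17 = 2) ∨ ((Hide (x17 = T.m 7 ∧ x71 = 3 * T.m 1) ∧ Hide (T.a 1 7 = T.w 1 ∧ T.a 7 1 = 3 * T.w 7) ∧ Hide (α17 = 1 ∧ α71 = 3)) ∧ q17 = 3) ∨ ((Hide (x17 = 3 * T.m 7 ∧ x71 = T.m 1) ∧ Hide (T.a 1 7 = 3 * T.w 1 ∧ T.a 7 1 = T.w 7)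 ∧ Hide (α17 = 3 ∧ α71 = 1)) ∧ q17 = 3) ∨ ((Hide (x17 = T.m 7 ∧ x71 = 4 * T.m 1) ∧ Hide (T.a 1 7 = T.w 1 ∧ T.a 7 1 = 4 * T.w 7) ∧ Hide (α17 = 1 ∧ α71 = 4)) ∧ q17 = 4) ∨ ((Hide (x17 = 4 * T.m 7 ∧ x71 = T.m 1) ∧ Hide (T.a 1 7 = 4 * T.w 1 ∧ T.a 7 1 = T.w 7) ∧ Hide (α17 = 4 ∧ α71 = 1)) ∧ q17 = 4) ∨ ((Hide (x17 = 2 * T.m 7 ∧ x71 = 2 * T.m 1) ∧ Hide (T.a 1 7 = 2 * T.w 1 ∧ T.a 7 1 = 2 * T.w 7) ∧ Hide (α17 = 2 ∧ α71 = 2)) ∧ q17 = 4)))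
    (c23 : Hide (((Hide (x23 = 0 ∧ x32 = 0) ∧ Hide (T.a 2 3 = 0 ∧ T.a 3 2 = 0) ∧ Hide (α23 = 0 ∧ α32 = 0)) ∧ q23 = 0) ∨ ((Hide (x23 = T.m 3 ∧ x32 = T.m 2) ∧ Hide (T.a 2 3 = T.w 2 ∧ T.a 3 2 = T.w 3) ∧ Hide (α23 = 1 ∧ α32 = 1)) ∧ q23 = 1) ∨ ((Hide (x23 = T.m 3 ∧ x32 = 2 * T.m 2) ∧ Hide (T.a 2 3 = T.w 2 ∧ T.a 3 2 = 2 * T.w 3) ∧ Hide (α23 = 1 ∧ α32 = 2)) ∧ q23 = 2) ∨ ((Hide (x23 = 2 * T.m 3 ∧ x32 = T.m 2) ∧ Hide (T.a 2 3 = 2 * T.w 2 ∧ T.a 3 2 = T.w 3) ∧ Hide (α23 = 2 ∧ α32 = 1)) ∧ q23 = 2) ∨ ((Hide (x23 = T.m 3 ∧ x32 = 3 * T.m 2) ∧ Hide (T.a 2 3 = T.w 2 ∧ T.a 3 2 = 3 * T.w 3) ∧ Hide (α23 = 1 ∧ α32 = 3)) ∧ q23 = 3) ∨ ((Hide (x23 = 3 * T.m 3 ∧ x32 = T.m 2) ∧ Hide (T.a 2 3 = 3 * T.w 2 ∧ T.a 3 2 = T.w 3)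 ∧ Hide (α23 = 3 ∧ α32 = 1)) ∧ q23 = 3) ∨ ((Hide (x23 = T.m 3 ∧ x32 = 4 * T.m 2) ∧ Hide (T.a 2 3 = T.w 2 ∧ T.a 3 2 = 4 * T.w 3) ∧ Hide (α23 = 1 ∧ α32 = 4)) ∧ q23 = 4) ∨ ((Hide (x23 = 4 * T.m 3 ∧ x32 = T.m 2) ∧ Hide (T.a 2 3 = 4 * T.w 2 ∧ T.a 3 2 = T.w 3) ∧ Hide (α23 = 4 ∧ α32 = 1)) ∧ q23 = 4) ∨ ((Hide (x23 = 2 * T.m 3 ∧ x32 = 2 * T.m 2) ∧ Hide (T.a 2 3 = 2 * T.w 2 ∧ T.a 3 2 = 2 * T.w 3) ∧ Hide (α23 = 2 ∧ α32 = 2)) ∧ q23 = 4)))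
    (c24 : Hide (((Hide (x24 = 0 ∧ x42 = 0) ∧ Hide (T.a 2 4 = 0 ∧ T.a 4 2 = 0) ∧ Hide (α24 = 0 ∧ α42 = 0)) ∧ q24 = 0) ∨ ((Hide (x24 = T.m 4 ∧ x42 = T.m 2) ∧ Hide (T.a 2 4 = T.w 2 ∧ T.a 4 2 = T.w 4) ∧ Hide (α24 = 1 ∧ α42 = 1)) ∧ q24 = 1) ∨ ((Hide (x24 = T.m 4 ∧ x42 = 2 * T.m 2) ∧ Hide (T.a 2 4 = T.w 2 ∧ T.a 4 2 = 2 * T.w 4) ∧ Hide (α24 = 1 ∧ α42 = 2)) ∧ q24 = 2) ∨ ((Hide (x24 = 2 * T.m 4 ∧ x42 = T.m 2) ∧ Hide (T.a 2 4 = 2 * T.w 2 ∧ T.a 4 2 = T.w 4) ∧ Hide (α24 = 2 ∧ α42 = 1)) ∧ q24 = 2) ∨ ((Hide (x24 = T.m 4 ∧ x42 = 3 * T.m 2) ∧ Hide (T.a 2 4 = T.w 2 ∧ T.a 4 2 = 3 * T.w 4) ∧ Hide (α24 = 1 ∧ α42 = 3)) ∧ q24 = 3) ∨ ((Hide (x24 = 3 * T.m 4 ∧ x42 = T.m 2) ∧ Hide (T.a 2 4 = 3 * T.w 2 ∧ T.a 4 2 = T.w 4)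 ∧ Hide (α24 = 3 ∧ α42 = 1)) ∧ q24 = 3) ∨ ((Hide (x24 = T.m 4 ∧ x42 = 4 * T.m 2) ∧ Hide (T.a 2 4 = T.w 2 ∧ T.a 4 2 = 4 * T.w 4) ∧ Hide (α24 = 1 ∧ α42 = 4)) ∧ q24 = 4) ∨ ((Hide (x24 = 4 * T.m 4 ∧ x42 = T.m 2) ∧ Hide (T.a 2 4 = 4 * T.w 2 ∧ T.a 4 2 = T.w 4) ∧ Hide (α24 = 4 ∧ α42 = 1)) ∧ q24 = 4) ∨ ((Hide (x24 = 2 * T.m 4 ∧ x42 = 2 * T.m 2) ∧ Hide (T.a 2 4 = 2 * T.w 2 ∧ T.a 4 2 = 2 * T.w 4) ∧ Hide (α24 = 2 ∧ α42 = 2)) ∧ q24 = 4)))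
    (c25 : Hide (((Hide (x25 = 0 ∧ x52 = 0) ∧ Hide (T.a 2 5 = 0 ∧ T.a 5 2 = 0) ∧ Hide (α25 = 0 ∧ α52 = 0)) ∧ q25 = 0) ∨ ((Hide (x25 = T.m 5 ∧ x52 = T.m 2) ∧ Hide (T.a 2 5 = T.w 2 ∧ T.a 5 2 = T.w 5) ∧ Hide (α25 = 1 ∧ α52 = 1)) ∧ q25 = 1) ∨ ((Hide (x25 = T.m 5 ∧ x52 = 2 * T.m 2) ∧ Hide (T.a 2 5 = T.w 2 ∧ T.a 5 2 = 2 * T.w 5) ∧ Hide (α25 = 1 ∧ α52 = 2)) ∧ q25 = 2) ∨ ((Hide (x25 = 2 * T.m 5 ∧ x52 = T.m 2) ∧ Hide (T.a 2 5 = 2 * T.w 2 ∧ T.a 5 2 = T.w 5) ∧ Hide (α25 = 2 ∧ α52 = 1)) ∧ q25 = 2) ∨ ((Hide (x25 = T.m 5 ∧ x52 = 3 * T.m 2) ∧ Hide (T.a 2 5 = T.w 2 ∧ T.a 5 2 = 3 * T.w 5) ∧ Hide (α25 = 1 ∧ α52 = 3)) ∧ q25 = 3) ∨ ((Hide (x25 = 3 * T.m 5 ∧ x52 = T.m 2) ∧ Hide (T.a 2 5 = 3 * T.w 2 ∧ T.a 5 2 = T.w 5)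 ∧ Hide (α25 = 3 ∧ α52 = 1)) ∧ q25 = 3) ∨ ((Hide (x25 = T.m 5 ∧ x52 = 4 * T.m 2) ∧ Hide (T.a 2 5 = T.w 2 ∧ T.a 5 2 = 4 * T.w 5) ∧ Hide (α25 = 1 ∧ α52 = 4)) ∧ q25 = 4) ∨ ((Hide (x25 = 4 * T.m 5 ∧ x52 = T.m 2) ∧ Hide (T.a 2 5 = 4 * T.w 2 ∧ T.a 5 2 = T.w 5) ∧ Hide (α25 = 4 ∧ α52 = 1)) ∧ q25 = 4) ∨ ((Hide (x25 = 2 * T.m 5 ∧ x52 = 2 * T.m 2) ∧ Hide (T.a 2 5 = 2 * T.w 2 ∧ T.a 5 2 = 2 * T.w 5) ∧ Hide (α25 = 2 ∧ α52 = 2)) ∧ q25 = 4)))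
    (c26 : Hide (((Hide (x26 = 0 ∧ x62 = 0) ∧ Hide (T.a 2 6 = 0 ∧ T.a 6 2 = 0) ∧ Hide (α26 = 0 ∧ α62 = 0)) ∧ q26 = 0) ∨ ((Hide (x26 = T.m 6 ∧ x62 = T.m 2) ∧ Hide (T.a 2 6 = T.w 2 ∧ T.a 6 2 = T.w 6) ∧ Hide (α26 = 1 ∧ α62 = 1)) ∧ q26 = 1) ∨ ((Hide (x26 = T.m 6 ∧ x62 = 2 * T.m 2) ∧ Hide (T.a 2 6 = T.w 2 ∧ T.a 6 2 = 2 * T.w 6) ∧ Hide (α26 = 1 ∧ α62 = 2)) ∧ q26 = 2) ∨ ((Hide (x26 = 2 * T.m 6 ∧ x62 = T.m 2) ∧ Hide (T.a 2 6 = 2 * T.w 2 ∧ T.a 6 2 = T.w 6) ∧ Hide (α26 = 2 ∧ α62 = 1)) ∧ q26 = 2) ∨ ((Hide (x26 = T.m 6 ∧ x62 = 3 * T.m 2) ∧ Hide (T.a 2 6 = T.w 2 ∧ T.a 6 2 = 3 * T.w 6) ∧ Hide (α26 = 1 ∧ α62 = 3)) ∧ q26 = 3) ∨ ((Hide (x26 = 3 * T.m 6 ∧ x62 = T.m 2) ∧ Hide (T.a 2 6 = 3 * T.w 2 ∧ T.a 6 2 = T.w 6)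 ∧ Hide (α26 = 3 ∧ α62 = 1)) ∧ q26 = 3) ∨ ((Hide (x26 = T.m 6 ∧ x62 = 4 * T.m 2) ∧ Hide (T.a 2 6 = T.w 2 ∧ T.a 6 2 = 4 * T.w 6) ∧ Hide (α26 = 1 ∧ α62 = 4)) ∧ q26 = 4) ∨ ((Hide (x26 = 4 * T.m 6 ∧ x62 = T.m 2) ∧ Hide (T.a 2 6 = 4 * T.w 2 ∧ T.a 6 2 = T.w 6) ∧ Hide (α26 = 4 ∧ α62 = 1)) ∧ q26 = 4) ∨ ((Hide (x26 = 2 * T.m 6 ∧ x62 = 2 * T.m 2) ∧ Hide (T.a 2 6 = 2 * T.w 2 ∧ T.a 6 2 = 2 * T.w 6) ∧ Hide (α26 = 2 ∧ α62 = 2)) ∧ q26 = 4)))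
    (c27 : Hide (((Hide (x27 = 0 ∧ x72 = 0) ∧ Hide (T.a 2 7 = 0 ∧ T.a 7 2 = 0) ∧ Hide (α27 = 0 ∧ α72 = 0)) ∧ q27 = 0) ∨ ((Hide (x27 = T.m 7 ∧ x72 = T.m 2) ∧ Hide (T.a 2 7 = T.w 2 ∧ T.a 7 2 = T.w 7) ∧ Hide (α27 = 1 ∧ α72 = 1)) ∧ q27 = 1) ∨ ((Hide (x27 = T.m 7 ∧ x72 = 2 * T.m 2) ∧ Hide (T.a 2 7 = T.w 2 ∧ T.a 7 2 = 2 * T.w 7) ∧ Hide (α27 = 1 ∧ α72 = 2)) ∧ q27 = 2) ∨ ((Hide (x27 = 2 * T.m 7 ∧ x72 = T.m 2) ∧ Hide (T.a 2 7 = 2 * T.w 2 ∧ T.a 7 2 = T.w 7) ∧ Hide (α27 = 2 ∧ α72 = 1)) ∧ q27 = 2) ∨ ((Hide (x27 = T.m 7 ∧ x72 = 3 * T.m 2) ∧ Hide (T.a 2 7 = T.w 2 ∧ T.a 7 2 = 3 * T.w 7) ∧ Hide (α27 = 1 ∧ α72 = 3)) ∧ q27 = 3) ∨ ((Hide (x27 = 3 * T.m 7 ∧ x72 = T.m 2) ∧ Hide (T.a 2 7 = 3 * T.w 2 ∧ T.a 7 2 = T.w 7)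 ∧ Hide (α27 = 3 ∧ α72 = 1)) ∧ q27 = 3) ∨ ((Hide (x27 = T.m 7 ∧ x72 = 4 * T.m 2) ∧ Hide (T.a 2 7 = T.w 2 ∧ T.a 7 2 = 4 * T.w 7) ∧ Hide (α27 = 1 ∧ α72 = 4)) ∧ q27 = 4) ∨ ((Hide (x27 = 4 * T.m 7 ∧ x72 = T.m 2) ∧ Hide (T.a 2 7 = 4 * T.w 2 ∧ T.a 7 2 = T.w 7) ∧ Hide (α27 = 4 ∧ α72 = 1)) ∧ q27 = 4) ∨ ((Hide (x27 = 2 * T.m 7 ∧ x72 = 2 * T.m 2) ∧ Hide (T.a 2 7 = 2 * T.w 2 ∧ T.a 7 2 = 2 * T.w 7) ∧ Hide (α27 = 2 ∧ α72 = 2)) ∧ q27 = 4)))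
    (c34 : Hide (((Hide (x34 = 0 ∧ x43 = 0) ∧ Hide (T.a 3 4 = 0 ∧ T.a 4 3 = 0) ∧ Hide (α34 = 0 ∧ α43 = 0)) ∧ q34 = 0) ∨ ((Hide (x34 = T.m 4 ∧ x43 = T.m 3) ∧ Hide (T.a 3 4 = T.w 3 ∧ T.a 4 3 = T.w 4) ∧ Hide (α34 = 1 ∧ α43 = 1)) ∧ q34 = 1) ∨ ((Hide (x34 = T.m 4 ∧ x43 = 2 * T.m 3) ∧ Hide (T.a 3 4 = T.w 3 ∧ T.a 4 3 = 2 * T.w 4) ∧ Hide (α34 = 1 ∧ α43 = 2)) ∧ q34 = 2) ∨ ((Hide (x34 = 2 * T.m 4 ∧ x43 = T.m 3) ∧ Hide (T.a 3 4 = 2 * T.w 3 ∧ T.a 4 3 = T.w 4) ∧ Hide (α34 = 2 ∧ α43 = 1)) ∧ q34 = 2) ∨ ((Hide (x34 = T.m 4 ∧ x43 = 3 * T.m 3) ∧ Hide (T.a 3 4 = T.w 3 ∧ T.a 4 3 = 3 * T.w 4) ∧ Hide (α34 = 1 ∧ α43 = 3)) ∧ q34 = 3) ∨ ((Hide (x34 = 3 * T.m 4 ∧ x43 = T.m 3) ∧ Hide (T.a 3 4 = 3 * T.w 3 ∧ T.a 4 3 = T.w 4)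 ∧ Hide (α34 = 3 ∧ α43 = 1)) ∧ q34 = 3) ∨ ((Hide (x34 = T.m 4 ∧ x43 = 4 * T.m 3) ∧ Hide (T.a 3 4 = T.w 3 ∧ T.a 4 3 = 4 * T.w 4) ∧ Hide (α34 = 1 ∧ α43 = 4)) ∧ q34 = 4) ∨ ((Hide (x34 = 4 * T.m 4 ∧ x43 = T.m 3) ∧ Hide (T.a 3 4 = 4 * T.w 3 ∧ T.a 4 3 = T.w 4) ∧ Hide (α34 = 4 ∧ α43 = 1)) ∧ q34 = 4) ∨ ((Hide (x34 = 2 * T.m 4 ∧ x43 = 2 * T.m 3) ∧ Hide (T.a 3 4 = 2 * T.w 3 ∧ T.a 4 3 = 2 * T.w 4) ∧ Hide (α34 = 2 ∧ α43 = 2)) ∧ q34 = 4)))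
    (c35 : Hide (((Hide (x35 = 0 ∧ x53 = 0) ∧ Hide (T.a 3 5 = 0 ∧ T.a 5 3 = 0) ∧ Hide (α35 = 0 ∧ α53 = 0)) ∧ q35 = 0) ∨ ((Hide (x35 = T.m 5 ∧ x53 = T.m 3) ∧ Hide (T.a 3 5 = T.w 3 ∧ T.a 5 3 = T.w 5) ∧ Hide (α35 = 1 ∧ α53 = 1)) ∧ q35 = 1) ∨ ((Hide (x35 = T.m 5 ∧ x53 = 2 * T.m 3) ∧ Hide (T.a 3 5 = T.w 3 ∧ T.a 5 3 = 2 * T.w 5) ∧ Hide (α35 = 1 ∧ α53 = 2)) ∧ q35 = 2) ∨ ((Hide (x35 = 2 * T.m 5 ∧ x53 = T.m 3) ∧ Hide (T.a 3 5 = 2 * T.w 3 ∧ T.a 5 3 = T.w 5) ∧ Hide (α35 = 2 ∧ α53 = 1)) ∧ q35 = 2) ∨ ((Hide (x35 = T.m 5 ∧ x53 = 3 * T.m 3) ∧ Hide (T.a 3 5 = T.w 3 ∧ T.a 5 3 = 3 * T.w 5) ∧ Hide (α35 = 1 ∧ α53 = 3)) ∧ q35 = 3) ∨ ((Hide (x35 = 3 * T.m 5 ∧ x53 = T.m 3) ∧ Hide (T.a 3 5 = 3 * T.w 3 ∧ T.a 5 3 = T.w 5)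 ∧ Hide (α35 = 3 ∧ α53 = 1)) ∧ q35 = 3) ∨ ((Hide (x35 = T.m 5 ∧ x53 = 4 * T.m 3) ∧ Hide (T.a 3 5 = T.w 3 ∧ T.a 5 3 = 4 * T.w 5) ∧ Hide (α35 = 1 ∧ α53 = 4)) ∧ q35 = 4) ∨ ((Hide (x35 = 4 * T.m 5 ∧ x53 = T.m 3) ∧ Hide (T.a 3 5 = 4 * T.w 3 ∧ T.a 5 3 = T.w 5) ∧ Hide (α35 = 4 ∧ α53 = 1)) ∧ q35 = 4) ∨ ((Hide (x35 = 2 * T.m 5 ∧ x53 = 2 * T.m 3) ∧ Hide (T.a 3 5 = 2 * T.w 3 ∧ T.a 5 3 = 2 * T.w 5) ∧ Hide (α35 = 2 ∧ α53 = 2)) ∧ q35 = 4)))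
    (c36 : Hide (((Hide (x36 = 0 ∧ x63 = 0) ∧ Hide (T.a 3 6 = 0 ∧ T.a 6 3 = 0) ∧ Hide (α36 = 0 ∧ α63 = 0)) ∧ q36 = 0) ∨ ((Hide (x36 = T.m 6 ∧ x63 = T.m 3) ∧ Hide (T.a 3 6 = T.w 3 ∧ T.a 6 3 = T.w 6) ∧ Hide (α36 = 1 ∧ α63 = 1)) ∧ q36 = 1) ∨ ((Hide (x36 = T.m 6 ∧ x63 = 2 * T.m 3) ∧ Hide (T.a 3 6 = T.w 3 ∧ T.a 6 3 = 2 * T.w 6) ∧ Hide (α36 = 1 ∧ α63 = 2)) ∧ q36 = 2) ∨ ((Hide (x36 = 2 * T.m 6 ∧ x63 = T.m 3) ∧ Hide (T.a 3 6 = 2 * T.w 3 ∧ T.a 6 3 = T.w 6) ∧ Hide (α36 = 2 ∧ α63 = 1)) ∧ q36 = 2) ∨ ((Hide (x36 = T.m 6 ∧ x63 = 3 * T.m 3) ∧ Hide (T.a 3 6 = T.w 3 ∧ T.a 6 3 = 3 * T.w 6) ∧ Hide (α36 = 1 ∧ α63 = 3)) ∧ q36 = 3) ∨ ((Hide (x36 = 3 * T.m 6 ∧ x63 = T.m 3) ∧ Hide (T.a 3 6 = 3 * T.w 3 ∧ T.a 6 3 = T.w 6)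 ∧ Hide (α36 = 3 ∧ α63 = 1)) ∧ q36 = 3) ∨ ((Hide (x36 = T.m 6 ∧ x63 = 4 * T.m 3) ∧ Hide (T.a 3 6 = T.w 3 ∧ T.a 6 3 = 4 * T.w 6) ∧ Hide (α36 = 1 ∧ α63 = 4)) ∧ q36 = 4) ∨ ((Hide (x36 = 4 * T.m 6 ∧ x63 = T.m 3) ∧ Hide (T.a 3 6 = 4 * T.w 3 ∧ T.a 6 3 = T.w 6) ∧ Hide (α36 = 4 ∧ α63 = 1)) ∧ q36 = 4) ∨ ((Hide (x36 = 2 * T.m 6 ∧ x63 = 2 * T.m 3) ∧ Hide (T.a 3 6 = 2 * T.w 3 ∧ T.a 6 3 = 2 * T.w 6) ∧ Hide (α36 = 2 ∧ α63 = 2)) ∧ q36 = 4)))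
    (c37 : Hide (((Hide (x37 = 0 ∧ x73 = 0) ∧ Hide (T.a 3 7 = 0 ∧ T.a 7 3 = 0) ∧ Hide (α37 = 0 ∧ α73 = 0)) ∧ q37 = 0) ∨ ((Hide (x37 = T.m 7 ∧ x73 = T.m 3) ∧ Hide (T.a 3 7 = T.w 3 ∧ T.a 7 3 = T.w 7) ∧ Hide (α37 = 1 ∧ α73 = 1)) ∧ q37 = 1) ∨ ((Hide (x37 = T.m 7 ∧ x73 = 2 * T.m 3) ∧ Hide (T.a 3 7 = T.w 3 ∧ T.a 7 3 = 2 * T.w 7) ∧ Hide (α37 = 1 ∧ α73 = 2)) ∧ q37 = 2) ∨ ((Hide (x37 = 2 * T.m 7 ∧ x73 = T.m 3) ∧ Hide (T.a 3 7 = 2 * T.w 3 ∧ T.a 7 3 = T.w 7) ∧ Hide (α37 = 2 ∧ α73 = 1)) ∧ q37 = 2) ∨ ((Hide (x37 = T.m 7 ∧ x73 = 3 * T.m 3) ∧ Hide (T.a 3 7 = T.w 3 ∧ T.a 7 3 = 3 * T.w 7) ∧ Hide (α37 = 1 ∧ α73 = 3)) ∧ q37 = 3) ∨ ((Hide (x37 = 3 * T.m 7 ∧ x73 = T.m 3) ∧ Hide (T.a 3 7 = 3 * T.w 3 ∧ T.a 7 3 = T.w 7)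 ∧ Hide (α37 = 3 ∧ α73 = 1)) ∧ q37 = 3) ∨ ((Hide (x37 = T.m 7 ∧ x73 = 4 * T.m 3) ∧ Hide (T.a 3 7 = T.w 3 ∧ T.a 7 3 = 4 * T.w 7) ∧ Hide (α37 = 1 ∧ α73 = 4)) ∧ q37 = 4) ∨ ((Hide (x37 = 4 * T.m 7 ∧ x73 = T.m 3) ∧ Hide (T.a 3 7 = 4 * T.w 3 ∧ T.a 7 3 = T.w 7) ∧ Hide (α37 = 4 ∧ α73 = 1)) ∧ q37 = 4) ∨ ((Hide (x37 = 2 * T.m 7 ∧ x73 = 2 * T.m 3) ∧ Hide (T.a 3 7 = 2 * T.w 3 ∧ T.a 7 3 = 2 * T.w 7) ∧ Hide (α37 = 2 ∧ α73 = 2)) ∧ q37 = 4)))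
    (c45 : Hide (((Hide (x45 = 0 ∧ x54 = 0) ∧ Hide (T.a 4 5 = 0 ∧ T.a 5 4 = 0) ∧ Hide (α45 = 0 ∧ α54 = 0)) ∧ q45 = 0) ∨ ((Hide (x45 = T.m 5 ∧ x54 = T.m 4) ∧ Hide (T.a 4 5 = T.w 4 ∧ T.a 5 4 = T.w 5) ∧ Hide (α45 = 1 ∧ α54 = 1)) ∧ q45 = 1) ∨ ((Hide (x45 = T.m 5 ∧ x54 = 2 * T.m 4) ∧ Hide (T.a 4 5 = T.w 4 ∧ T.a 5 4 = 2 * T.w 5) ∧ Hide (α45 = 1 ∧ α54 = 2)) ∧ q45 = 2) ∨ ((Hide (x45 = 2 * T.m 5 ∧ x54 = T.m 4) ∧ Hide (T.a 4 5 = 2 * T.w 4 ∧ T.a 5 4 = T.w 5) ∧ Hide (α45 = 2 ∧ α54 = 1)) ∧ q45 = 2) ∨ ((Hide (x45 = T.m 5 ∧ x54 = 3 * T.m 4) ∧ Hide (T.a 4 5 = T.w 4 ∧ T.a 5 4 = 3 * T.w 5) ∧ Hide (α45 = 1 ∧ α54 = 3)) ∧ q45 = 3) ∨ ((Hide (x45 = 3 * T.m 5 ∧ x54 = T.m 4) ∧ Hide (T.a 4 5 = 3 * T.w 4 ∧ T.a 5 4 = T.w 5)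 ∧ Hide (α45 = 3 ∧ α54 = 1)) ∧ q45 = 3) ∨ ((Hide (x45 = T.m 5 ∧ x54 = 4 * T.m 4) ∧ Hide (T.a 4 5 = T.w 4 ∧ T.a 5 4 = 4 * T.w 5) ∧ Hide (α45 = 1 ∧ α54 = 4)) ∧ q45 = 4) ∨ ((Hide (x45 = 4 * T.m 5 ∧ x54 = T.m 4) ∧ Hide (T.a 4 5 = 4 * T.w 4 ∧ T.a 5 4 = T.w 5) ∧ Hide (α45 = 4 ∧ α54 = 1)) ∧ q45 = 4) ∨ ((Hide (x45 = 2 * T.m 5 ∧ x54 = 2 * T.m 4) ∧ Hide (T.a 4 5 = 2 * T.w 4 ∧ T.a 5 4 = 2 * T.w 5) ∧ Hide (α45 = 2 ∧ α54 = 2)) ∧ q45 = 4)))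
    (c46 : Hide (((Hide (x46 = 0 ∧ x64 = 0) ∧ Hide (T.a 4 6 = 0 ∧ T.a 6 4 = 0) ∧ Hide (α46 = 0 ∧ α64 = 0)) ∧ q46 = 0) ∨ ((Hide (x46 = T.m 6 ∧ x64 = T.m 4) ∧ Hide (T.a 4 6 = T.w 4 ∧ T.a 6 4 = T.w 6) ∧ Hide (α46 = 1 ∧ α64 = 1)) ∧ q46 = 1) ∨ ((Hide (x46 = T.m 6 ∧ x64 = 2 * T.m 4) ∧ Hide (T.a 4 6 = T.w 4 ∧ T.a 6 4 = 2 * T.w 6) ∧ Hide (α46 = 1 ∧ α64 = 2)) ∧ q46 = 2) ∨ ((Hide (x46 = 2 * T.m 6 ∧ x64 = T.m 4) ∧ Hide (T.a 4 6 = 2 * T.w 4 ∧ T.a 6 4 = T.w 6) ∧ Hide (α46 = 2 ∧ α64 = 1)) ∧ q46 = 2) ∨ ((Hide (x46 = T.m 6 ∧ x64 = 3 * T.m 4) ∧ Hide (T.a 4 6 = T.w 4 ∧ T.a 6 4 = 3 * T.w 6) ∧ Hide (α46 = 1 ∧ α64 = 3)) ∧ q46 = 3) ∨ ((Hide (x46 = 3 * T.m 6 ∧ x64 = T.m 4) ∧ Hide (T.a 4 6 = 3 * T.w 4 ∧ T.a 6 4 = T.w 6)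 ∧ Hide (α46 = 3 ∧ α64 = 1)) ∧ q46 = 3) ∨ ((Hide (x46 = T.m 6 ∧ x64 = 4 * T.m 4) ∧ Hide (T.a 4 6 = T.w 4 ∧ T.a 6 4 = 4 * T.w 6) ∧ Hide (α46 = 1 ∧ α64 = 4)) ∧ q46 = 4) ∨ ((Hide (x46 = 4 * T.m 6 ∧ x64 = T.m 4) ∧ Hide (T.a 4 6 = 4 * T.w 4 ∧ T.a 6 4 = T.w 6) ∧ Hide (α46 = 4 ∧ α64 = 1)) ∧ q46 = 4) ∨ ((Hide (x46 = 2 * T.m 6 ∧ x64 = 2 * T.m 4) ∧ Hide (T.a 4 6 = 2 * T.w 4 ∧ T.a 6 4 = 2 * T.w 6) ∧ Hide (α46 = 2 ∧ α64 = 2)) ∧ q46 = 4)))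
    (c47 : Hide (((Hide (x47 = 0 ∧ x74 = 0) ∧ Hide (T.a 4 7 = 0 ∧ T.a 7 4 = 0) ∧ Hide (α47 = 0 ∧ α74 = 0)) ∧ q47 = 0) ∨ ((Hide (x47 = T.m 7 ∧ x74 = T.m 4) ∧ Hide (T.a 4 7 = T.w 4 ∧ T.a 7 4 = T.w 7) ∧ Hide (α47 = 1 ∧ α74 = 1)) ∧ q47 = 1) ∨ ((Hide (x47 = T.m 7 ∧ x74 = 2 * T.m 4) ∧ Hide (T.a 4 7 = T.w 4 ∧ T.a 7 4 = 2 * T.w 7) ∧ Hide (α47 = 1 ∧ α74 = 2)) ∧ q47 = 2) ∨ ((Hide (x47 = 2 * T.m 7 ∧ x74 = T.m 4) ∧ Hide (T.a 4 7 = 2 * T.w 4 ∧ T.a 7 4 = T.w 7) ∧ Hide (α47 = 2 ∧ α74 = 1)) ∧ q47 = 2) ∨ ((Hide (x47 = T.m 7 ∧ x74 = 3 * T.m 4) ∧ Hide (T.a 4 7 = T.w 4 ∧ T.a 7 4 = 3 * T.w 7) ∧ Hide (α47 = 1 ∧ α74 = 3)) ∧ q47 = 3) ∨ ((Hide (x47 = 3 * T.m 7 ∧ x74 = T.m 4) ∧ Hide (T.a 4 7 = 3 * T.w 4 ∧ T.a 7 4 = T.w 7)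 ∧ Hide (α47 = 3 ∧ α74 = 1)) ∧ q47 = 3) ∨ ((Hide (x47 = T.m 7 ∧ x74 = 4 * T.m 4) ∧ Hide (T.a 4 7 = T.w 4 ∧ T.a 7 4 = 4 * T.w 7) ∧ Hide (α47 = 1 ∧ α74 = 4)) ∧ q47 = 4) ∨ ((Hide (x47 = 4 * T.m 7 ∧ x74 = T.m 4) ∧ Hide (T.a 4 7 = 4 * T.w 4 ∧ T.a 7 4 = T.w 7) ∧ Hide (α47 = 4 ∧ α74 = 1)) ∧ q47 = 4) ∨ ((Hide (x47 = 2 * T.m 7 ∧ x74 = 2 * T.m 4) ∧ Hide (T.a 4 7 = 2 * T.w 4 ∧ T.a 7 4 = 2 * T.w 7) ∧ Hide (α47 = 2 ∧ α74 = 2)) ∧ q47 = 4)))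
    (c56 : Hide (((Hide (x56 = 0 ∧ x65 = 0) ∧ Hide (T.a 5 6 = 0 ∧ T.a 6 5 = 0) ∧ Hide (α56 = 0 ∧ α65 = 0)) ∧ q56 = 0) ∨ ((Hide (x56 = T.m 6 ∧ x65 = T.m 5) ∧ Hide (T.a 5 6 = T.w 5 ∧ T.a 6 5 = T.w 6) ∧ Hide (α56 = 1 ∧ α65 = 1)) ∧ q56 = 1) ∨ ((Hide (x56 = T.m 6 ∧ x65 = 2 * T.m 5) ∧ Hide (T.a 5 6 = T.w 5 ∧ T.a 6 5 = 2 * T.w 6) ∧ Hide (α56 = 1 ∧ α65 = 2)) ∧ q56 = 2) ∨ ((Hide (x56 = 2 * T.m 6 ∧ x65 = T.m 5) ∧ Hide (T.a 5 6 = 2 * T.w 5 ∧ T.a 6 5 = T.w 6) ∧ Hide (α56 = 2 ∧ α65 = 1)) ∧ q56 = 2) ∨ ((Hide (x56 = T.m 6 ∧ x65 = 3 * T.m 5) ∧ Hide (T.a 5 6 = T.w 5 ∧ T.a 6 5 = 3 * T.w 6) ∧ Hide (α56 = 1 ∧ α65 = 3)) ∧ q56 = 3) ∨ ((Hide (x56 = 3 * T.m 6 ∧ x65 = T.m 5) ∧ Hide (T.a 5 6 = 3 * T.w 5 ∧ T.a 6 5 = T.w 6)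 ∧ Hide (α56 = 3 ∧ α65 = 1)) ∧ q56 = 3) ∨ ((Hide (x56 = T.m 6 ∧ x65 = 4 * T.m 5) ∧ Hide (T.a 5 6 = T.w 5 ∧ T.a 6 5 = 4 * T.w 6) ∧ Hide (α56 = 1 ∧ α65 = 4)) ∧ q56 = 4) ∨ ((Hide (x56 = 4 * T.m 6 ∧ x65 = T.m 5) ∧ Hide (T.a 5 6 = 4 * T.w 5 ∧ T.a 6 5 = T.w 6) ∧ Hide (α56 = 4 ∧ α65 = 1)) ∧ q56 = 4) ∨ ((Hide (x56 = 2 * T.m 6 ∧ x65 = 2 * T.m 5) ∧ Hide (T.a 5 6 = 2 * T.w 5 ∧ T.a 6 5 = 2 * T.w 6) ∧ Hide (α56 = 2 ∧ α65 = 2)) ∧ q56 = 4)))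
    (c57 : Hide (((Hide (x57 = 0 ∧ x75 = 0) ∧ Hide (T.a 5 7 = 0 ∧ T.a 7 5 = 0) ∧ Hide (α57 = 0 ∧ α75 = 0)) ∧ q57 = 0) ∨ ((Hide (x57 = T.m 7 ∧ x75 = T.m 5) ∧ Hide (T.a 5 7 = T.w 5 ∧ T.a 7 5 = T.w 7) ∧ Hide (α57 = 1 ∧ α75 = 1)) ∧ q57 = 1) ∨ ((Hide (x57 = T.m 7 ∧ x75 = 2 * T.m 5) ∧ Hide (T.a 5 7 = T.w 5 ∧ T.a 7 5 = 2 * T.w 7) ∧ Hide (α57 = 1 ∧ α75 = 2)) ∧ q57 = 2) ∨ ((Hide (x57 = 2 * T.m 7 ∧ x75 = T.m 5) ∧ Hide (T.a 5 7 = 2 * T.w 5 ∧ T.a 7 5 = T.w 7) ∧ Hide (α57 = 2 ∧ α75 = 1)) ∧ q57 = 2) ∨ ((Hide (x57 = T.m 7 ∧ x75 = 3 * T.m 5) ∧ Hide (T.a 5 7 = T.w 5 ∧ T.a 7 5 = 3 * T.w 7) ∧ Hide (α57 = 1 ∧ α75 = 3)) ∧ q57 = 3) ∨ ((Hide (x57 = 3 * T.m 7 ∧ x75 = T.m 5) ∧ Hide (T.a 5 7 = 3 * T.w 5 ∧ T.a 7 5 = T.w 7)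 ∧ Hide (α57 = 3 ∧ α75 = 1)) ∧ q57 = 3) ∨ ((Hide (x57 = T.m 7 ∧ x75 = 4 * T.m 5) ∧ Hide (T.a 5 7 = T.w 5 ∧ T.a 7 5 = 4 * T.w 7) ∧ Hide (α57 = 1 ∧ α75 = 4)) ∧ q57 = 4) ∨ ((Hide (x57 = 4 * T.m 7 ∧ x75 = T.m 5) ∧ Hide (T.a 5 7 = 4 * T.w 5 ∧ T.a 7 5 = T.w 7) ∧ Hide (α57 = 4 ∧ α75 = 1)) ∧ q57 = 4) ∨ ((Hide (x57 = 2 * T.m 7 ∧ x75 = 2 * T.m 5) ∧ Hide (T.a 5 7 = 2 * T.w 5 ∧ T.a 7 5 = 2 * T.w 7) ∧ Hide (α57 = 2 ∧ α75 = 2)) ∧ q57 = 4)))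
    (c67 : Hide (((Hide (x67 = 0 ∧ x76 = 0) ∧ Hide (T.a 6 7 = 0 ∧ T.a 7 6 = 0) ∧ Hide (α67 = 0 ∧ α76 = 0)) ∧ q67 = 0) ∨ ((Hide (x67 = T.m 7 ∧ x76 = T.m 6) ∧ Hide (T.a 6 7 = T.w 6 ∧ T.a 7 6 = T.w 7) ∧ Hide (α67 = 1 ∧ α76 = 1)) ∧ q67 = 1) ∨ ((Hide (x67 = T.m 7 ∧ x76 = 2 * T.m 6) ∧ Hide (T.a 6 7 = T.w 6 ∧ T.a 7 6 = 2 * T.w 7) ∧ Hide (α67 = 1 ∧ α76 = 2)) ∧ q67 = 2) ∨ ((Hide (x67 = 2 * T.m 7 ∧ x76 = T.m 6) ∧ Hide (T.a 6 7 = 2 * T.w 6 ∧ T.a 7 6 = T.w 7) ∧ Hide (α67 = 2 ∧ α76 = 1)) ∧ q67 = 2) ∨ ((Hide (x67 = T.m 7 ∧ x76 = 3 * T.m 6) ∧ Hide (T.a 6 7 = T.w 6 ∧ T.a 7 6 = 3 * T.w 7) ∧ Hide (α67 = 1 ∧ α76 = 3)) ∧ q67 = 3) ∨ ((Hide (x67 = 3 * T.m 7 ∧ x76 = T.m 6) ∧ Hide (T.a 6 7 = 3 * T.w 6 ∧ T.a 7 6 = T.w 7)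 ∧ Hide (α67 = 3 ∧ α76 = 1)) ∧ q67 = 3) ∨ ((Hide (x67 = T.m 7 ∧ x76 = 4 * T.m 6) ∧ Hide (T.a 6 7 = T.w 6 ∧ T.a 7 6 = 4 * T.w 7) ∧ Hide (α67 = 1 ∧ α76 = 4)) ∧ q67 = 4) ∨ ((Hide (x67 = 4 * T.m 7 ∧ x76 = T.m 6) ∧ Hide (T.a 6 7 = 4 * T.w 6 ∧ T.a 7 6 = T.w 7) ∧ Hide (α67 = 4 ∧ α76 = 1)) ∧ q67 = 4) ∨ ((Hide (x67 = 2 * T.m 7 ∧ x76 = 2 * T.m 6) ∧ Hide (T.a 6 7 = 2 * T.w 6 ∧ T.a 7 6 = 2 * T.w 7) ∧ Hide (α67 = 2 ∧ α76 = 2)) ∧ q67 = 4)))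
    (gw01 : Hide (T.a 0 1 = T.w 0 ∧ T.a 1 0 = T.w 1))
    (gw02 : Hide (T.a 0 2 = 0 ∧ T.a 2 0 = 0))
    (gw03 : Hide (T.a 0 3 = 0 ∧ T.a 3 0 = 0))
    (gw04 : Hide (T.a 0 4 = 0 ∧ T.a 4 0 = 0))
    (gw05 : Hide (T.a 0 5 = 0 ∧ T.a 5 0 = 0))
    (gw06 : Hide (T.a 0 6 = 0 ∧ T.a 6 0 = 0))
    (gw07 : Hide (T.a 0 7 = 0 ∧ T.a 7 0 = 0))
    (gw12 : Hide (T.a 1 2 = T.w 1 ∧ T.a 2 1 = T.w 2))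
    (gw13 : Hide (T.a 1 3 = 0 ∧ T.a 3 1 = 0))
    (gw14 : Hide (T.a 1 4 = T.w 1 ∧ T.a 4 1 = T.w 4))
    (gw15 : Hide (T.a 1 5 = T.w 1 ∧ T.a 5 1 = T.w 5)) : Goal T := by
  have t := pc0 q16 c16.out (by have := v1.out; have := qn17.out; omega)
  clear c16
  obtain ⟨⟨⟨rfl, rfl⟩, gw16, ⟨rfl, rfl⟩⟩, rfl⟩ := t
  have t := pc0 q17 c17.out (by have := v1.out; omega)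
  clear c17
  obtain ⟨⟨⟨rfl, rfl⟩, gw17, ⟨rfl, rfl⟩⟩, rfl⟩ := t
  have t := pc3 q23 c23.out (by have := v2.out; have := qn24.out; have := qn25.out; have := qn26.out; have := qn27.out; omega)
  clear c23
  rcases t with ⟨⟨⟨rfl, rfl⟩, gw23, ⟨rfl, rfl⟩⟩, rfl⟩ | ⟨⟨⟨rfl, rfl⟩, gw23, ⟨rfl, rfl⟩⟩, rfl⟩ | ⟨⟨⟨rfl, rfl⟩, gw23, ⟨rfl, rfl⟩⟩, rfl⟩ | ⟨⟨⟨rfl, rfl⟩, gw23, ⟨rfl, rfl⟩⟩, rfl⟩ | ⟨⟨⟨rfl, rfl⟩, gw23, ⟨rfl, rfl⟩⟩, rfl⟩ | ⟨⟨⟨rfl, rfl⟩, gw23, ⟨rfl, rfl⟩⟩, rfl⟩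
  · (have := od3.out; omega)
  · (have := hm3.out; have := e0.out; have := e1.out; have := e2.out; have := r24.out; have := r25.out; have := r26.out; have := r27.out; have := e4.out; have := r42.out; have := r43.out; have := r45.out; have := r46.out; have := r47.out; have := e5.out; have := r52.out; have := r53.out; have := r54.out; have := r56.out; have := r57.out; omega)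
  · (have := hm4.out; have := e0.out; have := e1.out; have := e2.out; have := r24.out; have := r25.out; have := r26.out; have := r27.out; have := e3.out; have := r34.out; have := r35.out; have := r36.out; have := r37.out; have := e5.out; have := r52.out; have := r53.out; have := r54.out; have := r56.out; have := r57.out; omega)
  · (have := hm4.out; have := om3.out; have := e0.out; have := e1.out; have := e2.out; have := r24.out; have := r25.out; have := r26.out; have := r27.out; have := e5.out; have := r52.out; have := r53.out; have := r54.out; have := r56.out; have := r57.out; omega)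
  · (have := hm0.out; have := hm4.out; have := hm5.out; have := e1.out; have := e2.out; have := r24.out; have := r25.out; have := r26.out; have := r27.out; have := e3.out; have := r34.out; have := r35.out; have := r36.out; have := r37.out; omega)
  · (have := hm0.out; have := hm4.out; have := hm5.out; have := e1.out; have := e2.out; have := r24.out; have := r25.out; have := r26.out; have := r27.out; have := e3.out; have := r34.out; have := r35.out; have := r36.out; have := r37.out; omega)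

set_option maxHeartbeats 0 in
theorem part41 (T : Models.NumericalType 8) (α15 α16 α17 α23 α24 α25 α26 α27 α32 α34 α35 α36 α37 α42 α43 α45 α46 α47 α51 α52 α53 α54 α56 α57 α61 α62 α63 α64 α65 α67 α71 α72 α73 α74 α75 α76 x15 x16 x17 x23 x24 x25 x26 x27 x32 x34 x35 x36 x37 x42 x43 x45 x46 x47 x51 x52 x53 x54 x56 x57 x61 x62 x63 x64 x65 x67 x71 x72 x73 x74 x75 x76 q15 q16 q17 q23 q24 q25 q26 q27 q34 q35 q36 q37 q45 q46 q47 q56 q57 q67 : ℤ)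
    (hm0 : Hide (0 < T.m 0))
    (hm1 : Hide (0 < T.m 1))
    (hm2 : Hide (0 < T.m 2))
    (hm3 : Hide (0 < T.m 3))
    (hm4 : Hide (0 < T.m 4))
    (hm5 : Hide (0 < T.m 5))
    (hm6 : Hide (0 < T.m 6))
    (hm7 : Hide (0 < T.m 7))
    (om1 : Hide (T.m 0 ≤ T.m 1))
    (om2 : Hide (T.m 0 ≤ T.m 2))
    (om3 : Hide (T.m 0 ≤ T.m 3))
    (om4 : Hide (T.m 0 ≤ T.m 4))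
    (om5 : Hide (T.m 0 ≤ T.m 5))
    (om6 : Hide (T.m 0 ≤ T.m 6))
    (om7 : Hide (T.m 0 ≤ T.m 7))
    (e0 : Hide (T.m 1 + (0 : ℤ) + (0 : ℤ) + (0 : ℤ) + (0 : ℤ) + (0 : ℤ) + (0 : ℤ) = 2 * T.m 0))
    (e1 : Hide (T.m 0 + T.m 2 + (0 : ℤ) + T.m 4 + x15 + x16 + x17 = 2 * T.m 1))
    (e2 : Hide ((0 : ℤ) + T.m 1 + x23 + x24 + x25 + x26 + x27 = 2 * T.m 2))
    (e3 : Hide ((0 : ℤ) + (0 : ℤ) + x32 + x34 + x35 + x36 + x37 = 2 * T.m 3))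
    (e4 : Hide ((0 : ℤ) + 2 * T.m 1 + x42 + x43 + x45 + x46 + x47 = 2 * T.m 4))
    (e5 : Hide ((0 : ℤ) + x51 + x52 + x53 + x54 + x56 + x57 = 2 * T.m 5))
    (e6 : Hide ((0 : ℤ) + x61 + x62 + x63 + x64 + x65 + x67 = 2 * T.m 6))
    (e7 : Hide ((0 : ℤ) + x71 + x72 + x73 + x74 + x75 + x76 = 2 * T.m 7))
    (r01 : Hide (0 ≤ T.m 1))
    (r02 : Hide (0 ≤ (0 : ℤ)))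
    (r03 : Hide (0 ≤ (0 : ℤ)))
    (r04 : Hide (0 ≤ (0 : ℤ)))
    (r05 : Hide (0 ≤ (0 : ℤ)))
    (r06 : Hide (0 ≤ (0 : ℤ)))
    (r07 : Hide (0 ≤ (0 : ℤ)))
    (r10 : Hide (0 ≤ T.m 0))
    (r12 : Hide (0 ≤ T.m 2))
    (r13 : Hide (0 ≤ (0 : ℤ)))
    (r14 : Hide (0 ≤ T.m 4))
    (r15 : Hide (0 ≤ x15))
    (r16 : Hide (0 ≤ x16))
    (r17 : Hide (0 ≤ x17))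
    (r20 : Hide (0 ≤ (0 : ℤ)))
    (r21 : Hide (0 ≤ T.m 1))
    (r23 : Hide (0 ≤ x23))
    (r24 : Hide (0 ≤ x24))
    (r25 : Hide (0 ≤ x25))
    (r26 : Hide (0 ≤ x26))
    (r27 : Hide (0 ≤ x27))
    (r30 : Hide (0 ≤ (0 : ℤ)))
    (r31 : Hide (0 ≤ (0 : ℤ)))
    (r32 : Hide (0 ≤ x32))
    (r34 : Hide (0 ≤ x34))
    (r35 : Hide (0 ≤ x35))
    (r36 : Hide (0 ≤ x36))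
    (r37 : Hide (0 ≤ x37))
    (r40 : Hide (0 ≤ (0 : ℤ)))
    (r41 : Hide (0 ≤ 2 * T.m 1))
    (r42 : Hide (0 ≤ x42))
    (r43 : Hide (0 ≤ x43))
    (r45 : Hide (0 ≤ x45))
    (r46 : Hide (0 ≤ x46))
    (r47 : Hide (0 ≤ x47))
    (r50 : Hide (0 ≤ (0 : ℤ)))
    (r51 : Hide (0 ≤ x51))
    (r52 : Hide (0 ≤ x52))
    (r53 : Hide (0 ≤ x53))
    (r54 : Hide (0 ≤ x54))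
    (r56 : Hide (0 ≤ x56))
    (r57 : Hide (0 ≤ x57))
    (r60 : Hide (0 ≤ (0 : ℤ)))
    (r61 : Hide (0 ≤ x61))
    (r62 : Hide (0 ≤ x62))
    (r63 : Hide (0 ≤ x63))
    (r64 : Hide (0 ≤ x64))
    (r65 : Hide (0 ≤ x65))
    (r67 : Hide (0 ≤ x67))
    (r70 : Hide (0 ≤ (0 : ℤ)))
    (r71 : Hide (0 ≤ x71))
    (r72 : Hide (0 ≤ x72))
    (r73 : Hide (0 ≤ x73))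
    (r74 : Hide (0 ≤ x74))
    (r75 : Hide (0 ≤ x75))
    (r76 : Hide (0 ≤ x76))
    (hw0 : Hide (0 < T.w 0))
    (hw1 : Hide (0 < T.w 1))
    (hw2 : Hide (0 < T.w 2))
    (hw3 : Hide (0 < T.w 3))
    (hw4 : Hide (0 < T.w 4))
    (hw5 : Hide (0 < T.w 5))
    (hw6 : Hide (0 < T.w 6))
    (hw7 : Hide (0 < T.w 7))
    (hs01 : Hide (T.a 0 1 = T.a 1 0))
    (hs02 : Hide (T.a 0 2 = T.a 2 0))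
    (hs03 : Hide (T.a 0 3 = T.a 3 0))
    (hs04 : Hide (T.a 0 4 = T.a 4 0))
    (hs05 : Hide (T.a 0 5 = T.a 5 0))
    (hs06 : Hide (T.a 0 6 = T.a 6 0))
    (hs07 : Hide (T.a 0 7 = T.a 7 0))
    (hs12 : Hide (T.a 1 2 = T.a 2 1))
    (hs13 : Hide (T.a 1 3 = T.a 3 1))
    (hs14 : Hide (T.a 1 4 = T.a 4 1))
    (hs15 : Hide (T.a 1 5 = T.a 5 1))
    (hs16 : Hide (T.a 1 6 = T.a 6 1))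
    (hs17 : Hide (T.a 1 7 = T.a 7 1))
    (hs23 : Hide (T.a 2 3 = T.a 3 2))
    (hs24 : Hide (T.a 2 4 = T.a 4 2))
    (hs25 : Hide (T.a 2 5 = T.a 5 2))
    (hs26 : Hide (T.a 2 6 = T.a 6 2))
    (hs27 : Hide (T.a 2 7 = T.a 7 2))
    (hs34 : Hide (T.a 3 4 = T.a 4 3))
    (hs35 : Hide (T.a 3 5 = T.a 5 3))
    (hs36 : Hide (T.a 3 6 = T.a 6 3))
    (hs37 : Hide (T.a 3 7 = T.a 7 3))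
    (hs45 : Hide (T.a 4 5 = T.a 5 4))
    (hs46 : Hide (T.a 4 6 = T.a 6 4))
    (hs47 : Hide (T.a 4 7 = T.a 7 4))
    (hs56 : Hide (T.a 5 6 = T.a 6 5))
    (hs57 : Hide (T.a 5 7 = T.a 7 5))
    (hs67 : Hide (T.a 6 7 = T.a 7 6))
    (ha00 : Hide (T.a 0 0 = -2 * T.w 0))
    (ha11 : Hide (T.a 1 1 = -2 * T.w 1))
    (ha22 : Hide (T.a 2 2 = -2 * T.w 2))
    (ha33 : Hide (T.a 3 3 = -2 * T.w 3))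
    (ha44 : Hide (T.a 4 4 = -2 * T.w 4))
    (ha55 : Hide (T.a 5 5 = -2 * T.w 5))
    (ha66 : Hide (T.a 6 6 = -2 * T.w 6))
    (ha77 : Hide (T.a 7 7 = -2 * T.w 7))
    (v0 : Hide ((1 : ℤ) + (0 : ℤ) + (0 : ℤ) + (0 : ℤ) + (0 : ℤ) + (0 : ℤ) + (0 : ℤ) ≤ 4))
    (v1 : Hide ((1 : ℤ) + (1 : ℤ) + (0 : ℤ) + (2 : ℤ) + q15 + q16 + q17 ≤ 4))
    (v2 : Hide ((0 : ℤ) + (1 : ℤ) + q23 + q24 + q25 + q26 + q27 ≤ 4))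
    (v3 : Hide ((0 : ℤ) + (0 : ℤ) + q23 + q34 + q35 + q36 + q37 ≤ 4))
    (v4 : Hide ((0 : ℤ) + (2 : ℤ) + q24 + q34 + q45 + q46 + q47 ≤ 4))
    (v5 : Hide ((0 : ℤ) + q15 + q25 + q35 + q45 + q56 + q57 ≤ 4))
    (v6 : Hide ((0 : ℤ) + q16 + q26 + q36 + q46 + q56 + q67 ≤ 4))
    (v7 : Hide ((0 : ℤ) + q17 + q27 + q37 + q47 + q57 + q67 ≤ 4))
    (qn01 : Hide (0 ≤ (1 : ℤ)))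
    (qn02 : Hide (0 ≤ (0 : ℤ)))
    (qn03 : Hide (0 ≤ (0 : ℤ)))
    (qn04 : Hide (0 ≤ (0 : ℤ)))
    (qn05 : Hide (0 ≤ (0 : ℤ)))
    (qn06 : Hide (0 ≤ (0 : ℤ)))
    (qn07 : Hide (0 ≤ (0 : ℤ)))
    (qn12 : Hide (0 ≤ (1 : ℤ)))
    (qn13 : Hide (0 ≤ (0 : ℤ)))
    (qn14 : Hide (0 ≤ (2 : ℤ)))
    (qn15 : Hide (0 ≤ q15))
    (qn16 : Hide (0 ≤ q16))
    (qn17 : Hide (0 ≤ q17))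
    (qn23 : Hide (0 ≤ q23))
    (qn24 : Hide (0 ≤ q24))
    (qn25 : Hide (0 ≤ q25))
    (qn26 : Hide (0 ≤ q26))
    (qn27 : Hide (0 ≤ q27))
    (qn34 : Hide (0 ≤ q34))
    (qn35 : Hide (0 ≤ q35))
    (qn36 : Hide (0 ≤ q36))
    (qn37 : Hide (0 ≤ q37))
    (qn45 : Hide (0 ≤ q45))
    (qn46 : Hide (0 ≤ q46))
    (qn47 : Hide (0 ≤ q47))
    (qn56 : Hide (0 ≤ q56))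
    (qn57 : Hide (0 ≤ q57))
    (qn67 : Hide (0 ≤ q67))
    (od1 : Hide (0 < (1 : ℤ)))
    (od2 : Hide (0 < (0 : ℤ) + (1 : ℤ)))
    (od3 : Hide (0 < (0 : ℤ) + (0 : ℤ) + α23))
    (od4 : Hide (0 < (0 : ℤ) + (1 : ℤ) + α24 + α34))
    (od5 : Hide (0 < (0 : ℤ) + α15 + α25 + α35 + α45))
    (od6 : Hide (0 < (0 : ℤ) + α16 + α26 + α36 + α46 + α56))
    (od7 : Hide (0 < (0 : ℤ) + α17 + α27 + α37 + α47 + α57 + α67))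
    (c15 : Hide (((Hide (x15 = 0 ∧ x51 = 0) ∧ Hide (T.a 1 5 = 0 ∧ T.a 5 1 = 0) ∧ Hide (α15 = 0 ∧ α51 = 0)) ∧ q15 = 0) ∨ ((Hide (x15 = T.m 5 ∧ x51 = T.m 1) ∧ Hide (T.a 1 5 = T.w 1 ∧ T.a 5 1 = T.w 5) ∧ Hide (α15 = 1 ∧ α51 = 1)) ∧ q15 = 1) ∨ ((Hide (x15 = T.m 5 ∧ x51 = 2 * T.m 1) ∧ Hide (T.a 1 5 = T.w 1 ∧ T.a 5 1 = 2 * T.w 5) ∧ Hide (α15 = 1 ∧ α51 = 2)) ∧ q15 = 2) ∨ ((Hide (x15 = 2 * T.m 5 ∧ x51 = T.m 1) ∧ Hide (T.a 1 5 = 2 * T.w 1 ∧ T.a 5 1 = T.w 5) ∧ Hide (α15 = 2 ∧ α51 = 1)) ∧ q15 = 2) ∨ ((Hide (x15 = T.m 5 ∧ x51 = 3 * T.m 1) ∧ Hide (T.a 1 5 = T.w 1 ∧ T.a 5 1 = 3 * T.w 5) ∧ Hide (α15 = 1 ∧ α51 = 3)) ∧ q15 = 3) ∨ ((Hide (x15 = 3 * T.m 5 ∧ x51 = T.m 1) ∧ Hide (T.a 1 5 = 3 * T.w 1 ∧ T.a 5 1 = T.w 5)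 ∧ Hide (α15 = 3 ∧ α51 = 1)) ∧ q15 = 3) ∨ ((Hide (x15 = T.m 5 ∧ x51 = 4 * T.m 1) ∧ Hide (T.a 1 5 = T.w 1 ∧ T.a 5 1 = 4 * T.w 5) ∧ Hide (α15 = 1 ∧ α51 = 4)) ∧ q15 = 4) ∨ ((Hide (x15 = 4 * T.m 5 ∧ x51 = T.m 1) ∧ Hide (T.a 1 5 = 4 * T.w 1 ∧ T.a 5 1 = T.w 5) ∧ Hide (α15 = 4 ∧ α51 = 1)) ∧ q15 = 4) ∨ ((Hide (x15 = 2 * T.m 5 ∧ x51 = 2 * T.m 1) ∧ Hide (T.a 1 5 = 2 * T.w 1 ∧ T.a 5 1 = 2 * T.w 5) ∧ Hide (α15 = 2 ∧ α51 = 2)) ∧ q15 = 4)))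
    (c16 : Hide (((Hide (x16 = 0 ∧ x61 = 0) ∧ Hide (T.a 1 6 = 0 ∧ T.a 6 1 = 0) ∧ Hide (α16 = 0 ∧ α61 = 0)) ∧ q16 = 0) ∨ ((Hide (x16 = T.m 6 ∧ x61 = T.m 1) ∧ Hide (T.a 1 6 = T.w 1 ∧ T.a 6 1 = T.w 6) ∧ Hide (α16 = 1 ∧ α61 = 1)) ∧ q16 = 1) ∨ ((Hide (x16 = T.m 6 ∧ x61 = 2 * T.m 1) ∧ Hide (T.a 1 6 = T.w 1 ∧ T.a 6 1 = 2 * T.w 6) ∧ Hide (α16 = 1 ∧ α61 = 2)) ∧ q16 = 2) ∨ ((Hide (x16 = 2 * T.m 6 ∧ x61 = T.m 1) ∧ Hide (T.a 1 6 = 2 * T.w 1 ∧ T.a 6 1 = T.w 6) ∧ Hide (α16 = 2 ∧ α61 = 1)) ∧ q16 = 2) ∨ ((Hide (x16 = T.m 6 ∧ x61 = 3 * T.m 1) ∧ Hide (T.a 1 6 = T.w 1 ∧ T.a 6 1 = 3 * T.w 6) ∧ Hide (α16 = 1 ∧ α61 = 3)) ∧ q16 = 3) ∨ ((Hide (x16 = 3 * T.m 6 ∧ x61 = T.m 1) ∧ Hide (T.a 1 6 = 3 * T.w 1 ∧ T.a 6 1 = T.w 6)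 ∧ Hide (α16 = 3 ∧ α61 = 1)) ∧ q16 = 3) ∨ ((Hide (x16 = T.m 6 ∧ x61 = 4 * T.m 1) ∧ Hide (T.a 1 6 = T.w 1 ∧ T.a 6 1 = 4 * T.w 6) ∧ Hide (α16 = 1 ∧ α61 = 4)) ∧ q16 = 4) ∨ ((Hide (x16 = 4 * T.m 6 ∧ x61 = T.m 1) ∧ Hide (T.a 1 6 = 4 * T.w 1 ∧ T.a 6 1 = T.w 6) ∧ Hide (α16 = 4 ∧ α61 = 1)) ∧ q16 = 4) ∨ ((Hide (x16 = 2 * T.m 6 ∧ x61 = 2 * T.m 1) ∧ Hide (T.a 1 6 = 2 * T.w 1 ∧ T.a 6 1 = 2 * T.w 6) ∧ Hide (α16 = 2 ∧ α61 = 2)) ∧ q16 = 4)))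
    (c17 : Hide (((Hide (x17 = 0 ∧ x71 = 0) ∧ Hide (T.a 1 7 = 0 ∧ T.a 7 1 = 0) ∧ Hide (α17 = 0 ∧ α71 = 0)) ∧ q17 = 0) ∨ ((Hide (x17 = T.m 7 ∧ x71 = T.m 1) ∧ Hide (T.a 1 7 = T.w 1 ∧ T.a 7 1 = T.w 7) ∧ Hide (α17 = 1 ∧ α71 = 1)) ∧ q17 = 1) ∨ ((Hide (x17 = T.m 7 ∧ x71 = 2 * T.m 1) ∧ Hide (T.a 1 7 = T.w 1 ∧ T.a 7 1 = 2 * T.w 7) ∧ Hide (α17 = 1 ∧ α71 = 2)) ∧ q17 = 2) ∨ ((Hide (x17 = 2 * T.m 7 ∧ x71 = T.m 1) ∧ Hide (T.a 1 7 = 2 * T.w 1 ∧ T.a 7 1 = T.w 7) ∧ Hide (α17 = 2 ∧ α71 = 1)) ∧ q17 = 2) ∨ ((Hide (x17 = T.m 7 ∧ x71 = 3 * T.m 1) ∧ Hide (T.a 1 7 = T.w 1 ∧ T.a 7 1 = 3 * T.w 7) ∧ Hide (α17 = 1 ∧ α71 = 3)) ∧ q17 = 3) ∨ ((Hide (x17 = 3 * T.m 7 ∧ x71 = T.m 1) ∧ Hide (T.a 1 7 = 3 * T.w 1 ∧ T.a 7 1 = T.w 7)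 ∧ Hide (α17 = 3 ∧ α71 = 1)) ∧ q17 = 3) ∨ ((Hide (x17 = T.m 7 ∧ x71 = 4 * T.m 1) ∧ Hide (T.a 1 7 = T.w 1 ∧ T.a 7 1 = 4 * T.w 7) ∧ Hide (α17 = 1 ∧ α71 = 4)) ∧ q17 = 4) ∨ ((Hide (x17 = 4 * T.m 7 ∧ x71 = T.m 1) ∧ Hide (T.a 1 7 = 4 * T.w 1 ∧ T.a 7 1 = T.w 7) ∧ Hide (α17 = 4 ∧ α71 = 1)) ∧ q17 = 4) ∨ ((Hide (x17 = 2 * T.m 7 ∧ x71 = 2 * T.m 1) ∧ Hide (T.a 1 7 = 2 * T.w 1 ∧ T.a 7 1 = 2 * T.w 7) ∧ Hide (α17 = 2 ∧ α71 = 2)) ∧ q17 = 4)))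
    (c23 : Hide (((Hide (x23 = 0 ∧ x32 = 0) ∧ Hide (T.a 2 3 = 0 ∧ T.a 3 2 = 0) ∧ Hide (α23 = 0 ∧ α32 = 0)) ∧ q23 = 0) ∨ ((Hide (x23 = T.m 3 ∧ x32 = T.m 2) ∧ Hide (T.a 2 3 = T.w 2 ∧ T.a 3 2 = T.w 3) ∧ Hide (α23 = 1 ∧ α32 = 1)) ∧ q23 = 1) ∨ ((Hide (x23 = T.m 3 ∧ x32 = 2 * T.m 2) ∧ Hide (T.a 2 3 = T.w 2 ∧ T.a 3 2 = 2 * T.w 3) ∧ Hide (α23 = 1 ∧ α32 = 2)) ∧ q23 = 2) ∨ ((Hide (x23 = 2 * T.m 3 ∧ x32 = T.m 2) ∧ Hide (T.a 2 3 = 2 * T.w 2 ∧ T.a 3 2 = T.w 3) ∧ Hide (α23 = 2 ∧ α32 = 1)) ∧ q23 = 2) ∨ ((Hide (x23 = T.m 3 ∧ x32 = 3 * T.m 2) ∧ Hide (T.a 2 3 = T.w 2 ∧ T.a 3 2 = 3 * T.w 3) ∧ Hide (α23 = 1 ∧ α32 = 3)) ∧ q23 = 3) ∨ ((Hide (x23 = 3 * T.m 3 ∧ x32 = T.m 2) ∧ Hide (T.a 2 3 = 3 * T.w 2 ∧ T.a 3 2 = T.w 3)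 ∧ Hide (α23 = 3 ∧ α32 = 1)) ∧ q23 = 3) ∨ ((Hide (x23 = T.m 3 ∧ x32 = 4 * T.m 2) ∧ Hide (T.a 2 3 = T.w 2 ∧ T.a 3 2 = 4 * T.w 3) ∧ Hide (α23 = 1 ∧ α32 = 4)) ∧ q23 = 4) ∨ ((Hide (x23 = 4 * T.m 3 ∧ x32 = T.m 2) ∧ Hide (T.a 2 3 = 4 * T.w 2 ∧ T.a 3 2 = T.w 3) ∧ Hide (α23 = 4 ∧ α32 = 1)) ∧ q23 = 4) ∨ ((Hide (x23 = 2 * T.m 3 ∧ x32 = 2 * T.m 2) ∧ Hide (T.a 2 3 = 2 * T.w 2 ∧ T.a 3 2 = 2 * T.w 3) ∧ Hide (α23 = 2 ∧ α32 = 2)) ∧ q23 = 4)))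
    (c24 : Hide (((Hide (x24 = 0 ∧ x42 = 0) ∧ Hide (T.a 2 4 = 0 ∧ T.a 4 2 = 0) ∧ Hide (α24 = 0 ∧ α42 = 0)) ∧ q24 = 0) ∨ ((Hide (x24 = T.m 4 ∧ x42 = T.m 2) ∧ Hide (T.a 2 4 = T.w 2 ∧ T.a 4 2 = T.w 4) ∧ Hide (α24 = 1 ∧ α42 = 1)) ∧ q24 = 1) ∨ ((Hide (x24 = T.m 4 ∧ x42 = 2 * T.m 2) ∧ Hide (T.a 2 4 = T.w 2 ∧ T.a 4 2 = 2 * T.w 4) ∧ Hide (α24 = 1 ∧ α42 = 2)) ∧ q24 = 2) ∨ ((Hide (x24 = 2 * T.m 4 ∧ x42 = T.m 2) ∧ Hide (T.a 2 4 = 2 * T.w 2 ∧ T.a 4 2 = T.w 4) ∧ Hide (α24 = 2 ∧ α42 = 1)) ∧ q24 = 2) ∨ ((Hide (x24 = T.m 4 ∧ x42 = 3 * T.m 2) ∧ Hide (T.a 2 4 = T.w 2 ∧ T.a 4 2 = 3 * T.w 4) ∧ Hide (α24 = 1 ∧ α42 = 3)) ∧ q24 = 3) ∨ ((Hide (x24 = 3 * T.m 4 ∧ x42 = T.m 2) ∧ Hide (T.a 2 4 = 3 * T.w 2 ∧ T.a 4 2 = T.w 4)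 ∧ Hide (α24 = 3 ∧ α42 = 1)) ∧ q24 = 3) ∨ ((Hide (x24 = T.m 4 ∧ x42 = 4 * T.m 2) ∧ Hide (T.a 2 4 = T.w 2 ∧ T.a 4 2 = 4 * T.w 4) ∧ Hide (α24 = 1 ∧ α42 = 4)) ∧ q24 = 4) ∨ ((Hide (x24 = 4 * T.m 4 ∧ x42 = T.m 2) ∧ Hide (T.a 2 4 = 4 * T.w 2 ∧ T.a 4 2 = T.w 4) ∧ Hide (α24 = 4 ∧ α42 = 1)) ∧ q24 = 4) ∨ ((Hide (x24 = 2 * T.m 4 ∧ x42 = 2 * T.m 2) ∧ Hide (T.a 2 4 = 2 * T.w 2 ∧ T.a 4 2 = 2 * T.w 4) ∧ Hide (α24 = 2 ∧ α42 = 2)) ∧ q24 = 4)))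
    (c25 : Hide (((Hide (x25 = 0 ∧ x52 = 0) ∧ Hide (T.a 2 5 = 0 ∧ T.a 5 2 = 0) ∧ Hide (α25 = 0 ∧ α52 = 0)) ∧ q25 = 0) ∨ ((Hide (x25 = T.m 5 ∧ x52 = T.m 2) ∧ Hide (T.a 2 5 = T.w 2 ∧ T.a 5 2 = T.w 5) ∧ Hide (α25 = 1 ∧ α52 = 1)) ∧ q25 = 1) ∨ ((Hide (x25 = T.m 5 ∧ x52 = 2 * T.m 2) ∧ Hide (T.a 2 5 = T.w 2 ∧ T.a 5 2 = 2 * T.w 5) ∧ Hide (α25 = 1 ∧ α52 = 2)) ∧ q25 = 2) ∨ ((Hide (x25 = 2 * T.m 5 ∧ x52 = T.m 2) ∧ Hide (T.a 2 5 = 2 * T.w 2 ∧ T.a 5 2 = T.w 5) ∧ Hide (α25 = 2 ∧ α52 = 1)) ∧ q25 = 2) ∨ ((Hide (x25 = T.m 5 ∧ x52 = 3 * T.m 2) ∧ Hide (T.a 2 5 = T.w 2 ∧ T.a 5 2 = 3 * T.w 5) ∧ Hide (α25 = 1 ∧ α52 = 3)) ∧ q25 = 3) ∨ ((Hide (x25 = 3 * T.m 5 ∧ x52 = T.m 2) ∧ Hide (T.a 2 5 = 3 * T.w 2 ∧ T.a 5 2 = T.w 5)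 ∧ Hide (α25 = 3 ∧ α52 = 1)) ∧ q25 = 3) ∨ ((Hide (x25 = T.m 5 ∧ x52 = 4 * T.m 2) ∧ Hide (T.a 2 5 = T.w 2 ∧ T.a 5 2 = 4 * T.w 5) ∧ Hide (α25 = 1 ∧ α52 = 4)) ∧ q25 = 4) ∨ ((Hide (x25 = 4 * T.m 5 ∧ x52 = T.m 2) ∧ Hide (T.a 2 5 = 4 * T.w 2 ∧ T.a 5 2 = T.w 5) ∧ Hide (α25 = 4 ∧ α52 = 1)) ∧ q25 = 4) ∨ ((Hide (x25 = 2 * T.m 5 ∧ x52 = 2 * T.m 2) ∧ Hide (T.a 2 5 = 2 * T.w 2 ∧ T.a 5 2 = 2 * T.w 5) ∧ Hide (α25 = 2 ∧ α52 = 2)) ∧ q25 = 4)))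
    (c26 : Hide (((Hide (x26 = 0 ∧ x62 = 0) ∧ Hide (T.a 2 6 = 0 ∧ T.a 6 2 = 0) ∧ Hide (α26 = 0 ∧ α62 = 0)) ∧ q26 = 0) ∨ ((Hide (x26 = T.m 6 ∧ x62 = T.m 2) ∧ Hide (T.a 2 6 = T.w 2 ∧ T.a 6 2 = T.w 6) ∧ Hide (α26 = 1 ∧ α62 = 1)) ∧ q26 = 1) ∨ ((Hide (x26 = T.m 6 ∧ x62 = 2 * T.m 2) ∧ Hide (T.a 2 6 = T.w 2 ∧ T.a 6 2 = 2 * T.w 6) ∧ Hide (α26 = 1 ∧ α62 = 2)) ∧ q26 = 2) ∨ ((Hide (x26 = 2 * T.m 6 ∧ x62 = T.m 2) ∧ Hide (T.a 2 6 = 2 * T.w 2 ∧ T.a 6 2 = T.w 6) ∧ Hide (α26 = 2 ∧ α62 = 1)) ∧ q26 = 2) ∨ ((Hide (x26 = T.m 6 ∧ x62 = 3 * T.m 2) ∧ Hide (T.a 2 6 = T.w 2 ∧ T.a 6 2 = 3 * T.w 6) ∧ Hide (α26 = 1 ∧ α62 = 3)) ∧ q26 = 3) ∨ ((Hide (x26 = 3 * T.m 6 ∧ x62 = T.m 2) ∧ Hide (T.a 2 6 = 3 * T.w 2 ∧ T.a 6 2 = T.w 6)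 ∧ Hide (α26 = 3 ∧ α62 = 1)) ∧ q26 = 3) ∨ ((Hide (x26 = T.m 6 ∧ x62 = 4 * T.m 2) ∧ Hide (T.a 2 6 = T.w 2 ∧ T.a 6 2 = 4 * T.w 6) ∧ Hide (α26 = 1 ∧ α62 = 4)) ∧ q26 = 4) ∨ ((Hide (x26 = 4 * T.m 6 ∧ x62 = T.m 2) ∧ Hide (T.a 2 6 = 4 * T.w 2 ∧ T.a 6 2 = T.w 6) ∧ Hide (α26 = 4 ∧ α62 = 1)) ∧ q26 = 4) ∨ ((Hide (x26 = 2 * T.m 6 ∧ x62 = 2 * T.m 2) ∧ Hide (T.a 2 6 = 2 * T.w 2 ∧ T.a 6 2 = 2 * T.w 6) ∧ Hide (α26 = 2 ∧ α62 = 2)) ∧ q26 = 4)))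
    (c27 : Hide (((Hide (x27 = 0 ∧ x72 = 0) ∧ Hide (T.a 2 7 = 0 ∧ T.a 7 2 = 0) ∧ Hide (α27 = 0 ∧ α72 = 0)) ∧ q27 = 0) ∨ ((Hide (x27 = T.m 7 ∧ x72 = T.m 2) ∧ Hide (T.a 2 7 = T.w 2 ∧ T.a 7 2 = T.w 7) ∧ Hide (α27 = 1 ∧ α72 = 1)) ∧ q27 = 1) ∨ ((Hide (x27 = T.m 7 ∧ x72 = 2 * T.m 2) ∧ Hide (T.a 2 7 = T.w 2 ∧ T.a 7 2 = 2 * T.w 7) ∧ Hide (α27 = 1 ∧ α72 = 2)) ∧ q27 = 2) ∨ ((Hide (x27 = 2 * T.m 7 ∧ x72 = T.m 2) ∧ Hide (T.a 2 7 = 2 * T.w 2 ∧ T.a 7 2 = T.w 7) ∧ Hide (α27 = 2 ∧ α72 = 1)) ∧ q27 = 2) ∨ ((Hide (x27 = T.m 7 ∧ x72 = 3 * T.m 2) ∧ Hide (T.a 2 7 = T.w 2 ∧ T.a 7 2 = 3 * T.w 7) ∧ Hide (α27 = 1 ∧ α72 = 3)) ∧ q27 = 3) ∨ ((Hide (x27 = 3 * T.m 7 ∧ x72 = T.m 2) ∧ Hide (T.a 2 7 = 3 * T.w 2 ∧ T.a 7 2 = T.w 7)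 ∧ Hide (α27 = 3 ∧ α72 = 1)) ∧ q27 = 3) ∨ ((Hide (x27 = T.m 7 ∧ x72 = 4 * T.m 2) ∧ Hide (T.a 2 7 = T.w 2 ∧ T.a 7 2 = 4 * T.w 7) ∧ Hide (α27 = 1 ∧ α72 = 4)) ∧ q27 = 4) ∨ ((Hide (x27 = 4 * T.m 7 ∧ x72 = T.m 2) ∧ Hide (T.a 2 7 = 4 * T.w 2 ∧ T.a 7 2 = T.w 7) ∧ Hide (α27 = 4 ∧ α72 = 1)) ∧ q27 = 4) ∨ ((Hide (x27 = 2 * T.m 7 ∧ x72 = 2 * T.m 2) ∧ Hide (T.a 2 7 = 2 * T.w 2 ∧ T.a 7 2 = 2 * T.w 7) ∧ Hide (α27 = 2 ∧ α72 = 2)) ∧ q27 = 4)))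
    (c34 : Hide (((Hide (x34 = 0 ∧ x43 = 0) ∧ Hide (T.a 3 4 = 0 ∧ T.a 4 3 = 0) ∧ Hide (α34 = 0 ∧ α43 = 0)) ∧ q34 = 0) ∨ ((Hide (x34 = T.m 4 ∧ x43 = T.m 3) ∧ Hide (T.a 3 4 = T.w 3 ∧ T.a 4 3 = T.w 4) ∧ Hide (α34 = 1 ∧ α43 = 1)) ∧ q34 = 1) ∨ ((Hide (x34 = T.m 4 ∧ x43 = 2 * T.m 3) ∧ Hide (T.a 3 4 = T.w 3 ∧ T.a 4 3 = 2 * T.w 4) ∧ Hide (α34 = 1 ∧ α43 = 2)) ∧ q34 = 2) ∨ ((Hide (x34 = 2 * T.m 4 ∧ x43 = T.m 3) ∧ Hide (T.a 3 4 = 2 * T.w 3 ∧ T.a 4 3 = T.w 4) ∧ Hide (α34 = 2 ∧ α43 = 1)) ∧ q34 = 2) ∨ ((Hide (x34 = T.m 4 ∧ x43 = 3 * T.m 3) ∧ Hide (T.a 3 4 = T.w 3 ∧ T.a 4 3 = 3 * T.w 4) ∧ Hide (α34 = 1 ∧ α43 = 3)) ∧ q34 = 3) ∨ ((Hide (x34 = 3 * T.m 4 ∧ x43 = T.m 3) ∧ Hide (T.a 3 4 = 3 * T.w 3 ∧ T.a 4 3 = T.w 4)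 ∧ Hide (α34 = 3 ∧ α43 = 1)) ∧ q34 = 3) ∨ ((Hide (x34 = T.m 4 ∧ x43 = 4 * T.m 3) ∧ Hide (T.a 3 4 = T.w 3 ∧ T.a 4 3 = 4 * T.w 4) ∧ Hide (α34 = 1 ∧ α43 = 4)) ∧ q34 = 4) ∨ ((Hide (x34 = 4 * T.m 4 ∧ x43 = T.m 3) ∧ Hide (T.a 3 4 = 4 * T.w 3 ∧ T.a 4 3 = T.w 4) ∧ Hide (α34 = 4 ∧ α43 = 1)) ∧ q34 = 4) ∨ ((Hide (x34 = 2 * T.m 4 ∧ x43 = 2 * T.m 3) ∧ Hide (T.a 3 4 = 2 * T.w 3 ∧ T.a 4 3 = 2 * T.w 4) ∧ Hide (α34 = 2 ∧ α43 = 2)) ∧ q34 = 4)))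
    (c35 : Hide (((Hide (x35 = 0 ∧ x53 = 0) ∧ Hide (T.a 3 5 = 0 ∧ T.a 5 3 = 0) ∧ Hide (α35 = 0 ∧ α53 = 0)) ∧ q35 = 0) ∨ ((Hide (x35 = T.m 5 ∧ x53 = T.m 3) ∧ Hide (T.a 3 5 = T.w 3 ∧ T.a 5 3 = T.w 5) ∧ Hide (α35 = 1 ∧ α53 = 1)) ∧ q35 = 1) ∨ ((Hide (x35 = T.m 5 ∧ x53 = 2 * T.m 3) ∧ Hide (T.a 3 5 = T.w 3 ∧ T.a 5 3 = 2 * T.w 5) ∧ Hide (α35 = 1 ∧ α53 = 2)) ∧ q35 = 2) ∨ ((Hide (x35 = 2 * T.m 5 ∧ x53 = T.m 3) ∧ Hide (T.a 3 5 = 2 * T.w 3 ∧ T.a 5 3 = T.w 5) ∧ Hide (α35 = 2 ∧ α53 = 1)) ∧ q35 = 2) ∨ ((Hide (x35 = T.m 5 ∧ x53 = 3 * T.m 3) ∧ Hide (T.a 3 5 = T.w 3 ∧ T.a 5 3 = 3 * T.w 5) ∧ Hide (α35 = 1 ∧ α53 = 3)) ∧ q35 = 3) ∨ ((Hide (x35 = 3 * T.m 5 ∧ x53 = T.m 3) ∧ Hide (T.a 3 5 = 3 * T.w 3 ∧ T.a 5 3 = T.w 5)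 ∧ Hide (α35 = 3 ∧ α53 = 1)) ∧ q35 = 3) ∨ ((Hide (x35 = T.m 5 ∧ x53 = 4 * T.m 3) ∧ Hide (T.a 3 5 = T.w 3 ∧ T.a 5 3 = 4 * T.w 5) ∧ Hide (α35 = 1 ∧ α53 = 4)) ∧ q35 = 4) ∨ ((Hide (x35 = 4 * T.m 5 ∧ x53 = T.m 3) ∧ Hide (T.a 3 5 = 4 * T.w 3 ∧ T.a 5 3 = T.w 5) ∧ Hide (α35 = 4 ∧ α53 = 1)) ∧ q35 = 4) ∨ ((Hide (x35 = 2 * T.m 5 ∧ x53 = 2 * T.m 3) ∧ Hide (T.a 3 5 = 2 * T.w 3 ∧ T.a 5 3 = 2 * T.w 5) ∧ Hide (α35 = 2 ∧ α53 = 2)) ∧ q35 = 4)))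
    (c36 : Hide (((Hide (x36 = 0 ∧ x63 = 0) ∧ Hide (T.a 3 6 = 0 ∧ T.a 6 3 = 0) ∧ Hide (α36 = 0 ∧ α63 = 0)) ∧ q36 = 0) ∨ ((Hide (x36 = T.m 6 ∧ x63 = T.m 3) ∧ Hide (T.a 3 6 = T.w 3 ∧ T.a 6 3 = T.w 6) ∧ Hide (α36 = 1 ∧ α63 = 1)) ∧ q36 = 1) ∨ ((Hide (x36 = T.m 6 ∧ x63 = 2 * T.m 3) ∧ Hide (T.a 3 6 = T.w 3 ∧ T.a 6 3 = 2 * T.w 6) ∧ Hide (α36 = 1 ∧ α63 = 2)) ∧ q36 = 2) ∨ ((Hide (x36 = 2 * T.m 6 ∧ x63 = T.m 3) ∧ Hide (T.a 3 6 = 2 * T.w 3 ∧ T.a 6 3 = T.w 6) ∧ Hide (α36 = 2 ∧ α63 = 1)) ∧ q36 = 2) ∨ ((Hide (x36 = T.m 6 ∧ x63 = 3 * T.m 3) ∧ Hide (T.a 3 6 = T.w 3 ∧ T.a 6 3 = 3 * T.w 6) ∧ Hide (α36 = 1 ∧ α63 = 3)) ∧ q36 = 3) ∨ ((Hide (x36 = 3 * T.m 6 ∧ x63 = T.m 3) ∧ Hide (T.a 3 6 = 3 * T.w 3 ∧ T.a 6 3 = T.w 6)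 ∧ Hide (α36 = 3 ∧ α63 = 1)) ∧ q36 = 3) ∨ ((Hide (x36 = T.m 6 ∧ x63 = 4 * T.m 3) ∧ Hide (T.a 3 6 = T.w 3 ∧ T.a 6 3 = 4 * T.w 6) ∧ Hide (α36 = 1 ∧ α63 = 4)) ∧ q36 = 4) ∨ ((Hide (x36 = 4 * T.m 6 ∧ x63 = T.m 3) ∧ Hide (T.a 3 6 = 4 * T.w 3 ∧ T.a 6 3 = T.w 6) ∧ Hide (α36 = 4 ∧ α63 = 1)) ∧ q36 = 4) ∨ ((Hide (x36 = 2 * T.m 6 ∧ x63 = 2 * T.m 3) ∧ Hide (T.a 3 6 = 2 * T.w 3 ∧ T.a 6 3 = 2 * T.w 6) ∧ Hide (α36 = 2 ∧ α63 = 2)) ∧ q36 = 4)))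
    (c37 : Hide (((Hide (x37 = 0 ∧ x73 = 0) ∧ Hide (T.a 3 7 = 0 ∧ T.a 7 3 = 0) ∧ Hide (α37 = 0 ∧ α73 = 0)) ∧ q37 = 0) ∨ ((Hide (x37 = T.m 7 ∧ x73 = T.m 3) ∧ Hide (T.a 3 7 = T.w 3 ∧ T.a 7 3 = T.w 7) ∧ Hide (α37 = 1 ∧ α73 = 1)) ∧ q37 = 1) ∨ ((Hide (x37 = T.m 7 ∧ x73 = 2 * T.m 3) ∧ Hide (T.a 3 7 = T.w 3 ∧ T.a 7 3 = 2 * T.w 7) ∧ Hide (α37 = 1 ∧ α73 = 2)) ∧ q37 = 2) ∨ ((Hide (x37 = 2 * T.m 7 ∧ x73 = T.m 3) ∧ Hide (T.a 3 7 = 2 * T.w 3 ∧ T.a 7 3 = T.w 7) ∧ Hide (α37 = 2 ∧ α73 = 1)) ∧ q37 = 2) ∨ ((Hide (x37 = T.m 7 ∧ x73 = 3 * T.m 3) ∧ Hide (T.a 3 7 = T.w 3 ∧ T.a 7 3 = 3 * T.w 7) ∧ Hide (α37 = 1 ∧ α73 = 3)) ∧ q37 = 3) ∨ ((Hide (x37 = 3 * T.m 7 ∧ x73 = T.m 3) ∧ Hide (T.a 3 7 = 3 * T.w 3 ∧ T.a 7 3 = T.w 7)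 ∧ Hide (α37 = 3 ∧ α73 = 1)) ∧ q37 = 3) ∨ ((Hide (x37 = T.m 7 ∧ x73 = 4 * T.m 3) ∧ Hide (T.a 3 7 = T.w 3 ∧ T.a 7 3 = 4 * T.w 7) ∧ Hide (α37 = 1 ∧ α73 = 4)) ∧ q37 = 4) ∨ ((Hide (x37 = 4 * T.m 7 ∧ x73 = T.m 3) ∧ Hide (T.a 3 7 = 4 * T.w 3 ∧ T.a 7 3 = T.w 7) ∧ Hide (α37 = 4 ∧ α73 = 1)) ∧ q37 = 4) ∨ ((Hide (x37 = 2 * T.m 7 ∧ x73 = 2 * T.m 3) ∧ Hide (T.a 3 7 = 2 * T.w 3 ∧ T.a 7 3 = 2 * T.w 7) ∧ Hide (α37 = 2 ∧ α73 = 2)) ∧ q37 = 4)))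
    (c45 : Hide (((Hide (x45 = 0 ∧ x54 = 0) ∧ Hide (T.a 4 5 = 0 ∧ T.a 5 4 = 0) ∧ Hide (α45 = 0 ∧ α54 = 0)) ∧ q45 = 0) ∨ ((Hide (x45 = T.m 5 ∧ x54 = T.m 4) ∧ Hide (T.a 4 5 = T.w 4 ∧ T.a 5 4 = T.w 5) ∧ Hide (α45 = 1 ∧ α54 = 1)) ∧ q45 = 1) ∨ ((Hide (x45 = T.m 5 ∧ x54 = 2 * T.m 4) ∧ Hide (T.a 4 5 = T.w 4 ∧ T.a 5 4 = 2 * T.w 5) ∧ Hide (α45 = 1 ∧ α54 = 2)) ∧ q45 = 2) ∨ ((Hide (x45 = 2 * T.m 5 ∧ x54 = T.m 4) ∧ Hide (T.a 4 5 = 2 * T.w 4 ∧ T.a 5 4 = T.w 5) ∧ Hide (α45 = 2 ∧ α54 = 1)) ∧ q45 = 2) ∨ ((Hide (x45 = T.m 5 ∧ x54 = 3 * T.m 4) ∧ Hide (T.a 4 5 = T.w 4 ∧ T.a 5 4 = 3 * T.w 5) ∧ Hide (α45 = 1 ∧ α54 = 3)) ∧ q45 = 3) ∨ ((Hide (x45 = 3 * T.m 5 ∧ x54 = T.m 4) ∧ Hide (T.a 4 5 = 3 * T.w 4 ∧ T.a 5 4 = T.w 5)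 ∧ Hide (α45 = 3 ∧ α54 = 1)) ∧ q45 = 3) ∨ ((Hide (x45 = T.m 5 ∧ x54 = 4 * T.m 4) ∧ Hide (T.a 4 5 = T.w 4 ∧ T.a 5 4 = 4 * T.w 5) ∧ Hide (α45 = 1 ∧ α54 = 4)) ∧ q45 = 4) ∨ ((Hide (x45 = 4 * T.m 5 ∧ x54 = T.m 4) ∧ Hide (T.a 4 5 = 4 * T.w 4 ∧ T.a 5 4 = T.w 5) ∧ Hide (α45 = 4 ∧ α54 = 1)) ∧ q45 = 4) ∨ ((Hide (x45 = 2 * T.m 5 ∧ x54 = 2 * T.m 4) ∧ Hide (T.a 4 5 = 2 * T.w 4 ∧ T.a 5 4 = 2 * T.w 5) ∧ Hide (α45 = 2 ∧ α54 = 2)) ∧ q45 = 4)))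
    (c46 : Hide (((Hide (x46 = 0 ∧ x64 = 0) ∧ Hide (T.a 4 6 = 0 ∧ T.a 6 4 = 0) ∧ Hide (α46 = 0 ∧ α64 = 0)) ∧ q46 = 0) ∨ ((Hide (x46 = T.m 6 ∧ x64 = T.m 4) ∧ Hide (T.a 4 6 = T.w 4 ∧ T.a 6 4 = T.w 6) ∧ Hide (α46 = 1 ∧ α64 = 1)) ∧ q46 = 1) ∨ ((Hide (x46 = T.m 6 ∧ x64 = 2 * T.m 4) ∧ Hide (T.a 4 6 = T.w 4 ∧ T.a 6 4 = 2 * T.w 6) ∧ Hide (α46 = 1 ∧ α64 = 2)) ∧ q46 = 2) ∨ ((Hide (x46 = 2 * T.m 6 ∧ x64 = T.m 4) ∧ Hide (T.a 4 6 = 2 * T.w 4 ∧ T.a 6 4 = T.w 6) ∧ Hide (α46 = 2 ∧ α64 = 1)) ∧ q46 = 2) ∨ ((Hide (x46 = T.m 6 ∧ x64 = 3 * T.m 4) ∧ Hide (T.a 4 6 = T.w 4 ∧ T.a 6 4 = 3 * T.w 6) ∧ Hide (α46 = 1 ∧ α64 = 3)) ∧ q46 = 3) ∨ ((Hide (x46 = 3 * T.m 6 ∧ x64 = T.m 4) ∧ Hide (T.a 4 6 = 3 * T.w 4 ∧ T.a 6 4 = T.w 6)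 ∧ Hide (α46 = 3 ∧ α64 = 1)) ∧ q46 = 3) ∨ ((Hide (x46 = T.m 6 ∧ x64 = 4 * T.m 4) ∧ Hide (T.a 4 6 = T.w 4 ∧ T.a 6 4 = 4 * T.w 6) ∧ Hide (α46 = 1 ∧ α64 = 4)) ∧ q46 = 4) ∨ ((Hide (x46 = 4 * T.m 6 ∧ x64 = T.m 4) ∧ Hide (T.a 4 6 = 4 * T.w 4 ∧ T.a 6 4 = T.w 6) ∧ Hide (α46 = 4 ∧ α64 = 1)) ∧ q46 = 4) ∨ ((Hide (x46 = 2 * T.m 6 ∧ x64 = 2 * T.m 4) ∧ Hide (T.a 4 6 = 2 * T.w 4 ∧ T.a 6 4 = 2 * T.w 6) ∧ Hide (α46 = 2 ∧ α64 = 2)) ∧ q46 = 4)))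
    (c47 : Hide (((Hide (x47 = 0 ∧ x74 = 0) ∧ Hide (T.a 4 7 = 0 ∧ T.a 7 4 = 0) ∧ Hide (α47 = 0 ∧ α74 = 0)) ∧ q47 = 0) ∨ ((Hide (x47 = T.m 7 ∧ x74 = T.m 4) ∧ Hide (T.a 4 7 = T.w 4 ∧ T.a 7 4 = T.w 7) ∧ Hide (α47 = 1 ∧ α74 = 1)) ∧ q47 = 1) ∨ ((Hide (x47 = T.m 7 ∧ x74 = 2 * T.m 4) ∧ Hide (T.a 4 7 = T.w 4 ∧ T.a 7 4 = 2 * T.w 7) ∧ Hide (α47 = 1 ∧ α74 = 2)) ∧ q47 = 2) ∨ ((Hide (x47 = 2 * T.m 7 ∧ x74 = T.m 4) ∧ Hide (T.a 4 7 = 2 * T.w 4 ∧ T.a 7 4 = T.w 7) ∧ Hide (α47 = 2 ∧ α74 = 1)) ∧ q47 = 2) ∨ ((Hide (x47 = T.m 7 ∧ x74 = 3 * T.m 4) ∧ Hide (T.a 4 7 = T.w 4 ∧ T.a 7 4 = 3 * T.w 7) ∧ Hide (α47 = 1 ∧ α74 = 3)) ∧ q47 = 3) ∨ ((Hide (x47 = 3 * T.m 7 ∧ x74 = T.m 4) ∧ Hide (T.a 4 7 = 3 * T.w 4 ∧ T.a 7 4 = T.w 7)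 ∧ Hide (α47 = 3 ∧ α74 = 1)) ∧ q47 = 3) ∨ ((Hide (x47 = T.m 7 ∧ x74 = 4 * T.m 4) ∧ Hide (T.a 4 7 = T.w 4 ∧ T.a 7 4 = 4 * T.w 7) ∧ Hide (α47 = 1 ∧ α74 = 4)) ∧ q47 = 4) ∨ ((Hide (x47 = 4 * T.m 7 ∧ x74 = T.m 4) ∧ Hide (T.a 4 7 = 4 * T.w 4 ∧ T.a 7 4 = T.w 7) ∧ Hide (α47 = 4 ∧ α74 = 1)) ∧ q47 = 4) ∨ ((Hide (x47 = 2 * T.m 7 ∧ x74 = 2 * T.m 4) ∧ Hide (T.a 4 7 = 2 * T.w 4 ∧ T.a 7 4 = 2 * T.w 7) ∧ Hide (α47 = 2 ∧ α74 = 2)) ∧ q47 = 4)))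
    (c56 : Hide (((Hide (x56 = 0 ∧ x65 = 0) ∧ Hide (T.a 5 6 = 0 ∧ T.a 6 5 = 0) ∧ Hide (α56 = 0 ∧ α65 = 0)) ∧ q56 = 0) ∨ ((Hide (x56 = T.m 6 ∧ x65 = T.m 5) ∧ Hide (T.a 5 6 = T.w 5 ∧ T.a 6 5 = T.w 6) ∧ Hide (α56 = 1 ∧ α65 = 1)) ∧ q56 = 1) ∨ ((Hide (x56 = T.m 6 ∧ x65 = 2 * T.m 5) ∧ Hide (T.a 5 6 = T.w 5 ∧ T.a 6 5 = 2 * T.w 6) ∧ Hide (α56 = 1 ∧ α65 = 2)) ∧ q56 = 2) ∨ ((Hide (x56 = 2 * T.m 6 ∧ x65 = T.m 5) ∧ Hide (T.a 5 6 = 2 * T.w 5 ∧ T.a 6 5 = T.w 6) ∧ Hide (α56 = 2 ∧ α65 = 1)) ∧ q56 = 2) ∨ ((Hide (x56 = T.m 6 ∧ x65 = 3 * T.m 5) ∧ Hide (T.a 5 6 = T.w 5 ∧ T.a 6 5 = 3 * T.w 6) ∧ Hide (α56 = 1 ∧ α65 = 3)) ∧ q56 = 3) ∨ ((Hide (x56 = 3 * T.m 6 ∧ x65 = T.m 5) ∧ Hide (T.a 5 6 = 3 * T.w 5 ∧ T.a 6 5 = T.w 6)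 ∧ Hide (α56 = 3 ∧ α65 = 1)) ∧ q56 = 3) ∨ ((Hide (x56 = T.m 6 ∧ x65 = 4 * T.m 5) ∧ Hide (T.a 5 6 = T.w 5 ∧ T.a 6 5 = 4 * T.w 6) ∧ Hide (α56 = 1 ∧ α65 = 4)) ∧ q56 = 4) ∨ ((Hide (x56 = 4 * T.m 6 ∧ x65 = T.m 5) ∧ Hide (T.a 5 6 = 4 * T.w 5 ∧ T.a 6 5 = T.w 6) ∧ Hide (α56 = 4 ∧ α65 = 1)) ∧ q56 = 4) ∨ ((Hide (x56 = 2 * T.m 6 ∧ x65 = 2 * T.m 5) ∧ Hide (T.a 5 6 = 2 * T.w 5 ∧ T.a 6 5 = 2 * T.w 6) ∧ Hide (α56 = 2 ∧ α65 = 2)) ∧ q56 = 4)))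
    (c57 : Hide (((Hide (x57 = 0 ∧ x75 = 0) ∧ Hide (T.a 5 7 = 0 ∧ T.a 7 5 = 0) ∧ Hide (α57 = 0 ∧ α75 = 0)) ∧ q57 = 0) ∨ ((Hide (x57 = T.m 7 ∧ x75 = T.m 5) ∧ Hide (T.a 5 7 = T.w 5 ∧ T.a 7 5 = T.w 7) ∧ Hide (α57 = 1 ∧ α75 = 1)) ∧ q57 = 1) ∨ ((Hide (x57 = T.m 7 ∧ x75 = 2 * T.m 5) ∧ Hide (T.a 5 7 = T.w 5 ∧ T.a 7 5 = 2 * T.w 7) ∧ Hide (α57 = 1 ∧ α75 = 2)) ∧ q57 = 2) ∨ ((Hide (x57 = 2 * T.m 7 ∧ x75 = T.m 5) ∧ Hide (T.a 5 7 = 2 * T.w 5 ∧ T.a 7 5 = T.w 7) ∧ Hide (α57 = 2 ∧ α75 = 1)) ∧ q57 = 2) ∨ ((Hide (x57 = T.m 7 ∧ x75 = 3 * T.m 5) ∧ Hide (T.a 5 7 = T.w 5 ∧ T.a 7 5 = 3 * T.w 7) ∧ Hide (α57 = 1 ∧ α75 = 3)) ∧ q57 = 3) ∨ ((Hide (x57 = 3 * T.m 7 ∧ x75 = T.m 5) ∧ Hide (T.a 5 7 = 3 * T.w 5 ∧ T.a 7 5 = T.w 7)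 ∧ Hide (α57 = 3 ∧ α75 = 1)) ∧ q57 = 3) ∨ ((Hide (x57 = T.m 7 ∧ x75 = 4 * T.m 5) ∧ Hide (T.a 5 7 = T.w 5 ∧ T.a 7 5 = 4 * T.w 7) ∧ Hide (α57 = 1 ∧ α75 = 4)) ∧ q57 = 4) ∨ ((Hide (x57 = 4 * T.m 7 ∧ x75 = T.m 5) ∧ Hide (T.a 5 7 = 4 * T.w 5 ∧ T.a 7 5 = T.w 7) ∧ Hide (α57 = 4 ∧ α75 = 1)) ∧ q57 = 4) ∨ ((Hide (x57 = 2 * T.m 7 ∧ x75 = 2 * T.m 5) ∧ Hide (T.a 5 7 = 2 * T.w 5 ∧ T.a 7 5 = 2 * T.w 7) ∧ Hide (α57 = 2 ∧ α75 = 2)) ∧ q57 = 4)))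
    (c67 : Hide (((Hide (x67 = 0 ∧ x76 = 0) ∧ Hide (T.a 6 7 = 0 ∧ T.a 7 6 = 0) ∧ Hide (α67 = 0 ∧ α76 = 0)) ∧ q67 = 0) ∨ ((Hide (x67 = T.m 7 ∧ x76 = T.m 6) ∧ Hide (T.a 6 7 = T.w 6 ∧ T.a 7 6 = T.w 7) ∧ Hide (α67 = 1 ∧ α76 = 1)) ∧ q67 = 1) ∨ ((Hide (x67 = T.m 7 ∧ x76 = 2 * T.m 6) ∧ Hide (T.a 6 7 = T.w 6 ∧ T.a 7 6 = 2 * T.w 7) ∧ Hide (α67 = 1 ∧ α76 = 2)) ∧ q67 = 2) ∨ ((Hide (x67 = 2 * T.m 7 ∧ x76 = T.m 6) ∧ Hide (T.a 6 7 = 2 * T.w 6 ∧ T.a 7 6 = T.w 7) ∧ Hide (α67 = 2 ∧ α76 = 1)) ∧ q67 = 2) ∨ ((Hide (x67 = T.m 7 ∧ x76 = 3 * T.m 6) ∧ Hide (T.a 6 7 = T.w 6 ∧ T.a 7 6 = 3 * T.w 7) ∧ Hide (α67 = 1 ∧ α76 = 3)) ∧ q67 = 3) ∨ ((Hide (x67 = 3 * T.m 7 ∧ x76 = T.m 6) ∧ Hide (T.a 6 7 = 3 * T.w 6 ∧ T.a 7 6 = T.w 7)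 ∧ Hide (α67 = 3 ∧ α76 = 1)) ∧ q67 = 3) ∨ ((Hide (x67 = T.m 7 ∧ x76 = 4 * T.m 6) ∧ Hide (T.a 6 7 = T.w 6 ∧ T.a 7 6 = 4 * T.w 7) ∧ Hide (α67 = 1 ∧ α76 = 4)) ∧ q67 = 4) ∨ ((Hide (x67 = 4 * T.m 7 ∧ x76 = T.m 6) ∧ Hide (T.a 6 7 = 4 * T.w 6 ∧ T.a 7 6 = T.w 7) ∧ Hide (α67 = 4 ∧ α76 = 1)) ∧ q67 = 4) ∨ ((Hide (x67 = 2 * T.m 7 ∧ x76 = 2 * T.m 6) ∧ Hide (T.a 6 7 = 2 * T.w 6 ∧ T.a 7 6 = 2 * T.w 7) ∧ Hide (α67 = 2 ∧ α76 = 2)) ∧ q67 = 4)))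
    (gw01 : Hide (T.a 0 1 = T.w 0 ∧ T.a 1 0 = T.w 1))
    (gw02 : Hide (T.a 0 2 = 0 ∧ T.a 2 0 = 0))
    (gw03 : Hide (T.a 0 3 = 0 ∧ T.a 3 0 = 0))
    (gw04 : Hide (T.a 0 4 = 0 ∧ T.a 4 0 = 0))
    (gw05 : Hide (T.a 0 5 = 0 ∧ T.a 5 0 = 0))
    (gw06 : Hide (T.a 0 6 = 0 ∧ T.a 6 0 = 0))
    (gw07 : Hide (T.a 0 7 = 0 ∧ T.a 7 0 = 0))
    (gw12 : Hide (T.a 1 2 = T.w 1 ∧ T.a 2 1 = T.w 2))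
    (gw13 : Hide (T.a 1 3 = 0 ∧ T.a 3 1 = 0))
    (gw14 : Hide (T.a 1 4 = T.w 1 ∧ T.a 4 1 = 2 * T.w 4)) : Goal T := by
  have t := pc0 q15 c15.out (by have := v1.out; have := qn16.out; have := qn17.out; omega)
  clear c15
  obtain ⟨⟨⟨rfl, rfl⟩, gw15, ⟨rfl, rfl⟩⟩, rfl⟩ := t
  have t := pc0 q16 c16.out (by have := v1.out; have := qn17.out; omega)
  clear c16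
  obtain ⟨⟨⟨rfl, rfl⟩, gw16, ⟨rfl, rfl⟩⟩, rfl⟩ := t
  have t := pc0 q17 c17.out (by have := v1.out; omega)
  clear c17
  obtain ⟨⟨⟨rfl, rfl⟩, gw17, ⟨rfl, rfl⟩⟩, rfl⟩ := t
  have t := pc3 q23 c23.out (by have := v2.out; have := qn24.out; have := qn25.out; have := qn26.out; have := qn27.out; omega)
  clear c23
  rcases t with ⟨⟨⟨rfl, rfl⟩, gw23, ⟨rfl, rfl⟩⟩, rfl⟩ | ⟨⟨⟨rfl, rfl⟩, gw23, ⟨rfl, rfl⟩⟩, rfl⟩ | ⟨⟨⟨rfl, rfl⟩, gw23, ⟨rfl, rfl⟩⟩, rfl⟩ | ⟨⟨⟨rfl, rfl⟩, gw23, ⟨rfl, rfl⟩⟩, rfl⟩ | ⟨⟨⟨rfl, rfl⟩, gw23, ⟨rfl, rfl⟩⟩, rfl⟩ | ⟨⟨⟨rfl, rfl⟩, gw23, ⟨rfl, rfl⟩⟩, rfl⟩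
  · (have := od3.out; omega)
  · (have := hm3.out; have := e0.out; have := e1.out; have := e2.out; have := r24.out; have := r25.out; have := r26.out; have := r27.out; have := e4.out; have := r42.out; have := r43.out; have := r45.out; have := r46.out; have := r47.out; omega)
  · (have := hm0.out; have := e1.out; have := e2.out; have := r24.out; have := r25.out; have := r26.out; have := r27.out; have := e3.out; have := r34.out; have := r35.out; have := r36.out; have := r37.out; have := e4.out; have := r42.out; have := r43.out; have := r45.out; have := r46.out; have := r47.out; omega)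
  · (have := hm0.out; have := e1.out; have := e2.out; have := r24.out; have := r25.out; have := r26.out; have := r27.out; have := e3.out; have := r34.out; have := r35.out; have := r36.out; have := r37.out; have := e4.out; have := r42.out; have := r43.out; have := r45.out; have := r46.out; have := r47.out; omega)
  · (have := hm3.out; have := e0.out; have := e1.out; have := e2.out; have := r24.out; have := r25.out; have := r26.out; have := r27.out; have := e4.out; have := r42.out; have := r43.out; have := r45.out; have := r46.out; have := r47.out; omega)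
  · (have := hm3.out; have := e0.out; have := e1.out; have := e2.out; have := r24.out; have := r25.out; have := r26.out; have := r27.out; have := e4.out; have := r42.out; have := r43.out; have := r45.out; have := r46.out; have := r47.out; omega)

set_option maxHeartbeats 0 in
theorem part42 (T : Models.NumericalType 8) (α15 α16 α17 α23 α24 α25 α26 α27 α32 α34 α35 α36 α37 α42 α43 α45 α46 α47 α51 α52 α53 α54 α56 α57 α61 α62 α63 α64 α65 α67 α71 α72 α73 α74 α75 α76 x15 x16 x17 x23 x24 x25 x26 x27 x32 x34 x35 x36 x37 x42 x43 x45 x46 x47 x51 x52 x53 x54 x56 x57 x61 x62 x63 x64 x65 x67 x71 x72 x73 x74 x75 x76 q15 q16 q17 q23 q24 q25 q26 q27 q34 q35 q36 q37 q45 q46 q47 q56 q57 q67 : ℤ)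
    (hm0 : Hide (0 < T.m 0))
    (hm1 : Hide (0 < T.m 1))
    (hm2 : Hide (0 < T.m 2))
    (hm3 : Hide (0 < T.m 3))
    (hm4 : Hide (0 < T.m 4))
    (hm5 : Hide (0 < T.m 5))
    (hm6 : Hide (0 < T.m 6))
    (hm7 : Hide (0 < T.m 7))
    (om1 : Hide (T.m 0 ≤ T.m 1))
    (om2 : Hide (T.m 0 ≤ T.m 2))
    (om3 : Hide (T.m 0 ≤ T.m 3))
    (om4 : Hide (T.m 0 ≤ T.m 4))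
    (om5 : Hide (T.m 0 ≤ T.m 5))
    (om6 : Hide (T.m 0 ≤ T.m 6))
    (om7 : Hide (T.m 0 ≤ T.m 7))
    (e0 : Hide (T.m 1 + (0 : ℤ) + (0 : ℤ) + (0 : ℤ) + (0 : ℤ) + (0 : ℤ) + (0 : ℤ) = 2 * T.m 0))
    (e1 : Hide (T.m 0 + T.m 2 + (0 : ℤ) + 2 * T.m 4 + x15 + x16 + x17 = 2 * T.m 1))
    (e2 : Hide ((0 : ℤ) + T.m 1 + x23 + x24 + x25 + x26 + x27 = 2 * T.m 2))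
    (e3 : Hide ((0 : ℤ) + (0 : ℤ) + x32 + x34 + x35 + x36 + x37 = 2 * T.m 3))
    (e4 : Hide ((0 : ℤ) + T.m 1 + x42 + x43 + x45 + x46 + x47 = 2 * T.m 4))
    (e5 : Hide ((0 : ℤ) + x51 + x52 + x53 + x54 + x56 + x57 = 2 * T.m 5))
    (e6 : Hide ((0 : ℤ) + x61 + x62 + x63 + x64 + x65 + x67 = 2 * T.m 6))
    (e7 : Hide ((0 : ℤ) + x71 + x72 + x73 + x74 + x75 + x76 = 2 * T.m 7))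
    (r01 : Hide (0 ≤ T.m 1))
    (r02 : Hide (0 ≤ (0 : ℤ)))
    (r03 : Hide (0 ≤ (0 : ℤ)))
    (r04 : Hide (0 ≤ (0 : ℤ)))
    (r05 : Hide (0 ≤ (0 : ℤ)))
    (r06 : Hide (0 ≤ (0 : ℤ)))
    (r07 : Hide (0 ≤ (0 : ℤ)))
    (r10 : Hide (0 ≤ T.m 0))
    (r12 : Hide (0 ≤ T.m 2))
    (r13 : Hide (0 ≤ (0 : ℤ)))
    (r14 : Hide (0 ≤ 2 * T.m 4))
    (r15 : Hide (0 ≤ x15))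
    (r16 : Hide (0 ≤ x16))
    (r17 : Hide (0 ≤ x17))
    (r20 : Hide (0 ≤ (0 : ℤ)))
    (r21 : Hide (0 ≤ T.m 1))
    (r23 : Hide (0 ≤ x23))
    (r24 : Hide (0 ≤ x24))
    (r25 : Hide (0 ≤ x25))
    (r26 : Hide (0 ≤ x26))
    (r27 : Hide (0 ≤ x27))
    (r30 : Hide (0 ≤ (0 : ℤ)))
    (r31 : Hide (0 ≤ (0 : ℤ)))
    (r32 : Hide (0 ≤ x32))
    (r34 : Hide (0 ≤ x34))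
    (r35 : Hide (0 ≤ x35))
    (r36 : Hide (0 ≤ x36))
    (r37 : Hide (0 ≤ x37))
    (r40 : Hide (0 ≤ (0 : ℤ)))
    (r41 : Hide (0 ≤ T.m 1))
    (r42 : Hide (0 ≤ x42))
    (r43 : Hide (0 ≤ x43))
    (r45 : Hide (0 ≤ x45))
    (r46 : Hide (0 ≤ x46))
    (r47 : Hide (0 ≤ x47))
    (r50 : Hide (0 ≤ (0 : ℤ)))
    (r51 : Hide (0 ≤ x51))
    (r52 : Hide (0 ≤ x52))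
    (r53 : Hide (0 ≤ x53))
    (r54 : Hide (0 ≤ x54))
    (r56 : Hide (0 ≤ x56))
    (r57 : Hide (0 ≤ x57))
    (r60 : Hide (0 ≤ (0 : ℤ)))
    (r61 : Hide (0 ≤ x61))
    (r62 : Hide (0 ≤ x62))
    (r63 : Hide (0 ≤ x63))
    (r64 : Hide (0 ≤ x64))
    (r65 : Hide (0 ≤ x65))
    (r67 : Hide (0 ≤ x67))
    (r70 : Hide (0 ≤ (0 : ℤ)))
    (r71 : Hide (0 ≤ x71))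
    (r72 : Hide (0 ≤ x72))
    (r73 : Hide (0 ≤ x73))
    (r74 : Hide (0 ≤ x74))
    (r75 : Hide (0 ≤ x75))
    (r76 : Hide (0 ≤ x76))
    (hw0 : Hide (0 < T.w 0))
    (hw1 : Hide (0 < T.w 1))
    (hw2 : Hide (0 < T.w 2))
    (hw3 : Hide (0 < T.w 3))
    (hw4 : Hide (0 < T.w 4))
    (hw5 : Hide (0 < T.w 5))
    (hw6 : Hide (0 < T.w 6))
    (hw7 : Hide (0 < T.w 7))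
    (hs01 : Hide (T.a 0 1 = T.a 1 0))
    (hs02 : Hide (T.a 0 2 = T.a 2 0))
    (hs03 : Hide (T.a 0 3 = T.a 3 0))
    (hs04 : Hide (T.a 0 4 = T.a 4 0))
    (hs05 : Hide (T.a 0 5 = T.a 5 0))
    (hs06 : Hide (T.a 0 6 = T.a 6 0))
    (hs07 : Hide (T.a 0 7 = T.a 7 0))
    (hs12 : Hide (T.a 1 2 = T.a 2 1))
    (hs13 : Hide (T.a 1 3 = T.a 3 1))
    (hs14 : Hide (T.a 1 4 = T.a 4 1))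
    (hs15 : Hide (T.a 1 5 = T.a 5 1))
    (hs16 : Hide (T.a 1 6 = T.a 6 1))
    (hs17 : Hide (T.a 1 7 = T.a 7 1))
    (hs23 : Hide (T.a 2 3 = T.a 3 2))
    (hs24 : Hide (T.a 2 4 = T.a 4 2))
    (hs25 : Hide (T.a 2 5 = T.a 5 2))
    (hs26 : Hide (T.a 2 6 = T.a 6 2))
    (hs27 : Hide (T.a 2 7 = T.a 7 2))
    (hs34 : Hide (T.a 3 4 = T.a 4 3))
    (hs35 : Hide (T.a 3 5 = T.a 5 3))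
    (hs36 : Hide (T.a 3 6 = T.a 6 3))
    (hs37 : Hide (T.a 3 7 = T.a 7 3))
    (hs45 : Hide (T.a 4 5 = T.a 5 4))
    (hs46 : Hide (T.a 4 6 = T.a 6 4))
    (hs47 : Hide (T.a 4 7 = T.a 7 4))
    (hs56 : Hide (T.a 5 6 = T.a 6 5))
    (hs57 : Hide (T.a 5 7 = T.a 7 5))
    (hs67 : Hide (T.a 6 7 = T.a 7 6))
    (ha00 : Hide (T.a 0 0 = -2 * T.w 0))
    (ha11 : Hide (T.a 1 1 = -2 * T.w 1))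
    (ha22 : Hide (T.a 2 2 = -2 * T.w 2))
    (ha33 : Hide (T.a 3 3 = -2 * T.w 3))
    (ha44 : Hide (T.a 4 4 = -2 * T.w 4))
    (ha55 : Hide (T.a 5 5 = -2 * T.w 5))
    (ha66 : Hide (T.a 6 6 = -2 * T.w 6))
    (ha77 : Hide (T.a 7 7 = -2 * T.w 7))
    (v0 : Hide ((1 : ℤ) + (0 : ℤ) + (0 : ℤ) + (0 : ℤ) + (0 : ℤ) + (0 : ℤ) + (0 : ℤ) ≤ 4))
    (v1 : Hide ((1 : ℤ) + (1 : ℤ) + (0 : ℤ) + (2 : ℤ) + q15 + q16 + q17 ≤ 4))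
    (v2 : Hide ((0 : ℤ) + (1 : ℤ) + q23 + q24 + q25 + q26 + q27 ≤ 4))
    (v3 : Hide ((0 : ℤ) + (0 : ℤ) + q23 + q34 + q35 + q36 + q37 ≤ 4))
    (v4 : Hide ((0 : ℤ) + (2 : ℤ) + q24 + q34 + q45 + q46 + q47 ≤ 4))
    (v5 : Hide ((0 : ℤ) + q15 + q25 + q35 + q45 + q56 + q57 ≤ 4))
    (v6 : Hide ((0 : ℤ) + q16 + q26 + q36 + q46 + q56 + q67 ≤ 4))
    (v7 : Hide ((0 : ℤ) + q17 + q27 + q37 + q47 + q57 + q67 ≤ 4))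
    (qn01 : Hide (0 ≤ (1 : ℤ)))
    (qn02 : Hide (0 ≤ (0 : ℤ)))
    (qn03 : Hide (0 ≤ (0 : ℤ)))
    (qn04 : Hide (0 ≤ (0 : ℤ)))
    (qn05 : Hide (0 ≤ (0 : ℤ)))
    (qn06 : Hide (0 ≤ (0 : ℤ)))
    (qn07 : Hide (0 ≤ (0 : ℤ)))
    (qn12 : Hide (0 ≤ (1 : ℤ)))
    (qn13 : Hide (0 ≤ (0 : ℤ)))
    (qn14 : Hide (0 ≤ (2 : ℤ)))
    (qn15 : Hide (0 ≤ q15))
    (qn16 : Hide (0 ≤ q16))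
    (qn17 : Hide (0 ≤ q17))
    (qn23 : Hide (0 ≤ q23))
    (qn24 : Hide (0 ≤ q24))
    (qn25 : Hide (0 ≤ q25))
    (qn26 : Hide (0 ≤ q26))
    (qn27 : Hide (0 ≤ q27))
    (qn34 : Hide (0 ≤ q34))
    (qn35 : Hide (0 ≤ q35))
    (qn36 : Hide (0 ≤ q36))
    (qn37 : Hide (0 ≤ q37))
    (qn45 : Hide (0 ≤ q45))
    (qn46 : Hide (0 ≤ q46))
    (qn47 : Hide (0 ≤ q47))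
    (qn56 : Hide (0 ≤ q56))
    (qn57 : Hide (0 ≤ q57))
    (qn67 : Hide (0 ≤ q67))
    (od1 : Hide (0 < (1 : ℤ)))
    (od2 : Hide (0 < (0 : ℤ) + (1 : ℤ)))
    (od3 : Hide (0 < (0 : ℤ) + (0 : ℤ) + α23))
    (od4 : Hide (0 < (0 : ℤ) + (2 : ℤ) + α24 + α34))
    (od5 : Hide (0 < (0 : ℤ) + α15 + α25 + α35 + α45))
    (od6 : Hide (0 < (0 : ℤ) + α16 + α26 + α36 + α46 + α56))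
    (od7 : Hide (0 < (0 : ℤ) + α17 + α27 + α37 + α47 + α57 + α67))
    (c15 : Hide (((Hide (x15 = 0 ∧ x51 = 0) ∧ Hide (T.a 1 5 = 0 ∧ T.a 5 1 = 0) ∧ Hide (α15 = 0 ∧ α51 = 0)) ∧ q15 = 0) ∨ ((Hide (x15 = T.m 5 ∧ x51 = T.m 1) ∧ Hide (T.a 1 5 = T.w 1 ∧ T.a 5 1 = T.w 5) ∧ Hide (α15 = 1 ∧ α51 = 1)) ∧ q15 = 1) ∨ ((Hide (x15 = T.m 5 ∧ x51 = 2 * T.m 1) ∧ Hide (T.a 1 5 = T.w 1 ∧ T.a 5 1 = 2 * T.w 5) ∧ Hide (α15 = 1 ∧ α51 = 2)) ∧ q15 = 2) ∨ ((Hide (x15 = 2 * T.m 5 ∧ x51 = T.m 1) ∧ Hide (T.a 1 5 = 2 * T.w 1 ∧ T.a 5 1 = T.w 5) ∧ Hide (α15 = 2 ∧ α51 = 1)) ∧ q15 = 2) ∨ ((Hide (x15 = T.m 5 ∧ x51 = 3 * T.m 1) ∧ Hide (T.a 1 5 = T.w 1 ∧ T.a 5 1 = 3 * T.w 5) ∧ Hide (α15 = 1 ∧ α51 = 3)) ∧ q15 = 3) ∨ ((Hide (x15 = 3 * T.m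 5 ∧ x51 = T.m 1) ∧ Hide (T.a 1 5 = 3 * T.w 1 ∧ T.a 5 1 = T.w 5) ∧ Hide (α15 = 3 ∧ α51 = 1)) ∧ q15 = 3) ∨ ((Hide (x15 = T.m 5 ∧ x51 = 4 * T.m 1) ∧ Hide (T.a 1 5 = T.w 1 ∧ T.a 5 1 = 4 * T.w 5) ∧ Hide (α15 = 1 ∧ α51 = 4)) ∧ q15 = 4) ∨ ((Hide (x15 = 4 * T.m 5 ∧ x51 = T.m 1) ∧ Hide (T.a 1 5 = 4 * T.w 1 ∧ T.a 5 1 = T.w 5) ∧ Hide (α15 = 4 ∧ α51 = 1)) ∧ q15 = 4) ∨ ((Hide (x15 = 2 * T.m 5 ∧ x51 = 2 * T.m 1) ∧ Hide (T.a 1 5 = 2 * T.w 1 ∧ T.a 5 1 = 2 * T.w 5) ∧ Hide (α15 = 2 ∧ α51 = 2)) ∧ q15 = 4)))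
    (c16 : Hide (((Hide (x16 = 0 ∧ x61 = 0) ∧ Hide (T.a 1 6 = 0 ∧ T.a 6 1 = 0) ∧ Hide (α16 = 0 ∧ α61 = 0)) ∧ q16 = 0) ∨ ((Hide (x16 = T.m 6 ∧ x61 = T.m 1) ∧ Hide (T.a 1 6 = T.w 1 ∧ T.a 6 1 = T.w 6) ∧ Hide (α16 = 1 ∧ α61 = 1)) ∧ q16 = 1) ∨ ((Hide (x16 = T.m 6 ∧ x61 = 2 * T.m 1) ∧ Hide (T.a 1 6 = T.w 1 ∧ T.a 6 1 = 2 * T.w 6) ∧ Hide (α16 = 1 ∧ α61 = 2)) ∧ q16 = 2) ∨ ((Hide (x16 = 2 * T.m 6 ∧ x61 = T.m 1) ∧ Hide (T.a 1 6 = 2 * T.w 1 ∧ T.a 6 1 = T.w 6) ∧ Hide (α16 = 2 ∧ α61 = 1)) ∧ q16 = 2) ∨ ((Hide (x16 = T.m 6 ∧ x61 = 3 * T.m 1) ∧ Hide (T.a 1 6 = T.w 1 ∧ T.a 6 1 = 3 * T.w 6) ∧ Hide (α16 = 1 ∧ α61 = 3)) ∧ q16 = 3) ∨ ((Hide (x16 = 3 * T.m 6 ∧ x61 = T.m 1) ∧ Hide (T.a 1 6 = 3 * T.w 1 ∧ T.a 6 1 = T.w 6)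 ∧ Hide (α16 = 3 ∧ α61 = 1)) ∧ q16 = 3) ∨ ((Hide (x16 = T.m 6 ∧ x61 = 4 * T.m 1) ∧ Hide (T.a 1 6 = T.w 1 ∧ T.a 6 1 = 4 * T.w 6) ∧ Hide (α16 = 1 ∧ α61 = 4)) ∧ q16 = 4) ∨ ((Hide (x16 = 4 * T.m 6 ∧ x61 = T.m 1) ∧ Hide (T.a 1 6 = 4 * T.w 1 ∧ T.a 6 1 = T.w 6) ∧ Hide (α16 = 4 ∧ α61 = 1)) ∧ q16 = 4) ∨ ((Hide (x16 = 2 * T.m 6 ∧ x61 = 2 * T.m 1) ∧ Hide (T.a 1 6 = 2 * T.w 1 ∧ T.a 6 1 = 2 * T.w 6) ∧ Hide (α16 = 2 ∧ α61 = 2)) ∧ q16 = 4)))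
    (c17 : Hide (((Hide (x17 = 0 ∧ x71 = 0) ∧ Hide (T.a 1 7 = 0 ∧ T.a 7 1 = 0) ∧ Hide (α17 = 0 ∧ α71 = 0)) ∧ q17 = 0) ∨ ((Hide (x17 = T.m 7 ∧ x71 = T.m 1) ∧ Hide (T.a 1 7 = T.w 1 ∧ T.a 7 1 = T.w 7) ∧ Hide (α17 = 1 ∧ α71 = 1)) ∧ q17 = 1) ∨ ((Hide (x17 = T.m 7 ∧ x71 = 2 * T.m 1) ∧ Hide (T.a 1 7 = T.w 1 ∧ T.a 7 1 = 2 * T.w 7) ∧ Hide (α17 = 1 ∧ α71 = 2)) ∧ q17 = 2) ∨ ((Hide (x17 = 2 * T.m 7 ∧ x71 = T.m 1) ∧ Hide (T.a 1 7 = 2 * T.w 1 ∧ T.a 7 1 = T.w 7) ∧ Hide (α17 = 2 ∧ α71 = 1)) ∧ q17 = 2) ∨ ((Hide (x17 = T.m 7 ∧ x71 = 3 * T.m 1) ∧ Hide (T.a 1 7 = T.w 1 ∧ T.a 7 1 = 3 * T.w 7) ∧ Hide (α17 = 1 ∧ α71 = 3)) ∧ q17 = 3) ∨ ((Hide (x17 = 3 * T.m 7 ∧ x71 = T.m 1) ∧ Hide (T.a 1 7 = 3 * T.w 1 ∧ T.a 7 1 = T.w 7)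 ∧ Hide (α17 = 3 ∧ α71 = 1)) ∧ q17 = 3) ∨ ((Hide (x17 = T.m 7 ∧ x71 = 4 * T.m 1) ∧ Hide (T.a 1 7 = T.w 1 ∧ T.a 7 1 = 4 * T.w 7) ∧ Hide (α17 = 1 ∧ α71 = 4)) ∧ q17 = 4) ∨ ((Hide (x17 = 4 * T.m 7 ∧ x71 = T.m 1) ∧ Hide (T.a 1 7 = 4 * T.w 1 ∧ T.a 7 1 = T.w 7) ∧ Hide (α17 = 4 ∧ α71 = 1)) ∧ q17 = 4) ∨ ((Hide (x17 = 2 * T.m 7 ∧ x71 = 2 * T.m 1) ∧ Hide (T.a 1 7 = 2 * T.w 1 ∧ T.a 7 1 = 2 * T.w 7) ∧ Hide (α17 = 2 ∧ α71 = 2)) ∧ q17 = 4)))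
    (c23 : Hide (((Hide (x23 = 0 ∧ x32 = 0) ∧ Hide (T.a 2 3 = 0 ∧ T.a 3 2 = 0) ∧ Hide (α23 = 0 ∧ α32 = 0)) ∧ q23 = 0) ∨ ((Hide (x23 = T.m 3 ∧ x32 = T.m 2) ∧ Hide (T.a 2 3 = T.w 2 ∧ T.a 3 2 = T.w 3) ∧ Hide (α23 = 1 ∧ α32 = 1)) ∧ q23 = 1) ∨ ((Hide (x23 = T.m 3 ∧ x32 = 2 * T.m 2) ∧ Hide (T.a 2 3 = T.w 2 ∧ T.a 3 2 = 2 * T.w 3) ∧ Hide (α23 = 1 ∧ α32 = 2)) ∧ q23 = 2) ∨ ((Hide (x23 = 2 * T.m 3 ∧ x32 = T.m 2) ∧ Hide (T.a 2 3 = 2 * T.w 2 ∧ T.a 3 2 = T.w 3) ∧ Hide (α23 = 2 ∧ α32 = 1)) ∧ q23 = 2) ∨ ((Hide (x23 = T.m 3 ∧ x32 = 3 * T.m 2) ∧ Hide (T.a 2 3 = T.w 2 ∧ T.a 3 2 = 3 * T.w 3) ∧ Hide (α23 = 1 ∧ α32 = 3)) ∧ q23 = 3) ∨ ((Hide (x23 = 3 * T.m 3 ∧ x32 = T.m 2) ∧ Hide (T.a 2 3 = 3 * T.w 2 ∧ T.a 3 2 = T.w 3)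 ∧ Hide (α23 = 3 ∧ α32 = 1)) ∧ q23 = 3) ∨ ((Hide (x23 = T.m 3 ∧ x32 = 4 * T.m 2) ∧ Hide (T.a 2 3 = T.w 2 ∧ T.a 3 2 = 4 * T.w 3) ∧ Hide (α23 = 1 ∧ α32 = 4)) ∧ q23 = 4) ∨ ((Hide (x23 = 4 * T.m 3 ∧ x32 = T.m 2) ∧ Hide (T.a 2 3 = 4 * T.w 2 ∧ T.a 3 2 = T.w 3) ∧ Hide (α23 = 4 ∧ α32 = 1)) ∧ q23 = 4) ∨ ((Hide (x23 = 2 * T.m 3 ∧ x32 = 2 * T.m 2) ∧ Hide (T.a 2 3 = 2 * T.w 2 ∧ T.a 3 2 = 2 * T.w 3) ∧ Hide (α23 = 2 ∧ α32 = 2)) ∧ q23 = 4)))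
    (c24 : Hide (((Hide (x24 = 0 ∧ x42 = 0) ∧ Hide (T.a 2 4 = 0 ∧ T.a 4 2 = 0) ∧ Hide (α24 = 0 ∧ α42 = 0)) ∧ q24 = 0) ∨ ((Hide (x24 = T.m 4 ∧ x42 = T.m 2) ∧ Hide (T.a 2 4 = T.w 2 ∧ T.a 4 2 = T.w 4) ∧ Hide (α24 = 1 ∧ α42 = 1)) ∧ q24 = 1) ∨ ((Hide (x24 = T.m 4 ∧ x42 = 2 * T.m 2) ∧ Hide (T.a 2 4 = T.w 2 ∧ T.a 4 2 = 2 * T.w 4) ∧ Hide (α24 = 1 ∧ α42 = 2)) ∧ q24 = 2) ∨ ((Hide (x24 = 2 * T.m 4 ∧ x42 = T.m 2) ∧ Hide (T.a 2 4 = 2 * T.w 2 ∧ T.a 4 2 = T.w 4) ∧ Hide (α24 = 2 ∧ α42 = 1)) ∧ q24 = 2) ∨ ((Hide (x24 = T.m 4 ∧ x42 = 3 * T.m 2) ∧ Hide (T.a 2 4 = T.w 2 ∧ T.a 4 2 = 3 * T.w 4) ∧ Hide (α24 = 1 ∧ α42 = 3)) ∧ q24 = 3) ∨ ((Hide (x24 = 3 * T.m 4 ∧ x42 = T.m 2) ∧ Hide (T.a 2 4 = 3 * T.w 2 ∧ T.a 4 2 = T.w 4)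 ∧ Hide (α24 = 3 ∧ α42 = 1)) ∧ q24 = 3) ∨ ((Hide (x24 = T.m 4 ∧ x42 = 4 * T.m 2) ∧ Hide (T.a 2 4 = T.w 2 ∧ T.a 4 2 = 4 * T.w 4) ∧ Hide (α24 = 1 ∧ α42 = 4)) ∧ q24 = 4) ∨ ((Hide (x24 = 4 * T.m 4 ∧ x42 = T.m 2) ∧ Hide (T.a 2 4 = 4 * T.w 2 ∧ T.a 4 2 = T.w 4) ∧ Hide (α24 = 4 ∧ α42 = 1)) ∧ q24 = 4) ∨ ((Hide (x24 = 2 * T.m 4 ∧ x42 = 2 * T.m 2) ∧ Hide (T.a 2 4 = 2 * T.w 2 ∧ T.a 4 2 = 2 * T.w 4) ∧ Hide (α24 = 2 ∧ α42 = 2)) ∧ q24 = 4)))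
    (c25 : Hide (((Hide (x25 = 0 ∧ x52 = 0) ∧ Hide (T.a 2 5 = 0 ∧ T.a 5 2 = 0) ∧ Hide (α25 = 0 ∧ α52 = 0)) ∧ q25 = 0) ∨ ((Hide (x25 = T.m 5 ∧ x52 = T.m 2) ∧ Hide (T.a 2 5 = T.w 2 ∧ T.a 5 2 = T.w 5) ∧ Hide (α25 = 1 ∧ α52 = 1)) ∧ q25 = 1) ∨ ((Hide (x25 = T.m 5 ∧ x52 = 2 * T.m 2) ∧ Hide (T.a 2 5 = T.w 2 ∧ T.a 5 2 = 2 * T.w 5) ∧ Hide (α25 = 1 ∧ α52 = 2)) ∧ q25 = 2) ∨ ((Hide (x25 = 2 * T.m 5 ∧ x52 = T.m 2) ∧ Hide (T.a 2 5 = 2 * T.w 2 ∧ T.a 5 2 = T.w 5) ∧ Hide (α25 = 2 ∧ α52 = 1)) ∧ q25 = 2) ∨ ((Hide (x25 = T.m 5 ∧ x52 = 3 * T.m 2) ∧ Hide (T.a 2 5 = T.w 2 ∧ T.a 5 2 = 3 * T.w 5) ∧ Hide (α25 = 1 ∧ α52 = 3)) ∧ q25 = 3) ∨ ((Hide (x25 = 3 * T.m 5 ∧ x52 = T.m 2) ∧ Hide (T.a 2 5 = 3 * T.w 2 ∧ T.a 5 2 = T.w 5)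 ∧ Hide (α25 = 3 ∧ α52 = 1)) ∧ q25 = 3) ∨ ((Hide (x25 = T.m 5 ∧ x52 = 4 * T.m 2) ∧ Hide (T.a 2 5 = T.w 2 ∧ T.a 5 2 = 4 * T.w 5) ∧ Hide (α25 = 1 ∧ α52 = 4)) ∧ q25 = 4) ∨ ((Hide (x25 = 4 * T.m 5 ∧ x52 = T.m 2) ∧ Hide (T.a 2 5 = 4 * T.w 2 ∧ T.a 5 2 = T.w 5) ∧ Hide (α25 = 4 ∧ α52 = 1)) ∧ q25 = 4) ∨ ((Hide (x25 = 2 * T.m 5 ∧ x52 = 2 * T.m 2) ∧ Hide (T.a 2 5 = 2 * T.w 2 ∧ T.a 5 2 = 2 * T.w 5) ∧ Hide (α25 = 2 ∧ α52 = 2)) ∧ q25 = 4)))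
    (c26 : Hide (((Hide (x26 = 0 ∧ x62 = 0) ∧ Hide (T.a 2 6 = 0 ∧ T.a 6 2 = 0) ∧ Hide (α26 = 0 ∧ α62 = 0)) ∧ q26 = 0) ∨ ((Hide (x26 = T.m 6 ∧ x62 = T.m 2) ∧ Hide (T.a 2 6 = T.w 2 ∧ T.a 6 2 = T.w 6) ∧ Hide (α26 = 1 ∧ α62 = 1)) ∧ q26 = 1) ∨ ((Hide (x26 = T.m 6 ∧ x62 = 2 * T.m 2) ∧ Hide (T.a 2 6 = T.w 2 ∧ T.a 6 2 = 2 * T.w 6) ∧ Hide (α26 = 1 ∧ α62 = 2)) ∧ q26 = 2) ∨ ((Hide (x26 = 2 * T.m 6 ∧ x62 = T.m 2) ∧ Hide (T.a 2 6 = 2 * T.w 2 ∧ T.a 6 2 = T.w 6) ∧ Hide (α26 = 2 ∧ α62 = 1)) ∧ q26 = 2) ∨ ((Hide (x26 = T.m 6 ∧ x62 = 3 * T.m 2) ∧ Hide (T.a 2 6 = T.w 2 ∧ T.a 6 2 = 3 * T.w 6) ∧ Hide (α26 = 1 ∧ α62 = 3)) ∧ q26 = 3) ∨ ((Hide (x26 = 3 * T.m 6 ∧ x62 = T.m 2) ∧ Hide (T.a 2 6 = 3 * T.w 2 ∧ T.a 6 2 = T.w 6)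 ∧ Hide (α26 = 3 ∧ α62 = 1)) ∧ q26 = 3) ∨ ((Hide (x26 = T.m 6 ∧ x62 = 4 * T.m 2) ∧ Hide (T.a 2 6 = T.w 2 ∧ T.a 6 2 = 4 * T.w 6) ∧ Hide (α26 = 1 ∧ α62 = 4)) ∧ q26 = 4) ∨ ((Hide (x26 = 4 * T.m 6 ∧ x62 = T.m 2) ∧ Hide (T.a 2 6 = 4 * T.w 2 ∧ T.a 6 2 = T.w 6) ∧ Hide (α26 = 4 ∧ α62 = 1)) ∧ q26 = 4) ∨ ((Hide (x26 = 2 * T.m 6 ∧ x62 = 2 * T.m 2) ∧ Hide (T.a 2 6 = 2 * T.w 2 ∧ T.a 6 2 = 2 * T.w 6) ∧ Hide (α26 = 2 ∧ α62 = 2)) ∧ q26 = 4)))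
    (c27 : Hide (((Hide (x27 = 0 ∧ x72 = 0) ∧ Hide (T.a 2 7 = 0 ∧ T.a 7 2 = 0) ∧ Hide (α27 = 0 ∧ α72 = 0)) ∧ q27 = 0) ∨ ((Hide (x27 = T.m 7 ∧ x72 = T.m 2) ∧ Hide (T.a 2 7 = T.w 2 ∧ T.a 7 2 = T.w 7) ∧ Hide (α27 = 1 ∧ α72 = 1)) ∧ q27 = 1) ∨ ((Hide (x27 = T.m 7 ∧ x72 = 2 * T.m 2) ∧ Hide (T.a 2 7 = T.w 2 ∧ T.a 7 2 = 2 * T.w 7) ∧ Hide (α27 = 1 ∧ α72 = 2)) ∧ q27 = 2) ∨ ((Hide (x27 = 2 * T.m 7 ∧ x72 = T.m 2) ∧ Hide (T.a 2 7 = 2 * T.w 2 ∧ T.a 7 2 = T.w 7) ∧ Hide (α27 = 2 ∧ α72 = 1)) ∧ q27 = 2) ∨ ((Hide (x27 = T.m 7 ∧ x72 = 3 * T.m 2) ∧ Hide (T.a 2 7 = T.w 2 ∧ T.a 7 2 = 3 * T.w 7) ∧ Hide (α27 = 1 ∧ α72 = 3)) ∧ q27 = 3) ∨ ((Hide (x27 = 3 * T.m 7 ∧ x72 = T.m 2) ∧ Hide (T.a 2 7 = 3 * T.w 2 ∧ T.a 7 2 = T.w 7)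 ∧ Hide (α27 = 3 ∧ α72 = 1)) ∧ q27 = 3) ∨ ((Hide (x27 = T.m 7 ∧ x72 = 4 * T.m 2) ∧ Hide (T.a 2 7 = T.w 2 ∧ T.a 7 2 = 4 * T.w 7) ∧ Hide (α27 = 1 ∧ α72 = 4)) ∧ q27 = 4) ∨ ((Hide (x27 = 4 * T.m 7 ∧ x72 = T.m 2) ∧ Hide (T.a 2 7 = 4 * T.w 2 ∧ T.a 7 2 = T.w 7) ∧ Hide (α27 = 4 ∧ α72 = 1)) ∧ q27 = 4) ∨ ((Hide (x27 = 2 * T.m 7 ∧ x72 = 2 * T.m 2) ∧ Hide (T.a 2 7 = 2 * T.w 2 ∧ T.a 7 2 = 2 * T.w 7) ∧ Hide (α27 = 2 ∧ α72 = 2)) ∧ q27 = 4)))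
    (c34 : Hide (((Hide (x34 = 0 ∧ x43 = 0) ∧ Hide (T.a 3 4 = 0 ∧ T.a 4 3 = 0) ∧ Hide (α34 = 0 ∧ α43 = 0)) ∧ q34 = 0) ∨ ((Hide (x34 = T.m 4 ∧ x43 = T.m 3) ∧ Hide (T.a 3 4 = T.w 3 ∧ T.a 4 3 = T.w 4) ∧ Hide (α34 = 1 ∧ α43 = 1)) ∧ q34 = 1) ∨ ((Hide (x34 = T.m 4 ∧ x43 = 2 * T.m 3) ∧ Hide (T.a 3 4 = T.w 3 ∧ T.a 4 3 = 2 * T.w 4) ∧ Hide (α34 = 1 ∧ α43 = 2)) ∧ q34 = 2) ∨ ((Hide (x34 = 2 * T.m 4 ∧ x43 = T.m 3) ∧ Hide (T.a 3 4 = 2 * T.w 3 ∧ T.a 4 3 = T.w 4) ∧ Hide (α34 = 2 ∧ α43 = 1)) ∧ q34 = 2) ∨ ((Hide (x34 = T.m 4 ∧ x43 = 3 * T.m 3) ∧ Hide (T.a 3 4 = T.w 3 ∧ T.a 4 3 = 3 * T.w 4) ∧ Hide (α34 = 1 ∧ α43 = 3)) ∧ q34 = 3) ∨ ((Hide (x34 = 3 * T.m 4 ∧ x43 = T.m 3) ∧ Hide (T.a 3 4 = 3 * T.w 3 ∧ T.a 4 3 = T.w 4)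 ∧ Hide (α34 = 3 ∧ α43 = 1)) ∧ q34 = 3) ∨ ((Hide (x34 = T.m 4 ∧ x43 = 4 * T.m 3) ∧ Hide (T.a 3 4 = T.w 3 ∧ T.a 4 3 = 4 * T.w 4) ∧ Hide (α34 = 1 ∧ α43 = 4)) ∧ q34 = 4) ∨ ((Hide (x34 = 4 * T.m 4 ∧ x43 = T.m 3) ∧ Hide (T.a 3 4 = 4 * T.w 3 ∧ T.a 4 3 = T.w 4) ∧ Hide (α34 = 4 ∧ α43 = 1)) ∧ q34 = 4) ∨ ((Hide (x34 = 2 * T.m 4 ∧ x43 = 2 * T.m 3) ∧ Hide (T.a 3 4 = 2 * T.w 3 ∧ T.a 4 3 = 2 * T.w 4) ∧ Hide (α34 = 2 ∧ α43 = 2)) ∧ q34 = 4)))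
    (c35 : Hide (((Hide (x35 = 0 ∧ x53 = 0) ∧ Hide (T.a 3 5 = 0 ∧ T.a 5 3 = 0) ∧ Hide (α35 = 0 ∧ α53 = 0)) ∧ q35 = 0) ∨ ((Hide (x35 = T.m 5 ∧ x53 = T.m 3) ∧ Hide (T.a 3 5 = T.w 3 ∧ T.a 5 3 = T.w 5) ∧ Hide (α35 = 1 ∧ α53 = 1)) ∧ q35 = 1) ∨ ((Hide (x35 = T.m 5 ∧ x53 = 2 * T.m 3) ∧ Hide (T.a 3 5 = T.w 3 ∧ T.a 5 3 = 2 * T.w 5) ∧ Hide (α35 = 1 ∧ α53 = 2)) ∧ q35 = 2) ∨ ((Hide (x35 = 2 * T.m 5 ∧ x53 = T.m 3) ∧ Hide (T.a 3 5 = 2 * T.w 3 ∧ T.a 5 3 = T.w 5) ∧ Hide (α35 = 2 ∧ α53 = 1)) ∧ q35 = 2) ∨ ((Hide (x35 = T.m 5 ∧ x53 = 3 * T.m 3) ∧ Hide (T.a 3 5 = T.w 3 ∧ T.a 5 3 = 3 * T.w 5) ∧ Hide (α35 = 1 ∧ α53 = 3)) ∧ q35 = 3) ∨ ((Hide (x35 = 3 * T.m 5 ∧ x53 = T.m 3) ∧ Hide (T.a 3 5 = 3 * T.w 3 ∧ T.a 5 3 = T.w 5)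 ∧ Hide (α35 = 3 ∧ α53 = 1)) ∧ q35 = 3) ∨ ((Hide (x35 = T.m 5 ∧ x53 = 4 * T.m 3) ∧ Hide (T.a 3 5 = T.w 3 ∧ T.a 5 3 = 4 * T.w 5) ∧ Hide (α35 = 1 ∧ α53 = 4)) ∧ q35 = 4) ∨ ((Hide (x35 = 4 * T.m 5 ∧ x53 = T.m 3) ∧ Hide (T.a 3 5 = 4 * T.w 3 ∧ T.a 5 3 = T.w 5) ∧ Hide (α35 = 4 ∧ α53 = 1)) ∧ q35 = 4) ∨ ((Hide (x35 = 2 * T.m 5 ∧ x53 = 2 * T.m 3) ∧ Hide (T.a 3 5 = 2 * T.w 3 ∧ T.a 5 3 = 2 * T.w 5) ∧ Hide (α35 = 2 ∧ α53 = 2)) ∧ q35 = 4)))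
    (c36 : Hide (((Hide (x36 = 0 ∧ x63 = 0) ∧ Hide (T.a 3 6 = 0 ∧ T.a 6 3 = 0) ∧ Hide (α36 = 0 ∧ α63 = 0)) ∧ q36 = 0) ∨ ((Hide (x36 = T.m 6 ∧ x63 = T.m 3) ∧ Hide (T.a 3 6 = T.w 3 ∧ T.a 6 3 = T.w 6) ∧ Hide (α36 = 1 ∧ α63 = 1)) ∧ q36 = 1) ∨ ((Hide (x36 = T.m 6 ∧ x63 = 2 * T.m 3) ∧ Hide (T.a 3 6 = T.w 3 ∧ T.a 6 3 = 2 * T.w 6) ∧ Hide (α36 = 1 ∧ α63 = 2)) ∧ q36 = 2) ∨ ((Hide (x36 = 2 * T.m 6 ∧ x63 = T.m 3) ∧ Hide (T.a 3 6 = 2 * T.w 3 ∧ T.a 6 3 = T.w 6) ∧ Hide (α36 = 2 ∧ α63 = 1)) ∧ q36 = 2) ∨ ((Hide (x36 = T.m 6 ∧ x63 = 3 * T.m 3) ∧ Hide (T.a 3 6 = T.w 3 ∧ T.a 6 3 = 3 * T.w 6) ∧ Hide (α36 = 1 ∧ α63 = 3)) ∧ q36 = 3) ∨ ((Hide (x36 = 3 * T.m 6 ∧ x63 = T.m 3) ∧ Hide (T.a 3 6 = 3 * T.w 3 ∧ T.a 6 3 = T.w 6)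 ∧ Hide (α36 = 3 ∧ α63 = 1)) ∧ q36 = 3) ∨ ((Hide (x36 = T.m 6 ∧ x63 = 4 * T.m 3) ∧ Hide (T.a 3 6 = T.w 3 ∧ T.a 6 3 = 4 * T.w 6) ∧ Hide (α36 = 1 ∧ α63 = 4)) ∧ q36 = 4) ∨ ((Hide (x36 = 4 * T.m 6 ∧ x63 = T.m 3) ∧ Hide (T.a 3 6 = 4 * T.w 3 ∧ T.a 6 3 = T.w 6) ∧ Hide (α36 = 4 ∧ α63 = 1)) ∧ q36 = 4) ∨ ((Hide (x36 = 2 * T.m 6 ∧ x63 = 2 * T.m 3) ∧ Hide (T.a 3 6 = 2 * T.w 3 ∧ T.a 6 3 = 2 * T.w 6) ∧ Hide (α36 = 2 ∧ α63 = 2)) ∧ q36 = 4)))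
    (c37 : Hide (((Hide (x37 = 0 ∧ x73 = 0) ∧ Hide (T.a 3 7 = 0 ∧ T.a 7 3 = 0) ∧ Hide (α37 = 0 ∧ α73 = 0)) ∧ q37 = 0) ∨ ((Hide (x37 = T.m 7 ∧ x73 = T.m 3) ∧ Hide (T.a 3 7 = T.w 3 ∧ T.a 7 3 = T.w 7) ∧ Hide (α37 = 1 ∧ α73 = 1)) ∧ q37 = 1) ∨ ((Hide (x37 = T.m 7 ∧ x73 = 2 * T.m 3) ∧ Hide (T.a 3 7 = T.w 3 ∧ T.a 7 3 = 2 * T.w 7) ∧ Hide (α37 = 1 ∧ α73 = 2)) ∧ q37 = 2) ∨ ((Hide (x37 = 2 * T.m 7 ∧ x73 = T.m 3) ∧ Hide (T.a 3 7 = 2 * T.w 3 ∧ T.a 7 3 = T.w 7) ∧ Hide (α37 = 2 ∧ α73 = 1)) ∧ q37 = 2) ∨ ((Hide (x37 = T.m 7 ∧ x73 = 3 * T.m 3) ∧ Hide (T.a 3 7 = T.w 3 ∧ T.a 7 3 = 3 * T.w 7) ∧ Hide (α37 = 1 ∧ α73 = 3)) ∧ q37 = 3) ∨ ((Hide (x37 = 3 * T.m 7 ∧ x73 = T.m 3) ∧ Hide (T.a 3 7 = 3 * T.w 3 ∧ T.a 7 3 = T.w 7)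 ∧ Hide (α37 = 3 ∧ α73 = 1)) ∧ q37 = 3) ∨ ((Hide (x37 = T.m 7 ∧ x73 = 4 * T.m 3) ∧ Hide (T.a 3 7 = T.w 3 ∧ T.a 7 3 = 4 * T.w 7) ∧ Hide (α37 = 1 ∧ α73 = 4)) ∧ q37 = 4) ∨ ((Hide (x37 = 4 * T.m 7 ∧ x73 = T.m 3) ∧ Hide (T.a 3 7 = 4 * T.w 3 ∧ T.a 7 3 = T.w 7) ∧ Hide (α37 = 4 ∧ α73 = 1)) ∧ q37 = 4) ∨ ((Hide (x37 = 2 * T.m 7 ∧ x73 = 2 * T.m 3) ∧ Hide (T.a 3 7 = 2 * T.w 3 ∧ T.a 7 3 = 2 * T.w 7) ∧ Hide (α37 = 2 ∧ α73 = 2)) ∧ q37 = 4)))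
    (c45 : Hide (((Hide (x45 = 0 ∧ x54 = 0) ∧ Hide (T.a 4 5 = 0 ∧ T.a 5 4 = 0) ∧ Hide (α45 = 0 ∧ α54 = 0)) ∧ q45 = 0) ∨ ((Hide (x45 = T.m 5 ∧ x54 = T.m 4) ∧ Hide (T.a 4 5 = T.w 4 ∧ T.a 5 4 = T.w 5) ∧ Hide (α45 = 1 ∧ α54 = 1)) ∧ q45 = 1) ∨ ((Hide (x45 = T.m 5 ∧ x54 = 2 * T.m 4) ∧ Hide (T.a 4 5 = T.w 4 ∧ T.a 5 4 = 2 * T.w 5) ∧ Hide (α45 = 1 ∧ α54 = 2)) ∧ q45 = 2) ∨ ((Hide (x45 = 2 * T.m 5 ∧ x54 = T.m 4) ∧ Hide (T.a 4 5 = 2 * T.w 4 ∧ T.a 5 4 = T.w 5) ∧ Hide (α45 = 2 ∧ α54 = 1)) ∧ q45 = 2) ∨ ((Hide (x45 = T.m 5 ∧ x54 = 3 * T.m 4) ∧ Hide (T.a 4 5 = T.w 4 ∧ T.a 5 4 = 3 * T.w 5) ∧ Hide (α45 = 1 ∧ α54 = 3)) ∧ q45 = 3) ∨ ((Hide (x45 = 3 * T.m 5 ∧ x54 = T.m 4) ∧ Hide (T.a 4 5 = 3 * T.w 4 ∧ T.a 5 4 = T.w 5)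 ∧ Hide (α45 = 3 ∧ α54 = 1)) ∧ q45 = 3) ∨ ((Hide (x45 = T.m 5 ∧ x54 = 4 * T.m 4) ∧ Hide (T.a 4 5 = T.w 4 ∧ T.a 5 4 = 4 * T.w 5) ∧ Hide (α45 = 1 ∧ α54 = 4)) ∧ q45 = 4) ∨ ((Hide (x45 = 4 * T.m 5 ∧ x54 = T.m 4) ∧ Hide (T.a 4 5 = 4 * T.w 4 ∧ T.a 5 4 = T.w 5) ∧ Hide (α45 = 4 ∧ α54 = 1)) ∧ q45 = 4) ∨ ((Hide (x45 = 2 * T.m 5 ∧ x54 = 2 * T.m 4) ∧ Hide (T.a 4 5 = 2 * T.w 4 ∧ T.a 5 4 = 2 * T.w 5) ∧ Hide (α45 = 2 ∧ α54 = 2)) ∧ q45 = 4)))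
    (c46 : Hide (((Hide (x46 = 0 ∧ x64 = 0) ∧ Hide (T.a 4 6 = 0 ∧ T.a 6 4 = 0) ∧ Hide (α46 = 0 ∧ α64 = 0)) ∧ q46 = 0) ∨ ((Hide (x46 = T.m 6 ∧ x64 = T.m 4) ∧ Hide (T.a 4 6 = T.w 4 ∧ T.a 6 4 = T.w 6) ∧ Hide (α46 = 1 ∧ α64 = 1)) ∧ q46 = 1) ∨ ((Hide (x46 = T.m 6 ∧ x64 = 2 * T.m 4) ∧ Hide (T.a 4 6 = T.w 4 ∧ T.a 6 4 = 2 * T.w 6) ∧ Hide (α46 = 1 ∧ α64 = 2)) ∧ q46 = 2) ∨ ((Hide (x46 = 2 * T.m 6 ∧ x64 = T.m 4) ∧ Hide (T.a 4 6 = 2 * T.w 4 ∧ T.a 6 4 = T.w 6) ∧ Hide (α46 = 2 ∧ α64 = 1)) ∧ q46 = 2) ∨ ((Hide (x46 = T.m 6 ∧ x64 = 3 * T.m 4) ∧ Hide (T.a 4 6 = T.w 4 ∧ T.a 6 4 = 3 * T.w 6) ∧ Hide (α46 = 1 ∧ α64 = 3)) ∧ q46 = 3) ∨ ((Hide (x46 = 3 * T.m 6 ∧ x64 = T.m 4) ∧ Hide (T.a 4 6 = 3 * T.w 4 ∧ T.a 6 4 = T.w 6)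 ∧ Hide (α46 = 3 ∧ α64 = 1)) ∧ q46 = 3) ∨ ((Hide (x46 = T.m 6 ∧ x64 = 4 * T.m 4) ∧ Hide (T.a 4 6 = T.w 4 ∧ T.a 6 4 = 4 * T.w 6) ∧ Hide (α46 = 1 ∧ α64 = 4)) ∧ q46 = 4) ∨ ((Hide (x46 = 4 * T.m 6 ∧ x64 = T.m 4) ∧ Hide (T.a 4 6 = 4 * T.w 4 ∧ T.a 6 4 = T.w 6) ∧ Hide (α46 = 4 ∧ α64 = 1)) ∧ q46 = 4) ∨ ((Hide (x46 = 2 * T.m 6 ∧ x64 = 2 * T.m 4) ∧ Hide (T.a 4 6 = 2 * T.w 4 ∧ T.a 6 4 = 2 * T.w 6) ∧ Hide (α46 = 2 ∧ α64 = 2)) ∧ q46 = 4)))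
    (c47 : Hide (((Hide (x47 = 0 ∧ x74 = 0) ∧ Hide (T.a 4 7 = 0 ∧ T.a 7 4 = 0) ∧ Hide (α47 = 0 ∧ α74 = 0)) ∧ q47 = 0) ∨ ((Hide (x47 = T.m 7 ∧ x74 = T.m 4) ∧ Hide (T.a 4 7 = T.w 4 ∧ T.a 7 4 = T.w 7) ∧ Hide (α47 = 1 ∧ α74 = 1)) ∧ q47 = 1) ∨ ((Hide (x47 = T.m 7 ∧ x74 = 2 * T.m 4) ∧ Hide (T.a 4 7 = T.w 4 ∧ T.a 7 4 = 2 * T.w 7) ∧ Hide (α47 = 1 ∧ α74 = 2)) ∧ q47 = 2) ∨ ((Hide (x47 = 2 * T.m 7 ∧ x74 = T.m 4) ∧ Hide (T.a 4 7 = 2 * T.w 4 ∧ T.a 7 4 = T.w 7) ∧ Hide (α47 = 2 ∧ α74 = 1)) ∧ q47 = 2) ∨ ((Hide (x47 = T.m 7 ∧ x74 = 3 * T.m 4) ∧ Hide (T.a 4 7 = T.w 4 ∧ T.a 7 4 = 3 * T.w 7) ∧ Hide (α47 = 1 ∧ α74 = 3)) ∧ q47 = 3) ∨ ((Hide (x47 = 3 * T.m 7 ∧ x74 = T.m 4) ∧ Hide (T.a 4 7 = 3 * T.w 4 ∧ T.a 7 4 = T.w 7)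 ∧ Hide (α47 = 3 ∧ α74 = 1)) ∧ q47 = 3) ∨ ((Hide (x47 = T.m 7 ∧ x74 = 4 * T.m 4) ∧ Hide (T.a 4 7 = T.w 4 ∧ T.a 7 4 = 4 * T.w 7) ∧ Hide (α47 = 1 ∧ α74 = 4)) ∧ q47 = 4) ∨ ((Hide (x47 = 4 * T.m 7 ∧ x74 = T.m 4) ∧ Hide (T.a 4 7 = 4 * T.w 4 ∧ T.a 7 4 = T.w 7) ∧ Hide (α47 = 4 ∧ α74 = 1)) ∧ q47 = 4) ∨ ((Hide (x47 = 2 * T.m 7 ∧ x74 = 2 * T.m 4) ∧ Hide (T.a 4 7 = 2 * T.w 4 ∧ T.a 7 4 = 2 * T.w 7) ∧ Hide (α47 = 2 ∧ α74 = 2)) ∧ q47 = 4)))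
    (c56 : Hide (((Hide (x56 = 0 ∧ x65 = 0) ∧ Hide (T.a 5 6 = 0 ∧ T.a 6 5 = 0) ∧ Hide (α56 = 0 ∧ α65 = 0)) ∧ q56 = 0) ∨ ((Hide (x56 = T.m 6 ∧ x65 = T.m 5) ∧ Hide (T.a 5 6 = T.w 5 ∧ T.a 6 5 = T.w 6) ∧ Hide (α56 = 1 ∧ α65 = 1)) ∧ q56 = 1) ∨ ((Hide (x56 = T.m 6 ∧ x65 = 2 * T.m 5) ∧ Hide (T.a 5 6 = T.w 5 ∧ T.a 6 5 = 2 * T.w 6) ∧ Hide (α56 = 1 ∧ α65 = 2)) ∧ q56 = 2) ∨ ((Hide (x56 = 2 * T.m 6 ∧ x65 = T.m 5) ∧ Hide (T.a 5 6 = 2 * T.w 5 ∧ T.a 6 5 = T.w 6) ∧ Hide (α56 = 2 ∧ α65 = 1)) ∧ q56 = 2) ∨ ((Hide (x56 = T.m 6 ∧ x65 = 3 * T.m 5) ∧ Hide (T.a 5 6 = T.w 5 ∧ T.a 6 5 = 3 * T.w 6) ∧ Hide (α56 = 1 ∧ α65 = 3)) ∧ q56 = 3) ∨ ((Hide (x56 = 3 * T.m 6 ∧ x65 = T.m 5) ∧ Hide (T.a 5 6 = 3 * T.w 5 ∧ T.a 6 5 = T.w 6)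 ∧ Hide (α56 = 3 ∧ α65 = 1)) ∧ q56 = 3) ∨ ((Hide (x56 = T.m 6 ∧ x65 = 4 * T.m 5) ∧ Hide (T.a 5 6 = T.w 5 ∧ T.a 6 5 = 4 * T.w 6) ∧ Hide (α56 = 1 ∧ α65 = 4)) ∧ q56 = 4) ∨ ((Hide (x56 = 4 * T.m 6 ∧ x65 = T.m 5) ∧ Hide (T.a 5 6 = 4 * T.w 5 ∧ T.a 6 5 = T.w 6) ∧ Hide (α56 = 4 ∧ α65 = 1)) ∧ q56 = 4) ∨ ((Hide (x56 = 2 * T.m 6 ∧ x65 = 2 * T.m 5) ∧ Hide (T.a 5 6 = 2 * T.w 5 ∧ T.a 6 5 = 2 * T.w 6) ∧ Hide (α56 = 2 ∧ α65 = 2)) ∧ q56 = 4)))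
    (c57 : Hide (((Hide (x57 = 0 ∧ x75 = 0) ∧ Hide (T.a 5 7 = 0 ∧ T.a 7 5 = 0) ∧ Hide (α57 = 0 ∧ α75 = 0)) ∧ q57 = 0) ∨ ((Hide (x57 = T.m 7 ∧ x75 = T.m 5) ∧ Hide (T.a 5 7 = T.w 5 ∧ T.a 7 5 = T.w 7) ∧ Hide (α57 = 1 ∧ α75 = 1)) ∧ q57 = 1) ∨ ((Hide (x57 = T.m 7 ∧ x75 = 2 * T.m 5) ∧ Hide (T.a 5 7 = T.w 5 ∧ T.a 7 5 = 2 * T.w 7) ∧ Hide (α57 = 1 ∧ α75 = 2)) ∧ q57 = 2) ∨ ((Hide (x57 = 2 * T.m 7 ∧ x75 = T.m 5) ∧ Hide (T.a 5 7 = 2 * T.w 5 ∧ T.a 7 5 = T.w 7) ∧ Hide (α57 = 2 ∧ α75 = 1)) ∧ q57 = 2) ∨ ((Hide (x57 = T.m 7 ∧ x75 = 3 * T.m 5) ∧ Hide (T.a 5 7 = T.w 5 ∧ T.a 7 5 = 3 * T.w 7) ∧ Hide (α57 = 1 ∧ α75 = 3)) ∧ q57 = 3) ∨ ((Hide (x57 = 3 * T.m 7 ∧ x75 = T.m 5) ∧ Hide (T.a 5 7 = 3 * T.w 5 ∧ T.a 7 5 = T.w 7)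 ∧ Hide (α57 = 3 ∧ α75 = 1)) ∧ q57 = 3) ∨ ((Hide (x57 = T.m 7 ∧ x75 = 4 * T.m 5) ∧ Hide (T.a 5 7 = T.w 5 ∧ T.a 7 5 = 4 * T.w 7) ∧ Hide (α57 = 1 ∧ α75 = 4)) ∧ q57 = 4) ∨ ((Hide (x57 = 4 * T.m 7 ∧ x75 = T.m 5) ∧ Hide (T.a 5 7 = 4 * T.w 5 ∧ T.a 7 5 = T.w 7) ∧ Hide (α57 = 4 ∧ α75 = 1)) ∧ q57 = 4) ∨ ((Hide (x57 = 2 * T.m 7 ∧ x75 = 2 * T.m 5) ∧ Hide (T.a 5 7 = 2 * T.w 5 ∧ T.a 7 5 = 2 * T.w 7) ∧ Hide (α57 = 2 ∧ α75 = 2)) ∧ q57 = 4)))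
    (c67 : Hide (((Hide (x67 = 0 ∧ x76 = 0) ∧ Hide (T.a 6 7 = 0 ∧ T.a 7 6 = 0) ∧ Hide (α67 = 0 ∧ α76 = 0)) ∧ q67 = 0) ∨ ((Hide (x67 = T.m 7 ∧ x76 = T.m 6) ∧ Hide (T.a 6 7 = T.w 6 ∧ T.a 7 6 = T.w 7) ∧ Hide (α67 = 1 ∧ α76 = 1)) ∧ q67 = 1) ∨ ((Hide (x67 = T.m 7 ∧ x76 = 2 * T.m 6) ∧ Hide (T.a 6 7 = T.w 6 ∧ T.a 7 6 = 2 * T.w 7) ∧ Hide (α67 = 1 ∧ α76 = 2)) ∧ q67 = 2) ∨ ((Hide (x67 = 2 * T.m 7 ∧ x76 = T.m 6) ∧ Hide (T.a 6 7 = 2 * T.w 6 ∧ T.a 7 6 = T.w 7) ∧ Hide (α67 = 2 ∧ α76 = 1)) ∧ q67 = 2) ∨ ((Hide (x67 = T.m 7 ∧ x76 = 3 * T.m 6) ∧ Hide (T.a 6 7 = T.w 6 ∧ T.a 7 6 = 3 * T.w 7) ∧ Hide (α67 = 1 ∧ α76 = 3)) ∧ q67 = 3) ∨ ((Hide (x67 = 3 * T.m 7 ∧ x76 = T.m 6) ∧ Hide (T.a 6 7 = 3 * T.w 6 ∧ T.a 7 6 = T.w 7)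 ∧ Hide (α67 = 3 ∧ α76 = 1)) ∧ q67 = 3) ∨ ((Hide (x67 = T.m 7 ∧ x76 = 4 * T.m 6) ∧ Hide (T.a 6 7 = T.w 6 ∧ T.a 7 6 = 4 * T.w 7) ∧ Hide (α67 = 1 ∧ α76 = 4)) ∧ q67 = 4) ∨ ((Hide (x67 = 4 * T.m 7 ∧ x76 = T.m 6) ∧ Hide (T.a 6 7 = 4 * T.w 6 ∧ T.a 7 6 = T.w 7) ∧ Hide (α67 = 4 ∧ α76 = 1)) ∧ q67 = 4) ∨ ((Hide (x67 = 2 * T.m 7 ∧ x76 = 2 * T.m 6) ∧ Hide (T.a 6 7 = 2 * T.w 6 ∧ T.a 7 6 = 2 * T.w 7) ∧ Hide (α67 = 2 ∧ α76 = 2)) ∧ q67 = 4)))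
    (gw01 : Hide (T.a 0 1 = T.w 0 ∧ T.a 1 0 = T.w 1))
    (gw02 : Hide (T.a 0 2 = 0 ∧ T.a 2 0 = 0))
    (gw03 : Hide (T.a 0 3 = 0 ∧ T.a 3 0 = 0))
    (gw04 : Hide (T.a 0 4 = 0 ∧ T.a 4 0 = 0))
    (gw05 : Hide (T.a 0 5 = 0 ∧ T.a 5 0 = 0))
    (gw06 : Hide (T.a 0 6 = 0 ∧ T.a 6 0 = 0))
    (gw07 : Hide (T.a 0 7 = 0 ∧ T.a 7 0 = 0))
    (gw12 : Hide (T.a 1 2 = T.w 1 ∧ T.a 2 1 = T.w 2))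
    (gw13 : Hide (T.a 1 3 = 0 ∧ T.a 3 1 = 0))
    (gw14 : Hide (T.a 1 4 = 2 * T.w 1 ∧ T.a 4 1 = T.w 4)) : Goal T := by
  have t := pc0 q15 c15.out (by have := v1.out; have := qn16.out; have := qn17.out; omega)
  clear c15
  obtain ⟨⟨⟨rfl, rfl⟩, gw15, ⟨rfl, rfl⟩⟩, rfl⟩ := t
  have t := pc0 q16 c16.out (by have := v1.out; have := qn17.out; omega)
  clear c16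
  obtain ⟨⟨⟨rfl, rfl⟩, gw16, ⟨rfl, rfl⟩⟩, rfl⟩ := t
  have t := pc0 q17 c17.out (by have := v1.out; omega)
  clear c17
  obtain ⟨⟨⟨rfl, rfl⟩, gw17, ⟨rfl, rfl⟩⟩, rfl⟩ := t
  have t := pc3 q23 c23.out (by have := v2.out; have := qn24.out; have := qn25.out; have := qn26.out; have := qn27.out; omega)
  clear c23
  rcases t with ⟨⟨⟨rfl, rfl⟩, gw23, ⟨rfl, rfl⟩⟩, rfl⟩ | ⟨⟨⟨rfl, rfl⟩, gw23, ⟨rfl, rfl⟩⟩, rfl⟩ | ⟨⟨⟨rfl, rfl⟩, gw23, ⟨rfl, rfl⟩⟩, rfl⟩ | ⟨⟨⟨rfl, rfl⟩, gw23, ⟨rfl, rfl⟩⟩, rfl⟩ | ⟨⟨⟨rfl, rfl⟩, gw23, ⟨rfl, rfl⟩⟩, rfl⟩ | ⟨⟨⟨rfl, rfl⟩, gw23, ⟨rfl, rfl⟩⟩, rfl⟩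
  · (have := od3.out; omega)
  · (have := hm3.out; have := e0.out; have := e1.out; have := e2.out; have := r24.out; have := r25.out; have := r26.out; have := r27.out; have := e4.out; have := r42.out; have := r43.out; have := r45.out; have := r46.out; have := r47.out; omega)
  · (have := hm0.out; have := e1.out; have := e2.out; have := r24.out; have := r25.out; have := r26.out; have := r27.out; have := e3.out; have := r34.out; have := r35.out; have := r36.out; have := r37.out; have := e4.out; have := r42.out; have := r43.out; have := r45.out; have := r46.out; have := r47.out; omega)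
  · (have := hm0.out; have := e1.out; have := e2.out; have := r24.out; have := r25.out; have := r26.out; have := r27.out; have := e3.out; have := r34.out; have := r35.out; have := r36.out; have := r37.out; have := e4.out; have := r42.out; have := r43.out; have := r45.out; have := r46.out; have := r47.out; omega)
  · (have := hm3.out; have := om4.out; have := e0.out; have := e1.out; have := e2.out; have := r24.out; have := r25.out; have := r26.out; have := r27.out; omega)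
  · (have := hm3.out; have := om4.out; have := e0.out; have := e1.out; have := e2.out; have := r24.out; have := r25.out; have := r26.out; have := r27.out; omega)

end Groth.Agent.Lib.helper20.G1n8
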