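import Groth.Agent.Lib.Helper20.G1n8Base

set_option autoImplicit false
set_option linter.unusedVariables false
open Finset
open Models Models.NumericalType

namespace Groth.Agent.Lib.helper20.G1n8

set_option maxHeartbeats 0 in
theorem part43 (T : Models.NumericalType 8) (α27 α34 α35 α36 α37 α43 α45 α46 α47 α53 α54 α56 α57 α63 α64 α65 α67 α72 α73 α74 α75 α76 x27 x34 x35 x36 x37 x43 x45 x46 x47 x53 x54 x56 x57 x63 x64 x65 x67 x72 x73 x74 x75 x76 q27 q34 q35 q36 q37 q45 q46 q47 q56 q57 q67 : ℤ)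
    (hm0 : Hide (0 < T.m 0))
    (hm1 : Hide (0 < T.m 1))
    (hm2 : Hide (0 < T.m 2))
    (hm3 : Hide (0 < T.m 3))
    (hm4 : Hide (0 < T.m 4))
    (hm5 : Hide (0 < T.m 5))
    (hm6 : Hide (0 < T.m 6))
    (hm7 : Hide (0 < T.m 7))
    (om1 : Hide (T.m 0 ≤ T.m 1))
    (om2 : Hide (T.m 0 ≤ T.m 2))
    (om3 : Hide (T.m 0 ≤ T.m 3))
    (om4 : Hide (T.m 0 ≤ T.m 4))
    (om5 : Hide (T.m 0 ≤ T.m 5))
    (om6 : Hide (T.m 0 ≤ T.m 6))
    (om7 : Hide (T.m 0 ≤ T.m 7))
    (e0 : Hide (T.m 1 + (0 : ℤ) + (0 : ℤ) + (0 : ℤ) + (0 : ℤ) + (0 : ℤ) + (0 : ℤ) = 2 * T.m 0))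
    (e1 : Hide (T.m 0 + T.m 2 + T.m 3 + (0 : ℤ) + (0 : ℤ) + (0 : ℤ) + (0 : ℤ) = 2 * T.m 1))
    (e2 : Hide ((0 : ℤ) + T.m 1 + (0 : ℤ) + (0 : ℤ) + (0 : ℤ) + (0 : ℤ) + x27 = 2 * T.m 2))
    (e3 : Hide ((0 : ℤ) + T.m 1 + (0 : ℤ) + x34 + x35 + x36 + x37 = 2 * T.m 3))
    (e4 : Hide ((0 : ℤ) + (0 : ℤ) + (0 : ℤ) + x43 + x45 + x46 + x47 = 2 * T.m 4))
    (e5 : Hide ((0 : ℤ) + (0 : ℤ) + (0 : ℤ) + x53 + x54 + x56 + x57 = 2 * T.m 5))
    (e6 : Hide ((0 : ℤ) + (0 : ℤ) + (0 : ℤ) + x63 + x64 + x65 + x67 = 2 * T.m 6))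
    (e7 : Hide ((0 : ℤ) + (0 : ℤ) + x72 + x73 + x74 + x75 + x76 = 2 * T.m 7))
    (r01 : Hide (0 ≤ T.m 1))
    (r02 : Hide (0 ≤ (0 : ℤ)))
    (r03 : Hide (0 ≤ (0 : ℤ)))
    (r04 : Hide (0 ≤ (0 : ℤ)))
    (r05 : Hide (0 ≤ (0 : ℤ)))
    (r06 : Hide (0 ≤ (0 : ℤ)))
    (r07 : Hide (0 ≤ (0 : ℤ)))
    (r10 : Hide (0 ≤ T.m 0))
    (r12 : Hide (0 ≤ T.m 2))
    (r13 : Hide (0 ≤ T.m 3))
    (r14 : Hide (0 ≤ (0 : ℤ)))
    (r15 : Hide (0 ≤ (0 : ℤ)))
    (r16 : Hide (0 ≤ (0 : ℤ)))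
    (r17 : Hide (0 ≤ (0 : ℤ)))
    (r20 : Hide (0 ≤ (0 : ℤ)))
    (r21 : Hide (0 ≤ T.m 1))
    (r23 : Hide (0 ≤ (0 : ℤ)))
    (r24 : Hide (0 ≤ (0 : ℤ)))
    (r25 : Hide (0 ≤ (0 : ℤ)))
    (r26 : Hide (0 ≤ (0 : ℤ)))
    (r27 : Hide (0 ≤ x27))
    (r30 : Hide (0 ≤ (0 : ℤ)))
    (r31 : Hide (0 ≤ T.m 1))
    (r32 : Hide (0 ≤ (0 : ℤ)))
    (r34 : Hide (0 ≤ x34))
    (r35 : Hide (0 ≤ x35))
    (r36 : Hide (0 ≤ x36))
    (r37 : Hide (0 ≤ x37))
    (r40 : Hide (0 ≤ (0 : ℤ)))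
    (r41 : Hide (0 ≤ (0 : ℤ)))
    (r42 : Hide (0 ≤ (0 : ℤ)))
    (r43 : Hide (0 ≤ x43))
    (r45 : Hide (0 ≤ x45))
    (r46 : Hide (0 ≤ x46))
    (r47 : Hide (0 ≤ x47))
    (r50 : Hide (0 ≤ (0 : ℤ)))
    (r51 : Hide (0 ≤ (0 : ℤ)))
    (r52 : Hide (0 ≤ (0 : ℤ)))
    (r53 : Hide (0 ≤ x53))
    (r54 : Hide (0 ≤ x54))
    (r56 : Hide (0 ≤ x56))
    (r57 : Hide (0 ≤ x57))
    (r60 : Hide (0 ≤ (0 : ℤ)))
    (r61 : Hide (0 ≤ (0 : ℤ)))
    (r62 : Hide (0 ≤ (0 : ℤ)))
    (r63 : Hide (0 ≤ x63))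
    (r64 : Hide (0 ≤ x64))
    (r65 : Hide (0 ≤ x65))
    (r67 : Hide (0 ≤ x67))
    (r70 : Hide (0 ≤ (0 : ℤ)))
    (r71 : Hide (0 ≤ (0 : ℤ)))
    (r72 : Hide (0 ≤ x72))
    (r73 : Hide (0 ≤ x73))
    (r74 : Hide (0 ≤ x74))
    (r75 : Hide (0 ≤ x75))
    (r76 : Hide (0 ≤ x76))
    (hw0 : Hide (0 < T.w 0))
    (hw1 : Hide (0 < T.w 1))
    (hw2 : Hide (0 < T.w 2))
    (hw3 : Hide (0 < T.w 3))
    (hw4 : Hide (0 < T.w 4))
    (hw5 : Hide (0 < T.w 5))
    (hw6 : Hide (0 < T.w 6))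
    (hw7 : Hide (0 < T.w 7))
    (hs01 : Hide (T.a 0 1 = T.a 1 0))
    (hs02 : Hide (T.a 0 2 = T.a 2 0))
    (hs03 : Hide (T.a 0 3 = T.a 3 0))
    (hs04 : Hide (T.a 0 4 = T.a 4 0))
    (hs05 : Hide (T.a 0 5 = T.a 5 0))
    (hs06 : Hide (T.a 0 6 = T.a 6 0))
    (hs07 : Hide (T.a 0 7 = T.a 7 0))
    (hs12 : Hide (T.a 1 2 = T.a 2 1))
    (hs13 : Hide (T.a 1 3 = T.a 3 1))
    (hs14 : Hide (T.a 1 4 = T.a 4 1))
    (hs15 : Hide (T.a 1 5 = T.a 5 1))
    (hs16 : Hide (T.a 1 6 = T.a 6 1))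
    (hs17 : Hide (T.a 1 7 = T.a 7 1))
    (hs23 : Hide (T.a 2 3 = T.a 3 2))
    (hs24 : Hide (T.a 2 4 = T.a 4 2))
    (hs25 : Hide (T.a 2 5 = T.a 5 2))
    (hs26 : Hide (T.a 2 6 = T.a 6 2))
    (hs27 : Hide (T.a 2 7 = T.a 7 2))
    (hs34 : Hide (T.a 3 4 = T.a 4 3))
    (hs35 : Hide (T.a 3 5 = T.a 5 3))
    (hs36 : Hide (T.a 3 6 = T.a 6 3))
    (hs37 : Hide (T.a 3 7 = T.a 7 3))
    (hs45 : Hide (T.a 4 5 = T.a 5 4))
    (hs46 : Hide (T.a 4 6 = T.a 6 4))
    (hs47 : Hide (T.a 4 7 = T.a 7 4))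
    (hs56 : Hide (T.a 5 6 = T.a 6 5))
    (hs57 : Hide (T.a 5 7 = T.a 7 5))
    (hs67 : Hide (T.a 6 7 = T.a 7 6))
    (ha00 : Hide (T.a 0 0 = -2 * T.w 0))
    (ha11 : Hide (T.a 1 1 = -2 * T.w 1))
    (ha22 : Hide (T.a 2 2 = -2 * T.w 2))
    (ha33 : Hide (T.a 3 3 = -2 * T.w 3))
    (ha44 : Hide (T.a 4 4 = -2 * T.w 4))
    (ha55 : Hide (T.a 5 5 = -2 * T.w 5))
    (ha66 : Hide (T.a 6 6 = -2 * T.w 6))
    (ha77 : Hide (T.a 7 7 = -2 * T.w 7))
    (v0 : Hide ((1 : ℤ) + (0 : ℤ) + (0 : ℤ) + (0 : ℤ) + (0 : ℤ) + (0 : ℤ) + (0 : ℤ) ≤ 4))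
    (v1 : Hide ((1 : ℤ) + (1 : ℤ) + (1 : ℤ) + (0 : ℤ) + (0 : ℤ) + (0 : ℤ) + (0 : ℤ) ≤ 4))
    (v2 : Hide ((0 : ℤ) + (1 : ℤ) + (0 : ℤ) + (0 : ℤ) + (0 : ℤ) + (0 : ℤ) + q27 ≤ 4))
    (v3 : Hide ((0 : ℤ) + (1 : ℤ) + (0 : ℤ) + q34 + q35 + q36 + q37 ≤ 4))
    (v4 : Hide ((0 : ℤ) + (0 : ℤ) + (0 : ℤ) + q34 + q45 + q46 + q47 ≤ 4))
    (v5 : Hide ((0 : ℤ) + (0 : ℤ) + (0 : ℤ) + q35 + q45 + q56 + q57 ≤ 4))
    (v6 : Hide ((0 : ℤ) + (0 : ℤ) + (0 : ℤ) + q36 + q46 + q56 + q67 ≤ 4))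
    (v7 : Hide ((0 : ℤ) + (0 : ℤ) + q27 + q37 + q47 + q57 + q67 ≤ 4))
    (qn01 : Hide (0 ≤ (1 : ℤ)))
    (qn02 : Hide (0 ≤ (0 : ℤ)))
    (qn03 : Hide (0 ≤ (0 : ℤ)))
    (qn04 : Hide (0 ≤ (0 : ℤ)))
    (qn05 : Hide (0 ≤ (0 : ℤ)))
    (qn06 : Hide (0 ≤ (0 : ℤ)))
    (qn07 : Hide (0 ≤ (0 : ℤ)))
    (qn12 : Hide (0 ≤ (1 : ℤ)))
    (qn13 : Hide (0 ≤ (1 : ℤ)))
    (qn14 : Hide (0 ≤ (0 : ℤ)))
    (qn15 : Hide (0 ≤ (0 : ℤ)))
    (qn16 : Hide (0 ≤ (0 : ℤ)))
    (qn17 : Hide (0 ≤ (0 : ℤ)))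
    (qn23 : Hide (0 ≤ (0 : ℤ)))
    (qn24 : Hide (0 ≤ (0 : ℤ)))
    (qn25 : Hide (0 ≤ (0 : ℤ)))
    (qn26 : Hide (0 ≤ (0 : ℤ)))
    (qn27 : Hide (0 ≤ q27))
    (qn34 : Hide (0 ≤ q34))
    (qn35 : Hide (0 ≤ q35))
    (qn36 : Hide (0 ≤ q36))
    (qn37 : Hide (0 ≤ q37))
    (qn45 : Hide (0 ≤ q45))
    (qn46 : Hide (0 ≤ q46))
    (qn47 : Hide (0 ≤ q47))
    (qn56 : Hide (0 ≤ q56))
    (qn57 : Hide (0 ≤ q57))
    (qn67 : Hide (0 ≤ q67))
    (od1 : Hide (0 < (1 : ℤ)))
    (od2 : Hide (0 < (0 : ℤ) + (1 : ℤ)))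
    (od3 : Hide (0 < (0 : ℤ) + (1 : ℤ) + (0 : ℤ)))
    (od4 : Hide (0 < (0 : ℤ) + (0 : ℤ) + (0 : ℤ) + α34))
    (od5 : Hide (0 < (0 : ℤ) + (0 : ℤ) + (0 : ℤ) + α35 + α45))
    (od6 : Hide (0 < (0 : ℤ) + (0 : ℤ) + (0 : ℤ) + α36 + α46 + α56))
    (od7 : Hide (0 < (0 : ℤ) + (0 : ℤ) + α27 + α37 + α47 + α57 + α67))
    (c27 : Hide (((Hide (x27 = 0 ∧ x72 = 0) ∧ Hide (T.a 2 7 = 0 ∧ T.a 7 2 = 0) ∧ Hide (α27 = 0 ∧ α72 = 0)) ∧ q27 = 0) ∨ ((Hide (x27 = T.m 7 ∧ x72 = T.m 2) ∧ Hide (T.a 2 7 = T.w 2 ∧ T.a 7 2 = T.w 7) ∧ Hide (α27 = 1 ∧ α72 = 1)) ∧ q27 = 1) ∨ ((Hide (x27 = T.m 7 ∧ x72 = 2 * T.m 2) ∧ Hide (T.a 2 7 = T.w 2 ∧ T.a 7 2 = 2 * T.w 7) ∧ Hide (α27 = 1 ∧ α72 = 2)) ∧ q27 = 2) ∨ ((Hide (x27 = 2 * T.m 7 ∧ x72 = T.m 2) ∧ Hide (T.a 2 7 = 2 * T.w 2 ∧ T.a 7 2 = T.w 7) ∧ Hide (α27 = 2 ∧ α72 = 1)) ∧ q27 = 2) ∨ ((Hide (x27 = T.m 7 ∧ x72 = 3 * T.m 2) ∧ Hide (T.a 2 7 = T.w 2 ∧ T.a 7 2 = 3 * T.w 7) ∧ Hide (α27 = 1 ∧ α72 = 3)) ∧ q27 = 3) ∨ ((Hide (x27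 = 3 * T.m 7 ∧ x72 = T.m 2) ∧ Hide (T.a 2 7 = 3 * T.w 2 ∧ T.a 7 2 = T.w 7) ∧ Hide (α27 = 3 ∧ α72 = 1)) ∧ q27 = 3) ∨ ((Hide (x27 = T.m 7 ∧ x72 = 4 * T.m 2) ∧ Hide (T.a 2 7 = T.w 2 ∧ T.a 7 2 = 4 * T.w 7) ∧ Hide (α27 = 1 ∧ α72 = 4)) ∧ q27 = 4) ∨ ((Hide (x27 = 4 * T.m 7 ∧ x72 = T.m 2) ∧ Hide (T.a 2 7 = 4 * T.w 2 ∧ T.a 7 2 = T.w 7) ∧ Hide (α27 = 4 ∧ α72 = 1)) ∧ q27 = 4) ∨ ((Hide (x27 = 2 * T.m 7 ∧ x72 = 2 * T.m 2) ∧ Hide (T.a 2 7 = 2 * T.w 2 ∧ T.a 7 2 = 2 * T.w 7) ∧ Hide (α27 = 2 ∧ α72 = 2)) ∧ q27 = 4)))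
    (c34 : Hide (((Hide (x34 = 0 ∧ x43 = 0) ∧ Hide (T.a 3 4 = 0 ∧ T.a 4 3 = 0) ∧ Hide (α34 = 0 ∧ α43 = 0)) ∧ q34 = 0) ∨ ((Hide (x34 = T.m 4 ∧ x43 = T.m 3) ∧ Hide (T.a 3 4 = T.w 3 ∧ T.a 4 3 = T.w 4) ∧ Hide (α34 = 1 ∧ α43 = 1)) ∧ q34 = 1) ∨ ((Hide (x34 = T.m 4 ∧ x43 = 2 * T.m 3) ∧ Hide (T.a 3 4 = T.w 3 ∧ T.a 4 3 = 2 * T.w 4) ∧ Hide (α34 = 1 ∧ α43 = 2)) ∧ q34 = 2) ∨ ((Hide (x34 = 2 * T.m 4 ∧ x43 = T.m 3) ∧ Hide (T.a 3 4 = 2 * T.w 3 ∧ T.a 4 3 = T.w 4) ∧ Hide (α34 = 2 ∧ α43 = 1)) ∧ q34 = 2) ∨ ((Hide (x34 = T.m 4 ∧ x43 = 3 * T.m 3) ∧ Hide (T.a 3 4 = T.w 3 ∧ T.a 4 3 = 3 * T.w 4) ∧ Hide (α34 = 1 ∧ α43 = 3)) ∧ q34 = 3) ∨ ((Hide (x34 = 3 * T.m 4 ∧ x43 = T.m 3) ∧ Hide (T.a 3 4 = 3 * T.w 3 ∧ T.a 4 3 = T.w 4) ∧ Hide (α34 = 3 ∧ α43 = 1)) ∧ q34 = 3) ∨ ((Hide (x34 = T.m 4 ∧ x43 = 4 * T.m 3) ∧ Hide (T.a 3 4 = T.w 3 ∧ T.a 4 3 = 4 * T.w 4) ∧ Hide (α34 = 1 ∧ α43 = 4)) ∧ q34 = 4) ∨ ((Hide (x34 = 4 * T.m 4 ∧ x43 = T.m 3) ∧ Hide (T.a 3 4 = 4 * T.w 3 ∧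 T.a 4 3 = T.w 4) ∧ Hide (α34 = 4 ∧ α43 = 1)) ∧ q34 = 4) ∨ ((Hide (x34 = 2 * T.m 4 ∧ x43 = 2 * T.m 3) ∧ Hide (T.a 3 4 = 2 * T.w 3 ∧ T.a 4 3 = 2 * T.w 4) ∧ Hide (α34 = 2 ∧ α43 = 2)) ∧ q34 = 4)))
    (c35 : Hide (((Hide (x35 = 0 ∧ x53 = 0) ∧ Hide (T.a 3 5 = 0 ∧ T.a 5 3 = 0) ∧ Hide (α35 = 0 ∧ α53 = 0)) ∧ q35 = 0) ∨ ((Hide (x35 = T.m 5 ∧ x53 = T.m 3) ∧ Hide (T.a 3 5 = T.w 3 ∧ T.a 5 3 = T.w 5) ∧ Hide (α35 = 1 ∧ α53 = 1)) ∧ q35 = 1) ∨ ((Hide (x35 = T.m 5 ∧ x53 = 2 * T.m 3) ∧ Hide (T.a 3 5 = T.w 3 ∧ T.a 5 3 = 2 * T.w 5) ∧ Hide (α35 = 1 ∧ α53 = 2)) ∧ q35 = 2) ∨ ((Hide (x35 = 2 * T.m 5 ∧ x53 = T.m 3) ∧ Hide (T.a 3 5 = 2 * T.w 3 ∧ T.a 5 3 = T.w 5) ∧ Hide (α35 = 2 ∧ α53 = 1)) ∧ q35 = 2) ∨ ((Hide (x35 = T.m 5 ∧ x53 = 3 * T.m 3) ∧ Hide (T.a 3 5 = T.w 3 ∧ T.a 5 3 = 3 * T.w 5) ∧ Hide (α35 = 1 ∧ α53 = 3)) ∧ q35 = 3) ∨ ((Hide (x35 = 3 * T.m 5 ∧ x53 = T.m 3) ∧ Hide (T.a 3 5 = 3 * T.w 3 ∧ T.a 5 3 = T.w 5) ∧ Hide (α35 = 3 ∧ α53 = 1)) ∧ q35 = 3) ∨ ((Hide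 (x35 = T.m 5 ∧ x53 = 4 * T.m 3) ∧ Hide (T.a 3 5 = T.w 3 ∧ T.a 5 3 = 4 * T.w 5) ∧ Hide (α35 = 1 ∧ α53 = 4)) ∧ q35 = 4) ∨ ((Hide (x35 = 4 * T.m 5 ∧ x53 = T.m 3) ∧ Hide (T.a 3 5 = 4 * T.w 3 ∧ T.a 5 3 = T.w 5) ∧ Hide (α35 = 4 ∧ α53 = 1)) ∧ q35 = 4) ∨ ((Hide (x35 = 2 * T.m 5 ∧ x53 = 2 * T.m 3) ∧ Hide (T.a 3 5 = 2 * T.w 3 ∧ T.a 5 3 = 2 * T.w 5) ∧ Hide (α35 = 2 ∧ α53 = 2)) ∧ q35 = 4)))
    (c36 : Hide (((Hide (x36 = 0 ∧ x63 = 0) ∧ Hide (T.a 3 6 = 0 ∧ T.a 6 3 = 0) ∧ Hide (α36 = 0 ∧ α63 = 0)) ∧ q36 = 0) ∨ ((Hide (x36 = T.m 6 ∧ x63 = T.m 3) ∧ Hide (T.a 3 6 = T.w 3 ∧ T.a 6 3 = T.w 6) ∧ Hide (α36 = 1 ∧ α63 = 1)) ∧ q36 = 1) ∨ ((Hide (x36 = T.m 6 ∧ x63 = 2 * T.m 3) ∧ Hide (T.a 3 6 = T.w 3 ∧ T.a 6 3 = 2 * T.w 6) ∧ Hide (α36 = 1 ∧ α63 = 2)) ∧ q36 = 2) ∨ ((Hide (x36 = 2 * T.m 6 ∧ x63 = T.m 3) ∧ Hide (T.a 3 6 = 2 * T.w 3 ∧ T.a 6 3 = T.w 6) ∧ Hide (α36 = 2 ∧ α63 = 1)) ∧ q36 = 2) ∨ ((Hide (x36 = T.m 6 ∧ x63 = 3 * T.m 3) ∧ Hide (T.a 3 6 = T.w 3 ∧ T.a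 6 3 = 3 * T.w 6) ∧ Hide (α36 = 1 ∧ α63 = 3)) ∧ q36 = 3) ∨ ((Hide (x36 = 3 * T.m 6 ∧ x63 = T.m 3) ∧ Hide (T.a 3 6 = 3 * T.w 3 ∧ T.a 6 3 = T.w 6) ∧ Hide (α36 = 3 ∧ α63 = 1)) ∧ q36 = 3) ∨ ((Hide (x36 = T.m 6 ∧ x63 = 4 * T.m 3) ∧ Hide (T.a 3 6 = T.w 3 ∧ T.a 6 3 = 4 * T.w 6) ∧ Hide (α36 = 1 ∧ α63 = 4)) ∧ q36 = 4) ∨ ((Hide (x36 = 4 * T.m 6 ∧ x63 = T.m 3) ∧ Hide (T.a 3 6 = 4 * T.w 3 ∧ T.a 6 3 = T.w 6) ∧ Hide (α36 = 4 ∧ α63 = 1)) ∧ q36 = 4) ∨ ((Hide (x36 = 2 * T.m 6 ∧ x63 = 2 * T.m 3) ∧ Hide (T.a 3 6 = 2 * T.w 3 ∧ T.a 6 3 = 2 * T.w 6) ∧ Hide (α36 = 2 ∧ α63 = 2)) ∧ q36 = 4)))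
    (c37 : Hide (((Hide (x37 = 0 ∧ x73 = 0) ∧ Hide (T.a 3 7 = 0 ∧ T.a 7 3 = 0) ∧ Hide (α37 = 0 ∧ α73 = 0)) ∧ q37 = 0) ∨ ((Hide (x37 = T.m 7 ∧ x73 = T.m 3) ∧ Hide (T.a 3 7 = T.w 3 ∧ T.a 7 3 = T.w 7) ∧ Hide (α37 = 1 ∧ α73 = 1)) ∧ q37 = 1) ∨ ((Hide (x37 = T.m 7 ∧ x73 = 2 * T.m 3) ∧ Hide (T.a 3 7 = T.w 3 ∧ T.a 7 3 = 2 * T.w 7) ∧ Hide (α37 = 1 ∧ α73 = 2)) ∧ q37 = 2) ∨ ((Hide (x37 = 2 * T.m 7 ∧ x73 = T.m 3) ∧ Hide (T.a 3 7 = 2 * T.w 3 ∧ T.a 7 3 = T.w 7) ∧ Hide (α37 = 2 ∧ α73 = 1)) ∧ q37 = 2) ∨ ((Hide (x37 = T.m 7 ∧ x73 = 3 * T.m 3) ∧ Hide (T.a 3 7 = T.w 3 ∧ T.a 7 3 = 3 * T.w 7) ∧ Hide (α37 = 1 ∧ α73 = 3)) ∧ q37 = 3) ∨ ((Hide (x37 = 3 * T.m 7 ∧ x73 = T.m 3) ∧ Hide (T.a 3 7 = 3 * T.w 3 ∧ T.a 7 3 = T.w 7) ∧ Hide (α37 = 3 ∧ α73 = 1)) ∧ q37 = 3) ∨ ((Hide (x37 = T.m 7 ∧ x73 = 4 * T.m 3) ∧ Hide (T.a 3 7 = T.w 3 ∧ T.a 7 3 = 4 * T.w 7) ∧ Hide (α37 = 1 ∧ α73 = 4)) ∧ q37 = 4) ∨ ((Hide (x37 = 4 * T.m 7 ∧ x73 = T.m 3) ∧ Hide (T.a 3 7 = 4 * T.w 3 ∧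 T.a 7 3 = T.w 7) ∧ Hide (α37 = 4 ∧ α73 = 1)) ∧ q37 = 4) ∨ ((Hide (x37 = 2 * T.m 7 ∧ x73 = 2 * T.m 3) ∧ Hide (T.a 3 7 = 2 * T.w 3 ∧ T.a 7 3 = 2 * T.w 7) ∧ Hide (α37 = 2 ∧ α73 = 2)) ∧ q37 = 4)))
    (c45 : Hide (((Hide (x45 = 0 ∧ x54 = 0) ∧ Hide (T.a 4 5 = 0 ∧ T.a 5 4 = 0) ∧ Hide (α45 = 0 ∧ α54 = 0)) ∧ q45 = 0) ∨ ((Hide (x45 = T.m 5 ∧ x54 = T.m 4) ∧ Hide (T.a 4 5 = T.w 4 ∧ T.a 5 4 = T.w 5) ∧ Hide (α45 = 1 ∧ α54 = 1)) ∧ q45 = 1) ∨ ((Hide (x45 = T.m 5 ∧ x54 = 2 * T.m 4) ∧ Hide (T.a 4 5 = T.w 4 ∧ T.a 5 4 = 2 * T.w 5) ∧ Hide (α45 = 1 ∧ α54 = 2)) ∧ q45 = 2) ∨ ((Hide (x45 = 2 * T.m 5 ∧ x54 = T.m 4) ∧ Hide (T.a 4 5 = 2 * T.w 4 ∧ T.a 5 4 = T.w 5) ∧ Hide (α45 = 2 ∧ α54 = 1)) ∧ q45 = 2) ∨ ((Hide (x45 = T.m 5 ∧ x54 = 3 * T.m 4) ∧ Hide (T.a 4 5 = T.w 4 ∧ T.a 5 4 = 3 * T.w 5) ∧ Hide (α45 = 1 ∧ α54 = 3)) ∧ q45 = 3) ∨ ((Hide (x45 = 3 * T.m 5 ∧ x54 = T.m 4) ∧ Hide (T.a 4 5 = 3 * T.w 4 ∧ T.a 5 4 = T.w 5) ∧ Hide (α45 = 3 ∧ α54 = 1)) ∧ q45 = 3) ∨ ((Hide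 (x45 = T.m 5 ∧ x54 = 4 * T.m 4) ∧ Hide (T.a 4 5 = T.w 4 ∧ T.a 5 4 = 4 * T.w 5) ∧ Hide (α45 = 1 ∧ α54 = 4)) ∧ q45 = 4) ∨ ((Hide (x45 = 4 * T.m 5 ∧ x54 = T.m 4) ∧ Hide (T.a 4 5 = 4 * T.w 4 ∧ T.a 5 4 = T.w 5) ∧ Hide (α45 = 4 ∧ α54 = 1)) ∧ q45 = 4) ∨ ((Hide (x45 = 2 * T.m 5 ∧ x54 = 2 * T.m 4) ∧ Hide (T.a 4 5 = 2 * T.w 4 ∧ T.a 5 4 = 2 * T.w 5) ∧ Hide (α45 = 2 ∧ α54 = 2)) ∧ q45 = 4)))
    (c46 : Hide (((Hide (x46 = 0 ∧ x64 = 0) ∧ Hide (T.a 4 6 = 0 ∧ T.a 6 4 = 0) ∧ Hide (α46 = 0 ∧ α64 = 0)) ∧ q46 = 0) ∨ ((Hide (x46 = T.m 6 ∧ x64 = T.m 4) ∧ Hide (T.a 4 6 = T.w 4 ∧ T.a 6 4 = T.w 6) ∧ Hide (α46 = 1 ∧ α64 = 1)) ∧ q46 = 1) ∨ ((Hide (x46 = T.m 6 ∧ x64 = 2 * T.m 4) ∧ Hide (T.a 4 6 = T.w 4 ∧ T.a 6 4 = 2 * T.w 6) ∧ Hide (α46 = 1 ∧ α64 = 2)) ∧ q46 = 2) ∨ ((Hide (x46 = 2 * T.m 6 ∧ x64 = T.m 4) ∧ Hide (T.a 4 6 = 2 * T.w 4 ∧ T.a 6 4 = T.w 6) ∧ Hide (α46 = 2 ∧ α64 = 1)) ∧ q46 = 2) ∨ ((Hide (x46 = T.m 6 ∧ x64 = 3 * T.m 4) ∧ Hide (T.a 4 6 = T.w 4 ∧ T.a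 6 4 = 3 * T.w 6) ∧ Hide (α46 = 1 ∧ α64 = 3)) ∧ q46 = 3) ∨ ((Hide (x46 = 3 * T.m 6 ∧ x64 = T.m 4) ∧ Hide (T.a 4 6 = 3 * T.w 4 ∧ T.a 6 4 = T.w 6) ∧ Hide (α46 = 3 ∧ α64 = 1)) ∧ q46 = 3) ∨ ((Hide (x46 = T.m 6 ∧ x64 = 4 * T.m 4) ∧ Hide (T.a 4 6 = T.w 4 ∧ T.a 6 4 = 4 * T.w 6) ∧ Hide (α46 = 1 ∧ α64 = 4)) ∧ q46 = 4) ∨ ((Hide (x46 = 4 * T.m 6 ∧ x64 = T.m 4) ∧ Hide (T.a 4 6 = 4 * T.w 4 ∧ T.a 6 4 = T.w 6) ∧ Hide (α46 = 4 ∧ α64 = 1)) ∧ q46 = 4) ∨ ((Hide (x46 = 2 * T.m 6 ∧ x64 = 2 * T.m 4) ∧ Hide (T.a 4 6 = 2 * T.w 4 ∧ T.a 6 4 = 2 * T.w 6) ∧ Hide (α46 = 2 ∧ α64 = 2)) ∧ q46 = 4)))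
    (c47 : Hide (((Hide (x47 = 0 ∧ x74 = 0) ∧ Hide (T.a 4 7 = 0 ∧ T.a 7 4 = 0) ∧ Hide (α47 = 0 ∧ α74 = 0)) ∧ q47 = 0) ∨ ((Hide (x47 = T.m 7 ∧ x74 = T.m 4) ∧ Hide (T.a 4 7 = T.w 4 ∧ T.a 7 4 = T.w 7) ∧ Hide (α47 = 1 ∧ α74 = 1)) ∧ q47 = 1) ∨ ((Hide (x47 = T.m 7 ∧ x74 = 2 * T.m 4) ∧ Hide (T.a 4 7 = T.w 4 ∧ T.a 7 4 = 2 * T.w 7) ∧ Hide (α47 = 1 ∧ α74 = 2)) ∧ q47 = 2) ∨ ((Hide (x47 = 2 * T.m 7 ∧ x74 = T.m 4) ∧ Hide (T.a 4 7 = 2 * T.w 4 ∧ T.a 7 4 = T.w 7) ∧ Hide (α47 = 2 ∧ α74 = 1)) ∧ q47 = 2) ∨ ((Hide (x47 = T.m 7 ∧ x74 = 3 * T.m 4) ∧ Hide (T.a 4 7 = T.w 4 ∧ T.a 7 4 = 3 * T.w 7) ∧ Hide (α47 = 1 ∧ α74 = 3)) ∧ q47 = 3) ∨ ((Hide (x47 = 3 * T.m 7 ∧ x74 = T.m 4) ∧ Hide (T.a 4 7 = 3 * T.w 4 ∧ T.a 7 4 = T.w 7) ∧ Hide (α47 = 3 ∧ α74 = 1)) ∧ q47 = 3) ∨ ((Hide (x47 = T.m 7 ∧ x74 = 4 * T.m 4) ∧ Hide (T.a 4 7 = T.w 4 ∧ T.a 7 4 = 4 * T.w 7) ∧ Hide (α47 = 1 ∧ α74 = 4)) ∧ q47 = 4) ∨ ((Hide (x47 = 4 * T.m 7 ∧ x74 = T.m 4) ∧ Hide (T.a 4 7 = 4 * T.w 4 ∧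 T.a 7 4 = T.w 7) ∧ Hide (α47 = 4 ∧ α74 = 1)) ∧ q47 = 4) ∨ ((Hide (x47 = 2 * T.m 7 ∧ x74 = 2 * T.m 4) ∧ Hide (T.a 4 7 = 2 * T.w 4 ∧ T.a 7 4 = 2 * T.w 7) ∧ Hide (α47 = 2 ∧ α74 = 2)) ∧ q47 = 4)))
    (c56 : Hide (((Hide (x56 = 0 ∧ x65 = 0) ∧ Hide (T.a 5 6 = 0 ∧ T.a 6 5 = 0) ∧ Hide (α56 = 0 ∧ α65 = 0)) ∧ q56 = 0) ∨ ((Hide (x56 = T.m 6 ∧ x65 = T.m 5) ∧ Hide (T.a 5 6 = T.w 5 ∧ T.a 6 5 = T.w 6) ∧ Hide (α56 = 1 ∧ α65 = 1)) ∧ q56 = 1) ∨ ((Hide (x56 = T.m 6 ∧ x65 = 2 * T.m 5) ∧ Hide (T.a 5 6 = T.w 5 ∧ T.a 6 5 = 2 * T.w 6) ∧ Hide (α56 = 1 ∧ α65 = 2)) ∧ q56 = 2) ∨ ((Hide (x56 = 2 * T.m 6 ∧ x65 = T.m 5) ∧ Hide (T.a 5 6 = 2 * T.w 5 ∧ T.a 6 5 = T.w 6) ∧ Hide (α56 = 2 ∧ α65 = 1)) ∧ q56 = 2) ∨ ((Hide (x56 = T.m 6 ∧ x65 = 3 * T.m 5) ∧ Hide (T.a 5 6 = T.w 5 ∧ T.a 6 5 = 3 * T.w 6) ∧ Hide (α56 = 1 ∧ α65 = 3)) ∧ q56 = 3) ∨ ((Hide (x56 = 3 * T.m 6 ∧ x65 = T.m 5) ∧ Hide (T.a 5 6 = 3 * T.w 5 ∧ T.a 6 5 = T.w 6) ∧ Hide (α56 = 3 ∧ α65 = 1)) ∧ q56 = 3) ∨ ((Hide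 (x56 = T.m 6 ∧ x65 = 4 * T.m 5) ∧ Hide (T.a 5 6 = T.w 5 ∧ T.a 6 5 = 4 * T.w 6) ∧ Hide (α56 = 1 ∧ α65 = 4)) ∧ q56 = 4) ∨ ((Hide (x56 = 4 * T.m 6 ∧ x65 = T.m 5) ∧ Hide (T.a 5 6 = 4 * T.w 5 ∧ T.a 6 5 = T.w 6) ∧ Hide (α56 = 4 ∧ α65 = 1)) ∧ q56 = 4) ∨ ((Hide (x56 = 2 * T.m 6 ∧ x65 = 2 * T.m 5) ∧ Hide (T.a 5 6 = 2 * T.w 5 ∧ T.a 6 5 = 2 * T.w 6) ∧ Hide (α56 = 2 ∧ α65 = 2)) ∧ q56 = 4)))
    (c57 : Hide (((Hide (x57 = 0 ∧ x75 = 0) ∧ Hide (T.a 5 7 = 0 ∧ T.a 7 5 = 0) ∧ Hide (α57 = 0 ∧ α75 = 0)) ∧ q57 = 0) ∨ ((Hide (x57 = T.m 7 ∧ x75 = T.m 5) ∧ Hide (T.a 5 7 = T.w 5 ∧ T.a 7 5 = T.w 7) ∧ Hide (α57 = 1 ∧ α75 = 1)) ∧ q57 = 1) ∨ ((Hide (x57 = T.m 7 ∧ x75 = 2 * T.m 5) ∧ Hide (T.a 5 7 = T.w 5 ∧ T.a 7 5 = 2 * T.w 7) ∧ Hide (α57 = 1 ∧ α75 = 2)) ∧ q57 = 2) ∨ ((Hide (x57 = 2 * T.m 7 ∧ x75 = T.m 5) ∧ Hide (T.a 5 7 = 2 * T.w 5 ∧ T.a 7 5 = T.w 7) ∧ Hide (α57 = 2 ∧ α75 = 1)) ∧ q57 = 2) ∨ ((Hide (x57 = T.m 7 ∧ x75 = 3 * T.m 5) ∧ Hide (T.a 5 7 = T.w 5 ∧ T.a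 7 5 = 3 * T.w 7) ∧ Hide (α57 = 1 ∧ α75 = 3)) ∧ q57 = 3) ∨ ((Hide (x57 = 3 * T.m 7 ∧ x75 = T.m 5) ∧ Hide (T.a 5 7 = 3 * T.w 5 ∧ T.a 7 5 = T.w 7) ∧ Hide (α57 = 3 ∧ α75 = 1)) ∧ q57 = 3) ∨ ((Hide (x57 = T.m 7 ∧ x75 = 4 * T.m 5) ∧ Hide (T.a 5 7 = T.w 5 ∧ T.a 7 5 = 4 * T.w 7) ∧ Hide (α57 = 1 ∧ α75 = 4)) ∧ q57 = 4) ∨ ((Hide (x57 = 4 * T.m 7 ∧ x75 = T.m 5) ∧ Hide (T.a 5 7 = 4 * T.w 5 ∧ T.a 7 5 = T.w 7) ∧ Hide (α57 = 4 ∧ α75 = 1)) ∧ q57 = 4) ∨ ((Hide (x57 = 2 * T.m 7 ∧ x75 = 2 * T.m 5) ∧ Hide (T.a 5 7 = 2 * T.w 5 ∧ T.a 7 5 = 2 * T.w 7) ∧ Hide (α57 = 2 ∧ α75 = 2)) ∧ q57 = 4)))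
    (c67 : Hide (((Hide (x67 = 0 ∧ x76 = 0) ∧ Hide (T.a 6 7 = 0 ∧ T.a 7 6 = 0) ∧ Hide (α67 = 0 ∧ α76 = 0)) ∧ q67 = 0) ∨ ((Hide (x67 = T.m 7 ∧ x76 = T.m 6) ∧ Hide (T.a 6 7 = T.w 6 ∧ T.a 7 6 = T.w 7) ∧ Hide (α67 = 1 ∧ α76 = 1)) ∧ q67 = 1) ∨ ((Hide (x67 = T.m 7 ∧ x76 = 2 * T.m 6) ∧ Hide (T.a 6 7 = T.w 6 ∧ T.a 7 6 = 2 * T.w 7) ∧ Hide (α67 = 1 ∧ α76 = 2)) ∧ q67 = 2) ∨ ((Hide (x67 = 2 * T.m 7 ∧ x76 = T.m 6) ∧ Hide (T.a 6 7 = 2 * T.w 6 ∧ T.a 7 6 = T.w 7) ∧ Hide (α67 = 2 ∧ α76 = 1)) ∧ q67 = 2) ∨ ((Hide (x67 = T.m 7 ∧ x76 = 3 * T.m 6) ∧ Hide (T.a 6 7 = T.w 6 ∧ T.a 7 6 = 3 * T.w 7) ∧ Hide (α67 = 1 ∧ α76 = 3)) ∧ q67 = 3) ∨ ((Hide (x67 = 3 * T.m 7 ∧ x76 = T.m 6) ∧ Hide (T.a 6 7 = 3 * T.w 6 ∧ T.a 7 6 = T.w 7) ∧ Hide (α67 = 3 ∧ α76 = 1)) ∧ q67 = 3) ∨ ((Hide (x67 = T.m 7 ∧ x76 = 4 * T.m 6) ∧ Hide (T.a 6 7 = T.w 6 ∧ T.a 7 6 = 4 * T.w 7) ∧ Hide (α67 = 1 ∧ α76 = 4)) ∧ q67 = 4) ∨ ((Hide (x67 = 4 * T.m 7 ∧ x76 = T.m 6) ∧ Hide (T.a 6 7 = 4 * T.w 6 ∧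 T.a 7 6 = T.w 7) ∧ Hide (α67 = 4 ∧ α76 = 1)) ∧ q67 = 4) ∨ ((Hide (x67 = 2 * T.m 7 ∧ x76 = 2 * T.m 6) ∧ Hide (T.a 6 7 = 2 * T.w 6 ∧ T.a 7 6 = 2 * T.w 7) ∧ Hide (α67 = 2 ∧ α76 = 2)) ∧ q67 = 4)))
    (gw01 : Hide (T.a 0 1 = T.w 0 ∧ T.a 1 0 = T.w 1))
    (gw02 : Hide (T.a 0 2 = 0 ∧ T.a 2 0 = 0))
    (gw03 : Hide (T.a 0 3 = 0 ∧ T.a 3 0 = 0))
    (gw04 : Hide (T.a 0 4 = 0 ∧ T.a 4 0 = 0))
    (gw05 : Hide (T.a 0 5 = 0 ∧ T.a 5 0 = 0))
    (gw06 : Hide (T.a 0 6 = 0 ∧ T.a 6 0 = 0))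
    (gw07 : Hide (T.a 0 7 = 0 ∧ T.a 7 0 = 0))
    (gw12 : Hide (T.a 1 2 = T.w 1 ∧ T.a 2 1 = T.w 2))
    (gw13 : Hide (T.a 1 3 = T.w 1 ∧ T.a 3 1 = T.w 3))
    (gw14 : Hide (T.a 1 4 = 0 ∧ T.a 4 1 = 0))
    (gw15 : Hide (T.a 1 5 = 0 ∧ T.a 5 1 = 0))
    (gw16 : Hide (T.a 1 6 = 0 ∧ T.a 6 1 = 0))
    (gw17 : Hide (T.a 1 7 = 0 ∧ T.a 7 1 = 0))
    (gw23 : Hide (T.a 2 3 = 0 ∧ T.a 3 2 = 0))
    (gw24 : Hide (T.a 2 4 = 0 ∧ T.a 4 2 = 0))
    (gw25 : Hide (T.a 2 5 = 0 ∧ T.a 5 2 = 0))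
    (gw26 : Hide (T.a 2 6 = 0 ∧ T.a 6 2 = 0)) : Goal T := by
  have t := pc3 q27 c27.out (by have := v2.out; omega)
  clear c27
  rcases t with ⟨⟨⟨rfl, rfl⟩, gw27, ⟨rfl, rfl⟩⟩, rfl⟩ | ⟨⟨⟨rfl, rfl⟩, gw27, ⟨rfl, rfl⟩⟩, rfl⟩ | ⟨⟨⟨rfl, rfl⟩, gw27, ⟨rfl, rfl⟩⟩, rfl⟩ | ⟨⟨⟨rfl, rfl⟩, gw27, ⟨rfl, rfl⟩⟩, rfl⟩ | ⟨⟨⟨rfl, rfl⟩, gw27, ⟨rfl, rfl⟩⟩, rfl⟩ | ⟨⟨⟨rfl, rfl⟩, gw27, ⟨rfl, rfl⟩⟩, rfl⟩
  · have t := pc3 q34 c34.out (by have := v3.out; have := qn35.out; have := qn36.out; have := qn37.out; omega)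
    clear c34
    rcases t with ⟨⟨⟨rfl, rfl⟩, gw34, ⟨rfl, rfl⟩⟩, rfl⟩ | ⟨⟨⟨rfl, rfl⟩, gw34, ⟨rfl, rfl⟩⟩, rfl⟩ | ⟨⟨⟨rfl, rfl⟩, gw34, ⟨rfl, rfl⟩⟩, rfl⟩ | ⟨⟨⟨rfl, rfl⟩, gw34, ⟨rfl, rfl⟩⟩, rfl⟩ | ⟨⟨⟨rfl, rfl⟩, gw34, ⟨rfl, rfl⟩⟩, rfl⟩ | ⟨⟨⟨rfl, rfl⟩, gw34, ⟨rfl, rfl⟩⟩, rfl⟩
    · (have := od4.out; omega)
    · have t := pc2 q35 c35.out (by have := v3.out; have := qn36.out; have := qn37.out; omega)
      clear c35
      rcases t with ⟨⟨⟨rfl, rfl⟩, gw35, ⟨rfl, rfl⟩⟩, rfl⟩ | ⟨⟨⟨rfl, rfl⟩, gw35, ⟨rfl, rfl⟩⟩, rfl⟩ | ⟨⟨⟨rfl, rfl⟩, gw35, ⟨rfl, rfl⟩⟩, rfl⟩ | ⟨⟨⟨rfl, rfl⟩, gw35, ⟨rfl, rfl⟩⟩, rfl⟩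
      · have t := pc2 q36 c36.out (by have := v3.out; have := qn37.out; omega)
        clear c36
        rcases t with ⟨⟨⟨rfl, rfl⟩, gw36, ⟨rfl, rfl⟩⟩, rfl⟩ | ⟨⟨⟨rfl, rfl⟩, gw36, ⟨rfl, rfl⟩⟩, rfl⟩ | ⟨⟨⟨rfl, rfl⟩, gw36, ⟨rfl, rfl⟩⟩, rfl⟩ | ⟨⟨⟨rfl, rfl⟩, gw36, ⟨rfl, rfl⟩⟩, rfl⟩
        · have t := pc2 q37 c37.out (by have := v3.out; omega)
          clear c37
          rcases t with ⟨⟨⟨rfl, rfl⟩, gw37, ⟨rfl, rfl⟩⟩, rfl⟩ | ⟨⟨⟨rfl, rfl⟩, gw37, ⟨rfl, rfl⟩⟩, rfl⟩ | ⟨⟨⟨rfl, rfl⟩, gw37, ⟨rfl, rfl⟩⟩, rfl⟩ | ⟨⟨⟨rfl, rfl⟩, gw37, ⟨rfl, rfl⟩⟩, rfl⟩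
          · have t := pc3 q45 c45.out (by have := v4.out; have := qn46.out; have := qn47.out; omega)
            clear c45
            rcases t with ⟨⟨⟨rfl, rfl⟩, gw45, ⟨rfl, rfl⟩⟩, rfl⟩ | ⟨⟨⟨rfl, rfl⟩, gw45, ⟨rfl, rfl⟩⟩, rfl⟩ | ⟨⟨⟨rfl, rfl⟩, gw45, ⟨rfl, rfl⟩⟩, rfl⟩ | ⟨⟨⟨rfl, rfl⟩, gw45, ⟨rfl, rfl⟩⟩, rfl⟩ | ⟨⟨⟨rfl, rfl⟩, gw45, ⟨rfl, rfl⟩⟩, rfl⟩ | ⟨⟨⟨rfl, rfl⟩, gw45, ⟨rfl, rfl⟩⟩, rfl⟩
            · (have := od5.out; omega)
            · have t := pc2 q46 c46.out (by have := v4.out; have := qn47.out; omega)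
              clear c46
              rcases t with ⟨⟨⟨rfl, rfl⟩, gw46, ⟨rfl, rfl⟩⟩, rfl⟩ | ⟨⟨⟨rfl, rfl⟩, gw46, ⟨rfl, rfl⟩⟩, rfl⟩ | ⟨⟨⟨rfl, rfl⟩, gw46, ⟨rfl, rfl⟩⟩, rfl⟩ | ⟨⟨⟨rfl, rfl⟩, gw46, ⟨rfl, rfl⟩⟩, rfl⟩
              · have t := pc2 q47 c47.out (by have := v4.out; omega)
                clear c47
                rcases t with ⟨⟨⟨rfl, rfl⟩, gw47, ⟨rfl, rfl⟩⟩, rfl⟩ | ⟨⟨⟨rfl, rfl⟩, gw47, ⟨rfl, rfl⟩⟩, rfl⟩ | ⟨⟨⟨rfl, rfl⟩, gw47, ⟨rfl, rfl⟩⟩, rfl⟩ | ⟨⟨⟨rfl, rfl⟩, gw47, ⟨rfl, rfl⟩⟩, rfl⟩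
                · have t := pc3 q56 c56.out (by have := v5.out; have := qn57.out; omega)
                  clear c56
                  rcases t with ⟨⟨⟨rfl, rfl⟩, gw56, ⟨rfl, rfl⟩⟩, rfl⟩ | ⟨⟨⟨rfl, rfl⟩, gw56, ⟨rfl, rfl⟩⟩, rfl⟩ | ⟨⟨⟨rfl, rfl⟩, gw56, ⟨rfl, rfl⟩⟩, rfl⟩ | ⟨⟨⟨rfl, rfl⟩, gw56, ⟨rfl, rfl⟩⟩, rfl⟩ | ⟨⟨⟨rfl, rfl⟩, gw56, ⟨rfl, rfl⟩⟩, rfl⟩ | ⟨⟨⟨rfl, rfl⟩, gw56, ⟨rfl, rfl⟩⟩, rfl⟩
                  · (have := od6.out; omega)
                  · have t := pc2 q57 c57.out (by have := v5.out; omega)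
                    clear c57
                    rcases t with ⟨⟨⟨rfl, rfl⟩, gw57, ⟨rfl, rfl⟩⟩, rfl⟩ | ⟨⟨⟨rfl, rfl⟩, gw57, ⟨rfl, rfl⟩⟩, rfl⟩ | ⟨⟨⟨rfl, rfl⟩, gw57, ⟨rfl, rfl⟩⟩, rfl⟩ | ⟨⟨⟨rfl, rfl⟩, gw57, ⟨rfl, rfl⟩⟩, rfl⟩
                    · have t := pc3 q67 c67.out (by have := v6.out; omega)
                      clear c67
                      rcases t with ⟨⟨⟨rfl, rfl⟩, gw67, ⟨rfl, rfl⟩⟩, rfl⟩ | ⟨⟨⟨rfl, rfl⟩, gw67, ⟨rfl, rfl⟩⟩, rfl⟩ | ⟨⟨⟨rfl, rfl⟩, gw67, ⟨rfl, rfl⟩⟩, rfl⟩ | ⟨⟨⟨rfl, rfl⟩, gw67, ⟨rfl, rfl⟩⟩, rfl⟩ | ⟨⟨⟨rfl, rfl⟩, gw67, ⟨rfl, rfl⟩⟩, rfl⟩ | ⟨⟨⟨rfl, rfl⟩, gw67, ⟨rfl, rfl⟩⟩, rfl⟩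
                      · (have := od7.out; omega)
                      · (have := hm0.out; have := om7.out; have := e0.out; have := e1.out; have := e2.out; have := e3.out; have := e5.out; have := e6.out; have := e7.out; omega)
                      · have := hm0.out
                        have := hm1.out
                        have := hm2.out
                        have := hm3.out
                        have := hm4.out
                        have := hm5.out
                        have := hm6.out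
                        have := hm7.out
                        have := e0.out
                        have := e1.out
                        have := e2.out
                        have := e3.out
                        have := e4.out
                        have := e5.out
                        have := e6.out
                        have := e7.out
                        have := hw0.out
                        have := hw1.out
                        have := hw2.out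
                        have := hw3.out
                        have := hw4.out
                        have := hw5.out
                        have := hw6.out
                        have := hw7.out
                        have := hs01.out
                        have := hs02.out
                        have := hs03.out
                        have := hs04.out
                        have := hs05.out
                        have := hs06.out
                        have := hs07.out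
                        have := hs12.out
                        have := hs13.out
                        have := hs14.out
                        have := hs15.out
                        have := hs16.out
                        have := hs17.out
                        have := hs23.out
                        have := hs24.out
                        have := hs25.out
                        have := hs26.out
                        have := hs27.out
                        have := hs34.out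
                        have := hs35.out
                        have := hs36.out
                        have := hs37.out
                        have := hs45.out
                        have := hs46.out
                        have := hs47.out
                        have := hs56.out
                        have := hs57.out
                        have := hs67.out
                        have := ha00.out
                        have := ha11.out
                        have := ha22.out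
                        have := ha33.out
                        have := ha44.out
                        have := ha55.out
                        have := ha66.out
                        have := ha77.out
                        have := gw01.out
                        have := gw02.out
                        have := gw03.out
                        have := gw04.out
                        have := gw05.out
                        have := gw06.out
                        have := gw07.out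
                        have := gw12.out
                        have := gw13.out
                        have := gw14.out
                        have := gw15.out
                        have := gw16.out
                        have := gw17.out
                        have := gw23.out
                        have := gw24.out
                        have := gw25.out
                        have := gw26.out
                        have := gw27.out
                        have := gw34.out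
                        have := gw35.out
                        have := gw36.out
                        have := gw37.out
                        have := gw45.out
                        have := gw46.out
                        have := gw47.out
                        have := gw56.out
                        have := gw57.out
                        have := gw67.out
                        exact ⟨p76543102, T.m 0, T.w 7, Or.inr (Or.inr (Or.inr (Or.inr (Or.inr (Or.inl ((show T.m 7 = 2 * T.m 0 ∧ T.m 6 = 2 * T.m 0 ∧ T.m 5 = 2 * T.m 0 ∧ T.m 4 = 2 * T.m 0 ∧ T.m 3 = 2 * T.m 0 ∧ T.m 1 = 2 * T.m 0 ∧ T.m 0 = T.m 0 ∧ T.m 2 = T.m 0 ∧ T.w 7 = T.w 7 ∧ T.w 6 = 2 * T.w 7 ∧ T.w 5 = 2 * T.w 7 ∧ T.w 4 = 2 * T.w 7 ∧ T.w 3 = 2 * T.w 7 ∧ T.w 1 = 2 * T.w 7 ∧ T.w 0 = 2 * T.w 7 ∧ T.w 2 = 2 * T.w 7 ∧ T.a 7 7 = -2 * T.w 7 ∧ T.a 7 6 = 2 * T.w 7 ∧ T.a 7 5 = 0 ∧ T.a 7 4 = 0 ∧ T.a 7 3 = 0 ∧ T.a 7 1 = 0 ∧ T.a 7 0 = 0 ∧ T.a 7 2 = 0 ∧ T.a 6 6 = -4 * T.w 7 ∧ T.a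 6 5 = 2 * T.w 7 ∧ T.a 6 4 = 0 ∧ T.a 6 3 = 0 ∧ T.a 6 1 = 0 ∧ T.a 6 0 = 0 ∧ T.a 6 2 = 0 ∧ T.a 5 5 = -4 * T.w 7 ∧ T.a 5 4 = 2 * T.w 7 ∧ T.a 5 3 = 0 ∧ T.a 5 1 = 0 ∧ T.a 5 0 = 0 ∧ T.a 5 2 = 0 ∧ T.a 4 4 = -4 * T.w 7 ∧ T.a 4 3 = 2 * T.w 7 ∧ T.a 4 1 = 0 ∧ T.a 4 0 = 0 ∧ T.a 4 2 = 0 ∧ T.a 3 3 = -4 * T.w 7 ∧ T.a 3 1 = 2 * T.w 7 ∧ T.a 3 0 = 0 ∧ T.a 3 2 = 0 ∧ T.a 1 1 = -4 * T.w 7 ∧ T.a 1 0 = 2 * T.w 7 ∧ T.a 1 2 = 2 * T.w 7 ∧ T.a 0 0 = -4 * T.w 7 ∧ T.a 0 2 = 0 ∧ T.a 2 2 = -4 * T.w 7 from by omega)))))))⟩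
                      · have := hm0.out
                        have := hm1.out
                        have := hm2.out
                        have := hm3.out
                        have := hm4.out
                        have := hm5.out
                        have := hm6.out
                        have := hm7.out
                        have := e0.out
                        have := e1.out
                        have := e2.out
                        have := e3.out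
                        have := e4.out
                        have := e5.out
                        have := e6.out
                        have := e7.out
                        have := hw0.out
                        have := hw1.out
                        have := hw2.out
                        have := hw3.out
                        have := hw4.out
                        have := hw5.out
                        have := hw6.out
                        have := hw7.out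
                        have := hs01.out
                        have := hs02.out
                        have := hs03.out
                        have := hs04.out
                        have := hs05.out
                        have := hs06.out
                        have := hs07.out
                        have := hs12.out
                        have := hs13.out
                        have := hs14.out
                        have := hs15.out
                        have := hs16.out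
                        have := hs17.out
                        have := hs23.out
                        have := hs24.out
                        have := hs25.out
                        have := hs26.out
                        have := hs27.out
                        have := hs34.out
                        have := hs35.out
                        have := hs36.out
                        have := hs37.out
                        have := hs45.out
                        have := hs46.out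
                        have := hs47.out
                        have := hs56.out
                        have := hs57.out
                        have := hs67.out
                        have := ha00.out
                        have := ha11.out
                        have := ha22.out
                        have := ha33.out
                        have := ha44.out
                        have := ha55.out
                        have := ha66.out
                        have := ha77.out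
                        have := gw01.out
                        have := gw02.out
                        have := gw03.out
                        have := gw04.out
                        have := gw05.out
                        have := gw06.out
                        have := gw07.out
                        have := gw12.out
                        have := gw13.out
                        have := gw14.out
                        have := gw15.out
                        have := gw16.out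
                        have := gw17.out
                        have := gw23.out
                        have := gw24.out
                        have := gw25.out
                        have := gw26.out
                        have := gw27.out
                        have := gw34.out
                        have := gw35.out
                        have := gw36.out
                        have := gw37.out
                        have := gw45.out
                        have := gw46.out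
                        have := gw47.out
                        have := gw56.out
                        have := gw57.out
                        have := gw67.out
                        exact ⟨p76543102, T.m 7, T.w 6, Or.inr (Or.inr (Or.inr (Or.inr (Or.inl ((show T.m 7 = T.m 7 ∧ T.m 6 = 2 * T.m 7 ∧ T.m 5 = 2 * T.m 7 ∧ T.m 4 = 2 * T.m 7 ∧ T.m 3 = 2 * T.m 7 ∧ T.m 1 = 2 * T.m 7 ∧ T.m 0 = T.m 7 ∧ T.m 2 = T.m 7 ∧ T.w 7 = 2 * T.w 6 ∧ T.w 6 = T.w 6 ∧ T.w 5 = T.w 6 ∧ T.w 4 = T.w 6 ∧ T.w 3 = T.w 6 ∧ T.w 1 = T.w 6 ∧ T.w 0 = T.w 6 ∧ T.w 2 = T.w 6 ∧ T.a 7 7 = -4 * T.w 6 ∧ T.a 7 6 = 2 * T.w 6 ∧ T.a 7 5 = 0 ∧ T.a 7 4 = 0 ∧ T.a 7 3 = 0 ∧ T.a 7 1 = 0 ∧ T.a 7 0 = 0 ∧ T.a 7 2 = 0 ∧ T.a 6 6 = -2 * T.w 6 ∧ T.a 6 5 = T.w 6 ∧ T.a 6 4 = 0 ∧ T.a 6 3 = 0 ∧ T.a 6 1 = 0 ∧ T.a 6 0 = 0 ∧ T.a 6 2 = 0 ∧ T.a 5 5 = -2 * T.w 6 ∧ T.a 5 4 = T.w 6 ∧ T.a 5 3 = 0 ∧ T.a 5 1 = 0 ∧ T.a 5 0 = 0 ∧ T.a 5 2 = 0 ∧ T.a 4 4 = -2 * T.w 6 ∧ T.a 4 3 = T.w 6 ∧ T.a 4 1 = 0 ∧ T.a 4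 0 = 0 ∧ T.a 4 2 = 0 ∧ T.a 3 3 = -2 * T.w 6 ∧ T.a 3 1 = T.w 6 ∧ T.a 3 0 = 0 ∧ T.a 3 2 = 0 ∧ T.a 1 1 = -2 * T.w 6 ∧ T.a 1 0 = T.w 6 ∧ T.a 1 2 = T.w 6 ∧ T.a 0 0 = -2 * T.w 6 ∧ T.a 0 2 = 0 ∧ T.a 2 2 = -2 * T.w 6 from by omega))))))⟩
                      · (have := hm4.out; have := e5.out; have := e6.out; have := e7.out; omega)
                      · (have := hm4.out; have := e5.out; have := e6.out; have := e7.out; omega)
                    · have t := pc3 q67 c67.out (by have := v6.out; omega)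
                      clear c67
                      rcases t with ⟨⟨⟨rfl, rfl⟩, gw67, ⟨rfl, rfl⟩⟩, rfl⟩ | ⟨⟨⟨rfl, rfl⟩, gw67, ⟨rfl, rfl⟩⟩, rfl⟩ | ⟨⟨⟨rfl, rfl⟩, gw67, ⟨rfl, rfl⟩⟩, rfl⟩ | ⟨⟨⟨rfl, rfl⟩, gw67, ⟨rfl, rfl⟩⟩, rfl⟩ | ⟨⟨⟨rfl, rfl⟩, gw67, ⟨rfl, rfl⟩⟩, rfl⟩ | ⟨⟨⟨rfl, rfl⟩, gw67, ⟨rfl, rfl⟩⟩, rfl⟩
                      · have := hm0.out
                        have := hm1.out
                        have := hm2.out
                        have := hm3.out
                        have := hm4.out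
                        have := hm5.out
                        have := hm6.out
                        have := hm7.out
                        have := e0.out
                        have := e1.out
                        have := e2.out
                        have := e3.out
                        have := e4.out
                        have := e5.out
                        have := e6.out
                        have := e7.out
                        have := hw0.out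
                        have := hw1.out
                        have := hw2.out
                        have := hw3.out
                        have := hw4.out
                        have := hw5.out
                        have := hw6.out
                        have := hw7.out
                        have := hs01.out
                        have := hs02.out
                        have := hs03.out
                        have := hs04.out
                        have := hs05.out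
                        have := hs06.out
                        have := hs07.out
                        have := hs12.out
                        have := hs13.out
                        have := hs14.out
                        have := hs15.out
                        have := hs16.out
                        have := hs17.out
                        have := hs23.out
                        have := hs24.out
                        have := hs25.out
                        have := hs26.out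
                        have := hs27.out
                        have := hs34.out
                        have := hs35.out
                        have := hs36.out
                        have := hs37.out
                        have := hs45.out
                        have := hs46.out
                        have := hs47.out
                        have := hs56.out
                        have := hs57.out
                        have := hs67.out
                        have := ha00.out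
                        have := ha11.out
                        have := ha22.out
                        have := ha33.out
                        have := ha44.out
                        have := ha55.out
                        have := ha66.out
                        have := ha77.out
                        have := gw01.out
                        have := gw02.out
                        have := gw03.out
                        have := gw04.out
                        have := gw05.out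
                        have := gw06.out
                        have := gw07.out
                        have := gw12.out
                        have := gw13.out
                        have := gw14.out
                        have := gw15.out
                        have := gw16.out
                        have := gw17.out
                        have := gw23.out
                        have := gw24.out
                        have := gw25.out
                        have := gw26.out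
                        have := gw27.out
                        have := gw34.out
                        have := gw35.out
                        have := gw36.out
                        have := gw37.out
                        have := gw45.out
                        have := gw46.out
                        have := gw47.out
                        have := gw56.out
                        have := gw57.out
                        have := gw67.out
                        exact ⟨p02134567, T.m 0, T.w 0, Or.inr (Or.inr (Or.inr (Or.inr (Or.inr (Or.inr (Or.inl ((show T.m 0 = T.m 0 ∧ T.m 2 = T.m 0 ∧ T.m 1 = 2 * T.m 0 ∧ T.m 3 = 2 * T.m 0 ∧ T.m 4 = 2 * T.m 0 ∧ T.m 5 = 2 * T.m 0 ∧ T.m 6 = T.m 0 ∧ T.m 7 = T.m 0 ∧ T.w 0 = T.w 0 ∧ T.w 2 = T.w 0 ∧ T.w 1 = T.w 0 ∧ T.w 3 = T.w 0 ∧ T.w 4 = T.w 0 ∧ T.w 5 = T.w 0 ∧ T.w 6 = T.w 0 ∧ T.w 7 = T.w 0 ∧ T.a 0 0 = -2 * T.w 0 ∧ T.a 0 2 = 0 ∧ T.a 0 1 = T.w 0 ∧ T.a 0 3 = 0 ∧ T.a 0 4 = 0 ∧ T.a 0 5 = 0 ∧ T.a 0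 6 = 0 ∧ T.a 0 7 = 0 ∧ T.a 2 2 = -2 * T.w 0 ∧ T.a 2 1 = T.w 0 ∧ T.a 2 3 = 0 ∧ T.a 2 4 = 0 ∧ T.a 2 5 = 0 ∧ T.a 2 6 = 0 ∧ T.a 2 7 = 0 ∧ T.a 1 1 = -2 * T.w 0 ∧ T.a 1 3 = T.w 0 ∧ T.a 1 4 = 0 ∧ T.a 1 5 = 0 ∧ T.a 1 6 = 0 ∧ T.a 1 7 = 0 ∧ T.a 3 3 = -2 * T.w 0 ∧ T.a 3 4 = T.w 0 ∧ T.a 3 5 = 0 ∧ T.a 3 6 = 0 ∧ T.a 3 7 = 0 ∧ T.a 4 4 = -2 * T.w 0 ∧ T.a 4 5 = T.w 0 ∧ T.a 4 6 = 0 ∧ T.a 4 7 = 0 ∧ T.a 5 5 = -2 * T.w 0 ∧ T.a 5 6 = T.w 0 ∧ T.a 5 7 = T.w 0 ∧ T.a 6 6 = -2 * T.w 0 ∧ T.a 6 7 = 0 ∧ T.a 7 7 = -2 * T.w 0 from by omega))))))))⟩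
                      · (have := hm4.out; have := e5.out; have := e6.out; have := e7.out; omega)
                      · (have := hm4.out; have := hm6.out; have := e5.out; have := e6.out; have := e7.out; omega)
                      · (have := hm4.out; have := hm7.out; have := e5.out; have := e6.out; have := e7.out; omega)
                      · (have := hm0.out; have := om6.out; have := e0.out; have := e1.out; have := e2.out; have := e3.out; have := e5.out; have := e6.out; have := e7.out; omega)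
                      · (have := hm1.out; have := om6.out; have := e0.out; have := e3.out; have := e4.out; have := e5.out; have := e6.out; have := e7.out; omega)
                    · (have := hm6.out; have := om2.out; have := e0.out; have := e1.out; have := e3.out; have := e4.out; have := e5.out; have := e7.out; have := r76.out; omega)
                    · (have := hm6.out; have := om2.out; have := e0.out; have := e1.out; have := e3.out; have := e4.out; have := e5.out; have := e7.out; have := r76.out; omega)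
                  · have t := pc1 q57 c57.out (by have := v5.out; omega)
                    clear c57
                    rcases t with ⟨⟨⟨rfl, rfl⟩, gw57, ⟨rfl, rfl⟩⟩, rfl⟩ | ⟨⟨⟨rfl, rfl⟩, gw57, ⟨rfl, rfl⟩⟩, rfl⟩
                    · have t := pc2 q67 c67.out (by have := v6.out; omega)
                      clear c67
                      rcases t with ⟨⟨⟨rfl, rfl⟩, gw67, ⟨rfl, rfl⟩⟩, rfl⟩ | ⟨⟨⟨rfl, rfl⟩, gw67, ⟨rfl, rfl⟩⟩, rfl⟩ | ⟨⟨⟨rfl, rfl⟩, gw67, ⟨rfl, rfl⟩⟩, rfl⟩ | ⟨⟨⟨rfl, rfl⟩, gw67, ⟨rfl, rfl⟩⟩, rfl⟩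
                      · (have := od7.out; omega)
                      · (have := hm1.out; have := e3.out; have := e4.out; have := e5.out; have := e6.out; have := e7.out; omega)
                      · (have := hm4.out; have := e5.out; have := e6.out; have := e7.out; omega)
                      · (have := hm4.out; have := e5.out; have := e6.out; have := e7.out; omega)
                    · (have := hm7.out; have := om2.out; have := e0.out; have := e1.out; have := e3.out; have := e4.out; have := e5.out; have := e6.out; have := r67.out; omega)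
                  · have t := pc1 q57 c57.out (by have := v5.out; omega)
                    clear c57
                    rcases t with ⟨⟨⟨rfl, rfl⟩, gw57, ⟨rfl, rfl⟩⟩, rfl⟩ | ⟨⟨⟨rfl, rfl⟩, gw57, ⟨rfl, rfl⟩⟩, rfl⟩
                    · have t := pc2 q67 c67.out (by have := v6.out; omega)
                      clear c67
                      rcases t with ⟨⟨⟨rfl, rfl⟩, gw67, ⟨rfl, rfl⟩⟩, rfl⟩ | ⟨⟨⟨rfl, rfl⟩, gw67, ⟨rfl, rfl⟩⟩, rfl⟩ | ⟨⟨⟨rfl, rfl⟩, gw67, ⟨rfl, rfl⟩⟩, rfl⟩ | ⟨⟨⟨rfl, rfl⟩, gw67, ⟨rfl, rfl⟩⟩, rfl⟩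
                      · (have := od7.out; omega)
                      · (have := hm1.out; have := e3.out; have := e4.out; have := e5.out; have := e6.out; have := e7.out; omega)
                      · (have := hm4.out; have := e5.out; have := e6.out; have := e7.out; omega)
                      · (have := hm4.out; have := e5.out; have := e6.out; have := e7.out; omega)
                    · (have := hm7.out; have := om2.out; have := e0.out; have := e1.out; have := e3.out; have := e4.out; have := e5.out; have := e6.out; have := r67.out; omega)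
                  · (have := hm3.out; have := e4.out; have := e5.out; have := r57.out; have := e6.out; have := r67.out; omega)
                  · (have := hm3.out; have := e4.out; have := e5.out; have := r57.out; have := e6.out; have := r67.out; omega)
                · have t := pc3 q56 c56.out (by have := v5.out; have := qn57.out; omega)
                  clear c56
                  rcases t with ⟨⟨⟨rfl, rfl⟩, gw56, ⟨rfl, rfl⟩⟩, rfl⟩ | ⟨⟨⟨rfl, rfl⟩, gw56, ⟨rfl, rfl⟩⟩, rfl⟩ | ⟨⟨⟨rfl, rfl⟩, gw56, ⟨rfl, rfl⟩⟩, rfl⟩ | ⟨⟨⟨rfl, rfl⟩, gw56, ⟨rfl, rfl⟩⟩, rfl⟩ | ⟨⟨⟨rfl, rfl⟩, gw56, ⟨rfl, rfl⟩⟩, rfl⟩ | ⟨⟨⟨rfl, rfl⟩, gw56, ⟨rfl, rfl⟩⟩, rfl⟩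
                  · (have := od6.out; omega)
                  · (have := hm6.out; have := om2.out; have := e0.out; have := e1.out; have := e3.out; have := e4.out; have := e5.out; have := r57.out; have := e7.out; have := r75.out; have := r76.out; omega)
                  · (have := hm7.out; have := om2.out; have := e0.out; have := e1.out; have := e3.out; have := e4.out; have := e5.out; have := r57.out; have := e6.out; have := r67.out; omega)
                  · (have := hm7.out; have := om2.out; have := e0.out; have := e1.out; have := e3.out; have := e4.out; have := e5.out; have := r57.out; have := e6.out; have := r67.out; omega)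
                  · (have := hm1.out; have := om7.out; have := e1.out; have := e2.out; have := e4.out; have := e5.out; have := r57.out; have := e6.out; have := r67.out; omega)
                  · (have := hm1.out; have := om7.out; have := e1.out; have := e2.out; have := e4.out; have := e5.out; have := r57.out; have := e6.out; have := r67.out; omega)
                · (have := hm5.out; have := om2.out; have := e0.out; have := e1.out; have := e3.out; have := e4.out; have := e7.out; have := r75.out; have := r76.out; omega)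
                · (have := hm5.out; have := om2.out; have := e0.out; have := e1.out; have := e3.out; have := e4.out; have := e7.out; have := r75.out; have := r76.out; omega)
              · have t := pc1 q47 c47.out (by have := v4.out; omega)
                clear c47
                rcases t with ⟨⟨⟨rfl, rfl⟩, gw47, ⟨rfl, rfl⟩⟩, rfl⟩ | ⟨⟨⟨rfl, rfl⟩, gw47, ⟨rfl, rfl⟩⟩, rfl⟩
                · have t := pc3 q56 c56.out (by have := v5.out; have := qn57.out; omega)
                  clear c56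
                  rcases t with ⟨⟨⟨rfl, rfl⟩, gw56, ⟨rfl, rfl⟩⟩, rfl⟩ | ⟨⟨⟨rfl, rfl⟩, gw56, ⟨rfl, rfl⟩⟩, rfl⟩ | ⟨⟨⟨rfl, rfl⟩, gw56, ⟨rfl, rfl⟩⟩, rfl⟩ | ⟨⟨⟨rfl, rfl⟩, gw56, ⟨rfl, rfl⟩⟩, rfl⟩ | ⟨⟨⟨rfl, rfl⟩, gw56, ⟨rfl, rfl⟩⟩, rfl⟩ | ⟨⟨⟨rfl, rfl⟩, gw56, ⟨rfl, rfl⟩⟩, rfl⟩
                  · have t := pc3 q57 c57.out (by have := v5.out; omega)
                    clear c57
                    rcases t with ⟨⟨⟨rfl, rfl⟩, gw57, ⟨rfl, rfl⟩⟩, rfl⟩ | ⟨⟨⟨rfl, rfl⟩, gw57, ⟨rfl, rfl⟩⟩, rfl⟩ | ⟨⟨⟨rfl, rfl⟩, gw57, ⟨rfl, rfl⟩⟩, rfl⟩ | ⟨⟨⟨rfl, rfl⟩, gw57, ⟨rfl, rfl⟩⟩, rfl⟩ | ⟨⟨⟨rfl, rfl⟩, gw57, ⟨rfl, rfl⟩⟩, rfl⟩ | ⟨⟨⟨rfl, rfl⟩, gw57, ⟨rfl, rfl⟩⟩, rfl⟩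
                    · have t := pc3 q67 c67.out (by have := v6.out; omega)
                      clear c67
                      rcases t with ⟨⟨⟨rfl, rfl⟩, gw67, ⟨rfl, rfl⟩⟩, rfl⟩ | ⟨⟨⟨rfl, rfl⟩, gw67, ⟨rfl, rfl⟩⟩, rfl⟩ | ⟨⟨⟨rfl, rfl⟩, gw67, ⟨rfl, rfl⟩⟩, rfl⟩ | ⟨⟨⟨rfl, rfl⟩, gw67, ⟨rfl, rfl⟩⟩, rfl⟩ | ⟨⟨⟨rfl, rfl⟩, gw67, ⟨rfl, rfl⟩⟩, rfl⟩ | ⟨⟨⟨rfl, rfl⟩, gw67, ⟨rfl, rfl⟩⟩, rfl⟩
                      · (have := od7.out; omega)
                      · (have := hm7.out; have := om2.out; have := e0.out; have := e1.out; have := e3.out; have := e4.out; have := e5.out; have := e6.out; omega)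
                      · (have := hm1.out; have := e3.out; have := e4.out; have := e5.out; have := e6.out; have := e7.out; omega)
                      · (have := hm1.out; have := e3.out; have := e4.out; have := e5.out; have := e6.out; have := e7.out; omega)
                      · (have := hm1.out; have := om5.out; have := e1.out; have := e2.out; have := e4.out; have := e6.out; have := e7.out; omega)
                      · (have := hm1.out; have := om5.out; have := e1.out; have := e2.out; have := e4.out; have := e6.out; have := e7.out; omega)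
                    · (have := hm7.out; have := om2.out; have := e0.out; have := e1.out; have := e3.out; have := e4.out; have := e5.out; have := e6.out; have := r67.out; omega)
                    · (have := hm7.out; have := om2.out; have := e0.out; have := e1.out; have := e3.out; have := e4.out; have := e5.out; have := e6.out; have := r67.out; omega)
                    · (have := hm7.out; have := om2.out; have := e0.out; have := e1.out; have := e3.out; have := e4.out; have := e5.out; have := e6.out; have := r67.out; omega)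
                    · (have := hm1.out; have := om6.out; have := e1.out; have := e2.out; have := e4.out; have := e5.out; have := e7.out; have := r76.out; omega)
                    · (have := hm1.out; have := om6.out; have := e1.out; have := e2.out; have := e4.out; have := e5.out; have := e7.out; have := r76.out; omega)
                  · (have := hm0.out; have := hm5.out; have := e1.out; have := e2.out; have := e3.out; have := e4.out; have := e5.out; have := r57.out; have := e6.out; have := r67.out; omega)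
                  · (have := hm1.out; have := om5.out; have := e1.out; have := e2.out; have := e4.out; have := e5.out; have := r57.out; have := e6.out; have := r67.out; omega)
                  · (have := hm1.out; have := hm5.out; have := e3.out; have := e4.out; have := e5.out; have := r57.out; have := e6.out; have := r67.out; omega)
                  · (have := hm0.out; have := om2.out; have := om5.out; have := e0.out; have := e1.out; have := e3.out; have := e4.out; have := e6.out; have := r67.out; omega)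
                  · (have := hm0.out; have := om2.out; have := om6.out; have := e0.out; have := e1.out; have := e3.out; have := e4.out; have := e5.out; have := r57.out; omega)
                · (have := hm1.out; have := e3.out; have := e4.out; have := e5.out; have := r56.out; have := r57.out; have := e6.out; have := r65.out; have := r67.out; have := e7.out; have := r75.out; have := r76.out; omega)
              · (have := hm5.out; have := om2.out; have := e0.out; have := e1.out; have := e3.out; have := e4.out; have := r47.out; have := e6.out; have := r65.out; have := r67.out; omega)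
              · (have := hm5.out; have := om2.out; have := e0.out; have := e1.out; have := e3.out; have := e4.out; have := r47.out; have := e6.out; have := r65.out; have := r67.out; omega)
            · have t := pc1 q46 c46.out (by have := v4.out; have := qn47.out; omega)
              clear c46
              rcases t with ⟨⟨⟨rfl, rfl⟩, gw46, ⟨rfl, rfl⟩⟩, rfl⟩ | ⟨⟨⟨rfl, rfl⟩, gw46, ⟨rfl, rfl⟩⟩, rfl⟩
              · have t := pc1 q47 c47.out (by have := v4.out; omega)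
                clear c47
                rcases t with ⟨⟨⟨rfl, rfl⟩, gw47, ⟨rfl, rfl⟩⟩, rfl⟩ | ⟨⟨⟨rfl, rfl⟩, gw47, ⟨rfl, rfl⟩⟩, rfl⟩
                · have t := pc2 q56 c56.out (by have := v5.out; have := qn57.out; omega)
                  clear c56
                  rcases t with ⟨⟨⟨rfl, rfl⟩, gw56, ⟨rfl, rfl⟩⟩, rfl⟩ | ⟨⟨⟨rfl, rfl⟩, gw56, ⟨rfl, rfl⟩⟩, rfl⟩ | ⟨⟨⟨rfl, rfl⟩, gw56, ⟨rfl, rfl⟩⟩, rfl⟩ | ⟨⟨⟨rfl, rfl⟩, gw56, ⟨rfl, rfl⟩⟩, rfl⟩
                  · (have := od6.out; omega)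
                  · (have := hm6.out; have := e0.out; have := e1.out; have := e2.out; have := e3.out; have := e4.out; have := e5.out; have := r57.out; omega)
                  · (have := hm6.out; have := om2.out; have := e0.out; have := e1.out; have := e3.out; have := e4.out; have := e5.out; have := r57.out; omega)
                  · (have := hm6.out; have := om2.out; have := e0.out; have := e1.out; have := e3.out; have := e4.out; have := e5.out; have := r57.out; omega)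
                · (have := hm7.out; have := om2.out; have := e0.out; have := e1.out; have := e3.out; have := e4.out; have := e5.out; have := r56.out; have := r57.out; omega)
              · (have := hm6.out; have := om2.out; have := e0.out; have := e1.out; have := e3.out; have := e4.out; have := r47.out; have := e5.out; have := r56.out; have := r57.out; omega)
            · have t := pc1 q46 c46.out (by have := v4.out; have := qn47.out; omega)
              clear c46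
              rcases t with ⟨⟨⟨rfl, rfl⟩, gw46, ⟨rfl, rfl⟩⟩, rfl⟩ | ⟨⟨⟨rfl, rfl⟩, gw46, ⟨rfl, rfl⟩⟩, rfl⟩
              · have t := pc1 q47 c47.out (by have := v4.out; omega)
                clear c47
                rcases t with ⟨⟨⟨rfl, rfl⟩, gw47, ⟨rfl, rfl⟩⟩, rfl⟩ | ⟨⟨⟨rfl, rfl⟩, gw47, ⟨rfl, rfl⟩⟩, rfl⟩
                · have t := pc2 q56 c56.out (by have := v5.out; have := qn57.out; omega)
                  clear c56
                  rcases t with ⟨⟨⟨rfl, rfl⟩, gw56, ⟨rfl, rfl⟩⟩, rfl⟩ | ⟨⟨⟨rfl, rfl⟩, gw56, ⟨rfl, rfl⟩⟩, rfl⟩ | ⟨⟨⟨rfl, rfl⟩, gw56, ⟨rfl, rfl⟩⟩, rfl⟩ | ⟨⟨⟨rfl, rfl⟩, gw56, ⟨rfl, rfl⟩⟩, rfl⟩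
                  · (have := od6.out; omega)
                  · (have := hm6.out; have := e0.out; have := e1.out; have := e2.out; have := e3.out; have := e4.out; have := e5.out; have := r57.out; omega)
                  · (have := hm6.out; have := om2.out; have := e0.out; have := e1.out; have := e3.out; have := e4.out; have := e5.out; have := r57.out; omega)
                  · (have := hm6.out; have := om2.out; have := e0.out; have := e1.out; have := e3.out; have := e4.out; have := e5.out; have := r57.out; omega)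
                · (have := hm7.out; have := om2.out; have := e0.out; have := e1.out; have := e3.out; have := e4.out; have := e5.out; have := r56.out; have := r57.out; omega)
              · (have := hm6.out; have := om2.out; have := e0.out; have := e1.out; have := e3.out; have := e4.out; have := r47.out; have := e5.out; have := r56.out; have := r57.out; omega)
            · (have := hm1.out; have := e3.out; have := e4.out; have := r46.out; have := r47.out; have := e5.out; have := r56.out; have := r57.out; omega)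
            · (have := hm1.out; have := e3.out; have := e4.out; have := r46.out; have := r47.out; have := e5.out; have := r56.out; have := r57.out; omega)
          · have t := pc3 q45 c45.out (by have := v4.out; have := qn46.out; have := qn47.out; omega)
            clear c45
            rcases t with ⟨⟨⟨rfl, rfl⟩, gw45, ⟨rfl, rfl⟩⟩, rfl⟩ | ⟨⟨⟨rfl, rfl⟩, gw45, ⟨rfl, rfl⟩⟩, rfl⟩ | ⟨⟨⟨rfl, rfl⟩, gw45, ⟨rfl, rfl⟩⟩, rfl⟩ | ⟨⟨⟨rfl, rfl⟩, gw45, ⟨rfl, rfl⟩⟩, rfl⟩ | ⟨⟨⟨rfl, rfl⟩, gw45, ⟨rfl, rfl⟩⟩, rfl⟩ | ⟨⟨⟨rfl, rfl⟩, gw45, ⟨rfl, rfl⟩⟩, rfl⟩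
            · (have := od5.out; omega)
            · (have := hm5.out; have := om2.out; have := e0.out; have := e1.out; have := e3.out; have := e4.out; have := r46.out; have := r47.out; have := e7.out; have := r74.out; have := r75.out; have := r76.out; omega)
            · (have := hm7.out; have := om2.out; have := e0.out; have := e1.out; have := e3.out; have := e4.out; have := r46.out; have := r47.out; have := e5.out; have := r56.out; have := r57.out; omega)
            · (have := hm7.out; have := om2.out; have := e0.out; have := e1.out; have := e3.out; have := e4.out; have := r46.out; have := r47.out; have := e5.out; have := r56.out; have := r57.out; omega)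
            · (have := hm5.out; have := om2.out; have := e0.out; have := e1.out; have := e3.out; have := e4.out; have := r46.out; have := r47.out; have := e7.out; have := r74.out; have := r75.out; have := r76.out; omega)
            · (have := hm5.out; have := om2.out; have := e0.out; have := e1.out; have := e3.out; have := e4.out; have := r46.out; have := r47.out; have := e7.out; have := r74.out; have := r75.out; have := r76.out; omega)
          · (have := hm4.out; have := om2.out; have := e0.out; have := e1.out; have := e3.out; have := e7.out; have := r74.out; have := r75.out; have := r76.out; omega)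
          · (have := hm4.out; have := om2.out; have := e0.out; have := e1.out; have := e3.out; have := e7.out; have := r74.out; have := r75.out; have := r76.out; omega)
        · have t := pc1 q37 c37.out (by have := v3.out; omega)
          clear c37
          rcases t with ⟨⟨⟨rfl, rfl⟩, gw37, ⟨rfl, rfl⟩⟩, rfl⟩ | ⟨⟨⟨rfl, rfl⟩, gw37, ⟨rfl, rfl⟩⟩, rfl⟩
          · have t := pc3 q45 c45.out (by have := v4.out; have := qn46.out; have := qn47.out; omega)
            clear c45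
            rcases t with ⟨⟨⟨rfl, rfl⟩, gw45, ⟨rfl, rfl⟩⟩, rfl⟩ | ⟨⟨⟨rfl, rfl⟩, gw45, ⟨rfl, rfl⟩⟩, rfl⟩ | ⟨⟨⟨rfl, rfl⟩, gw45, ⟨rfl, rfl⟩⟩, rfl⟩ | ⟨⟨⟨rfl, rfl⟩, gw45, ⟨rfl, rfl⟩⟩, rfl⟩ | ⟨⟨⟨rfl, rfl⟩, gw45, ⟨rfl, rfl⟩⟩, rfl⟩ | ⟨⟨⟨rfl, rfl⟩, gw45, ⟨rfl, rfl⟩⟩, rfl⟩
            · (have := od5.out; omega)
            · (have := hm5.out; have := om2.out; have := e0.out; have := e1.out; have := e3.out; have := e4.out; have := r46.out; have := r47.out; have := e6.out; have := r64.out; have := r65.out; have := r67.out; omega)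
            · (have := hm6.out; have := om2.out; have := e0.out; have := e1.out; have := e3.out; have := e4.out; have := r46.out; have := r47.out; have := e5.out; have := r56.out; have := r57.out; omega)
            · (have := hm6.out; have := om2.out; have := e0.out; have := e1.out; have := e3.out; have := e4.out; have := r46.out; have := r47.out; have := e5.out; have := r56.out; have := r57.out; omega)
            · (have := hm5.out; have := om2.out; have := e0.out; have := e1.out; have := e3.out; have := e4.out; have := r46.out; have := r47.out; have := e6.out; have := r64.out; have := r65.out; have := r67.out; omega)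
            · (have := hm5.out; have := om2.out; have := e0.out; have := e1.out; have := e3.out; have := e4.out; have := r46.out; have := r47.out; have := e6.out; have := r64.out; have := r65.out; have := r67.out; omega)
          · (have := hm7.out; have := om2.out; have := e0.out; have := e1.out; have := e3.out; have := e4.out; have := r45.out; have := r46.out; have := r47.out; have := e6.out; have := r64.out; have := r65.out; have := r67.out; omega)
        · (have := hm4.out; have := om2.out; have := e0.out; have := e1.out; have := e3.out; have := r37.out; have := e6.out; have := r64.out; have := r65.out; have := r67.out; omega)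
        · (have := hm4.out; have := om2.out; have := e0.out; have := e1.out; have := e3.out; have := r37.out; have := e6.out; have := r64.out; have := r65.out; have := r67.out; omega)
      · have t := pc1 q36 c36.out (by have := v3.out; have := qn37.out; omega)
        clear c36
        rcases t with ⟨⟨⟨rfl, rfl⟩, gw36, ⟨rfl, rfl⟩⟩, rfl⟩ | ⟨⟨⟨rfl, rfl⟩, gw36, ⟨rfl, rfl⟩⟩, rfl⟩
        · have t := pc1 q37 c37.out (by have := v3.out; omega)
          clear c37
          rcases t with ⟨⟨⟨rfl, rfl⟩, gw37, ⟨rfl, rfl⟩⟩, rfl⟩ | ⟨⟨⟨rfl, rfl⟩, gw37, ⟨rfl, rfl⟩⟩, rfl⟩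
          · have t := pc3 q45 c45.out (by have := v4.out; have := qn46.out; have := qn47.out; omega)
            clear c45
            rcases t with ⟨⟨⟨rfl, rfl⟩, gw45, ⟨rfl, rfl⟩⟩, rfl⟩ | ⟨⟨⟨rfl, rfl⟩, gw45, ⟨rfl, rfl⟩⟩, rfl⟩ | ⟨⟨⟨rfl, rfl⟩, gw45, ⟨rfl, rfl⟩⟩, rfl⟩ | ⟨⟨⟨rfl, rfl⟩, gw45, ⟨rfl, rfl⟩⟩, rfl⟩ | ⟨⟨⟨rfl, rfl⟩, gw45, ⟨rfl, rfl⟩⟩, rfl⟩ | ⟨⟨⟨rfl, rfl⟩, gw45, ⟨rfl, rfl⟩⟩, rfl⟩
            · have t := pc3 q46 c46.out (by have := v4.out; have := qn47.out; omega)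
              clear c46
              rcases t with ⟨⟨⟨rfl, rfl⟩, gw46, ⟨rfl, rfl⟩⟩, rfl⟩ | ⟨⟨⟨rfl, rfl⟩, gw46, ⟨rfl, rfl⟩⟩, rfl⟩ | ⟨⟨⟨rfl, rfl⟩, gw46, ⟨rfl, rfl⟩⟩, rfl⟩ | ⟨⟨⟨rfl, rfl⟩, gw46, ⟨rfl, rfl⟩⟩, rfl⟩ | ⟨⟨⟨rfl, rfl⟩, gw46, ⟨rfl, rfl⟩⟩, rfl⟩ | ⟨⟨⟨rfl, rfl⟩, gw46, ⟨rfl, rfl⟩⟩, rfl⟩
              · have t := pc3 q47 c47.out (by have := v4.out; omega)
                clear c47
                rcases t with ⟨⟨⟨rfl, rfl⟩, gw47, ⟨rfl, rfl⟩⟩, rfl⟩ | ⟨⟨⟨rfl, rfl⟩, gw47, ⟨rfl, rfl⟩⟩, rfl⟩ | ⟨⟨⟨rfl, rfl⟩, gw47, ⟨rfl, rfl⟩⟩, rfl⟩ | ⟨⟨⟨rfl, rfl⟩, gw47, ⟨rfl, rfl⟩⟩, rfl⟩ | ⟨⟨⟨rfl, rfl⟩, gw47, ⟨rfl, rfl⟩⟩, rfl⟩ | ⟨⟨⟨rfl, rfl⟩, gw47, ⟨rfl, rfl⟩⟩, rfl⟩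
                · have t := pc3 q56 c56.out (by have := v5.out; have := qn57.out; omega)
                  clear c56
                  rcases t with ⟨⟨⟨rfl, rfl⟩, gw56, ⟨rfl, rfl⟩⟩, rfl⟩ | ⟨⟨⟨rfl, rfl⟩, gw56, ⟨rfl, rfl⟩⟩, rfl⟩ | ⟨⟨⟨rfl, rfl⟩, gw56, ⟨rfl, rfl⟩⟩, rfl⟩ | ⟨⟨⟨rfl, rfl⟩, gw56, ⟨rfl, rfl⟩⟩, rfl⟩ | ⟨⟨⟨rfl, rfl⟩, gw56, ⟨rfl, rfl⟩⟩, rfl⟩ | ⟨⟨⟨rfl, rfl⟩, gw56, ⟨rfl, rfl⟩⟩, rfl⟩
                  · (have := od6.out; omega)
                  · (have := hm6.out; have := om2.out; have := e0.out; have := e1.out; have := e3.out; have := e4.out; have := e5.out; have := r57.out; omega)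
                  · (have := hm4.out; have := om2.out; have := e0.out; have := e1.out; have := e3.out; have := e5.out; have := r57.out; have := e6.out; have := r67.out; omega)
                  · (have := hm4.out; have := om2.out; have := e0.out; have := e1.out; have := e3.out; have := e5.out; have := r57.out; have := e6.out; have := r67.out; omega)
                  · (have := hm6.out; have := om2.out; have := e0.out; have := e1.out; have := e3.out; have := e4.out; have := e5.out; have := r57.out; omega)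
                  · (have := hm6.out; have := om2.out; have := e0.out; have := e1.out; have := e3.out; have := e4.out; have := e5.out; have := r57.out; omega)
                · (have := hm7.out; have := om2.out; have := e0.out; have := e1.out; have := e3.out; have := e4.out; have := e5.out; have := r56.out; have := r57.out; omega)
                · (have := hm7.out; have := om2.out; have := e0.out; have := e1.out; have := e3.out; have := e4.out; have := e5.out; have := r56.out; have := r57.out; omega)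
                · (have := hm7.out; have := om2.out; have := e0.out; have := e1.out; have := e3.out; have := e4.out; have := e5.out; have := r56.out; have := r57.out; omega)
                · (have := hm7.out; have := om2.out; have := e0.out; have := e1.out; have := e3.out; have := e4.out; have := e5.out; have := r56.out; have := r57.out; omega)
                · (have := hm7.out; have := om2.out; have := e0.out; have := e1.out; have := e3.out; have := e4.out; have := e5.out; have := r56.out; have := r57.out; omega)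
              · (have := hm6.out; have := om2.out; have := e0.out; have := e1.out; have := e3.out; have := e4.out; have := r47.out; have := e5.out; have := r56.out; have := r57.out; omega)
              · (have := hm6.out; have := om2.out; have := e0.out; have := e1.out; have := e3.out; have := e4.out; have := r47.out; have := e5.out; have := r56.out; have := r57.out; omega)
              · (have := hm6.out; have := om2.out; have := e0.out; have := e1.out; have := e3.out; have := e4.out; have := r47.out; have := e5.out; have := r56.out; have := r57.out; omega)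
              · (have := hm6.out; have := om2.out; have := e0.out; have := e1.out; have := e3.out; have := e4.out; have := r47.out; have := e5.out; have := r56.out; have := r57.out; omega)
              · (have := hm6.out; have := om2.out; have := e0.out; have := e1.out; have := e3.out; have := e4.out; have := r47.out; have := e5.out; have := r56.out; have := r57.out; omega)
            · (have := hm4.out; have := om2.out; have := e0.out; have := e1.out; have := e3.out; have := e4.out; have := r46.out; have := r47.out; have := e5.out; have := r56.out; have := r57.out; omega)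
            · (have := hm4.out; have := om2.out; have := om4.out; have := e0.out; have := e1.out; have := e3.out; have := e5.out; have := r56.out; have := r57.out; omega)
            · (have := hm0.out; have := hm4.out; have := om2.out; have := e1.out; have := e3.out; have := e4.out; have := r46.out; have := r47.out; have := e5.out; have := r56.out; have := r57.out; omega)
            · (have := hm0.out; have := om4.out; have := e0.out; have := e1.out; have := e2.out; have := e3.out; have := e5.out; have := r56.out; have := r57.out; omega)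
            · (have := hm1.out; have := om4.out; have := e1.out; have := e2.out; have := e3.out; have := e4.out; have := r46.out; have := r47.out; have := e5.out; have := r56.out; have := r57.out; omega)
          · (have := hm7.out; have := om2.out; have := e0.out; have := e1.out; have := e3.out; have := e4.out; have := r45.out; have := r46.out; have := r47.out; have := e5.out; have := r54.out; have := r56.out; have := r57.out; omega)
        · (have := hm6.out; have := om2.out; have := e0.out; have := e1.out; have := e3.out; have := r37.out; have := e4.out; have := r45.out; have := r46.out; have := r47.out; have := e5.out; have := r54.out; have := r56.out; have := r57.out; omega)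
      · (have := hm4.out; have := om2.out; have := e0.out; have := e1.out; have := e3.out; have := r36.out; have := r37.out; have := e5.out; have := r54.out; have := r56.out; have := r57.out; omega)
      · (have := hm4.out; have := om2.out; have := e0.out; have := e1.out; have := e3.out; have := r36.out; have := r37.out; have := e5.out; have := r54.out; have := r56.out; have := r57.out; omega)
    · have t := pc1 q35 c35.out (by have := v3.out; have := qn36.out; have := qn37.out; omega)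
      clear c35
      rcases t with ⟨⟨⟨rfl, rfl⟩, gw35, ⟨rfl, rfl⟩⟩, rfl⟩ | ⟨⟨⟨rfl, rfl⟩, gw35, ⟨rfl, rfl⟩⟩, rfl⟩
      · have t := pc1 q36 c36.out (by have := v3.out; have := qn37.out; omega)
        clear c36
        rcases t with ⟨⟨⟨rfl, rfl⟩, gw36, ⟨rfl, rfl⟩⟩, rfl⟩ | ⟨⟨⟨rfl, rfl⟩, gw36, ⟨rfl, rfl⟩⟩, rfl⟩
        · have t := pc1 q37 c37.out (by have := v3.out; omega)
          clear c37
          rcases t with ⟨⟨⟨rfl, rfl⟩, gw37, ⟨rfl, rfl⟩⟩, rfl⟩ | ⟨⟨⟨rfl, rfl⟩, gw37, ⟨rfl, rfl⟩⟩, rfl⟩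
          · have t := pc2 q45 c45.out (by have := v4.out; have := qn46.out; have := qn47.out; omega)
            clear c45
            rcases t with ⟨⟨⟨rfl, rfl⟩, gw45, ⟨rfl, rfl⟩⟩, rfl⟩ | ⟨⟨⟨rfl, rfl⟩, gw45, ⟨rfl, rfl⟩⟩, rfl⟩ | ⟨⟨⟨rfl, rfl⟩, gw45, ⟨rfl, rfl⟩⟩, rfl⟩ | ⟨⟨⟨rfl, rfl⟩, gw45, ⟨rfl, rfl⟩⟩, rfl⟩
            · (have := od5.out; omega)
            · (have := hm0.out; have := e1.out; have := e2.out; have := e3.out; have := e4.out; have := r46.out; have := r47.out; have := e5.out; have := r56.out; have := r57.out; omega)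
            · (have := hm5.out; have := e0.out; have := e1.out; have := e2.out; have := e3.out; have := e4.out; have := r46.out; have := r47.out; omega)
            · (have := hm1.out; have := e3.out; have := e4.out; have := r46.out; have := r47.out; have := e5.out; have := r56.out; have := r57.out; omega)
          · (have := hm7.out; have := om2.out; have := e0.out; have := e1.out; have := e3.out; have := e4.out; have := r45.out; have := r46.out; have := r47.out; omega)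
        · (have := hm6.out; have := om2.out; have := e0.out; have := e1.out; have := e3.out; have := r37.out; have := e4.out; have := r45.out; have := r46.out; have := r47.out; omega)
      · (have := hm5.out; have := om2.out; have := e0.out; have := e1.out; have := e3.out; have := r36.out; have := r37.out; have := e4.out; have := r45.out; have := r46.out; have := r47.out; omega)
    · have t := pc1 q35 c35.out (by have := v3.out; have := qn36.out; have := qn37.out; omega)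
      clear c35
      rcases t with ⟨⟨⟨rfl, rfl⟩, gw35, ⟨rfl, rfl⟩⟩, rfl⟩ | ⟨⟨⟨rfl, rfl⟩, gw35, ⟨rfl, rfl⟩⟩, rfl⟩
      · have t := pc1 q36 c36.out (by have := v3.out; have := qn37.out; omega)
        clear c36
        rcases t with ⟨⟨⟨rfl, rfl⟩, gw36, ⟨rfl, rfl⟩⟩, rfl⟩ | ⟨⟨⟨rfl, rfl⟩, gw36, ⟨rfl, rfl⟩⟩, rfl⟩
        · have t := pc1 q37 c37.out (by have := v3.out; omega)
          clear c37
          rcases t with ⟨⟨⟨rfl, rfl⟩, gw37, ⟨rfl, rfl⟩⟩, rfl⟩ | ⟨⟨⟨rfl, rfl⟩, gw37, ⟨rfl, rfl⟩⟩, rfl⟩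
          · have t := pc2 q45 c45.out (by have := v4.out; have := qn46.out; have := qn47.out; omega)
            clear c45
            rcases t with ⟨⟨⟨rfl, rfl⟩, gw45, ⟨rfl, rfl⟩⟩, rfl⟩ | ⟨⟨⟨rfl, rfl⟩, gw45, ⟨rfl, rfl⟩⟩, rfl⟩ | ⟨⟨⟨rfl, rfl⟩, gw45, ⟨rfl, rfl⟩⟩, rfl⟩ | ⟨⟨⟨rfl, rfl⟩, gw45, ⟨rfl, rfl⟩⟩, rfl⟩
            · (have := od5.out; omega)
            · (have := hm0.out; have := e1.out; have := e2.out; have := e3.out; have := e4.out; have := r46.out; have := r47.out; have := e5.out; have := r56.out; have := r57.out; omega)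
            · (have := hm1.out; have := e3.out; have := e4.out; have := r46.out; have := r47.out; have := e5.out; have := r56.out; have := r57.out; omega)
            · (have := hm5.out; have := e0.out; have := e1.out; have := e2.out; have := e3.out; have := e4.out; have := r46.out; have := r47.out; omega)
          · (have := hm7.out; have := om2.out; have := e0.out; have := e1.out; have := e3.out; have := e4.out; have := r45.out; have := r46.out; have := r47.out; omega)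
        · (have := hm6.out; have := om2.out; have := e0.out; have := e1.out; have := e3.out; have := r37.out; have := e4.out; have := r45.out; have := r46.out; have := r47.out; omega)
      · (have := hm5.out; have := om2.out; have := e0.out; have := e1.out; have := e3.out; have := r36.out; have := r37.out; have := e4.out; have := r45.out; have := r46.out; have := r47.out; omega)
    · (have := hm0.out; have := hm2.out; have := e1.out; have := e3.out; have := r35.out; have := r36.out; have := r37.out; have := e4.out; have := r45.out; have := r46.out; have := r47.out; omega)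
    · (have := hm0.out; have := hm2.out; have := e1.out; have := e3.out; have := r35.out; have := r36.out; have := r37.out; have := e4.out; have := r45.out; have := r46.out; have := r47.out; omega)
  · have t := pc3 q34 c34.out (by have := v3.out; have := qn35.out; have := qn36.out; have := qn37.out; omega)
    clear c34
    rcases t with ⟨⟨⟨rfl, rfl⟩, gw34, ⟨rfl, rfl⟩⟩, rfl⟩ | ⟨⟨⟨rfl, rfl⟩, gw34, ⟨rfl, rfl⟩⟩, rfl⟩ | ⟨⟨⟨rfl, rfl⟩, gw34, ⟨rfl, rfl⟩⟩, rfl⟩ | ⟨⟨⟨rfl, rfl⟩, gw34, ⟨rfl, rfl⟩⟩, rfl⟩ | ⟨⟨⟨rfl, rfl⟩, gw34, ⟨rfl, rfl⟩⟩, rfl⟩ | ⟨⟨⟨rfl, rfl⟩, gw34, ⟨rfl, rfl⟩⟩, rfl⟩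
    · (have := od4.out; omega)
    · have t := pc2 q35 c35.out (by have := v3.out; have := qn36.out; have := qn37.out; omega)
      clear c35
      rcases t with ⟨⟨⟨rfl, rfl⟩, gw35, ⟨rfl, rfl⟩⟩, rfl⟩ | ⟨⟨⟨rfl, rfl⟩, gw35, ⟨rfl, rfl⟩⟩, rfl⟩ | ⟨⟨⟨rfl, rfl⟩, gw35, ⟨rfl, rfl⟩⟩, rfl⟩ | ⟨⟨⟨rfl, rfl⟩, gw35, ⟨rfl, rfl⟩⟩, rfl⟩
      · have t := pc2 q36 c36.out (by have := v3.out; have := qn37.out; omega)
        clear c36
        rcases t with ⟨⟨⟨rfl, rfl⟩, gw36, ⟨rfl, rfl⟩⟩, rfl⟩ | ⟨⟨⟨rfl, rfl⟩, gw36, ⟨rfl, rfl⟩⟩, rfl⟩ | ⟨⟨⟨rfl, rfl⟩, gw36, ⟨rfl, rfl⟩⟩, rfl⟩ | ⟨⟨⟨rfl, rfl⟩, gw36, ⟨rfl, rfl⟩⟩, rfl⟩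
        · have t := pc2 q37 c37.out (by have := v3.out; omega)
          clear c37
          rcases t with ⟨⟨⟨rfl, rfl⟩, gw37, ⟨rfl, rfl⟩⟩, rfl⟩ | ⟨⟨⟨rfl, rfl⟩, gw37, ⟨rfl, rfl⟩⟩, rfl⟩ | ⟨⟨⟨rfl, rfl⟩, gw37, ⟨rfl, rfl⟩⟩, rfl⟩ | ⟨⟨⟨rfl, rfl⟩, gw37, ⟨rfl, rfl⟩⟩, rfl⟩
          · have t := pc3 q45 c45.out (by have := v4.out; have := qn46.out; have := qn47.out; omega)
            clear c45
            rcases t with ⟨⟨⟨rfl, rfl⟩, gw45, ⟨rfl, rfl⟩⟩, rfl⟩ | ⟨⟨⟨rfl, rfl⟩, gw45, ⟨rfl, rfl⟩⟩, rfl⟩ | ⟨⟨⟨rfl, rfl⟩, gw45, ⟨rfl, rfl⟩⟩, rfl⟩ | ⟨⟨⟨rfl, rfl⟩, gw45, ⟨rfl, rfl⟩⟩, rfl⟩ | ⟨⟨⟨rfl, rfl⟩, gw45, ⟨rfl, rfl⟩⟩, rfl⟩ | ⟨⟨⟨rfl, rfl⟩, gw45, ⟨rfl, rfl⟩⟩, rfl⟩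
            · (have := od5.out; omega)
            · (have := hm2.out; have := om5.out; have := om7.out; have := e0.out; have := e1.out; have := e2.out; have := e3.out; have := e4.out; have := r46.out; have := r47.out; omega)
            · (have := hm7.out; have := e0.out; have := e1.out; have := e2.out; have := e3.out; have := e4.out; have := r46.out; have := r47.out; have := e5.out; have := r56.out; have := r57.out; omega)
            · (have := hm7.out; have := om5.out; have := e0.out; have := e1.out; have := e2.out; have := e3.out; have := e4.out; have := r46.out; have := r47.out; omega)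
            · (have := hm1.out; have := e3.out; have := e4.out; have := r46.out; have := r47.out; have := e5.out; have := r56.out; have := r57.out; omega)
            · (have := hm1.out; have := e3.out; have := e4.out; have := r46.out; have := r47.out; have := e5.out; have := r56.out; have := r57.out; omega)
          · (have := hm4.out; have := om7.out; have := e0.out; have := e1.out; have := e2.out; have := e3.out; omega)
          · (have := hm0.out; have := om2.out; have := e1.out; have := e3.out; have := e4.out; have := r45.out; have := r46.out; have := r47.out; have := e7.out; have := r74.out; have := r75.out; have := r76.out; omega)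
          · (have := hm4.out; have := om2.out; have := om7.out; have := e0.out; have := e1.out; have := e3.out; omega)
        · (have := hm4.out; have := om6.out; have := om7.out; have := e0.out; have := e1.out; have := e2.out; have := e3.out; have := r37.out; omega)
        · (have := hm4.out; have := om2.out; have := e0.out; have := e1.out; have := e3.out; have := r37.out; have := e6.out; have := r64.out; have := r65.out; have := r67.out; omega)
        · (have := hm4.out; have := om2.out; have := e0.out; have := e1.out; have := e3.out; have := r37.out; have := e6.out; have := r64.out; have := r65.out; have := r67.out; omega)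
      · (have := hm4.out; have := om5.out; have := om7.out; have := e0.out; have := e1.out; have := e2.out; have := e3.out; have := r36.out; have := r37.out; omega)
      · (have := hm4.out; have := om2.out; have := e0.out; have := e1.out; have := e3.out; have := r36.out; have := r37.out; have := e5.out; have := r54.out; have := r56.out; have := r57.out; omega)
      · (have := hm4.out; have := om2.out; have := e0.out; have := e1.out; have := e3.out; have := r36.out; have := r37.out; have := e5.out; have := r54.out; have := r56.out; have := r57.out; omega)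
    · (have := hm7.out; have := e0.out; have := e1.out; have := e2.out; have := e3.out; have := r35.out; have := r36.out; have := r37.out; have := e4.out; have := r45.out; have := r46.out; have := r47.out; omega)
    · (have := hm7.out; have := om4.out; have := e0.out; have := e1.out; have := e2.out; have := e3.out; have := r35.out; have := r36.out; have := r37.out; omega)
    · (have := hm0.out; have := hm2.out; have := e1.out; have := e3.out; have := r35.out; have := r36.out; have := r37.out; have := e4.out; have := r45.out; have := r46.out; have := r47.out; omega)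
    · (have := hm0.out; have := hm2.out; have := e1.out; have := e3.out; have := r35.out; have := r36.out; have := r37.out; have := e4.out; have := r45.out; have := r46.out; have := r47.out; omega)
  · have t := pc3 q34 c34.out (by have := v3.out; have := qn35.out; have := qn36.out; have := qn37.out; omega)
    clear c34
    rcases t with ⟨⟨⟨rfl, rfl⟩, gw34, ⟨rfl, rfl⟩⟩, rfl⟩ | ⟨⟨⟨rfl, rfl⟩, gw34, ⟨rfl, rfl⟩⟩, rfl⟩ | ⟨⟨⟨rfl, rfl⟩, gw34, ⟨rfl, rfl⟩⟩, rfl⟩ | ⟨⟨⟨rfl, rfl⟩, gw34, ⟨rfl, rfl⟩⟩, rfl⟩ | ⟨⟨⟨rfl, rfl⟩, gw34, ⟨rfl, rfl⟩⟩, rfl⟩ | ⟨⟨⟨rfl, rfl⟩, gw34, ⟨rfl, rfl⟩⟩, rfl⟩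
    · (have := od4.out; omega)
    · (have := hm4.out; have := e0.out; have := e1.out; have := e2.out; have := e3.out; have := r35.out; have := r36.out; have := r37.out; have := e7.out; have := r73.out; have := r74.out; have := r75.out; have := r76.out; omega)
    · (have := hm0.out; have := e1.out; have := e2.out; have := e3.out; have := r35.out; have := r36.out; have := r37.out; have := e4.out; have := r45.out; have := r46.out; have := r47.out; have := e7.out; have := r73.out; have := r74.out; have := r75.out; have := r76.out; omega)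
    · (have := hm0.out; have := e1.out; have := e2.out; have := e3.out; have := r35.out; have := r36.out; have := r37.out; have := e4.out; have := r45.out; have := r46.out; have := r47.out; have := e7.out; have := r73.out; have := r74.out; have := r75.out; have := r76.out; omega)
    · (have := hm4.out; have := e0.out; have := e1.out; have := e2.out; have := e3.out; have := r35.out; have := r36.out; have := r37.out; have := e7.out; have := r73.out; have := r74.out; have := r75.out; have := r76.out; omega)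
    · (have := hm4.out; have := e0.out; have := e1.out; have := e2.out; have := e3.out; have := r35.out; have := r36.out; have := r37.out; have := e7.out; have := r73.out; have := r74.out; have := r75.out; have := r76.out; omega)
  · have t := pc3 q34 c34.out (by have := v3.out; have := qn35.out; have := qn36.out; have := qn37.out; omega)
    clear c34
    rcases t with ⟨⟨⟨rfl, rfl⟩, gw34, ⟨rfl, rfl⟩⟩, rfl⟩ | ⟨⟨⟨rfl, rfl⟩, gw34, ⟨rfl, rfl⟩⟩, rfl⟩ | ⟨⟨⟨rfl, rfl⟩, gw34, ⟨rfl, rfl⟩⟩, rfl⟩ | ⟨⟨⟨rfl, rfl⟩, gw34, ⟨rfl, rfl⟩⟩, rfl⟩ | ⟨⟨⟨rfl, rfl⟩, gw34, ⟨rfl, rfl⟩⟩, rfl⟩ | ⟨⟨⟨rfl, rfl⟩, gw34, ⟨rfl, rfl⟩⟩, rfl⟩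
    · (have := od4.out; omega)
    · (have := hm4.out; have := e0.out; have := e1.out; have := e2.out; have := e3.out; have := r35.out; have := r36.out; have := r37.out; have := e7.out; have := r73.out; have := r74.out; have := r75.out; have := r76.out; omega)
    · (have := hm0.out; have := e1.out; have := e2.out; have := e3.out; have := r35.out; have := r36.out; have := r37.out; have := e4.out; have := r45.out; have := r46.out; have := r47.out; have := e7.out; have := r73.out; have := r74.out; have := r75.out; have := r76.out; omega)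
    · (have := hm0.out; have := e1.out; have := e2.out; have := e3.out; have := r35.out; have := r36.out; have := r37.out; have := e4.out; have := r45.out; have := r46.out; have := r47.out; have := e7.out; have := r73.out; have := r74.out; have := r75.out; have := r76.out; omega)
    · (have := hm4.out; have := e0.out; have := e1.out; have := e2.out; have := e3.out; have := r35.out; have := r36.out; have := r37.out; have := e7.out; have := r73.out; have := r74.out; have := r75.out; have := r76.out; omega)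
    · (have := hm4.out; have := e0.out; have := e1.out; have := e2.out; have := e3.out; have := r35.out; have := r36.out; have := r37.out; have := e7.out; have := r73.out; have := r74.out; have := r75.out; have := r76.out; omega)
  · (have := hm0.out; have := om3.out; have := e1.out; have := e2.out; have := e7.out; have := r73.out; have := r74.out; have := r75.out; have := r76.out; omega)
  · (have := hm0.out; have := om3.out; have := e1.out; have := e2.out; have := e7.out; have := r73.out; have := r74.out; have := r75.out; have := r76.out; omega)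

end Groth.Agent.Lib.helper20.G1n8
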