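import Groth.Agent.Lib.Helper20.G1n8Part0
import Groth.Agent.Lib.Helper20.G1n8Part1
import Groth.Agent.Lib.Helper20.G1n8Part2
import Groth.Agent.Lib.Helper20.G1n8Part3
import Groth.Agent.Lib.Helper20.G1n8Part4
import Groth.Agent.Lib.Helper20.G1n8Part5
import Groth.Agent.Lib.Helper20.G1n8Part6
import Groth.Agent.Lib.Helper20.G1n8Part7
import Groth.Agent.Lib.Helper20.G1n8Part8
import Groth.Agent.Lib.Helper20.G1n8Part9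
import Groth.Agent.Lib.Helper20.G1n8Part10
import Groth.Agent.Lib.Helper20.G1n8Part11
import Groth.Agent.Lib.Helper20.G1n8Part12
import Groth.Agent.Lib.Helper20.G1n8Part13
import Groth.Agent.Lib.Helper20.G1n8Part14
import Groth.Agent.Lib.Helper20.G1n8Part15
import Groth.Agent.Lib.Helper20.G1n8Part16
import Groth.Agent.Lib.Helper20.G1n8Part17
import Groth.Agent.Lib.Helper20.G1n8Part18
import Groth.Agent.Lib.Helper20.G1n8Part19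
import Groth.Agent.Lib.Helper20.G1n8Part20
import Groth.Agent.Lib.Helper20.G1n8Part21
import Groth.Agent.Lib.Helper20.G1n8Part22
import Groth.Agent.Lib.Helper20.G1n8Part23
import Groth.Agent.Lib.Helper20.G1n8Part24
import Groth.Agent.Lib.Helper20.G1n8Part25
import Groth.Agent.Lib.Helper20.G1n8Part26
import Groth.Agent.Lib.Helper20.G1n8Part27
import Groth.Agent.Lib.Helper20.G1n8Part28
import Groth.Agent.Lib.Helper20.G1n8Part29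
import Groth.Agent.Lib.Helper20.G1n8Part30
import Groth.Agent.Lib.Helper20.G1n8Part31
import Groth.Agent.Lib.Helper20.G1n8Part32
import Groth.Agent.Lib.Helper20.G1n8Part33
import Groth.Agent.Lib.Helper20.G1n8Part34
import Groth.Agent.Lib.Helper20.G1n8Part35
import Groth.Agent.Lib.Helper20.G1n8Part36
import Groth.Agent.Lib.Helper20.G1n8Part37
import Groth.Agent.Lib.Helper20.G1n8Part38
import Groth.Agent.Lib.Helper20.G1n8Part39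
import Groth.Agent.Lib.Helper20.G1n8Part40
import Groth.Agent.Lib.Helper20.G1n8Part41
import Groth.Agent.Lib.Helper20.G1n8Part42
import Groth.Agent.Lib.Helper20.G1n8Part43
import Groth.Agent.Lib.Helper20.G1n8Part44
import Groth.Agent.Lib.Helper20.G1n8Part45
import Groth.Agent.Lib.Helper20.G1n8Part46
import Groth.Agent.Lib.Helper20.G1n8Part47
import Groth.Agent.Lib.Helper20.G1n8Part48
import Groth.Agent.Lib.Helper20.G1n8Part49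
import Groth.Agent.Lib.Helper20.G1n8Part50
import Groth.Agent.Lib.Helper20.G1n8Part51
import Groth.Agent.Lib.Helper20.G1n8Part52
import Groth.Agent.Lib.Helper20.G1n8Part53
import Groth.Agent.Lib.Helper20.G1n8Part54
import Groth.Agent.Lib.Helper20.G1n8Part55
import Groth.Agent.Lib.Helper20.G1n8Part56
import Groth.Agent.Lib.Helper20.G1n8Part57

set_option autoImplicit false
set_option linter.unusedVariables false
open Finset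
open Models Models.NumericalType

namespace Groth.Agent.Lib.helper20.G1n8

set_option maxHeartbeats 0 in
theorem top (T : Models.NumericalType 8) (α01 α02 α03 α04 α05 α06 α07 α10 α12 α13 α14 α15 α16 α17 α20 α21 α23 α24 α25 α26 α27 α30 α31 α32 α34 α35 α36 α37 α40 α41 α42 α43 α45 α46 α47 α50 α51 α52 α53 α54 α56 α57 α60 α61 α62 α63 α64 α65 α67 α70 α71 α72 α73 α74 α75 α76 x01 x02 x03 x04 x05 x06 x07 x10 x12 x13 x14 x15 x16 x17 x20 x21 x23 x24 x25 x26 x27 x30 x31 x32 x34 x35 x36 x37 x40 x41 x42 x43 x45 x46 x47 x50 x51 x52 x53 x54 x56 x57 x60 x61 x62 x63 x64 x65 x67 x70 x71 x72 x73 x74 x75 x76 q01 q02 q03 q04 q05 q06 q07 q12 q13 q14 q15 q16 q17 q23 q24 q25 q26 q27 q34 q35 q36 q37 q45 q46 q47 q56 q57 q67 : ℤ)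
    (hm0 : Hide (0 < T.m 0))
    (hm1 : Hide (0 < T.m 1))
    (hm2 : Hide (0 < T.m 2))
    (hm3 : Hide (0 < T.m 3))
    (hm4 : Hide (0 < T.m 4))
    (hm5 : Hide (0 < T.m 5))
    (hm6 : Hide (0 < T.m 6))
    (hm7 : Hide (0 < T.m 7))
    (om1 : Hide (T.m 0 ≤ T.m 1))
    (om2 : Hide (T.m 0 ≤ T.m 2))
    (om3 : Hide (T.m 0 ≤ T.m 3))
    (om4 : Hide (T.m 0 ≤ T.m 4))
    (om5 : Hide (T.m 0 ≤ T.m 5))
    (om6 : Hide (T.m 0 ≤ T.m 6))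
    (om7 : Hide (T.m 0 ≤ T.m 7))
    (e0 : Hide (x01 + x02 + x03 + x04 + x05 + x06 + x07 = 2 * T.m 0))
    (e1 : Hide (x10 + x12 + x13 + x14 + x15 + x16 + x17 = 2 * T.m 1))
    (e2 : Hide (x20 + x21 + x23 + x24 + x25 + x26 + x27 = 2 * T.m 2))
    (e3 : Hide (x30 + x31 + x32 + x34 + x35 + x36 + x37 = 2 * T.m 3))
    (e4 : Hide (x40 + x41 + x42 + x43 + x45 + x46 + x47 = 2 * T.m 4))
    (e5 : Hide (x50 + x51 + x52 + x53 + x54 + x56 + x57 = 2 * T.m 5))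
    (e6 : Hide (x60 + x61 + x62 + x63 + x64 + x65 + x67 = 2 * T.m 6))
    (e7 : Hide (x70 + x71 + x72 + x73 + x74 + x75 + x76 = 2 * T.m 7))
    (r01 : Hide (0 ≤ x01))
    (r02 : Hide (0 ≤ x02))
    (r03 : Hide (0 ≤ x03))
    (r04 : Hide (0 ≤ x04))
    (r05 : Hide (0 ≤ x05))
    (r06 : Hide (0 ≤ x06))
    (r07 : Hide (0 ≤ x07))
    (r10 : Hide (0 ≤ x10))
    (r12 : Hide (0 ≤ x12))
    (r13 : Hide (0 ≤ x13))
    (r14 : Hide (0 ≤ x14))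
    (r15 : Hide (0 ≤ x15))
    (r16 : Hide (0 ≤ x16))
    (r17 : Hide (0 ≤ x17))
    (r20 : Hide (0 ≤ x20))
    (r21 : Hide (0 ≤ x21))
    (r23 : Hide (0 ≤ x23))
    (r24 : Hide (0 ≤ x24))
    (r25 : Hide (0 ≤ x25))
    (r26 : Hide (0 ≤ x26))
    (r27 : Hide (0 ≤ x27))
    (r30 : Hide (0 ≤ x30))
    (r31 : Hide (0 ≤ x31))
    (r32 : Hide (0 ≤ x32))
    (r34 : Hide (0 ≤ x34))
    (r35 : Hide (0 ≤ x35))
    (r36 : Hide (0 ≤ x36))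
    (r37 : Hide (0 ≤ x37))
    (r40 : Hide (0 ≤ x40))
    (r41 : Hide (0 ≤ x41))
    (r42 : Hide (0 ≤ x42))
    (r43 : Hide (0 ≤ x43))
    (r45 : Hide (0 ≤ x45))
    (r46 : Hide (0 ≤ x46))
    (r47 : Hide (0 ≤ x47))
    (r50 : Hide (0 ≤ x50))
    (r51 : Hide (0 ≤ x51))
    (r52 : Hide (0 ≤ x52))
    (r53 : Hide (0 ≤ x53))
    (r54 : Hide (0 ≤ x54))
    (r56 : Hide (0 ≤ x56))
    (r57 : Hide (0 ≤ x57))
    (r60 : Hide (0 ≤ x60))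
    (r61 : Hide (0 ≤ x61))
    (r62 : Hide (0 ≤ x62))
    (r63 : Hide (0 ≤ x63))
    (r64 : Hide (0 ≤ x64))
    (r65 : Hide (0 ≤ x65))
    (r67 : Hide (0 ≤ x67))
    (r70 : Hide (0 ≤ x70))
    (r71 : Hide (0 ≤ x71))
    (r72 : Hide (0 ≤ x72))
    (r73 : Hide (0 ≤ x73))
    (r74 : Hide (0 ≤ x74))
    (r75 : Hide (0 ≤ x75))
    (r76 : Hide (0 ≤ x76))
    (hw0 : Hide (0 < T.w 0))
    (hw1 : Hide (0 < T.w 1))
    (hw2 : Hide (0 < T.w 2))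
    (hw3 : Hide (0 < T.w 3))
    (hw4 : Hide (0 < T.w 4))
    (hw5 : Hide (0 < T.w 5))
    (hw6 : Hide (0 < T.w 6))
    (hw7 : Hide (0 < T.w 7))
    (hs01 : Hide (T.a 0 1 = T.a 1 0))
    (hs02 : Hide (T.a 0 2 = T.a 2 0))
    (hs03 : Hide (T.a 0 3 = T.a 3 0))
    (hs04 : Hide (T.a 0 4 = T.a 4 0))
    (hs05 : Hide (T.a 0 5 = T.a 5 0))
    (hs06 : Hide (T.a 0 6 = T.a 6 0))
    (hs07 : Hide (T.a 0 7 = T.a 7 0))
    (hs12 : Hide (T.a 1 2 = T.a 2 1))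
    (hs13 : Hide (T.a 1 3 = T.a 3 1))
    (hs14 : Hide (T.a 1 4 = T.a 4 1))
    (hs15 : Hide (T.a 1 5 = T.a 5 1))
    (hs16 : Hide (T.a 1 6 = T.a 6 1))
    (hs17 : Hide (T.a 1 7 = T.a 7 1))
    (hs23 : Hide (T.a 2 3 = T.a 3 2))
    (hs24 : Hide (T.a 2 4 = T.a 4 2))
    (hs25 : Hide (T.a 2 5 = T.a 5 2))
    (hs26 : Hide (T.a 2 6 = T.a 6 2))
    (hs27 : Hide (T.a 2 7 = T.a 7 2))
    (hs34 : Hide (T.a 3 4 = T.a 4 3))
    (hs35 : Hide (T.a 3 5 = T.a 5 3))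
    (hs36 : Hide (T.a 3 6 = T.a 6 3))
    (hs37 : Hide (T.a 3 7 = T.a 7 3))
    (hs45 : Hide (T.a 4 5 = T.a 5 4))
    (hs46 : Hide (T.a 4 6 = T.a 6 4))
    (hs47 : Hide (T.a 4 7 = T.a 7 4))
    (hs56 : Hide (T.a 5 6 = T.a 6 5))
    (hs57 : Hide (T.a 5 7 = T.a 7 5))
    (hs67 : Hide (T.a 6 7 = T.a 7 6))
    (ha00 : Hide (T.a 0 0 = -2 * T.w 0))
    (ha11 : Hide (T.a 1 1 = -2 * T.w 1))
    (ha22 : Hide (T.a 2 2 = -2 * T.w 2))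
    (ha33 : Hide (T.a 3 3 = -2 * T.w 3))
    (ha44 : Hide (T.a 4 4 = -2 * T.w 4))
    (ha55 : Hide (T.a 5 5 = -2 * T.w 5))
    (ha66 : Hide (T.a 6 6 = -2 * T.w 6))
    (ha77 : Hide (T.a 7 7 = -2 * T.w 7))
    (v0 : Hide (q01 + q02 + q03 + q04 + q05 + q06 + q07 ≤ 4))
    (v1 : Hide (q01 + q12 + q13 + q14 + q15 + q16 + q17 ≤ 4))
    (v2 : Hide (q02 + q12 + q23 + q24 + q25 + q26 + q27 ≤ 4))
    (v3 : Hide (q03 + q13 + q23 + q34 + q35 + q36 + q37 ≤ 4))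
    (v4 : Hide (q04 + q14 + q24 + q34 + q45 + q46 + q47 ≤ 4))
    (v5 : Hide (q05 + q15 + q25 + q35 + q45 + q56 + q57 ≤ 4))
    (v6 : Hide (q06 + q16 + q26 + q36 + q46 + q56 + q67 ≤ 4))
    (v7 : Hide (q07 + q17 + q27 + q37 + q47 + q57 + q67 ≤ 4))
    (qn01 : Hide (0 ≤ q01))
    (qn02 : Hide (0 ≤ q02))
    (qn03 : Hide (0 ≤ q03))
    (qn04 : Hide (0 ≤ q04))
    (qn05 : Hide (0 ≤ q05))
    (qn06 : Hide (0 ≤ q06))
    (qn07 : Hide (0 ≤ q07))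
    (qn12 : Hide (0 ≤ q12))
    (qn13 : Hide (0 ≤ q13))
    (qn14 : Hide (0 ≤ q14))
    (qn15 : Hide (0 ≤ q15))
    (qn16 : Hide (0 ≤ q16))
    (qn17 : Hide (0 ≤ q17))
    (qn23 : Hide (0 ≤ q23))
    (qn24 : Hide (0 ≤ q24))
    (qn25 : Hide (0 ≤ q25))
    (qn26 : Hide (0 ≤ q26))
    (qn27 : Hide (0 ≤ q27))
    (qn34 : Hide (0 ≤ q34))
    (qn35 : Hide (0 ≤ q35))
    (qn36 : Hide (0 ≤ q36))
    (qn37 : Hide (0 ≤ q37))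
    (qn45 : Hide (0 ≤ q45))
    (qn46 : Hide (0 ≤ q46))
    (qn47 : Hide (0 ≤ q47))
    (qn56 : Hide (0 ≤ q56))
    (qn57 : Hide (0 ≤ q57))
    (qn67 : Hide (0 ≤ q67))
    (od1 : Hide (0 < α01))
    (od2 : Hide (0 < α02 + α12))
    (od3 : Hide (0 < α03 + α13 + α23))
    (od4 : Hide (0 < α04 + α14 + α24 + α34))
    (od5 : Hide (0 < α05 + α15 + α25 + α35 + α45))
    (od6 : Hide (0 < α06 + α16 + α26 + α36 + α46 + α56))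
    (od7 : Hide (0 < α07 + α17 + α27 + α37 + α47 + α57 + α67))
    (c01 : Hide (((Hide (x01 = 0 ∧ x10 = 0) ∧ Hide (T.a 0 1 = 0 ∧ T.a 1 0 = 0) ∧ Hide (α01 = 0 ∧ α10 = 0)) ∧ q01 = 0) ∨ ((Hide (x01 = T.m 1 ∧ x10 = T.m 0) ∧ Hide (T.a 0 1 = T.w 0 ∧ T.a 1 0 = T.w 1) ∧ Hide (α01 = 1 ∧ α10 = 1)) ∧ q01 = 1) ∨ ((Hide (x01 = T.m 1 ∧ x10 = 2 * T.m 0) ∧ Hide (T.a 0 1 = T.w 0 ∧ T.a 1 0 = 2 * T.w 1) ∧ Hide (α01 = 1 ∧ α10 = 2)) ∧ q01 = 2) ∨ ((Hide (x01 = 2 * T.m 1 ∧ x10 = T.m 0) ∧ Hide (T.a 0 1 = 2 * T.w 0 ∧ T.a 1 0 = T.w 1) ∧ Hide (α01 = 2 ∧ α10 = 1)) ∧ q01 = 2) ∨ ((Hide (x01 = T.m 1 ∧ x10 = 3 * T.m 0) ∧ Hide (T.a 0 1 = T.w 0 ∧ T.a 1 0 = 3 * T.w 1) ∧ Hide (α01 = 1 ∧ α10 = 3)) ∧ q01 = 3) ∨ ((Hide (x01 = 3 * T.m 1 ∧ x10 = T.m 0) ∧ Hide (T.a 0 1 = 3 * T.w 0 ∧ T.a 1 0 = T.w 1) ∧ Hide (α01 = 3 ∧ α10 = 1)) ∧ q01 = 3) ∨ ((Hide (x01 = T.m 1 ∧ x10 =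 4 * T.m 0) ∧ Hide (T.a 0 1 = T.w 0 ∧ T.a 1 0 = 4 * T.w 1) ∧ Hide (α01 = 1 ∧ α10 = 4)) ∧ q01 = 4) ∨ ((Hide (x01 = 4 * T.m 1 ∧ x10 = T.m 0) ∧ Hide (T.a 0 1 = 4 * T.w 0 ∧ T.a 1 0 = T.w 1) ∧ Hide (α01 = 4 ∧ α10 = 1)) ∧ q01 = 4) ∨ ((Hide (x01 = 2 * T.m 1 ∧ x10 = 2 * T.m 0) ∧ Hide (T.a 0 1 = 2 * T.w 0 ∧ T.a 1 0 = 2 * T.w 1) ∧ Hide (α01 = 2 ∧ α10 = 2)) ∧ q01 = 4)))
    (c02 : Hide (((Hide (x02 = 0 ∧ x20 = 0) ∧ Hide (T.a 0 2 = 0 ∧ T.a 2 0 = 0) ∧ Hide (α02 = 0 ∧ α20 = 0)) ∧ q02 = 0) ∨ ((Hide (x02 = T.m 2 ∧ x20 = T.m 0) ∧ Hide (T.a 0 2 = T.w 0 ∧ T.a 2 0 = T.w 2) ∧ Hide (α02 = 1 ∧ α20 = 1)) ∧ q02 = 1) ∨ ((Hide (x02 = T.m 2 ∧ x20 = 2 * T.m 0) ∧ Hide (T.a 0 2 = T.w 0 ∧ T.a 2 0 = 2 * T.w 2) ∧ Hide (α02 = 1 ∧ α20 = 2)) ∧ q02 = 2) ∨ ((Hide (x02 = 2 * T.m 2 ∧ x20 = T.m 0) ∧ Hide (T.a 0 2 = 2 * T.w 0 ∧ T.a 2 0 = T.w 2) ∧ Hide (α02 = 2 ∧ α20 =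 1)) ∧ q02 = 2) ∨ ((Hide (x02 = T.m 2 ∧ x20 = 3 * T.m 0) ∧ Hide (T.a 0 2 = T.w 0 ∧ T.a 2 0 = 3 * T.w 2) ∧ Hide (α02 = 1 ∧ α20 = 3)) ∧ q02 = 3) ∨ ((Hide (x02 = 3 * T.m 2 ∧ x20 = T.m 0) ∧ Hide (T.a 0 2 = 3 * T.w 0 ∧ T.a 2 0 = T.w 2) ∧ Hide (α02 = 3 ∧ α20 = 1)) ∧ q02 = 3) ∨ ((Hide (x02 = T.m 2 ∧ x20 = 4 * T.m 0) ∧ Hide (T.a 0 2 = T.w 0 ∧ T.a 2 0 = 4 * T.w 2) ∧ Hide (α02 = 1 ∧ α20 = 4)) ∧ q02 = 4) ∨ ((Hide (x02 = 4 * T.m 2 ∧ x20 = T.m 0) ∧ Hide (T.a 0 2 = 4 * T.w 0 ∧ T.a 2 0 = T.w 2) ∧ Hide (α02 = 4 ∧ α20 = 1)) ∧ q02 = 4) ∨ ((Hide (x02 = 2 * T.m 2 ∧ x20 = 2 * T.m 0) ∧ Hide (T.a 0 2 = 2 * T.w 0 ∧ T.a 2 0 = 2 * T.w 2) ∧ Hide (α02 = 2 ∧ α20 = 2)) ∧ q02 = 4)))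
    (c03 : Hide (((Hide (x03 = 0 ∧ x30 = 0) ∧ Hide (T.a 0 3 = 0 ∧ T.a 3 0 = 0) ∧ Hide (α03 = 0 ∧ α30 = 0)) ∧ q03 = 0) ∨ ((Hide (x03 = T.m 3 ∧ x30 = T.m 0) ∧ Hide (T.a 0 3 = T.w 0 ∧ T.a 3 0 = T.w 3) ∧ Hide (α03 = 1 ∧ α30 = 1)) ∧ q03 = 1) ∨ ((Hide (x03 = T.m 3 ∧ x30 = 2 * T.m 0) ∧ Hide (T.a 0 3 = T.w 0 ∧ T.a 3 0 = 2 * T.w 3) ∧ Hide (α03 = 1 ∧ α30 = 2)) ∧ q03 = 2) ∨ ((Hide (x03 = 2 * T.m 3 ∧ x30 = T.m 0) ∧ Hide (T.a 0 3 = 2 * T.w 0 ∧ T.a 3 0 = T.w 3) ∧ Hide (α03 = 2 ∧ α30 = 1)) ∧ q03 = 2) ∨ ((Hide (x03 = T.m 3 ∧ x30 = 3 * T.m 0) ∧ Hide (T.a 0 3 = T.w 0 ∧ T.a 3 0 = 3 * T.w 3) ∧ Hide (α03 = 1 ∧ α30 = 3)) ∧ q03 = 3) ∨ ((Hide (x03 = 3 * T.m 3 ∧ x30 = T.m 0) ∧ Hide (T.a 0 3 = 3 * T.w 0 ∧ T.a 3 0 = T.w 3) ∧ Hide (α03 = 3 ∧ α30 = 1)) ∧ q03 = 3) ∨ ((Hide (x03 = T.m 3 ∧ x30 = 4 * T.m 0) ∧ Hide (T.a 0 3 = T.w 0 ∧ T.a 3 0 = 4 * T.w 3) ∧ Hide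 (α03 = 1 ∧ α30 = 4)) ∧ q03 = 4) ∨ ((Hide (x03 = 4 * T.m 3 ∧ x30 = T.m 0) ∧ Hide (T.a 0 3 = 4 * T.w 0 ∧ T.a 3 0 = T.w 3) ∧ Hide (α03 = 4 ∧ α30 = 1)) ∧ q03 = 4) ∨ ((Hide (x03 = 2 * T.m 3 ∧ x30 = 2 * T.m 0) ∧ Hide (T.a 0 3 = 2 * T.w 0 ∧ T.a 3 0 = 2 * T.w 3) ∧ Hide (α03 = 2 ∧ α30 = 2)) ∧ q03 = 4)))
    (c04 : Hide (((Hide (x04 = 0 ∧ x40 = 0) ∧ Hide (T.a 0 4 = 0 ∧ T.a 4 0 = 0) ∧ Hide (α04 = 0 ∧ α40 = 0)) ∧ q04 = 0) ∨ ((Hide (x04 = T.m 4 ∧ x40 = T.m 0) ∧ Hide (T.a 0 4 = T.w 0 ∧ T.a 4 0 = T.w 4) ∧ Hide (α04 = 1 ∧ α40 = 1)) ∧ q04 = 1) ∨ ((Hide (x04 = T.m 4 ∧ x40 = 2 * T.m 0) ∧ Hide (T.a 0 4 = T.w 0 ∧ T.a 4 0 = 2 * T.w 4) ∧ Hide (α04 = 1 ∧ α40 = 2)) ∧ q04 = 2) ∨ ((Hide (x04 = 2 * T.m 4 ∧ x40 = T.m 0) ∧ Hide (T.a 0 4 = 2 * T.w 0 ∧ T.a 4 0 = T.w 4) ∧ Hide (α04 = 2 ∧ α40 = 1)) ∧ q04 = 2) ∨ ((Hide (x04 = T.m 4 ∧ x40 = 3 * T.m 0) ∧ Hide (T.a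 0 4 = T.w 0 ∧ T.a 4 0 = 3 * T.w 4) ∧ Hide (α04 = 1 ∧ α40 = 3)) ∧ q04 = 3) ∨ ((Hide (x04 = 3 * T.m 4 ∧ x40 = T.m 0) ∧ Hide (T.a 0 4 = 3 * T.w 0 ∧ T.a 4 0 = T.w 4) ∧ Hide (α04 = 3 ∧ α40 = 1)) ∧ q04 = 3) ∨ ((Hide (x04 = T.m 4 ∧ x40 = 4 * T.m 0) ∧ Hide (T.a 0 4 = T.w 0 ∧ T.a 4 0 = 4 * T.w 4) ∧ Hide (α04 = 1 ∧ α40 = 4)) ∧ q04 = 4) ∨ ((Hide (x04 = 4 * T.m 4 ∧ x40 = T.m 0) ∧ Hide (T.a 0 4 = 4 * T.w 0 ∧ T.a 4 0 = T.w 4) ∧ Hide (α04 = 4 ∧ α40 = 1)) ∧ q04 = 4) ∨ ((Hide (x04 = 2 * T.m 4 ∧ x40 = 2 * T.m 0) ∧ Hide (T.a 0 4 = 2 * T.w 0 ∧ T.a 4 0 = 2 * T.w 4) ∧ Hide (α04 = 2 ∧ α40 = 2)) ∧ q04 = 4)))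
    (c05 : Hide (((Hide (x05 = 0 ∧ x50 = 0) ∧ Hide (T.a 0 5 = 0 ∧ T.a 5 0 = 0) ∧ Hide (α05 = 0 ∧ α50 = 0)) ∧ q05 = 0) ∨ ((Hide (x05 = T.m 5 ∧ x50 = T.m 0) ∧ Hide (T.a 0 5 = T.w 0 ∧ T.a 5 0 = T.w 5) ∧ Hide (α05 = 1 ∧ α50 = 1)) ∧ q05 = 1) ∨ ((Hide (x05 = T.m 5 ∧ x50 = 2 * T.m 0) ∧ Hide (T.a 0 5 = T.w 0 ∧ T.a 5 0 = 2 * T.w 5) ∧ Hide (α05 = 1 ∧ α50 = 2)) ∧ q05 = 2) ∨ ((Hide (x05 = 2 * T.m 5 ∧ x50 = T.m 0) ∧ Hide (T.a 0 5 = 2 * T.w 0 ∧ T.a 5 0 = T.w 5) ∧ Hide (α05 = 2 ∧ α50 = 1)) ∧ q05 = 2) ∨ ((Hide (x05 = T.m 5 ∧ x50 = 3 * T.m 0) ∧ Hide (T.a 0 5 = T.w 0 ∧ T.a 5 0 = 3 * T.w 5) ∧ Hide (α05 = 1 ∧ α50 = 3)) ∧ q05 = 3) ∨ ((Hide (x05 = 3 * T.m 5 ∧ x50 = T.m 0) ∧ Hide (T.a 0 5 = 3 * T.w 0 ∧ T.a 5 0 = T.w 5) ∧ Hide (α05 = 3 ∧ α50 = 1)) ∧ q05 = 3) ∨ ((Hide (x05 = T.m 5 ∧ x50 = 4 * T.m 0) ∧ Hide (T.a 0 5 = T.w 0 ∧ T.a 5 0 = 4 * T.w 5) ∧ Hide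 (α05 = 1 ∧ α50 = 4)) ∧ q05 = 4) ∨ ((Hide (x05 = 4 * T.m 5 ∧ x50 = T.m 0) ∧ Hide (T.a 0 5 = 4 * T.w 0 ∧ T.a 5 0 = T.w 5) ∧ Hide (α05 = 4 ∧ α50 = 1)) ∧ q05 = 4) ∨ ((Hide (x05 = 2 * T.m 5 ∧ x50 = 2 * T.m 0) ∧ Hide (T.a 0 5 = 2 * T.w 0 ∧ T.a 5 0 = 2 * T.w 5) ∧ Hide (α05 = 2 ∧ α50 = 2)) ∧ q05 = 4)))
    (c06 : Hide (((Hide (x06 = 0 ∧ x60 = 0) ∧ Hide (T.a 0 6 = 0 ∧ T.a 6 0 = 0) ∧ Hide (α06 = 0 ∧ α60 = 0)) ∧ q06 = 0) ∨ ((Hide (x06 = T.m 6 ∧ x60 = T.m 0) ∧ Hide (T.a 0 6 = T.w 0 ∧ T.a 6 0 = T.w 6) ∧ Hide (α06 = 1 ∧ α60 = 1)) ∧ q06 = 1) ∨ ((Hide (x06 = T.m 6 ∧ x60 = 2 * T.m 0) ∧ Hide (T.a 0 6 = T.w 0 ∧ T.a 6 0 = 2 * T.w 6) ∧ Hide (α06 = 1 ∧ α60 = 2)) ∧ q06 = 2) ∨ ((Hide (x06 = 2 * T.m 6 ∧ x60 = T.m 0) ∧ Hide (T.a 0 6 = 2 * T.w 0 ∧ T.a 6 0 = T.w 6) ∧ Hide (α06 = 2 ∧ α60 = 1)) ∧ q06 = 2) ∨ ((Hide (x06 = T.m 6 ∧ x60 = 3 * T.m 0) ∧ Hide (T.a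 0 6 = T.w 0 ∧ T.a 6 0 = 3 * T.w 6) ∧ Hide (α06 = 1 ∧ α60 = 3)) ∧ q06 = 3) ∨ ((Hide (x06 = 3 * T.m 6 ∧ x60 = T.m 0) ∧ Hide (T.a 0 6 = 3 * T.w 0 ∧ T.a 6 0 = T.w 6) ∧ Hide (α06 = 3 ∧ α60 = 1)) ∧ q06 = 3) ∨ ((Hide (x06 = T.m 6 ∧ x60 = 4 * T.m 0) ∧ Hide (T.a 0 6 = T.w 0 ∧ T.a 6 0 = 4 * T.w 6) ∧ Hide (α06 = 1 ∧ α60 = 4)) ∧ q06 = 4) ∨ ((Hide (x06 = 4 * T.m 6 ∧ x60 = T.m 0) ∧ Hide (T.a 0 6 = 4 * T.w 0 ∧ T.a 6 0 = T.w 6) ∧ Hide (α06 = 4 ∧ α60 = 1)) ∧ q06 = 4) ∨ ((Hide (x06 = 2 * T.m 6 ∧ x60 = 2 * T.m 0) ∧ Hide (T.a 0 6 = 2 * T.w 0 ∧ T.a 6 0 = 2 * T.w 6) ∧ Hide (α06 = 2 ∧ α60 = 2)) ∧ q06 = 4)))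
    (c07 : Hide (((Hide (x07 = 0 ∧ x70 = 0) ∧ Hide (T.a 0 7 = 0 ∧ T.a 7 0 = 0) ∧ Hide (α07 = 0 ∧ α70 = 0)) ∧ q07 = 0) ∨ ((Hide (x07 = T.m 7 ∧ x70 = T.m 0) ∧ Hide (T.a 0 7 = T.w 0 ∧ T.a 7 0 = T.w 7) ∧ Hide (α07 = 1 ∧ α70 = 1)) ∧ q07 = 1) ∨ ((Hide (x07 = T.m 7 ∧ x70 = 2 * T.m 0) ∧ Hide (T.a 0 7 = T.w 0 ∧ T.a 7 0 = 2 * T.w 7) ∧ Hide (α07 = 1 ∧ α70 = 2)) ∧ q07 = 2) ∨ ((Hide (x07 = 2 * T.m 7 ∧ x70 = T.m 0) ∧ Hide (T.a 0 7 = 2 * T.w 0 ∧ T.a 7 0 = T.w 7) ∧ Hide (α07 = 2 ∧ α70 = 1)) ∧ q07 = 2) ∨ ((Hide (x07 = T.m 7 ∧ x70 = 3 * T.m 0) ∧ Hide (T.a 0 7 = T.w 0 ∧ T.a 7 0 = 3 * T.w 7) ∧ Hide (α07 = 1 ∧ α70 = 3)) ∧ q07 = 3) ∨ ((Hide (x07 = 3 * T.m 7 ∧ x70 = T.m 0) ∧ Hide (T.a 0 7 = 3 * T.w 0 ∧ T.a 7 0 = T.w 7) ∧ Hide (α07 = 3 ∧ α70 = 1)) ∧ q07 = 3) ∨ ((Hide (x07 = T.m 7 ∧ x70 = 4 * T.m 0) ∧ Hide (T.a 0 7 = T.w 0 ∧ T.a 7 0 = 4 * T.w 7) ∧ Hide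 (α07 = 1 ∧ α70 = 4)) ∧ q07 = 4) ∨ ((Hide (x07 = 4 * T.m 7 ∧ x70 = T.m 0) ∧ Hide (T.a 0 7 = 4 * T.w 0 ∧ T.a 7 0 = T.w 7) ∧ Hide (α07 = 4 ∧ α70 = 1)) ∧ q07 = 4) ∨ ((Hide (x07 = 2 * T.m 7 ∧ x70 = 2 * T.m 0) ∧ Hide (T.a 0 7 = 2 * T.w 0 ∧ T.a 7 0 = 2 * T.w 7) ∧ Hide (α07 = 2 ∧ α70 = 2)) ∧ q07 = 4)))
    (c12 : Hide (((Hide (x12 = 0 ∧ x21 = 0) ∧ Hide (T.a 1 2 = 0 ∧ T.a 2 1 = 0) ∧ Hide (α12 = 0 ∧ α21 = 0)) ∧ q12 = 0) ∨ ((Hide (x12 = T.m 2 ∧ x21 = T.m 1) ∧ Hide (T.a 1 2 = T.w 1 ∧ T.a 2 1 = T.w 2) ∧ Hide (α12 = 1 ∧ α21 = 1)) ∧ q12 = 1) ∨ ((Hide (x12 = T.m 2 ∧ x21 = 2 * T.m 1) ∧ Hide (T.a 1 2 = T.w 1 ∧ T.a 2 1 = 2 * T.w 2) ∧ Hide (α12 = 1 ∧ α21 = 2)) ∧ q12 = 2) ∨ ((Hide (x12 = 2 * T.m 2 ∧ x21 = T.m 1) ∧ Hide (T.a 1 2 = 2 * T.w 1 ∧ T.a 2 1 = T.w 2) ∧ Hide (α12 = 2 ∧ α21 = 1)) ∧ q12 = 2) ∨ ((Hide (x12 = T.m 2 ∧ x21 = 3 * T.m 1) ∧ Hide (T.a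 1 2 = T.w 1 ∧ T.a 2 1 = 3 * T.w 2) ∧ Hide (α12 = 1 ∧ α21 = 3)) ∧ q12 = 3) ∨ ((Hide (x12 = 3 * T.m 2 ∧ x21 = T.m 1) ∧ Hide (T.a 1 2 = 3 * T.w 1 ∧ T.a 2 1 = T.w 2) ∧ Hide (α12 = 3 ∧ α21 = 1)) ∧ q12 = 3) ∨ ((Hide (x12 = T.m 2 ∧ x21 = 4 * T.m 1) ∧ Hide (T.a 1 2 = T.w 1 ∧ T.a 2 1 = 4 * T.w 2) ∧ Hide (α12 = 1 ∧ α21 = 4)) ∧ q12 = 4) ∨ ((Hide (x12 = 4 * T.m 2 ∧ x21 = T.m 1) ∧ Hide (T.a 1 2 = 4 * T.w 1 ∧ T.a 2 1 = T.w 2) ∧ Hide (α12 = 4 ∧ α21 = 1)) ∧ q12 = 4) ∨ ((Hide (x12 = 2 * T.m 2 ∧ x21 = 2 * T.m 1) ∧ Hide (T.a 1 2 = 2 * T.w 1 ∧ T.a 2 1 = 2 * T.w 2) ∧ Hide (α12 = 2 ∧ α21 = 2)) ∧ q12 = 4)))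
    (c13 : Hide (((Hide (x13 = 0 ∧ x31 = 0) ∧ Hide (T.a 1 3 = 0 ∧ T.a 3 1 = 0) ∧ Hide (α13 = 0 ∧ α31 = 0)) ∧ q13 = 0) ∨ ((Hide (x13 = T.m 3 ∧ x31 = T.m 1) ∧ Hide (T.a 1 3 = T.w 1 ∧ T.a 3 1 = T.w 3) ∧ Hide (α13 = 1 ∧ α31 = 1)) ∧ q13 = 1) ∨ ((Hide (x13 = T.m 3 ∧ x31 = 2 * T.m 1) ∧ Hide (T.a 1 3 = T.w 1 ∧ T.a 3 1 = 2 * T.w 3) ∧ Hide (α13 = 1 ∧ α31 = 2)) ∧ q13 = 2) ∨ ((Hide (x13 = 2 * T.m 3 ∧ x31 = T.m 1) ∧ Hide (T.a 1 3 = 2 * T.w 1 ∧ T.a 3 1 = T.w 3) ∧ Hide (α13 = 2 ∧ α31 = 1)) ∧ q13 = 2) ∨ ((Hide (x13 = T.m 3 ∧ x31 = 3 * T.m 1) ∧ Hide (T.a 1 3 = T.w 1 ∧ T.a 3 1 = 3 * T.w 3) ∧ Hide (α13 = 1 ∧ α31 = 3)) ∧ q13 = 3) ∨ ((Hide (x13 = 3 * T.m 3 ∧ x31 = T.m 1) ∧ Hide (T.a 1 3 = 3 * T.w 1 ∧ T.a 3 1 = T.w 3) ∧ Hide (α13 = 3 ∧ α31 = 1)) ∧ q13 = 3) ∨ ((Hide (x13 = T.m 3 ∧ x31 = 4 * T.m 1) ∧ Hide (T.a 1 3 = T.w 1 ∧ T.a 3 1 = 4 * T.w 3) ∧ Hide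 (α13 = 1 ∧ α31 = 4)) ∧ q13 = 4) ∨ ((Hide (x13 = 4 * T.m 3 ∧ x31 = T.m 1) ∧ Hide (T.a 1 3 = 4 * T.w 1 ∧ T.a 3 1 = T.w 3) ∧ Hide (α13 = 4 ∧ α31 = 1)) ∧ q13 = 4) ∨ ((Hide (x13 = 2 * T.m 3 ∧ x31 = 2 * T.m 1) ∧ Hide (T.a 1 3 = 2 * T.w 1 ∧ T.a 3 1 = 2 * T.w 3) ∧ Hide (α13 = 2 ∧ α31 = 2)) ∧ q13 = 4)))
    (c14 : Hide (((Hide (x14 = 0 ∧ x41 = 0) ∧ Hide (T.a 1 4 = 0 ∧ T.a 4 1 = 0) ∧ Hide (α14 = 0 ∧ α41 = 0)) ∧ q14 = 0) ∨ ((Hide (x14 = T.m 4 ∧ x41 = T.m 1) ∧ Hide (T.a 1 4 = T.w 1 ∧ T.a 4 1 = T.w 4) ∧ Hide (α14 = 1 ∧ α41 = 1)) ∧ q14 = 1) ∨ ((Hide (x14 = T.m 4 ∧ x41 = 2 * T.m 1) ∧ Hide (T.a 1 4 = T.w 1 ∧ T.a 4 1 = 2 * T.w 4) ∧ Hide (α14 = 1 ∧ α41 = 2)) ∧ q14 = 2) ∨ ((Hide (x14 = 2 * T.m 4 ∧ x41 = T.m 1) ∧ Hide (T.a 1 4 = 2 * T.w 1 ∧ T.a 4 1 = T.w 4) ∧ Hide (α14 = 2 ∧ α41 = 1)) ∧ q14 = 2) ∨ ((Hide (x14 = T.m 4 ∧ x41 = 3 * T.m 1) ∧ Hide (T.a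 1 4 = T.w 1 ∧ T.a 4 1 = 3 * T.w 4) ∧ Hide (α14 = 1 ∧ α41 = 3)) ∧ q14 = 3) ∨ ((Hide (x14 = 3 * T.m 4 ∧ x41 = T.m 1) ∧ Hide (T.a 1 4 = 3 * T.w 1 ∧ T.a 4 1 = T.w 4) ∧ Hide (α14 = 3 ∧ α41 = 1)) ∧ q14 = 3) ∨ ((Hide (x14 = T.m 4 ∧ x41 = 4 * T.m 1) ∧ Hide (T.a 1 4 = T.w 1 ∧ T.a 4 1 = 4 * T.w 4) ∧ Hide (α14 = 1 ∧ α41 = 4)) ∧ q14 = 4) ∨ ((Hide (x14 = 4 * T.m 4 ∧ x41 = T.m 1) ∧ Hide (T.a 1 4 = 4 * T.w 1 ∧ T.a 4 1 = T.w 4) ∧ Hide (α14 = 4 ∧ α41 = 1)) ∧ q14 = 4) ∨ ((Hide (x14 = 2 * T.m 4 ∧ x41 = 2 * T.m 1) ∧ Hide (T.a 1 4 = 2 * T.w 1 ∧ T.a 4 1 = 2 * T.w 4) ∧ Hide (α14 = 2 ∧ α41 = 2)) ∧ q14 = 4)))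
    (c15 : Hide (((Hide (x15 = 0 ∧ x51 = 0) ∧ Hide (T.a 1 5 = 0 ∧ T.a 5 1 = 0) ∧ Hide (α15 = 0 ∧ α51 = 0)) ∧ q15 = 0) ∨ ((Hide (x15 = T.m 5 ∧ x51 = T.m 1) ∧ Hide (T.a 1 5 = T.w 1 ∧ T.a 5 1 = T.w 5) ∧ Hide (α15 = 1 ∧ α51 = 1)) ∧ q15 = 1) ∨ ((Hide (x15 = T.m 5 ∧ x51 = 2 * T.m 1) ∧ Hide (T.a 1 5 = T.w 1 ∧ T.a 5 1 = 2 * T.w 5) ∧ Hide (α15 = 1 ∧ α51 = 2)) ∧ q15 = 2) ∨ ((Hide (x15 = 2 * T.m 5 ∧ x51 = T.m 1) ∧ Hide (T.a 1 5 = 2 * T.w 1 ∧ T.a 5 1 = T.w 5) ∧ Hide (α15 = 2 ∧ α51 = 1)) ∧ q15 = 2) ∨ ((Hide (x15 = T.m 5 ∧ x51 = 3 * T.m 1) ∧ Hide (T.a 1 5 = T.w 1 ∧ T.a 5 1 = 3 * T.w 5) ∧ Hide (α15 = 1 ∧ α51 = 3)) ∧ q15 = 3) ∨ ((Hide (x15 = 3 * T.m 5 ∧ x51 = T.m 1) ∧ Hide (T.a 1 5 = 3 * T.w 1 ∧ T.a 5 1 = T.w 5) ∧ Hide (α15 = 3 ∧ α51 = 1)) ∧ q15 = 3) ∨ ((Hide (x15 = T.m 5 ∧ x51 = 4 * T.m 1) ∧ Hide (T.a 1 5 = T.w 1 ∧ T.a 5 1 = 4 * T.w 5) ∧ Hide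 (α15 = 1 ∧ α51 = 4)) ∧ q15 = 4) ∨ ((Hide (x15 = 4 * T.m 5 ∧ x51 = T.m 1) ∧ Hide (T.a 1 5 = 4 * T.w 1 ∧ T.a 5 1 = T.w 5) ∧ Hide (α15 = 4 ∧ α51 = 1)) ∧ q15 = 4) ∨ ((Hide (x15 = 2 * T.m 5 ∧ x51 = 2 * T.m 1) ∧ Hide (T.a 1 5 = 2 * T.w 1 ∧ T.a 5 1 = 2 * T.w 5) ∧ Hide (α15 = 2 ∧ α51 = 2)) ∧ q15 = 4)))
    (c16 : Hide (((Hide (x16 = 0 ∧ x61 = 0) ∧ Hide (T.a 1 6 = 0 ∧ T.a 6 1 = 0) ∧ Hide (α16 = 0 ∧ α61 = 0)) ∧ q16 = 0) ∨ ((Hide (x16 = T.m 6 ∧ x61 = T.m 1) ∧ Hide (T.a 1 6 = T.w 1 ∧ T.a 6 1 = T.w 6) ∧ Hide (α16 = 1 ∧ α61 = 1)) ∧ q16 = 1) ∨ ((Hide (x16 = T.m 6 ∧ x61 = 2 * T.m 1) ∧ Hide (T.a 1 6 = T.w 1 ∧ T.a 6 1 = 2 * T.w 6) ∧ Hide (α16 = 1 ∧ α61 = 2)) ∧ q16 = 2) ∨ ((Hide (x16 = 2 * T.m 6 ∧ x61 = T.m 1) ∧ Hide (T.a 1 6 = 2 * T.w 1 ∧ T.a 6 1 = T.w 6) ∧ Hide (α16 = 2 ∧ α61 = 1)) ∧ q16 = 2) ∨ ((Hide (x16 = T.m 6 ∧ x61 = 3 * T.m 1) ∧ Hide (T.a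 1 6 = T.w 1 ∧ T.a 6 1 = 3 * T.w 6) ∧ Hide (α16 = 1 ∧ α61 = 3)) ∧ q16 = 3) ∨ ((Hide (x16 = 3 * T.m 6 ∧ x61 = T.m 1) ∧ Hide (T.a 1 6 = 3 * T.w 1 ∧ T.a 6 1 = T.w 6) ∧ Hide (α16 = 3 ∧ α61 = 1)) ∧ q16 = 3) ∨ ((Hide (x16 = T.m 6 ∧ x61 = 4 * T.m 1) ∧ Hide (T.a 1 6 = T.w 1 ∧ T.a 6 1 = 4 * T.w 6) ∧ Hide (α16 = 1 ∧ α61 = 4)) ∧ q16 = 4) ∨ ((Hide (x16 = 4 * T.m 6 ∧ x61 = T.m 1) ∧ Hide (T.a 1 6 = 4 * T.w 1 ∧ T.a 6 1 = T.w 6) ∧ Hide (α16 = 4 ∧ α61 = 1)) ∧ q16 = 4) ∨ ((Hide (x16 = 2 * T.m 6 ∧ x61 = 2 * T.m 1) ∧ Hide (T.a 1 6 = 2 * T.w 1 ∧ T.a 6 1 = 2 * T.w 6) ∧ Hide (α16 = 2 ∧ α61 = 2)) ∧ q16 = 4)))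
    (c17 : Hide (((Hide (x17 = 0 ∧ x71 = 0) ∧ Hide (T.a 1 7 = 0 ∧ T.a 7 1 = 0) ∧ Hide (α17 = 0 ∧ α71 = 0)) ∧ q17 = 0) ∨ ((Hide (x17 = T.m 7 ∧ x71 = T.m 1) ∧ Hide (T.a 1 7 = T.w 1 ∧ T.a 7 1 = T.w 7) ∧ Hide (α17 = 1 ∧ α71 = 1)) ∧ q17 = 1) ∨ ((Hide (x17 = T.m 7 ∧ x71 = 2 * T.m 1) ∧ Hide (T.a 1 7 = T.w 1 ∧ T.a 7 1 = 2 * T.w 7) ∧ Hide (α17 = 1 ∧ α71 = 2)) ∧ q17 = 2) ∨ ((Hide (x17 = 2 * T.m 7 ∧ x71 = T.m 1) ∧ Hide (T.a 1 7 = 2 * T.w 1 ∧ T.a 7 1 = T.w 7) ∧ Hide (α17 = 2 ∧ α71 = 1)) ∧ q17 = 2) ∨ ((Hide (x17 = T.m 7 ∧ x71 = 3 * T.m 1) ∧ Hide (T.a 1 7 = T.w 1 ∧ T.a 7 1 = 3 * T.w 7) ∧ Hide (α17 = 1 ∧ α71 = 3)) ∧ q17 = 3) ∨ ((Hide (x17 = 3 * T.m 7 ∧ x71 = T.m 1) ∧ Hide (T.a 1 7 = 3 * T.w 1 ∧ T.a 7 1 = T.w 7) ∧ Hide (α17 = 3 ∧ α71 = 1)) ∧ q17 = 3) ∨ ((Hide (x17 = T.m 7 ∧ x71 = 4 * T.m 1) ∧ Hide (T.a 1 7 = T.w 1 ∧ T.a 7 1 = 4 * T.w 7) ∧ Hide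 (α17 = 1 ∧ α71 = 4)) ∧ q17 = 4) ∨ ((Hide (x17 = 4 * T.m 7 ∧ x71 = T.m 1) ∧ Hide (T.a 1 7 = 4 * T.w 1 ∧ T.a 7 1 = T.w 7) ∧ Hide (α17 = 4 ∧ α71 = 1)) ∧ q17 = 4) ∨ ((Hide (x17 = 2 * T.m 7 ∧ x71 = 2 * T.m 1) ∧ Hide (T.a 1 7 = 2 * T.w 1 ∧ T.a 7 1 = 2 * T.w 7) ∧ Hide (α17 = 2 ∧ α71 = 2)) ∧ q17 = 4)))
    (c23 : Hide (((Hide (x23 = 0 ∧ x32 = 0) ∧ Hide (T.a 2 3 = 0 ∧ T.a 3 2 = 0) ∧ Hide (α23 = 0 ∧ α32 = 0)) ∧ q23 = 0) ∨ ((Hide (x23 = T.m 3 ∧ x32 = T.m 2) ∧ Hide (T.a 2 3 = T.w 2 ∧ T.a 3 2 = T.w 3) ∧ Hide (α23 = 1 ∧ α32 = 1)) ∧ q23 = 1) ∨ ((Hide (x23 = T.m 3 ∧ x32 = 2 * T.m 2) ∧ Hide (T.a 2 3 = T.w 2 ∧ T.a 3 2 = 2 * T.w 3) ∧ Hide (α23 = 1 ∧ α32 = 2)) ∧ q23 = 2) ∨ ((Hide (x23 = 2 * T.m 3 ∧ x32 = T.m 2) ∧ Hide (T.a 2 3 = 2 * T.w 2 ∧ T.a 3 2 = T.w 3) ∧ Hide (α23 = 2 ∧ α32 = 1)) ∧ q23 = 2) ∨ ((Hide (x23 = T.m 3 ∧ x32 = 3 * T.m 2) ∧ Hide (T.a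 2 3 = T.w 2 ∧ T.a 3 2 = 3 * T.w 3) ∧ Hide (α23 = 1 ∧ α32 = 3)) ∧ q23 = 3) ∨ ((Hide (x23 = 3 * T.m 3 ∧ x32 = T.m 2) ∧ Hide (T.a 2 3 = 3 * T.w 2 ∧ T.a 3 2 = T.w 3) ∧ Hide (α23 = 3 ∧ α32 = 1)) ∧ q23 = 3) ∨ ((Hide (x23 = T.m 3 ∧ x32 = 4 * T.m 2) ∧ Hide (T.a 2 3 = T.w 2 ∧ T.a 3 2 = 4 * T.w 3) ∧ Hide (α23 = 1 ∧ α32 = 4)) ∧ q23 = 4) ∨ ((Hide (x23 = 4 * T.m 3 ∧ x32 = T.m 2) ∧ Hide (T.a 2 3 = 4 * T.w 2 ∧ T.a 3 2 = T.w 3) ∧ Hide (α23 = 4 ∧ α32 = 1)) ∧ q23 = 4) ∨ ((Hide (x23 = 2 * T.m 3 ∧ x32 = 2 * T.m 2) ∧ Hide (T.a 2 3 = 2 * T.w 2 ∧ T.a 3 2 = 2 * T.w 3) ∧ Hide (α23 = 2 ∧ α32 = 2)) ∧ q23 = 4)))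
    (c24 : Hide (((Hide (x24 = 0 ∧ x42 = 0) ∧ Hide (T.a 2 4 = 0 ∧ T.a 4 2 = 0) ∧ Hide (α24 = 0 ∧ α42 = 0)) ∧ q24 = 0) ∨ ((Hide (x24 = T.m 4 ∧ x42 = T.m 2) ∧ Hide (T.a 2 4 = T.w 2 ∧ T.a 4 2 = T.w 4) ∧ Hide (α24 = 1 ∧ α42 = 1)) ∧ q24 = 1) ∨ ((Hide (x24 = T.m 4 ∧ x42 = 2 * T.m 2) ∧ Hide (T.a 2 4 = T.w 2 ∧ T.a 4 2 = 2 * T.w 4) ∧ Hide (α24 = 1 ∧ α42 = 2)) ∧ q24 = 2) ∨ ((Hide (x24 = 2 * T.m 4 ∧ x42 = T.m 2) ∧ Hide (T.a 2 4 = 2 * T.w 2 ∧ T.a 4 2 = T.w 4) ∧ Hide (α24 = 2 ∧ α42 = 1)) ∧ q24 = 2) ∨ ((Hide (x24 = T.m 4 ∧ x42 = 3 * T.m 2) ∧ Hide (T.a 2 4 = T.w 2 ∧ T.a 4 2 = 3 * T.w 4) ∧ Hide (α24 = 1 ∧ α42 = 3)) ∧ q24 = 3) ∨ ((Hide (x24 = 3 * T.m 4 ∧ x42 = T.m 2) ∧ Hide (T.a 2 4 = 3 * T.w 2 ∧ T.a 4 2 = T.w 4) ∧ Hide (α24 = 3 ∧ α42 = 1)) ∧ q24 = 3) ∨ ((Hide (x24 = T.m 4 ∧ x42 = 4 * T.m 2) ∧ Hide (T.a 2 4 = T.w 2 ∧ T.a 4 2 = 4 * T.w 4) ∧ Hide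 (α24 = 1 ∧ α42 = 4)) ∧ q24 = 4) ∨ ((Hide (x24 = 4 * T.m 4 ∧ x42 = T.m 2) ∧ Hide (T.a 2 4 = 4 * T.w 2 ∧ T.a 4 2 = T.w 4) ∧ Hide (α24 = 4 ∧ α42 = 1)) ∧ q24 = 4) ∨ ((Hide (x24 = 2 * T.m 4 ∧ x42 = 2 * T.m 2) ∧ Hide (T.a 2 4 = 2 * T.w 2 ∧ T.a 4 2 = 2 * T.w 4) ∧ Hide (α24 = 2 ∧ α42 = 2)) ∧ q24 = 4)))
    (c25 : Hide (((Hide (x25 = 0 ∧ x52 = 0) ∧ Hide (T.a 2 5 = 0 ∧ T.a 5 2 = 0) ∧ Hide (α25 = 0 ∧ α52 = 0)) ∧ q25 = 0) ∨ ((Hide (x25 = T.m 5 ∧ x52 = T.m 2) ∧ Hide (T.a 2 5 = T.w 2 ∧ T.a 5 2 = T.w 5) ∧ Hide (α25 = 1 ∧ α52 = 1)) ∧ q25 = 1) ∨ ((Hide (x25 = T.m 5 ∧ x52 = 2 * T.m 2) ∧ Hide (T.a 2 5 = T.w 2 ∧ T.a 5 2 = 2 * T.w 5) ∧ Hide (α25 = 1 ∧ α52 = 2)) ∧ q25 = 2) ∨ ((Hide (x25 = 2 * T.m 5 ∧ x52 = T.m 2) ∧ Hide (T.a 2 5 = 2 * T.w 2 ∧ T.a 5 2 = T.w 5) ∧ Hide (α25 = 2 ∧ α52 = 1)) ∧ q25 = 2) ∨ ((Hide (x25 = T.m 5 ∧ x52 = 3 * T.m 2) ∧ Hide (T.a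 2 5 = T.w 2 ∧ T.a 5 2 = 3 * T.w 5) ∧ Hide (α25 = 1 ∧ α52 = 3)) ∧ q25 = 3) ∨ ((Hide (x25 = 3 * T.m 5 ∧ x52 = T.m 2) ∧ Hide (T.a 2 5 = 3 * T.w 2 ∧ T.a 5 2 = T.w 5) ∧ Hide (α25 = 3 ∧ α52 = 1)) ∧ q25 = 3) ∨ ((Hide (x25 = T.m 5 ∧ x52 = 4 * T.m 2) ∧ Hide (T.a 2 5 = T.w 2 ∧ T.a 5 2 = 4 * T.w 5) ∧ Hide (α25 = 1 ∧ α52 = 4)) ∧ q25 = 4) ∨ ((Hide (x25 = 4 * T.m 5 ∧ x52 = T.m 2) ∧ Hide (T.a 2 5 = 4 * T.w 2 ∧ T.a 5 2 = T.w 5) ∧ Hide (α25 = 4 ∧ α52 = 1)) ∧ q25 = 4) ∨ ((Hide (x25 = 2 * T.m 5 ∧ x52 = 2 * T.m 2) ∧ Hide (T.a 2 5 = 2 * T.w 2 ∧ T.a 5 2 = 2 * T.w 5) ∧ Hide (α25 = 2 ∧ α52 = 2)) ∧ q25 = 4)))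
    (c26 : Hide (((Hide (x26 = 0 ∧ x62 = 0) ∧ Hide (T.a 2 6 = 0 ∧ T.a 6 2 = 0) ∧ Hide (α26 = 0 ∧ α62 = 0)) ∧ q26 = 0) ∨ ((Hide (x26 = T.m 6 ∧ x62 = T.m 2) ∧ Hide (T.a 2 6 = T.w 2 ∧ T.a 6 2 = T.w 6) ∧ Hide (α26 = 1 ∧ α62 = 1)) ∧ q26 = 1) ∨ ((Hide (x26 = T.m 6 ∧ x62 = 2 * T.m 2) ∧ Hide (T.a 2 6 = T.w 2 ∧ T.a 6 2 = 2 * T.w 6) ∧ Hide (α26 = 1 ∧ α62 = 2)) ∧ q26 = 2) ∨ ((Hide (x26 = 2 * T.m 6 ∧ x62 = T.m 2) ∧ Hide (T.a 2 6 = 2 * T.w 2 ∧ T.a 6 2 = T.w 6) ∧ Hide (α26 = 2 ∧ α62 = 1)) ∧ q26 = 2) ∨ ((Hide (x26 = T.m 6 ∧ x62 = 3 * T.m 2) ∧ Hide (T.a 2 6 = T.w 2 ∧ T.a 6 2 = 3 * T.w 6) ∧ Hide (α26 = 1 ∧ α62 = 3)) ∧ q26 = 3) ∨ ((Hide (x26 = 3 * T.m 6 ∧ x62 = T.m 2) ∧ Hide (T.a 2 6 = 3 * T.w 2 ∧ T.a 6 2 = T.w 6) ∧ Hide (α26 = 3 ∧ α62 = 1)) ∧ q26 = 3) ∨ ((Hide (x26 = T.m 6 ∧ x62 = 4 * T.m 2) ∧ Hide (T.a 2 6 = T.w 2 ∧ T.a 6 2 = 4 * T.w 6) ∧ Hide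 (α26 = 1 ∧ α62 = 4)) ∧ q26 = 4) ∨ ((Hide (x26 = 4 * T.m 6 ∧ x62 = T.m 2) ∧ Hide (T.a 2 6 = 4 * T.w 2 ∧ T.a 6 2 = T.w 6) ∧ Hide (α26 = 4 ∧ α62 = 1)) ∧ q26 = 4) ∨ ((Hide (x26 = 2 * T.m 6 ∧ x62 = 2 * T.m 2) ∧ Hide (T.a 2 6 = 2 * T.w 2 ∧ T.a 6 2 = 2 * T.w 6) ∧ Hide (α26 = 2 ∧ α62 = 2)) ∧ q26 = 4)))
    (c27 : Hide (((Hide (x27 = 0 ∧ x72 = 0) ∧ Hide (T.a 2 7 = 0 ∧ T.a 7 2 = 0) ∧ Hide (α27 = 0 ∧ α72 = 0)) ∧ q27 = 0) ∨ ((Hide (x27 = T.m 7 ∧ x72 = T.m 2) ∧ Hide (T.a 2 7 = T.w 2 ∧ T.a 7 2 = T.w 7) ∧ Hide (α27 = 1 ∧ α72 = 1)) ∧ q27 = 1) ∨ ((Hide (x27 = T.m 7 ∧ x72 = 2 * T.m 2) ∧ Hide (T.a 2 7 = T.w 2 ∧ T.a 7 2 = 2 * T.w 7) ∧ Hide (α27 = 1 ∧ α72 = 2)) ∧ q27 = 2) ∨ ((Hide (x27 = 2 * T.m 7 ∧ x72 = T.m 2) ∧ Hide (T.a 2 7 = 2 * T.w 2 ∧ T.a 7 2 = T.w 7) ∧ Hide (α27 = 2 ∧ α72 = 1)) ∧ q27 = 2) ∨ ((Hide (x27 = T.m 7 ∧ x72 = 3 * T.m 2) ∧ Hide (T.a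 2 7 = T.w 2 ∧ T.a 7 2 = 3 * T.w 7) ∧ Hide (α27 = 1 ∧ α72 = 3)) ∧ q27 = 3) ∨ ((Hide (x27 = 3 * T.m 7 ∧ x72 = T.m 2) ∧ Hide (T.a 2 7 = 3 * T.w 2 ∧ T.a 7 2 = T.w 7) ∧ Hide (α27 = 3 ∧ α72 = 1)) ∧ q27 = 3) ∨ ((Hide (x27 = T.m 7 ∧ x72 = 4 * T.m 2) ∧ Hide (T.a 2 7 = T.w 2 ∧ T.a 7 2 = 4 * T.w 7) ∧ Hide (α27 = 1 ∧ α72 = 4)) ∧ q27 = 4) ∨ ((Hide (x27 = 4 * T.m 7 ∧ x72 = T.m 2) ∧ Hide (T.a 2 7 = 4 * T.w 2 ∧ T.a 7 2 = T.w 7) ∧ Hide (α27 = 4 ∧ α72 = 1)) ∧ q27 = 4) ∨ ((Hide (x27 = 2 * T.m 7 ∧ x72 = 2 * T.m 2) ∧ Hide (T.a 2 7 = 2 * T.w 2 ∧ T.a 7 2 = 2 * T.w 7) ∧ Hide (α27 = 2 ∧ α72 = 2)) ∧ q27 = 4)))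
    (c34 : Hide (((Hide (x34 = 0 ∧ x43 = 0) ∧ Hide (T.a 3 4 = 0 ∧ T.a 4 3 = 0) ∧ Hide (α34 = 0 ∧ α43 = 0)) ∧ q34 = 0) ∨ ((Hide (x34 = T.m 4 ∧ x43 = T.m 3) ∧ Hide (T.a 3 4 = T.w 3 ∧ T.a 4 3 = T.w 4) ∧ Hide (α34 = 1 ∧ α43 = 1)) ∧ q34 = 1) ∨ ((Hide (x34 = T.m 4 ∧ x43 = 2 * T.m 3) ∧ Hide (T.a 3 4 = T.w 3 ∧ T.a 4 3 = 2 * T.w 4) ∧ Hide (α34 = 1 ∧ α43 = 2)) ∧ q34 = 2) ∨ ((Hide (x34 = 2 * T.m 4 ∧ x43 = T.m 3) ∧ Hide (T.a 3 4 = 2 * T.w 3 ∧ T.a 4 3 = T.w 4) ∧ Hide (α34 = 2 ∧ α43 = 1)) ∧ q34 = 2) ∨ ((Hide (x34 = T.m 4 ∧ x43 = 3 * T.m 3) ∧ Hide (T.a 3 4 = T.w 3 ∧ T.a 4 3 = 3 * T.w 4) ∧ Hide (α34 = 1 ∧ α43 = 3)) ∧ q34 = 3) ∨ ((Hide (x34 = 3 * T.m 4 ∧ x43 = T.m 3) ∧ Hide (T.a 3 4 = 3 * T.w 3 ∧ T.a 4 3 = T.w 4) ∧ Hide (α34 = 3 ∧ α43 = 1)) ∧ q34 = 3) ∨ ((Hide (x34 = T.m 4 ∧ x43 = 4 * T.m 3) ∧ Hide (T.a 3 4 = T.w 3 ∧ T.a 4 3 = 4 * T.w 4) ∧ Hide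 (α34 = 1 ∧ α43 = 4)) ∧ q34 = 4) ∨ ((Hide (x34 = 4 * T.m 4 ∧ x43 = T.m 3) ∧ Hide (T.a 3 4 = 4 * T.w 3 ∧ T.a 4 3 = T.w 4) ∧ Hide (α34 = 4 ∧ α43 = 1)) ∧ q34 = 4) ∨ ((Hide (x34 = 2 * T.m 4 ∧ x43 = 2 * T.m 3) ∧ Hide (T.a 3 4 = 2 * T.w 3 ∧ T.a 4 3 = 2 * T.w 4) ∧ Hide (α34 = 2 ∧ α43 = 2)) ∧ q34 = 4)))
    (c35 : Hide (((Hide (x35 = 0 ∧ x53 = 0) ∧ Hide (T.a 3 5 = 0 ∧ T.a 5 3 = 0) ∧ Hide (α35 = 0 ∧ α53 = 0)) ∧ q35 = 0) ∨ ((Hide (x35 = T.m 5 ∧ x53 = T.m 3) ∧ Hide (T.a 3 5 = T.w 3 ∧ T.a 5 3 = T.w 5) ∧ Hide (α35 = 1 ∧ α53 = 1)) ∧ q35 = 1) ∨ ((Hide (x35 = T.m 5 ∧ x53 = 2 * T.m 3) ∧ Hide (T.a 3 5 = T.w 3 ∧ T.a 5 3 = 2 * T.w 5) ∧ Hide (α35 = 1 ∧ α53 = 2)) ∧ q35 = 2) ∨ ((Hide (x35 = 2 * T.m 5 ∧ x53 = T.m 3) ∧ Hide (T.a 3 5 = 2 * T.w 3 ∧ T.a 5 3 = T.w 5) ∧ Hide (α35 = 2 ∧ α53 = 1)) ∧ q35 = 2) ∨ ((Hide (x35 = T.m 5 ∧ x53 = 3 * T.m 3) ∧ Hide (T.a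 3 5 = T.w 3 ∧ T.a 5 3 = 3 * T.w 5) ∧ Hide (α35 = 1 ∧ α53 = 3)) ∧ q35 = 3) ∨ ((Hide (x35 = 3 * T.m 5 ∧ x53 = T.m 3) ∧ Hide (T.a 3 5 = 3 * T.w 3 ∧ T.a 5 3 = T.w 5) ∧ Hide (α35 = 3 ∧ α53 = 1)) ∧ q35 = 3) ∨ ((Hide (x35 = T.m 5 ∧ x53 = 4 * T.m 3) ∧ Hide (T.a 3 5 = T.w 3 ∧ T.a 5 3 = 4 * T.w 5) ∧ Hide (α35 = 1 ∧ α53 = 4)) ∧ q35 = 4) ∨ ((Hide (x35 = 4 * T.m 5 ∧ x53 = T.m 3) ∧ Hide (T.a 3 5 = 4 * T.w 3 ∧ T.a 5 3 = T.w 5) ∧ Hide (α35 = 4 ∧ α53 = 1)) ∧ q35 = 4) ∨ ((Hide (x35 = 2 * T.m 5 ∧ x53 = 2 * T.m 3) ∧ Hide (T.a 3 5 = 2 * T.w 3 ∧ T.a 5 3 = 2 * T.w 5) ∧ Hide (α35 = 2 ∧ α53 = 2)) ∧ q35 = 4)))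
    (c36 : Hide (((Hide (x36 = 0 ∧ x63 = 0) ∧ Hide (T.a 3 6 = 0 ∧ T.a 6 3 = 0) ∧ Hide (α36 = 0 ∧ α63 = 0)) ∧ q36 = 0) ∨ ((Hide (x36 = T.m 6 ∧ x63 = T.m 3) ∧ Hide (T.a 3 6 = T.w 3 ∧ T.a 6 3 = T.w 6) ∧ Hide (α36 = 1 ∧ α63 = 1)) ∧ q36 = 1) ∨ ((Hide (x36 = T.m 6 ∧ x63 = 2 * T.m 3) ∧ Hide (T.a 3 6 = T.w 3 ∧ T.a 6 3 = 2 * T.w 6) ∧ Hide (α36 = 1 ∧ α63 = 2)) ∧ q36 = 2) ∨ ((Hide (x36 = 2 * T.m 6 ∧ x63 = T.m 3) ∧ Hide (T.a 3 6 = 2 * T.w 3 ∧ T.a 6 3 = T.w 6) ∧ Hide (α36 = 2 ∧ α63 = 1)) ∧ q36 = 2) ∨ ((Hide (x36 = T.m 6 ∧ x63 = 3 * T.m 3) ∧ Hide (T.a 3 6 = T.w 3 ∧ T.a 6 3 = 3 * T.w 6) ∧ Hide (α36 = 1 ∧ α63 = 3)) ∧ q36 = 3) ∨ ((Hide (x36 = 3 * T.m 6 ∧ x63 = T.m 3) ∧ Hide (T.a 3 6 = 3 * T.w 3 ∧ T.a 6 3 = T.w 6) ∧ Hide (α36 = 3 ∧ α63 = 1)) ∧ q36 = 3) ∨ ((Hide (x36 = T.m 6 ∧ x63 = 4 * T.m 3) ∧ Hide (T.a 3 6 = T.w 3 ∧ T.a 6 3 = 4 * T.w 6) ∧ Hide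 (α36 = 1 ∧ α63 = 4)) ∧ q36 = 4) ∨ ((Hide (x36 = 4 * T.m 6 ∧ x63 = T.m 3) ∧ Hide (T.a 3 6 = 4 * T.w 3 ∧ T.a 6 3 = T.w 6) ∧ Hide (α36 = 4 ∧ α63 = 1)) ∧ q36 = 4) ∨ ((Hide (x36 = 2 * T.m 6 ∧ x63 = 2 * T.m 3) ∧ Hide (T.a 3 6 = 2 * T.w 3 ∧ T.a 6 3 = 2 * T.w 6) ∧ Hide (α36 = 2 ∧ α63 = 2)) ∧ q36 = 4)))
    (c37 : Hide (((Hide (x37 = 0 ∧ x73 = 0) ∧ Hide (T.a 3 7 = 0 ∧ T.a 7 3 = 0) ∧ Hide (α37 = 0 ∧ α73 = 0)) ∧ q37 = 0) ∨ ((Hide (x37 = T.m 7 ∧ x73 = T.m 3) ∧ Hide (T.a 3 7 = T.w 3 ∧ T.a 7 3 = T.w 7) ∧ Hide (α37 = 1 ∧ α73 = 1)) ∧ q37 = 1) ∨ ((Hide (x37 = T.m 7 ∧ x73 = 2 * T.m 3) ∧ Hide (T.a 3 7 = T.w 3 ∧ T.a 7 3 = 2 * T.w 7) ∧ Hide (α37 = 1 ∧ α73 = 2)) ∧ q37 = 2) ∨ ((Hide (x37 = 2 * T.m 7 ∧ x73 = T.m 3) ∧ Hide (T.a 3 7 = 2 * T.w 3 ∧ T.a 7 3 = T.w 7) ∧ Hide (α37 = 2 ∧ α73 = 1)) ∧ q37 = 2) ∨ ((Hide (x37 = T.m 7 ∧ x73 = 3 * T.m 3) ∧ Hide (T.a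 3 7 = T.w 3 ∧ T.a 7 3 = 3 * T.w 7) ∧ Hide (α37 = 1 ∧ α73 = 3)) ∧ q37 = 3) ∨ ((Hide (x37 = 3 * T.m 7 ∧ x73 = T.m 3) ∧ Hide (T.a 3 7 = 3 * T.w 3 ∧ T.a 7 3 = T.w 7) ∧ Hide (α37 = 3 ∧ α73 = 1)) ∧ q37 = 3) ∨ ((Hide (x37 = T.m 7 ∧ x73 = 4 * T.m 3) ∧ Hide (T.a 3 7 = T.w 3 ∧ T.a 7 3 = 4 * T.w 7) ∧ Hide (α37 = 1 ∧ α73 = 4)) ∧ q37 = 4) ∨ ((Hide (x37 = 4 * T.m 7 ∧ x73 = T.m 3) ∧ Hide (T.a 3 7 = 4 * T.w 3 ∧ T.a 7 3 = T.w 7) ∧ Hide (α37 = 4 ∧ α73 = 1)) ∧ q37 = 4) ∨ ((Hide (x37 = 2 * T.m 7 ∧ x73 = 2 * T.m 3) ∧ Hide (T.a 3 7 = 2 * T.w 3 ∧ T.a 7 3 = 2 * T.w 7) ∧ Hide (α37 = 2 ∧ α73 = 2)) ∧ q37 = 4)))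
    (c45 : Hide (((Hide (x45 = 0 ∧ x54 = 0) ∧ Hide (T.a 4 5 = 0 ∧ T.a 5 4 = 0) ∧ Hide (α45 = 0 ∧ α54 = 0)) ∧ q45 = 0) ∨ ((Hide (x45 = T.m 5 ∧ x54 = T.m 4) ∧ Hide (T.a 4 5 = T.w 4 ∧ T.a 5 4 = T.w 5) ∧ Hide (α45 = 1 ∧ α54 = 1)) ∧ q45 = 1) ∨ ((Hide (x45 = T.m 5 ∧ x54 = 2 * T.m 4) ∧ Hide (T.a 4 5 = T.w 4 ∧ T.a 5 4 = 2 * T.w 5) ∧ Hide (α45 = 1 ∧ α54 = 2)) ∧ q45 = 2) ∨ ((Hide (x45 = 2 * T.m 5 ∧ x54 = T.m 4) ∧ Hide (T.a 4 5 = 2 * T.w 4 ∧ T.a 5 4 = T.w 5) ∧ Hide (α45 = 2 ∧ α54 = 1)) ∧ q45 = 2) ∨ ((Hide (x45 = T.m 5 ∧ x54 = 3 * T.m 4) ∧ Hide (T.a 4 5 = T.w 4 ∧ T.a 5 4 = 3 * T.w 5) ∧ Hide (α45 = 1 ∧ α54 = 3)) ∧ q45 = 3) ∨ ((Hide (x45 = 3 * T.m 5 ∧ x54 = T.m 4) ∧ Hide (T.a 4 5 = 3 * T.w 4 ∧ T.a 5 4 = T.w 5) ∧ Hide (α45 = 3 ∧ α54 = 1)) ∧ q45 = 3) ∨ ((Hide (x45 = T.m 5 ∧ x54 = 4 * T.m 4) ∧ Hide (T.a 4 5 = T.w 4 ∧ T.a 5 4 = 4 * T.w 5) ∧ Hide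 (α45 = 1 ∧ α54 = 4)) ∧ q45 = 4) ∨ ((Hide (x45 = 4 * T.m 5 ∧ x54 = T.m 4) ∧ Hide (T.a 4 5 = 4 * T.w 4 ∧ T.a 5 4 = T.w 5) ∧ Hide (α45 = 4 ∧ α54 = 1)) ∧ q45 = 4) ∨ ((Hide (x45 = 2 * T.m 5 ∧ x54 = 2 * T.m 4) ∧ Hide (T.a 4 5 = 2 * T.w 4 ∧ T.a 5 4 = 2 * T.w 5) ∧ Hide (α45 = 2 ∧ α54 = 2)) ∧ q45 = 4)))
    (c46 : Hide (((Hide (x46 = 0 ∧ x64 = 0) ∧ Hide (T.a 4 6 = 0 ∧ T.a 6 4 = 0) ∧ Hide (α46 = 0 ∧ α64 = 0)) ∧ q46 = 0) ∨ ((Hide (x46 = T.m 6 ∧ x64 = T.m 4) ∧ Hide (T.a 4 6 = T.w 4 ∧ T.a 6 4 = T.w 6) ∧ Hide (α46 = 1 ∧ α64 = 1)) ∧ q46 = 1) ∨ ((Hide (x46 = T.m 6 ∧ x64 = 2 * T.m 4) ∧ Hide (T.a 4 6 = T.w 4 ∧ T.a 6 4 = 2 * T.w 6) ∧ Hide (α46 = 1 ∧ α64 = 2)) ∧ q46 = 2) ∨ ((Hide (x46 = 2 * T.m 6 ∧ x64 = T.m 4) ∧ Hide (T.a 4 6 = 2 * T.w 4 ∧ T.a 6 4 = T.w 6) ∧ Hide (α46 = 2 ∧ α64 = 1)) ∧ q46 = 2) ∨ ((Hide (x46 = T.m 6 ∧ x64 = 3 * T.m 4) ∧ Hide (T.a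 4 6 = T.w 4 ∧ T.a 6 4 = 3 * T.w 6) ∧ Hide (α46 = 1 ∧ α64 = 3)) ∧ q46 = 3) ∨ ((Hide (x46 = 3 * T.m 6 ∧ x64 = T.m 4) ∧ Hide (T.a 4 6 = 3 * T.w 4 ∧ T.a 6 4 = T.w 6) ∧ Hide (α46 = 3 ∧ α64 = 1)) ∧ q46 = 3) ∨ ((Hide (x46 = T.m 6 ∧ x64 = 4 * T.m 4) ∧ Hide (T.a 4 6 = T.w 4 ∧ T.a 6 4 = 4 * T.w 6) ∧ Hide (α46 = 1 ∧ α64 = 4)) ∧ q46 = 4) ∨ ((Hide (x46 = 4 * T.m 6 ∧ x64 = T.m 4) ∧ Hide (T.a 4 6 = 4 * T.w 4 ∧ T.a 6 4 = T.w 6) ∧ Hide (α46 = 4 ∧ α64 = 1)) ∧ q46 = 4) ∨ ((Hide (x46 = 2 * T.m 6 ∧ x64 = 2 * T.m 4) ∧ Hide (T.a 4 6 = 2 * T.w 4 ∧ T.a 6 4 = 2 * T.w 6) ∧ Hide (α46 = 2 ∧ α64 = 2)) ∧ q46 = 4)))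
    (c47 : Hide (((Hide (x47 = 0 ∧ x74 = 0) ∧ Hide (T.a 4 7 = 0 ∧ T.a 7 4 = 0) ∧ Hide (α47 = 0 ∧ α74 = 0)) ∧ q47 = 0) ∨ ((Hide (x47 = T.m 7 ∧ x74 = T.m 4) ∧ Hide (T.a 4 7 = T.w 4 ∧ T.a 7 4 = T.w 7) ∧ Hide (α47 = 1 ∧ α74 = 1)) ∧ q47 = 1) ∨ ((Hide (x47 = T.m 7 ∧ x74 = 2 * T.m 4) ∧ Hide (T.a 4 7 = T.w 4 ∧ T.a 7 4 = 2 * T.w 7) ∧ Hide (α47 = 1 ∧ α74 = 2)) ∧ q47 = 2) ∨ ((Hide (x47 = 2 * T.m 7 ∧ x74 = T.m 4) ∧ Hide (T.a 4 7 = 2 * T.w 4 ∧ T.a 7 4 = T.w 7) ∧ Hide (α47 = 2 ∧ α74 = 1)) ∧ q47 = 2) ∨ ((Hide (x47 = T.m 7 ∧ x74 = 3 * T.m 4) ∧ Hide (T.a 4 7 = T.w 4 ∧ T.a 7 4 = 3 * T.w 7) ∧ Hide (α47 = 1 ∧ α74 = 3)) ∧ q47 = 3) ∨ ((Hide (x47 = 3 * T.m 7 ∧ x74 = T.m 4) ∧ Hide (T.a 4 7 = 3 * T.w 4 ∧ T.a 7 4 = T.w 7) ∧ Hide (α47 = 3 ∧ α74 = 1)) ∧ q47 = 3) ∨ ((Hide (x47 = T.m 7 ∧ x74 = 4 * T.m 4) ∧ Hide (T.a 4 7 = T.w 4 ∧ T.a 7 4 = 4 * T.w 7) ∧ Hide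 (α47 = 1 ∧ α74 = 4)) ∧ q47 = 4) ∨ ((Hide (x47 = 4 * T.m 7 ∧ x74 = T.m 4) ∧ Hide (T.a 4 7 = 4 * T.w 4 ∧ T.a 7 4 = T.w 7) ∧ Hide (α47 = 4 ∧ α74 = 1)) ∧ q47 = 4) ∨ ((Hide (x47 = 2 * T.m 7 ∧ x74 = 2 * T.m 4) ∧ Hide (T.a 4 7 = 2 * T.w 4 ∧ T.a 7 4 = 2 * T.w 7) ∧ Hide (α47 = 2 ∧ α74 = 2)) ∧ q47 = 4)))
    (c56 : Hide (((Hide (x56 = 0 ∧ x65 = 0) ∧ Hide (T.a 5 6 = 0 ∧ T.a 6 5 = 0) ∧ Hide (α56 = 0 ∧ α65 = 0)) ∧ q56 = 0) ∨ ((Hide (x56 = T.m 6 ∧ x65 = T.m 5) ∧ Hide (T.a 5 6 = T.w 5 ∧ T.a 6 5 = T.w 6) ∧ Hide (α56 = 1 ∧ α65 = 1)) ∧ q56 = 1) ∨ ((Hide (x56 = T.m 6 ∧ x65 = 2 * T.m 5) ∧ Hide (T.a 5 6 = T.w 5 ∧ T.a 6 5 = 2 * T.w 6) ∧ Hide (α56 = 1 ∧ α65 = 2)) ∧ q56 = 2) ∨ ((Hide (x56 = 2 * T.m 6 ∧ x65 = T.m 5) ∧ Hide (T.a 5 6 = 2 * T.w 5 ∧ T.a 6 5 = T.w 6) ∧ Hide (α56 = 2 ∧ α65 = 1)) ∧ q56 = 2) ∨ ((Hide (x56 = T.m 6 ∧ x65 = 3 * T.m 5) ∧ Hide (T.a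 5 6 = T.w 5 ∧ T.a 6 5 = 3 * T.w 6) ∧ Hide (α56 = 1 ∧ α65 = 3)) ∧ q56 = 3) ∨ ((Hide (x56 = 3 * T.m 6 ∧ x65 = T.m 5) ∧ Hide (T.a 5 6 = 3 * T.w 5 ∧ T.a 6 5 = T.w 6) ∧ Hide (α56 = 3 ∧ α65 = 1)) ∧ q56 = 3) ∨ ((Hide (x56 = T.m 6 ∧ x65 = 4 * T.m 5) ∧ Hide (T.a 5 6 = T.w 5 ∧ T.a 6 5 = 4 * T.w 6) ∧ Hide (α56 = 1 ∧ α65 = 4)) ∧ q56 = 4) ∨ ((Hide (x56 = 4 * T.m 6 ∧ x65 = T.m 5) ∧ Hide (T.a 5 6 = 4 * T.w 5 ∧ T.a 6 5 = T.w 6) ∧ Hide (α56 = 4 ∧ α65 = 1)) ∧ q56 = 4) ∨ ((Hide (x56 = 2 * T.m 6 ∧ x65 = 2 * T.m 5) ∧ Hide (T.a 5 6 = 2 * T.w 5 ∧ T.a 6 5 = 2 * T.w 6) ∧ Hide (α56 = 2 ∧ α65 = 2)) ∧ q56 = 4)))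
    (c57 : Hide (((Hide (x57 = 0 ∧ x75 = 0) ∧ Hide (T.a 5 7 = 0 ∧ T.a 7 5 = 0) ∧ Hide (α57 = 0 ∧ α75 = 0)) ∧ q57 = 0) ∨ ((Hide (x57 = T.m 7 ∧ x75 = T.m 5) ∧ Hide (T.a 5 7 = T.w 5 ∧ T.a 7 5 = T.w 7) ∧ Hide (α57 = 1 ∧ α75 = 1)) ∧ q57 = 1) ∨ ((Hide (x57 = T.m 7 ∧ x75 = 2 * T.m 5) ∧ Hide (T.a 5 7 = T.w 5 ∧ T.a 7 5 = 2 * T.w 7) ∧ Hide (α57 = 1 ∧ α75 = 2)) ∧ q57 = 2) ∨ ((Hide (x57 = 2 * T.m 7 ∧ x75 = T.m 5) ∧ Hide (T.a 5 7 = 2 * T.w 5 ∧ T.a 7 5 = T.w 7) ∧ Hide (α57 = 2 ∧ α75 = 1)) ∧ q57 = 2) ∨ ((Hide (x57 = T.m 7 ∧ x75 = 3 * T.m 5) ∧ Hide (T.a 5 7 = T.w 5 ∧ T.a 7 5 = 3 * T.w 7) ∧ Hide (α57 = 1 ∧ α75 = 3)) ∧ q57 = 3) ∨ ((Hide (x57 = 3 * T.m 7 ∧ x75 = T.m 5) ∧ Hide (T.a 5 7 = 3 * T.w 5 ∧ T.a 7 5 = T.w 7) ∧ Hide (α57 = 3 ∧ α75 = 1)) ∧ q57 = 3) ∨ ((Hide (x57 = T.m 7 ∧ x75 = 4 * T.m 5) ∧ Hide (T.a 5 7 = T.w 5 ∧ T.a 7 5 = 4 * T.w 7) ∧ Hide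 (α57 = 1 ∧ α75 = 4)) ∧ q57 = 4) ∨ ((Hide (x57 = 4 * T.m 7 ∧ x75 = T.m 5) ∧ Hide (T.a 5 7 = 4 * T.w 5 ∧ T.a 7 5 = T.w 7) ∧ Hide (α57 = 4 ∧ α75 = 1)) ∧ q57 = 4) ∨ ((Hide (x57 = 2 * T.m 7 ∧ x75 = 2 * T.m 5) ∧ Hide (T.a 5 7 = 2 * T.w 5 ∧ T.a 7 5 = 2 * T.w 7) ∧ Hide (α57 = 2 ∧ α75 = 2)) ∧ q57 = 4)))
    (c67 : Hide (((Hide (x67 = 0 ∧ x76 = 0) ∧ Hide (T.a 6 7 = 0 ∧ T.a 7 6 = 0) ∧ Hide (α67 = 0 ∧ α76 = 0)) ∧ q67 = 0) ∨ ((Hide (x67 = T.m 7 ∧ x76 = T.m 6) ∧ Hide (T.a 6 7 = T.w 6 ∧ T.a 7 6 = T.w 7) ∧ Hide (α67 = 1 ∧ α76 = 1)) ∧ q67 = 1) ∨ ((Hide (x67 = T.m 7 ∧ x76 = 2 * T.m 6) ∧ Hide (T.a 6 7 = T.w 6 ∧ T.a 7 6 = 2 * T.w 7) ∧ Hide (α67 = 1 ∧ α76 = 2)) ∧ q67 = 2) ∨ ((Hide (x67 = 2 * T.m 7 ∧ x76 = T.m 6) ∧ Hide (T.a 6 7 = 2 * T.w 6 ∧ T.a 7 6 = T.w 7) ∧ Hide (α67 = 2 ∧ α76 = 1)) ∧ q67 = 2) ∨ ((Hide (x67 = T.m 7 ∧ x76 = 3 * T.m 6) ∧ Hide (T.a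 6 7 = T.w 6 ∧ T.a 7 6 = 3 * T.w 7) ∧ Hide (α67 = 1 ∧ α76 = 3)) ∧ q67 = 3) ∨ ((Hide (x67 = 3 * T.m 7 ∧ x76 = T.m 6) ∧ Hide (T.a 6 7 = 3 * T.w 6 ∧ T.a 7 6 = T.w 7) ∧ Hide (α67 = 3 ∧ α76 = 1)) ∧ q67 = 3) ∨ ((Hide (x67 = T.m 7 ∧ x76 = 4 * T.m 6) ∧ Hide (T.a 6 7 = T.w 6 ∧ T.a 7 6 = 4 * T.w 7) ∧ Hide (α67 = 1 ∧ α76 = 4)) ∧ q67 = 4) ∨ ((Hide (x67 = 4 * T.m 7 ∧ x76 = T.m 6) ∧ Hide (T.a 6 7 = 4 * T.w 6 ∧ T.a 7 6 = T.w 7) ∧ Hide (α67 = 4 ∧ α76 = 1)) ∧ q67 = 4) ∨ ((Hide (x67 = 2 * T.m 7 ∧ x76 = 2 * T.m 6) ∧ Hide (T.a 6 7 = 2 * T.w 6 ∧ T.a 7 6 = 2 * T.w 7) ∧ Hide (α67 = 2 ∧ α76 = 2)) ∧ q67 = 4))) : Goal T := by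
  have t := c01.out
  clear c01
  rcases t with ⟨⟨⟨rfl, rfl⟩, gw01, ⟨rfl, rfl⟩⟩, rfl⟩ | ⟨⟨⟨rfl, rfl⟩, gw01, ⟨rfl, rfl⟩⟩, rfl⟩ | ⟨⟨⟨rfl, rfl⟩, gw01, ⟨rfl, rfl⟩⟩, rfl⟩ | ⟨⟨⟨rfl, rfl⟩, gw01, ⟨rfl, rfl⟩⟩, rfl⟩ | ⟨⟨⟨rfl, rfl⟩, gw01, ⟨rfl, rfl⟩⟩, rfl⟩ | ⟨⟨⟨rfl, rfl⟩, gw01, ⟨rfl, rfl⟩⟩, rfl⟩ | ⟨⟨⟨rfl, rfl⟩, gw01, ⟨rfl, rfl⟩⟩, rfl⟩ | ⟨⟨⟨rfl, rfl⟩, gw01, ⟨rfl, rfl⟩⟩, rfl⟩ | ⟨⟨⟨rfl, rfl⟩, gw01, ⟨rfl, rfl⟩⟩, rfl⟩
  · (have := od1.out; omega)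
  · have t := pc3 q02 c02.out (by have := v0.out; have := qn03.out; have := qn04.out; have := qn05.out; have := qn06.out; have := qn07.out; omega)
    clear c02
    rcases t with ⟨⟨⟨rfl, rfl⟩, gw02, ⟨rfl, rfl⟩⟩, rfl⟩ | ⟨⟨⟨rfl, rfl⟩, gw02, ⟨rfl, rfl⟩⟩, rfl⟩ | ⟨⟨⟨rfl, rfl⟩, gw02, ⟨rfl, rfl⟩⟩, rfl⟩ | ⟨⟨⟨rfl, rfl⟩, gw02, ⟨rfl, rfl⟩⟩, rfl⟩ | ⟨⟨⟨rfl, rfl⟩, gw02, ⟨rfl, rfl⟩⟩, rfl⟩ | ⟨⟨⟨rfl, rfl⟩, gw02, ⟨rfl, rfl⟩⟩, rfl⟩
    · have t := pc3 q03 c03.out (by have := v0.out; have := qn04.out; have := qn05.out; have := qn06.out; have := qn07.out; omega)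
      clear c03
      rcases t with ⟨⟨⟨rfl, rfl⟩, gw03, ⟨rfl, rfl⟩⟩, rfl⟩ | ⟨⟨⟨rfl, rfl⟩, gw03, ⟨rfl, rfl⟩⟩, rfl⟩ | ⟨⟨⟨rfl, rfl⟩, gw03, ⟨rfl, rfl⟩⟩, rfl⟩ | ⟨⟨⟨rfl, rfl⟩, gw03, ⟨rfl, rfl⟩⟩, rfl⟩ | ⟨⟨⟨rfl, rfl⟩, gw03, ⟨rfl, rfl⟩⟩, rfl⟩ | ⟨⟨⟨rfl, rfl⟩, gw03, ⟨rfl, rfl⟩⟩, rfl⟩
      · have t := pc3 q04 c04.out (by have := v0.out; have := qn05.out; have := qn06.out; have := qn07.out; omega)
        clear c04
        rcases t with ⟨⟨⟨rfl, rfl⟩, gw04, ⟨rfl, rfl⟩⟩, rfl⟩ | ⟨⟨⟨rfl, rfl⟩, gw04, ⟨rfl, rfl⟩⟩, rfl⟩ | ⟨⟨⟨rfl, rfl⟩, gw04, ⟨rfl, rfl⟩⟩, rfl⟩ | ⟨⟨⟨rfl, rfl⟩, gw04, ⟨rfl, rfl⟩⟩, rfl⟩ | ⟨⟨⟨rfl, rfl⟩, gw04, ⟨rfl, rfl⟩⟩, rfl⟩ | ⟨⟨⟨rfl, rfl⟩, gw04, ⟨rfl, rfl⟩⟩, rfl⟩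
        · have t := pc3 q05 c05.out (by have := v0.out; have := qn06.out; have := qn07.out; omega)
          clear c05
          rcases t with ⟨⟨⟨rfl, rfl⟩, gw05, ⟨rfl, rfl⟩⟩, rfl⟩ | ⟨⟨⟨rfl, rfl⟩, gw05, ⟨rfl, rfl⟩⟩, rfl⟩ | ⟨⟨⟨rfl, rfl⟩, gw05, ⟨rfl, rfl⟩⟩, rfl⟩ | ⟨⟨⟨rfl, rfl⟩, gw05, ⟨rfl, rfl⟩⟩, rfl⟩ | ⟨⟨⟨rfl, rfl⟩, gw05, ⟨rfl, rfl⟩⟩, rfl⟩ | ⟨⟨⟨rfl, rfl⟩, gw05, ⟨rfl, rfl⟩⟩, rfl⟩
          · have t := pc3 q06 c06.out (by have := v0.out; have := qn07.out; omega)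
            clear c06
            rcases t with ⟨⟨⟨rfl, rfl⟩, gw06, ⟨rfl, rfl⟩⟩, rfl⟩ | ⟨⟨⟨rfl, rfl⟩, gw06, ⟨rfl, rfl⟩⟩, rfl⟩ | ⟨⟨⟨rfl, rfl⟩, gw06, ⟨rfl, rfl⟩⟩, rfl⟩ | ⟨⟨⟨rfl, rfl⟩, gw06, ⟨rfl, rfl⟩⟩, rfl⟩ | ⟨⟨⟨rfl, rfl⟩, gw06, ⟨rfl, rfl⟩⟩, rfl⟩ | ⟨⟨⟨rfl, rfl⟩, gw06, ⟨rfl, rfl⟩⟩, rfl⟩
            · have t := pc3 q07 c07.out (by have := v0.out; omega)
              clear c07
              rcases t with ⟨⟨⟨rfl, rfl⟩, gw07, ⟨rfl, rfl⟩⟩, rfl⟩ | ⟨⟨⟨rfl, rfl⟩, gw07, ⟨rfl, rfl⟩⟩, rfl⟩ | ⟨⟨⟨rfl, rfl⟩, gw07, ⟨rfl, rfl⟩⟩, rfl⟩ | ⟨⟨⟨rfl, rfl⟩, gw07, ⟨rfl, rfl⟩⟩, rfl⟩ | ⟨⟨⟨rfl, rfl⟩, gw07, ⟨rfl, rfl⟩⟩, rfl⟩ | ⟨⟨⟨rfl, rfl⟩, gw07, ⟨rfl, rfl⟩⟩, rfl⟩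
              · have t := pc3 q12 c12.out (by have := v1.out; have := qn13.out; have := qn14.out; have := qn15.out; have := qn16.out; have := qn17.out; omega)
                clear c12
                rcases t with ⟨⟨⟨rfl, rfl⟩, gw12, ⟨rfl, rfl⟩⟩, rfl⟩ | ⟨⟨⟨rfl, rfl⟩, gw12, ⟨rfl, rfl⟩⟩, rfl⟩ | ⟨⟨⟨rfl, rfl⟩, gw12, ⟨rfl, rfl⟩⟩, rfl⟩ | ⟨⟨⟨rfl, rfl⟩, gw12, ⟨rfl, rfl⟩⟩, rfl⟩ | ⟨⟨⟨rfl, rfl⟩, gw12, ⟨rfl, rfl⟩⟩, rfl⟩ | ⟨⟨⟨rfl, rfl⟩, gw12, ⟨rfl, rfl⟩⟩, rfl⟩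
                · (have := od2.out; omega)
                · have t := pc2 q13 c13.out (by have := v1.out; have := qn14.out; have := qn15.out; have := qn16.out; have := qn17.out; omega)
                  clear c13
                  rcases t with ⟨⟨⟨rfl, rfl⟩, gw13, ⟨rfl, rfl⟩⟩, rfl⟩ | ⟨⟨⟨rfl, rfl⟩, gw13, ⟨rfl, rfl⟩⟩, rfl⟩ | ⟨⟨⟨rfl, rfl⟩, gw13, ⟨rfl, rfl⟩⟩, rfl⟩ | ⟨⟨⟨rfl, rfl⟩, gw13, ⟨rfl, rfl⟩⟩, rfl⟩
                  · have t := pc2 q14 c14.out (by have := v1.out; have := qn15.out; have := qn16.out; have := qn17.out; omega)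
                    clear c14
                    rcases t with ⟨⟨⟨rfl, rfl⟩, gw14, ⟨rfl, rfl⟩⟩, rfl⟩ | ⟨⟨⟨rfl, rfl⟩, gw14, ⟨rfl, rfl⟩⟩, rfl⟩ | ⟨⟨⟨rfl, rfl⟩, gw14, ⟨rfl, rfl⟩⟩, rfl⟩ | ⟨⟨⟨rfl, rfl⟩, gw14, ⟨rfl, rfl⟩⟩, rfl⟩
                    · have t := pc2 q15 c15.out (by have := v1.out; have := qn16.out; have := qn17.out; omega)
                      clear c15
                      rcases t with ⟨⟨⟨rfl, rfl⟩, gw15, ⟨rfl, rfl⟩⟩, rfl⟩ | ⟨⟨⟨rfl, rfl⟩, gw15, ⟨rfl, rfl⟩⟩, rfl⟩ | ⟨⟨⟨rfl, rfl⟩, gw15, ⟨rfl, rfl⟩⟩, rfl⟩ | ⟨⟨⟨rfl, rfl⟩, gw15, ⟨rfl, rfl⟩⟩, rfl⟩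
                      · have t := pc2 q16 c16.out (by have := v1.out; have := qn17.out; omega)
                        clear c16
                        rcases t with ⟨⟨⟨rfl, rfl⟩, gw16, ⟨rfl, rfl⟩⟩, rfl⟩ | ⟨⟨⟨rfl, rfl⟩, gw16, ⟨rfl, rfl⟩⟩, rfl⟩ | ⟨⟨⟨rfl, rfl⟩, gw16, ⟨rfl, rfl⟩⟩, rfl⟩ | ⟨⟨⟨rfl, rfl⟩, gw16, ⟨rfl, rfl⟩⟩, rfl⟩
                        · have t := pc2 q17 c17.out (by have := v1.out; omega)
                          clear c17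
                          rcases t with ⟨⟨⟨rfl, rfl⟩, gw17, ⟨rfl, rfl⟩⟩, rfl⟩ | ⟨⟨⟨rfl, rfl⟩, gw17, ⟨rfl, rfl⟩⟩, rfl⟩ | ⟨⟨⟨rfl, rfl⟩, gw17, ⟨rfl, rfl⟩⟩, rfl⟩ | ⟨⟨⟨rfl, rfl⟩, gw17, ⟨rfl, rfl⟩⟩, rfl⟩
                          · have t := pc3 q23 c23.out (by have := v2.out; have := qn24.out; have := qn25.out; have := qn26.out; have := qn27.out; omega)
                            clear c23
                            rcases t with ⟨⟨⟨rfl, rfl⟩, gw23, ⟨rfl, rfl⟩⟩, rfl⟩ | ⟨⟨⟨rfl, rfl⟩, gw23, ⟨rfl, rfl⟩⟩, rfl⟩ | ⟨⟨⟨rfl, rfl⟩, gw23, ⟨rfl, rfl⟩⟩, rfl⟩ | ⟨⟨⟨rfl, rfl⟩, gw23, ⟨rfl, rfl⟩⟩, rfl⟩ | ⟨⟨⟨rfl, rfl⟩, gw23, ⟨rfl, rfl⟩⟩, rfl⟩ | ⟨⟨⟨rfl, rfl⟩, gw23, ⟨rfl, rfl⟩⟩, rfl⟩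
                            · (have := od3.out; omega)
                            · have t := pc2 q24 c24.out (by have := v2.out; have := qn25.out; have := qn26.out; have := qn27.out; omega)
                              clear c24
                              rcases t with ⟨⟨⟨rfl, rfl⟩, gw24, ⟨rfl, rfl⟩⟩, rfl⟩ | ⟨⟨⟨rfl, rfl⟩, gw24, ⟨rfl, rfl⟩⟩, rfl⟩ | ⟨⟨⟨rfl, rfl⟩, gw24, ⟨rfl, rfl⟩⟩, rfl⟩ | ⟨⟨⟨rfl, rfl⟩, gw24, ⟨rfl, rfl⟩⟩, rfl⟩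
                              · have t := pc2 q25 c25.out (by have := v2.out; have := qn26.out; have := qn27.out; omega)
                                clear c25
                                rcases t with ⟨⟨⟨rfl, rfl⟩, gw25, ⟨rfl, rfl⟩⟩, rfl⟩ | ⟨⟨⟨rfl, rfl⟩, gw25, ⟨rfl, rfl⟩⟩, rfl⟩ | ⟨⟨⟨rfl, rfl⟩, gw25, ⟨rfl, rfl⟩⟩, rfl⟩ | ⟨⟨⟨rfl, rfl⟩, gw25, ⟨rfl, rfl⟩⟩, rfl⟩
                                · have t := pc2 q26 c26.out (by have := v2.out; have := qn27.out; omega)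
                                  clear c26
                                  rcases t with ⟨⟨⟨rfl, rfl⟩, gw26, ⟨rfl, rfl⟩⟩, rfl⟩ | ⟨⟨⟨rfl, rfl⟩, gw26, ⟨rfl, rfl⟩⟩, rfl⟩ | ⟨⟨⟨rfl, rfl⟩, gw26, ⟨rfl, rfl⟩⟩, rfl⟩ | ⟨⟨⟨rfl, rfl⟩, gw26, ⟨rfl, rfl⟩⟩, rfl⟩
                                  · have t := pc2 q27 c27.out (by have := v2.out; omega)
                                    clear c27
                                    rcases t with ⟨⟨⟨rfl, rfl⟩, gw27, ⟨rfl, rfl⟩⟩, rfl⟩ | ⟨⟨⟨rfl, rfl⟩, gw27, ⟨rfl, rfl⟩⟩, rfl⟩ | ⟨⟨⟨rfl, rfl⟩, gw27, ⟨rfl, rfl⟩⟩, rfl⟩ | ⟨⟨⟨rfl, rfl⟩, gw27, ⟨rfl, rfl⟩⟩, rfl⟩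
                                    · have t := pc3 q34 c34.out (by have := v3.out; have := qn35.out; have := qn36.out; have := qn37.out; omega)
                                      clear c34
                                      rcases t with ⟨⟨⟨rfl, rfl⟩, gw34, ⟨rfl, rfl⟩⟩, rfl⟩ | ⟨⟨⟨rfl, rfl⟩, gw34, ⟨rfl, rfl⟩⟩, rfl⟩ | ⟨⟨⟨rfl, rfl⟩, gw34, ⟨rfl, rfl⟩⟩, rfl⟩ | ⟨⟨⟨rfl, rfl⟩, gw34, ⟨rfl, rfl⟩⟩, rfl⟩ | ⟨⟨⟨rfl, rfl⟩, gw34, ⟨rfl, rfl⟩⟩, rfl⟩ | ⟨⟨⟨rfl, rfl⟩, gw34, ⟨rfl, rfl⟩⟩, rfl⟩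
                                      · (have := od4.out; omega)
                                      · have t := pc2 q35 c35.out (by have := v3.out; have := qn36.out; have := qn37.out; omega)
                                        clear c35
                                        rcases t with ⟨⟨⟨rfl, rfl⟩, gw35, ⟨rfl, rfl⟩⟩, rfl⟩ | ⟨⟨⟨rfl, rfl⟩, gw35, ⟨rfl, rfl⟩⟩, rfl⟩ | ⟨⟨⟨rfl, rfl⟩, gw35, ⟨rfl, rfl⟩⟩, rfl⟩ | ⟨⟨⟨rfl, rfl⟩, gw35, ⟨rfl, rfl⟩⟩, rfl⟩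
                                        · exact part0 T α36 α37 α45 α46 α47 α54 α56 α57 α63 α64 α65 α67 α73 α74 α75 α76 x36 x37 x45 x46 x47 x54 x56 x57 x63 x64 x65 x67 x73 x74 x75 x76 q36 q37 q45 q46 q47 q56 q57 q67 hm0 hm1 hm2 hm3 hm4 hm5 hm6 hm7 om1 om2 om3 om4 om5 om6 om7 e0 e1 e2 e3 e4 e5 e6 e7 r01 r02 r03 r04 r05 r06 r07 r10 r12 r13 r14 r15 r16 r17 r20 r21 r23 r24 r25 r26 r27 r30 r31 r32 r34 r35 r36 r37 r40 r41 r42 r43 r45 r46 r47 r50 r51 r52 r53 r54 r56 r57 r60 r61 r62 r63 r64 r65 r67 r70 r71 r72 r73 r74 r75 r76 hw0 hw1 hw2 hw3 hw4 hw5 hw6 hw7 hs01 hs02 hs03 hs04 hs05 hs06 hs07 hs12 hs13 hs14 hs15 hs16 hs17 hs23 hs24 hs25 hs26 hs27 hs34 hs35 hs36 hs37 hs45 hs46 hs47 hs56 hs57 hs67 ha00 ha11 ha22 ha33 ha44 ha55 ha66 ha77 v0 v1 v2 v3 v4 v5 v6 v7 qn01 qn02 qn03 qn04 qn05 qn06 qn07 qn12 qn13 qn14 qn15 qn16 qn17 qn23 qn24 qn25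 qn26 qn27 qn34 qn35 qn36 qn37 qn45 qn46 qn47 qn56 qn57 qn67 od1 od2 od3 od4 od5 od6 od7 c36 c37 c45 c46 c47 c56 c57 c67 gw01 gw02 gw03 gw04 gw05 gw06 gw07 gw12 gw13 gw14 gw15 gw16 gw17 gw23 gw24 gw25 gw26 gw27 gw34 gw35
                                        · exact part1 T α36 α37 α45 α46 α47 α54 α56 α57 α63 α64 α65 α67 α73 α74 α75 α76 x36 x37 x45 x46 x47 x54 x56 x57 x63 x64 x65 x67 x73 x74 x75 x76 q36 q37 q45 q46 q47 q56 q57 q67 hm0 hm1 hm2 hm3 hm4 hm5 hm6 hm7 om1 om2 om3 om4 om5 om6 om7 e0 e1 e2 e3 e4 e5 e6 e7 r01 r02 r03 r04 r05 r06 r07 r10 r12 r13 r14 r15 r16 r17 r20 r21 r23 r24 r25 r26 r27 r30 r31 r32 r34 r35 r36 r37 r40 r41 r42 r43 r45 r46 r47 r50 r51 r52 r53 r54 r56 r57 r60 r61 r62 r63 r64 r65 r67 r70 r71 r72 r73 r74 r75 r76 hw0 hw1 hw2 hw3 hw4 hw5 hw6 hw7 hs01 hs02 hs03 hs04 hs05 hs06 hs07 hs12 hs13 hs14 hs15 hs16 hs17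 hs23 hs24 hs25 hs26 hs27 hs34 hs35 hs36 hs37 hs45 hs46 hs47 hs56 hs57 hs67 ha00 ha11 ha22 ha33 ha44 ha55 ha66 ha77 v0 v1 v2 v3 v4 v5 v6 v7 qn01 qn02 qn03 qn04 qn05 qn06 qn07 qn12 qn13 qn14 qn15 qn16 qn17 qn23 qn24 qn25 qn26 qn27 qn34 qn35 qn36 qn37 qn45 qn46 qn47 qn56 qn57 qn67 od1 od2 od3 od4 od5 od6 od7 c36 c37 c45 c46 c47 c56 c57 c67 gw01 gw02 gw03 gw04 gw05 gw06 gw07 gw12 gw13 gw14 gw15 gw16 gw17 gw23 gw24 gw25 gw26 gw27 gw34 gw35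
                                        · (have := hm1.out; have := e2.out; have := e3.out; have := r36.out; have := r37.out; have := e4.out; have := r45.out; have := r46.out; have := r47.out; have := e5.out; have := r54.out; have := r56.out; have := r57.out; omega)
                                        · (have := hm1.out; have := e2.out; have := e3.out; have := r36.out; have := r37.out; have := e4.out; have := r45.out; have := r46.out; have := r47.out; have := e5.out; have := r54.out; have := r56.out; have := r57.out; omega)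
                                      · exact part2 T α35 α36 α37 α45 α46 α47 α53 α54 α56 α57 α63 α64 α65 α67 α73 α74 α75 α76 x35 x36 x37 x45 x46 x47 x53 x54 x56 x57 x63 x64 x65 x67 x73 x74 x75 x76 q35 q36 q37 q45 q46 q47 q56 q57 q67 hm0 hm1 hm2 hm3 hm4 hm5 hm6 hm7 om1 om2 om3 om4 om5 om6 om7 e0 e1 e2 e3 e4 e5 e6 e7 r01 r02 r03 r04 r05 r06 r07 r10 r12 r13 r14 r15 r16 r17 r20 r21 r23 r24 r25 r26 r27 r30 r31 r32 r34 r35 r36 r37 r40 r41 r42 r43 r45 r46 r47 r50 r51 r52 r53 r54 r56 r57 r60 r61 r62 r63 r64 r65 r67 r70 r71 r72 r73 r74 r75 r76 hw0 hw1 hw2 hw3 hw4 hw5 hw6 hw7 hs01 hs02 hs03 hs04 hs05 hs06 hs07 hs12 hs13 hs14 hs15 hs16 hs17 hs23 hs24 hs25 hs26 hs27 hs34 hs35 hs36 hs37 hs45 hs46 hs47 hs56 hs57 hs67 ha00 ha11 ha22 ha33 ha44 ha55 ha66 ha77 v0 v1 v2 v3 v4 v5 v6 v7 qn01 qn02 qn03 qn04 qn05 qn06 qn07 qn12 qn13 qn14 qn15 qn16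 qn17 qn23 qn24 qn25 qn26 qn27 qn34 qn35 qn36 qn37 qn45 qn46 qn47 qn56 qn57 qn67 od1 od2 od3 od4 od5 od6 od7 c35 c36 c37 c45 c46 c47 c56 c57 c67 gw01 gw02 gw03 gw04 gw05 gw06 gw07 gw12 gw13 gw14 gw15 gw16 gw17 gw23 gw24 gw25 gw26 gw27 gw34
                                      · exact part3 T α35 α36 α37 α45 α46 α47 α53 α54 α56 α57 α63 α64 α65 α67 α73 α74 α75 α76 x35 x36 x37 x45 x46 x47 x53 x54 x56 x57 x63 x64 x65 x67 x73 x74 x75 x76 q35 q36 q37 q45 q46 q47 q56 q57 q67 hm0 hm1 hm2 hm3 hm4 hm5 hm6 hm7 om1 om2 om3 om4 om5 om6 om7 e0 e1 e2 e3 e4 e5 e6 e7 r01 r02 r03 r04 r05 r06 r07 r10 r12 r13 r14 r15 r16 r17 r20 r21 r23 r24 r25 r26 r27 r30 r31 r32 r34 r35 r36 r37 r40 r41 r42 r43 r45 r46 r47 r50 r51 r52 r53 r54 r56 r57 r60 r61 r62 r63 r64 r65 r67 r70 r71 r72 r73 r74 r75 r76 hw0 hw1 hw2 hw3 hw4 hw5 hw6 hw7 hs01 hs02 hs03 hs04 hs05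 hs06 hs07 hs12 hs13 hs14 hs15 hs16 hs17 hs23 hs24 hs25 hs26 hs27 hs34 hs35 hs36 hs37 hs45 hs46 hs47 hs56 hs57 hs67 ha00 ha11 ha22 ha33 ha44 ha55 ha66 ha77 v0 v1 v2 v3 v4 v5 v6 v7 qn01 qn02 qn03 qn04 qn05 qn06 qn07 qn12 qn13 qn14 qn15 qn16 qn17 qn23 qn24 qn25 qn26 qn27 qn34 qn35 qn36 qn37 qn45 qn46 qn47 qn56 qn57 qn67 od1 od2 od3 od4 od5 od6 od7 c35 c36 c37 c45 c46 c47 c56 c57 c67 gw01 gw02 gw03 gw04 gw05 gw06 gw07 gw12 gw13 gw14 gw15 gw16 gw17 gw23 gw24 gw25 gw26 gw27 gw34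
                                      · (have := hm1.out; have := e2.out; have := e3.out; have := r35.out; have := r36.out; have := r37.out; have := e4.out; have := r45.out; have := r46.out; have := r47.out; omega)
                                      · (have := hm1.out; have := e2.out; have := e3.out; have := r35.out; have := r36.out; have := r37.out; have := e4.out; have := r45.out; have := r46.out; have := r47.out; omega)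
                                    · exact part4 T α34 α35 α36 α37 α43 α45 α46 α47 α53 α54 α56 α57 α63 α64 α65 α67 α73 α74 α75 α76 x34 x35 x36 x37 x43 x45 x46 x47 x53 x54 x56 x57 x63 x64 x65 x67 x73 x74 x75 x76 q34 q35 q36 q37 q45 q46 q47 q56 q57 q67 hm0 hm1 hm2 hm3 hm4 hm5 hm6 hm7 om1 om2 om3 om4 om5 om6 om7 e0 e1 e2 e3 e4 e5 e6 e7 r01 r02 r03 r04 r05 r06 r07 r10 r12 r13 r14 r15 r16 r17 r20 r21 r23 r24 r25 r26 r27 r30 r31 r32 r34 r35 r36 r37 r40 r41 r42 r43 r45 r46 r47 r50 r51 r52 r53 r54 r56 r57 r60 r61 r62 r63 r64 r65 r67 r70 r71 r72 r73 r74 r75 r76 hw0 hw1 hw2 hw3 hw4 hw5 hw6 hw7 hs01 hs02 hs03 hs04 hs05 hs06 hs07 hs12 hs13 hs14 hs15 hs16 hs17 hs23 hs24 hs25 hs26 hs27 hs34 hs35 hs36 hs37 hs45 hs46 hs47 hs56 hs57 hs67 ha00 ha11 ha22 ha33 ha44 ha55 ha66 ha77 v0 v1 v2 v3 v4 v5 v6 v7 qn01 qn02 qn03 qn04 qn05 qn06 qn07 qn12 qn13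 qn14 qn15 qn16 qn17 qn23 qn24 qn25 qn26 qn27 qn34 qn35 qn36 qn37 qn45 qn46 qn47 qn56 qn57 qn67 od1 od2 od3 od4 od5 od6 od7 c34 c35 c36 c37 c45 c46 c47 c56 c57 c67 gw01 gw02 gw03 gw04 gw05 gw06 gw07 gw12 gw13 gw14 gw15 gw16 gw17 gw23 gw24 gw25 gw26 gw27
                                    · (have := hm0.out; have := e1.out; have := e2.out; have := e3.out; have := r34.out; have := r35.out; have := r36.out; have := r37.out; have := e7.out; have := r73.out; have := r74.out; have := r75.out; have := r76.out; omega)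
                                    · (have := hm0.out; have := e1.out; have := e2.out; have := e3.out; have := r34.out; have := r35.out; have := r36.out; have := r37.out; have := e7.out; have := r73.out; have := r74.out; have := r75.out; have := r76.out; omega)
                                  · exact part5 T α27 α34 α35 α36 α37 α43 α45 α46 α47 α53 α54 α56 α57 α63 α64 α65 α67 α72 α73 α74 α75 α76 x27 x34 x35 x36 x37 x43 x45 x46 x47 x53 x54 x56 x57 x63 x64 x65 x67 x72 x73 x74 x75 x76 q27 q34 q35 q36 q37 q45 q46 q47 q56 q57 q67 hm0 hm1 hm2 hm3 hm4 hm5 hm6 hm7 om1 om2 om3 om4 om5 om6 om7 e0 e1 e2 e3 e4 e5 e6 e7 r01 r02 r03 r04 r05 r06 r07 r10 r12 r13 r14 r15 r16 r17 r20 r21 r23 r24 r25 r26 r27 r30 r31 r32 r34 r35 r36 r37 r40 r41 r42 r43 r45 r46 r47 r50 r51 r52 r53 r54 r56 r57 r60 r61 r62 r63 r64 r65 r67 r70 r71 r72 r73 r74 r75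 r76 hw0 hw1 hw2 hw3 hw4 hw5 hw6 hw7 hs01 hs02 hs03 hs04 hs05 hs06 hs07 hs12 hs13 hs14 hs15 hs16 hs17 hs23 hs24 hs25 hs26 hs27 hs34 hs35 hs36 hs37 hs45 hs46 hs47 hs56 hs57 hs67 ha00 ha11 ha22 ha33 ha44 ha55 ha66 ha77 v0 v1 v2 v3 v4 v5 v6 v7 qn01 qn02 qn03 qn04 qn05 qn06 qn07 qn12 qn13 qn14 qn15 qn16 qn17 qn23 qn24 qn25 qn26 qn27 qn34 qn35 qn36 qn37 qn45 qn46 qn47 qn56 qn57 qn67 od1 od2 od3 od4 od5 od6 od7 c27 c34 c35 c36 c37 c45 c46 c47 c56 c57 c67 gw01 gw02 gw03 gw04 gw05 gw06 gw07 gw12 gw13 gw14 gw15 gw16 gw17 gw23 gw24 gw25 gw26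
                                  · (have := hm0.out; have := e1.out; have := e2.out; have := r27.out; have := e3.out; have := r34.out; have := r35.out; have := r36.out; have := r37.out; have := e6.out; have := r63.out; have := r64.out; have := r65.out; have := r67.out; omega)
                                  · (have := hm0.out; have := e1.out; have := e2.out; have := r27.out; have := e3.out; have := r34.out; have := r35.out; have := r36.out; have := r37.out; have := e6.out; have := r63.out; have := r64.out; have := r65.out; have := r67.out; omega)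
                                · exact part6 T α26 α27 α34 α35 α36 α37 α43 α45 α46 α47 α53 α54 α56 α57 α62 α63 α64 α65 α67 α72 α73 α74 α75 α76 x26 x27 x34 x35 x36 x37 x43 x45 x46 x47 x53 x54 x56 x57 x62 x63 x64 x65 x67 x72 x73 x74 x75 x76 q26 q27 q34 q35 q36 q37 q45 q46 q47 q56 q57 q67 hm0 hm1 hm2 hm3 hm4 hm5 hm6 hm7 om1 om2 om3 om4 om5 om6 om7 e0 e1 e2 e3 e4 e5 e6 e7 r01 r02 r03 r04 r05 r06 r07 r10 r12 r13 r14 r15 r16 r17 r20 r21 r23 r24 r25 r26 r27 r30 r31 r32 r34 r35 r36 r37 r40 r41 r42 r43 r45 r46 r47 r50 r51 r52 r53 r54 r56 r57 r60 r61 r62 r63 r64 r65 r67 r70 r71 r72 r73 r74 r75 r76 hw0 hw1 hw2 hw3 hw4 hw5 hw6 hw7 hs01 hs02 hs03 hs04 hs05 hs06 hs07 hs12 hs13 hs14 hs15 hs16 hs17 hs23 hs24 hs25 hs26 hs27 hs34 hs35 hs36 hs37 hs45 hs46 hs47 hs56 hs57 hs67 ha00 ha11 ha22 ha33 ha44 ha55 ha66 ha77 v0 v1 v2 v3 v4 v5 v6 v7 qn01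 qn02 qn03 qn04 qn05 qn06 qn07 qn12 qn13 qn14 qn15 qn16 qn17 qn23 qn24 qn25 qn26 qn27 qn34 qn35 qn36 qn37 qn45 qn46 qn47 qn56 qn57 qn67 od1 od2 od3 od4 od5 od6 od7 c26 c27 c34 c35 c36 c37 c45 c46 c47 c56 c57 c67 gw01 gw02 gw03 gw04 gw05 gw06 gw07 gw12 gw13 gw14 gw15 gw16 gw17 gw23 gw24 gw25
                                · (have := hm0.out; have := e1.out; have := e2.out; have := r26.out; have := r27.out; have := e3.out; have := r34.out; have := r35.out; have := r36.out; have := r37.out; have := e5.out; have := r53.out; have := r54.out; have := r56.out; have := r57.out; omega)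
                                · (have := hm0.out; have := e1.out; have := e2.out; have := r26.out; have := r27.out; have := e3.out; have := r34.out; have := r35.out; have := r36.out; have := r37.out; have := e5.out; have := r53.out; have := r54.out; have := r56.out; have := r57.out; omega)
                              · exact part7 T α25 α26 α27 α34 α35 α36 α37 α43 α45 α46 α47 α52 α53 α54 α56 α57 α62 α63 α64 α65 α67 α72 α73 α74 α75 α76 x25 x26 x27 x34 x35 x36 x37 x43 x45 x46 x47 x52 x53 x54 x56 x57 x62 x63 x64 x65 x67 x72 x73 x74 x75 x76 q25 q26 q27 q34 q35 q36 q37 q45 q46 q47 q56 q57 q67 hm0 hm1 hm2 hm3 hm4 hm5 hm6 hm7 om1 om2 om3 om4 om5 om6 om7 e0 e1 e2 e3 e4 e5 e6 e7 r01 r02 r03 r04 r05 r06 r07 r10 r12 r13 r14 r15 r16 r17 r20 r21 r23 r24 r25 r26 r27 r30 r31 r32 r34 r35 r36 r37 r40 r41 r42 r43 r45 r46 r47 r50 r51 r52 r53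 r54 r56 r57 r60 r61 r62 r63 r64 r65 r67 r70 r71 r72 r73 r74 r75 r76 hw0 hw1 hw2 hw3 hw4 hw5 hw6 hw7 hs01 hs02 hs03 hs04 hs05 hs06 hs07 hs12 hs13 hs14 hs15 hs16 hs17 hs23 hs24 hs25 hs26 hs27 hs34 hs35 hs36 hs37 hs45 hs46 hs47 hs56 hs57 hs67 ha00 ha11 ha22 ha33 ha44 ha55 ha66 ha77 v0 v1 v2 v3 v4 v5 v6 v7 qn01 qn02 qn03 qn04 qn05 qn06 qn07 qn12 qn13 qn14 qn15 qn16 qn17 qn23 qn24 qn25 qn26 qn27 qn34 qn35 qn36 qn37 qn45 qn46 qn47 qn56 qn57 qn67 od1 od2 od3 od4 od5 od6 od7 c25 c26 c27 c34 c35 c36 c37 c45 c46 c47 c56 c57 c67 gw01 gw02 gw03 gw04 gw05 gw06 gw07 gw12 gw13 gw14 gw15 gw16 gw17 gw23 gw24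
                              · (have := hm0.out; have := e1.out; have := e2.out; have := r25.out; have := r26.out; have := r27.out; have := e3.out; have := r34.out; have := r35.out; have := r36.out; have := r37.out; have := e4.out; have := r43.out; have := r45.out; have := r46.out; have := r47.out; omega)
                              · (have := hm0.out; have := e1.out; have := e2.out; have := r25.out; have := r26.out; have := r27.out; have := e3.out; have := r34.out; have := r35.out; have := r36.out; have := r37.out; have := e4.out; have := r43.out; have := r45.out; have := r46.out; have := r47.out; omega)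
                            · exact part8 T α24 α25 α26 α27 α34 α35 α36 α37 α42 α43 α45 α46 α47 α52 α53 α54 α56 α57 α62 α63 α64 α65 α67 α72 α73 α74 α75 α76 x24 x25 x26 x27 x34 x35 x36 x37 x42 x43 x45 x46 x47 x52 x53 x54 x56 x57 x62 x63 x64 x65 x67 x72 x73 x74 x75 x76 q24 q25 q26 q27 q34 q35 q36 q37 q45 q46 q47 q56 q57 q67 hm0 hm1 hm2 hm3 hm4 hm5 hm6 hm7 om1 om2 om3 om4 om5 om6 om7 e0 e1 e2 e3 e4 e5 e6 e7 r01 r02 r03 r04 r05 r06 r07 r10 r12 r13 r14 r15 r16 r17 r20 r21 r23 r24 r25 r26 r27 r30 r31 r32 r34 r35 r36 r37 r40 r41 r42 r43 r45 r46 r47 r50 r51 r52 r53 r54 r56 r57 r60 r61 r62 r63 r64 r65 r67 r70 r71 r72 r73 r74 r75 r76 hw0 hw1 hw2 hw3 hw4 hw5 hw6 hw7 hs01 hs02 hs03 hs04 hs05 hs06 hs07 hs12 hs13 hs14 hs15 hs16 hs17 hs23 hs24 hs25 hs26 hs27 hs34 hs35 hs36 hs37 hs45 hs46 hs47 hs56 hs57 hs67 ha00 ha11 ha22 ha33 ha44 ha55 ha66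 ha77 v0 v1 v2 v3 v4 v5 v6 v7 qn01 qn02 qn03 qn04 qn05 qn06 qn07 qn12 qn13 qn14 qn15 qn16 qn17 qn23 qn24 qn25 qn26 qn27 qn34 qn35 qn36 qn37 qn45 qn46 qn47 qn56 qn57 qn67 od1 od2 od3 od4 od5 od6 od7 c24 c25 c26 c27 c34 c35 c36 c37 c45 c46 c47 c56 c57 c67 gw01 gw02 gw03 gw04 gw05 gw06 gw07 gw12 gw13 gw14 gw15 gw16 gw17 gw23
                            · exact part9 T α24 α25 α26 α27 α34 α35 α36 α37 α42 α43 α45 α46 α47 α52 α53 α54 α56 α57 α62 α63 α64 α65 α67 α72 α73 α74 α75 α76 x24 x25 x26 x27 x34 x35 x36 x37 x42 x43 x45 x46 x47 x52 x53 x54 x56 x57 x62 x63 x64 x65 x67 x72 x73 x74 x75 x76 q24 q25 q26 q27 q34 q35 q36 q37 q45 q46 q47 q56 q57 q67 hm0 hm1 hm2 hm3 hm4 hm5 hm6 hm7 om1 om2 om3 om4 om5 om6 om7 e0 e1 e2 e3 e4 e5 e6 e7 r01 r02 r03 r04 r05 r06 r07 r10 r12 r13 r14 r15 r16 r17 r20 r21 r23 r24 r25 r26 r27 r30 r31 r32 r34 r35 r36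 r37 r40 r41 r42 r43 r45 r46 r47 r50 r51 r52 r53 r54 r56 r57 r60 r61 r62 r63 r64 r65 r67 r70 r71 r72 r73 r74 r75 r76 hw0 hw1 hw2 hw3 hw4 hw5 hw6 hw7 hs01 hs02 hs03 hs04 hs05 hs06 hs07 hs12 hs13 hs14 hs15 hs16 hs17 hs23 hs24 hs25 hs26 hs27 hs34 hs35 hs36 hs37 hs45 hs46 hs47 hs56 hs57 hs67 ha00 ha11 ha22 ha33 ha44 ha55 ha66 ha77 v0 v1 v2 v3 v4 v5 v6 v7 qn01 qn02 qn03 qn04 qn05 qn06 qn07 qn12 qn13 qn14 qn15 qn16 qn17 qn23 qn24 qn25 qn26 qn27 qn34 qn35 qn36 qn37 qn45 qn46 qn47 qn56 qn57 qn67 od1 od2 od3 od4 od5 od6 od7 c24 c25 c26 c27 c34 c35 c36 c37 c45 c46 c47 c56 c57 c67 gw01 gw02 gw03 gw04 gw05 gw06 gw07 gw12 gw13 gw14 gw15 gw16 gw17 gw23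
                            · (have := hm0.out; have := e1.out; have := e2.out; have := r24.out; have := r25.out; have := r26.out; have := r27.out; have := e3.out; have := r34.out; have := r35.out; have := r36.out; have := r37.out; omega)
                            · (have := hm0.out; have := e1.out; have := e2.out; have := r24.out; have := r25.out; have := r26.out; have := r27.out; have := e3.out; have := r34.out; have := r35.out; have := r36.out; have := r37.out; omega)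
                          · have t := pc3 q23 c23.out (by have := v2.out; have := qn24.out; have := qn25.out; have := qn26.out; have := qn27.out; omega)
                            clear c23
                            rcases t with ⟨⟨⟨rfl, rfl⟩, gw23, ⟨rfl, rfl⟩⟩, rfl⟩ | ⟨⟨⟨rfl, rfl⟩, gw23, ⟨rfl, rfl⟩⟩, rfl⟩ | ⟨⟨⟨rfl, rfl⟩, gw23, ⟨rfl, rfl⟩⟩, rfl⟩ | ⟨⟨⟨rfl, rfl⟩, gw23, ⟨rfl, rfl⟩⟩, rfl⟩ | ⟨⟨⟨rfl, rfl⟩, gw23, ⟨rfl, rfl⟩⟩, rfl⟩ | ⟨⟨⟨rfl, rfl⟩, gw23, ⟨rfl, rfl⟩⟩, rfl⟩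
                            · (have := od3.out; omega)
                            · exact part10 T α24 α25 α26 α27 α34 α35 α36 α37 α42 α43 α45 α46 α47 α52 α53 α54 α56 α57 α62 α63 α64 α65 α67 α72 α73 α74 α75 α76 x24 x25 x26 x27 x34 x35 x36 x37 x42 x43 x45 x46 x47 x52 x53 x54 x56 x57 x62 x63 x64 x65 x67 x72 x73 x74 x75 x76 q24 q25 q26 q27 q34 q35 q36 q37 q45 q46 q47 q56 q57 q67 hm0 hm1 hm2 hm3 hm4 hm5 hm6 hm7 om1 om2 om3 om4 om5 om6 om7 e0 e1 e2 e3 e4 e5 e6 e7 r01 r02 r03 r04 r05 r06 r07 r10 r12 r13 r14 r15 r16 r17 r20 r21 r23 r24 r25 r26 r27 r30 r31 r32 r34 r35 r36 r37 r40 r41 r42 r43 r45 r46 r47 r50 r51 r52 r53 r54 r56 r57 r60 r61 r62 r63 r64 r65 r67 r70 r71 r72 r73 r74 r75 r76 hw0 hw1 hw2 hw3 hw4 hw5 hw6 hw7 hs01 hs02 hs03 hs04 hs05 hs06 hs07 hs12 hs13 hs14 hs15 hs16 hs17 hs23 hs24 hs25 hs26 hs27 hs34 hs35 hs36 hs37 hs45 hs46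 hs47 hs56 hs57 hs67 ha00 ha11 ha22 ha33 ha44 ha55 ha66 ha77 v0 v1 v2 v3 v4 v5 v6 v7 qn01 qn02 qn03 qn04 qn05 qn06 qn07 qn12 qn13 qn14 qn15 qn16 qn17 qn23 qn24 qn25 qn26 qn27 qn34 qn35 qn36 qn37 qn45 qn46 qn47 qn56 qn57 qn67 od1 od2 od3 od4 od5 od6 od7 c24 c25 c26 c27 c34 c35 c36 c37 c45 c46 c47 c56 c57 c67 gw01 gw02 gw03 gw04 gw05 gw06 gw07 gw12 gw13 gw14 gw15 gw16 gw17 gw23
                            · exact part11 T α24 α25 α26 α27 α34 α35 α36 α37 α42 α43 α45 α46 α47 α52 α53 α54 α56 α57 α62 α63 α64 α65 α67 α72 α73 α74 α75 α76 x24 x25 x26 x27 x34 x35 x36 x37 x42 x43 x45 x46 x47 x52 x53 x54 x56 x57 x62 x63 x64 x65 x67 x72 x73 x74 x75 x76 q24 q25 q26 q27 q34 q35 q36 q37 q45 q46 q47 q56 q57 q67 hm0 hm1 hm2 hm3 hm4 hm5 hm6 hm7 om1 om2 om3 om4 om5 om6 om7 e0 e1 e2 e3 e4 e5 e6 e7 r01 r02 r03 r04 r05 r06 r07 r10 r12 r13 r14 r15 r16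 r17 r20 r21 r23 r24 r25 r26 r27 r30 r31 r32 r34 r35 r36 r37 r40 r41 r42 r43 r45 r46 r47 r50 r51 r52 r53 r54 r56 r57 r60 r61 r62 r63 r64 r65 r67 r70 r71 r72 r73 r74 r75 r76 hw0 hw1 hw2 hw3 hw4 hw5 hw6 hw7 hs01 hs02 hs03 hs04 hs05 hs06 hs07 hs12 hs13 hs14 hs15 hs16 hs17 hs23 hs24 hs25 hs26 hs27 hs34 hs35 hs36 hs37 hs45 hs46 hs47 hs56 hs57 hs67 ha00 ha11 ha22 ha33 ha44 ha55 ha66 ha77 v0 v1 v2 v3 v4 v5 v6 v7 qn01 qn02 qn03 qn04 qn05 qn06 qn07 qn12 qn13 qn14 qn15 qn16 qn17 qn23 qn24 qn25 qn26 qn27 qn34 qn35 qn36 qn37 qn45 qn46 qn47 qn56 qn57 qn67 od1 od2 od3 od4 od5 od6 od7 c24 c25 c26 c27 c34 c35 c36 c37 c45 c46 c47 c56 c57 c67 gw01 gw02 gw03 gw04 gw05 gw06 gw07 gw12 gw13 gw14 gw15 gw16 gw17 gw23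
                            · exact part12 T α24 α25 α26 α27 α34 α35 α36 α37 α42 α43 α45 α46 α47 α52 α53 α54 α56 α57 α62 α63 α64 α65 α67 α72 α73 α74 α75 α76 x24 x25 x26 x27 x34 x35 x36 x37 x42 x43 x45 x46 x47 x52 x53 x54 x56 x57 x62 x63 x64 x65 x67 x72 x73 x74 x75 x76 q24 q25 q26 q27 q34 q35 q36 q37 q45 q46 q47 q56 q57 q67 hm0 hm1 hm2 hm3 hm4 hm5 hm6 hm7 om1 om2 om3 om4 om5 om6 om7 e0 e1 e2 e3 e4 e5 e6 e7 r01 r02 r03 r04 r05 r06 r07 r10 r12 r13 r14 r15 r16 r17 r20 r21 r23 r24 r25 r26 r27 r30 r31 r32 r34 r35 r36 r37 r40 r41 r42 r43 r45 r46 r47 r50 r51 r52 r53 r54 r56 r57 r60 r61 r62 r63 r64 r65 r67 r70 r71 r72 r73 r74 r75 r76 hw0 hw1 hw2 hw3 hw4 hw5 hw6 hw7 hs01 hs02 hs03 hs04 hs05 hs06 hs07 hs12 hs13 hs14 hs15 hs16 hs17 hs23 hs24 hs25 hs26 hs27 hs34 hs35 hs36 hs37 hs45 hs46 hs47 hs56 hs57 hs67 ha00 ha11 ha22 ha33 ha44 ha55 ha66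 ha77 v0 v1 v2 v3 v4 v5 v6 v7 qn01 qn02 qn03 qn04 qn05 qn06 qn07 qn12 qn13 qn14 qn15 qn16 qn17 qn23 qn24 qn25 qn26 qn27 qn34 qn35 qn36 qn37 qn45 qn46 qn47 qn56 qn57 qn67 od1 od2 od3 od4 od5 od6 od7 c24 c25 c26 c27 c34 c35 c36 c37 c45 c46 c47 c56 c57 c67 gw01 gw02 gw03 gw04 gw05 gw06 gw07 gw12 gw13 gw14 gw15 gw16 gw17 gw23
                            · (have := hm0.out; have := hm7.out; have := e1.out; have := e2.out; have := r24.out; have := r25.out; have := r26.out; have := r27.out; have := e3.out; have := r34.out; have := r35.out; have := r36.out; have := r37.out; omega)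
                            · (have := hm3.out; have := om3.out; have := e0.out; have := e1.out; have := e2.out; have := r24.out; have := r25.out; have := r26.out; have := r27.out; have := e7.out; have := r72.out; have := r73.out; have := r74.out; have := r75.out; have := r76.out; omega)
                          · exact part13 T α23 α24 α25 α26 α27 α32 α34 α35 α36 α37 α42 α43 α45 α46 α47 α52 α53 α54 α56 α57 α62 α63 α64 α65 α67 α72 α73 α74 α75 α76 x23 x24 x25 x26 x27 x32 x34 x35 x36 x37 x42 x43 x45 x46 x47 x52 x53 x54 x56 x57 x62 x63 x64 x65 x67 x72 x73 x74 x75 x76 q23 q24 q25 q26 q27 q34 q35 q36 q37 q45 q46 q47 q56 q57 q67 hm0 hm1 hm2 hm3 hm4 hm5 hm6 hm7 om1 om2 om3 om4 om5 om6 om7 e0 e1 e2 e3 e4 e5 e6 e7 r01 r02 r03 r04 r05 r06 r07 r10 r12 r13 r14 r15 r16 r17 r20 r21 r23 r24 r25 r26 r27 r30 r31 r32 r34 r35 r36 r37 r40 r41 r42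 r43 r45 r46 r47 r50 r51 r52 r53 r54 r56 r57 r60 r61 r62 r63 r64 r65 r67 r70 r71 r72 r73 r74 r75 r76 hw0 hw1 hw2 hw3 hw4 hw5 hw6 hw7 hs01 hs02 hs03 hs04 hs05 hs06 hs07 hs12 hs13 hs14 hs15 hs16 hs17 hs23 hs24 hs25 hs26 hs27 hs34 hs35 hs36 hs37 hs45 hs46 hs47 hs56 hs57 hs67 ha00 ha11 ha22 ha33 ha44 ha55 ha66 ha77 v0 v1 v2 v3 v4 v5 v6 v7 qn01 qn02 qn03 qn04 qn05 qn06 qn07 qn12 qn13 qn14 qn15 qn16 qn17 qn23 qn24 qn25 qn26 qn27 qn34 qn35 qn36 qn37 qn45 qn46 qn47 qn56 qn57 qn67 od1 od2 od3 od4 od5 od6 od7 c23 c24 c25 c26 c27 c34 c35 c36 c37 c45 c46 c47 c56 c57 c67 gw01 gw02 gw03 gw04 gw05 gw06 gw07 gw12 gw13 gw14 gw15 gw16 gw17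
                          · exact part14 T α23 α24 α25 α26 α27 α32 α34 α35 α36 α37 α42 α43 α45 α46 α47 α52 α53 α54 α56 α57 α62 α63 α64 α65 α67 α72 α73 α74 α75 α76 x23 x24 x25 x26 x27 x32 x34 x35 x36 x37 x42 x43 x45 x46 x47 x52 x53 x54 x56 x57 x62 x63 x64 x65 x67 x72 x73 x74 x75 x76 q23 q24 q25 q26 q27 q34 q35 q36 q37 q45 q46 q47 q56 q57 q67 hm0 hm1 hm2 hm3 hm4 hm5 hm6 hm7 om1 om2 om3 om4 om5 om6 om7 e0 e1 e2 e3 e4 e5 e6 e7 r01 r02 r03 r04 r05 r06 r07 r10 r12 r13 r14 r15 r16 r17 r20 r21 r23 r24 r25 r26 r27 r30 r31 r32 r34 r35 r36 r37 r40 r41 r42 r43 r45 r46 r47 r50 r51 r52 r53 r54 r56 r57 r60 r61 r62 r63 r64 r65 r67 r70 r71 r72 r73 r74 r75 r76 hw0 hw1 hw2 hw3 hw4 hw5 hw6 hw7 hs01 hs02 hs03 hs04 hs05 hs06 hs07 hs12 hs13 hs14 hs15 hs16 hs17 hs23 hs24 hs25 hs26 hs27 hs34 hs35 hs36 hs37 hs45 hs46 hs47 hs56 hs57 hs67 ha00 ha11 ha22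 ha33 ha44 ha55 ha66 ha77 v0 v1 v2 v3 v4 v5 v6 v7 qn01 qn02 qn03 qn04 qn05 qn06 qn07 qn12 qn13 qn14 qn15 qn16 qn17 qn23 qn24 qn25 qn26 qn27 qn34 qn35 qn36 qn37 qn45 qn46 qn47 qn56 qn57 qn67 od1 od2 od3 od4 od5 od6 od7 c23 c24 c25 c26 c27 c34 c35 c36 c37 c45 c46 c47 c56 c57 c67 gw01 gw02 gw03 gw04 gw05 gw06 gw07 gw12 gw13 gw14 gw15 gw16 gw17
                        · have t := pc1 q17 c17.out (by have := v1.out; omega)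
                          clear c17
                          rcases t with ⟨⟨⟨rfl, rfl⟩, gw17, ⟨rfl, rfl⟩⟩, rfl⟩ | ⟨⟨⟨rfl, rfl⟩, gw17, ⟨rfl, rfl⟩⟩, rfl⟩
                          · have t := pc3 q23 c23.out (by have := v2.out; have := qn24.out; have := qn25.out; have := qn26.out; have := qn27.out; omega)
                            clear c23
                            rcases t with ⟨⟨⟨rfl, rfl⟩, gw23, ⟨rfl, rfl⟩⟩, rfl⟩ | ⟨⟨⟨rfl, rfl⟩, gw23, ⟨rfl, rfl⟩⟩, rfl⟩ | ⟨⟨⟨rfl, rfl⟩, gw23, ⟨rfl, rfl⟩⟩, rfl⟩ | ⟨⟨⟨rfl, rfl⟩, gw23, ⟨rfl, rfl⟩⟩, rfl⟩ | ⟨⟨⟨rfl, rfl⟩, gw23, ⟨rfl, rfl⟩⟩, rfl⟩ | ⟨⟨⟨rfl, rfl⟩, gw23, ⟨rfl, rfl⟩⟩, rfl⟩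
                            · (have := od3.out; omega)
                            · have t := pc2 q24 c24.out (by have := v2.out; have := qn25.out; have := qn26.out; have := qn27.out; omega)
                              clear c24
                              rcases t with ⟨⟨⟨rfl, rfl⟩, gw24, ⟨rfl, rfl⟩⟩, rfl⟩ | ⟨⟨⟨rfl, rfl⟩, gw24, ⟨rfl, rfl⟩⟩, rfl⟩ | ⟨⟨⟨rfl, rfl⟩, gw24, ⟨rfl, rfl⟩⟩, rfl⟩ | ⟨⟨⟨rfl, rfl⟩, gw24, ⟨rfl, rfl⟩⟩, rfl⟩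
                              · exact part15 T α25 α26 α27 α34 α35 α36 α37 α43 α45 α46 α47 α52 α53 α54 α56 α57 α62 α63 α64 α65 α67 α72 α73 α74 α75 α76 x25 x26 x27 x34 x35 x36 x37 x43 x45 x46 x47 x52 x53 x54 x56 x57 x62 x63 x64 x65 x67 x72 x73 x74 x75 x76 q25 q26 q27 q34 q35 q36 q37 q45 q46 q47 q56 q57 q67 hm0 hm1 hm2 hm3 hm4 hm5 hm6 hm7 om1 om2 om3 om4 om5 om6 om7 e0 e1 e2 e3 e4 e5 e6 e7 r01 r02 r03 r04 r05 r06 r07 r10 r12 r13 r14 r15 r16 r17 r20 r21 r23 r24 r25 r26 r27 r30 r31 r32 r34 r35 r36 r37 r40 r41 r42 r43 r45 r46 r47 r50 r51 r52 r53 r54 r56 r57 r60 r61 r62 r63 r64 r65 r67 r70 r71 r72 r73 r74 r75 r76 hw0 hw1 hw2 hw3 hw4 hw5 hw6 hw7 hs01 hs02 hs03 hs04 hs05 hs06 hs07 hs12 hs13 hs14 hs15 hs16 hs17 hs23 hs24 hs25 hs26 hs27 hs34 hs35 hs36 hs37 hs45 hs46 hs47 hs56 hs57 hs67 ha00 ha11 ha22 ha33 ha44 ha55 ha66 ha77 v0 v1 v2 v3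 v4 v5 v6 v7 qn01 qn02 qn03 qn04 qn05 qn06 qn07 qn12 qn13 qn14 qn15 qn16 qn17 qn23 qn24 qn25 qn26 qn27 qn34 qn35 qn36 qn37 qn45 qn46 qn47 qn56 qn57 qn67 od1 od2 od3 od4 od5 od6 od7 c25 c26 c27 c34 c35 c36 c37 c45 c46 c47 c56 c57 c67 gw01 gw02 gw03 gw04 gw05 gw06 gw07 gw12 gw13 gw14 gw15 gw16 gw17 gw23 gw24
                              · exact part16 T α25 α26 α27 α34 α35 α36 α37 α43 α45 α46 α47 α52 α53 α54 α56 α57 α62 α63 α64 α65 α67 α72 α73 α74 α75 α76 x25 x26 x27 x34 x35 x36 x37 x43 x45 x46 x47 x52 x53 x54 x56 x57 x62 x63 x64 x65 x67 x72 x73 x74 x75 x76 q25 q26 q27 q34 q35 q36 q37 q45 q46 q47 q56 q57 q67 hm0 hm1 hm2 hm3 hm4 hm5 hm6 hm7 om1 om2 om3 om4 om5 om6 om7 e0 e1 e2 e3 e4 e5 e6 e7 r01 r02 r03 r04 r05 r06 r07 r10 r12 r13 r14 r15 r16 r17 r20 r21 r23 r24 r25 r26 r27 r30 r31 r32 r34 r35 r36 r37 r40 r41 r42 r43 r45 r46 r47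 r50 r51 r52 r53 r54 r56 r57 r60 r61 r62 r63 r64 r65 r67 r70 r71 r72 r73 r74 r75 r76 hw0 hw1 hw2 hw3 hw4 hw5 hw6 hw7 hs01 hs02 hs03 hs04 hs05 hs06 hs07 hs12 hs13 hs14 hs15 hs16 hs17 hs23 hs24 hs25 hs26 hs27 hs34 hs35 hs36 hs37 hs45 hs46 hs47 hs56 hs57 hs67 ha00 ha11 ha22 ha33 ha44 ha55 ha66 ha77 v0 v1 v2 v3 v4 v5 v6 v7 qn01 qn02 qn03 qn04 qn05 qn06 qn07 qn12 qn13 qn14 qn15 qn16 qn17 qn23 qn24 qn25 qn26 qn27 qn34 qn35 qn36 qn37 qn45 qn46 qn47 qn56 qn57 qn67 od1 od2 od3 od4 od5 od6 od7 c25 c26 c27 c34 c35 c36 c37 c45 c46 c47 c56 c57 c67 gw01 gw02 gw03 gw04 gw05 gw06 gw07 gw12 gw13 gw14 gw15 gw16 gw17 gw23 gw24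
                              · (have := hm3.out; have := om6.out; have := e0.out; have := e1.out; have := e2.out; have := r25.out; have := r26.out; have := r27.out; have := e4.out; have := r43.out; have := r45.out; have := r46.out; have := r47.out; omega)
                              · (have := hm3.out; have := om6.out; have := e0.out; have := e1.out; have := e2.out; have := r25.out; have := r26.out; have := r27.out; have := e4.out; have := r43.out; have := r45.out; have := r46.out; have := r47.out; omega)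
                            · exact part17 T α24 α25 α26 α27 α34 α35 α36 α37 α42 α43 α45 α46 α47 α52 α53 α54 α56 α57 α62 α63 α64 α65 α67 α72 α73 α74 α75 α76 x24 x25 x26 x27 x34 x35 x36 x37 x42 x43 x45 x46 x47 x52 x53 x54 x56 x57 x62 x63 x64 x65 x67 x72 x73 x74 x75 x76 q24 q25 q26 q27 q34 q35 q36 q37 q45 q46 q47 q56 q57 q67 hm0 hm1 hm2 hm3 hm4 hm5 hm6 hm7 om1 om2 om3 om4 om5 om6 om7 e0 e1 e2 e3 e4 e5 e6 e7 r01 r02 r03 r04 r05 r06 r07 r10 r12 r13 r14 r15 r16 r17 r20 r21 r23 r24 r25 r26 r27 r30 r31 r32 r34 r35 r36 r37 r40 r41 r42 r43 r45 r46 r47 r50 r51 r52 r53 r54 r56 r57 r60 r61 r62 r63 r64 r65 r67 r70 r71 r72 r73 r74 r75 r76 hw0 hw1 hw2 hw3 hw4 hw5 hw6 hw7 hs01 hs02 hs03 hs04 hs05 hs06 hs07 hs12 hs13 hs14 hs15 hs16 hs17 hs23 hs24 hs25 hs26 hs27 hs34 hs35 hs36 hs37 hs45 hs46 hs47 hs56 hs57 hs67 ha00 ha11 ha22 ha33 ha44 ha55 ha66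 ha77 v0 v1 v2 v3 v4 v5 v6 v7 qn01 qn02 qn03 qn04 qn05 qn06 qn07 qn12 qn13 qn14 qn15 qn16 qn17 qn23 qn24 qn25 qn26 qn27 qn34 qn35 qn36 qn37 qn45 qn46 qn47 qn56 qn57 qn67 od1 od2 od3 od4 od5 od6 od7 c24 c25 c26 c27 c34 c35 c36 c37 c45 c46 c47 c56 c57 c67 gw01 gw02 gw03 gw04 gw05 gw06 gw07 gw12 gw13 gw14 gw15 gw16 gw17 gw23
                            · exact part18 T α24 α25 α26 α27 α34 α35 α36 α37 α42 α43 α45 α46 α47 α52 α53 α54 α56 α57 α62 α63 α64 α65 α67 α72 α73 α74 α75 α76 x24 x25 x26 x27 x34 x35 x36 x37 x42 x43 x45 x46 x47 x52 x53 x54 x56 x57 x62 x63 x64 x65 x67 x72 x73 x74 x75 x76 q24 q25 q26 q27 q34 q35 q36 q37 q45 q46 q47 q56 q57 q67 hm0 hm1 hm2 hm3 hm4 hm5 hm6 hm7 om1 om2 om3 om4 om5 om6 om7 e0 e1 e2 e3 e4 e5 e6 e7 r01 r02 r03 r04 r05 r06 r07 r10 r12 r13 r14 r15 r16 r17 r20 r21 r23 r24 r25 r26 r27 r30 r31 r32 r34 r35 r36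 r37 r40 r41 r42 r43 r45 r46 r47 r50 r51 r52 r53 r54 r56 r57 r60 r61 r62 r63 r64 r65 r67 r70 r71 r72 r73 r74 r75 r76 hw0 hw1 hw2 hw3 hw4 hw5 hw6 hw7 hs01 hs02 hs03 hs04 hs05 hs06 hs07 hs12 hs13 hs14 hs15 hs16 hs17 hs23 hs24 hs25 hs26 hs27 hs34 hs35 hs36 hs37 hs45 hs46 hs47 hs56 hs57 hs67 ha00 ha11 ha22 ha33 ha44 ha55 ha66 ha77 v0 v1 v2 v3 v4 v5 v6 v7 qn01 qn02 qn03 qn04 qn05 qn06 qn07 qn12 qn13 qn14 qn15 qn16 qn17 qn23 qn24 qn25 qn26 qn27 qn34 qn35 qn36 qn37 qn45 qn46 qn47 qn56 qn57 qn67 od1 od2 od3 od4 od5 od6 od7 c24 c25 c26 c27 c34 c35 c36 c37 c45 c46 c47 c56 c57 c67 gw01 gw02 gw03 gw04 gw05 gw06 gw07 gw12 gw13 gw14 gw15 gw16 gw17 gw23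
                            · (have := hm0.out; have := hm6.out; have := e1.out; have := e2.out; have := r24.out; have := r25.out; have := r26.out; have := r27.out; have := e3.out; have := r34.out; have := r35.out; have := r36.out; have := r37.out; omega)
                            · (have := hm3.out; have := om3.out; have := e0.out; have := e1.out; have := e2.out; have := r24.out; have := r25.out; have := r26.out; have := r27.out; have := e6.out; have := r62.out; have := r63.out; have := r64.out; have := r65.out; have := r67.out; omega)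
                          · exact part19 T α23 α24 α25 α26 α27 α32 α34 α35 α36 α37 α42 α43 α45 α46 α47 α52 α53 α54 α56 α57 α62 α63 α64 α65 α67 α72 α73 α74 α75 α76 x23 x24 x25 x26 x27 x32 x34 x35 x36 x37 x42 x43 x45 x46 x47 x52 x53 x54 x56 x57 x62 x63 x64 x65 x67 x72 x73 x74 x75 x76 q23 q24 q25 q26 q27 q34 q35 q36 q37 q45 q46 q47 q56 q57 q67 hm0 hm1 hm2 hm3 hm4 hm5 hm6 hm7 om1 om2 om3 om4 om5 om6 om7 e0 e1 e2 e3 e4 e5 e6 e7 r01 r02 r03 r04 r05 r06 r07 r10 r12 r13 r14 r15 r16 r17 r20 r21 r23 r24 r25 r26 r27 r30 r31 r32 r34 r35 r36 r37 r40 r41 r42 r43 r45 r46 r47 r50 r51 r52 r53 r54 r56 r57 r60 r61 r62 r63 r64 r65 r67 r70 r71 r72 r73 r74 r75 r76 hw0 hw1 hw2 hw3 hw4 hw5 hw6 hw7 hs01 hs02 hs03 hs04 hs05 hs06 hs07 hs12 hs13 hs14 hs15 hs16 hs17 hs23 hs24 hs25 hs26 hs27 hs34 hs35 hs36 hs37 hs45 hs46 hs47 hs56 hs57 hs67 ha00 ha11 ha22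 ha33 ha44 ha55 ha66 ha77 v0 v1 v2 v3 v4 v5 v6 v7 qn01 qn02 qn03 qn04 qn05 qn06 qn07 qn12 qn13 qn14 qn15 qn16 qn17 qn23 qn24 qn25 qn26 qn27 qn34 qn35 qn36 qn37 qn45 qn46 qn47 qn56 qn57 qn67 od1 od2 od3 od4 od5 od6 od7 c23 c24 c25 c26 c27 c34 c35 c36 c37 c45 c46 c47 c56 c57 c67 gw01 gw02 gw03 gw04 gw05 gw06 gw07 gw12 gw13 gw14 gw15 gw16 gw17
                        · exact part20 T α17 α23 α24 α25 α26 α27 α32 α34 α35 α36 α37 α42 α43 α45 α46 α47 α52 α53 α54 α56 α57 α62 α63 α64 α65 α67 α71 α72 α73 α74 α75 α76 x17 x23 x24 x25 x26 x27 x32 x34 x35 x36 x37 x42 x43 x45 x46 x47 x52 x53 x54 x56 x57 x62 x63 x64 x65 x67 x71 x72 x73 x74 x75 x76 q17 q23 q24 q25 q26 q27 q34 q35 q36 q37 q45 q46 q47 q56 q57 q67 hm0 hm1 hm2 hm3 hm4 hm5 hm6 hm7 om1 om2 om3 om4 om5 om6 om7 e0 e1 e2 e3 e4 e5 e6 e7 r01 r02 r03 r04 r05 r06 r07 r10 r12 r13 r14 r15 r16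 r17 r20 r21 r23 r24 r25 r26 r27 r30 r31 r32 r34 r35 r36 r37 r40 r41 r42 r43 r45 r46 r47 r50 r51 r52 r53 r54 r56 r57 r60 r61 r62 r63 r64 r65 r67 r70 r71 r72 r73 r74 r75 r76 hw0 hw1 hw2 hw3 hw4 hw5 hw6 hw7 hs01 hs02 hs03 hs04 hs05 hs06 hs07 hs12 hs13 hs14 hs15 hs16 hs17 hs23 hs24 hs25 hs26 hs27 hs34 hs35 hs36 hs37 hs45 hs46 hs47 hs56 hs57 hs67 ha00 ha11 ha22 ha33 ha44 ha55 ha66 ha77 v0 v1 v2 v3 v4 v5 v6 v7 qn01 qn02 qn03 qn04 qn05 qn06 qn07 qn12 qn13 qn14 qn15 qn16 qn17 qn23 qn24 qn25 qn26 qn27 qn34 qn35 qn36 qn37 qn45 qn46 qn47 qn56 qn57 qn67 od1 od2 od3 od4 od5 od6 od7 c17 c23 c24 c25 c26 c27 c34 c35 c36 c37 c45 c46 c47 c56 c57 c67 gw01 gw02 gw03 gw04 gw05 gw06 gw07 gw12 gw13 gw14 gw15 gw16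
                        · exact part21 T α17 α23 α24 α25 α26 α27 α32 α34 α35 α36 α37 α42 α43 α45 α46 α47 α52 α53 α54 α56 α57 α62 α63 α64 α65 α67 α71 α72 α73 α74 α75 α76 x17 x23 x24 x25 x26 x27 x32 x34 x35 x36 x37 x42 x43 x45 x46 x47 x52 x53 x54 x56 x57 x62 x63 x64 x65 x67 x71 x72 x73 x74 x75 x76 q17 q23 q24 q25 q26 q27 q34 q35 q36 q37 q45 q46 q47 q56 q57 q67 hm0 hm1 hm2 hm3 hm4 hm5 hm6 hm7 om1 om2 om3 om4 om5 om6 om7 e0 e1 e2 e3 e4 e5 e6 e7 r01 r02 r03 r04 r05 r06 r07 r10 r12 r13 r14 r15 r16 r17 r20 r21 r23 r24 r25 r26 r27 r30 r31 r32 r34 r35 r36 r37 r40 r41 r42 r43 r45 r46 r47 r50 r51 r52 r53 r54 r56 r57 r60 r61 r62 r63 r64 r65 r67 r70 r71 r72 r73 r74 r75 r76 hw0 hw1 hw2 hw3 hw4 hw5 hw6 hw7 hs01 hs02 hs03 hs04 hs05 hs06 hs07 hs12 hs13 hs14 hs15 hs16 hs17 hs23 hs24 hs25 hs26 hs27 hs34 hs35 hs36 hs37 hs45 hs46 hs47 hs56 hs57 hs67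 ha00 ha11 ha22 ha33 ha44 ha55 ha66 ha77 v0 v1 v2 v3 v4 v5 v6 v7 qn01 qn02 qn03 qn04 qn05 qn06 qn07 qn12 qn13 qn14 qn15 qn16 qn17 qn23 qn24 qn25 qn26 qn27 qn34 qn35 qn36 qn37 qn45 qn46 qn47 qn56 qn57 qn67 od1 od2 od3 od4 od5 od6 od7 c17 c23 c24 c25 c26 c27 c34 c35 c36 c37 c45 c46 c47 c56 c57 c67 gw01 gw02 gw03 gw04 gw05 gw06 gw07 gw12 gw13 gw14 gw15 gw16
                      · have t := pc1 q16 c16.out (by have := v1.out; have := qn17.out; omega)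
                        clear c16
                        rcases t with ⟨⟨⟨rfl, rfl⟩, gw16, ⟨rfl, rfl⟩⟩, rfl⟩ | ⟨⟨⟨rfl, rfl⟩, gw16, ⟨rfl, rfl⟩⟩, rfl⟩
                        · have t := pc1 q17 c17.out (by have := v1.out; omega)
                          clear c17
                          rcases t with ⟨⟨⟨rfl, rfl⟩, gw17, ⟨rfl, rfl⟩⟩, rfl⟩ | ⟨⟨⟨rfl, rfl⟩, gw17, ⟨rfl, rfl⟩⟩, rfl⟩
                          · have t := pc3 q23 c23.out (by have := v2.out; have := qn24.out; have := qn25.out; have := qn26.out; have := qn27.out; omega)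
                            clear c23
                            rcases t with ⟨⟨⟨rfl, rfl⟩, gw23, ⟨rfl, rfl⟩⟩, rfl⟩ | ⟨⟨⟨rfl, rfl⟩, gw23, ⟨rfl, rfl⟩⟩, rfl⟩ | ⟨⟨⟨rfl, rfl⟩, gw23, ⟨rfl, rfl⟩⟩, rfl⟩ | ⟨⟨⟨rfl, rfl⟩, gw23, ⟨rfl, rfl⟩⟩, rfl⟩ | ⟨⟨⟨rfl, rfl⟩, gw23, ⟨rfl, rfl⟩⟩, rfl⟩ | ⟨⟨⟨rfl, rfl⟩, gw23, ⟨rfl, rfl⟩⟩, rfl⟩
                            · (have := od3.out; omega)
                            · have t := pc2 q24 c24.out (by have := v2.out; have := qn25.out; have := qn26.out; have := qn27.out; omega)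
                              clear c24
                              rcases t with ⟨⟨⟨rfl, rfl⟩, gw24, ⟨rfl, rfl⟩⟩, rfl⟩ | ⟨⟨⟨rfl, rfl⟩, gw24, ⟨rfl, rfl⟩⟩, rfl⟩ | ⟨⟨⟨rfl, rfl⟩, gw24, ⟨rfl, rfl⟩⟩, rfl⟩ | ⟨⟨⟨rfl, rfl⟩, gw24, ⟨rfl, rfl⟩⟩, rfl⟩
                              · have t := pc2 q25 c25.out (by have := v2.out; have := qn26.out; have := qn27.out; omega)
                                clear c25
                                rcases t with ⟨⟨⟨rfl, rfl⟩, gw25, ⟨rfl, rfl⟩⟩, rfl⟩ | ⟨⟨⟨rfl, rfl⟩, gw25, ⟨rfl, rfl⟩⟩, rfl⟩ | ⟨⟨⟨rfl, rfl⟩, gw25, ⟨rfl, rfl⟩⟩, rfl⟩ | ⟨⟨⟨rfl, rfl⟩, gw25, ⟨rfl, rfl⟩⟩, rfl⟩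
                                · have t := pc2 q26 c26.out (by have := v2.out; have := qn27.out; omega)
                                  clear c26
                                  rcases t with ⟨⟨⟨rfl, rfl⟩, gw26, ⟨rfl, rfl⟩⟩, rfl⟩ | ⟨⟨⟨rfl, rfl⟩, gw26, ⟨rfl, rfl⟩⟩, rfl⟩ | ⟨⟨⟨rfl, rfl⟩, gw26, ⟨rfl, rfl⟩⟩, rfl⟩ | ⟨⟨⟨rfl, rfl⟩, gw26, ⟨rfl, rfl⟩⟩, rfl⟩
                                  · have t := pc2 q27 c27.out (by have := v2.out; omega)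
                                    clear c27
                                    rcases t with ⟨⟨⟨rfl, rfl⟩, gw27, ⟨rfl, rfl⟩⟩, rfl⟩ | ⟨⟨⟨rfl, rfl⟩, gw27, ⟨rfl, rfl⟩⟩, rfl⟩ | ⟨⟨⟨rfl, rfl⟩, gw27, ⟨rfl, rfl⟩⟩, rfl⟩ | ⟨⟨⟨rfl, rfl⟩, gw27, ⟨rfl, rfl⟩⟩, rfl⟩
                                    · exact part22 T α34 α35 α36 α37 α43 α45 α46 α47 α53 α54 α56 α57 α63 α64 α65 α67 α73 α74 α75 α76 x34 x35 x36 x37 x43 x45 x46 x47 x53 x54 x56 x57 x63 x64 x65 x67 x73 x74 x75 x76 q34 q35 q36 q37 q45 q46 q47 q56 q57 q67 hm0 hm1 hm2 hm3 hm4 hm5 hm6 hm7 om1 om2 om3 om4 om5 om6 om7 e0 e1 e2 e3 e4 e5 e6 e7 r01 r02 r03 r04 r05 r06 r07 r10 r12 r13 r14 r15 r16 r17 r20 r21 r23 r24 r25 r26 r27 r30 r31 r32 r34 r35 r36 r37 r40 r41 r42 r43 r45 r46 r47 r50 r51 r52 r53 r54 r56 r57 r60 r61 r62 r63 r64 r65 r67 r70 r71 r72 r73 r74 r75 r76 hw0 hw1 hw2 hw3 hw4 hw5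 hw6 hw7 hs01 hs02 hs03 hs04 hs05 hs06 hs07 hs12 hs13 hs14 hs15 hs16 hs17 hs23 hs24 hs25 hs26 hs27 hs34 hs35 hs36 hs37 hs45 hs46 hs47 hs56 hs57 hs67 ha00 ha11 ha22 ha33 ha44 ha55 ha66 ha77 v0 v1 v2 v3 v4 v5 v6 v7 qn01 qn02 qn03 qn04 qn05 qn06 qn07 qn12 qn13 qn14 qn15 qn16 qn17 qn23 qn24 qn25 qn26 qn27 qn34 qn35 qn36 qn37 qn45 qn46 qn47 qn56 qn57 qn67 od1 od2 od3 od4 od5 od6 od7 c34 c35 c36 c37 c45 c46 c47 c56 c57 c67 gw01 gw02 gw03 gw04 gw05 gw06 gw07 gw12 gw13 gw14 gw15 gw16 gw17 gw23 gw24 gw25 gw26 gw27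
                                    · exact part23 T α34 α35 α36 α37 α43 α45 α46 α47 α53 α54 α56 α57 α63 α64 α65 α67 α73 α74 α75 α76 x34 x35 x36 x37 x43 x45 x46 x47 x53 x54 x56 x57 x63 x64 x65 x67 x73 x74 x75 x76 q34 q35 q36 q37 q45 q46 q47 q56 q57 q67 hm0 hm1 hm2 hm3 hm4 hm5 hm6 hm7 om1 om2 om3 om4 om5 om6 om7 e0 e1 e2 e3 e4 e5 e6 e7 r01 r02 r03 r04 r05 r06 r07 r10 r12 r13 r14 r15 r16 r17 r20 r21 r23 r24 r25 r26 r27 r30 r31 r32 r34 r35 r36 r37 r40 r41 r42 r43 r45 r46 r47 r50 r51 r52 r53 r54 r56 r57 r60 r61 r62 r63 r64 r65 r67 r70 r71 r72 r73 r74 r75 r76 hw0 hw1 hw2 hw3 hw4 hw5 hw6 hw7 hs01 hs02 hs03 hs04 hs05 hs06 hs07 hs12 hs13 hs14 hs15 hs16 hs17 hs23 hs24 hs25 hs26 hs27 hs34 hs35 hs36 hs37 hs45 hs46 hs47 hs56 hs57 hs67 ha00 ha11 ha22 ha33 ha44 ha55 ha66 ha77 v0 v1 v2 v3 v4 v5 v6 v7 qn01 qn02 qn03 qn04 qn05 qn06 qn07 qn12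 qn13 qn14 qn15 qn16 qn17 qn23 qn24 qn25 qn26 qn27 qn34 qn35 qn36 qn37 qn45 qn46 qn47 qn56 qn57 qn67 od1 od2 od3 od4 od5 od6 od7 c34 c35 c36 c37 c45 c46 c47 c56 c57 c67 gw01 gw02 gw03 gw04 gw05 gw06 gw07 gw12 gw13 gw14 gw15 gw16 gw17 gw23 gw24 gw25 gw26 gw27
                                    · (have := hm3.out; have := om5.out; have := e0.out; have := e1.out; have := e2.out; have := e7.out; have := r73.out; have := r74.out; have := r75.out; have := r76.out; omega)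
                                    · (have := hm3.out; have := om5.out; have := e0.out; have := e1.out; have := e2.out; have := e7.out; have := r73.out; have := r74.out; have := r75.out; have := r76.out; omega)
                                  · exact part24 T α27 α34 α35 α36 α37 α43 α45 α46 α47 α53 α54 α56 α57 α63 α64 α65 α67 α72 α73 α74 α75 α76 x27 x34 x35 x36 x37 x43 x45 x46 x47 x53 x54 x56 x57 x63 x64 x65 x67 x72 x73 x74 x75 x76 q27 q34 q35 q36 q37 q45 q46 q47 q56 q57 q67 hm0 hm1 hm2 hm3 hm4 hm5 hm6 hm7 om1 om2 om3 om4 om5 om6 om7 e0 e1 e2 e3 e4 e5 e6 e7 r01 r02 r03 r04 r05 r06 r07 r10 r12 r13 r14 r15 r16 r17 r20 r21 r23 r24 r25 r26 r27 r30 r31 r32 r34 r35 r36 r37 r40 r41 r42 r43 r45 r46 r47 r50 r51 r52 r53 r54 r56 r57 r60 r61 r62 r63 r64 r65 r67 r70 r71 r72 r73 r74 r75 r76 hw0 hw1 hw2 hw3 hw4 hw5 hw6 hw7 hs01 hs02 hs03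 hs04 hs05 hs06 hs07 hs12 hs13 hs14 hs15 hs16 hs17 hs23 hs24 hs25 hs26 hs27 hs34 hs35 hs36 hs37 hs45 hs46 hs47 hs56 hs57 hs67 ha00 ha11 ha22 ha33 ha44 ha55 ha66 ha77 v0 v1 v2 v3 v4 v5 v6 v7 qn01 qn02 qn03 qn04 qn05 qn06 qn07 qn12 qn13 qn14 qn15 qn16 qn17 qn23 qn24 qn25 qn26 qn27 qn34 qn35 qn36 qn37 qn45 qn46 qn47 qn56 qn57 qn67 od1 od2 od3 od4 od5 od6 od7 c27 c34 c35 c36 c37 c45 c46 c47 c56 c57 c67 gw01 gw02 gw03 gw04 gw05 gw06 gw07 gw12 gw13 gw14 gw15 gw16 gw17 gw23 gw24 gw25 gw26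
                                  · (have := hm3.out; have := om5.out; have := e0.out; have := e1.out; have := e2.out; have := r27.out; have := e6.out; have := r63.out; have := r64.out; have := r65.out; have := r67.out; omega)
                                  · (have := hm3.out; have := om5.out; have := e0.out; have := e1.out; have := e2.out; have := r27.out; have := e6.out; have := r63.out; have := r64.out; have := r65.out; have := r67.out; omega)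
                                · (have := hm0.out; have := om3.out; have := e1.out; have := e2.out; have := r26.out; have := r27.out; have := e5.out; have := r53.out; have := r54.out; have := r56.out; have := r57.out; omega)
                                · (have := hm2.out; have := om3.out; have := e0.out; have := e1.out; have := e2.out; have := r26.out; have := r27.out; have := e5.out; have := r53.out; have := r54.out; have := r56.out; have := r57.out; omega)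
                                · (have := hm3.out; have := om5.out; have := e0.out; have := e1.out; have := e2.out; have := r26.out; have := r27.out; omega)
                              · exact part25 T α25 α26 α27 α34 α35 α36 α37 α43 α45 α46 α47 α52 α53 α54 α56 α57 α62 α63 α64 α65 α67 α72 α73 α74 α75 α76 x25 x26 x27 x34 x35 x36 x37 x43 x45 x46 x47 x52 x53 x54 x56 x57 x62 x63 x64 x65 x67 x72 x73 x74 x75 x76 q25 q26 q27 q34 q35 q36 q37 q45 q46 q47 q56 q57 q67 hm0 hm1 hm2 hm3 hm4 hm5 hm6 hm7 om1 om2 om3 om4 om5 om6 om7 e0 e1 e2 e3 e4 e5 e6 e7 r01 r02 r03 r04 r05 r06 r07 r10 r12 r13 r14 r15 r16 r17 r20 r21 r23 r24 r25 r26 r27 r30 r31 r32 r34 r35 r36 r37 r40 r41 r42 r43 r45 r46 r47 r50 r51 r52 r53 r54 r56 r57 r60 r61 r62 r63 r64 r65 r67 r70 r71 r72 r73 r74 r75 r76 hw0 hw1 hw2 hw3 hw4 hw5 hw6 hw7 hs01 hs02 hs03 hs04 hs05 hs06 hs07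 hs12 hs13 hs14 hs15 hs16 hs17 hs23 hs24 hs25 hs26 hs27 hs34 hs35 hs36 hs37 hs45 hs46 hs47 hs56 hs57 hs67 ha00 ha11 ha22 ha33 ha44 ha55 ha66 ha77 v0 v1 v2 v3 v4 v5 v6 v7 qn01 qn02 qn03 qn04 qn05 qn06 qn07 qn12 qn13 qn14 qn15 qn16 qn17 qn23 qn24 qn25 qn26 qn27 qn34 qn35 qn36 qn37 qn45 qn46 qn47 qn56 qn57 qn67 od1 od2 od3 od4 od5 od6 od7 c25 c26 c27 c34 c35 c36 c37 c45 c46 c47 c56 c57 c67 gw01 gw02 gw03 gw04 gw05 gw06 gw07 gw12 gw13 gw14 gw15 gw16 gw17 gw23 gw24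
                              · (have := hm3.out; have := om5.out; have := e0.out; have := e1.out; have := e2.out; have := r25.out; have := r26.out; have := r27.out; have := e4.out; have := r43.out; have := r45.out; have := r46.out; have := r47.out; omega)
                              · (have := hm3.out; have := om5.out; have := e0.out; have := e1.out; have := e2.out; have := r25.out; have := r26.out; have := r27.out; have := e4.out; have := r43.out; have := r45.out; have := r46.out; have := r47.out; omega)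
                            · exact part26 T α24 α25 α26 α27 α34 α35 α36 α37 α42 α43 α45 α46 α47 α52 α53 α54 α56 α57 α62 α63 α64 α65 α67 α72 α73 α74 α75 α76 x24 x25 x26 x27 x34 x35 x36 x37 x42 x43 x45 x46 x47 x52 x53 x54 x56 x57 x62 x63 x64 x65 x67 x72 x73 x74 x75 x76 q24 q25 q26 q27 q34 q35 q36 q37 q45 q46 q47 q56 q57 q67 hm0 hm1 hm2 hm3 hm4 hm5 hm6 hm7 om1 om2 om3 om4 om5 om6 om7 e0 e1 e2 e3 e4 e5 e6 e7 r01 r02 r03 r04 r05 r06 r07 r10 r12 r13 r14 r15 r16 r17 r20 r21 r23 r24 r25 r26 r27 r30 r31 r32 r34 r35 r36 r37 r40 r41 r42 r43 r45 r46 r47 r50 r51 r52 r53 r54 r56 r57 r60 r61 r62 r63 r64 r65 r67 r70 r71 r72 r73 r74 r75 r76 hw0 hw1 hw2 hw3 hw4 hw5 hw6 hw7 hs01 hs02 hs03 hs04 hs05 hs06 hs07 hs12 hs13 hs14 hs15 hs16 hs17 hs23 hs24 hs25 hs26 hs27 hs34 hs35 hs36 hs37 hs45 hs46 hs47 hs56 hs57 hs67 ha00 ha11 ha22 ha33 ha44 ha55 ha66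 ha77 v0 v1 v2 v3 v4 v5 v6 v7 qn01 qn02 qn03 qn04 qn05 qn06 qn07 qn12 qn13 qn14 qn15 qn16 qn17 qn23 qn24 qn25 qn26 qn27 qn34 qn35 qn36 qn37 qn45 qn46 qn47 qn56 qn57 qn67 od1 od2 od3 od4 od5 od6 od7 c24 c25 c26 c27 c34 c35 c36 c37 c45 c46 c47 c56 c57 c67 gw01 gw02 gw03 gw04 gw05 gw06 gw07 gw12 gw13 gw14 gw15 gw16 gw17 gw23
                            · exact part27 T α24 α25 α26 α27 α34 α35 α36 α37 α42 α43 α45 α46 α47 α52 α53 α54 α56 α57 α62 α63 α64 α65 α67 α72 α73 α74 α75 α76 x24 x25 x26 x27 x34 x35 x36 x37 x42 x43 x45 x46 x47 x52 x53 x54 x56 x57 x62 x63 x64 x65 x67 x72 x73 x74 x75 x76 q24 q25 q26 q27 q34 q35 q36 q37 q45 q46 q47 q56 q57 q67 hm0 hm1 hm2 hm3 hm4 hm5 hm6 hm7 om1 om2 om3 om4 om5 om6 om7 e0 e1 e2 e3 e4 e5 e6 e7 r01 r02 r03 r04 r05 r06 r07 r10 r12 r13 r14 r15 r16 r17 r20 r21 r23 r24 r25 r26 r27 r30 r31 r32 r34 r35 r36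 r37 r40 r41 r42 r43 r45 r46 r47 r50 r51 r52 r53 r54 r56 r57 r60 r61 r62 r63 r64 r65 r67 r70 r71 r72 r73 r74 r75 r76 hw0 hw1 hw2 hw3 hw4 hw5 hw6 hw7 hs01 hs02 hs03 hs04 hs05 hs06 hs07 hs12 hs13 hs14 hs15 hs16 hs17 hs23 hs24 hs25 hs26 hs27 hs34 hs35 hs36 hs37 hs45 hs46 hs47 hs56 hs57 hs67 ha00 ha11 ha22 ha33 ha44 ha55 ha66 ha77 v0 v1 v2 v3 v4 v5 v6 v7 qn01 qn02 qn03 qn04 qn05 qn06 qn07 qn12 qn13 qn14 qn15 qn16 qn17 qn23 qn24 qn25 qn26 qn27 qn34 qn35 qn36 qn37 qn45 qn46 qn47 qn56 qn57 qn67 od1 od2 od3 od4 od5 od6 od7 c24 c25 c26 c27 c34 c35 c36 c37 c45 c46 c47 c56 c57 c67 gw01 gw02 gw03 gw04 gw05 gw06 gw07 gw12 gw13 gw14 gw15 gw16 gw17 gw23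
                            · (have := hm0.out; have := hm5.out; have := e1.out; have := e2.out; have := r24.out; have := r25.out; have := r26.out; have := r27.out; have := e3.out; have := r34.out; have := r35.out; have := r36.out; have := r37.out; omega)
                            · (have := hm3.out; have := om3.out; have := e0.out; have := e1.out; have := e2.out; have := r24.out; have := r25.out; have := r26.out; have := r27.out; have := e5.out; have := r52.out; have := r53.out; have := r54.out; have := r56.out; have := r57.out; omega)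
                          · exact part28 T α23 α24 α25 α26 α27 α32 α34 α35 α36 α37 α42 α43 α45 α46 α47 α52 α53 α54 α56 α57 α62 α63 α64 α65 α67 α72 α73 α74 α75 α76 x23 x24 x25 x26 x27 x32 x34 x35 x36 x37 x42 x43 x45 x46 x47 x52 x53 x54 x56 x57 x62 x63 x64 x65 x67 x72 x73 x74 x75 x76 q23 q24 q25 q26 q27 q34 q35 q36 q37 q45 q46 q47 q56 q57 q67 hm0 hm1 hm2 hm3 hm4 hm5 hm6 hm7 om1 om2 om3 om4 om5 om6 om7 e0 e1 e2 e3 e4 e5 e6 e7 r01 r02 r03 r04 r05 r06 r07 r10 r12 r13 r14 r15 r16 r17 r20 r21 r23 r24 r25 r26 r27 r30 r31 r32 r34 r35 r36 r37 r40 r41 r42 r43 r45 r46 r47 r50 r51 r52 r53 r54 r56 r57 r60 r61 r62 r63 r64 r65 r67 r70 r71 r72 r73 r74 r75 r76 hw0 hw1 hw2 hw3 hw4 hw5 hw6 hw7 hs01 hs02 hs03 hs04 hs05 hs06 hs07 hs12 hs13 hs14 hs15 hs16 hs17 hs23 hs24 hs25 hs26 hs27 hs34 hs35 hs36 hs37 hs45 hs46 hs47 hs56 hs57 hs67 ha00 ha11 ha22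 ha33 ha44 ha55 ha66 ha77 v0 v1 v2 v3 v4 v5 v6 v7 qn01 qn02 qn03 qn04 qn05 qn06 qn07 qn12 qn13 qn14 qn15 qn16 qn17 qn23 qn24 qn25 qn26 qn27 qn34 qn35 qn36 qn37 qn45 qn46 qn47 qn56 qn57 qn67 od1 od2 od3 od4 od5 od6 od7 c23 c24 c25 c26 c27 c34 c35 c36 c37 c45 c46 c47 c56 c57 c67 gw01 gw02 gw03 gw04 gw05 gw06 gw07 gw12 gw13 gw14 gw15 gw16 gw17
                        · exact part29 T α17 α23 α24 α25 α26 α27 α32 α34 α35 α36 α37 α42 α43 α45 α46 α47 α52 α53 α54 α56 α57 α62 α63 α64 α65 α67 α71 α72 α73 α74 α75 α76 x17 x23 x24 x25 x26 x27 x32 x34 x35 x36 x37 x42 x43 x45 x46 x47 x52 x53 x54 x56 x57 x62 x63 x64 x65 x67 x71 x72 x73 x74 x75 x76 q17 q23 q24 q25 q26 q27 q34 q35 q36 q37 q45 q46 q47 q56 q57 q67 hm0 hm1 hm2 hm3 hm4 hm5 hm6 hm7 om1 om2 om3 om4 om5 om6 om7 e0 e1 e2 e3 e4 e5 e6 e7 r01 r02 r03 r04 r05 r06 r07 r10 r12 r13 r14 r15 r16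 r17 r20 r21 r23 r24 r25 r26 r27 r30 r31 r32 r34 r35 r36 r37 r40 r41 r42 r43 r45 r46 r47 r50 r51 r52 r53 r54 r56 r57 r60 r61 r62 r63 r64 r65 r67 r70 r71 r72 r73 r74 r75 r76 hw0 hw1 hw2 hw3 hw4 hw5 hw6 hw7 hs01 hs02 hs03 hs04 hs05 hs06 hs07 hs12 hs13 hs14 hs15 hs16 hs17 hs23 hs24 hs25 hs26 hs27 hs34 hs35 hs36 hs37 hs45 hs46 hs47 hs56 hs57 hs67 ha00 ha11 ha22 ha33 ha44 ha55 ha66 ha77 v0 v1 v2 v3 v4 v5 v6 v7 qn01 qn02 qn03 qn04 qn05 qn06 qn07 qn12 qn13 qn14 qn15 qn16 qn17 qn23 qn24 qn25 qn26 qn27 qn34 qn35 qn36 qn37 qn45 qn46 qn47 qn56 qn57 qn67 od1 od2 od3 od4 od5 od6 od7 c17 c23 c24 c25 c26 c27 c34 c35 c36 c37 c45 c46 c47 c56 c57 c67 gw01 gw02 gw03 gw04 gw05 gw06 gw07 gw12 gw13 gw14 gw15 gw16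
                      · exact part30 T α16 α17 α23 α24 α25 α26 α27 α32 α34 α35 α36 α37 α42 α43 α45 α46 α47 α52 α53 α54 α56 α57 α61 α62 α63 α64 α65 α67 α71 α72 α73 α74 α75 α76 x16 x17 x23 x24 x25 x26 x27 x32 x34 x35 x36 x37 x42 x43 x45 x46 x47 x52 x53 x54 x56 x57 x61 x62 x63 x64 x65 x67 x71 x72 x73 x74 x75 x76 q16 q17 q23 q24 q25 q26 q27 q34 q35 q36 q37 q45 q46 q47 q56 q57 q67 hm0 hm1 hm2 hm3 hm4 hm5 hm6 hm7 om1 om2 om3 om4 om5 om6 om7 e0 e1 e2 e3 e4 e5 e6 e7 r01 r02 r03 r04 r05 r06 r07 r10 r12 r13 r14 r15 r16 r17 r20 r21 r23 r24 r25 r26 r27 r30 r31 r32 r34 r35 r36 r37 r40 r41 r42 r43 r45 r46 r47 r50 r51 r52 r53 r54 r56 r57 r60 r61 r62 r63 r64 r65 r67 r70 r71 r72 r73 r74 r75 r76 hw0 hw1 hw2 hw3 hw4 hw5 hw6 hw7 hs01 hs02 hs03 hs04 hs05 hs06 hs07 hs12 hs13 hs14 hs15 hs16 hs17 hs23 hs24 hs25 hs26 hs27 hs34 hs35 hs36 hs37 hs45 hs46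 hs47 hs56 hs57 hs67 ha00 ha11 ha22 ha33 ha44 ha55 ha66 ha77 v0 v1 v2 v3 v4 v5 v6 v7 qn01 qn02 qn03 qn04 qn05 qn06 qn07 qn12 qn13 qn14 qn15 qn16 qn17 qn23 qn24 qn25 qn26 qn27 qn34 qn35 qn36 qn37 qn45 qn46 qn47 qn56 qn57 qn67 od1 od2 od3 od4 od5 od6 od7 c16 c17 c23 c24 c25 c26 c27 c34 c35 c36 c37 c45 c46 c47 c56 c57 c67 gw01 gw02 gw03 gw04 gw05 gw06 gw07 gw12 gw13 gw14 gw15
                      · exact part31 T α16 α17 α23 α24 α25 α26 α27 α32 α34 α35 α36 α37 α42 α43 α45 α46 α47 α52 α53 α54 α56 α57 α61 α62 α63 α64 α65 α67 α71 α72 α73 α74 α75 α76 x16 x17 x23 x24 x25 x26 x27 x32 x34 x35 x36 x37 x42 x43 x45 x46 x47 x52 x53 x54 x56 x57 x61 x62 x63 x64 x65 x67 x71 x72 x73 x74 x75 x76 q16 q17 q23 q24 q25 q26 q27 q34 q35 q36 q37 q45 q46 q47 q56 q57 q67 hm0 hm1 hm2 hm3 hm4 hm5 hm6 hm7 om1 om2 om3 om4 om5 om6 om7 e0 e1 e2 e3 e4 e5 e6 e7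 r01 r02 r03 r04 r05 r06 r07 r10 r12 r13 r14 r15 r16 r17 r20 r21 r23 r24 r25 r26 r27 r30 r31 r32 r34 r35 r36 r37 r40 r41 r42 r43 r45 r46 r47 r50 r51 r52 r53 r54 r56 r57 r60 r61 r62 r63 r64 r65 r67 r70 r71 r72 r73 r74 r75 r76 hw0 hw1 hw2 hw3 hw4 hw5 hw6 hw7 hs01 hs02 hs03 hs04 hs05 hs06 hs07 hs12 hs13 hs14 hs15 hs16 hs17 hs23 hs24 hs25 hs26 hs27 hs34 hs35 hs36 hs37 hs45 hs46 hs47 hs56 hs57 hs67 ha00 ha11 ha22 ha33 ha44 ha55 ha66 ha77 v0 v1 v2 v3 v4 v5 v6 v7 qn01 qn02 qn03 qn04 qn05 qn06 qn07 qn12 qn13 qn14 qn15 qn16 qn17 qn23 qn24 qn25 qn26 qn27 qn34 qn35 qn36 qn37 qn45 qn46 qn47 qn56 qn57 qn67 od1 od2 od3 od4 od5 od6 od7 c16 c17 c23 c24 c25 c26 c27 c34 c35 c36 c37 c45 c46 c47 c56 c57 c67 gw01 gw02 gw03 gw04 gw05 gw06 gw07 gw12 gw13 gw14 gw15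
                    · have t := pc1 q15 c15.out (by have := v1.out; have := qn16.out; have := qn17.out; omega)
                      clear c15
                      rcases t with ⟨⟨⟨rfl, rfl⟩, gw15, ⟨rfl, rfl⟩⟩, rfl⟩ | ⟨⟨⟨rfl, rfl⟩, gw15, ⟨rfl, rfl⟩⟩, rfl⟩
                      · have t := pc1 q16 c16.out (by have := v1.out; have := qn17.out; omega)
                        clear c16
                        rcases t with ⟨⟨⟨rfl, rfl⟩, gw16, ⟨rfl, rfl⟩⟩, rfl⟩ | ⟨⟨⟨rfl, rfl⟩, gw16, ⟨rfl, rfl⟩⟩, rfl⟩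
                        · have t := pc1 q17 c17.out (by have := v1.out; omega)
                          clear c17
                          rcases t with ⟨⟨⟨rfl, rfl⟩, gw17, ⟨rfl, rfl⟩⟩, rfl⟩ | ⟨⟨⟨rfl, rfl⟩, gw17, ⟨rfl, rfl⟩⟩, rfl⟩
                          · have t := pc3 q23 c23.out (by have := v2.out; have := qn24.out; have := qn25.out; have := qn26.out; have := qn27.out; omega)
                            clear c23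
                            rcases t with ⟨⟨⟨rfl, rfl⟩, gw23, ⟨rfl, rfl⟩⟩, rfl⟩ | ⟨⟨⟨rfl, rfl⟩, gw23, ⟨rfl, rfl⟩⟩, rfl⟩ | ⟨⟨⟨rfl, rfl⟩, gw23, ⟨rfl, rfl⟩⟩, rfl⟩ | ⟨⟨⟨rfl, rfl⟩, gw23, ⟨rfl, rfl⟩⟩, rfl⟩ | ⟨⟨⟨rfl, rfl⟩, gw23, ⟨rfl, rfl⟩⟩, rfl⟩ | ⟨⟨⟨rfl, rfl⟩, gw23, ⟨rfl, rfl⟩⟩, rfl⟩
                            · (have := od3.out; omega)
                            · have t := pc2 q24 c24.out (by have := v2.out; have := qn25.out; have := qn26.out; have := qn27.out; omega)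
                              clear c24
                              rcases t with ⟨⟨⟨rfl, rfl⟩, gw24, ⟨rfl, rfl⟩⟩, rfl⟩ | ⟨⟨⟨rfl, rfl⟩, gw24, ⟨rfl, rfl⟩⟩, rfl⟩ | ⟨⟨⟨rfl, rfl⟩, gw24, ⟨rfl, rfl⟩⟩, rfl⟩ | ⟨⟨⟨rfl, rfl⟩, gw24, ⟨rfl, rfl⟩⟩, rfl⟩
                              · have t := pc2 q25 c25.out (by have := v2.out; have := qn26.out; have := qn27.out; omega)
                                clear c25
                                rcases t with ⟨⟨⟨rfl, rfl⟩, gw25, ⟨rfl, rfl⟩⟩, rfl⟩ | ⟨⟨⟨rfl, rfl⟩, gw25, ⟨rfl, rfl⟩⟩, rfl⟩ | ⟨⟨⟨rfl, rfl⟩, gw25, ⟨rfl, rfl⟩⟩, rfl⟩ | ⟨⟨⟨rfl, rfl⟩, gw25, ⟨rfl, rfl⟩⟩, rfl⟩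
                                · have t := pc2 q26 c26.out (by have := v2.out; have := qn27.out; omega)
                                  clear c26
                                  rcases t with ⟨⟨⟨rfl, rfl⟩, gw26, ⟨rfl, rfl⟩⟩, rfl⟩ | ⟨⟨⟨rfl, rfl⟩, gw26, ⟨rfl, rfl⟩⟩, rfl⟩ | ⟨⟨⟨rfl, rfl⟩, gw26, ⟨rfl, rfl⟩⟩, rfl⟩ | ⟨⟨⟨rfl, rfl⟩, gw26, ⟨rfl, rfl⟩⟩, rfl⟩
                                  · have t := pc2 q27 c27.out (by have := v2.out; omega)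
                                    clear c27
                                    rcases t with ⟨⟨⟨rfl, rfl⟩, gw27, ⟨rfl, rfl⟩⟩, rfl⟩ | ⟨⟨⟨rfl, rfl⟩, gw27, ⟨rfl, rfl⟩⟩, rfl⟩ | ⟨⟨⟨rfl, rfl⟩, gw27, ⟨rfl, rfl⟩⟩, rfl⟩ | ⟨⟨⟨rfl, rfl⟩, gw27, ⟨rfl, rfl⟩⟩, rfl⟩
                                    · have t := pc3 q34 c34.out (by have := v3.out; have := qn35.out; have := qn36.out; have := qn37.out; omega)
                                      clear c34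
                                      rcases t with ⟨⟨⟨rfl, rfl⟩, gw34, ⟨rfl, rfl⟩⟩, rfl⟩ | ⟨⟨⟨rfl, rfl⟩, gw34, ⟨rfl, rfl⟩⟩, rfl⟩ | ⟨⟨⟨rfl, rfl⟩, gw34, ⟨rfl, rfl⟩⟩, rfl⟩ | ⟨⟨⟨rfl, rfl⟩, gw34, ⟨rfl, rfl⟩⟩, rfl⟩ | ⟨⟨⟨rfl, rfl⟩, gw34, ⟨rfl, rfl⟩⟩, rfl⟩ | ⟨⟨⟨rfl, rfl⟩, gw34, ⟨rfl, rfl⟩⟩, rfl⟩
                                      · exact part32 T α35 α36 α37 α45 α46 α47 α53 α54 α56 α57 α63 α64 α65 α67 α73 α74 α75 α76 x35 x36 x37 x45 x46 x47 x53 x54 x56 x57 x63 x64 x65 x67 x73 x74 x75 x76 q35 q36 q37 q45 q46 q47 q56 q57 q67 hm0 hm1 hm2 hm3 hm4 hm5 hm6 hm7 om1 om2 om3 om4 om5 om6 om7 e0 e1 e2 e3 e4 e5 e6 e7 r01 r02 r03 r04 r05 r06 r07 r10 r12 r13 r14 r15 r16 r17 r20 r21 r23 r24 r25 r26 r27 r30 r31 r32 r34 r35 r36 r37 r40 r41 r42 r43 r45 r46 r47 r50 r51 r52 r53 r54 r56 r57 r60 r61 r62 r63 r64 r65 r67 r70 r71 r72 r73 r74 r75 r76 hw0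 hw1 hw2 hw3 hw4 hw5 hw6 hw7 hs01 hs02 hs03 hs04 hs05 hs06 hs07 hs12 hs13 hs14 hs15 hs16 hs17 hs23 hs24 hs25 hs26 hs27 hs34 hs35 hs36 hs37 hs45 hs46 hs47 hs56 hs57 hs67 ha00 ha11 ha22 ha33 ha44 ha55 ha66 ha77 v0 v1 v2 v3 v4 v5 v6 v7 qn01 qn02 qn03 qn04 qn05 qn06 qn07 qn12 qn13 qn14 qn15 qn16 qn17 qn23 qn24 qn25 qn26 qn27 qn34 qn35 qn36 qn37 qn45 qn46 qn47 qn56 qn57 qn67 od1 od2 od3 od4 od5 od6 od7 c35 c36 c37 c45 c46 c47 c56 c57 c67 gw01 gw02 gw03 gw04 gw05 gw06 gw07 gw12 gw13 gw14 gw15 gw16 gw17 gw23 gw24 gw25 gw26 gw27 gw34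
                                      · (have := hm0.out; have := e1.out; have := e2.out; have := e3.out; have := r35.out; have := r36.out; have := r37.out; have := e4.out; have := r45.out; have := r46.out; have := r47.out; omega)
                                      · (have := hm0.out; have := hm3.out; have := e1.out; have := e2.out; have := e3.out; have := r35.out; have := r36.out; have := r37.out; have := e4.out; have := r45.out; have := r46.out; have := r47.out; omega)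
                                      · (have := hm0.out; have := hm4.out; have := e1.out; have := e2.out; have := e3.out; have := r35.out; have := r36.out; have := r37.out; have := e4.out; have := r45.out; have := r46.out; have := r47.out; omega)
                                      · (have := hm1.out; have := e2.out; have := e3.out; have := r35.out; have := r36.out; have := r37.out; have := e4.out; have := r45.out; have := r46.out; have := r47.out; omega)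
                                      · (have := hm1.out; have := e2.out; have := e3.out; have := r35.out; have := r36.out; have := r37.out; have := e4.out; have := r45.out; have := r46.out; have := r47.out; omega)
                                    · exact part33 T α34 α35 α36 α37 α43 α45 α46 α47 α53 α54 α56 α57 α63 α64 α65 α67 α73 α74 α75 α76 x34 x35 x36 x37 x43 x45 x46 x47 x53 x54 x56 x57 x63 x64 x65 x67 x73 x74 x75 x76 q34 q35 q36 q37 q45 q46 q47 q56 q57 q67 hm0 hm1 hm2 hm3 hm4 hm5 hm6 hm7 om1 om2 om3 om4 om5 om6 om7 e0 e1 e2 e3 e4 e5 e6 e7 r01 r02 r03 r04 r05 r06 r07 r10 r12 r13 r14 r15 r16 r17 r20 r21 r23 r24 r25 r26 r27 r30 r31 r32 r34 r35 r36 r37 r40 r41 r42 r43 r45 r46 r47 r50 r51 r52 r53 r54 r56 r57 r60 r61 r62 r63 r64 r65 r67 r70 r71 r72 r73 r74 r75 r76 hw0 hw1 hw2 hw3 hw4 hw5 hw6 hw7 hs01 hs02 hs03 hs04 hs05 hs06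 hs07 hs12 hs13 hs14 hs15 hs16 hs17 hs23 hs24 hs25 hs26 hs27 hs34 hs35 hs36 hs37 hs45 hs46 hs47 hs56 hs57 hs67 ha00 ha11 ha22 ha33 ha44 ha55 ha66 ha77 v0 v1 v2 v3 v4 v5 v6 v7 qn01 qn02 qn03 qn04 qn05 qn06 qn07 qn12 qn13 qn14 qn15 qn16 qn17 qn23 qn24 qn25 qn26 qn27 qn34 qn35 qn36 qn37 qn45 qn46 qn47 qn56 qn57 qn67 od1 od2 od3 od4 od5 od6 od7 c34 c35 c36 c37 c45 c46 c47 c56 c57 c67 gw01 gw02 gw03 gw04 gw05 gw06 gw07 gw12 gw13 gw14 gw15 gw16 gw17 gw23 gw24 gw25 gw26 gw27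
                                    · (have := hm3.out; have := om4.out; have := e0.out; have := e1.out; have := e2.out; have := e7.out; have := r73.out; have := r74.out; have := r75.out; have := r76.out; omega)
                                    · (have := hm3.out; have := om4.out; have := e0.out; have := e1.out; have := e2.out; have := e7.out; have := r73.out; have := r74.out; have := r75.out; have := r76.out; omega)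
                                  · exact part34 T α27 α34 α35 α36 α37 α43 α45 α46 α47 α53 α54 α56 α57 α63 α64 α65 α67 α72 α73 α74 α75 α76 x27 x34 x35 x36 x37 x43 x45 x46 x47 x53 x54 x56 x57 x63 x64 x65 x67 x72 x73 x74 x75 x76 q27 q34 q35 q36 q37 q45 q46 q47 q56 q57 q67 hm0 hm1 hm2 hm3 hm4 hm5 hm6 hm7 om1 om2 om3 om4 om5 om6 om7 e0 e1 e2 e3 e4 e5 e6 e7 r01 r02 r03 r04 r05 r06 r07 r10 r12 r13 r14 r15 r16 r17 r20 r21 r23 r24 r25 r26 r27 r30 r31 r32 r34 r35 r36 r37 r40 r41 r42 r43 r45 r46 r47 r50 r51 r52 r53 r54 r56 r57 r60 r61 r62 r63 r64 r65 r67 r70 r71 r72 r73 r74 r75 r76 hw0 hw1 hw2 hw3 hw4 hw5 hw6 hw7 hs01 hs02 hs03 hs04 hs05 hs06 hs07 hs12 hs13 hs14 hs15 hs16 hs17 hs23 hs24 hs25 hs26 hs27 hs34 hs35 hs36 hs37 hs45 hs46 hs47 hs56 hs57 hs67 ha00 ha11 ha22 ha33 ha44 ha55 ha66 ha77 v0 v1 v2 v3 v4 v5 v6 v7 qn01 qn02 qn03 qn04 qn05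 qn06 qn07 qn12 qn13 qn14 qn15 qn16 qn17 qn23 qn24 qn25 qn26 qn27 qn34 qn35 qn36 qn37 qn45 qn46 qn47 qn56 qn57 qn67 od1 od2 od3 od4 od5 od6 od7 c27 c34 c35 c36 c37 c45 c46 c47 c56 c57 c67 gw01 gw02 gw03 gw04 gw05 gw06 gw07 gw12 gw13 gw14 gw15 gw16 gw17 gw23 gw24 gw25 gw26
                                  · (have := hm3.out; have := om4.out; have := e0.out; have := e1.out; have := e2.out; have := r27.out; have := e6.out; have := r63.out; have := r64.out; have := r65.out; have := r67.out; omega)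
                                  · (have := hm3.out; have := om4.out; have := e0.out; have := e1.out; have := e2.out; have := r27.out; have := e6.out; have := r63.out; have := r64.out; have := r65.out; have := r67.out; omega)
                                · exact part35 T α26 α27 α34 α35 α36 α37 α43 α45 α46 α47 α53 α54 α56 α57 α62 α63 α64 α65 α67 α72 α73 α74 α75 α76 x26 x27 x34 x35 x36 x37 x43 x45 x46 x47 x53 x54 x56 x57 x62 x63 x64 x65 x67 x72 x73 x74 x75 x76 q26 q27 q34 q35 q36 q37 q45 q46 q47 q56 q57 q67 hm0 hm1 hm2 hm3 hm4 hm5 hm6 hm7 om1 om2 om3 om4 om5 om6 om7 e0 e1 e2 e3 e4 e5 e6 e7 r01 r02 r03 r04 r05 r06 r07 r10 r12 r13 r14 r15 r16 r17 r20 r21 r23 r24 r25 r26 r27 r30 r31 r32 r34 r35 r36 r37 r40 r41 r42 r43 r45 r46 r47 r50 r51 r52 r53 r54 r56 r57 r60 r61 r62 r63 r64 r65 r67 r70 r71 r72 r73 r74 r75 r76 hw0 hw1 hw2 hw3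 hw4 hw5 hw6 hw7 hs01 hs02 hs03 hs04 hs05 hs06 hs07 hs12 hs13 hs14 hs15 hs16 hs17 hs23 hs24 hs25 hs26 hs27 hs34 hs35 hs36 hs37 hs45 hs46 hs47 hs56 hs57 hs67 ha00 ha11 ha22 ha33 ha44 ha55 ha66 ha77 v0 v1 v2 v3 v4 v5 v6 v7 qn01 qn02 qn03 qn04 qn05 qn06 qn07 qn12 qn13 qn14 qn15 qn16 qn17 qn23 qn24 qn25 qn26 qn27 qn34 qn35 qn36 qn37 qn45 qn46 qn47 qn56 qn57 qn67 od1 od2 od3 od4 od5 od6 od7 c26 c27 c34 c35 c36 c37 c45 c46 c47 c56 c57 c67 gw01 gw02 gw03 gw04 gw05 gw06 gw07 gw12 gw13 gw14 gw15 gw16 gw17 gw23 gw24 gw25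
                                · (have := hm3.out; have := om4.out; have := e0.out; have := e1.out; have := e2.out; have := r26.out; have := r27.out; have := e5.out; have := r53.out; have := r54.out; have := r56.out; have := r57.out; omega)
                                · (have := hm3.out; have := om4.out; have := e0.out; have := e1.out; have := e2.out; have := r26.out; have := r27.out; have := e5.out; have := r53.out; have := r54.out; have := r56.out; have := r57.out; omega)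
                              · (have := hm0.out; have := om3.out; have := e1.out; have := e2.out; have := r25.out; have := r26.out; have := r27.out; have := e4.out; have := r43.out; have := r45.out; have := r46.out; have := r47.out; omega)
                              · (have := hm2.out; have := om3.out; have := e0.out; have := e1.out; have := e2.out; have := r25.out; have := r26.out; have := r27.out; have := e4.out; have := r43.out; have := r45.out; have := r46.out; have := r47.out; omega)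
                              · (have := hm3.out; have := om4.out; have := e0.out; have := e1.out; have := e2.out; have := r25.out; have := r26.out; have := r27.out; omega)
                            · exact part36 T α24 α25 α26 α27 α34 α35 α36 α37 α42 α43 α45 α46 α47 α52 α53 α54 α56 α57 α62 α63 α64 α65 α67 α72 α73 α74 α75 α76 x24 x25 x26 x27 x34 x35 x36 x37 x42 x43 x45 x46 x47 x52 x53 x54 x56 x57 x62 x63 x64 x65 x67 x72 x73 x74 x75 x76 q24 q25 q26 q27 q34 q35 q36 q37 q45 q46 q47 q56 q57 q67 hm0 hm1 hm2 hm3 hm4 hm5 hm6 hm7 om1 om2 om3 om4 om5 om6 om7 e0 e1 e2 e3 e4 e5 e6 e7 r01 r02 r03 r04 r05 r06 r07 r10 r12 r13 r14 r15 r16 r17 r20 r21 r23 r24 r25 r26 r27 r30 r31 r32 r34 r35 r36 r37 r40 r41 r42 r43 r45 r46 r47 r50 r51 r52 r53 r54 r56 r57 r60 r61 r62 r63 r64 r65 r67 r70 r71 r72 r73 r74 r75 r76 hw0 hw1 hw2 hw3 hw4 hw5 hw6 hw7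 hs01 hs02 hs03 hs04 hs05 hs06 hs07 hs12 hs13 hs14 hs15 hs16 hs17 hs23 hs24 hs25 hs26 hs27 hs34 hs35 hs36 hs37 hs45 hs46 hs47 hs56 hs57 hs67 ha00 ha11 ha22 ha33 ha44 ha55 ha66 ha77 v0 v1 v2 v3 v4 v5 v6 v7 qn01 qn02 qn03 qn04 qn05 qn06 qn07 qn12 qn13 qn14 qn15 qn16 qn17 qn23 qn24 qn25 qn26 qn27 qn34 qn35 qn36 qn37 qn45 qn46 qn47 qn56 qn57 qn67 od1 od2 od3 od4 od5 od6 od7 c24 c25 c26 c27 c34 c35 c36 c37 c45 c46 c47 c56 c57 c67 gw01 gw02 gw03 gw04 gw05 gw06 gw07 gw12 gw13 gw14 gw15 gw16 gw17 gw23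
                            · exact part37 T α24 α25 α26 α27 α34 α35 α36 α37 α42 α43 α45 α46 α47 α52 α53 α54 α56 α57 α62 α63 α64 α65 α67 α72 α73 α74 α75 α76 x24 x25 x26 x27 x34 x35 x36 x37 x42 x43 x45 x46 x47 x52 x53 x54 x56 x57 x62 x63 x64 x65 x67 x72 x73 x74 x75 x76 q24 q25 q26 q27 q34 q35 q36 q37 q45 q46 q47 q56 q57 q67 hm0 hm1 hm2 hm3 hm4 hm5 hm6 hm7 om1 om2 om3 om4 om5 om6 om7 e0 e1 e2 e3 e4 e5 e6 e7 r01 r02 r03 r04 r05 r06 r07 r10 r12 r13 r14 r15 r16 r17 r20 r21 r23 r24 r25 r26 r27 r30 r31 r32 r34 r35 r36 r37 r40 r41 r42 r43 r45 r46 r47 r50 r51 r52 r53 r54 r56 r57 r60 r61 r62 r63 r64 r65 r67 r70 r71 r72 r73 r74 r75 r76 hw0 hw1 hw2 hw3 hw4 hw5 hw6 hw7 hs01 hs02 hs03 hs04 hs05 hs06 hs07 hs12 hs13 hs14 hs15 hs16 hs17 hs23 hs24 hs25 hs26 hs27 hs34 hs35 hs36 hs37 hs45 hs46 hs47 hs56 hs57 hs67 ha00 ha11 ha22 ha33 ha44 ha55 ha66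 ha77 v0 v1 v2 v3 v4 v5 v6 v7 qn01 qn02 qn03 qn04 qn05 qn06 qn07 qn12 qn13 qn14 qn15 qn16 qn17 qn23 qn24 qn25 qn26 qn27 qn34 qn35 qn36 qn37 qn45 qn46 qn47 qn56 qn57 qn67 od1 od2 od3 od4 od5 od6 od7 c24 c25 c26 c27 c34 c35 c36 c37 c45 c46 c47 c56 c57 c67 gw01 gw02 gw03 gw04 gw05 gw06 gw07 gw12 gw13 gw14 gw15 gw16 gw17 gw23
                            · (have := hm0.out; have := hm4.out; have := e1.out; have := e2.out; have := r24.out; have := r25.out; have := r26.out; have := r27.out; have := e3.out; have := r34.out; have := r35.out; have := r36.out; have := r37.out; omega)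
                            · (have := hm3.out; have := om3.out; have := e0.out; have := e1.out; have := e2.out; have := r24.out; have := r25.out; have := r26.out; have := r27.out; have := e4.out; have := r42.out; have := r43.out; have := r45.out; have := r46.out; have := r47.out; omega)
                          · exact part38 T α23 α24 α25 α26 α27 α32 α34 α35 α36 α37 α42 α43 α45 α46 α47 α52 α53 α54 α56 α57 α62 α63 α64 α65 α67 α72 α73 α74 α75 α76 x23 x24 x25 x26 x27 x32 x34 x35 x36 x37 x42 x43 x45 x46 x47 x52 x53 x54 x56 x57 x62 x63 x64 x65 x67 x72 x73 x74 x75 x76 q23 q24 q25 q26 q27 q34 q35 q36 q37 q45 q46 q47 q56 q57 q67 hm0 hm1 hm2 hm3 hm4 hm5 hm6 hm7 om1 om2 om3 om4 om5 om6 om7 e0 e1 e2 e3 e4 e5 e6 e7 r01 r02 r03 r04 r05 r06 r07 r10 r12 r13 r14 r15 r16 r17 r20 r21 r23 r24 r25 r26 r27 r30 r31 r32 r34 r35 r36 r37 r40 r41 r42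 r43 r45 r46 r47 r50 r51 r52 r53 r54 r56 r57 r60 r61 r62 r63 r64 r65 r67 r70 r71 r72 r73 r74 r75 r76 hw0 hw1 hw2 hw3 hw4 hw5 hw6 hw7 hs01 hs02 hs03 hs04 hs05 hs06 hs07 hs12 hs13 hs14 hs15 hs16 hs17 hs23 hs24 hs25 hs26 hs27 hs34 hs35 hs36 hs37 hs45 hs46 hs47 hs56 hs57 hs67 ha00 ha11 ha22 ha33 ha44 ha55 ha66 ha77 v0 v1 v2 v3 v4 v5 v6 v7 qn01 qn02 qn03 qn04 qn05 qn06 qn07 qn12 qn13 qn14 qn15 qn16 qn17 qn23 qn24 qn25 qn26 qn27 qn34 qn35 qn36 qn37 qn45 qn46 qn47 qn56 qn57 qn67 od1 od2 od3 od4 od5 od6 od7 c23 c24 c25 c26 c27 c34 c35 c36 c37 c45 c46 c47 c56 c57 c67 gw01 gw02 gw03 gw04 gw05 gw06 gw07 gw12 gw13 gw14 gw15 gw16 gw17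
                        · exact part39 T α17 α23 α24 α25 α26 α27 α32 α34 α35 α36 α37 α42 α43 α45 α46 α47 α52 α53 α54 α56 α57 α62 α63 α64 α65 α67 α71 α72 α73 α74 α75 α76 x17 x23 x24 x25 x26 x27 x32 x34 x35 x36 x37 x42 x43 x45 x46 x47 x52 x53 x54 x56 x57 x62 x63 x64 x65 x67 x71 x72 x73 x74 x75 x76 q17 q23 q24 q25 q26 q27 q34 q35 q36 q37 q45 q46 q47 q56 q57 q67 hm0 hm1 hm2 hm3 hm4 hm5 hm6 hm7 om1 om2 om3 om4 om5 om6 om7 e0 e1 e2 e3 e4 e5 e6 e7 r01 r02 r03 r04 r05 r06 r07 r10 r12 r13 r14 r15 r16 r17 r20 r21 r23 r24 r25 r26 r27 r30 r31 r32 r34 r35 r36 r37 r40 r41 r42 r43 r45 r46 r47 r50 r51 r52 r53 r54 r56 r57 r60 r61 r62 r63 r64 r65 r67 r70 r71 r72 r73 r74 r75 r76 hw0 hw1 hw2 hw3 hw4 hw5 hw6 hw7 hs01 hs02 hs03 hs04 hs05 hs06 hs07 hs12 hs13 hs14 hs15 hs16 hs17 hs23 hs24 hs25 hs26 hs27 hs34 hs35 hs36 hs37 hs45 hs46 hs47 hs56 hs57 hs67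 ha00 ha11 ha22 ha33 ha44 ha55 ha66 ha77 v0 v1 v2 v3 v4 v5 v6 v7 qn01 qn02 qn03 qn04 qn05 qn06 qn07 qn12 qn13 qn14 qn15 qn16 qn17 qn23 qn24 qn25 qn26 qn27 qn34 qn35 qn36 qn37 qn45 qn46 qn47 qn56 qn57 qn67 od1 od2 od3 od4 od5 od6 od7 c17 c23 c24 c25 c26 c27 c34 c35 c36 c37 c45 c46 c47 c56 c57 c67 gw01 gw02 gw03 gw04 gw05 gw06 gw07 gw12 gw13 gw14 gw15 gw16
                      · exact part40 T α16 α17 α23 α24 α25 α26 α27 α32 α34 α35 α36 α37 α42 α43 α45 α46 α47 α52 α53 α54 α56 α57 α61 α62 α63 α64 α65 α67 α71 α72 α73 α74 α75 α76 x16 x17 x23 x24 x25 x26 x27 x32 x34 x35 x36 x37 x42 x43 x45 x46 x47 x52 x53 x54 x56 x57 x61 x62 x63 x64 x65 x67 x71 x72 x73 x74 x75 x76 q16 q17 q23 q24 q25 q26 q27 q34 q35 q36 q37 q45 q46 q47 q56 q57 q67 hm0 hm1 hm2 hm3 hm4 hm5 hm6 hm7 om1 om2 om3 om4 om5 om6 om7 e0 e1 e2 e3 e4 e5 e6 e7 r01 r02 r03 r04 r05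 r06 r07 r10 r12 r13 r14 r15 r16 r17 r20 r21 r23 r24 r25 r26 r27 r30 r31 r32 r34 r35 r36 r37 r40 r41 r42 r43 r45 r46 r47 r50 r51 r52 r53 r54 r56 r57 r60 r61 r62 r63 r64 r65 r67 r70 r71 r72 r73 r74 r75 r76 hw0 hw1 hw2 hw3 hw4 hw5 hw6 hw7 hs01 hs02 hs03 hs04 hs05 hs06 hs07 hs12 hs13 hs14 hs15 hs16 hs17 hs23 hs24 hs25 hs26 hs27 hs34 hs35 hs36 hs37 hs45 hs46 hs47 hs56 hs57 hs67 ha00 ha11 ha22 ha33 ha44 ha55 ha66 ha77 v0 v1 v2 v3 v4 v5 v6 v7 qn01 qn02 qn03 qn04 qn05 qn06 qn07 qn12 qn13 qn14 qn15 qn16 qn17 qn23 qn24 qn25 qn26 qn27 qn34 qn35 qn36 qn37 qn45 qn46 qn47 qn56 qn57 qn67 od1 od2 od3 od4 od5 od6 od7 c16 c17 c23 c24 c25 c26 c27 c34 c35 c36 c37 c45 c46 c47 c56 c57 c67 gw01 gw02 gw03 gw04 gw05 gw06 gw07 gw12 gw13 gw14 gw15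
                    · exact part41 T α15 α16 α17 α23 α24 α25 α26 α27 α32 α34 α35 α36 α37 α42 α43 α45 α46 α47 α51 α52 α53 α54 α56 α57 α61 α62 α63 α64 α65 α67 α71 α72 α73 α74 α75 α76 x15 x16 x17 x23 x24 x25 x26 x27 x32 x34 x35 x36 x37 x42 x43 x45 x46 x47 x51 x52 x53 x54 x56 x57 x61 x62 x63 x64 x65 x67 x71 x72 x73 x74 x75 x76 q15 q16 q17 q23 q24 q25 q26 q27 q34 q35 q36 q37 q45 q46 q47 q56 q57 q67 hm0 hm1 hm2 hm3 hm4 hm5 hm6 hm7 om1 om2 om3 om4 om5 om6 om7 e0 e1 e2 e3 e4 e5 e6 e7 r01 r02 r03 r04 r05 r06 r07 r10 r12 r13 r14 r15 r16 r17 r20 r21 r23 r24 r25 r26 r27 r30 r31 r32 r34 r35 r36 r37 r40 r41 r42 r43 r45 r46 r47 r50 r51 r52 r53 r54 r56 r57 r60 r61 r62 r63 r64 r65 r67 r70 r71 r72 r73 r74 r75 r76 hw0 hw1 hw2 hw3 hw4 hw5 hw6 hw7 hs01 hs02 hs03 hs04 hs05 hs06 hs07 hs12 hs13 hs14 hs15 hs16 hs17 hs23 hs24 hs25 hs26 hs27 hs34 hs35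 hs36 hs37 hs45 hs46 hs47 hs56 hs57 hs67 ha00 ha11 ha22 ha33 ha44 ha55 ha66 ha77 v0 v1 v2 v3 v4 v5 v6 v7 qn01 qn02 qn03 qn04 qn05 qn06 qn07 qn12 qn13 qn14 qn15 qn16 qn17 qn23 qn24 qn25 qn26 qn27 qn34 qn35 qn36 qn37 qn45 qn46 qn47 qn56 qn57 qn67 od1 od2 od3 od4 od5 od6 od7 c15 c16 c17 c23 c24 c25 c26 c27 c34 c35 c36 c37 c45 c46 c47 c56 c57 c67 gw01 gw02 gw03 gw04 gw05 gw06 gw07 gw12 gw13 gw14
                    · exact part42 T α15 α16 α17 α23 α24 α25 α26 α27 α32 α34 α35 α36 α37 α42 α43 α45 α46 α47 α51 α52 α53 α54 α56 α57 α61 α62 α63 α64 α65 α67 α71 α72 α73 α74 α75 α76 x15 x16 x17 x23 x24 x25 x26 x27 x32 x34 x35 x36 x37 x42 x43 x45 x46 x47 x51 x52 x53 x54 x56 x57 x61 x62 x63 x64 x65 x67 x71 x72 x73 x74 x75 x76 q15 q16 q17 q23 q24 q25 q26 q27 q34 q35 q36 q37 q45 q46 q47 q56 q57 q67 hm0 hm1 hm2 hm3 hm4 hm5 hm6 hm7 om1 om2 om3 om4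 om5 om6 om7 e0 e1 e2 e3 e4 e5 e6 e7 r01 r02 r03 r04 r05 r06 r07 r10 r12 r13 r14 r15 r16 r17 r20 r21 r23 r24 r25 r26 r27 r30 r31 r32 r34 r35 r36 r37 r40 r41 r42 r43 r45 r46 r47 r50 r51 r52 r53 r54 r56 r57 r60 r61 r62 r63 r64 r65 r67 r70 r71 r72 r73 r74 r75 r76 hw0 hw1 hw2 hw3 hw4 hw5 hw6 hw7 hs01 hs02 hs03 hs04 hs05 hs06 hs07 hs12 hs13 hs14 hs15 hs16 hs17 hs23 hs24 hs25 hs26 hs27 hs34 hs35 hs36 hs37 hs45 hs46 hs47 hs56 hs57 hs67 ha00 ha11 ha22 ha33 ha44 ha55 ha66 ha77 v0 v1 v2 v3 v4 v5 v6 v7 qn01 qn02 qn03 qn04 qn05 qn06 qn07 qn12 qn13 qn14 qn15 qn16 qn17 qn23 qn24 qn25 qn26 qn27 qn34 qn35 qn36 qn37 qn45 qn46 qn47 qn56 qn57 qn67 od1 od2 od3 od4 od5 od6 od7 c15 c16 c17 c23 c24 c25 c26 c27 c34 c35 c36 c37 c45 c46 c47 c56 c57 c67 gw01 gw02 gw03 gw04 gw05 gw06 gw07 gw12 gw13 gw14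
                  · have t := pc1 q14 c14.out (by have := v1.out; have := qn15.out; have := qn16.out; have := qn17.out; omega)
                    clear c14
                    rcases t with ⟨⟨⟨rfl, rfl⟩, gw14, ⟨rfl, rfl⟩⟩, rfl⟩ | ⟨⟨⟨rfl, rfl⟩, gw14, ⟨rfl, rfl⟩⟩, rfl⟩
                    · have t := pc1 q15 c15.out (by have := v1.out; have := qn16.out; have := qn17.out; omega)
                      clear c15
                      rcases t with ⟨⟨⟨rfl, rfl⟩, gw15, ⟨rfl, rfl⟩⟩, rfl⟩ | ⟨⟨⟨rfl, rfl⟩, gw15, ⟨rfl, rfl⟩⟩, rfl⟩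
                      · have t := pc1 q16 c16.out (by have := v1.out; have := qn17.out; omega)
                        clear c16
                        rcases t with ⟨⟨⟨rfl, rfl⟩, gw16, ⟨rfl, rfl⟩⟩, rfl⟩ | ⟨⟨⟨rfl, rfl⟩, gw16, ⟨rfl, rfl⟩⟩, rfl⟩
                        · have t := pc1 q17 c17.out (by have := v1.out; omega)
                          clear c17
                          rcases t with ⟨⟨⟨rfl, rfl⟩, gw17, ⟨rfl, rfl⟩⟩, rfl⟩ | ⟨⟨⟨rfl, rfl⟩, gw17, ⟨rfl, rfl⟩⟩, rfl⟩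
                          · have t := pc3 q23 c23.out (by have := v2.out; have := qn24.out; have := qn25.out; have := qn26.out; have := qn27.out; omega)
                            clear c23
                            rcases t with ⟨⟨⟨rfl, rfl⟩, gw23, ⟨rfl, rfl⟩⟩, rfl⟩ | ⟨⟨⟨rfl, rfl⟩, gw23, ⟨rfl, rfl⟩⟩, rfl⟩ | ⟨⟨⟨rfl, rfl⟩, gw23, ⟨rfl, rfl⟩⟩, rfl⟩ | ⟨⟨⟨rfl, rfl⟩, gw23, ⟨rfl, rfl⟩⟩, rfl⟩ | ⟨⟨⟨rfl, rfl⟩, gw23, ⟨rfl, rfl⟩⟩, rfl⟩ | ⟨⟨⟨rfl, rfl⟩, gw23, ⟨rfl, rfl⟩⟩, rfl⟩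
                            · have t := pc3 q24 c24.out (by have := v2.out; have := qn25.out; have := qn26.out; have := qn27.out; omega)
                              clear c24
                              rcases t with ⟨⟨⟨rfl, rfl⟩, gw24, ⟨rfl, rfl⟩⟩, rfl⟩ | ⟨⟨⟨rfl, rfl⟩, gw24, ⟨rfl, rfl⟩⟩, rfl⟩ | ⟨⟨⟨rfl, rfl⟩, gw24, ⟨rfl, rfl⟩⟩, rfl⟩ | ⟨⟨⟨rfl, rfl⟩, gw24, ⟨rfl, rfl⟩⟩, rfl⟩ | ⟨⟨⟨rfl, rfl⟩, gw24, ⟨rfl, rfl⟩⟩, rfl⟩ | ⟨⟨⟨rfl, rfl⟩, gw24, ⟨rfl, rfl⟩⟩, rfl⟩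
                              · have t := pc3 q25 c25.out (by have := v2.out; have := qn26.out; have := qn27.out; omega)
                                clear c25
                                rcases t with ⟨⟨⟨rfl, rfl⟩, gw25, ⟨rfl, rfl⟩⟩, rfl⟩ | ⟨⟨⟨rfl, rfl⟩, gw25, ⟨rfl, rfl⟩⟩, rfl⟩ | ⟨⟨⟨rfl, rfl⟩, gw25, ⟨rfl, rfl⟩⟩, rfl⟩ | ⟨⟨⟨rfl, rfl⟩, gw25, ⟨rfl, rfl⟩⟩, rfl⟩ | ⟨⟨⟨rfl, rfl⟩, gw25, ⟨rfl, rfl⟩⟩, rfl⟩ | ⟨⟨⟨rfl, rfl⟩, gw25, ⟨rfl, rfl⟩⟩, rfl⟩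
                                · have t := pc3 q26 c26.out (by have := v2.out; have := qn27.out; omega)
                                  clear c26
                                  rcases t with ⟨⟨⟨rfl, rfl⟩, gw26, ⟨rfl, rfl⟩⟩, rfl⟩ | ⟨⟨⟨rfl, rfl⟩, gw26, ⟨rfl, rfl⟩⟩, rfl⟩ | ⟨⟨⟨rfl, rfl⟩, gw26, ⟨rfl, rfl⟩⟩, rfl⟩ | ⟨⟨⟨rfl, rfl⟩, gw26, ⟨rfl, rfl⟩⟩, rfl⟩ | ⟨⟨⟨rfl, rfl⟩, gw26, ⟨rfl, rfl⟩⟩, rfl⟩ | ⟨⟨⟨rfl, rfl⟩, gw26, ⟨rfl, rfl⟩⟩, rfl⟩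
                                  · exact part43 T α27 α34 α35 α36 α37 α43 α45 α46 α47 α53 α54 α56 α57 α63 α64 α65 α67 α72 α73 α74 α75 α76 x27 x34 x35 x36 x37 x43 x45 x46 x47 x53 x54 x56 x57 x63 x64 x65 x67 x72 x73 x74 x75 x76 q27 q34 q35 q36 q37 q45 q46 q47 q56 q57 q67 hm0 hm1 hm2 hm3 hm4 hm5 hm6 hm7 om1 om2 om3 om4 om5 om6 om7 e0 e1 e2 e3 e4 e5 e6 e7 r01 r02 r03 r04 r05 r06 r07 r10 r12 r13 r14 r15 r16 r17 r20 r21 r23 r24 r25 r26 r27 r30 r31 r32 r34 r35 r36 r37 r40 r41 r42 r43 r45 r46 r47 r50 r51 r52 r53 r54 r56 r57 r60 r61 r62 r63 r64 r65 r67 r70 r71 r72 r73 r74 r75 r76 hw0 hw1 hw2 hw3 hw4 hw5 hw6 hw7 hs01 hs02 hs03 hs04 hs05 hs06 hs07 hs12 hs13 hs14 hs15 hs16 hs17 hs23 hs24 hs25 hs26 hs27 hs34 hs35 hs36 hs37 hs45 hs46 hs47 hs56 hs57 hs67 ha00 ha11 ha22 ha33 ha44 ha55 ha66 ha77 v0 v1 v2 v3 v4 v5 v6 v7 qn01 qn02 qn03 qn04 qn05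 qn06 qn07 qn12 qn13 qn14 qn15 qn16 qn17 qn23 qn24 qn25 qn26 qn27 qn34 qn35 qn36 qn37 qn45 qn46 qn47 qn56 qn57 qn67 od1 od2 od3 od4 od5 od6 od7 c27 c34 c35 c36 c37 c45 c46 c47 c56 c57 c67 gw01 gw02 gw03 gw04 gw05 gw06 gw07 gw12 gw13 gw14 gw15 gw16 gw17 gw23 gw24 gw25 gw26
                                  · exact part44 T α27 α34 α35 α36 α37 α43 α45 α46 α47 α53 α54 α56 α57 α63 α64 α65 α67 α72 α73 α74 α75 α76 x27 x34 x35 x36 x37 x43 x45 x46 x47 x53 x54 x56 x57 x63 x64 x65 x67 x72 x73 x74 x75 x76 q27 q34 q35 q36 q37 q45 q46 q47 q56 q57 q67 hm0 hm1 hm2 hm3 hm4 hm5 hm6 hm7 om1 om2 om3 om4 om5 om6 om7 e0 e1 e2 e3 e4 e5 e6 e7 r01 r02 r03 r04 r05 r06 r07 r10 r12 r13 r14 r15 r16 r17 r20 r21 r23 r24 r25 r26 r27 r30 r31 r32 r34 r35 r36 r37 r40 r41 r42 r43 r45 r46 r47 r50 r51 r52 r53 r54 r56 r57 r60 r61 r62 r63 r64 r65 r67 r70 r71 r72 r73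 r74 r75 r76 hw0 hw1 hw2 hw3 hw4 hw5 hw6 hw7 hs01 hs02 hs03 hs04 hs05 hs06 hs07 hs12 hs13 hs14 hs15 hs16 hs17 hs23 hs24 hs25 hs26 hs27 hs34 hs35 hs36 hs37 hs45 hs46 hs47 hs56 hs57 hs67 ha00 ha11 ha22 ha33 ha44 ha55 ha66 ha77 v0 v1 v2 v3 v4 v5 v6 v7 qn01 qn02 qn03 qn04 qn05 qn06 qn07 qn12 qn13 qn14 qn15 qn16 qn17 qn23 qn24 qn25 qn26 qn27 qn34 qn35 qn36 qn37 qn45 qn46 qn47 qn56 qn57 qn67 od1 od2 od3 od4 od5 od6 od7 c27 c34 c35 c36 c37 c45 c46 c47 c56 c57 c67 gw01 gw02 gw03 gw04 gw05 gw06 gw07 gw12 gw13 gw14 gw15 gw16 gw17 gw23 gw24 gw25 gw26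
                                  · exact part45 T α27 α34 α35 α36 α37 α43 α45 α46 α47 α53 α54 α56 α57 α63 α64 α65 α67 α72 α73 α74 α75 α76 x27 x34 x35 x36 x37 x43 x45 x46 x47 x53 x54 x56 x57 x63 x64 x65 x67 x72 x73 x74 x75 x76 q27 q34 q35 q36 q37 q45 q46 q47 q56 q57 q67 hm0 hm1 hm2 hm3 hm4 hm5 hm6 hm7 om1 om2 om3 om4 om5 om6 om7 e0 e1 e2 e3 e4 e5 e6 e7 r01 r02 r03 r04 r05 r06 r07 r10 r12 r13 r14 r15 r16 r17 r20 r21 r23 r24 r25 r26 r27 r30 r31 r32 r34 r35 r36 r37 r40 r41 r42 r43 r45 r46 r47 r50 r51 r52 r53 r54 r56 r57 r60 r61 r62 r63 r64 r65 r67 r70 r71 r72 r73 r74 r75 r76 hw0 hw1 hw2 hw3 hw4 hw5 hw6 hw7 hs01 hs02 hs03 hs04 hs05 hs06 hs07 hs12 hs13 hs14 hs15 hs16 hs17 hs23 hs24 hs25 hs26 hs27 hs34 hs35 hs36 hs37 hs45 hs46 hs47 hs56 hs57 hs67 ha00 ha11 ha22 ha33 ha44 ha55 ha66 ha77 v0 v1 v2 v3 v4 v5 v6 v7 qn01 qn02 qn03 qn04 qn05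 qn06 qn07 qn12 qn13 qn14 qn15 qn16 qn17 qn23 qn24 qn25 qn26 qn27 qn34 qn35 qn36 qn37 qn45 qn46 qn47 qn56 qn57 qn67 od1 od2 od3 od4 od5 od6 od7 c27 c34 c35 c36 c37 c45 c46 c47 c56 c57 c67 gw01 gw02 gw03 gw04 gw05 gw06 gw07 gw12 gw13 gw14 gw15 gw16 gw17 gw23 gw24 gw25 gw26
                                  · exact part46 T α27 α34 α35 α36 α37 α43 α45 α46 α47 α53 α54 α56 α57 α63 α64 α65 α67 α72 α73 α74 α75 α76 x27 x34 x35 x36 x37 x43 x45 x46 x47 x53 x54 x56 x57 x63 x64 x65 x67 x72 x73 x74 x75 x76 q27 q34 q35 q36 q37 q45 q46 q47 q56 q57 q67 hm0 hm1 hm2 hm3 hm4 hm5 hm6 hm7 om1 om2 om3 om4 om5 om6 om7 e0 e1 e2 e3 e4 e5 e6 e7 r01 r02 r03 r04 r05 r06 r07 r10 r12 r13 r14 r15 r16 r17 r20 r21 r23 r24 r25 r26 r27 r30 r31 r32 r34 r35 r36 r37 r40 r41 r42 r43 r45 r46 r47 r50 r51 r52 r53 r54 r56 r57 r60 r61 r62 r63 r64 r65 r67 r70 r71 r72 r73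 r74 r75 r76 hw0 hw1 hw2 hw3 hw4 hw5 hw6 hw7 hs01 hs02 hs03 hs04 hs05 hs06 hs07 hs12 hs13 hs14 hs15 hs16 hs17 hs23 hs24 hs25 hs26 hs27 hs34 hs35 hs36 hs37 hs45 hs46 hs47 hs56 hs57 hs67 ha00 ha11 ha22 ha33 ha44 ha55 ha66 ha77 v0 v1 v2 v3 v4 v5 v6 v7 qn01 qn02 qn03 qn04 qn05 qn06 qn07 qn12 qn13 qn14 qn15 qn16 qn17 qn23 qn24 qn25 qn26 qn27 qn34 qn35 qn36 qn37 qn45 qn46 qn47 qn56 qn57 qn67 od1 od2 od3 od4 od5 od6 od7 c27 c34 c35 c36 c37 c45 c46 c47 c56 c57 c67 gw01 gw02 gw03 gw04 gw05 gw06 gw07 gw12 gw13 gw14 gw15 gw16 gw17 gw23 gw24 gw25 gw26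
                                  · (have := hm0.out; have := om3.out; have := e1.out; have := e2.out; have := r27.out; have := e6.out; have := r63.out; have := r64.out; have := r65.out; have := r67.out; omega)
                                  · (have := hm0.out; have := om3.out; have := e1.out; have := e2.out; have := r27.out; have := e6.out; have := r63.out; have := r64.out; have := r65.out; have := r67.out; omega)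
                                · exact part47 T α26 α27 α34 α35 α36 α37 α43 α45 α46 α47 α53 α54 α56 α57 α62 α63 α64 α65 α67 α72 α73 α74 α75 α76 x26 x27 x34 x35 x36 x37 x43 x45 x46 x47 x53 x54 x56 x57 x62 x63 x64 x65 x67 x72 x73 x74 x75 x76 q26 q27 q34 q35 q36 q37 q45 q46 q47 q56 q57 q67 hm0 hm1 hm2 hm3 hm4 hm5 hm6 hm7 om1 om2 om3 om4 om5 om6 om7 e0 e1 e2 e3 e4 e5 e6 e7 r01 r02 r03 r04 r05 r06 r07 r10 r12 r13 r14 r15 r16 r17 r20 r21 r23 r24 r25 r26 r27 r30 r31 r32 r34 r35 r36 r37 r40 r41 r42 r43 r45 r46 r47 r50 r51 r52 r53 r54 r56 r57 r60 r61 r62 r63 r64 r65 r67 r70 r71 r72 r73 r74 r75 r76 hw0 hw1 hw2 hw3 hw4 hw5 hw6 hw7 hs01 hs02 hs03 hs04 hs05 hs06 hs07 hs12 hs13 hs14 hs15 hs16 hs17 hs23 hs24 hs25 hs26 hs27 hs34 hs35 hs36 hs37 hs45 hs46 hs47 hs56 hs57 hs67 ha00 ha11 ha22 ha33 ha44 ha55 ha66 ha77 v0 v1 v2 v3 v4 v5 v6 v7 qn01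 qn02 qn03 qn04 qn05 qn06 qn07 qn12 qn13 qn14 qn15 qn16 qn17 qn23 qn24 qn25 qn26 qn27 qn34 qn35 qn36 qn37 qn45 qn46 qn47 qn56 qn57 qn67 od1 od2 od3 od4 od5 od6 od7 c26 c27 c34 c35 c36 c37 c45 c46 c47 c56 c57 c67 gw01 gw02 gw03 gw04 gw05 gw06 gw07 gw12 gw13 gw14 gw15 gw16 gw17 gw23 gw24 gw25
                                · exact part48 T α26 α27 α34 α35 α36 α37 α43 α45 α46 α47 α53 α54 α56 α57 α62 α63 α64 α65 α67 α72 α73 α74 α75 α76 x26 x27 x34 x35 x36 x37 x43 x45 x46 x47 x53 x54 x56 x57 x62 x63 x64 x65 x67 x72 x73 x74 x75 x76 q26 q27 q34 q35 q36 q37 q45 q46 q47 q56 q57 q67 hm0 hm1 hm2 hm3 hm4 hm5 hm6 hm7 om1 om2 om3 om4 om5 om6 om7 e0 e1 e2 e3 e4 e5 e6 e7 r01 r02 r03 r04 r05 r06 r07 r10 r12 r13 r14 r15 r16 r17 r20 r21 r23 r24 r25 r26 r27 r30 r31 r32 r34 r35 r36 r37 r40 r41 r42 r43 r45 r46 r47 r50 r51 r52 r53 r54 r56 r57 r60 r61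 r62 r63 r64 r65 r67 r70 r71 r72 r73 r74 r75 r76 hw0 hw1 hw2 hw3 hw4 hw5 hw6 hw7 hs01 hs02 hs03 hs04 hs05 hs06 hs07 hs12 hs13 hs14 hs15 hs16 hs17 hs23 hs24 hs25 hs26 hs27 hs34 hs35 hs36 hs37 hs45 hs46 hs47 hs56 hs57 hs67 ha00 ha11 ha22 ha33 ha44 ha55 ha66 ha77 v0 v1 v2 v3 v4 v5 v6 v7 qn01 qn02 qn03 qn04 qn05 qn06 qn07 qn12 qn13 qn14 qn15 qn16 qn17 qn23 qn24 qn25 qn26 qn27 qn34 qn35 qn36 qn37 qn45 qn46 qn47 qn56 qn57 qn67 od1 od2 od3 od4 od5 od6 od7 c26 c27 c34 c35 c36 c37 c45 c46 c47 c56 c57 c67 gw01 gw02 gw03 gw04 gw05 gw06 gw07 gw12 gw13 gw14 gw15 gw16 gw17 gw23 gw24 gw25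
                                · exact part49 T α26 α27 α34 α35 α36 α37 α43 α45 α46 α47 α53 α54 α56 α57 α62 α63 α64 α65 α67 α72 α73 α74 α75 α76 x26 x27 x34 x35 x36 x37 x43 x45 x46 x47 x53 x54 x56 x57 x62 x63 x64 x65 x67 x72 x73 x74 x75 x76 q26 q27 q34 q35 q36 q37 q45 q46 q47 q56 q57 q67 hm0 hm1 hm2 hm3 hm4 hm5 hm6 hm7 om1 om2 om3 om4 om5 om6 om7 e0 e1 e2 e3 e4 e5 e6 e7 r01 r02 r03 r04 r05 r06 r07 r10 r12 r13 r14 r15 r16 r17 r20 r21 r23 r24 r25 r26 r27 r30 r31 r32 r34 r35 r36 r37 r40 r41 r42 r43 r45 r46 r47 r50 r51 r52 r53 r54 r56 r57 r60 r61 r62 r63 r64 r65 r67 r70 r71 r72 r73 r74 r75 r76 hw0 hw1 hw2 hw3 hw4 hw5 hw6 hw7 hs01 hs02 hs03 hs04 hs05 hs06 hs07 hs12 hs13 hs14 hs15 hs16 hs17 hs23 hs24 hs25 hs26 hs27 hs34 hs35 hs36 hs37 hs45 hs46 hs47 hs56 hs57 hs67 ha00 ha11 ha22 ha33 ha44 ha55 ha66 ha77 v0 v1 v2 v3 v4 v5 v6 v7 qn01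 qn02 qn03 qn04 qn05 qn06 qn07 qn12 qn13 qn14 qn15 qn16 qn17 qn23 qn24 qn25 qn26 qn27 qn34 qn35 qn36 qn37 qn45 qn46 qn47 qn56 qn57 qn67 od1 od2 od3 od4 od5 od6 od7 c26 c27 c34 c35 c36 c37 c45 c46 c47 c56 c57 c67 gw01 gw02 gw03 gw04 gw05 gw06 gw07 gw12 gw13 gw14 gw15 gw16 gw17 gw23 gw24 gw25
                                · (have := hm0.out; have := om3.out; have := e1.out; have := e2.out; have := r26.out; have := r27.out; have := e5.out; have := r53.out; have := r54.out; have := r56.out; have := r57.out; omega)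
                                · (have := hm0.out; have := om3.out; have := e1.out; have := e2.out; have := r26.out; have := r27.out; have := e5.out; have := r53.out; have := r54.out; have := r56.out; have := r57.out; omega)
                              · have t := pc2 q25 c25.out (by have := v2.out; have := qn26.out; have := qn27.out; omega)
                                clear c25
                                rcases t with ⟨⟨⟨rfl, rfl⟩, gw25, ⟨rfl, rfl⟩⟩, rfl⟩ | ⟨⟨⟨rfl, rfl⟩, gw25, ⟨rfl, rfl⟩⟩, rfl⟩ | ⟨⟨⟨rfl, rfl⟩, gw25, ⟨rfl, rfl⟩⟩, rfl⟩ | ⟨⟨⟨rfl, rfl⟩, gw25, ⟨rfl, rfl⟩⟩, rfl⟩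
                                · exact part50 T α26 α27 α34 α35 α36 α37 α43 α45 α46 α47 α53 α54 α56 α57 α62 α63 α64 α65 α67 α72 α73 α74 α75 α76 x26 x27 x34 x35 x36 x37 x43 x45 x46 x47 x53 x54 x56 x57 x62 x63 x64 x65 x67 x72 x73 x74 x75 x76 q26 q27 q34 q35 q36 q37 q45 q46 q47 q56 q57 q67 hm0 hm1 hm2 hm3 hm4 hm5 hm6 hm7 om1 om2 om3 om4 om5 om6 om7 e0 e1 e2 e3 e4 e5 e6 e7 r01 r02 r03 r04 r05 r06 r07 r10 r12 r13 r14 r15 r16 r17 r20 r21 r23 r24 r25 r26 r27 r30 r31 r32 r34 r35 r36 r37 r40 r41 r42 r43 r45 r46 r47 r50 r51 r52 r53 r54 r56 r57 r60 r61 r62 r63 r64 r65 r67 r70 r71 r72 r73 r74 r75 r76 hw0 hw1 hw2 hw3 hw4 hw5 hw6 hw7 hs01 hs02 hs03 hs04 hs05 hs06 hs07 hs12 hs13 hs14 hs15 hs16 hs17 hs23 hs24 hs25 hs26 hs27 hs34 hs35 hs36 hs37 hs45 hs46 hs47 hs56 hs57 hs67 ha00 ha11 ha22 ha33 ha44 ha55 ha66 ha77 v0 v1 v2 v3 v4 v5 v6 v7 qn01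 qn02 qn03 qn04 qn05 qn06 qn07 qn12 qn13 qn14 qn15 qn16 qn17 qn23 qn24 qn25 qn26 qn27 qn34 qn35 qn36 qn37 qn45 qn46 qn47 qn56 qn57 qn67 od1 od2 od3 od4 od5 od6 od7 c26 c27 c34 c35 c36 c37 c45 c46 c47 c56 c57 c67 gw01 gw02 gw03 gw04 gw05 gw06 gw07 gw12 gw13 gw14 gw15 gw16 gw17 gw23 gw24 gw25
                                · exact part51 T α26 α27 α34 α35 α36 α37 α43 α45 α46 α47 α53 α54 α56 α57 α62 α63 α64 α65 α67 α72 α73 α74 α75 α76 x26 x27 x34 x35 x36 x37 x43 x45 x46 x47 x53 x54 x56 x57 x62 x63 x64 x65 x67 x72 x73 x74 x75 x76 q26 q27 q34 q35 q36 q37 q45 q46 q47 q56 q57 q67 hm0 hm1 hm2 hm3 hm4 hm5 hm6 hm7 om1 om2 om3 om4 om5 om6 om7 e0 e1 e2 e3 e4 e5 e6 e7 r01 r02 r03 r04 r05 r06 r07 r10 r12 r13 r14 r15 r16 r17 r20 r21 r23 r24 r25 r26 r27 r30 r31 r32 r34 r35 r36 r37 r40 r41 r42 r43 r45 r46 r47 r50 r51 r52 r53 r54 r56 r57 r60 r61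 r62 r63 r64 r65 r67 r70 r71 r72 r73 r74 r75 r76 hw0 hw1 hw2 hw3 hw4 hw5 hw6 hw7 hs01 hs02 hs03 hs04 hs05 hs06 hs07 hs12 hs13 hs14 hs15 hs16 hs17 hs23 hs24 hs25 hs26 hs27 hs34 hs35 hs36 hs37 hs45 hs46 hs47 hs56 hs57 hs67 ha00 ha11 ha22 ha33 ha44 ha55 ha66 ha77 v0 v1 v2 v3 v4 v5 v6 v7 qn01 qn02 qn03 qn04 qn05 qn06 qn07 qn12 qn13 qn14 qn15 qn16 qn17 qn23 qn24 qn25 qn26 qn27 qn34 qn35 qn36 qn37 qn45 qn46 qn47 qn56 qn57 qn67 od1 od2 od3 od4 od5 od6 od7 c26 c27 c34 c35 c36 c37 c45 c46 c47 c56 c57 c67 gw01 gw02 gw03 gw04 gw05 gw06 gw07 gw12 gw13 gw14 gw15 gw16 gw17 gw23 gw24 gw25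
                                · (have := hm4.out; have := om3.out; have := e0.out; have := e1.out; have := e2.out; have := r26.out; have := r27.out; have := e5.out; have := r53.out; have := r54.out; have := r56.out; have := r57.out; omega)
                                · (have := hm4.out; have := om3.out; have := e0.out; have := e1.out; have := e2.out; have := r26.out; have := r27.out; have := e5.out; have := r53.out; have := r54.out; have := r56.out; have := r57.out; omega)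
                              · exact part52 T α25 α26 α27 α34 α35 α36 α37 α43 α45 α46 α47 α52 α53 α54 α56 α57 α62 α63 α64 α65 α67 α72 α73 α74 α75 α76 x25 x26 x27 x34 x35 x36 x37 x43 x45 x46 x47 x52 x53 x54 x56 x57 x62 x63 x64 x65 x67 x72 x73 x74 x75 x76 q25 q26 q27 q34 q35 q36 q37 q45 q46 q47 q56 q57 q67 hm0 hm1 hm2 hm3 hm4 hm5 hm6 hm7 om1 om2 om3 om4 om5 om6 om7 e0 e1 e2 e3 e4 e5 e6 e7 r01 r02 r03 r04 r05 r06 r07 r10 r12 r13 r14 r15 r16 r17 r20 r21 r23 r24 r25 r26 r27 r30 r31 r32 r34 r35 r36 r37 r40 r41 r42 r43 r45 r46 r47 r50 r51 r52 r53 r54 r56 r57 r60 r61 r62 r63 r64 r65 r67 r70 r71 r72 r73 r74 r75 r76 hw0 hw1 hw2 hw3 hw4 hw5 hw6 hw7 hs01 hs02 hs03 hs04 hs05 hs06 hs07 hs12 hs13 hs14 hs15 hs16 hs17 hs23 hs24 hs25 hs26 hs27 hs34 hs35 hs36 hs37 hs45 hs46 hs47 hs56 hs57 hs67 ha00 ha11 ha22 ha33 ha44 ha55 ha66 ha77 v0 v1 v2 v3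 v4 v5 v6 v7 qn01 qn02 qn03 qn04 qn05 qn06 qn07 qn12 qn13 qn14 qn15 qn16 qn17 qn23 qn24 qn25 qn26 qn27 qn34 qn35 qn36 qn37 qn45 qn46 qn47 qn56 qn57 qn67 od1 od2 od3 od4 od5 od6 od7 c25 c26 c27 c34 c35 c36 c37 c45 c46 c47 c56 c57 c67 gw01 gw02 gw03 gw04 gw05 gw06 gw07 gw12 gw13 gw14 gw15 gw16 gw17 gw23 gw24
                              · exact part53 T α25 α26 α27 α34 α35 α36 α37 α43 α45 α46 α47 α52 α53 α54 α56 α57 α62 α63 α64 α65 α67 α72 α73 α74 α75 α76 x25 x26 x27 x34 x35 x36 x37 x43 x45 x46 x47 x52 x53 x54 x56 x57 x62 x63 x64 x65 x67 x72 x73 x74 x75 x76 q25 q26 q27 q34 q35 q36 q37 q45 q46 q47 q56 q57 q67 hm0 hm1 hm2 hm3 hm4 hm5 hm6 hm7 om1 om2 om3 om4 om5 om6 om7 e0 e1 e2 e3 e4 e5 e6 e7 r01 r02 r03 r04 r05 r06 r07 r10 r12 r13 r14 r15 r16 r17 r20 r21 r23 r24 r25 r26 r27 r30 r31 r32 r34 r35 r36 r37 r40 r41 r42 r43 r45 r46 r47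 r50 r51 r52 r53 r54 r56 r57 r60 r61 r62 r63 r64 r65 r67 r70 r71 r72 r73 r74 r75 r76 hw0 hw1 hw2 hw3 hw4 hw5 hw6 hw7 hs01 hs02 hs03 hs04 hs05 hs06 hs07 hs12 hs13 hs14 hs15 hs16 hs17 hs23 hs24 hs25 hs26 hs27 hs34 hs35 hs36 hs37 hs45 hs46 hs47 hs56 hs57 hs67 ha00 ha11 ha22 ha33 ha44 ha55 ha66 ha77 v0 v1 v2 v3 v4 v5 v6 v7 qn01 qn02 qn03 qn04 qn05 qn06 qn07 qn12 qn13 qn14 qn15 qn16 qn17 qn23 qn24 qn25 qn26 qn27 qn34 qn35 qn36 qn37 qn45 qn46 qn47 qn56 qn57 qn67 od1 od2 od3 od4 od5 od6 od7 c25 c26 c27 c34 c35 c36 c37 c45 c46 c47 c56 c57 c67 gw01 gw02 gw03 gw04 gw05 gw06 gw07 gw12 gw13 gw14 gw15 gw16 gw17 gw23 gw24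
                              · (have := hm0.out; have := om3.out; have := e1.out; have := e2.out; have := r25.out; have := r26.out; have := r27.out; have := e4.out; have := r43.out; have := r45.out; have := r46.out; have := r47.out; omega)
                              · (have := hm0.out; have := om3.out; have := e1.out; have := e2.out; have := r25.out; have := r26.out; have := r27.out; have := e4.out; have := r43.out; have := r45.out; have := r46.out; have := r47.out; omega)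
                            · (have := hm0.out; have := e1.out; have := e2.out; have := r24.out; have := r25.out; have := r26.out; have := r27.out; have := e3.out; have := r34.out; have := r35.out; have := r36.out; have := r37.out; omega)
                            · (have := hm0.out; have := om2.out; have := e1.out; have := e2.out; have := r24.out; have := r25.out; have := r26.out; have := r27.out; have := e3.out; have := r34.out; have := r35.out; have := r36.out; have := r37.out; omega)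
                            · (have := hm2.out; have := e0.out; have := e1.out; have := e2.out; have := r24.out; have := r25.out; have := r26.out; have := r27.out; have := e3.out; have := r34.out; have := r35.out; have := r36.out; have := r37.out; omega)
                            · (have := hm0.out; have := hm1.out; have := e1.out; have := e2.out; have := r24.out; have := r25.out; have := r26.out; have := r27.out; have := e3.out; have := r34.out; have := r35.out; have := r36.out; have := r37.out; omega)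
                            · (have := hm0.out; have := hm1.out; have := e1.out; have := e2.out; have := r24.out; have := r25.out; have := r26.out; have := r27.out; have := e3.out; have := r34.out; have := r35.out; have := r36.out; have := r37.out; omega)
                          · exact part54 T α23 α24 α25 α26 α27 α32 α34 α35 α36 α37 α42 α43 α45 α46 α47 α52 α53 α54 α56 α57 α62 α63 α64 α65 α67 α72 α73 α74 α75 α76 x23 x24 x25 x26 x27 x32 x34 x35 x36 x37 x42 x43 x45 x46 x47 x52 x53 x54 x56 x57 x62 x63 x64 x65 x67 x72 x73 x74 x75 x76 q23 q24 q25 q26 q27 q34 q35 q36 q37 q45 q46 q47 q56 q57 q67 hm0 hm1 hm2 hm3 hm4 hm5 hm6 hm7 om1 om2 om3 om4 om5 om6 om7 e0 e1 e2 e3 e4 e5 e6 e7 r01 r02 r03 r04 r05 r06 r07 r10 r12 r13 r14 r15 r16 r17 r20 r21 r23 r24 r25 r26 r27 r30 r31 r32 r34 r35 r36 r37 r40 r41 r42 r43 r45 r46 r47 r50 r51 r52 r53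 r54 r56 r57 r60 r61 r62 r63 r64 r65 r67 r70 r71 r72 r73 r74 r75 r76 hw0 hw1 hw2 hw3 hw4 hw5 hw6 hw7 hs01 hs02 hs03 hs04 hs05 hs06 hs07 hs12 hs13 hs14 hs15 hs16 hs17 hs23 hs24 hs25 hs26 hs27 hs34 hs35 hs36 hs37 hs45 hs46 hs47 hs56 hs57 hs67 ha00 ha11 ha22 ha33 ha44 ha55 ha66 ha77 v0 v1 v2 v3 v4 v5 v6 v7 qn01 qn02 qn03 qn04 qn05 qn06 qn07 qn12 qn13 qn14 qn15 qn16 qn17 qn23 qn24 qn25 qn26 qn27 qn34 qn35 qn36 qn37 qn45 qn46 qn47 qn56 qn57 qn67 od1 od2 od3 od4 od5 od6 od7 c23 c24 c25 c26 c27 c34 c35 c36 c37 c45 c46 c47 c56 c57 c67 gw01 gw02 gw03 gw04 gw05 gw06 gw07 gw12 gw13 gw14 gw15 gw16 gw17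
                        · exact part55 T α17 α23 α24 α25 α26 α27 α32 α34 α35 α36 α37 α42 α43 α45 α46 α47 α52 α53 α54 α56 α57 α62 α63 α64 α65 α67 α71 α72 α73 α74 α75 α76 x17 x23 x24 x25 x26 x27 x32 x34 x35 x36 x37 x42 x43 x45 x46 x47 x52 x53 x54 x56 x57 x62 x63 x64 x65 x67 x71 x72 x73 x74 x75 x76 q17 q23 q24 q25 q26 q27 q34 q35 q36 q37 q45 q46 q47 q56 q57 q67 hm0 hm1 hm2 hm3 hm4 hm5 hm6 hm7 om1 om2 om3 om4 om5 om6 om7 e0 e1 e2 e3 e4 e5 e6 e7 r01 r02 r03 r04 r05 r06 r07 r10 r12 r13 r14 r15 r16 r17 r20 r21 r23 r24 r25 r26 r27 r30 r31 r32 r34 r35 r36 r37 r40 r41 r42 r43 r45 r46 r47 r50 r51 r52 r53 r54 r56 r57 r60 r61 r62 r63 r64 r65 r67 r70 r71 r72 r73 r74 r75 r76 hw0 hw1 hw2 hw3 hw4 hw5 hw6 hw7 hs01 hs02 hs03 hs04 hs05 hs06 hs07 hs12 hs13 hs14 hs15 hs16 hs17 hs23 hs24 hs25 hs26 hs27 hs34 hs35 hs36 hs37 hs45 hs46 hs47 hs56 hs57 hs67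 ha00 ha11 ha22 ha33 ha44 ha55 ha66 ha77 v0 v1 v2 v3 v4 v5 v6 v7 qn01 qn02 qn03 qn04 qn05 qn06 qn07 qn12 qn13 qn14 qn15 qn16 qn17 qn23 qn24 qn25 qn26 qn27 qn34 qn35 qn36 qn37 qn45 qn46 qn47 qn56 qn57 qn67 od1 od2 od3 od4 od5 od6 od7 c17 c23 c24 c25 c26 c27 c34 c35 c36 c37 c45 c46 c47 c56 c57 c67 gw01 gw02 gw03 gw04 gw05 gw06 gw07 gw12 gw13 gw14 gw15 gw16
                      · exact part56 T α16 α17 α23 α24 α25 α26 α27 α32 α34 α35 α36 α37 α42 α43 α45 α46 α47 α52 α53 α54 α56 α57 α61 α62 α63 α64 α65 α67 α71 α72 α73 α74 α75 α76 x16 x17 x23 x24 x25 x26 x27 x32 x34 x35 x36 x37 x42 x43 x45 x46 x47 x52 x53 x54 x56 x57 x61 x62 x63 x64 x65 x67 x71 x72 x73 x74 x75 x76 q16 q17 q23 q24 q25 q26 q27 q34 q35 q36 q37 q45 q46 q47 q56 q57 q67 hm0 hm1 hm2 hm3 hm4 hm5 hm6 hm7 om1 om2 om3 om4 om5 om6 om7 e0 e1 e2 e3 e4 e5 e6 e7 r01 r02 r03 r04 r05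 r06 r07 r10 r12 r13 r14 r15 r16 r17 r20 r21 r23 r24 r25 r26 r27 r30 r31 r32 r34 r35 r36 r37 r40 r41 r42 r43 r45 r46 r47 r50 r51 r52 r53 r54 r56 r57 r60 r61 r62 r63 r64 r65 r67 r70 r71 r72 r73 r74 r75 r76 hw0 hw1 hw2 hw3 hw4 hw5 hw6 hw7 hs01 hs02 hs03 hs04 hs05 hs06 hs07 hs12 hs13 hs14 hs15 hs16 hs17 hs23 hs24 hs25 hs26 hs27 hs34 hs35 hs36 hs37 hs45 hs46 hs47 hs56 hs57 hs67 ha00 ha11 ha22 ha33 ha44 ha55 ha66 ha77 v0 v1 v2 v3 v4 v5 v6 v7 qn01 qn02 qn03 qn04 qn05 qn06 qn07 qn12 qn13 qn14 qn15 qn16 qn17 qn23 qn24 qn25 qn26 qn27 qn34 qn35 qn36 qn37 qn45 qn46 qn47 qn56 qn57 qn67 od1 od2 od3 od4 od5 od6 od7 c16 c17 c23 c24 c25 c26 c27 c34 c35 c36 c37 c45 c46 c47 c56 c57 c67 gw01 gw02 gw03 gw04 gw05 gw06 gw07 gw12 gw13 gw14 gw15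
                    · exact part57 T α15 α16 α17 α23 α24 α25 α26 α27 α32 α34 α35 α36 α37 α42 α43 α45 α46 α47 α51 α52 α53 α54 α56 α57 α61 α62 α63 α64 α65 α67 α71 α72 α73 α74 α75 α76 x15 x16 x17 x23 x24 x25 x26 x27 x32 x34 x35 x36 x37 x42 x43 x45 x46 x47 x51 x52 x53 x54 x56 x57 x61 x62 x63 x64 x65 x67 x71 x72 x73 x74 x75 x76 q15 q16 q17 q23 q24 q25 q26 q27 q34 q35 q36 q37 q45 q46 q47 q56 q57 q67 hm0 hm1 hm2 hm3 hm4 hm5 hm6 hm7 om1 om2 om3 om4 om5 om6 om7 e0 e1 e2 e3 e4 e5 e6 e7 r01 r02 r03 r04 r05 r06 r07 r10 r12 r13 r14 r15 r16 r17 r20 r21 r23 r24 r25 r26 r27 r30 r31 r32 r34 r35 r36 r37 r40 r41 r42 r43 r45 r46 r47 r50 r51 r52 r53 r54 r56 r57 r60 r61 r62 r63 r64 r65 r67 r70 r71 r72 r73 r74 r75 r76 hw0 hw1 hw2 hw3 hw4 hw5 hw6 hw7 hs01 hs02 hs03 hs04 hs05 hs06 hs07 hs12 hs13 hs14 hs15 hs16 hs17 hs23 hs24 hs25 hs26 hs27 hs34 hs35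 hs36 hs37 hs45 hs46 hs47 hs56 hs57 hs67 ha00 ha11 ha22 ha33 ha44 ha55 ha66 ha77 v0 v1 v2 v3 v4 v5 v6 v7 qn01 qn02 qn03 qn04 qn05 qn06 qn07 qn12 qn13 qn14 qn15 qn16 qn17 qn23 qn24 qn25 qn26 qn27 qn34 qn35 qn36 qn37 qn45 qn46 qn47 qn56 qn57 qn67 od1 od2 od3 od4 od5 od6 od7 c15 c16 c17 c23 c24 c25 c26 c27 c34 c35 c36 c37 c45 c46 c47 c56 c57 c67 gw01 gw02 gw03 gw04 gw05 gw06 gw07 gw12 gw13 gw14
                  · exact part58 T α14 α15 α16 α17 α23 α24 α25 α26 α27 α32 α34 α35 α36 α37 α41 α42 α43 α45 α46 α47 α51 α52 α53 α54 α56 α57 α61 α62 α63 α64 α65 α67 α71 α72 α73 α74 α75 α76 x14 x15 x16 x17 x23 x24 x25 x26 x27 x32 x34 x35 x36 x37 x41 x42 x43 x45 x46 x47 x51 x52 x53 x54 x56 x57 x61 x62 x63 x64 x65 x67 x71 x72 x73 x74 x75 x76 q14 q15 q16 q17 q23 q24 q25 q26 q27 q34 q35 q36 q37 q45 q46 q47 q56 q57 q67 hm0 hm1 hm2 hm3 hm4 hm5 hm6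 hm7 om1 om2 om3 om4 om5 om6 om7 e0 e1 e2 e3 e4 e5 e6 e7 r01 r02 r03 r04 r05 r06 r07 r10 r12 r13 r14 r15 r16 r17 r20 r21 r23 r24 r25 r26 r27 r30 r31 r32 r34 r35 r36 r37 r40 r41 r42 r43 r45 r46 r47 r50 r51 r52 r53 r54 r56 r57 r60 r61 r62 r63 r64 r65 r67 r70 r71 r72 r73 r74 r75 r76 hw0 hw1 hw2 hw3 hw4 hw5 hw6 hw7 hs01 hs02 hs03 hs04 hs05 hs06 hs07 hs12 hs13 hs14 hs15 hs16 hs17 hs23 hs24 hs25 hs26 hs27 hs34 hs35 hs36 hs37 hs45 hs46 hs47 hs56 hs57 hs67 ha00 ha11 ha22 ha33 ha44 ha55 ha66 ha77 v0 v1 v2 v3 v4 v5 v6 v7 qn01 qn02 qn03 qn04 qn05 qn06 qn07 qn12 qn13 qn14 qn15 qn16 qn17 qn23 qn24 qn25 qn26 qn27 qn34 qn35 qn36 qn37 qn45 qn46 qn47 qn56 qn57 qn67 od1 od2 od3 od4 od5 od6 od7 c14 c15 c16 c17 c23 c24 c25 c26 c27 c34 c35 c36 c37 c45 c46 c47 c56 c57 c67 gw01 gw02 gw03 gw04 gw05 gw06 gw07 gw12 gw13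
                  · exact part59 T α14 α15 α16 α17 α23 α24 α25 α26 α27 α32 α34 α35 α36 α37 α41 α42 α43 α45 α46 α47 α51 α52 α53 α54 α56 α57 α61 α62 α63 α64 α65 α67 α71 α72 α73 α74 α75 α76 x14 x15 x16 x17 x23 x24 x25 x26 x27 x32 x34 x35 x36 x37 x41 x42 x43 x45 x46 x47 x51 x52 x53 x54 x56 x57 x61 x62 x63 x64 x65 x67 x71 x72 x73 x74 x75 x76 q14 q15 q16 q17 q23 q24 q25 q26 q27 q34 q35 q36 q37 q45 q46 q47 q56 q57 q67 hm0 hm1 hm2 hm3 hm4 hm5 hm6 hm7 om1 om2 om3 om4 om5 om6 om7 e0 e1 e2 e3 e4 e5 e6 e7 r01 r02 r03 r04 r05 r06 r07 r10 r12 r13 r14 r15 r16 r17 r20 r21 r23 r24 r25 r26 r27 r30 r31 r32 r34 r35 r36 r37 r40 r41 r42 r43 r45 r46 r47 r50 r51 r52 r53 r54 r56 r57 r60 r61 r62 r63 r64 r65 r67 r70 r71 r72 r73 r74 r75 r76 hw0 hw1 hw2 hw3 hw4 hw5 hw6 hw7 hs01 hs02 hs03 hs04 hs05 hs06 hs07 hs12 hs13 hs14 hs15 hs16 hs17 hs23 hs24 hs25 hs26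 hs27 hs34 hs35 hs36 hs37 hs45 hs46 hs47 hs56 hs57 hs67 ha00 ha11 ha22 ha33 ha44 ha55 ha66 ha77 v0 v1 v2 v3 v4 v5 v6 v7 qn01 qn02 qn03 qn04 qn05 qn06 qn07 qn12 qn13 qn14 qn15 qn16 qn17 qn23 qn24 qn25 qn26 qn27 qn34 qn35 qn36 qn37 qn45 qn46 qn47 qn56 qn57 qn67 od1 od2 od3 od4 od5 od6 od7 c14 c15 c16 c17 c23 c24 c25 c26 c27 c34 c35 c36 c37 c45 c46 c47 c56 c57 c67 gw01 gw02 gw03 gw04 gw05 gw06 gw07 gw12 gw13
                · exact part60 T α13 α14 α15 α16 α17 α23 α24 α25 α26 α27 α31 α32 α34 α35 α36 α37 α41 α42 α43 α45 α46 α47 α51 α52 α53 α54 α56 α57 α61 α62 α63 α64 α65 α67 α71 α72 α73 α74 α75 α76 x13 x14 x15 x16 x17 x23 x24 x25 x26 x27 x31 x32 x34 x35 x36 x37 x41 x42 x43 x45 x46 x47 x51 x52 x53 x54 x56 x57 x61 x62 x63 x64 x65 x67 x71 x72 x73 x74 x75 x76 q13 q14 q15 q16 q17 q23 q24 q25 q26 q27 q34 q35 q36 q37 q45 q46 q47 q56 q57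 q67 hm0 hm1 hm2 hm3 hm4 hm5 hm6 hm7 om1 om2 om3 om4 om5 om6 om7 e0 e1 e2 e3 e4 e5 e6 e7 r01 r02 r03 r04 r05 r06 r07 r10 r12 r13 r14 r15 r16 r17 r20 r21 r23 r24 r25 r26 r27 r30 r31 r32 r34 r35 r36 r37 r40 r41 r42 r43 r45 r46 r47 r50 r51 r52 r53 r54 r56 r57 r60 r61 r62 r63 r64 r65 r67 r70 r71 r72 r73 r74 r75 r76 hw0 hw1 hw2 hw3 hw4 hw5 hw6 hw7 hs01 hs02 hs03 hs04 hs05 hs06 hs07 hs12 hs13 hs14 hs15 hs16 hs17 hs23 hs24 hs25 hs26 hs27 hs34 hs35 hs36 hs37 hs45 hs46 hs47 hs56 hs57 hs67 ha00 ha11 ha22 ha33 ha44 ha55 ha66 ha77 v0 v1 v2 v3 v4 v5 v6 v7 qn01 qn02 qn03 qn04 qn05 qn06 qn07 qn12 qn13 qn14 qn15 qn16 qn17 qn23 qn24 qn25 qn26 qn27 qn34 qn35 qn36 qn37 qn45 qn46 qn47 qn56 qn57 qn67 od1 od2 od3 od4 od5 od6 od7 c13 c14 c15 c16 c17 c23 c24 c25 c26 c27 c34 c35 c36 c37 c45 c46 c47 c56 c57 c67 gw01 gw02 gw03 gw04 gw05 gw06 gw07 gw12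
                · exact part61 T α13 α14 α15 α16 α17 α23 α24 α25 α26 α27 α31 α32 α34 α35 α36 α37 α41 α42 α43 α45 α46 α47 α51 α52 α53 α54 α56 α57 α61 α62 α63 α64 α65 α67 α71 α72 α73 α74 α75 α76 x13 x14 x15 x16 x17 x23 x24 x25 x26 x27 x31 x32 x34 x35 x36 x37 x41 x42 x43 x45 x46 x47 x51 x52 x53 x54 x56 x57 x61 x62 x63 x64 x65 x67 x71 x72 x73 x74 x75 x76 q13 q14 q15 q16 q17 q23 q24 q25 q26 q27 q34 q35 q36 q37 q45 q46 q47 q56 q57 q67 hm0 hm1 hm2 hm3 hm4 hm5 hm6 hm7 om1 om2 om3 om4 om5 om6 om7 e0 e1 e2 e3 e4 e5 e6 e7 r01 r02 r03 r04 r05 r06 r07 r10 r12 r13 r14 r15 r16 r17 r20 r21 r23 r24 r25 r26 r27 r30 r31 r32 r34 r35 r36 r37 r40 r41 r42 r43 r45 r46 r47 r50 r51 r52 r53 r54 r56 r57 r60 r61 r62 r63 r64 r65 r67 r70 r71 r72 r73 r74 r75 r76 hw0 hw1 hw2 hw3 hw4 hw5 hw6 hw7 hs01 hs02 hs03 hs04 hs05 hs06 hs07 hs12 hs13 hs14 hs15 hs16 hs17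 hs23 hs24 hs25 hs26 hs27 hs34 hs35 hs36 hs37 hs45 hs46 hs47 hs56 hs57 hs67 ha00 ha11 ha22 ha33 ha44 ha55 ha66 ha77 v0 v1 v2 v3 v4 v5 v6 v7 qn01 qn02 qn03 qn04 qn05 qn06 qn07 qn12 qn13 qn14 qn15 qn16 qn17 qn23 qn24 qn25 qn26 qn27 qn34 qn35 qn36 qn37 qn45 qn46 qn47 qn56 qn57 qn67 od1 od2 od3 od4 od5 od6 od7 c13 c14 c15 c16 c17 c23 c24 c25 c26 c27 c34 c35 c36 c37 c45 c46 c47 c56 c57 c67 gw01 gw02 gw03 gw04 gw05 gw06 gw07 gw12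
                · exact part62 T α13 α14 α15 α16 α17 α23 α24 α25 α26 α27 α31 α32 α34 α35 α36 α37 α41 α42 α43 α45 α46 α47 α51 α52 α53 α54 α56 α57 α61 α62 α63 α64 α65 α67 α71 α72 α73 α74 α75 α76 x13 x14 x15 x16 x17 x23 x24 x25 x26 x27 x31 x32 x34 x35 x36 x37 x41 x42 x43 x45 x46 x47 x51 x52 x53 x54 x56 x57 x61 x62 x63 x64 x65 x67 x71 x72 x73 x74 x75 x76 q13 q14 q15 q16 q17 q23 q24 q25 q26 q27 q34 q35 q36 q37 q45 q46 q47 q56 q57 q67 hm0 hm1 hm2 hm3 hm4 hm5 hm6 hm7 om1 om2 om3 om4 om5 om6 om7 e0 e1 e2 e3 e4 e5 e6 e7 r01 r02 r03 r04 r05 r06 r07 r10 r12 r13 r14 r15 r16 r17 r20 r21 r23 r24 r25 r26 r27 r30 r31 r32 r34 r35 r36 r37 r40 r41 r42 r43 r45 r46 r47 r50 r51 r52 r53 r54 r56 r57 r60 r61 r62 r63 r64 r65 r67 r70 r71 r72 r73 r74 r75 r76 hw0 hw1 hw2 hw3 hw4 hw5 hw6 hw7 hs01 hs02 hs03 hs04 hs05 hs06 hs07 hs12 hs13 hs14 hs15 hs16 hs17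 hs23 hs24 hs25 hs26 hs27 hs34 hs35 hs36 hs37 hs45 hs46 hs47 hs56 hs57 hs67 ha00 ha11 ha22 ha33 ha44 ha55 ha66 ha77 v0 v1 v2 v3 v4 v5 v6 v7 qn01 qn02 qn03 qn04 qn05 qn06 qn07 qn12 qn13 qn14 qn15 qn16 qn17 qn23 qn24 qn25 qn26 qn27 qn34 qn35 qn36 qn37 qn45 qn46 qn47 qn56 qn57 qn67 od1 od2 od3 od4 od5 od6 od7 c13 c14 c15 c16 c17 c23 c24 c25 c26 c27 c34 c35 c36 c37 c45 c46 c47 c56 c57 c67 gw01 gw02 gw03 gw04 gw05 gw06 gw07 gw12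
                · exact part63 T α13 α14 α15 α16 α17 α23 α24 α25 α26 α27 α31 α32 α34 α35 α36 α37 α41 α42 α43 α45 α46 α47 α51 α52 α53 α54 α56 α57 α61 α62 α63 α64 α65 α67 α71 α72 α73 α74 α75 α76 x13 x14 x15 x16 x17 x23 x24 x25 x26 x27 x31 x32 x34 x35 x36 x37 x41 x42 x43 x45 x46 x47 x51 x52 x53 x54 x56 x57 x61 x62 x63 x64 x65 x67 x71 x72 x73 x74 x75 x76 q13 q14 q15 q16 q17 q23 q24 q25 q26 q27 q34 q35 q36 q37 q45 q46 q47 q56 q57 q67 hm0 hm1 hm2 hm3 hm4 hm5 hm6 hm7 om1 om2 om3 om4 om5 om6 om7 e0 e1 e2 e3 e4 e5 e6 e7 r01 r02 r03 r04 r05 r06 r07 r10 r12 r13 r14 r15 r16 r17 r20 r21 r23 r24 r25 r26 r27 r30 r31 r32 r34 r35 r36 r37 r40 r41 r42 r43 r45 r46 r47 r50 r51 r52 r53 r54 r56 r57 r60 r61 r62 r63 r64 r65 r67 r70 r71 r72 r73 r74 r75 r76 hw0 hw1 hw2 hw3 hw4 hw5 hw6 hw7 hs01 hs02 hs03 hs04 hs05 hs06 hs07 hs12 hs13 hs14 hs15 hs16 hs17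 hs23 hs24 hs25 hs26 hs27 hs34 hs35 hs36 hs37 hs45 hs46 hs47 hs56 hs57 hs67 ha00 ha11 ha22 ha33 ha44 ha55 ha66 ha77 v0 v1 v2 v3 v4 v5 v6 v7 qn01 qn02 qn03 qn04 qn05 qn06 qn07 qn12 qn13 qn14 qn15 qn16 qn17 qn23 qn24 qn25 qn26 qn27 qn34 qn35 qn36 qn37 qn45 qn46 qn47 qn56 qn57 qn67 od1 od2 od3 od4 od5 od6 od7 c13 c14 c15 c16 c17 c23 c24 c25 c26 c27 c34 c35 c36 c37 c45 c46 c47 c56 c57 c67 gw01 gw02 gw03 gw04 gw05 gw06 gw07 gw12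
              · exact part64 T α12 α13 α14 α15 α16 α17 α21 α23 α24 α25 α26 α27 α31 α32 α34 α35 α36 α37 α41 α42 α43 α45 α46 α47 α51 α52 α53 α54 α56 α57 α61 α62 α63 α64 α65 α67 α71 α72 α73 α74 α75 α76 x12 x13 x14 x15 x16 x17 x21 x23 x24 x25 x26 x27 x31 x32 x34 x35 x36 x37 x41 x42 x43 x45 x46 x47 x51 x52 x53 x54 x56 x57 x61 x62 x63 x64 x65 x67 x71 x72 x73 x74 x75 x76 q12 q13 q14 q15 q16 q17 q23 q24 q25 q26 q27 q34 q35 q36 q37 q45 q46 q47 q56 q57 q67 hm0 hm1 hm2 hm3 hm4 hm5 hm6 hm7 om1 om2 om3 om4 om5 om6 om7 e0 e1 e2 e3 e4 e5 e6 e7 r01 r02 r03 r04 r05 r06 r07 r10 r12 r13 r14 r15 r16 r17 r20 r21 r23 r24 r25 r26 r27 r30 r31 r32 r34 r35 r36 r37 r40 r41 r42 r43 r45 r46 r47 r50 r51 r52 r53 r54 r56 r57 r60 r61 r62 r63 r64 r65 r67 r70 r71 r72 r73 r74 r75 r76 hw0 hw1 hw2 hw3 hw4 hw5 hw6 hw7 hs01 hs02 hs03 hs04 hs05 hs06 hs07 hs12 hs13 hs14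 hs15 hs16 hs17 hs23 hs24 hs25 hs26 hs27 hs34 hs35 hs36 hs37 hs45 hs46 hs47 hs56 hs57 hs67 ha00 ha11 ha22 ha33 ha44 ha55 ha66 ha77 v0 v1 v2 v3 v4 v5 v6 v7 qn01 qn02 qn03 qn04 qn05 qn06 qn07 qn12 qn13 qn14 qn15 qn16 qn17 qn23 qn24 qn25 qn26 qn27 qn34 qn35 qn36 qn37 qn45 qn46 qn47 qn56 qn57 qn67 od1 od2 od3 od4 od5 od6 od7 c12 c13 c14 c15 c16 c17 c23 c24 c25 c26 c27 c34 c35 c36 c37 c45 c46 c47 c56 c57 c67 gw01 gw02 gw03 gw04 gw05 gw06 gw07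
              · exact part65 T α12 α13 α14 α15 α16 α17 α21 α23 α24 α25 α26 α27 α31 α32 α34 α35 α36 α37 α41 α42 α43 α45 α46 α47 α51 α52 α53 α54 α56 α57 α61 α62 α63 α64 α65 α67 α71 α72 α73 α74 α75 α76 x12 x13 x14 x15 x16 x17 x21 x23 x24 x25 x26 x27 x31 x32 x34 x35 x36 x37 x41 x42 x43 x45 x46 x47 x51 x52 x53 x54 x56 x57 x61 x62 x63 x64 x65 x67 x71 x72 x73 x74 x75 x76 q12 q13 q14 q15 q16 q17 q23 q24 q25 q26 q27 q34 q35 q36 q37 q45 q46 q47 q56 q57 q67 hm0 hm1 hm2 hm3 hm4 hm5 hm6 hm7 om1 om2 om3 om4 om5 om6 om7 e0 e1 e2 e3 e4 e5 e6 e7 r01 r02 r03 r04 r05 r06 r07 r10 r12 r13 r14 r15 r16 r17 r20 r21 r23 r24 r25 r26 r27 r30 r31 r32 r34 r35 r36 r37 r40 r41 r42 r43 r45 r46 r47 r50 r51 r52 r53 r54 r56 r57 r60 r61 r62 r63 r64 r65 r67 r70 r71 r72 r73 r74 r75 r76 hw0 hw1 hw2 hw3 hw4 hw5 hw6 hw7 hs01 hs02 hs03 hs04 hs05 hs06 hs07 hs12 hs13 hs14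 hs15 hs16 hs17 hs23 hs24 hs25 hs26 hs27 hs34 hs35 hs36 hs37 hs45 hs46 hs47 hs56 hs57 hs67 ha00 ha11 ha22 ha33 ha44 ha55 ha66 ha77 v0 v1 v2 v3 v4 v5 v6 v7 qn01 qn02 qn03 qn04 qn05 qn06 qn07 qn12 qn13 qn14 qn15 qn16 qn17 qn23 qn24 qn25 qn26 qn27 qn34 qn35 qn36 qn37 qn45 qn46 qn47 qn56 qn57 qn67 od1 od2 od3 od4 od5 od6 od7 c12 c13 c14 c15 c16 c17 c23 c24 c25 c26 c27 c34 c35 c36 c37 c45 c46 c47 c56 c57 c67 gw01 gw02 gw03 gw04 gw05 gw06 gw07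
              · (have := hm1.out; have := om7.out; have := e0.out; omega)
              · (have := hm7.out; have := om1.out; have := e0.out; have := e7.out; have := r71.out; have := r72.out; have := r73.out; have := r74.out; have := r75.out; have := r76.out; omega)
              · (have := hm7.out; have := om1.out; have := om7.out; have := e0.out; omega)
            · exact part66 T α07 α12 α13 α14 α15 α16 α17 α21 α23 α24 α25 α26 α27 α31 α32 α34 α35 α36 α37 α41 α42 α43 α45 α46 α47 α51 α52 α53 α54 α56 α57 α61 α62 α63 α64 α65 α67 α70 α71 α72 α73 α74 α75 α76 x07 x12 x13 x14 x15 x16 x17 x21 x23 x24 x25 x26 x27 x31 x32 x34 x35 x36 x37 x41 x42 x43 x45 x46 x47 x51 x52 x53 x54 x56 x57 x61 x62 x63 x64 x65 x67 x70 x71 x72 x73 x74 x75 x76 q07 q12 q13 q14 q15 q16 q17 q23 q24 q25 q26 q27 q34 q35 q36 q37 q45 q46 q47 q56 q57 q67 hm0 hm1 hm2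 hm3 hm4 hm5 hm6 hm7 om1 om2 om3 om4 om5 om6 om7 e0 e1 e2 e3 e4 e5 e6 e7 r01 r02 r03 r04 r05 r06 r07 r10 r12 r13 r14 r15 r16 r17 r20 r21 r23 r24 r25 r26 r27 r30 r31 r32 r34 r35 r36 r37 r40 r41 r42 r43 r45 r46 r47 r50 r51 r52 r53 r54 r56 r57 r60 r61 r62 r63 r64 r65 r67 r70 r71 r72 r73 r74 r75 r76 hw0 hw1 hw2 hw3 hw4 hw5 hw6 hw7 hs01 hs02 hs03 hs04 hs05 hs06 hs07 hs12 hs13 hs14 hs15 hs16 hs17 hs23 hs24 hs25 hs26 hs27 hs34 hs35 hs36 hs37 hs45 hs46 hs47 hs56 hs57 hs67 ha00 ha11 ha22 ha33 ha44 ha55 ha66 ha77 v0 v1 v2 v3 v4 v5 v6 v7 qn01 qn02 qn03 qn04 qn05 qn06 qn07 qn12 qn13 qn14 qn15 qn16 qn17 qn23 qn24 qn25 qn26 qn27 qn34 qn35 qn36 qn37 qn45 qn46 qn47 qn56 qn57 qn67 od1 od2 od3 od4 od5 od6 od7 c07 c12 c13 c14 c15 c16 c17 c23 c24 c25 c26 c27 c34 c35 c36 c37 c45 c46 c47 c56 c57 c67 gw01 gw02 gw03 gw04 gw05 gw06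
            · exact part67 T α07 α12 α13 α14 α15 α16 α17 α21 α23 α24 α25 α26 α27 α31 α32 α34 α35 α36 α37 α41 α42 α43 α45 α46 α47 α51 α52 α53 α54 α56 α57 α61 α62 α63 α64 α65 α67 α70 α71 α72 α73 α74 α75 α76 x07 x12 x13 x14 x15 x16 x17 x21 x23 x24 x25 x26 x27 x31 x32 x34 x35 x36 x37 x41 x42 x43 x45 x46 x47 x51 x52 x53 x54 x56 x57 x61 x62 x63 x64 x65 x67 x70 x71 x72 x73 x74 x75 x76 q07 q12 q13 q14 q15 q16 q17 q23 q24 q25 q26 q27 q34 q35 q36 q37 q45 q46 q47 q56 q57 q67 hm0 hm1 hm2 hm3 hm4 hm5 hm6 hm7 om1 om2 om3 om4 om5 om6 om7 e0 e1 e2 e3 e4 e5 e6 e7 r01 r02 r03 r04 r05 r06 r07 r10 r12 r13 r14 r15 r16 r17 r20 r21 r23 r24 r25 r26 r27 r30 r31 r32 r34 r35 r36 r37 r40 r41 r42 r43 r45 r46 r47 r50 r51 r52 r53 r54 r56 r57 r60 r61 r62 r63 r64 r65 r67 r70 r71 r72 r73 r74 r75 r76 hw0 hw1 hw2 hw3 hw4 hw5 hw6 hw7 hs01 hs02 hs03 hs04 hs05 hs06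 hs07 hs12 hs13 hs14 hs15 hs16 hs17 hs23 hs24 hs25 hs26 hs27 hs34 hs35 hs36 hs37 hs45 hs46 hs47 hs56 hs57 hs67 ha00 ha11 ha22 ha33 ha44 ha55 ha66 ha77 v0 v1 v2 v3 v4 v5 v6 v7 qn01 qn02 qn03 qn04 qn05 qn06 qn07 qn12 qn13 qn14 qn15 qn16 qn17 qn23 qn24 qn25 qn26 qn27 qn34 qn35 qn36 qn37 qn45 qn46 qn47 qn56 qn57 qn67 od1 od2 od3 od4 od5 od6 od7 c07 c12 c13 c14 c15 c16 c17 c23 c24 c25 c26 c27 c34 c35 c36 c37 c45 c46 c47 c56 c57 c67 gw01 gw02 gw03 gw04 gw05 gw06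
            · (have := hm1.out; have := om6.out; have := e0.out; have := r07.out; omega)
            · (have := hm6.out; have := om1.out; have := e0.out; have := r07.out; have := e6.out; have := r61.out; have := r62.out; have := r63.out; have := r64.out; have := r65.out; have := r67.out; omega)
            · (have := hm6.out; have := om1.out; have := om6.out; have := e0.out; have := r07.out; omega)
          · have t := pc2 q06 c06.out (by have := v0.out; have := qn07.out; omega)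
            clear c06
            rcases t with ⟨⟨⟨rfl, rfl⟩, gw06, ⟨rfl, rfl⟩⟩, rfl⟩ | ⟨⟨⟨rfl, rfl⟩, gw06, ⟨rfl, rfl⟩⟩, rfl⟩ | ⟨⟨⟨rfl, rfl⟩, gw06, ⟨rfl, rfl⟩⟩, rfl⟩ | ⟨⟨⟨rfl, rfl⟩, gw06, ⟨rfl, rfl⟩⟩, rfl⟩
            · have t := pc2 q07 c07.out (by have := v0.out; omega)
              clear c07
              rcases t with ⟨⟨⟨rfl, rfl⟩, gw07, ⟨rfl, rfl⟩⟩, rfl⟩ | ⟨⟨⟨rfl, rfl⟩, gw07, ⟨rfl, rfl⟩⟩, rfl⟩ | ⟨⟨⟨rfl, rfl⟩, gw07, ⟨rfl, rfl⟩⟩, rfl⟩ | ⟨⟨⟨rfl, rfl⟩, gw07, ⟨rfl, rfl⟩⟩, rfl⟩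
              · have t := pc3 q12 c12.out (by have := v1.out; have := qn13.out; have := qn14.out; have := qn15.out; have := qn16.out; have := qn17.out; omega)
                clear c12
                rcases t with ⟨⟨⟨rfl, rfl⟩, gw12, ⟨rfl, rfl⟩⟩, rfl⟩ | ⟨⟨⟨rfl, rfl⟩, gw12, ⟨rfl, rfl⟩⟩, rfl⟩ | ⟨⟨⟨rfl, rfl⟩, gw12, ⟨rfl, rfl⟩⟩, rfl⟩ | ⟨⟨⟨rfl, rfl⟩, gw12, ⟨rfl, rfl⟩⟩, rfl⟩ | ⟨⟨⟨rfl, rfl⟩, gw12, ⟨rfl, rfl⟩⟩, rfl⟩ | ⟨⟨⟨rfl, rfl⟩, gw12, ⟨rfl, rfl⟩⟩, rfl⟩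
                · (have := od2.out; omega)
                · have t := pc2 q13 c13.out (by have := v1.out; have := qn14.out; have := qn15.out; have := qn16.out; have := qn17.out; omega)
                  clear c13
                  rcases t with ⟨⟨⟨rfl, rfl⟩, gw13, ⟨rfl, rfl⟩⟩, rfl⟩ | ⟨⟨⟨rfl, rfl⟩, gw13, ⟨rfl, rfl⟩⟩, rfl⟩ | ⟨⟨⟨rfl, rfl⟩, gw13, ⟨rfl, rfl⟩⟩, rfl⟩ | ⟨⟨⟨rfl, rfl⟩, gw13, ⟨rfl, rfl⟩⟩, rfl⟩
                  · have t := pc2 q14 c14.out (by have := v1.out; have := qn15.out; have := qn16.out; have := qn17.out; omega)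
                    clear c14
                    rcases t with ⟨⟨⟨rfl, rfl⟩, gw14, ⟨rfl, rfl⟩⟩, rfl⟩ | ⟨⟨⟨rfl, rfl⟩, gw14, ⟨rfl, rfl⟩⟩, rfl⟩ | ⟨⟨⟨rfl, rfl⟩, gw14, ⟨rfl, rfl⟩⟩, rfl⟩ | ⟨⟨⟨rfl, rfl⟩, gw14, ⟨rfl, rfl⟩⟩, rfl⟩
                    · exact part68 T α15 α16 α17 α23 α24 α25 α26 α27 α32 α34 α35 α36 α37 α42 α43 α45 α46 α47 α51 α52 α53 α54 α56 α57 α61 α62 α63 α64 α65 α67 α71 α72 α73 α74 α75 α76 x15 x16 x17 x23 x24 x25 x26 x27 x32 x34 x35 x36 x37 x42 x43 x45 x46 x47 x51 x52 x53 x54 x56 x57 x61 x62 x63 x64 x65 x67 x71 x72 x73 x74 x75 x76 q15 q16 q17 q23 q24 q25 q26 q27 q34 q35 q36 q37 q45 q46 q47 q56 q57 q67 hm0 hm1 hm2 hm3 hm4 hm5 hm6 hm7 om1 om2 om3 om4 om5 om6 om7 e0 e1 e2 e3 e4 e5 e6 e7 r01 r02 r03 r04 r05 r06 r07 r10 r12 r13 r14 r15 r16 r17 r20 r21 r23 r24 r25 r26 r27 r30 r31 r32 r34 r35 r36 r37 r40 r41 r42 r43 r45 r46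 r47 r50 r51 r52 r53 r54 r56 r57 r60 r61 r62 r63 r64 r65 r67 r70 r71 r72 r73 r74 r75 r76 hw0 hw1 hw2 hw3 hw4 hw5 hw6 hw7 hs01 hs02 hs03 hs04 hs05 hs06 hs07 hs12 hs13 hs14 hs15 hs16 hs17 hs23 hs24 hs25 hs26 hs27 hs34 hs35 hs36 hs37 hs45 hs46 hs47 hs56 hs57 hs67 ha00 ha11 ha22 ha33 ha44 ha55 ha66 ha77 v0 v1 v2 v3 v4 v5 v6 v7 qn01 qn02 qn03 qn04 qn05 qn06 qn07 qn12 qn13 qn14 qn15 qn16 qn17 qn23 qn24 qn25 qn26 qn27 qn34 qn35 qn36 qn37 qn45 qn46 qn47 qn56 qn57 qn67 od1 od2 od3 od4 od5 od6 od7 c15 c16 c17 c23 c24 c25 c26 c27 c34 c35 c36 c37 c45 c46 c47 c56 c57 c67 gw01 gw02 gw03 gw04 gw05 gw06 gw07 gw12 gw13 gw14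
                    · (have := hm2.out; have := om4.out; have := om5.out; have := e0.out; have := e1.out; have := r15.out; have := r16.out; have := r17.out; omega)
                    · (have := hm2.out; have := om4.out; have := om5.out; have := e0.out; have := e1.out; have := r15.out; have := r16.out; have := r17.out; omega)
                    · (have := hm5.out; have := om2.out; have := om4.out; have := e0.out; have := e1.out; have := r15.out; have := r16.out; have := r17.out; omega)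
                  · (have := hm2.out; have := om3.out; have := om5.out; have := e0.out; have := e1.out; have := r14.out; have := r15.out; have := r16.out; have := r17.out; omega)
                  · (have := hm2.out; have := om3.out; have := om5.out; have := e0.out; have := e1.out; have := r14.out; have := r15.out; have := r16.out; have := r17.out; omega)
                  · (have := hm5.out; have := om2.out; have := om3.out; have := e0.out; have := e1.out; have := r14.out; have := r15.out; have := r16.out; have := r17.out; omega)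
                · exact part69 T α13 α14 α15 α16 α17 α23 α24 α25 α26 α27 α31 α32 α34 α35 α36 α37 α41 α42 α43 α45 α46 α47 α51 α52 α53 α54 α56 α57 α61 α62 α63 α64 α65 α67 α71 α72 α73 α74 α75 α76 x13 x14 x15 x16 x17 x23 x24 x25 x26 x27 x31 x32 x34 x35 x36 x37 x41 x42 x43 x45 x46 x47 x51 x52 x53 x54 x56 x57 x61 x62 x63 x64 x65 x67 x71 x72 x73 x74 x75 x76 q13 q14 q15 q16 q17 q23 q24 q25 q26 q27 q34 q35 q36 q37 q45 q46 q47 q56 q57 q67 hm0 hm1 hm2 hm3 hm4 hm5 hm6 hm7 om1 om2 om3 om4 om5 om6 om7 e0 e1 e2 e3 e4 e5 e6 e7 r01 r02 r03 r04 r05 r06 r07 r10 r12 r13 r14 r15 r16 r17 r20 r21 r23 r24 r25 r26 r27 r30 r31 r32 r34 r35 r36 r37 r40 r41 r42 r43 r45 r46 r47 r50 r51 r52 r53 r54 r56 r57 r60 r61 r62 r63 r64 r65 r67 r70 r71 r72 r73 r74 r75 r76 hw0 hw1 hw2 hw3 hw4 hw5 hw6 hw7 hs01 hs02 hs03 hs04 hs05 hs06 hs07 hs12 hs13 hs14 hs15 hs16 hs17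 hs23 hs24 hs25 hs26 hs27 hs34 hs35 hs36 hs37 hs45 hs46 hs47 hs56 hs57 hs67 ha00 ha11 ha22 ha33 ha44 ha55 ha66 ha77 v0 v1 v2 v3 v4 v5 v6 v7 qn01 qn02 qn03 qn04 qn05 qn06 qn07 qn12 qn13 qn14 qn15 qn16 qn17 qn23 qn24 qn25 qn26 qn27 qn34 qn35 qn36 qn37 qn45 qn46 qn47 qn56 qn57 qn67 od1 od2 od3 od4 od5 od6 od7 c13 c14 c15 c16 c17 c23 c24 c25 c26 c27 c34 c35 c36 c37 c45 c46 c47 c56 c57 c67 gw01 gw02 gw03 gw04 gw05 gw06 gw07 gw12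
                · (have := hm5.out; have := om2.out; have := om5.out; have := e0.out; have := e1.out; have := r13.out; have := r14.out; have := r15.out; have := r16.out; have := r17.out; omega)
                · (have := hm5.out; have := e0.out; have := e1.out; have := r13.out; have := r14.out; have := r15.out; have := r16.out; have := r17.out; have := e2.out; have := r23.out; have := r24.out; have := r25.out; have := r26.out; have := r27.out; omega)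
                · (have := hm5.out; have := om2.out; have := e0.out; have := e1.out; have := r13.out; have := r14.out; have := r15.out; have := r16.out; have := r17.out; omega)
              · (have := hm1.out; have := om5.out; have := om7.out; have := e0.out; omega)
              · (have := hm1.out; have := om5.out; have := om7.out; have := e0.out; omega)
              · (have := hm1.out; have := om5.out; have := e0.out; have := e7.out; have := r71.out; have := r72.out; have := r73.out; have := r74.out; have := r75.out; have := r76.out; omega)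
            · (have := hm1.out; have := om5.out; have := om6.out; have := e0.out; have := r07.out; omega)
            · (have := hm1.out; have := om5.out; have := om6.out; have := e0.out; have := r07.out; omega)
            · (have := hm1.out; have := om5.out; have := e0.out; have := r07.out; have := e6.out; have := r61.out; have := r62.out; have := r63.out; have := r64.out; have := r65.out; have := r67.out; omega)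
          · exact part70 T α06 α07 α12 α13 α14 α15 α16 α17 α21 α23 α24 α25 α26 α27 α31 α32 α34 α35 α36 α37 α41 α42 α43 α45 α46 α47 α51 α52 α53 α54 α56 α57 α60 α61 α62 α63 α64 α65 α67 α70 α71 α72 α73 α74 α75 α76 x06 x07 x12 x13 x14 x15 x16 x17 x21 x23 x24 x25 x26 x27 x31 x32 x34 x35 x36 x37 x41 x42 x43 x45 x46 x47 x51 x52 x53 x54 x56 x57 x60 x61 x62 x63 x64 x65 x67 x70 x71 x72 x73 x74 x75 x76 q06 q07 q12 q13 q14 q15 q16 q17 q23 q24 q25 q26 q27 q34 q35 q36 q37 q45 q46 q47 q56 q57 q67 hm0 hm1 hm2 hm3 hm4 hm5 hm6 hm7 om1 om2 om3 om4 om5 om6 om7 e0 e1 e2 e3 e4 e5 e6 e7 r01 r02 r03 r04 r05 r06 r07 r10 r12 r13 r14 r15 r16 r17 r20 r21 r23 r24 r25 r26 r27 r30 r31 r32 r34 r35 r36 r37 r40 r41 r42 r43 r45 r46 r47 r50 r51 r52 r53 r54 r56 r57 r60 r61 r62 r63 r64 r65 r67 r70 r71 r72 r73 r74 r75 r76 hw0 hw1 hw2 hw3 hw4 hw5 hw6 hw7 hs01 hs02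 hs03 hs04 hs05 hs06 hs07 hs12 hs13 hs14 hs15 hs16 hs17 hs23 hs24 hs25 hs26 hs27 hs34 hs35 hs36 hs37 hs45 hs46 hs47 hs56 hs57 hs67 ha00 ha11 ha22 ha33 ha44 ha55 ha66 ha77 v0 v1 v2 v3 v4 v5 v6 v7 qn01 qn02 qn03 qn04 qn05 qn06 qn07 qn12 qn13 qn14 qn15 qn16 qn17 qn23 qn24 qn25 qn26 qn27 qn34 qn35 qn36 qn37 qn45 qn46 qn47 qn56 qn57 qn67 od1 od2 od3 od4 od5 od6 od7 c06 c07 c12 c13 c14 c15 c16 c17 c23 c24 c25 c26 c27 c34 c35 c36 c37 c45 c46 c47 c56 c57 c67 gw01 gw02 gw03 gw04 gw05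
          · (have := hm1.out; have := om5.out; have := e0.out; have := r06.out; have := r07.out; omega)
          · (have := hm5.out; have := om1.out; have := e0.out; have := r06.out; have := r07.out; have := e5.out; have := r51.out; have := r52.out; have := r53.out; have := r54.out; have := r56.out; have := r57.out; omega)
          · (have := hm5.out; have := om1.out; have := om5.out; have := e0.out; have := r06.out; have := r07.out; omega)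
        · have t := pc2 q05 c05.out (by have := v0.out; have := qn06.out; have := qn07.out; omega)
          clear c05
          rcases t with ⟨⟨⟨rfl, rfl⟩, gw05, ⟨rfl, rfl⟩⟩, rfl⟩ | ⟨⟨⟨rfl, rfl⟩, gw05, ⟨rfl, rfl⟩⟩, rfl⟩ | ⟨⟨⟨rfl, rfl⟩, gw05, ⟨rfl, rfl⟩⟩, rfl⟩ | ⟨⟨⟨rfl, rfl⟩, gw05, ⟨rfl, rfl⟩⟩, rfl⟩
          · have t := pc2 q06 c06.out (by have := v0.out; have := qn07.out; omega)
            clear c06
            rcases t with ⟨⟨⟨rfl, rfl⟩, gw06, ⟨rfl, rfl⟩⟩, rfl⟩ | ⟨⟨⟨rfl, rfl⟩, gw06, ⟨rfl, rfl⟩⟩, rfl⟩ | ⟨⟨⟨rfl, rfl⟩, gw06, ⟨rfl, rfl⟩⟩, rfl⟩ | ⟨⟨⟨rfl, rfl⟩, gw06, ⟨rfl, rfl⟩⟩, rfl⟩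
            · have t := pc2 q07 c07.out (by have := v0.out; omega)
              clear c07
              rcases t with ⟨⟨⟨rfl, rfl⟩, gw07, ⟨rfl, rfl⟩⟩, rfl⟩ | ⟨⟨⟨rfl, rfl⟩, gw07, ⟨rfl, rfl⟩⟩, rfl⟩ | ⟨⟨⟨rfl, rfl⟩, gw07, ⟨rfl, rfl⟩⟩, rfl⟩ | ⟨⟨⟨rfl, rfl⟩, gw07, ⟨rfl, rfl⟩⟩, rfl⟩
              · have t := pc3 q12 c12.out (by have := v1.out; have := qn13.out; have := qn14.out; have := qn15.out; have := qn16.out; have := qn17.out; omega)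
                clear c12
                rcases t with ⟨⟨⟨rfl, rfl⟩, gw12, ⟨rfl, rfl⟩⟩, rfl⟩ | ⟨⟨⟨rfl, rfl⟩, gw12, ⟨rfl, rfl⟩⟩, rfl⟩ | ⟨⟨⟨rfl, rfl⟩, gw12, ⟨rfl, rfl⟩⟩, rfl⟩ | ⟨⟨⟨rfl, rfl⟩, gw12, ⟨rfl, rfl⟩⟩, rfl⟩ | ⟨⟨⟨rfl, rfl⟩, gw12, ⟨rfl, rfl⟩⟩, rfl⟩ | ⟨⟨⟨rfl, rfl⟩, gw12, ⟨rfl, rfl⟩⟩, rfl⟩
                · (have := od2.out; omega)
                · have t := pc2 q13 c13.out (by have := v1.out; have := qn14.out; have := qn15.out; have := qn16.out; have := qn17.out; omega)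
                  clear c13
                  rcases t with ⟨⟨⟨rfl, rfl⟩, gw13, ⟨rfl, rfl⟩⟩, rfl⟩ | ⟨⟨⟨rfl, rfl⟩, gw13, ⟨rfl, rfl⟩⟩, rfl⟩ | ⟨⟨⟨rfl, rfl⟩, gw13, ⟨rfl, rfl⟩⟩, rfl⟩ | ⟨⟨⟨rfl, rfl⟩, gw13, ⟨rfl, rfl⟩⟩, rfl⟩
                  · have t := pc2 q14 c14.out (by have := v1.out; have := qn15.out; have := qn16.out; have := qn17.out; omega)
                    clear c14
                    rcases t with ⟨⟨⟨rfl, rfl⟩, gw14, ⟨rfl, rfl⟩⟩, rfl⟩ | ⟨⟨⟨rfl, rfl⟩, gw14, ⟨rfl, rfl⟩⟩, rfl⟩ | ⟨⟨⟨rfl, rfl⟩, gw14, ⟨rfl, rfl⟩⟩, rfl⟩ | ⟨⟨⟨rfl, rfl⟩, gw14, ⟨rfl, rfl⟩⟩, rfl⟩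
                    · have t := pc2 q15 c15.out (by have := v1.out; have := qn16.out; have := qn17.out; omega)
                      clear c15
                      rcases t with ⟨⟨⟨rfl, rfl⟩, gw15, ⟨rfl, rfl⟩⟩, rfl⟩ | ⟨⟨⟨rfl, rfl⟩, gw15, ⟨rfl, rfl⟩⟩, rfl⟩ | ⟨⟨⟨rfl, rfl⟩, gw15, ⟨rfl, rfl⟩⟩, rfl⟩ | ⟨⟨⟨rfl, rfl⟩, gw15, ⟨rfl, rfl⟩⟩, rfl⟩
                      · have t := pc2 q16 c16.out (by have := v1.out; have := qn17.out; omega)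
                        clear c16
                        rcases t with ⟨⟨⟨rfl, rfl⟩, gw16, ⟨rfl, rfl⟩⟩, rfl⟩ | ⟨⟨⟨rfl, rfl⟩, gw16, ⟨rfl, rfl⟩⟩, rfl⟩ | ⟨⟨⟨rfl, rfl⟩, gw16, ⟨rfl, rfl⟩⟩, rfl⟩ | ⟨⟨⟨rfl, rfl⟩, gw16, ⟨rfl, rfl⟩⟩, rfl⟩
                        · have t := pc2 q17 c17.out (by have := v1.out; omega)
                          clear c17
                          rcases t with ⟨⟨⟨rfl, rfl⟩, gw17, ⟨rfl, rfl⟩⟩, rfl⟩ | ⟨⟨⟨rfl, rfl⟩, gw17, ⟨rfl, rfl⟩⟩, rfl⟩ | ⟨⟨⟨rfl, rfl⟩, gw17, ⟨rfl, rfl⟩⟩, rfl⟩ | ⟨⟨⟨rfl, rfl⟩, gw17, ⟨rfl, rfl⟩⟩, rfl⟩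
                          · have t := pc3 q23 c23.out (by have := v2.out; have := qn24.out; have := qn25.out; have := qn26.out; have := qn27.out; omega)
                            clear c23
                            rcases t with ⟨⟨⟨rfl, rfl⟩, gw23, ⟨rfl, rfl⟩⟩, rfl⟩ | ⟨⟨⟨rfl, rfl⟩, gw23, ⟨rfl, rfl⟩⟩, rfl⟩ | ⟨⟨⟨rfl, rfl⟩, gw23, ⟨rfl, rfl⟩⟩, rfl⟩ | ⟨⟨⟨rfl, rfl⟩, gw23, ⟨rfl, rfl⟩⟩, rfl⟩ | ⟨⟨⟨rfl, rfl⟩, gw23, ⟨rfl, rfl⟩⟩, rfl⟩ | ⟨⟨⟨rfl, rfl⟩, gw23, ⟨rfl, rfl⟩⟩, rfl⟩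
                            · (have := od3.out; omega)
                            · have t := pc2 q24 c24.out (by have := v2.out; have := qn25.out; have := qn26.out; have := qn27.out; omega)
                              clear c24
                              rcases t with ⟨⟨⟨rfl, rfl⟩, gw24, ⟨rfl, rfl⟩⟩, rfl⟩ | ⟨⟨⟨rfl, rfl⟩, gw24, ⟨rfl, rfl⟩⟩, rfl⟩ | ⟨⟨⟨rfl, rfl⟩, gw24, ⟨rfl, rfl⟩⟩, rfl⟩ | ⟨⟨⟨rfl, rfl⟩, gw24, ⟨rfl, rfl⟩⟩, rfl⟩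
                              · have t := pc2 q25 c25.out (by have := v2.out; have := qn26.out; have := qn27.out; omega)
                                clear c25
                                rcases t with ⟨⟨⟨rfl, rfl⟩, gw25, ⟨rfl, rfl⟩⟩, rfl⟩ | ⟨⟨⟨rfl, rfl⟩, gw25, ⟨rfl, rfl⟩⟩, rfl⟩ | ⟨⟨⟨rfl, rfl⟩, gw25, ⟨rfl, rfl⟩⟩, rfl⟩ | ⟨⟨⟨rfl, rfl⟩, gw25, ⟨rfl, rfl⟩⟩, rfl⟩
                                · have t := pc2 q26 c26.out (by have := v2.out; have := qn27.out; omega)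
                                  clear c26
                                  rcases t with ⟨⟨⟨rfl, rfl⟩, gw26, ⟨rfl, rfl⟩⟩, rfl⟩ | ⟨⟨⟨rfl, rfl⟩, gw26, ⟨rfl, rfl⟩⟩, rfl⟩ | ⟨⟨⟨rfl, rfl⟩, gw26, ⟨rfl, rfl⟩⟩, rfl⟩ | ⟨⟨⟨rfl, rfl⟩, gw26, ⟨rfl, rfl⟩⟩, rfl⟩
                                  · have t := pc2 q27 c27.out (by have := v2.out; omega)
                                    clear c27
                                    rcases t with ⟨⟨⟨rfl, rfl⟩, gw27, ⟨rfl, rfl⟩⟩, rfl⟩ | ⟨⟨⟨rfl, rfl⟩, gw27, ⟨rfl, rfl⟩⟩, rfl⟩ | ⟨⟨⟨rfl, rfl⟩, gw27, ⟨rfl, rfl⟩⟩, rfl⟩ | ⟨⟨⟨rfl, rfl⟩, gw27, ⟨rfl, rfl⟩⟩, rfl⟩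
                                    · have t := pc3 q34 c34.out (by have := v3.out; have := qn35.out; have := qn36.out; have := qn37.out; omega)
                                      clear c34
                                      rcases t with ⟨⟨⟨rfl, rfl⟩, gw34, ⟨rfl, rfl⟩⟩, rfl⟩ | ⟨⟨⟨rfl, rfl⟩, gw34, ⟨rfl, rfl⟩⟩, rfl⟩ | ⟨⟨⟨rfl, rfl⟩, gw34, ⟨rfl, rfl⟩⟩, rfl⟩ | ⟨⟨⟨rfl, rfl⟩, gw34, ⟨rfl, rfl⟩⟩, rfl⟩ | ⟨⟨⟨rfl, rfl⟩, gw34, ⟨rfl, rfl⟩⟩, rfl⟩ | ⟨⟨⟨rfl, rfl⟩, gw34, ⟨rfl, rfl⟩⟩, rfl⟩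
                                      · have t := pc3 q35 c35.out (by have := v3.out; have := qn36.out; have := qn37.out; omega)
                                        clear c35
                                        rcases t with ⟨⟨⟨rfl, rfl⟩, gw35, ⟨rfl, rfl⟩⟩, rfl⟩ | ⟨⟨⟨rfl, rfl⟩, gw35, ⟨rfl, rfl⟩⟩, rfl⟩ | ⟨⟨⟨rfl, rfl⟩, gw35, ⟨rfl, rfl⟩⟩, rfl⟩ | ⟨⟨⟨rfl, rfl⟩, gw35, ⟨rfl, rfl⟩⟩, rfl⟩ | ⟨⟨⟨rfl, rfl⟩, gw35, ⟨rfl, rfl⟩⟩, rfl⟩ | ⟨⟨⟨rfl, rfl⟩, gw35, ⟨rfl, rfl⟩⟩, rfl⟩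
                                        · exact part71 T α36 α37 α45 α46 α47 α54 α56 α57 α63 α64 α65 α67 α73 α74 α75 α76 x36 x37 x45 x46 x47 x54 x56 x57 x63 x64 x65 x67 x73 x74 x75 x76 q36 q37 q45 q46 q47 q56 q57 q67 hm0 hm1 hm2 hm3 hm4 hm5 hm6 hm7 om1 om2 om3 om4 om5 om6 om7 e0 e1 e2 e3 e4 e5 e6 e7 r01 r02 r03 r04 r05 r06 r07 r10 r12 r13 r14 r15 r16 r17 r20 r21 r23 r24 r25 r26 r27 r30 r31 r32 r34 r35 r36 r37 r40 r41 r42 r43 r45 r46 r47 r50 r51 r52 r53 r54 r56 r57 r60 r61 r62 r63 r64 r65 r67 r70 r71 r72 r73 r74 r75 r76 hw0 hw1 hw2 hw3 hw4 hw5 hw6 hw7 hs01 hs02 hs03 hs04 hs05 hs06 hs07 hs12 hs13 hs14 hs15 hs16 hs17 hs23 hs24 hs25 hs26 hs27 hs34 hs35 hs36 hs37 hs45 hs46 hs47 hs56 hs57 hs67 ha00 ha11 ha22 ha33 ha44 ha55 ha66 ha77 v0 v1 v2 v3 v4 v5 v6 v7 qn01 qn02 qn03 qn04 qn05 qn06 qn07 qn12 qn13 qn14 qn15 qn16 qn17 qn23 qn24 qn25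 qn26 qn27 qn34 qn35 qn36 qn37 qn45 qn46 qn47 qn56 qn57 qn67 od1 od2 od3 od4 od5 od6 od7 c36 c37 c45 c46 c47 c56 c57 c67 gw01 gw02 gw03 gw04 gw05 gw06 gw07 gw12 gw13 gw14 gw15 gw16 gw17 gw23 gw24 gw25 gw26 gw27 gw34 gw35
                                        · exact part72 T α36 α37 α45 α46 α47 α54 α56 α57 α63 α64 α65 α67 α73 α74 α75 α76 x36 x37 x45 x46 x47 x54 x56 x57 x63 x64 x65 x67 x73 x74 x75 x76 q36 q37 q45 q46 q47 q56 q57 q67 hm0 hm1 hm2 hm3 hm4 hm5 hm6 hm7 om1 om2 om3 om4 om5 om6 om7 e0 e1 e2 e3 e4 e5 e6 e7 r01 r02 r03 r04 r05 r06 r07 r10 r12 r13 r14 r15 r16 r17 r20 r21 r23 r24 r25 r26 r27 r30 r31 r32 r34 r35 r36 r37 r40 r41 r42 r43 r45 r46 r47 r50 r51 r52 r53 r54 r56 r57 r60 r61 r62 r63 r64 r65 r67 r70 r71 r72 r73 r74 r75 r76 hw0 hw1 hw2 hw3 hw4 hw5 hw6 hw7 hs01 hs02 hs03 hs04 hs05 hs06 hs07 hs12 hs13 hs14 hs15 hs16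 hs17 hs23 hs24 hs25 hs26 hs27 hs34 hs35 hs36 hs37 hs45 hs46 hs47 hs56 hs57 hs67 ha00 ha11 ha22 ha33 ha44 ha55 ha66 ha77 v0 v1 v2 v3 v4 v5 v6 v7 qn01 qn02 qn03 qn04 qn05 qn06 qn07 qn12 qn13 qn14 qn15 qn16 qn17 qn23 qn24 qn25 qn26 qn27 qn34 qn35 qn36 qn37 qn45 qn46 qn47 qn56 qn57 qn67 od1 od2 od3 od4 od5 od6 od7 c36 c37 c45 c46 c47 c56 c57 c67 gw01 gw02 gw03 gw04 gw05 gw06 gw07 gw12 gw13 gw14 gw15 gw16 gw17 gw23 gw24 gw25 gw26 gw27 gw34 gw35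
                                        · exact part73 T α36 α37 α45 α46 α47 α54 α56 α57 α63 α64 α65 α67 α73 α74 α75 α76 x36 x37 x45 x46 x47 x54 x56 x57 x63 x64 x65 x67 x73 x74 x75 x76 q36 q37 q45 q46 q47 q56 q57 q67 hm0 hm1 hm2 hm3 hm4 hm5 hm6 hm7 om1 om2 om3 om4 om5 om6 om7 e0 e1 e2 e3 e4 e5 e6 e7 r01 r02 r03 r04 r05 r06 r07 r10 r12 r13 r14 r15 r16 r17 r20 r21 r23 r24 r25 r26 r27 r30 r31 r32 r34 r35 r36 r37 r40 r41 r42 r43 r45 r46 r47 r50 r51 r52 r53 r54 r56 r57 r60 r61 r62 r63 r64 r65 r67 r70 r71 r72 r73 r74 r75 r76 hw0 hw1 hw2 hw3 hw4 hw5 hw6 hw7 hs01 hs02 hs03 hs04 hs05 hs06 hs07 hs12 hs13 hs14 hs15 hs16 hs17 hs23 hs24 hs25 hs26 hs27 hs34 hs35 hs36 hs37 hs45 hs46 hs47 hs56 hs57 hs67 ha00 ha11 ha22 ha33 ha44 ha55 ha66 ha77 v0 v1 v2 v3 v4 v5 v6 v7 qn01 qn02 qn03 qn04 qn05 qn06 qn07 qn12 qn13 qn14 qn15 qn16 qn17 qn23 qn24 qn25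 qn26 qn27 qn34 qn35 qn36 qn37 qn45 qn46 qn47 qn56 qn57 qn67 od1 od2 od3 od4 od5 od6 od7 c36 c37 c45 c46 c47 c56 c57 c67 gw01 gw02 gw03 gw04 gw05 gw06 gw07 gw12 gw13 gw14 gw15 gw16 gw17 gw23 gw24 gw25 gw26 gw27 gw34 gw35
                                        · (have := hm0.out; have := om4.out; have := om5.out; have := e0.out; have := e1.out; have := e2.out; have := e3.out; have := r36.out; have := r37.out; omega)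
                                        · (have := hm1.out; have := e2.out; have := e3.out; have := r36.out; have := r37.out; have := e5.out; have := r54.out; have := r56.out; have := r57.out; omega)
                                        · (have := hm1.out; have := e2.out; have := e3.out; have := r36.out; have := r37.out; have := e5.out; have := r54.out; have := r56.out; have := r57.out; omega)
                                      · exact part74 T α35 α36 α37 α45 α46 α47 α53 α54 α56 α57 α63 α64 α65 α67 α73 α74 α75 α76 x35 x36 x37 x45 x46 x47 x53 x54 x56 x57 x63 x64 x65 x67 x73 x74 x75 x76 q35 q36 q37 q45 q46 q47 q56 q57 q67 hm0 hm1 hm2 hm3 hm4 hm5 hm6 hm7 om1 om2 om3 om4 om5 om6 om7 e0 e1 e2 e3 e4 e5 e6 e7 r01 r02 r03 r04 r05 r06 r07 r10 r12 r13 r14 r15 r16 r17 r20 r21 r23 r24 r25 r26 r27 r30 r31 r32 r34 r35 r36 r37 r40 r41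 r42 r43 r45 r46 r47 r50 r51 r52 r53 r54 r56 r57 r60 r61 r62 r63 r64 r65 r67 r70 r71 r72 r73 r74 r75 r76 hw0 hw1 hw2 hw3 hw4 hw5 hw6 hw7 hs01 hs02 hs03 hs04 hs05 hs06 hs07 hs12 hs13 hs14 hs15 hs16 hs17 hs23 hs24 hs25 hs26 hs27 hs34 hs35 hs36 hs37 hs45 hs46 hs47 hs56 hs57 hs67 ha00 ha11 ha22 ha33 ha44 ha55 ha66 ha77 v0 v1 v2 v3 v4 v5 v6 v7 qn01 qn02 qn03 qn04 qn05 qn06 qn07 qn12 qn13 qn14 qn15 qn16 qn17 qn23 qn24 qn25 qn26 qn27 qn34 qn35 qn36 qn37 qn45 qn46 qn47 qn56 qn57 qn67 od1 od2 od3 od4 od5 od6 od7 c35 c36 c37 c45 c46 c47 c56 c57 c67 gw01 gw02 gw03 gw04 gw05 gw06 gw07 gw12 gw13 gw14 gw15 gw16 gw17 gw23 gw24 gw25 gw26 gw27 gw34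
                                      · (have := hm0.out; have := om2.out; have := e0.out; have := e2.out; have := e4.out; have := r45.out; have := r46.out; have := r47.out; omega)
                                      · (have := hm2.out; have := om1.out; have := e0.out; have := e3.out; have := r35.out; have := r36.out; have := r37.out; have := e4.out; have := r45.out; have := r46.out; have := r47.out; omega)
                                      · (have := hm2.out; have := om2.out; have := e0.out; have := e2.out; have := e3.out; have := r35.out; have := r36.out; have := r37.out; have := e4.out; have := r45.out; have := r46.out; have := r47.out; omega)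
                                      · (have := hm4.out; have := e0.out; have := e1.out; have := e2.out; have := e3.out; have := r35.out; have := r36.out; have := r37.out; have := e4.out; have := r45.out; have := r46.out; have := r47.out; omega)
                                    · (have := hm3.out; have := om4.out; have := om7.out; have := e0.out; have := e1.out; have := e2.out; omega)
                                    · (have := hm3.out; have := om4.out; have := om7.out; have := e0.out; have := e1.out; have := e2.out; omega)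
                                    · (have := hm7.out; have := om3.out; have := om4.out; have := e0.out; have := e1.out; have := e2.out; omega)
                                  · (have := hm3.out; have := om4.out; have := om6.out; have := e0.out; have := e1.out; have := e2.out; have := r27.out; omega)
                                  · (have := hm3.out; have := om4.out; have := om6.out; have := e0.out; have := e1.out; have := e2.out; have := r27.out; omega)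
                                  · (have := hm6.out; have := om3.out; have := om4.out; have := e0.out; have := e1.out; have := e2.out; have := r27.out; omega)
                                · (have := hm3.out; have := om4.out; have := om5.out; have := e0.out; have := e1.out; have := e2.out; have := r26.out; have := r27.out; omega)
                                · (have := hm3.out; have := om4.out; have := om5.out; have := e0.out; have := e1.out; have := e2.out; have := r26.out; have := r27.out; omega)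
                                · (have := hm5.out; have := om3.out; have := om4.out; have := e0.out; have := e1.out; have := e2.out; have := r26.out; have := r27.out; omega)
                              · (have := hm3.out; have := om1.out; have := e0.out; have := e2.out; have := r25.out; have := r26.out; have := r27.out; have := e4.out; have := r43.out; have := r45.out; have := r46.out; have := r47.out; omega)
                              · (have := hm2.out; have := om1.out; have := e0.out; have := e1.out; have := e4.out; have := r43.out; have := r45.out; have := r46.out; have := r47.out; omega)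
                              · (have := hm0.out; have := e1.out; have := e2.out; have := r25.out; have := r26.out; have := r27.out; have := e3.out; have := r34.out; have := r35.out; have := r36.out; have := r37.out; have := e4.out; have := r43.out; have := r45.out; have := r46.out; have := r47.out; omega)
                            · exact part75 T α24 α25 α26 α27 α34 α35 α36 α37 α42 α43 α45 α46 α47 α52 α53 α54 α56 α57 α62 α63 α64 α65 α67 α72 α73 α74 α75 α76 x24 x25 x26 x27 x34 x35 x36 x37 x42 x43 x45 x46 x47 x52 x53 x54 x56 x57 x62 x63 x64 x65 x67 x72 x73 x74 x75 x76 q24 q25 q26 q27 q34 q35 q36 q37 q45 q46 q47 q56 q57 q67 hm0 hm1 hm2 hm3 hm4 hm5 hm6 hm7 om1 om2 om3 om4 om5 om6 om7 e0 e1 e2 e3 e4 e5 e6 e7 r01 r02 r03 r04 r05 r06 r07 r10 r12 r13 r14 r15 r16 r17 r20 r21 r23 r24 r25 r26 r27 r30 r31 r32 r34 r35 r36 r37 r40 r41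 r42 r43 r45 r46 r47 r50 r51 r52 r53 r54 r56 r57 r60 r61 r62 r63 r64 r65 r67 r70 r71 r72 r73 r74 r75 r76 hw0 hw1 hw2 hw3 hw4 hw5 hw6 hw7 hs01 hs02 hs03 hs04 hs05 hs06 hs07 hs12 hs13 hs14 hs15 hs16 hs17 hs23 hs24 hs25 hs26 hs27 hs34 hs35 hs36 hs37 hs45 hs46 hs47 hs56 hs57 hs67 ha00 ha11 ha22 ha33 ha44 ha55 ha66 ha77 v0 v1 v2 v3 v4 v5 v6 v7 qn01 qn02 qn03 qn04 qn05 qn06 qn07 qn12 qn13 qn14 qn15 qn16 qn17 qn23 qn24 qn25 qn26 qn27 qn34 qn35 qn36 qn37 qn45 qn46 qn47 qn56 qn57 qn67 od1 od2 od3 od4 od5 od6 od7 c24 c25 c26 c27 c34 c35 c36 c37 c45 c46 c47 c56 c57 c67 gw01 gw02 gw03 gw04 gw05 gw06 gw07 gw12 gw13 gw14 gw15 gw16 gw17 gw23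
                            · (have := hm4.out; have := om3.out; have := om4.out; have := e0.out; have := e1.out; have := e2.out; have := r24.out; have := r25.out; have := r26.out; have := r27.out; omega)
                            · (have := hm0.out; have := e1.out; have := e2.out; have := r24.out; have := r25.out; have := r26.out; have := r27.out; have := e3.out; have := r34.out; have := r35.out; have := r36.out; have := r37.out; omega)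
                            · (have := hm0.out; have := e1.out; have := e2.out; have := r24.out; have := r25.out; have := r26.out; have := r27.out; have := e3.out; have := r34.out; have := r35.out; have := r36.out; have := r37.out; omega)
                          · (have := hm2.out; have := om4.out; have := om7.out; have := e0.out; have := e1.out; omega)
                          · (have := hm2.out; have := om4.out; have := om7.out; have := e0.out; have := e1.out; omega)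
                          · (have := hm4.out; have := om2.out; have := om7.out; have := e0.out; have := e1.out; omega)
                        · (have := hm2.out; have := om4.out; have := om6.out; have := e0.out; have := e1.out; have := r17.out; omega)
                        · (have := hm2.out; have := om4.out; have := om6.out; have := e0.out; have := e1.out; have := r17.out; omega)
                        · (have := hm4.out; have := om2.out; have := om6.out; have := e0.out; have := e1.out; have := r17.out; omega)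
                      · (have := hm2.out; have := om4.out; have := om5.out; have := e0.out; have := e1.out; have := r16.out; have := r17.out; omega)
                      · (have := hm2.out; have := om4.out; have := om5.out; have := e0.out; have := e1.out; have := r16.out; have := r17.out; omega)
                      · (have := hm4.out; have := om2.out; have := om5.out; have := e0.out; have := e1.out; have := r16.out; have := r17.out; omega)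
                    · (have := hm2.out; have := om4.out; have := e0.out; have := e1.out; have := r15.out; have := r16.out; have := r17.out; omega)
                    · (have := hm2.out; have := om4.out; have := e0.out; have := e1.out; have := r15.out; have := r16.out; have := r17.out; omega)
                    · (have := hm1.out; have := om2.out; have := e0.out; have := e1.out; have := r15.out; have := r16.out; have := r17.out; have := e4.out; have := r42.out; have := r43.out; have := r45.out; have := r46.out; have := r47.out; omega)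
                  · (have := hm2.out; have := om3.out; have := om4.out; have := e0.out; have := e1.out; have := r14.out; have := r15.out; have := r16.out; have := r17.out; omega)
                  · (have := hm2.out; have := om3.out; have := om4.out; have := e0.out; have := e1.out; have := r14.out; have := r15.out; have := r16.out; have := r17.out; omega)
                  · (have := hm4.out; have := om2.out; have := om3.out; have := e0.out; have := e1.out; have := r14.out; have := r15.out; have := r16.out; have := r17.out; omega)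
                · exact part76 T α13 α14 α15 α16 α17 α23 α24 α25 α26 α27 α31 α32 α34 α35 α36 α37 α41 α42 α43 α45 α46 α47 α51 α52 α53 α54 α56 α57 α61 α62 α63 α64 α65 α67 α71 α72 α73 α74 α75 α76 x13 x14 x15 x16 x17 x23 x24 x25 x26 x27 x31 x32 x34 x35 x36 x37 x41 x42 x43 x45 x46 x47 x51 x52 x53 x54 x56 x57 x61 x62 x63 x64 x65 x67 x71 x72 x73 x74 x75 x76 q13 q14 q15 q16 q17 q23 q24 q25 q26 q27 q34 q35 q36 q37 q45 q46 q47 q56 q57 q67 hm0 hm1 hm2 hm3 hm4 hm5 hm6 hm7 om1 om2 om3 om4 om5 om6 om7 e0 e1 e2 e3 e4 e5 e6 e7 r01 r02 r03 r04 r05 r06 r07 r10 r12 r13 r14 r15 r16 r17 r20 r21 r23 r24 r25 r26 r27 r30 r31 r32 r34 r35 r36 r37 r40 r41 r42 r43 r45 r46 r47 r50 r51 r52 r53 r54 r56 r57 r60 r61 r62 r63 r64 r65 r67 r70 r71 r72 r73 r74 r75 r76 hw0 hw1 hw2 hw3 hw4 hw5 hw6 hw7 hs01 hs02 hs03 hs04 hs05 hs06 hs07 hs12 hs13 hs14 hs15 hs16 hs17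 hs23 hs24 hs25 hs26 hs27 hs34 hs35 hs36 hs37 hs45 hs46 hs47 hs56 hs57 hs67 ha00 ha11 ha22 ha33 ha44 ha55 ha66 ha77 v0 v1 v2 v3 v4 v5 v6 v7 qn01 qn02 qn03 qn04 qn05 qn06 qn07 qn12 qn13 qn14 qn15 qn16 qn17 qn23 qn24 qn25 qn26 qn27 qn34 qn35 qn36 qn37 qn45 qn46 qn47 qn56 qn57 qn67 od1 od2 od3 od4 od5 od6 od7 c13 c14 c15 c16 c17 c23 c24 c25 c26 c27 c34 c35 c36 c37 c45 c46 c47 c56 c57 c67 gw01 gw02 gw03 gw04 gw05 gw06 gw07 gw12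
                · (have := hm4.out; have := om2.out; have := om4.out; have := e0.out; have := e1.out; have := r13.out; have := r14.out; have := r15.out; have := r16.out; have := r17.out; omega)
                · (have := hm4.out; have := e0.out; have := e1.out; have := r13.out; have := r14.out; have := r15.out; have := r16.out; have := r17.out; have := e2.out; have := r23.out; have := r24.out; have := r25.out; have := r26.out; have := r27.out; omega)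
                · (have := hm4.out; have := om2.out; have := e0.out; have := e1.out; have := r13.out; have := r14.out; have := r15.out; have := r16.out; have := r17.out; omega)
              · (have := hm1.out; have := om4.out; have := om7.out; have := e0.out; omega)
              · (have := hm1.out; have := om4.out; have := om7.out; have := e0.out; omega)
              · (have := hm1.out; have := om4.out; have := e0.out; have := e7.out; have := r71.out; have := r72.out; have := r73.out; have := r74.out; have := r75.out; have := r76.out; omega)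
            · (have := hm1.out; have := om4.out; have := om6.out; have := e0.out; have := r07.out; omega)
            · (have := hm1.out; have := om4.out; have := om6.out; have := e0.out; have := r07.out; omega)
            · (have := hm1.out; have := om4.out; have := e0.out; have := r07.out; have := e6.out; have := r61.out; have := r62.out; have := r63.out; have := r64.out; have := r65.out; have := r67.out; omega)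
          · (have := hm1.out; have := om4.out; have := om5.out; have := e0.out; have := r06.out; have := r07.out; omega)
          · (have := hm1.out; have := om4.out; have := om5.out; have := e0.out; have := r06.out; have := r07.out; omega)
          · (have := hm1.out; have := om4.out; have := e0.out; have := r06.out; have := r07.out; have := e5.out; have := r51.out; have := r52.out; have := r53.out; have := r54.out; have := r56.out; have := r57.out; omega)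
        · exact part77 T α05 α06 α07 α12 α13 α14 α15 α16 α17 α21 α23 α24 α25 α26 α27 α31 α32 α34 α35 α36 α37 α41 α42 α43 α45 α46 α47 α50 α51 α52 α53 α54 α56 α57 α60 α61 α62 α63 α64 α65 α67 α70 α71 α72 α73 α74 α75 α76 x05 x06 x07 x12 x13 x14 x15 x16 x17 x21 x23 x24 x25 x26 x27 x31 x32 x34 x35 x36 x37 x41 x42 x43 x45 x46 x47 x50 x51 x52 x53 x54 x56 x57 x60 x61 x62 x63 x64 x65 x67 x70 x71 x72 x73 x74 x75 x76 q05 q06 q07 q12 q13 q14 q15 q16 q17 q23 q24 q25 q26 q27 q34 q35 q36 q37 q45 q46 q47 q56 q57 q67 hm0 hm1 hm2 hm3 hm4 hm5 hm6 hm7 om1 om2 om3 om4 om5 om6 om7 e0 e1 e2 e3 e4 e5 e6 e7 r01 r02 r03 r04 r05 r06 r07 r10 r12 r13 r14 r15 r16 r17 r20 r21 r23 r24 r25 r26 r27 r30 r31 r32 r34 r35 r36 r37 r40 r41 r42 r43 r45 r46 r47 r50 r51 r52 r53 r54 r56 r57 r60 r61 r62 r63 r64 r65 r67 r70 r71 r72 r73 r74 r75 r76 hw0 hw1 hw2 hw3 hw4 hw5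 hw6 hw7 hs01 hs02 hs03 hs04 hs05 hs06 hs07 hs12 hs13 hs14 hs15 hs16 hs17 hs23 hs24 hs25 hs26 hs27 hs34 hs35 hs36 hs37 hs45 hs46 hs47 hs56 hs57 hs67 ha00 ha11 ha22 ha33 ha44 ha55 ha66 ha77 v0 v1 v2 v3 v4 v5 v6 v7 qn01 qn02 qn03 qn04 qn05 qn06 qn07 qn12 qn13 qn14 qn15 qn16 qn17 qn23 qn24 qn25 qn26 qn27 qn34 qn35 qn36 qn37 qn45 qn46 qn47 qn56 qn57 qn67 od1 od2 od3 od4 od5 od6 od7 c05 c06 c07 c12 c13 c14 c15 c16 c17 c23 c24 c25 c26 c27 c34 c35 c36 c37 c45 c46 c47 c56 c57 c67 gw01 gw02 gw03 gw04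
        · (have := hm1.out; have := om4.out; have := e0.out; have := r05.out; have := r06.out; have := r07.out; omega)
        · (have := hm4.out; have := om1.out; have := e0.out; have := r05.out; have := r06.out; have := r07.out; have := e4.out; have := r41.out; have := r42.out; have := r43.out; have := r45.out; have := r46.out; have := r47.out; omega)
        · (have := hm4.out; have := om1.out; have := om4.out; have := e0.out; have := r05.out; have := r06.out; have := r07.out; omega)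
      · have t := pc2 q04 c04.out (by have := v0.out; have := qn05.out; have := qn06.out; have := qn07.out; omega)
        clear c04
        rcases t with ⟨⟨⟨rfl, rfl⟩, gw04, ⟨rfl, rfl⟩⟩, rfl⟩ | ⟨⟨⟨rfl, rfl⟩, gw04, ⟨rfl, rfl⟩⟩, rfl⟩ | ⟨⟨⟨rfl, rfl⟩, gw04, ⟨rfl, rfl⟩⟩, rfl⟩ | ⟨⟨⟨rfl, rfl⟩, gw04, ⟨rfl, rfl⟩⟩, rfl⟩
        · have t := pc2 q05 c05.out (by have := v0.out; have := qn06.out; have := qn07.out; omega)
          clear c05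
          rcases t with ⟨⟨⟨rfl, rfl⟩, gw05, ⟨rfl, rfl⟩⟩, rfl⟩ | ⟨⟨⟨rfl, rfl⟩, gw05, ⟨rfl, rfl⟩⟩, rfl⟩ | ⟨⟨⟨rfl, rfl⟩, gw05, ⟨rfl, rfl⟩⟩, rfl⟩ | ⟨⟨⟨rfl, rfl⟩, gw05, ⟨rfl, rfl⟩⟩, rfl⟩
          · have t := pc2 q06 c06.out (by have := v0.out; have := qn07.out; omega)
            clear c06
            rcases t with ⟨⟨⟨rfl, rfl⟩, gw06, ⟨rfl, rfl⟩⟩, rfl⟩ | ⟨⟨⟨rfl, rfl⟩, gw06, ⟨rfl, rfl⟩⟩, rfl⟩ | ⟨⟨⟨rfl, rfl⟩, gw06, ⟨rfl, rfl⟩⟩, rfl⟩ | ⟨⟨⟨rfl, rfl⟩, gw06, ⟨rfl, rfl⟩⟩, rfl⟩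
            · have t := pc2 q07 c07.out (by have := v0.out; omega)
              clear c07
              rcases t with ⟨⟨⟨rfl, rfl⟩, gw07, ⟨rfl, rfl⟩⟩, rfl⟩ | ⟨⟨⟨rfl, rfl⟩, gw07, ⟨rfl, rfl⟩⟩, rfl⟩ | ⟨⟨⟨rfl, rfl⟩, gw07, ⟨rfl, rfl⟩⟩, rfl⟩ | ⟨⟨⟨rfl, rfl⟩, gw07, ⟨rfl, rfl⟩⟩, rfl⟩
              · have t := pc3 q12 c12.out (by have := v1.out; have := qn13.out; have := qn14.out; have := qn15.out; have := qn16.out; have := qn17.out; omega)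
                clear c12
                rcases t with ⟨⟨⟨rfl, rfl⟩, gw12, ⟨rfl, rfl⟩⟩, rfl⟩ | ⟨⟨⟨rfl, rfl⟩, gw12, ⟨rfl, rfl⟩⟩, rfl⟩ | ⟨⟨⟨rfl, rfl⟩, gw12, ⟨rfl, rfl⟩⟩, rfl⟩ | ⟨⟨⟨rfl, rfl⟩, gw12, ⟨rfl, rfl⟩⟩, rfl⟩ | ⟨⟨⟨rfl, rfl⟩, gw12, ⟨rfl, rfl⟩⟩, rfl⟩ | ⟨⟨⟨rfl, rfl⟩, gw12, ⟨rfl, rfl⟩⟩, rfl⟩
                · (have := od2.out; omega)
                · have t := pc2 q13 c13.out (by have := v1.out; have := qn14.out; have := qn15.out; have := qn16.out; have := qn17.out; omega)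
                  clear c13
                  rcases t with ⟨⟨⟨rfl, rfl⟩, gw13, ⟨rfl, rfl⟩⟩, rfl⟩ | ⟨⟨⟨rfl, rfl⟩, gw13, ⟨rfl, rfl⟩⟩, rfl⟩ | ⟨⟨⟨rfl, rfl⟩, gw13, ⟨rfl, rfl⟩⟩, rfl⟩ | ⟨⟨⟨rfl, rfl⟩, gw13, ⟨rfl, rfl⟩⟩, rfl⟩
                  · have t := pc2 q14 c14.out (by have := v1.out; have := qn15.out; have := qn16.out; have := qn17.out; omega)
                    clear c14
                    rcases t with ⟨⟨⟨rfl, rfl⟩, gw14, ⟨rfl, rfl⟩⟩, rfl⟩ | ⟨⟨⟨rfl, rfl⟩, gw14, ⟨rfl, rfl⟩⟩, rfl⟩ | ⟨⟨⟨rfl, rfl⟩, gw14, ⟨rfl, rfl⟩⟩, rfl⟩ | ⟨⟨⟨rfl, rfl⟩, gw14, ⟨rfl, rfl⟩⟩, rfl⟩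
                    · have t := pc2 q15 c15.out (by have := v1.out; have := qn16.out; have := qn17.out; omega)
                      clear c15
                      rcases t with ⟨⟨⟨rfl, rfl⟩, gw15, ⟨rfl, rfl⟩⟩, rfl⟩ | ⟨⟨⟨rfl, rfl⟩, gw15, ⟨rfl, rfl⟩⟩, rfl⟩ | ⟨⟨⟨rfl, rfl⟩, gw15, ⟨rfl, rfl⟩⟩, rfl⟩ | ⟨⟨⟨rfl, rfl⟩, gw15, ⟨rfl, rfl⟩⟩, rfl⟩
                      · have t := pc2 q16 c16.out (by have := v1.out; have := qn17.out; omega)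
                        clear c16
                        rcases t with ⟨⟨⟨rfl, rfl⟩, gw16, ⟨rfl, rfl⟩⟩, rfl⟩ | ⟨⟨⟨rfl, rfl⟩, gw16, ⟨rfl, rfl⟩⟩, rfl⟩ | ⟨⟨⟨rfl, rfl⟩, gw16, ⟨rfl, rfl⟩⟩, rfl⟩ | ⟨⟨⟨rfl, rfl⟩, gw16, ⟨rfl, rfl⟩⟩, rfl⟩
                        · have t := pc2 q17 c17.out (by have := v1.out; omega)
                          clear c17
                          rcases t with ⟨⟨⟨rfl, rfl⟩, gw17, ⟨rfl, rfl⟩⟩, rfl⟩ | ⟨⟨⟨rfl, rfl⟩, gw17, ⟨rfl, rfl⟩⟩, rfl⟩ | ⟨⟨⟨rfl, rfl⟩, gw17, ⟨rfl, rfl⟩⟩, rfl⟩ | ⟨⟨⟨rfl, rfl⟩, gw17, ⟨rfl, rfl⟩⟩, rfl⟩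
                          · have t := pc3 q23 c23.out (by have := v2.out; have := qn24.out; have := qn25.out; have := qn26.out; have := qn27.out; omega)
                            clear c23
                            rcases t with ⟨⟨⟨rfl, rfl⟩, gw23, ⟨rfl, rfl⟩⟩, rfl⟩ | ⟨⟨⟨rfl, rfl⟩, gw23, ⟨rfl, rfl⟩⟩, rfl⟩ | ⟨⟨⟨rfl, rfl⟩, gw23, ⟨rfl, rfl⟩⟩, rfl⟩ | ⟨⟨⟨rfl, rfl⟩, gw23, ⟨rfl, rfl⟩⟩, rfl⟩ | ⟨⟨⟨rfl, rfl⟩, gw23, ⟨rfl, rfl⟩⟩, rfl⟩ | ⟨⟨⟨rfl, rfl⟩, gw23, ⟨rfl, rfl⟩⟩, rfl⟩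
                            · have t := pc3 q24 c24.out (by have := v2.out; have := qn25.out; have := qn26.out; have := qn27.out; omega)
                              clear c24
                              rcases t with ⟨⟨⟨rfl, rfl⟩, gw24, ⟨rfl, rfl⟩⟩, rfl⟩ | ⟨⟨⟨rfl, rfl⟩, gw24, ⟨rfl, rfl⟩⟩, rfl⟩ | ⟨⟨⟨rfl, rfl⟩, gw24, ⟨rfl, rfl⟩⟩, rfl⟩ | ⟨⟨⟨rfl, rfl⟩, gw24, ⟨rfl, rfl⟩⟩, rfl⟩ | ⟨⟨⟨rfl, rfl⟩, gw24, ⟨rfl, rfl⟩⟩, rfl⟩ | ⟨⟨⟨rfl, rfl⟩, gw24, ⟨rfl, rfl⟩⟩, rfl⟩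
                              · have t := pc3 q25 c25.out (by have := v2.out; have := qn26.out; have := qn27.out; omega)
                                clear c25
                                rcases t with ⟨⟨⟨rfl, rfl⟩, gw25, ⟨rfl, rfl⟩⟩, rfl⟩ | ⟨⟨⟨rfl, rfl⟩, gw25, ⟨rfl, rfl⟩⟩, rfl⟩ | ⟨⟨⟨rfl, rfl⟩, gw25, ⟨rfl, rfl⟩⟩, rfl⟩ | ⟨⟨⟨rfl, rfl⟩, gw25, ⟨rfl, rfl⟩⟩, rfl⟩ | ⟨⟨⟨rfl, rfl⟩, gw25, ⟨rfl, rfl⟩⟩, rfl⟩ | ⟨⟨⟨rfl, rfl⟩, gw25, ⟨rfl, rfl⟩⟩, rfl⟩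
                                · have t := pc3 q26 c26.out (by have := v2.out; have := qn27.out; omega)
                                  clear c26
                                  rcases t with ⟨⟨⟨rfl, rfl⟩, gw26, ⟨rfl, rfl⟩⟩, rfl⟩ | ⟨⟨⟨rfl, rfl⟩, gw26, ⟨rfl, rfl⟩⟩, rfl⟩ | ⟨⟨⟨rfl, rfl⟩, gw26, ⟨rfl, rfl⟩⟩, rfl⟩ | ⟨⟨⟨rfl, rfl⟩, gw26, ⟨rfl, rfl⟩⟩, rfl⟩ | ⟨⟨⟨rfl, rfl⟩, gw26, ⟨rfl, rfl⟩⟩, rfl⟩ | ⟨⟨⟨rfl, rfl⟩, gw26, ⟨rfl, rfl⟩⟩, rfl⟩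
                                  · exact part78 T α27 α34 α35 α36 α37 α43 α45 α46 α47 α53 α54 α56 α57 α63 α64 α65 α67 α72 α73 α74 α75 α76 x27 x34 x35 x36 x37 x43 x45 x46 x47 x53 x54 x56 x57 x63 x64 x65 x67 x72 x73 x74 x75 x76 q27 q34 q35 q36 q37 q45 q46 q47 q56 q57 q67 hm0 hm1 hm2 hm3 hm4 hm5 hm6 hm7 om1 om2 om3 om4 om5 om6 om7 e0 e1 e2 e3 e4 e5 e6 e7 r01 r02 r03 r04 r05 r06 r07 r10 r12 r13 r14 r15 r16 r17 r20 r21 r23 r24 r25 r26 r27 r30 r31 r32 r34 r35 r36 r37 r40 r41 r42 r43 r45 r46 r47 r50 r51 r52 r53 r54 r56 r57 r60 r61 r62 r63 r64 r65 r67 r70 r71 r72 r73 r74 r75 r76 hw0 hw1 hw2 hw3 hw4 hw5 hw6 hw7 hs01 hs02 hs03 hs04 hs05 hs06 hs07 hs12 hs13 hs14 hs15 hs16 hs17 hs23 hs24 hs25 hs26 hs27 hs34 hs35 hs36 hs37 hs45 hs46 hs47 hs56 hs57 hs67 ha00 ha11 ha22 ha33 ha44 ha55 ha66 ha77 v0 v1 v2 v3 v4 v5 v6 v7 qn01 qn02 qn03 qn04 qn05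 qn06 qn07 qn12 qn13 qn14 qn15 qn16 qn17 qn23 qn24 qn25 qn26 qn27 qn34 qn35 qn36 qn37 qn45 qn46 qn47 qn56 qn57 qn67 od1 od2 od3 od4 od5 od6 od7 c27 c34 c35 c36 c37 c45 c46 c47 c56 c57 c67 gw01 gw02 gw03 gw04 gw05 gw06 gw07 gw12 gw13 gw14 gw15 gw16 gw17 gw23 gw24 gw25 gw26
                                  · exact part79 T α27 α34 α35 α36 α37 α43 α45 α46 α47 α53 α54 α56 α57 α63 α64 α65 α67 α72 α73 α74 α75 α76 x27 x34 x35 x36 x37 x43 x45 x46 x47 x53 x54 x56 x57 x63 x64 x65 x67 x72 x73 x74 x75 x76 q27 q34 q35 q36 q37 q45 q46 q47 q56 q57 q67 hm0 hm1 hm2 hm3 hm4 hm5 hm6 hm7 om1 om2 om3 om4 om5 om6 om7 e0 e1 e2 e3 e4 e5 e6 e7 r01 r02 r03 r04 r05 r06 r07 r10 r12 r13 r14 r15 r16 r17 r20 r21 r23 r24 r25 r26 r27 r30 r31 r32 r34 r35 r36 r37 r40 r41 r42 r43 r45 r46 r47 r50 r51 r52 r53 r54 r56 r57 r60 r61 r62 r63 r64 r65 r67 r70 r71 r72 r73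 r74 r75 r76 hw0 hw1 hw2 hw3 hw4 hw5 hw6 hw7 hs01 hs02 hs03 hs04 hs05 hs06 hs07 hs12 hs13 hs14 hs15 hs16 hs17 hs23 hs24 hs25 hs26 hs27 hs34 hs35 hs36 hs37 hs45 hs46 hs47 hs56 hs57 hs67 ha00 ha11 ha22 ha33 ha44 ha55 ha66 ha77 v0 v1 v2 v3 v4 v5 v6 v7 qn01 qn02 qn03 qn04 qn05 qn06 qn07 qn12 qn13 qn14 qn15 qn16 qn17 qn23 qn24 qn25 qn26 qn27 qn34 qn35 qn36 qn37 qn45 qn46 qn47 qn56 qn57 qn67 od1 od2 od3 od4 od5 od6 od7 c27 c34 c35 c36 c37 c45 c46 c47 c56 c57 c67 gw01 gw02 gw03 gw04 gw05 gw06 gw07 gw12 gw13 gw14 gw15 gw16 gw17 gw23 gw24 gw25 gw26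
                                  · exact part80 T α27 α34 α35 α36 α37 α43 α45 α46 α47 α53 α54 α56 α57 α63 α64 α65 α67 α72 α73 α74 α75 α76 x27 x34 x35 x36 x37 x43 x45 x46 x47 x53 x54 x56 x57 x63 x64 x65 x67 x72 x73 x74 x75 x76 q27 q34 q35 q36 q37 q45 q46 q47 q56 q57 q67 hm0 hm1 hm2 hm3 hm4 hm5 hm6 hm7 om1 om2 om3 om4 om5 om6 om7 e0 e1 e2 e3 e4 e5 e6 e7 r01 r02 r03 r04 r05 r06 r07 r10 r12 r13 r14 r15 r16 r17 r20 r21 r23 r24 r25 r26 r27 r30 r31 r32 r34 r35 r36 r37 r40 r41 r42 r43 r45 r46 r47 r50 r51 r52 r53 r54 r56 r57 r60 r61 r62 r63 r64 r65 r67 r70 r71 r72 r73 r74 r75 r76 hw0 hw1 hw2 hw3 hw4 hw5 hw6 hw7 hs01 hs02 hs03 hs04 hs05 hs06 hs07 hs12 hs13 hs14 hs15 hs16 hs17 hs23 hs24 hs25 hs26 hs27 hs34 hs35 hs36 hs37 hs45 hs46 hs47 hs56 hs57 hs67 ha00 ha11 ha22 ha33 ha44 ha55 ha66 ha77 v0 v1 v2 v3 v4 v5 v6 v7 qn01 qn02 qn03 qn04 qn05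 qn06 qn07 qn12 qn13 qn14 qn15 qn16 qn17 qn23 qn24 qn25 qn26 qn27 qn34 qn35 qn36 qn37 qn45 qn46 qn47 qn56 qn57 qn67 od1 od2 od3 od4 od5 od6 od7 c27 c34 c35 c36 c37 c45 c46 c47 c56 c57 c67 gw01 gw02 gw03 gw04 gw05 gw06 gw07 gw12 gw13 gw14 gw15 gw16 gw17 gw23 gw24 gw25 gw26
                                  · (have := hm0.out; have := om3.out; have := om6.out; have := e0.out; have := e1.out; have := e2.out; have := r27.out; omega)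
                                  · (have := hm0.out; have := e1.out; have := e2.out; have := r27.out; have := e6.out; have := r63.out; have := r64.out; have := r65.out; have := r67.out; omega)
                                  · (have := hm0.out; have := e1.out; have := e2.out; have := r27.out; have := e6.out; have := r63.out; have := r64.out; have := r65.out; have := r67.out; omega)
                                · exact part81 T α26 α27 α34 α35 α36 α37 α43 α45 α46 α47 α53 α54 α56 α57 α62 α63 α64 α65 α67 α72 α73 α74 α75 α76 x26 x27 x34 x35 x36 x37 x43 x45 x46 x47 x53 x54 x56 x57 x62 x63 x64 x65 x67 x72 x73 x74 x75 x76 q26 q27 q34 q35 q36 q37 q45 q46 q47 q56 q57 q67 hm0 hm1 hm2 hm3 hm4 hm5 hm6 hm7 om1 om2 om3 om4 om5 om6 om7 e0 e1 e2 e3 e4 e5 e6 e7 r01 r02 r03 r04 r05 r06 r07 r10 r12 r13 r14 r15 r16 r17 r20 r21 r23 r24 r25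 r26 r27 r30 r31 r32 r34 r35 r36 r37 r40 r41 r42 r43 r45 r46 r47 r50 r51 r52 r53 r54 r56 r57 r60 r61 r62 r63 r64 r65 r67 r70 r71 r72 r73 r74 r75 r76 hw0 hw1 hw2 hw3 hw4 hw5 hw6 hw7 hs01 hs02 hs03 hs04 hs05 hs06 hs07 hs12 hs13 hs14 hs15 hs16 hs17 hs23 hs24 hs25 hs26 hs27 hs34 hs35 hs36 hs37 hs45 hs46 hs47 hs56 hs57 hs67 ha00 ha11 ha22 ha33 ha44 ha55 ha66 ha77 v0 v1 v2 v3 v4 v5 v6 v7 qn01 qn02 qn03 qn04 qn05 qn06 qn07 qn12 qn13 qn14 qn15 qn16 qn17 qn23 qn24 qn25 qn26 qn27 qn34 qn35 qn36 qn37 qn45 qn46 qn47 qn56 qn57 qn67 od1 od2 od3 od4 od5 od6 od7 c26 c27 c34 c35 c36 c37 c45 c46 c47 c56 c57 c67 gw01 gw02 gw03 gw04 gw05 gw06 gw07 gw12 gw13 gw14 gw15 gw16 gw17 gw23 gw24 gw25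
                                · exact part82 T α26 α27 α34 α35 α36 α37 α43 α45 α46 α47 α53 α54 α56 α57 α62 α63 α64 α65 α67 α72 α73 α74 α75 α76 x26 x27 x34 x35 x36 x37 x43 x45 x46 x47 x53 x54 x56 x57 x62 x63 x64 x65 x67 x72 x73 x74 x75 x76 q26 q27 q34 q35 q36 q37 q45 q46 q47 q56 q57 q67 hm0 hm1 hm2 hm3 hm4 hm5 hm6 hm7 om1 om2 om3 om4 om5 om6 om7 e0 e1 e2 e3 e4 e5 e6 e7 r01 r02 r03 r04 r05 r06 r07 r10 r12 r13 r14 r15 r16 r17 r20 r21 r23 r24 r25 r26 r27 r30 r31 r32 r34 r35 r36 r37 r40 r41 r42 r43 r45 r46 r47 r50 r51 r52 r53 r54 r56 r57 r60 r61 r62 r63 r64 r65 r67 r70 r71 r72 r73 r74 r75 r76 hw0 hw1 hw2 hw3 hw4 hw5 hw6 hw7 hs01 hs02 hs03 hs04 hs05 hs06 hs07 hs12 hs13 hs14 hs15 hs16 hs17 hs23 hs24 hs25 hs26 hs27 hs34 hs35 hs36 hs37 hs45 hs46 hs47 hs56 hs57 hs67 ha00 ha11 ha22 ha33 ha44 ha55 ha66 ha77 v0 v1 v2 v3 v4 v5 v6 v7 qn01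 qn02 qn03 qn04 qn05 qn06 qn07 qn12 qn13 qn14 qn15 qn16 qn17 qn23 qn24 qn25 qn26 qn27 qn34 qn35 qn36 qn37 qn45 qn46 qn47 qn56 qn57 qn67 od1 od2 od3 od4 od5 od6 od7 c26 c27 c34 c35 c36 c37 c45 c46 c47 c56 c57 c67 gw01 gw02 gw03 gw04 gw05 gw06 gw07 gw12 gw13 gw14 gw15 gw16 gw17 gw23 gw24 gw25
                                · (have := hm0.out; have := om3.out; have := om5.out; have := e0.out; have := e1.out; have := e2.out; have := r26.out; have := r27.out; omega)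
                                · (have := hm0.out; have := e1.out; have := e2.out; have := r26.out; have := r27.out; have := e5.out; have := r53.out; have := r54.out; have := r56.out; have := r57.out; omega)
                                · (have := hm0.out; have := e1.out; have := e2.out; have := r26.out; have := r27.out; have := e5.out; have := r53.out; have := r54.out; have := r56.out; have := r57.out; omega)
                              · have t := pc2 q25 c25.out (by have := v2.out; have := qn26.out; have := qn27.out; omega)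
                                clear c25
                                rcases t with ⟨⟨⟨rfl, rfl⟩, gw25, ⟨rfl, rfl⟩⟩, rfl⟩ | ⟨⟨⟨rfl, rfl⟩, gw25, ⟨rfl, rfl⟩⟩, rfl⟩ | ⟨⟨⟨rfl, rfl⟩, gw25, ⟨rfl, rfl⟩⟩, rfl⟩ | ⟨⟨⟨rfl, rfl⟩, gw25, ⟨rfl, rfl⟩⟩, rfl⟩
                                · have t := pc2 q26 c26.out (by have := v2.out; have := qn27.out; omega)
                                  clear c26
                                  rcases t with ⟨⟨⟨rfl, rfl⟩, gw26, ⟨rfl, rfl⟩⟩, rfl⟩ | ⟨⟨⟨rfl, rfl⟩, gw26, ⟨rfl, rfl⟩⟩, rfl⟩ | ⟨⟨⟨rfl, rfl⟩, gw26, ⟨rfl, rfl⟩⟩, rfl⟩ | ⟨⟨⟨rfl, rfl⟩, gw26, ⟨rfl, rfl⟩⟩, rfl⟩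
                                  · have t := pc2 q27 c27.out (by have := v2.out; omega)
                                    clear c27
                                    rcases t with ⟨⟨⟨rfl, rfl⟩, gw27, ⟨rfl, rfl⟩⟩, rfl⟩ | ⟨⟨⟨rfl, rfl⟩, gw27, ⟨rfl, rfl⟩⟩, rfl⟩ | ⟨⟨⟨rfl, rfl⟩, gw27, ⟨rfl, rfl⟩⟩, rfl⟩ | ⟨⟨⟨rfl, rfl⟩, gw27, ⟨rfl, rfl⟩⟩, rfl⟩
                                    · have t := pc3 q34 c34.out (by have := v3.out; have := qn35.out; have := qn36.out; have := qn37.out; omega)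
                                      clear c34
                                      rcases t with ⟨⟨⟨rfl, rfl⟩, gw34, ⟨rfl, rfl⟩⟩, rfl⟩ | ⟨⟨⟨rfl, rfl⟩, gw34, ⟨rfl, rfl⟩⟩, rfl⟩ | ⟨⟨⟨rfl, rfl⟩, gw34, ⟨rfl, rfl⟩⟩, rfl⟩ | ⟨⟨⟨rfl, rfl⟩, gw34, ⟨rfl, rfl⟩⟩, rfl⟩ | ⟨⟨⟨rfl, rfl⟩, gw34, ⟨rfl, rfl⟩⟩, rfl⟩ | ⟨⟨⟨rfl, rfl⟩, gw34, ⟨rfl, rfl⟩⟩, rfl⟩
                                      · have t := pc3 q35 c35.out (by have := v3.out; have := qn36.out; have := qn37.out; omega)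
                                        clear c35
                                        rcases t with ⟨⟨⟨rfl, rfl⟩, gw35, ⟨rfl, rfl⟩⟩, rfl⟩ | ⟨⟨⟨rfl, rfl⟩, gw35, ⟨rfl, rfl⟩⟩, rfl⟩ | ⟨⟨⟨rfl, rfl⟩, gw35, ⟨rfl, rfl⟩⟩, rfl⟩ | ⟨⟨⟨rfl, rfl⟩, gw35, ⟨rfl, rfl⟩⟩, rfl⟩ | ⟨⟨⟨rfl, rfl⟩, gw35, ⟨rfl, rfl⟩⟩, rfl⟩ | ⟨⟨⟨rfl, rfl⟩, gw35, ⟨rfl, rfl⟩⟩, rfl⟩
                                        · exact part83 T α36 α37 α45 α46 α47 α54 α56 α57 α63 α64 α65 α67 α73 α74 α75 α76 x36 x37 x45 x46 x47 x54 x56 x57 x63 x64 x65 x67 x73 x74 x75 x76 q36 q37 q45 q46 q47 q56 q57 q67 hm0 hm1 hm2 hm3 hm4 hm5 hm6 hm7 om1 om2 om3 om4 om5 om6 om7 e0 e1 e2 e3 e4 e5 e6 e7 r01 r02 r03 r04 r05 r06 r07 r10 r12 r13 r14 r15 r16 r17 r20 r21 r23 r24 r25 r26 r27 r30 r31 r32 r34 r35 r36 r37 r40 r41 r42 r43 r45 r46 r47 r50 r51 r52 r53 r54 r56 r57 r60 r61 r62 r63 r64 r65 r67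 r70 r71 r72 r73 r74 r75 r76 hw0 hw1 hw2 hw3 hw4 hw5 hw6 hw7 hs01 hs02 hs03 hs04 hs05 hs06 hs07 hs12 hs13 hs14 hs15 hs16 hs17 hs23 hs24 hs25 hs26 hs27 hs34 hs35 hs36 hs37 hs45 hs46 hs47 hs56 hs57 hs67 ha00 ha11 ha22 ha33 ha44 ha55 ha66 ha77 v0 v1 v2 v3 v4 v5 v6 v7 qn01 qn02 qn03 qn04 qn05 qn06 qn07 qn12 qn13 qn14 qn15 qn16 qn17 qn23 qn24 qn25 qn26 qn27 qn34 qn35 qn36 qn37 qn45 qn46 qn47 qn56 qn57 qn67 od1 od2 od3 od4 od5 od6 od7 c36 c37 c45 c46 c47 c56 c57 c67 gw01 gw02 gw03 gw04 gw05 gw06 gw07 gw12 gw13 gw14 gw15 gw16 gw17 gw23 gw24 gw25 gw26 gw27 gw34 gw35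
                                        · exact part84 T α36 α37 α45 α46 α47 α54 α56 α57 α63 α64 α65 α67 α73 α74 α75 α76 x36 x37 x45 x46 x47 x54 x56 x57 x63 x64 x65 x67 x73 x74 x75 x76 q36 q37 q45 q46 q47 q56 q57 q67 hm0 hm1 hm2 hm3 hm4 hm5 hm6 hm7 om1 om2 om3 om4 om5 om6 om7 e0 e1 e2 e3 e4 e5 e6 e7 r01 r02 r03 r04 r05 r06 r07 r10 r12 r13 r14 r15 r16 r17 r20 r21 r23 r24 r25 r26 r27 r30 r31 r32 r34 r35 r36 r37 r40 r41 r42 r43 r45 r46 r47 r50 r51 r52 r53 r54 r56 r57 r60 r61 r62 r63 r64 r65 r67 r70 r71 r72 r73 r74 r75 r76 hw0 hw1 hw2 hw3 hw4 hw5 hw6 hw7 hs01 hs02 hs03 hs04 hs05 hs06 hs07 hs12 hs13 hs14 hs15 hs16 hs17 hs23 hs24 hs25 hs26 hs27 hs34 hs35 hs36 hs37 hs45 hs46 hs47 hs56 hs57 hs67 ha00 ha11 ha22 ha33 ha44 ha55 ha66 ha77 v0 v1 v2 v3 v4 v5 v6 v7 qn01 qn02 qn03 qn04 qn05 qn06 qn07 qn12 qn13 qn14 qn15 qn16 qn17 qn23 qn24 qn25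 qn26 qn27 qn34 qn35 qn36 qn37 qn45 qn46 qn47 qn56 qn57 qn67 od1 od2 od3 od4 od5 od6 od7 c36 c37 c45 c46 c47 c56 c57 c67 gw01 gw02 gw03 gw04 gw05 gw06 gw07 gw12 gw13 gw14 gw15 gw16 gw17 gw23 gw24 gw25 gw26 gw27 gw34 gw35
                                        · exact part85 T α36 α37 α45 α46 α47 α54 α56 α57 α63 α64 α65 α67 α73 α74 α75 α76 x36 x37 x45 x46 x47 x54 x56 x57 x63 x64 x65 x67 x73 x74 x75 x76 q36 q37 q45 q46 q47 q56 q57 q67 hm0 hm1 hm2 hm3 hm4 hm5 hm6 hm7 om1 om2 om3 om4 om5 om6 om7 e0 e1 e2 e3 e4 e5 e6 e7 r01 r02 r03 r04 r05 r06 r07 r10 r12 r13 r14 r15 r16 r17 r20 r21 r23 r24 r25 r26 r27 r30 r31 r32 r34 r35 r36 r37 r40 r41 r42 r43 r45 r46 r47 r50 r51 r52 r53 r54 r56 r57 r60 r61 r62 r63 r64 r65 r67 r70 r71 r72 r73 r74 r75 r76 hw0 hw1 hw2 hw3 hw4 hw5 hw6 hw7 hs01 hs02 hs03 hs04 hs05 hs06 hs07 hs12 hs13 hs14 hs15 hs16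 hs17 hs23 hs24 hs25 hs26 hs27 hs34 hs35 hs36 hs37 hs45 hs46 hs47 hs56 hs57 hs67 ha00 ha11 ha22 ha33 ha44 ha55 ha66 ha77 v0 v1 v2 v3 v4 v5 v6 v7 qn01 qn02 qn03 qn04 qn05 qn06 qn07 qn12 qn13 qn14 qn15 qn16 qn17 qn23 qn24 qn25 qn26 qn27 qn34 qn35 qn36 qn37 qn45 qn46 qn47 qn56 qn57 qn67 od1 od2 od3 od4 od5 od6 od7 c36 c37 c45 c46 c47 c56 c57 c67 gw01 gw02 gw03 gw04 gw05 gw06 gw07 gw12 gw13 gw14 gw15 gw16 gw17 gw23 gw24 gw25 gw26 gw27 gw34 gw35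
                                        · (have := hm2.out; have := om5.out; have := e0.out; have := e1.out; have := e3.out; have := r36.out; have := r37.out; omega)
                                        · (have := hm1.out; have := e0.out; have := e3.out; have := r36.out; have := r37.out; have := e5.out; have := r54.out; have := r56.out; have := r57.out; omega)
                                        · (have := hm1.out; have := om5.out; have := e0.out; have := e3.out; have := r36.out; have := r37.out; omega)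
                                      · exact part86 T α35 α36 α37 α45 α46 α47 α53 α54 α56 α57 α63 α64 α65 α67 α73 α74 α75 α76 x35 x36 x37 x45 x46 x47 x53 x54 x56 x57 x63 x64 x65 x67 x73 x74 x75 x76 q35 q36 q37 q45 q46 q47 q56 q57 q67 hm0 hm1 hm2 hm3 hm4 hm5 hm6 hm7 om1 om2 om3 om4 om5 om6 om7 e0 e1 e2 e3 e4 e5 e6 e7 r01 r02 r03 r04 r05 r06 r07 r10 r12 r13 r14 r15 r16 r17 r20 r21 r23 r24 r25 r26 r27 r30 r31 r32 r34 r35 r36 r37 r40 r41 r42 r43 r45 r46 r47 r50 r51 r52 r53 r54 r56 r57 r60 r61 r62 r63 r64 r65 r67 r70 r71 r72 r73 r74 r75 r76 hw0 hw1 hw2 hw3 hw4 hw5 hw6 hw7 hs01 hs02 hs03 hs04 hs05 hs06 hs07 hs12 hs13 hs14 hs15 hs16 hs17 hs23 hs24 hs25 hs26 hs27 hs34 hs35 hs36 hs37 hs45 hs46 hs47 hs56 hs57 hs67 ha00 ha11 ha22 ha33 ha44 ha55 ha66 ha77 v0 v1 v2 v3 v4 v5 v6 v7 qn01 qn02 qn03 qn04 qn05 qn06 qn07 qn12 qn13 qn14 qn15 qn16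 qn17 qn23 qn24 qn25 qn26 qn27 qn34 qn35 qn36 qn37 qn45 qn46 qn47 qn56 qn57 qn67 od1 od2 od3 od4 od5 od6 od7 c35 c36 c37 c45 c46 c47 c56 c57 c67 gw01 gw02 gw03 gw04 gw05 gw06 gw07 gw12 gw13 gw14 gw15 gw16 gw17 gw23 gw24 gw25 gw26 gw27 gw34
                                      · (have := hm1.out; have := om1.out; have := e0.out; have := e2.out; have := e3.out; have := r35.out; have := r36.out; have := r37.out; have := e4.out; have := r45.out; have := r46.out; have := r47.out; omega)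
                                      · (have := hm0.out; have := om1.out; have := om4.out; have := e0.out; have := e3.out; have := r35.out; have := r36.out; have := r37.out; omega)
                                      · (have := hm1.out; have := hm2.out; have := e0.out; have := e3.out; have := r35.out; have := r36.out; have := r37.out; have := e4.out; have := r45.out; have := r46.out; have := r47.out; omega)
                                      · (have := hm1.out; have := om4.out; have := e0.out; have := e3.out; have := r35.out; have := r36.out; have := r37.out; omega)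
                                    · (have := hm4.out; have := om3.out; have := om7.out; have := e0.out; have := e1.out; have := e2.out; omega)
                                    · (have := hm4.out; have := om3.out; have := om7.out; have := e0.out; have := e1.out; have := e2.out; omega)
                                    · (have := hm7.out; have := om3.out; have := om4.out; have := e0.out; have := e1.out; have := e2.out; omega)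
                                  · (have := hm4.out; have := om3.out; have := om6.out; have := e0.out; have := e1.out; have := e2.out; have := r27.out; omega)
                                  · (have := hm4.out; have := om3.out; have := om6.out; have := e0.out; have := e1.out; have := e2.out; have := r27.out; omega)
                                  · (have := hm6.out; have := om3.out; have := om4.out; have := e0.out; have := e1.out; have := e2.out; have := r27.out; omega)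
                                · (have := hm4.out; have := om3.out; have := om5.out; have := e0.out; have := e1.out; have := e2.out; have := r26.out; have := r27.out; omega)
                                · (have := hm4.out; have := om3.out; have := om5.out; have := e0.out; have := e1.out; have := e2.out; have := r26.out; have := r27.out; omega)
                                · (have := hm5.out; have := om3.out; have := om4.out; have := e0.out; have := e1.out; have := e2.out; have := r26.out; have := r27.out; omega)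
                              · exact part87 T α25 α26 α27 α34 α35 α36 α37 α43 α45 α46 α47 α52 α53 α54 α56 α57 α62 α63 α64 α65 α67 α72 α73 α74 α75 α76 x25 x26 x27 x34 x35 x36 x37 x43 x45 x46 x47 x52 x53 x54 x56 x57 x62 x63 x64 x65 x67 x72 x73 x74 x75 x76 q25 q26 q27 q34 q35 q36 q37 q45 q46 q47 q56 q57 q67 hm0 hm1 hm2 hm3 hm4 hm5 hm6 hm7 om1 om2 om3 om4 om5 om6 om7 e0 e1 e2 e3 e4 e5 e6 e7 r01 r02 r03 r04 r05 r06 r07 r10 r12 r13 r14 r15 r16 r17 r20 r21 r23 r24 r25 r26 r27 r30 r31 r32 r34 r35 r36 r37 r40 r41 r42 r43 r45 r46 r47 r50 r51 r52 r53 r54 r56 r57 r60 r61 r62 r63 r64 r65 r67 r70 r71 r72 r73 r74 r75 r76 hw0 hw1 hw2 hw3 hw4 hw5 hw6 hw7 hs01 hs02 hs03 hs04 hs05 hs06 hs07 hs12 hs13 hs14 hs15 hs16 hs17 hs23 hs24 hs25 hs26 hs27 hs34 hs35 hs36 hs37 hs45 hs46 hs47 hs56 hs57 hs67 ha00 ha11 ha22 ha33 ha44 ha55 ha66 ha77 v0 v1 v2 v3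 v4 v5 v6 v7 qn01 qn02 qn03 qn04 qn05 qn06 qn07 qn12 qn13 qn14 qn15 qn16 qn17 qn23 qn24 qn25 qn26 qn27 qn34 qn35 qn36 qn37 qn45 qn46 qn47 qn56 qn57 qn67 od1 od2 od3 od4 od5 od6 od7 c25 c26 c27 c34 c35 c36 c37 c45 c46 c47 c56 c57 c67 gw01 gw02 gw03 gw04 gw05 gw06 gw07 gw12 gw13 gw14 gw15 gw16 gw17 gw23 gw24
                              · (have := hm0.out; have := om3.out; have := om4.out; have := e0.out; have := e1.out; have := e2.out; have := r25.out; have := r26.out; have := r27.out; omega)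
                              · (have := hm0.out; have := e1.out; have := e2.out; have := r25.out; have := r26.out; have := r27.out; have := e4.out; have := r43.out; have := r45.out; have := r46.out; have := r47.out; omega)
                              · (have := hm0.out; have := e1.out; have := e2.out; have := r25.out; have := r26.out; have := r27.out; have := e4.out; have := r43.out; have := r45.out; have := r46.out; have := r47.out; omega)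
                            · exact part88 T α24 α25 α26 α27 α34 α35 α36 α37 α42 α43 α45 α46 α47 α52 α53 α54 α56 α57 α62 α63 α64 α65 α67 α72 α73 α74 α75 α76 x24 x25 x26 x27 x34 x35 x36 x37 x42 x43 x45 x46 x47 x52 x53 x54 x56 x57 x62 x63 x64 x65 x67 x72 x73 x74 x75 x76 q24 q25 q26 q27 q34 q35 q36 q37 q45 q46 q47 q56 q57 q67 hm0 hm1 hm2 hm3 hm4 hm5 hm6 hm7 om1 om2 om3 om4 om5 om6 om7 e0 e1 e2 e3 e4 e5 e6 e7 r01 r02 r03 r04 r05 r06 r07 r10 r12 r13 r14 r15 r16 r17 r20 r21 r23 r24 r25 r26 r27 r30 r31 r32 r34 r35 r36 r37 r40 r41 r42 r43 r45 r46 r47 r50 r51 r52 r53 r54 r56 r57 r60 r61 r62 r63 r64 r65 r67 r70 r71 r72 r73 r74 r75 r76 hw0 hw1 hw2 hw3 hw4 hw5 hw6 hw7 hs01 hs02 hs03 hs04 hs05 hs06 hs07 hs12 hs13 hs14 hs15 hs16 hs17 hs23 hs24 hs25 hs26 hs27 hs34 hs35 hs36 hs37 hs45 hs46 hs47 hs56 hs57 hs67 ha00 ha11 ha22 ha33 ha44 ha55 ha66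 ha77 v0 v1 v2 v3 v4 v5 v6 v7 qn01 qn02 qn03 qn04 qn05 qn06 qn07 qn12 qn13 qn14 qn15 qn16 qn17 qn23 qn24 qn25 qn26 qn27 qn34 qn35 qn36 qn37 qn45 qn46 qn47 qn56 qn57 qn67 od1 od2 od3 od4 od5 od6 od7 c24 c25 c26 c27 c34 c35 c36 c37 c45 c46 c47 c56 c57 c67 gw01 gw02 gw03 gw04 gw05 gw06 gw07 gw12 gw13 gw14 gw15 gw16 gw17 gw23
                            · (have := hm2.out; have := om2.out; have := e0.out; have := e1.out; have := e3.out; have := r34.out; have := r35.out; have := r36.out; have := r37.out; omega)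
                            · (have := hm3.out; have := e0.out; have := e1.out; have := e2.out; have := r24.out; have := r25.out; have := r26.out; have := r27.out; have := e3.out; have := r34.out; have := r35.out; have := r36.out; have := r37.out; omega)
                            · (have := hm0.out; have := e1.out; have := e2.out; have := r24.out; have := r25.out; have := r26.out; have := r27.out; have := e3.out; have := r34.out; have := r35.out; have := r36.out; have := r37.out; omega)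
                            · (have := hm0.out; have := e1.out; have := e2.out; have := r24.out; have := r25.out; have := r26.out; have := r27.out; have := e3.out; have := r34.out; have := r35.out; have := r36.out; have := r37.out; omega)
                          · (have := hm2.out; have := om3.out; have := om7.out; have := e0.out; have := e1.out; omega)
                          · (have := hm2.out; have := om3.out; have := om7.out; have := e0.out; have := e1.out; omega)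
                          · (have := hm3.out; have := om2.out; have := om7.out; have := e0.out; have := e1.out; omega)
                        · (have := hm2.out; have := om3.out; have := om6.out; have := e0.out; have := e1.out; have := r17.out; omega)
                        · (have := hm2.out; have := om3.out; have := om6.out; have := e0.out; have := e1.out; have := r17.out; omega)
                        · (have := hm3.out; have := om2.out; have := om6.out; have := e0.out; have := e1.out; have := r17.out; omega)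
                      · (have := hm2.out; have := om3.out; have := om5.out; have := e0.out; have := e1.out; have := r16.out; have := r17.out; omega)
                      · (have := hm2.out; have := om3.out; have := om5.out; have := e0.out; have := e1.out; have := r16.out; have := r17.out; omega)
                      · (have := hm3.out; have := om2.out; have := om5.out; have := e0.out; have := e1.out; have := r16.out; have := r17.out; omega)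
                    · (have := hm2.out; have := om3.out; have := om4.out; have := e0.out; have := e1.out; have := r15.out; have := r16.out; have := r17.out; omega)
                    · (have := hm2.out; have := om3.out; have := om4.out; have := e0.out; have := e1.out; have := r15.out; have := r16.out; have := r17.out; omega)
                    · (have := hm3.out; have := om2.out; have := om4.out; have := e0.out; have := e1.out; have := r15.out; have := r16.out; have := r17.out; omega)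
                  · (have := hm2.out; have := om3.out; have := e0.out; have := e1.out; have := r14.out; have := r15.out; have := r16.out; have := r17.out; omega)
                  · (have := hm2.out; have := om3.out; have := e0.out; have := e1.out; have := r14.out; have := r15.out; have := r16.out; have := r17.out; omega)
                  · (have := hm1.out; have := om2.out; have := e0.out; have := e1.out; have := r14.out; have := r15.out; have := r16.out; have := r17.out; have := e3.out; have := r32.out; have := r34.out; have := r35.out; have := r36.out; have := r37.out; omega)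
                · exact part89 T α13 α14 α15 α16 α17 α23 α24 α25 α26 α27 α31 α32 α34 α35 α36 α37 α41 α42 α43 α45 α46 α47 α51 α52 α53 α54 α56 α57 α61 α62 α63 α64 α65 α67 α71 α72 α73 α74 α75 α76 x13 x14 x15 x16 x17 x23 x24 x25 x26 x27 x31 x32 x34 x35 x36 x37 x41 x42 x43 x45 x46 x47 x51 x52 x53 x54 x56 x57 x61 x62 x63 x64 x65 x67 x71 x72 x73 x74 x75 x76 q13 q14 q15 q16 q17 q23 q24 q25 q26 q27 q34 q35 q36 q37 q45 q46 q47 q56 q57 q67 hm0 hm1 hm2 hm3 hm4 hm5 hm6 hm7 om1 om2 om3 om4 om5 om6 om7 e0 e1 e2 e3 e4 e5 e6 e7 r01 r02 r03 r04 r05 r06 r07 r10 r12 r13 r14 r15 r16 r17 r20 r21 r23 r24 r25 r26 r27 r30 r31 r32 r34 r35 r36 r37 r40 r41 r42 r43 r45 r46 r47 r50 r51 r52 r53 r54 r56 r57 r60 r61 r62 r63 r64 r65 r67 r70 r71 r72 r73 r74 r75 r76 hw0 hw1 hw2 hw3 hw4 hw5 hw6 hw7 hs01 hs02 hs03 hs04 hs05 hs06 hs07 hs12 hs13 hs14 hs15 hs16 hs17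 hs23 hs24 hs25 hs26 hs27 hs34 hs35 hs36 hs37 hs45 hs46 hs47 hs56 hs57 hs67 ha00 ha11 ha22 ha33 ha44 ha55 ha66 ha77 v0 v1 v2 v3 v4 v5 v6 v7 qn01 qn02 qn03 qn04 qn05 qn06 qn07 qn12 qn13 qn14 qn15 qn16 qn17 qn23 qn24 qn25 qn26 qn27 qn34 qn35 qn36 qn37 qn45 qn46 qn47 qn56 qn57 qn67 od1 od2 od3 od4 od5 od6 od7 c13 c14 c15 c16 c17 c23 c24 c25 c26 c27 c34 c35 c36 c37 c45 c46 c47 c56 c57 c67 gw01 gw02 gw03 gw04 gw05 gw06 gw07 gw12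
                · (have := hm3.out; have := om2.out; have := om3.out; have := e0.out; have := e1.out; have := r13.out; have := r14.out; have := r15.out; have := r16.out; have := r17.out; omega)
                · (have := hm3.out; have := e0.out; have := e1.out; have := r13.out; have := r14.out; have := r15.out; have := r16.out; have := r17.out; have := e2.out; have := r23.out; have := r24.out; have := r25.out; have := r26.out; have := r27.out; omega)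
                · (have := hm3.out; have := om2.out; have := e0.out; have := e1.out; have := r13.out; have := r14.out; have := r15.out; have := r16.out; have := r17.out; omega)
              · (have := hm1.out; have := om3.out; have := om7.out; have := e0.out; omega)
              · (have := hm1.out; have := om3.out; have := om7.out; have := e0.out; omega)
              · (have := hm1.out; have := om3.out; have := e0.out; have := e7.out; have := r71.out; have := r72.out; have := r73.out; have := r74.out; have := r75.out; have := r76.out; omega)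
            · (have := hm1.out; have := om3.out; have := om6.out; have := e0.out; have := r07.out; omega)
            · (have := hm1.out; have := om3.out; have := om6.out; have := e0.out; have := r07.out; omega)
            · (have := hm1.out; have := om3.out; have := e0.out; have := r07.out; have := e6.out; have := r61.out; have := r62.out; have := r63.out; have := r64.out; have := r65.out; have := r67.out; omega)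
          · (have := hm1.out; have := om3.out; have := om5.out; have := e0.out; have := r06.out; have := r07.out; omega)
          · (have := hm1.out; have := om3.out; have := om5.out; have := e0.out; have := r06.out; have := r07.out; omega)
          · (have := hm1.out; have := om3.out; have := e0.out; have := r06.out; have := r07.out; have := e5.out; have := r51.out; have := r52.out; have := r53.out; have := r54.out; have := r56.out; have := r57.out; omega)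
        · (have := hm1.out; have := om3.out; have := om4.out; have := e0.out; have := r05.out; have := r06.out; have := r07.out; omega)
        · (have := hm1.out; have := om3.out; have := om4.out; have := e0.out; have := r05.out; have := r06.out; have := r07.out; omega)
        · (have := hm1.out; have := om3.out; have := e0.out; have := r05.out; have := r06.out; have := r07.out; have := e4.out; have := r41.out; have := r42.out; have := r43.out; have := r45.out; have := r46.out; have := r47.out; omega)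
      · have t := pc1 q04 c04.out (by have := v0.out; have := qn05.out; have := qn06.out; have := qn07.out; omega)
        clear c04
        rcases t with ⟨⟨⟨rfl, rfl⟩, gw04, ⟨rfl, rfl⟩⟩, rfl⟩ | ⟨⟨⟨rfl, rfl⟩, gw04, ⟨rfl, rfl⟩⟩, rfl⟩
        · exact part90 T α05 α06 α07 α12 α13 α14 α15 α16 α17 α21 α23 α24 α25 α26 α27 α31 α32 α34 α35 α36 α37 α41 α42 α43 α45 α46 α47 α50 α51 α52 α53 α54 α56 α57 α60 α61 α62 α63 α64 α65 α67 α70 α71 α72 α73 α74 α75 α76 x05 x06 x07 x12 x13 x14 x15 x16 x17 x21 x23 x24 x25 x26 x27 x31 x32 x34 x35 x36 x37 x41 x42 x43 x45 x46 x47 x50 x51 x52 x53 x54 x56 x57 x60 x61 x62 x63 x64 x65 x67 x70 x71 x72 x73 x74 x75 x76 q05 q06 q07 q12 q13 q14 q15 q16 q17 q23 q24 q25 q26 q27 q34 q35 q36 q37 q45 q46 q47 q56 q57 q67 hm0 hm1 hm2 hm3 hm4 hm5 hm6 hm7 om1 om2 om3 om4 om5 om6 om7 e0 e1 e2 e3 e4 e5 e6 e7 r01 r02 r03 r04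 r05 r06 r07 r10 r12 r13 r14 r15 r16 r17 r20 r21 r23 r24 r25 r26 r27 r30 r31 r32 r34 r35 r36 r37 r40 r41 r42 r43 r45 r46 r47 r50 r51 r52 r53 r54 r56 r57 r60 r61 r62 r63 r64 r65 r67 r70 r71 r72 r73 r74 r75 r76 hw0 hw1 hw2 hw3 hw4 hw5 hw6 hw7 hs01 hs02 hs03 hs04 hs05 hs06 hs07 hs12 hs13 hs14 hs15 hs16 hs17 hs23 hs24 hs25 hs26 hs27 hs34 hs35 hs36 hs37 hs45 hs46 hs47 hs56 hs57 hs67 ha00 ha11 ha22 ha33 ha44 ha55 ha66 ha77 v0 v1 v2 v3 v4 v5 v6 v7 qn01 qn02 qn03 qn04 qn05 qn06 qn07 qn12 qn13 qn14 qn15 qn16 qn17 qn23 qn24 qn25 qn26 qn27 qn34 qn35 qn36 qn37 qn45 qn46 qn47 qn56 qn57 qn67 od1 od2 od3 od4 od5 od6 od7 c05 c06 c07 c12 c13 c14 c15 c16 c17 c23 c24 c25 c26 c27 c34 c35 c36 c37 c45 c46 c47 c56 c57 c67 gw01 gw02 gw03 gw04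
        · (have := hm1.out; have := om3.out; have := om4.out; have := e0.out; have := r05.out; have := r06.out; have := r07.out; omega)
      · (have := hm1.out; have := om3.out; have := e0.out; have := r04.out; have := r05.out; have := r06.out; have := r07.out; omega)
      · (have := hm3.out; have := om1.out; have := e0.out; have := r04.out; have := r05.out; have := r06.out; have := r07.out; have := e3.out; have := r31.out; have := r32.out; have := r34.out; have := r35.out; have := r36.out; have := r37.out; omega)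
      · (have := hm3.out; have := om1.out; have := om3.out; have := e0.out; have := r04.out; have := r05.out; have := r06.out; have := r07.out; omega)
    · have t := pc2 q03 c03.out (by have := v0.out; have := qn04.out; have := qn05.out; have := qn06.out; have := qn07.out; omega)
      clear c03
      rcases t with ⟨⟨⟨rfl, rfl⟩, gw03, ⟨rfl, rfl⟩⟩, rfl⟩ | ⟨⟨⟨rfl, rfl⟩, gw03, ⟨rfl, rfl⟩⟩, rfl⟩ | ⟨⟨⟨rfl, rfl⟩, gw03, ⟨rfl, rfl⟩⟩, rfl⟩ | ⟨⟨⟨rfl, rfl⟩, gw03, ⟨rfl, rfl⟩⟩, rfl⟩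
      · have t := pc2 q04 c04.out (by have := v0.out; have := qn05.out; have := qn06.out; have := qn07.out; omega)
        clear c04
        rcases t with ⟨⟨⟨rfl, rfl⟩, gw04, ⟨rfl, rfl⟩⟩, rfl⟩ | ⟨⟨⟨rfl, rfl⟩, gw04, ⟨rfl, rfl⟩⟩, rfl⟩ | ⟨⟨⟨rfl, rfl⟩, gw04, ⟨rfl, rfl⟩⟩, rfl⟩ | ⟨⟨⟨rfl, rfl⟩, gw04, ⟨rfl, rfl⟩⟩, rfl⟩
        · have t := pc2 q05 c05.out (by have := v0.out; have := qn06.out; have := qn07.out; omega)
          clear c05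
          rcases t with ⟨⟨⟨rfl, rfl⟩, gw05, ⟨rfl, rfl⟩⟩, rfl⟩ | ⟨⟨⟨rfl, rfl⟩, gw05, ⟨rfl, rfl⟩⟩, rfl⟩ | ⟨⟨⟨rfl, rfl⟩, gw05, ⟨rfl, rfl⟩⟩, rfl⟩ | ⟨⟨⟨rfl, rfl⟩, gw05, ⟨rfl, rfl⟩⟩, rfl⟩
          · have t := pc2 q06 c06.out (by have := v0.out; have := qn07.out; omega)
            clear c06
            rcases t with ⟨⟨⟨rfl, rfl⟩, gw06, ⟨rfl, rfl⟩⟩, rfl⟩ | ⟨⟨⟨rfl, rfl⟩, gw06, ⟨rfl, rfl⟩⟩, rfl⟩ | ⟨⟨⟨rfl, rfl⟩, gw06, ⟨rfl, rfl⟩⟩, rfl⟩ | ⟨⟨⟨rfl, rfl⟩, gw06, ⟨rfl, rfl⟩⟩, rfl⟩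
            · have t := pc2 q07 c07.out (by have := v0.out; omega)
              clear c07
              rcases t with ⟨⟨⟨rfl, rfl⟩, gw07, ⟨rfl, rfl⟩⟩, rfl⟩ | ⟨⟨⟨rfl, rfl⟩, gw07, ⟨rfl, rfl⟩⟩, rfl⟩ | ⟨⟨⟨rfl, rfl⟩, gw07, ⟨rfl, rfl⟩⟩, rfl⟩ | ⟨⟨⟨rfl, rfl⟩, gw07, ⟨rfl, rfl⟩⟩, rfl⟩
              · have t := pc3 q12 c12.out (by have := v1.out; have := qn13.out; have := qn14.out; have := qn15.out; have := qn16.out; have := qn17.out; omega)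
                clear c12
                rcases t with ⟨⟨⟨rfl, rfl⟩, gw12, ⟨rfl, rfl⟩⟩, rfl⟩ | ⟨⟨⟨rfl, rfl⟩, gw12, ⟨rfl, rfl⟩⟩, rfl⟩ | ⟨⟨⟨rfl, rfl⟩, gw12, ⟨rfl, rfl⟩⟩, rfl⟩ | ⟨⟨⟨rfl, rfl⟩, gw12, ⟨rfl, rfl⟩⟩, rfl⟩ | ⟨⟨⟨rfl, rfl⟩, gw12, ⟨rfl, rfl⟩⟩, rfl⟩ | ⟨⟨⟨rfl, rfl⟩, gw12, ⟨rfl, rfl⟩⟩, rfl⟩
                · have t := pc3 q13 c13.out (by have := v1.out; have := qn14.out; have := qn15.out; have := qn16.out; have := qn17.out; omega)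
                  clear c13
                  rcases t with ⟨⟨⟨rfl, rfl⟩, gw13, ⟨rfl, rfl⟩⟩, rfl⟩ | ⟨⟨⟨rfl, rfl⟩, gw13, ⟨rfl, rfl⟩⟩, rfl⟩ | ⟨⟨⟨rfl, rfl⟩, gw13, ⟨rfl, rfl⟩⟩, rfl⟩ | ⟨⟨⟨rfl, rfl⟩, gw13, ⟨rfl, rfl⟩⟩, rfl⟩ | ⟨⟨⟨rfl, rfl⟩, gw13, ⟨rfl, rfl⟩⟩, rfl⟩ | ⟨⟨⟨rfl, rfl⟩, gw13, ⟨rfl, rfl⟩⟩, rfl⟩
                  · have t := pc3 q14 c14.out (by have := v1.out; have := qn15.out; have := qn16.out; have := qn17.out; omega)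
                    clear c14
                    rcases t with ⟨⟨⟨rfl, rfl⟩, gw14, ⟨rfl, rfl⟩⟩, rfl⟩ | ⟨⟨⟨rfl, rfl⟩, gw14, ⟨rfl, rfl⟩⟩, rfl⟩ | ⟨⟨⟨rfl, rfl⟩, gw14, ⟨rfl, rfl⟩⟩, rfl⟩ | ⟨⟨⟨rfl, rfl⟩, gw14, ⟨rfl, rfl⟩⟩, rfl⟩ | ⟨⟨⟨rfl, rfl⟩, gw14, ⟨rfl, rfl⟩⟩, rfl⟩ | ⟨⟨⟨rfl, rfl⟩, gw14, ⟨rfl, rfl⟩⟩, rfl⟩
                    · have t := pc3 q15 c15.out (by have := v1.out; have := qn16.out; have := qn17.out; omega)
                      clear c15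
                      rcases t with ⟨⟨⟨rfl, rfl⟩, gw15, ⟨rfl, rfl⟩⟩, rfl⟩ | ⟨⟨⟨rfl, rfl⟩, gw15, ⟨rfl, rfl⟩⟩, rfl⟩ | ⟨⟨⟨rfl, rfl⟩, gw15, ⟨rfl, rfl⟩⟩, rfl⟩ | ⟨⟨⟨rfl, rfl⟩, gw15, ⟨rfl, rfl⟩⟩, rfl⟩ | ⟨⟨⟨rfl, rfl⟩, gw15, ⟨rfl, rfl⟩⟩, rfl⟩ | ⟨⟨⟨rfl, rfl⟩, gw15, ⟨rfl, rfl⟩⟩, rfl⟩
                      · have t := pc3 q16 c16.out (by have := v1.out; have := qn17.out; omega)
                        clear c16
                        rcases t with ⟨⟨⟨rfl, rfl⟩, gw16, ⟨rfl, rfl⟩⟩, rfl⟩ | ⟨⟨⟨rfl, rfl⟩, gw16, ⟨rfl, rfl⟩⟩, rfl⟩ | ⟨⟨⟨rfl, rfl⟩, gw16, ⟨rfl, rfl⟩⟩, rfl⟩ | ⟨⟨⟨rfl, rfl⟩, gw16, ⟨rfl, rfl⟩⟩, rfl⟩ | ⟨⟨⟨rfl, rfl⟩, gw16, ⟨rfl, rfl⟩⟩, rfl⟩ | ⟨⟨⟨rfl, rfl⟩, gw16, ⟨rfl, rfl⟩⟩, rfl⟩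
                        · exact part91 T α17 α23 α24 α25 α26 α27 α32 α34 α35 α36 α37 α42 α43 α45 α46 α47 α52 α53 α54 α56 α57 α62 α63 α64 α65 α67 α71 α72 α73 α74 α75 α76 x17 x23 x24 x25 x26 x27 x32 x34 x35 x36 x37 x42 x43 x45 x46 x47 x52 x53 x54 x56 x57 x62 x63 x64 x65 x67 x71 x72 x73 x74 x75 x76 q17 q23 q24 q25 q26 q27 q34 q35 q36 q37 q45 q46 q47 q56 q57 q67 hm0 hm1 hm2 hm3 hm4 hm5 hm6 hm7 om1 om2 om3 om4 om5 om6 om7 e0 e1 e2 e3 e4 e5 e6 e7 r01 r02 r03 r04 r05 r06 r07 r10 r12 r13 r14 r15 r16 r17 r20 r21 r23 r24 r25 r26 r27 r30 r31 r32 r34 r35 r36 r37 r40 r41 r42 r43 r45 r46 r47 r50 r51 r52 r53 r54 r56 r57 r60 r61 r62 r63 r64 r65 r67 r70 r71 r72 r73 r74 r75 r76 hw0 hw1 hw2 hw3 hw4 hw5 hw6 hw7 hs01 hs02 hs03 hs04 hs05 hs06 hs07 hs12 hs13 hs14 hs15 hs16 hs17 hs23 hs24 hs25 hs26 hs27 hs34 hs35 hs36 hs37 hs45 hs46 hs47 hs56 hs57 hs67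 ha00 ha11 ha22 ha33 ha44 ha55 ha66 ha77 v0 v1 v2 v3 v4 v5 v6 v7 qn01 qn02 qn03 qn04 qn05 qn06 qn07 qn12 qn13 qn14 qn15 qn16 qn17 qn23 qn24 qn25 qn26 qn27 qn34 qn35 qn36 qn37 qn45 qn46 qn47 qn56 qn57 qn67 od1 od2 od3 od4 od5 od6 od7 c17 c23 c24 c25 c26 c27 c34 c35 c36 c37 c45 c46 c47 c56 c57 c67 gw01 gw02 gw03 gw04 gw05 gw06 gw07 gw12 gw13 gw14 gw15 gw16
                        · exact part92 T α17 α23 α24 α25 α26 α27 α32 α34 α35 α36 α37 α42 α43 α45 α46 α47 α52 α53 α54 α56 α57 α62 α63 α64 α65 α67 α71 α72 α73 α74 α75 α76 x17 x23 x24 x25 x26 x27 x32 x34 x35 x36 x37 x42 x43 x45 x46 x47 x52 x53 x54 x56 x57 x62 x63 x64 x65 x67 x71 x72 x73 x74 x75 x76 q17 q23 q24 q25 q26 q27 q34 q35 q36 q37 q45 q46 q47 q56 q57 q67 hm0 hm1 hm2 hm3 hm4 hm5 hm6 hm7 om1 om2 om3 om4 om5 om6 om7 e0 e1 e2 e3 e4 e5 e6 e7 r01 r02 r03 r04 r05 r06 r07 r10 r12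 r13 r14 r15 r16 r17 r20 r21 r23 r24 r25 r26 r27 r30 r31 r32 r34 r35 r36 r37 r40 r41 r42 r43 r45 r46 r47 r50 r51 r52 r53 r54 r56 r57 r60 r61 r62 r63 r64 r65 r67 r70 r71 r72 r73 r74 r75 r76 hw0 hw1 hw2 hw3 hw4 hw5 hw6 hw7 hs01 hs02 hs03 hs04 hs05 hs06 hs07 hs12 hs13 hs14 hs15 hs16 hs17 hs23 hs24 hs25 hs26 hs27 hs34 hs35 hs36 hs37 hs45 hs46 hs47 hs56 hs57 hs67 ha00 ha11 ha22 ha33 ha44 ha55 ha66 ha77 v0 v1 v2 v3 v4 v5 v6 v7 qn01 qn02 qn03 qn04 qn05 qn06 qn07 qn12 qn13 qn14 qn15 qn16 qn17 qn23 qn24 qn25 qn26 qn27 qn34 qn35 qn36 qn37 qn45 qn46 qn47 qn56 qn57 qn67 od1 od2 od3 od4 od5 od6 od7 c17 c23 c24 c25 c26 c27 c34 c35 c36 c37 c45 c46 c47 c56 c57 c67 gw01 gw02 gw03 gw04 gw05 gw06 gw07 gw12 gw13 gw14 gw15 gw16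
                        · exact part93 T α17 α23 α24 α25 α26 α27 α32 α34 α35 α36 α37 α42 α43 α45 α46 α47 α52 α53 α54 α56 α57 α62 α63 α64 α65 α67 α71 α72 α73 α74 α75 α76 x17 x23 x24 x25 x26 x27 x32 x34 x35 x36 x37 x42 x43 x45 x46 x47 x52 x53 x54 x56 x57 x62 x63 x64 x65 x67 x71 x72 x73 x74 x75 x76 q17 q23 q24 q25 q26 q27 q34 q35 q36 q37 q45 q46 q47 q56 q57 q67 hm0 hm1 hm2 hm3 hm4 hm5 hm6 hm7 om1 om2 om3 om4 om5 om6 om7 e0 e1 e2 e3 e4 e5 e6 e7 r01 r02 r03 r04 r05 r06 r07 r10 r12 r13 r14 r15 r16 r17 r20 r21 r23 r24 r25 r26 r27 r30 r31 r32 r34 r35 r36 r37 r40 r41 r42 r43 r45 r46 r47 r50 r51 r52 r53 r54 r56 r57 r60 r61 r62 r63 r64 r65 r67 r70 r71 r72 r73 r74 r75 r76 hw0 hw1 hw2 hw3 hw4 hw5 hw6 hw7 hs01 hs02 hs03 hs04 hs05 hs06 hs07 hs12 hs13 hs14 hs15 hs16 hs17 hs23 hs24 hs25 hs26 hs27 hs34 hs35 hs36 hs37 hs45 hs46 hs47 hs56 hs57 hs67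 ha00 ha11 ha22 ha33 ha44 ha55 ha66 ha77 v0 v1 v2 v3 v4 v5 v6 v7 qn01 qn02 qn03 qn04 qn05 qn06 qn07 qn12 qn13 qn14 qn15 qn16 qn17 qn23 qn24 qn25 qn26 qn27 qn34 qn35 qn36 qn37 qn45 qn46 qn47 qn56 qn57 qn67 od1 od2 od3 od4 od5 od6 od7 c17 c23 c24 c25 c26 c27 c34 c35 c36 c37 c45 c46 c47 c56 c57 c67 gw01 gw02 gw03 gw04 gw05 gw06 gw07 gw12 gw13 gw14 gw15 gw16
                        · (have := hm1.out; have := om2.out; have := om6.out; have := e0.out; have := e1.out; have := r17.out; omega)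
                        · (have := hm2.out; have := e0.out; have := e1.out; have := r17.out; have := e6.out; have := r62.out; have := r63.out; have := r64.out; have := r65.out; have := r67.out; omega)
                        · (have := hm2.out; have := om6.out; have := e0.out; have := e1.out; have := r17.out; omega)
                      · exact part94 T α16 α17 α23 α24 α25 α26 α27 α32 α34 α35 α36 α37 α42 α43 α45 α46 α47 α52 α53 α54 α56 α57 α61 α62 α63 α64 α65 α67 α71 α72 α73 α74 α75 α76 x16 x17 x23 x24 x25 x26 x27 x32 x34 x35 x36 x37 x42 x43 x45 x46 x47 x52 x53 x54 x56 x57 x61 x62 x63 x64 x65 x67 x71 x72 x73 x74 x75 x76 q16 q17 q23 q24 q25 q26 q27 q34 q35 q36 q37 q45 q46 q47 q56 q57 q67 hm0 hm1 hm2 hm3 hm4 hm5 hm6 hm7 om1 om2 om3 om4 om5 om6 om7 e0 e1 e2 e3 e4 e5 e6 e7 r01 r02 r03 r04 r05 r06 r07 r10 r12 r13 r14 r15 r16 r17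 r20 r21 r23 r24 r25 r26 r27 r30 r31 r32 r34 r35 r36 r37 r40 r41 r42 r43 r45 r46 r47 r50 r51 r52 r53 r54 r56 r57 r60 r61 r62 r63 r64 r65 r67 r70 r71 r72 r73 r74 r75 r76 hw0 hw1 hw2 hw3 hw4 hw5 hw6 hw7 hs01 hs02 hs03 hs04 hs05 hs06 hs07 hs12 hs13 hs14 hs15 hs16 hs17 hs23 hs24 hs25 hs26 hs27 hs34 hs35 hs36 hs37 hs45 hs46 hs47 hs56 hs57 hs67 ha00 ha11 ha22 ha33 ha44 ha55 ha66 ha77 v0 v1 v2 v3 v4 v5 v6 v7 qn01 qn02 qn03 qn04 qn05 qn06 qn07 qn12 qn13 qn14 qn15 qn16 qn17 qn23 qn24 qn25 qn26 qn27 qn34 qn35 qn36 qn37 qn45 qn46 qn47 qn56 qn57 qn67 od1 od2 od3 od4 od5 od6 od7 c16 c17 c23 c24 c25 c26 c27 c34 c35 c36 c37 c45 c46 c47 c56 c57 c67 gw01 gw02 gw03 gw04 gw05 gw06 gw07 gw12 gw13 gw14 gw15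
                      · exact part95 T α16 α17 α23 α24 α25 α26 α27 α32 α34 α35 α36 α37 α42 α43 α45 α46 α47 α52 α53 α54 α56 α57 α61 α62 α63 α64 α65 α67 α71 α72 α73 α74 α75 α76 x16 x17 x23 x24 x25 x26 x27 x32 x34 x35 x36 x37 x42 x43 x45 x46 x47 x52 x53 x54 x56 x57 x61 x62 x63 x64 x65 x67 x71 x72 x73 x74 x75 x76 q16 q17 q23 q24 q25 q26 q27 q34 q35 q36 q37 q45 q46 q47 q56 q57 q67 hm0 hm1 hm2 hm3 hm4 hm5 hm6 hm7 om1 om2 om3 om4 om5 om6 om7 e0 e1 e2 e3 e4 e5 e6 e7 r01 r02 r03 r04 r05 r06 r07 r10 r12 r13 r14 r15 r16 r17 r20 r21 r23 r24 r25 r26 r27 r30 r31 r32 r34 r35 r36 r37 r40 r41 r42 r43 r45 r46 r47 r50 r51 r52 r53 r54 r56 r57 r60 r61 r62 r63 r64 r65 r67 r70 r71 r72 r73 r74 r75 r76 hw0 hw1 hw2 hw3 hw4 hw5 hw6 hw7 hs01 hs02 hs03 hs04 hs05 hs06 hs07 hs12 hs13 hs14 hs15 hs16 hs17 hs23 hs24 hs25 hs26 hs27 hs34 hs35 hs36 hs37 hs45 hs46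 hs47 hs56 hs57 hs67 ha00 ha11 ha22 ha33 ha44 ha55 ha66 ha77 v0 v1 v2 v3 v4 v5 v6 v7 qn01 qn02 qn03 qn04 qn05 qn06 qn07 qn12 qn13 qn14 qn15 qn16 qn17 qn23 qn24 qn25 qn26 qn27 qn34 qn35 qn36 qn37 qn45 qn46 qn47 qn56 qn57 qn67 od1 od2 od3 od4 od5 od6 od7 c16 c17 c23 c24 c25 c26 c27 c34 c35 c36 c37 c45 c46 c47 c56 c57 c67 gw01 gw02 gw03 gw04 gw05 gw06 gw07 gw12 gw13 gw14 gw15
                      · (have := hm1.out; have := om2.out; have := om5.out; have := e0.out; have := e1.out; have := r16.out; have := r17.out; omega)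
                      · (have := hm2.out; have := e0.out; have := e1.out; have := r16.out; have := r17.out; have := e5.out; have := r52.out; have := r53.out; have := r54.out; have := r56.out; have := r57.out; omega)
                      · (have := hm2.out; have := om5.out; have := e0.out; have := e1.out; have := r16.out; have := r17.out; omega)
                    · have t := pc2 q15 c15.out (by have := v1.out; have := qn16.out; have := qn17.out; omega)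
                      clear c15
                      rcases t with ⟨⟨⟨rfl, rfl⟩, gw15, ⟨rfl, rfl⟩⟩, rfl⟩ | ⟨⟨⟨rfl, rfl⟩, gw15, ⟨rfl, rfl⟩⟩, rfl⟩ | ⟨⟨⟨rfl, rfl⟩, gw15, ⟨rfl, rfl⟩⟩, rfl⟩ | ⟨⟨⟨rfl, rfl⟩, gw15, ⟨rfl, rfl⟩⟩, rfl⟩
                      · have t := pc2 q16 c16.out (by have := v1.out; have := qn17.out; omega)
                        clear c16
                        rcases t with ⟨⟨⟨rfl, rfl⟩, gw16, ⟨rfl, rfl⟩⟩, rfl⟩ | ⟨⟨⟨rfl, rfl⟩, gw16, ⟨rfl, rfl⟩⟩, rfl⟩ | ⟨⟨⟨rfl, rfl⟩, gw16, ⟨rfl, rfl⟩⟩, rfl⟩ | ⟨⟨⟨rfl, rfl⟩, gw16, ⟨rfl, rfl⟩⟩, rfl⟩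
                        · have t := pc2 q17 c17.out (by have := v1.out; omega)
                          clear c17
                          rcases t with ⟨⟨⟨rfl, rfl⟩, gw17, ⟨rfl, rfl⟩⟩, rfl⟩ | ⟨⟨⟨rfl, rfl⟩, gw17, ⟨rfl, rfl⟩⟩, rfl⟩ | ⟨⟨⟨rfl, rfl⟩, gw17, ⟨rfl, rfl⟩⟩, rfl⟩ | ⟨⟨⟨rfl, rfl⟩, gw17, ⟨rfl, rfl⟩⟩, rfl⟩
                          · have t := pc3 q23 c23.out (by have := v2.out; have := qn24.out; have := qn25.out; have := qn26.out; have := qn27.out; omega)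
                            clear c23
                            rcases t with ⟨⟨⟨rfl, rfl⟩, gw23, ⟨rfl, rfl⟩⟩, rfl⟩ | ⟨⟨⟨rfl, rfl⟩, gw23, ⟨rfl, rfl⟩⟩, rfl⟩ | ⟨⟨⟨rfl, rfl⟩, gw23, ⟨rfl, rfl⟩⟩, rfl⟩ | ⟨⟨⟨rfl, rfl⟩, gw23, ⟨rfl, rfl⟩⟩, rfl⟩ | ⟨⟨⟨rfl, rfl⟩, gw23, ⟨rfl, rfl⟩⟩, rfl⟩ | ⟨⟨⟨rfl, rfl⟩, gw23, ⟨rfl, rfl⟩⟩, rfl⟩
                            · (have := od3.out; omega)
                            · have t := pc2 q24 c24.out (by have := v2.out; have := qn25.out; have := qn26.out; have := qn27.out; omega)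
                              clear c24
                              rcases t with ⟨⟨⟨rfl, rfl⟩, gw24, ⟨rfl, rfl⟩⟩, rfl⟩ | ⟨⟨⟨rfl, rfl⟩, gw24, ⟨rfl, rfl⟩⟩, rfl⟩ | ⟨⟨⟨rfl, rfl⟩, gw24, ⟨rfl, rfl⟩⟩, rfl⟩ | ⟨⟨⟨rfl, rfl⟩, gw24, ⟨rfl, rfl⟩⟩, rfl⟩
                              · have t := pc2 q25 c25.out (by have := v2.out; have := qn26.out; have := qn27.out; omega)
                                clear c25
                                rcases t with ⟨⟨⟨rfl, rfl⟩, gw25, ⟨rfl, rfl⟩⟩, rfl⟩ | ⟨⟨⟨rfl, rfl⟩, gw25, ⟨rfl, rfl⟩⟩, rfl⟩ | ⟨⟨⟨rfl, rfl⟩, gw25, ⟨rfl, rfl⟩⟩, rfl⟩ | ⟨⟨⟨rfl, rfl⟩, gw25, ⟨rfl, rfl⟩⟩, rfl⟩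
                                · have t := pc2 q26 c26.out (by have := v2.out; have := qn27.out; omega)
                                  clear c26
                                  rcases t with ⟨⟨⟨rfl, rfl⟩, gw26, ⟨rfl, rfl⟩⟩, rfl⟩ | ⟨⟨⟨rfl, rfl⟩, gw26, ⟨rfl, rfl⟩⟩, rfl⟩ | ⟨⟨⟨rfl, rfl⟩, gw26, ⟨rfl, rfl⟩⟩, rfl⟩ | ⟨⟨⟨rfl, rfl⟩, gw26, ⟨rfl, rfl⟩⟩, rfl⟩
                                  · have t := pc2 q27 c27.out (by have := v2.out; omega)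
                                    clear c27
                                    rcases t with ⟨⟨⟨rfl, rfl⟩, gw27, ⟨rfl, rfl⟩⟩, rfl⟩ | ⟨⟨⟨rfl, rfl⟩, gw27, ⟨rfl, rfl⟩⟩, rfl⟩ | ⟨⟨⟨rfl, rfl⟩, gw27, ⟨rfl, rfl⟩⟩, rfl⟩ | ⟨⟨⟨rfl, rfl⟩, gw27, ⟨rfl, rfl⟩⟩, rfl⟩
                                    · have t := pc3 q34 c34.out (by have := v3.out; have := qn35.out; have := qn36.out; have := qn37.out; omega)
                                      clear c34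
                                      rcases t with ⟨⟨⟨rfl, rfl⟩, gw34, ⟨rfl, rfl⟩⟩, rfl⟩ | ⟨⟨⟨rfl, rfl⟩, gw34, ⟨rfl, rfl⟩⟩, rfl⟩ | ⟨⟨⟨rfl, rfl⟩, gw34, ⟨rfl, rfl⟩⟩, rfl⟩ | ⟨⟨⟨rfl, rfl⟩, gw34, ⟨rfl, rfl⟩⟩, rfl⟩ | ⟨⟨⟨rfl, rfl⟩, gw34, ⟨rfl, rfl⟩⟩, rfl⟩ | ⟨⟨⟨rfl, rfl⟩, gw34, ⟨rfl, rfl⟩⟩, rfl⟩
                                      · have t := pc3 q35 c35.out (by have := v3.out; have := qn36.out; have := qn37.out; omega)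
                                        clear c35
                                        rcases t with ⟨⟨⟨rfl, rfl⟩, gw35, ⟨rfl, rfl⟩⟩, rfl⟩ | ⟨⟨⟨rfl, rfl⟩, gw35, ⟨rfl, rfl⟩⟩, rfl⟩ | ⟨⟨⟨rfl, rfl⟩, gw35, ⟨rfl, rfl⟩⟩, rfl⟩ | ⟨⟨⟨rfl, rfl⟩, gw35, ⟨rfl, rfl⟩⟩, rfl⟩ | ⟨⟨⟨rfl, rfl⟩, gw35, ⟨rfl, rfl⟩⟩, rfl⟩ | ⟨⟨⟨rfl, rfl⟩, gw35, ⟨rfl, rfl⟩⟩, rfl⟩
                                        · exact part96 T α36 α37 α45 α46 α47 α54 α56 α57 α63 α64 α65 α67 α73 α74 α75 α76 x36 x37 x45 x46 x47 x54 x56 x57 x63 x64 x65 x67 x73 x74 x75 x76 q36 q37 q45 q46 q47 q56 q57 q67 hm0 hm1 hm2 hm3 hm4 hm5 hm6 hm7 om1 om2 om3 om4 om5 om6 om7 e0 e1 e2 e3 e4 e5 e6 e7 r01 r02 r03 r04 r05 r06 r07 r10 r12 r13 r14 r15 r16 r17 r20 r21 r23 r24 r25 r26 r27 r30 r31 r32 r34 r35 r36 r37 r40 r41 r42 r43 r45 r46 r47 r50 r51 r52 r53 r54 r56 r57 r60 r61 r62 r63 r64 r65 r67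 r70 r71 r72 r73 r74 r75 r76 hw0 hw1 hw2 hw3 hw4 hw5 hw6 hw7 hs01 hs02 hs03 hs04 hs05 hs06 hs07 hs12 hs13 hs14 hs15 hs16 hs17 hs23 hs24 hs25 hs26 hs27 hs34 hs35 hs36 hs37 hs45 hs46 hs47 hs56 hs57 hs67 ha00 ha11 ha22 ha33 ha44 ha55 ha66 ha77 v0 v1 v2 v3 v4 v5 v6 v7 qn01 qn02 qn03 qn04 qn05 qn06 qn07 qn12 qn13 qn14 qn15 qn16 qn17 qn23 qn24 qn25 qn26 qn27 qn34 qn35 qn36 qn37 qn45 qn46 qn47 qn56 qn57 qn67 od1 od2 od3 od4 od5 od6 od7 c36 c37 c45 c46 c47 c56 c57 c67 gw01 gw02 gw03 gw04 gw05 gw06 gw07 gw12 gw13 gw14 gw15 gw16 gw17 gw23 gw24 gw25 gw26 gw27 gw34 gw35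
                                        · exact part97 T α36 α37 α45 α46 α47 α54 α56 α57 α63 α64 α65 α67 α73 α74 α75 α76 x36 x37 x45 x46 x47 x54 x56 x57 x63 x64 x65 x67 x73 x74 x75 x76 q36 q37 q45 q46 q47 q56 q57 q67 hm0 hm1 hm2 hm3 hm4 hm5 hm6 hm7 om1 om2 om3 om4 om5 om6 om7 e0 e1 e2 e3 e4 e5 e6 e7 r01 r02 r03 r04 r05 r06 r07 r10 r12 r13 r14 r15 r16 r17 r20 r21 r23 r24 r25 r26 r27 r30 r31 r32 r34 r35 r36 r37 r40 r41 r42 r43 r45 r46 r47 r50 r51 r52 r53 r54 r56 r57 r60 r61 r62 r63 r64 r65 r67 r70 r71 r72 r73 r74 r75 r76 hw0 hw1 hw2 hw3 hw4 hw5 hw6 hw7 hs01 hs02 hs03 hs04 hs05 hs06 hs07 hs12 hs13 hs14 hs15 hs16 hs17 hs23 hs24 hs25 hs26 hs27 hs34 hs35 hs36 hs37 hs45 hs46 hs47 hs56 hs57 hs67 ha00 ha11 ha22 ha33 ha44 ha55 ha66 ha77 v0 v1 v2 v3 v4 v5 v6 v7 qn01 qn02 qn03 qn04 qn05 qn06 qn07 qn12 qn13 qn14 qn15 qn16 qn17 qn23 qn24 qn25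 qn26 qn27 qn34 qn35 qn36 qn37 qn45 qn46 qn47 qn56 qn57 qn67 od1 od2 od3 od4 od5 od6 od7 c36 c37 c45 c46 c47 c56 c57 c67 gw01 gw02 gw03 gw04 gw05 gw06 gw07 gw12 gw13 gw14 gw15 gw16 gw17 gw23 gw24 gw25 gw26 gw27 gw34 gw35
                                        · exact part98 T α36 α37 α45 α46 α47 α54 α56 α57 α63 α64 α65 α67 α73 α74 α75 α76 x36 x37 x45 x46 x47 x54 x56 x57 x63 x64 x65 x67 x73 x74 x75 x76 q36 q37 q45 q46 q47 q56 q57 q67 hm0 hm1 hm2 hm3 hm4 hm5 hm6 hm7 om1 om2 om3 om4 om5 om6 om7 e0 e1 e2 e3 e4 e5 e6 e7 r01 r02 r03 r04 r05 r06 r07 r10 r12 r13 r14 r15 r16 r17 r20 r21 r23 r24 r25 r26 r27 r30 r31 r32 r34 r35 r36 r37 r40 r41 r42 r43 r45 r46 r47 r50 r51 r52 r53 r54 r56 r57 r60 r61 r62 r63 r64 r65 r67 r70 r71 r72 r73 r74 r75 r76 hw0 hw1 hw2 hw3 hw4 hw5 hw6 hw7 hs01 hs02 hs03 hs04 hs05 hs06 hs07 hs12 hs13 hs14 hs15 hs16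 hs17 hs23 hs24 hs25 hs26 hs27 hs34 hs35 hs36 hs37 hs45 hs46 hs47 hs56 hs57 hs67 ha00 ha11 ha22 ha33 ha44 ha55 ha66 ha77 v0 v1 v2 v3 v4 v5 v6 v7 qn01 qn02 qn03 qn04 qn05 qn06 qn07 qn12 qn13 qn14 qn15 qn16 qn17 qn23 qn24 qn25 qn26 qn27 qn34 qn35 qn36 qn37 qn45 qn46 qn47 qn56 qn57 qn67 od1 od2 od3 od4 od5 od6 od7 c36 c37 c45 c46 c47 c56 c57 c67 gw01 gw02 gw03 gw04 gw05 gw06 gw07 gw12 gw13 gw14 gw15 gw16 gw17 gw23 gw24 gw25 gw26 gw27 gw34 gw35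
                                        · (have := hm2.out; have := om1.out; have := om5.out; have := e0.out; have := e2.out; have := e3.out; have := r36.out; have := r37.out; omega)
                                        · (have := hm0.out; have := e2.out; have := e3.out; have := r36.out; have := r37.out; have := e5.out; have := r54.out; have := r56.out; have := r57.out; omega)
                                        · (have := hm0.out; have := e2.out; have := e3.out; have := r36.out; have := r37.out; have := e5.out; have := r54.out; have := r56.out; have := r57.out; omega)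
                                      · exact part99 T α35 α36 α37 α45 α46 α47 α53 α54 α56 α57 α63 α64 α65 α67 α73 α74 α75 α76 x35 x36 x37 x45 x46 x47 x53 x54 x56 x57 x63 x64 x65 x67 x73 x74 x75 x76 q35 q36 q37 q45 q46 q47 q56 q57 q67 hm0 hm1 hm2 hm3 hm4 hm5 hm6 hm7 om1 om2 om3 om4 om5 om6 om7 e0 e1 e2 e3 e4 e5 e6 e7 r01 r02 r03 r04 r05 r06 r07 r10 r12 r13 r14 r15 r16 r17 r20 r21 r23 r24 r25 r26 r27 r30 r31 r32 r34 r35 r36 r37 r40 r41 r42 r43 r45 r46 r47 r50 r51 r52 r53 r54 r56 r57 r60 r61 r62 r63 r64 r65 r67 r70 r71 r72 r73 r74 r75 r76 hw0 hw1 hw2 hw3 hw4 hw5 hw6 hw7 hs01 hs02 hs03 hs04 hs05 hs06 hs07 hs12 hs13 hs14 hs15 hs16 hs17 hs23 hs24 hs25 hs26 hs27 hs34 hs35 hs36 hs37 hs45 hs46 hs47 hs56 hs57 hs67 ha00 ha11 ha22 ha33 ha44 ha55 ha66 ha77 v0 v1 v2 v3 v4 v5 v6 v7 qn01 qn02 qn03 qn04 qn05 qn06 qn07 qn12 qn13 qn14 qn15 qn16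 qn17 qn23 qn24 qn25 qn26 qn27 qn34 qn35 qn36 qn37 qn45 qn46 qn47 qn56 qn57 qn67 od1 od2 od3 od4 od5 od6 od7 c35 c36 c37 c45 c46 c47 c56 c57 c67 gw01 gw02 gw03 gw04 gw05 gw06 gw07 gw12 gw13 gw14 gw15 gw16 gw17 gw23 gw24 gw25 gw26 gw27 gw34
                                      · (have := hm0.out; have := om2.out; have := e0.out; have := e1.out; have := e3.out; have := r35.out; have := r36.out; have := r37.out; have := e4.out; have := r45.out; have := r46.out; have := r47.out; omega)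
                                      · (have := hm0.out; have := om1.out; have := e0.out; have := e2.out; have := e3.out; have := r35.out; have := r36.out; have := r37.out; have := e4.out; have := r45.out; have := r46.out; have := r47.out; omega)
                                      · (have := hm3.out; have := e0.out; have := e1.out; have := e2.out; have := e3.out; have := r35.out; have := r36.out; have := r37.out; have := e4.out; have := r45.out; have := r46.out; have := r47.out; omega)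
                                      · (have := hm4.out; have := e0.out; have := e1.out; have := e2.out; have := e3.out; have := r35.out; have := r36.out; have := r37.out; have := e4.out; have := r45.out; have := r46.out; have := r47.out; omega)
                                    · (have := hm3.out; have := om1.out; have := om7.out; have := e0.out; have := e2.out; omega)
                                    · (have := hm3.out; have := om1.out; have := om7.out; have := e0.out; have := e2.out; omega)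
                                    · (have := hm1.out; have := om3.out; have := om7.out; have := e0.out; have := e2.out; omega)
                                  · (have := hm3.out; have := om1.out; have := om6.out; have := e0.out; have := e2.out; have := r27.out; omega)
                                  · (have := hm3.out; have := om1.out; have := om6.out; have := e0.out; have := e2.out; have := r27.out; omega)
                                  · (have := hm1.out; have := om3.out; have := om6.out; have := e0.out; have := e2.out; have := r27.out; omega)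
                                · (have := hm3.out; have := om1.out; have := om5.out; have := e0.out; have := e2.out; have := r26.out; have := r27.out; omega)
                                · (have := hm3.out; have := om1.out; have := om5.out; have := e0.out; have := e2.out; have := r26.out; have := r27.out; omega)
                                · (have := hm1.out; have := om3.out; have := om5.out; have := e0.out; have := e2.out; have := r26.out; have := r27.out; omega)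
                              · (have := hm3.out; have := om1.out; have := om4.out; have := e0.out; have := e2.out; have := r25.out; have := r26.out; have := r27.out; omega)
                              · (have := hm3.out; have := om1.out; have := om4.out; have := e0.out; have := e2.out; have := r25.out; have := r26.out; have := r27.out; omega)
                              · (have := hm1.out; have := om3.out; have := om4.out; have := e0.out; have := e2.out; have := r25.out; have := r26.out; have := r27.out; omega)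
                            · exact part100 T α24 α25 α26 α27 α34 α35 α36 α37 α42 α43 α45 α46 α47 α52 α53 α54 α56 α57 α62 α63 α64 α65 α67 α72 α73 α74 α75 α76 x24 x25 x26 x27 x34 x35 x36 x37 x42 x43 x45 x46 x47 x52 x53 x54 x56 x57 x62 x63 x64 x65 x67 x72 x73 x74 x75 x76 q24 q25 q26 q27 q34 q35 q36 q37 q45 q46 q47 q56 q57 q67 hm0 hm1 hm2 hm3 hm4 hm5 hm6 hm7 om1 om2 om3 om4 om5 om6 om7 e0 e1 e2 e3 e4 e5 e6 e7 r01 r02 r03 r04 r05 r06 r07 r10 r12 r13 r14 r15 r16 r17 r20 r21 r23 r24 r25 r26 r27 r30 r31 r32 r34 r35 r36 r37 r40 r41 r42 r43 r45 r46 r47 r50 r51 r52 r53 r54 r56 r57 r60 r61 r62 r63 r64 r65 r67 r70 r71 r72 r73 r74 r75 r76 hw0 hw1 hw2 hw3 hw4 hw5 hw6 hw7 hs01 hs02 hs03 hs04 hs05 hs06 hs07 hs12 hs13 hs14 hs15 hs16 hs17 hs23 hs24 hs25 hs26 hs27 hs34 hs35 hs36 hs37 hs45 hs46 hs47 hs56 hs57 hs67 ha00 ha11 ha22 ha33 ha44 ha55 ha66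 ha77 v0 v1 v2 v3 v4 v5 v6 v7 qn01 qn02 qn03 qn04 qn05 qn06 qn07 qn12 qn13 qn14 qn15 qn16 qn17 qn23 qn24 qn25 qn26 qn27 qn34 qn35 qn36 qn37 qn45 qn46 qn47 qn56 qn57 qn67 od1 od2 od3 od4 od5 od6 od7 c24 c25 c26 c27 c34 c35 c36 c37 c45 c46 c47 c56 c57 c67 gw01 gw02 gw03 gw04 gw05 gw06 gw07 gw12 gw13 gw14 gw15 gw16 gw17 gw23
                            · (have := hm4.out; have := om3.out; have := e0.out; have := e1.out; have := e2.out; have := r24.out; have := r25.out; have := r26.out; have := r27.out; omega)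
                            · (have := hm1.out; have := e0.out; have := e2.out; have := r24.out; have := r25.out; have := r26.out; have := r27.out; have := e3.out; have := r34.out; have := r35.out; have := r36.out; have := r37.out; omega)
                            · (have := hm1.out; have := om3.out; have := e0.out; have := e2.out; have := r24.out; have := r25.out; have := r26.out; have := r27.out; omega)
                          · (have := hm4.out; have := om2.out; have := om7.out; have := e0.out; have := e1.out; omega)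
                          · (have := hm4.out; have := om2.out; have := om7.out; have := e0.out; have := e1.out; omega)
                          · (have := hm2.out; have := om4.out; have := om7.out; have := e0.out; have := e1.out; omega)
                        · (have := hm4.out; have := om2.out; have := om6.out; have := e0.out; have := e1.out; have := r17.out; omega)
                        · (have := hm4.out; have := om2.out; have := om6.out; have := e0.out; have := e1.out; have := r17.out; omega)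
                        · (have := hm2.out; have := om4.out; have := om6.out; have := e0.out; have := e1.out; have := r17.out; omega)
                      · (have := hm4.out; have := om2.out; have := om5.out; have := e0.out; have := e1.out; have := r16.out; have := r17.out; omega)
                      · (have := hm4.out; have := om2.out; have := om5.out; have := e0.out; have := e1.out; have := r16.out; have := r17.out; omega)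
                      · (have := hm2.out; have := om4.out; have := om5.out; have := e0.out; have := e1.out; have := r16.out; have := r17.out; omega)
                    · exact part101 T α15 α16 α17 α23 α24 α25 α26 α27 α32 α34 α35 α36 α37 α42 α43 α45 α46 α47 α51 α52 α53 α54 α56 α57 α61 α62 α63 α64 α65 α67 α71 α72 α73 α74 α75 α76 x15 x16 x17 x23 x24 x25 x26 x27 x32 x34 x35 x36 x37 x42 x43 x45 x46 x47 x51 x52 x53 x54 x56 x57 x61 x62 x63 x64 x65 x67 x71 x72 x73 x74 x75 x76 q15 q16 q17 q23 q24 q25 q26 q27 q34 q35 q36 q37 q45 q46 q47 q56 q57 q67 hm0 hm1 hm2 hm3 hm4 hm5 hm6 hm7 om1 om2 om3 om4 om5 om6 om7 e0 e1 e2 e3 e4 e5 e6 e7 r01 r02 r03 r04 r05 r06 r07 r10 r12 r13 r14 r15 r16 r17 r20 r21 r23 r24 r25 r26 r27 r30 r31 r32 r34 r35 r36 r37 r40 r41 r42 r43 r45 r46 r47 r50 r51 r52 r53 r54 r56 r57 r60 r61 r62 r63 r64 r65 r67 r70 r71 r72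 r73 r74 r75 r76 hw0 hw1 hw2 hw3 hw4 hw5 hw6 hw7 hs01 hs02 hs03 hs04 hs05 hs06 hs07 hs12 hs13 hs14 hs15 hs16 hs17 hs23 hs24 hs25 hs26 hs27 hs34 hs35 hs36 hs37 hs45 hs46 hs47 hs56 hs57 hs67 ha00 ha11 ha22 ha33 ha44 ha55 ha66 ha77 v0 v1 v2 v3 v4 v5 v6 v7 qn01 qn02 qn03 qn04 qn05 qn06 qn07 qn12 qn13 qn14 qn15 qn16 qn17 qn23 qn24 qn25 qn26 qn27 qn34 qn35 qn36 qn37 qn45 qn46 qn47 qn56 qn57 qn67 od1 od2 od3 od4 od5 od6 od7 c15 c16 c17 c23 c24 c25 c26 c27 c34 c35 c36 c37 c45 c46 c47 c56 c57 c67 gw01 gw02 gw03 gw04 gw05 gw06 gw07 gw12 gw13 gw14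
                    · (have := hm1.out; have := om2.out; have := om4.out; have := e0.out; have := e1.out; have := r15.out; have := r16.out; have := r17.out; omega)
                    · (have := hm2.out; have := e0.out; have := e1.out; have := r15.out; have := r16.out; have := r17.out; have := e4.out; have := r42.out; have := r43.out; have := r45.out; have := r46.out; have := r47.out; omega)
                    · (have := hm2.out; have := om4.out; have := e0.out; have := e1.out; have := r15.out; have := r16.out; have := r17.out; omega)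
                  · have t := pc2 q14 c14.out (by have := v1.out; have := qn15.out; have := qn16.out; have := qn17.out; omega)
                    clear c14
                    rcases t with ⟨⟨⟨rfl, rfl⟩, gw14, ⟨rfl, rfl⟩⟩, rfl⟩ | ⟨⟨⟨rfl, rfl⟩, gw14, ⟨rfl, rfl⟩⟩, rfl⟩ | ⟨⟨⟨rfl, rfl⟩, gw14, ⟨rfl, rfl⟩⟩, rfl⟩ | ⟨⟨⟨rfl, rfl⟩, gw14, ⟨rfl, rfl⟩⟩, rfl⟩
                    · have t := pc2 q15 c15.out (by have := v1.out; have := qn16.out; have := qn17.out; omega)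
                      clear c15
                      rcases t with ⟨⟨⟨rfl, rfl⟩, gw15, ⟨rfl, rfl⟩⟩, rfl⟩ | ⟨⟨⟨rfl, rfl⟩, gw15, ⟨rfl, rfl⟩⟩, rfl⟩ | ⟨⟨⟨rfl, rfl⟩, gw15, ⟨rfl, rfl⟩⟩, rfl⟩ | ⟨⟨⟨rfl, rfl⟩, gw15, ⟨rfl, rfl⟩⟩, rfl⟩
                      · have t := pc2 q16 c16.out (by have := v1.out; have := qn17.out; omega)
                        clear c16
                        rcases t with ⟨⟨⟨rfl, rfl⟩, gw16, ⟨rfl, rfl⟩⟩, rfl⟩ | ⟨⟨⟨rfl, rfl⟩, gw16, ⟨rfl, rfl⟩⟩, rfl⟩ | ⟨⟨⟨rfl, rfl⟩, gw16, ⟨rfl, rfl⟩⟩, rfl⟩ | ⟨⟨⟨rfl, rfl⟩, gw16, ⟨rfl, rfl⟩⟩, rfl⟩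
                        · have t := pc2 q17 c17.out (by have := v1.out; omega)
                          clear c17
                          rcases t with ⟨⟨⟨rfl, rfl⟩, gw17, ⟨rfl, rfl⟩⟩, rfl⟩ | ⟨⟨⟨rfl, rfl⟩, gw17, ⟨rfl, rfl⟩⟩, rfl⟩ | ⟨⟨⟨rfl, rfl⟩, gw17, ⟨rfl, rfl⟩⟩, rfl⟩ | ⟨⟨⟨rfl, rfl⟩, gw17, ⟨rfl, rfl⟩⟩, rfl⟩
                          · have t := pc3 q23 c23.out (by have := v2.out; have := qn24.out; have := qn25.out; have := qn26.out; have := qn27.out; omega)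
                            clear c23
                            rcases t with ⟨⟨⟨rfl, rfl⟩, gw23, ⟨rfl, rfl⟩⟩, rfl⟩ | ⟨⟨⟨rfl, rfl⟩, gw23, ⟨rfl, rfl⟩⟩, rfl⟩ | ⟨⟨⟨rfl, rfl⟩, gw23, ⟨rfl, rfl⟩⟩, rfl⟩ | ⟨⟨⟨rfl, rfl⟩, gw23, ⟨rfl, rfl⟩⟩, rfl⟩ | ⟨⟨⟨rfl, rfl⟩, gw23, ⟨rfl, rfl⟩⟩, rfl⟩ | ⟨⟨⟨rfl, rfl⟩, gw23, ⟨rfl, rfl⟩⟩, rfl⟩
                            · have t := pc3 q24 c24.out (by have := v2.out; have := qn25.out; have := qn26.out; have := qn27.out; omega)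
                              clear c24
                              rcases t with ⟨⟨⟨rfl, rfl⟩, gw24, ⟨rfl, rfl⟩⟩, rfl⟩ | ⟨⟨⟨rfl, rfl⟩, gw24, ⟨rfl, rfl⟩⟩, rfl⟩ | ⟨⟨⟨rfl, rfl⟩, gw24, ⟨rfl, rfl⟩⟩, rfl⟩ | ⟨⟨⟨rfl, rfl⟩, gw24, ⟨rfl, rfl⟩⟩, rfl⟩ | ⟨⟨⟨rfl, rfl⟩, gw24, ⟨rfl, rfl⟩⟩, rfl⟩ | ⟨⟨⟨rfl, rfl⟩, gw24, ⟨rfl, rfl⟩⟩, rfl⟩
                              · have t := pc3 q25 c25.out (by have := v2.out; have := qn26.out; have := qn27.out; omega)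
                                clear c25
                                rcases t with ⟨⟨⟨rfl, rfl⟩, gw25, ⟨rfl, rfl⟩⟩, rfl⟩ | ⟨⟨⟨rfl, rfl⟩, gw25, ⟨rfl, rfl⟩⟩, rfl⟩ | ⟨⟨⟨rfl, rfl⟩, gw25, ⟨rfl, rfl⟩⟩, rfl⟩ | ⟨⟨⟨rfl, rfl⟩, gw25, ⟨rfl, rfl⟩⟩, rfl⟩ | ⟨⟨⟨rfl, rfl⟩, gw25, ⟨rfl, rfl⟩⟩, rfl⟩ | ⟨⟨⟨rfl, rfl⟩, gw25, ⟨rfl, rfl⟩⟩, rfl⟩
                                · have t := pc3 q26 c26.out (by have := v2.out; have := qn27.out; omega)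
                                  clear c26
                                  rcases t with ⟨⟨⟨rfl, rfl⟩, gw26, ⟨rfl, rfl⟩⟩, rfl⟩ | ⟨⟨⟨rfl, rfl⟩, gw26, ⟨rfl, rfl⟩⟩, rfl⟩ | ⟨⟨⟨rfl, rfl⟩, gw26, ⟨rfl, rfl⟩⟩, rfl⟩ | ⟨⟨⟨rfl, rfl⟩, gw26, ⟨rfl, rfl⟩⟩, rfl⟩ | ⟨⟨⟨rfl, rfl⟩, gw26, ⟨rfl, rfl⟩⟩, rfl⟩ | ⟨⟨⟨rfl, rfl⟩, gw26, ⟨rfl, rfl⟩⟩, rfl⟩
                                  · exact part102 T α27 α34 α35 α36 α37 α43 α45 α46 α47 α53 α54 α56 α57 α63 α64 α65 α67 α72 α73 α74 α75 α76 x27 x34 x35 x36 x37 x43 x45 x46 x47 x53 x54 x56 x57 x63 x64 x65 x67 x72 x73 x74 x75 x76 q27 q34 q35 q36 q37 q45 q46 q47 q56 q57 q67 hm0 hm1 hm2 hm3 hm4 hm5 hm6 hm7 om1 om2 om3 om4 om5 om6 om7 e0 e1 e2 e3 e4 e5 e6 e7 r01 r02 r03 r04 r05 r06 r07 r10 r12 r13 r14 r15 r16 r17 r20 r21 r23 r24 r25 r26 r27 r30 r31 r32 r34 r35 r36 r37 r40 r41 r42 r43 r45 r46 r47 r50 r51 r52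 r53 r54 r56 r57 r60 r61 r62 r63 r64 r65 r67 r70 r71 r72 r73 r74 r75 r76 hw0 hw1 hw2 hw3 hw4 hw5 hw6 hw7 hs01 hs02 hs03 hs04 hs05 hs06 hs07 hs12 hs13 hs14 hs15 hs16 hs17 hs23 hs24 hs25 hs26 hs27 hs34 hs35 hs36 hs37 hs45 hs46 hs47 hs56 hs57 hs67 ha00 ha11 ha22 ha33 ha44 ha55 ha66 ha77 v0 v1 v2 v3 v4 v5 v6 v7 qn01 qn02 qn03 qn04 qn05 qn06 qn07 qn12 qn13 qn14 qn15 qn16 qn17 qn23 qn24 qn25 qn26 qn27 qn34 qn35 qn36 qn37 qn45 qn46 qn47 qn56 qn57 qn67 od1 od2 od3 od4 od5 od6 od7 c27 c34 c35 c36 c37 c45 c46 c47 c56 c57 c67 gw01 gw02 gw03 gw04 gw05 gw06 gw07 gw12 gw13 gw14 gw15 gw16 gw17 gw23 gw24 gw25 gw26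
                                  · exact part103 T α27 α34 α35 α36 α37 α43 α45 α46 α47 α53 α54 α56 α57 α63 α64 α65 α67 α72 α73 α74 α75 α76 x27 x34 x35 x36 x37 x43 x45 x46 x47 x53 x54 x56 x57 x63 x64 x65 x67 x72 x73 x74 x75 x76 q27 q34 q35 q36 q37 q45 q46 q47 q56 q57 q67 hm0 hm1 hm2 hm3 hm4 hm5 hm6 hm7 om1 om2 om3 om4 om5 om6 om7 e0 e1 e2 e3 e4 e5 e6 e7 r01 r02 r03 r04 r05 r06 r07 r10 r12 r13 r14 r15 r16 r17 r20 r21 r23 r24 r25 r26 r27 r30 r31 r32 r34 r35 r36 r37 r40 r41 r42 r43 r45 r46 r47 r50 r51 r52 r53 r54 r56 r57 r60 r61 r62 r63 r64 r65 r67 r70 r71 r72 r73 r74 r75 r76 hw0 hw1 hw2 hw3 hw4 hw5 hw6 hw7 hs01 hs02 hs03 hs04 hs05 hs06 hs07 hs12 hs13 hs14 hs15 hs16 hs17 hs23 hs24 hs25 hs26 hs27 hs34 hs35 hs36 hs37 hs45 hs46 hs47 hs56 hs57 hs67 ha00 ha11 ha22 ha33 ha44 ha55 ha66 ha77 v0 v1 v2 v3 v4 v5 v6 v7 qn01 qn02 qn03 qn04 qn05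 qn06 qn07 qn12 qn13 qn14 qn15 qn16 qn17 qn23 qn24 qn25 qn26 qn27 qn34 qn35 qn36 qn37 qn45 qn46 qn47 qn56 qn57 qn67 od1 od2 od3 od4 od5 od6 od7 c27 c34 c35 c36 c37 c45 c46 c47 c56 c57 c67 gw01 gw02 gw03 gw04 gw05 gw06 gw07 gw12 gw13 gw14 gw15 gw16 gw17 gw23 gw24 gw25 gw26
                                  · exact part104 T α27 α34 α35 α36 α37 α43 α45 α46 α47 α53 α54 α56 α57 α63 α64 α65 α67 α72 α73 α74 α75 α76 x27 x34 x35 x36 x37 x43 x45 x46 x47 x53 x54 x56 x57 x63 x64 x65 x67 x72 x73 x74 x75 x76 q27 q34 q35 q36 q37 q45 q46 q47 q56 q57 q67 hm0 hm1 hm2 hm3 hm4 hm5 hm6 hm7 om1 om2 om3 om4 om5 om6 om7 e0 e1 e2 e3 e4 e5 e6 e7 r01 r02 r03 r04 r05 r06 r07 r10 r12 r13 r14 r15 r16 r17 r20 r21 r23 r24 r25 r26 r27 r30 r31 r32 r34 r35 r36 r37 r40 r41 r42 r43 r45 r46 r47 r50 r51 r52 r53 r54 r56 r57 r60 r61 r62 r63 r64 r65 r67 r70 r71 r72 r73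 r74 r75 r76 hw0 hw1 hw2 hw3 hw4 hw5 hw6 hw7 hs01 hs02 hs03 hs04 hs05 hs06 hs07 hs12 hs13 hs14 hs15 hs16 hs17 hs23 hs24 hs25 hs26 hs27 hs34 hs35 hs36 hs37 hs45 hs46 hs47 hs56 hs57 hs67 ha00 ha11 ha22 ha33 ha44 ha55 ha66 ha77 v0 v1 v2 v3 v4 v5 v6 v7 qn01 qn02 qn03 qn04 qn05 qn06 qn07 qn12 qn13 qn14 qn15 qn16 qn17 qn23 qn24 qn25 qn26 qn27 qn34 qn35 qn36 qn37 qn45 qn46 qn47 qn56 qn57 qn67 od1 od2 od3 od4 od5 od6 od7 c27 c34 c35 c36 c37 c45 c46 c47 c56 c57 c67 gw01 gw02 gw03 gw04 gw05 gw06 gw07 gw12 gw13 gw14 gw15 gw16 gw17 gw23 gw24 gw25 gw26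
                                  · (have := hm3.out; have := om6.out; have := e0.out; have := e1.out; have := e2.out; have := r27.out; omega)
                                  · (have := hm1.out; have := e0.out; have := e2.out; have := r27.out; have := e6.out; have := r63.out; have := r64.out; have := r65.out; have := r67.out; omega)
                                  · (have := hm1.out; have := om6.out; have := e0.out; have := e2.out; have := r27.out; omega)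
                                · exact part105 T α26 α27 α34 α35 α36 α37 α43 α45 α46 α47 α53 α54 α56 α57 α62 α63 α64 α65 α67 α72 α73 α74 α75 α76 x26 x27 x34 x35 x36 x37 x43 x45 x46 x47 x53 x54 x56 x57 x62 x63 x64 x65 x67 x72 x73 x74 x75 x76 q26 q27 q34 q35 q36 q37 q45 q46 q47 q56 q57 q67 hm0 hm1 hm2 hm3 hm4 hm5 hm6 hm7 om1 om2 om3 om4 om5 om6 om7 e0 e1 e2 e3 e4 e5 e6 e7 r01 r02 r03 r04 r05 r06 r07 r10 r12 r13 r14 r15 r16 r17 r20 r21 r23 r24 r25 r26 r27 r30 r31 r32 r34 r35 r36 r37 r40 r41 r42 r43 r45 r46 r47 r50 r51 r52 r53 r54 r56 r57 r60 r61 r62 r63 r64 r65 r67 r70 r71 r72 r73 r74 r75 r76 hw0 hw1 hw2 hw3 hw4 hw5 hw6 hw7 hs01 hs02 hs03 hs04 hs05 hs06 hs07 hs12 hs13 hs14 hs15 hs16 hs17 hs23 hs24 hs25 hs26 hs27 hs34 hs35 hs36 hs37 hs45 hs46 hs47 hs56 hs57 hs67 ha00 ha11 ha22 ha33 ha44 ha55 ha66 ha77 v0 v1 v2 v3 v4 v5 v6 v7 qn01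 qn02 qn03 qn04 qn05 qn06 qn07 qn12 qn13 qn14 qn15 qn16 qn17 qn23 qn24 qn25 qn26 qn27 qn34 qn35 qn36 qn37 qn45 qn46 qn47 qn56 qn57 qn67 od1 od2 od3 od4 od5 od6 od7 c26 c27 c34 c35 c36 c37 c45 c46 c47 c56 c57 c67 gw01 gw02 gw03 gw04 gw05 gw06 gw07 gw12 gw13 gw14 gw15 gw16 gw17 gw23 gw24 gw25
                                · exact part106 T α26 α27 α34 α35 α36 α37 α43 α45 α46 α47 α53 α54 α56 α57 α62 α63 α64 α65 α67 α72 α73 α74 α75 α76 x26 x27 x34 x35 x36 x37 x43 x45 x46 x47 x53 x54 x56 x57 x62 x63 x64 x65 x67 x72 x73 x74 x75 x76 q26 q27 q34 q35 q36 q37 q45 q46 q47 q56 q57 q67 hm0 hm1 hm2 hm3 hm4 hm5 hm6 hm7 om1 om2 om3 om4 om5 om6 om7 e0 e1 e2 e3 e4 e5 e6 e7 r01 r02 r03 r04 r05 r06 r07 r10 r12 r13 r14 r15 r16 r17 r20 r21 r23 r24 r25 r26 r27 r30 r31 r32 r34 r35 r36 r37 r40 r41 r42 r43 r45 r46 r47 r50 r51 r52 r53 r54 r56 r57 r60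 r61 r62 r63 r64 r65 r67 r70 r71 r72 r73 r74 r75 r76 hw0 hw1 hw2 hw3 hw4 hw5 hw6 hw7 hs01 hs02 hs03 hs04 hs05 hs06 hs07 hs12 hs13 hs14 hs15 hs16 hs17 hs23 hs24 hs25 hs26 hs27 hs34 hs35 hs36 hs37 hs45 hs46 hs47 hs56 hs57 hs67 ha00 ha11 ha22 ha33 ha44 ha55 ha66 ha77 v0 v1 v2 v3 v4 v5 v6 v7 qn01 qn02 qn03 qn04 qn05 qn06 qn07 qn12 qn13 qn14 qn15 qn16 qn17 qn23 qn24 qn25 qn26 qn27 qn34 qn35 qn36 qn37 qn45 qn46 qn47 qn56 qn57 qn67 od1 od2 od3 od4 od5 od6 od7 c26 c27 c34 c35 c36 c37 c45 c46 c47 c56 c57 c67 gw01 gw02 gw03 gw04 gw05 gw06 gw07 gw12 gw13 gw14 gw15 gw16 gw17 gw23 gw24 gw25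
                                · (have := hm3.out; have := om5.out; have := e0.out; have := e1.out; have := e2.out; have := r26.out; have := r27.out; omega)
                                · (have := hm1.out; have := e0.out; have := e2.out; have := r26.out; have := r27.out; have := e5.out; have := r53.out; have := r54.out; have := r56.out; have := r57.out; omega)
                                · (have := hm1.out; have := om5.out; have := e0.out; have := e2.out; have := r26.out; have := r27.out; omega)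
                              · have t := pc2 q25 c25.out (by have := v2.out; have := qn26.out; have := qn27.out; omega)
                                clear c25
                                rcases t with ⟨⟨⟨rfl, rfl⟩, gw25, ⟨rfl, rfl⟩⟩, rfl⟩ | ⟨⟨⟨rfl, rfl⟩, gw25, ⟨rfl, rfl⟩⟩, rfl⟩ | ⟨⟨⟨rfl, rfl⟩, gw25, ⟨rfl, rfl⟩⟩, rfl⟩ | ⟨⟨⟨rfl, rfl⟩, gw25, ⟨rfl, rfl⟩⟩, rfl⟩
                                · have t := pc2 q26 c26.out (by have := v2.out; have := qn27.out; omega)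
                                  clear c26
                                  rcases t with ⟨⟨⟨rfl, rfl⟩, gw26, ⟨rfl, rfl⟩⟩, rfl⟩ | ⟨⟨⟨rfl, rfl⟩, gw26, ⟨rfl, rfl⟩⟩, rfl⟩ | ⟨⟨⟨rfl, rfl⟩, gw26, ⟨rfl, rfl⟩⟩, rfl⟩ | ⟨⟨⟨rfl, rfl⟩, gw26, ⟨rfl, rfl⟩⟩, rfl⟩
                                  · have t := pc2 q27 c27.out (by have := v2.out; omega)
                                    clear c27
                                    rcases t with ⟨⟨⟨rfl, rfl⟩, gw27, ⟨rfl, rfl⟩⟩, rfl⟩ | ⟨⟨⟨rfl, rfl⟩, gw27, ⟨rfl, rfl⟩⟩, rfl⟩ | ⟨⟨⟨rfl, rfl⟩, gw27, ⟨rfl, rfl⟩⟩, rfl⟩ | ⟨⟨⟨rfl, rfl⟩, gw27, ⟨rfl, rfl⟩⟩, rfl⟩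
                                    · have t := pc3 q34 c34.out (by have := v3.out; have := qn35.out; have := qn36.out; have := qn37.out; omega)
                                      clear c34
                                      rcases t with ⟨⟨⟨rfl, rfl⟩, gw34, ⟨rfl, rfl⟩⟩, rfl⟩ | ⟨⟨⟨rfl, rfl⟩, gw34, ⟨rfl, rfl⟩⟩, rfl⟩ | ⟨⟨⟨rfl, rfl⟩, gw34, ⟨rfl, rfl⟩⟩, rfl⟩ | ⟨⟨⟨rfl, rfl⟩, gw34, ⟨rfl, rfl⟩⟩, rfl⟩ | ⟨⟨⟨rfl, rfl⟩, gw34, ⟨rfl, rfl⟩⟩, rfl⟩ | ⟨⟨⟨rfl, rfl⟩, gw34, ⟨rfl, rfl⟩⟩, rfl⟩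
                                      · have t := pc3 q35 c35.out (by have := v3.out; have := qn36.out; have := qn37.out; omega)
                                        clear c35
                                        rcases t with ⟨⟨⟨rfl, rfl⟩, gw35, ⟨rfl, rfl⟩⟩, rfl⟩ | ⟨⟨⟨rfl, rfl⟩, gw35, ⟨rfl, rfl⟩⟩, rfl⟩ | ⟨⟨⟨rfl, rfl⟩, gw35, ⟨rfl, rfl⟩⟩, rfl⟩ | ⟨⟨⟨rfl, rfl⟩, gw35, ⟨rfl, rfl⟩⟩, rfl⟩ | ⟨⟨⟨rfl, rfl⟩, gw35, ⟨rfl, rfl⟩⟩, rfl⟩ | ⟨⟨⟨rfl, rfl⟩, gw35, ⟨rfl, rfl⟩⟩, rfl⟩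
                                        · exact part107 T α36 α37 α45 α46 α47 α54 α56 α57 α63 α64 α65 α67 α73 α74 α75 α76 x36 x37 x45 x46 x47 x54 x56 x57 x63 x64 x65 x67 x73 x74 x75 x76 q36 q37 q45 q46 q47 q56 q57 q67 hm0 hm1 hm2 hm3 hm4 hm5 hm6 hm7 om1 om2 om3 om4 om5 om6 om7 e0 e1 e2 e3 e4 e5 e6 e7 r01 r02 r03 r04 r05 r06 r07 r10 r12 r13 r14 r15 r16 r17 r20 r21 r23 r24 r25 r26 r27 r30 r31 r32 r34 r35 r36 r37 r40 r41 r42 r43 r45 r46 r47 r50 r51 r52 r53 r54 r56 r57 r60 r61 r62 r63 r64 r65 r67 r70 r71 r72 r73 r74 r75 r76 hw0 hw1 hw2 hw3 hw4 hw5 hw6 hw7 hs01 hs02 hs03 hs04 hs05 hs06 hs07 hs12 hs13 hs14 hs15 hs16 hs17 hs23 hs24 hs25 hs26 hs27 hs34 hs35 hs36 hs37 hs45 hs46 hs47 hs56 hs57 hs67 ha00 ha11 ha22 ha33 ha44 ha55 ha66 ha77 v0 v1 v2 v3 v4 v5 v6 v7 qn01 qn02 qn03 qn04 qn05 qn06 qn07 qn12 qn13 qn14 qn15 qn16 qn17 qn23 qn24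 qn25 qn26 qn27 qn34 qn35 qn36 qn37 qn45 qn46 qn47 qn56 qn57 qn67 od1 od2 od3 od4 od5 od6 od7 c36 c37 c45 c46 c47 c56 c57 c67 gw01 gw02 gw03 gw04 gw05 gw06 gw07 gw12 gw13 gw14 gw15 gw16 gw17 gw23 gw24 gw25 gw26 gw27 gw34 gw35
                                        · exact part108 T α36 α37 α45 α46 α47 α54 α56 α57 α63 α64 α65 α67 α73 α74 α75 α76 x36 x37 x45 x46 x47 x54 x56 x57 x63 x64 x65 x67 x73 x74 x75 x76 q36 q37 q45 q46 q47 q56 q57 q67 hm0 hm1 hm2 hm3 hm4 hm5 hm6 hm7 om1 om2 om3 om4 om5 om6 om7 e0 e1 e2 e3 e4 e5 e6 e7 r01 r02 r03 r04 r05 r06 r07 r10 r12 r13 r14 r15 r16 r17 r20 r21 r23 r24 r25 r26 r27 r30 r31 r32 r34 r35 r36 r37 r40 r41 r42 r43 r45 r46 r47 r50 r51 r52 r53 r54 r56 r57 r60 r61 r62 r63 r64 r65 r67 r70 r71 r72 r73 r74 r75 r76 hw0 hw1 hw2 hw3 hw4 hw5 hw6 hw7 hs01 hs02 hs03 hs04 hs05 hs06 hs07 hs12 hs13 hs14 hs15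 hs16 hs17 hs23 hs24 hs25 hs26 hs27 hs34 hs35 hs36 hs37 hs45 hs46 hs47 hs56 hs57 hs67 ha00 ha11 ha22 ha33 ha44 ha55 ha66 ha77 v0 v1 v2 v3 v4 v5 v6 v7 qn01 qn02 qn03 qn04 qn05 qn06 qn07 qn12 qn13 qn14 qn15 qn16 qn17 qn23 qn24 qn25 qn26 qn27 qn34 qn35 qn36 qn37 qn45 qn46 qn47 qn56 qn57 qn67 od1 od2 od3 od4 od5 od6 od7 c36 c37 c45 c46 c47 c56 c57 c67 gw01 gw02 gw03 gw04 gw05 gw06 gw07 gw12 gw13 gw14 gw15 gw16 gw17 gw23 gw24 gw25 gw26 gw27 gw34 gw35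
                                        · exact part109 T α36 α37 α45 α46 α47 α54 α56 α57 α63 α64 α65 α67 α73 α74 α75 α76 x36 x37 x45 x46 x47 x54 x56 x57 x63 x64 x65 x67 x73 x74 x75 x76 q36 q37 q45 q46 q47 q56 q57 q67 hm0 hm1 hm2 hm3 hm4 hm5 hm6 hm7 om1 om2 om3 om4 om5 om6 om7 e0 e1 e2 e3 e4 e5 e6 e7 r01 r02 r03 r04 r05 r06 r07 r10 r12 r13 r14 r15 r16 r17 r20 r21 r23 r24 r25 r26 r27 r30 r31 r32 r34 r35 r36 r37 r40 r41 r42 r43 r45 r46 r47 r50 r51 r52 r53 r54 r56 r57 r60 r61 r62 r63 r64 r65 r67 r70 r71 r72 r73 r74 r75 r76 hw0 hw1 hw2 hw3 hw4 hw5 hw6 hw7 hs01 hs02 hs03 hs04 hs05 hs06 hs07 hs12 hs13 hs14 hs15 hs16 hs17 hs23 hs24 hs25 hs26 hs27 hs34 hs35 hs36 hs37 hs45 hs46 hs47 hs56 hs57 hs67 ha00 ha11 ha22 ha33 ha44 ha55 ha66 ha77 v0 v1 v2 v3 v4 v5 v6 v7 qn01 qn02 qn03 qn04 qn05 qn06 qn07 qn12 qn13 qn14 qn15 qn16 qn17 qn23 qn24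 qn25 qn26 qn27 qn34 qn35 qn36 qn37 qn45 qn46 qn47 qn56 qn57 qn67 od1 od2 od3 od4 od5 od6 od7 c36 c37 c45 c46 c47 c56 c57 c67 gw01 gw02 gw03 gw04 gw05 gw06 gw07 gw12 gw13 gw14 gw15 gw16 gw17 gw23 gw24 gw25 gw26 gw27 gw34 gw35
                                        · (have := hm1.out; have := om2.out; have := om5.out; have := e0.out; have := e1.out; have := e3.out; have := r36.out; have := r37.out; omega)
                                        · (have := hm0.out; have := e1.out; have := e3.out; have := r36.out; have := r37.out; have := e5.out; have := r54.out; have := r56.out; have := r57.out; omega)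
                                        · (have := hm0.out; have := e1.out; have := e3.out; have := r36.out; have := r37.out; have := e5.out; have := r54.out; have := r56.out; have := r57.out; omega)
                                      · exact part110 T α35 α36 α37 α45 α46 α47 α53 α54 α56 α57 α63 α64 α65 α67 α73 α74 α75 α76 x35 x36 x37 x45 x46 x47 x53 x54 x56 x57 x63 x64 x65 x67 x73 x74 x75 x76 q35 q36 q37 q45 q46 q47 q56 q57 q67 hm0 hm1 hm2 hm3 hm4 hm5 hm6 hm7 om1 om2 om3 om4 om5 om6 om7 e0 e1 e2 e3 e4 e5 e6 e7 r01 r02 r03 r04 r05 r06 r07 r10 r12 r13 r14 r15 r16 r17 r20 r21 r23 r24 r25 r26 r27 r30 r31 r32 r34 r35 r36 r37 r40 r41 r42 r43 r45 r46 r47 r50 r51 r52 r53 r54 r56 r57 r60 r61 r62 r63 r64 r65 r67 r70 r71 r72 r73 r74 r75 r76 hw0 hw1 hw2 hw3 hw4 hw5 hw6 hw7 hs01 hs02 hs03 hs04 hs05 hs06 hs07 hs12 hs13 hs14 hs15 hs16 hs17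 hs23 hs24 hs25 hs26 hs27 hs34 hs35 hs36 hs37 hs45 hs46 hs47 hs56 hs57 hs67 ha00 ha11 ha22 ha33 ha44 ha55 ha66 ha77 v0 v1 v2 v3 v4 v5 v6 v7 qn01 qn02 qn03 qn04 qn05 qn06 qn07 qn12 qn13 qn14 qn15 qn16 qn17 qn23 qn24 qn25 qn26 qn27 qn34 qn35 qn36 qn37 qn45 qn46 qn47 qn56 qn57 qn67 od1 od2 od3 od4 od5 od6 od7 c35 c36 c37 c45 c46 c47 c56 c57 c67 gw01 gw02 gw03 gw04 gw05 gw06 gw07 gw12 gw13 gw14 gw15 gw16 gw17 gw23 gw24 gw25 gw26 gw27 gw34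
                                      · (have := hm0.out; have := om1.out; have := e0.out; have := e2.out; have := e3.out; have := r35.out; have := r36.out; have := r37.out; have := e4.out; have := r45.out; have := r46.out; have := r47.out; omega)
                                      · (have := hm0.out; have := om2.out; have := e0.out; have := e1.out; have := e3.out; have := r35.out; have := r36.out; have := r37.out; have := e4.out; have := r45.out; have := r46.out; have := r47.out; omega)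
                                      · (have := hm3.out; have := e0.out; have := e1.out; have := e2.out; have := e3.out; have := r35.out; have := r36.out; have := r37.out; have := e4.out; have := r45.out; have := r46.out; have := r47.out; omega)
                                      · (have := hm4.out; have := e0.out; have := e1.out; have := e2.out; have := e3.out; have := r35.out; have := r36.out; have := r37.out; have := e4.out; have := r45.out; have := r46.out; have := r47.out; omega)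
                                    · (have := hm4.out; have := om1.out; have := om7.out; have := e0.out; have := e2.out; omega)
                                    · (have := hm4.out; have := om1.out; have := om7.out; have := e0.out; have := e2.out; omega)
                                    · (have := hm1.out; have := om4.out; have := om7.out; have := e0.out; have := e2.out; omega)
                                  · (have := hm4.out; have := om1.out; have := om6.out; have := e0.out; have := e2.out; have := r27.out; omega)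
                                  · (have := hm4.out; have := om1.out; have := om6.out; have := e0.out; have := e2.out; have := r27.out; omega)
                                  · (have := hm1.out; have := om4.out; have := om6.out; have := e0.out; have := e2.out; have := r27.out; omega)
                                · (have := hm4.out; have := om1.out; have := om5.out; have := e0.out; have := e2.out; have := r26.out; have := r27.out; omega)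
                                · (have := hm4.out; have := om1.out; have := om5.out; have := e0.out; have := e2.out; have := r26.out; have := r27.out; omega)
                                · (have := hm1.out; have := om4.out; have := om5.out; have := e0.out; have := e2.out; have := r26.out; have := r27.out; omega)
                              · exact part111 T α25 α26 α27 α34 α35 α36 α37 α43 α45 α46 α47 α52 α53 α54 α56 α57 α62 α63 α64 α65 α67 α72 α73 α74 α75 α76 x25 x26 x27 x34 x35 x36 x37 x43 x45 x46 x47 x52 x53 x54 x56 x57 x62 x63 x64 x65 x67 x72 x73 x74 x75 x76 q25 q26 q27 q34 q35 q36 q37 q45 q46 q47 q56 q57 q67 hm0 hm1 hm2 hm3 hm4 hm5 hm6 hm7 om1 om2 om3 om4 om5 om6 om7 e0 e1 e2 e3 e4 e5 e6 e7 r01 r02 r03 r04 r05 r06 r07 r10 r12 r13 r14 r15 r16 r17 r20 r21 r23 r24 r25 r26 r27 r30 r31 r32 r34 r35 r36 r37 r40 r41 r42 r43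 r45 r46 r47 r50 r51 r52 r53 r54 r56 r57 r60 r61 r62 r63 r64 r65 r67 r70 r71 r72 r73 r74 r75 r76 hw0 hw1 hw2 hw3 hw4 hw5 hw6 hw7 hs01 hs02 hs03 hs04 hs05 hs06 hs07 hs12 hs13 hs14 hs15 hs16 hs17 hs23 hs24 hs25 hs26 hs27 hs34 hs35 hs36 hs37 hs45 hs46 hs47 hs56 hs57 hs67 ha00 ha11 ha22 ha33 ha44 ha55 ha66 ha77 v0 v1 v2 v3 v4 v5 v6 v7 qn01 qn02 qn03 qn04 qn05 qn06 qn07 qn12 qn13 qn14 qn15 qn16 qn17 qn23 qn24 qn25 qn26 qn27 qn34 qn35 qn36 qn37 qn45 qn46 qn47 qn56 qn57 qn67 od1 od2 od3 od4 od5 od6 od7 c25 c26 c27 c34 c35 c36 c37 c45 c46 c47 c56 c57 c67 gw01 gw02 gw03 gw04 gw05 gw06 gw07 gw12 gw13 gw14 gw15 gw16 gw17 gw23 gw24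
                              · (have := hm3.out; have := om4.out; have := e0.out; have := e1.out; have := e2.out; have := r25.out; have := r26.out; have := r27.out; omega)
                              · (have := hm1.out; have := e0.out; have := e2.out; have := r25.out; have := r26.out; have := r27.out; have := e4.out; have := r43.out; have := r45.out; have := r46.out; have := r47.out; omega)
                              · (have := hm1.out; have := om4.out; have := e0.out; have := e2.out; have := r25.out; have := r26.out; have := r27.out; omega)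
                            · exact part112 T α24 α25 α26 α27 α34 α35 α36 α37 α42 α43 α45 α46 α47 α52 α53 α54 α56 α57 α62 α63 α64 α65 α67 α72 α73 α74 α75 α76 x24 x25 x26 x27 x34 x35 x36 x37 x42 x43 x45 x46 x47 x52 x53 x54 x56 x57 x62 x63 x64 x65 x67 x72 x73 x74 x75 x76 q24 q25 q26 q27 q34 q35 q36 q37 q45 q46 q47 q56 q57 q67 hm0 hm1 hm2 hm3 hm4 hm5 hm6 hm7 om1 om2 om3 om4 om5 om6 om7 e0 e1 e2 e3 e4 e5 e6 e7 r01 r02 r03 r04 r05 r06 r07 r10 r12 r13 r14 r15 r16 r17 r20 r21 r23 r24 r25 r26 r27 r30 r31 r32 r34 r35 r36 r37 r40 r41 r42 r43 r45 r46 r47 r50 r51 r52 r53 r54 r56 r57 r60 r61 r62 r63 r64 r65 r67 r70 r71 r72 r73 r74 r75 r76 hw0 hw1 hw2 hw3 hw4 hw5 hw6 hw7 hs01 hs02 hs03 hs04 hs05 hs06 hs07 hs12 hs13 hs14 hs15 hs16 hs17 hs23 hs24 hs25 hs26 hs27 hs34 hs35 hs36 hs37 hs45 hs46 hs47 hs56 hs57 hs67 ha00 ha11 ha22 ha33 ha44 ha55 ha66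 ha77 v0 v1 v2 v3 v4 v5 v6 v7 qn01 qn02 qn03 qn04 qn05 qn06 qn07 qn12 qn13 qn14 qn15 qn16 qn17 qn23 qn24 qn25 qn26 qn27 qn34 qn35 qn36 qn37 qn45 qn46 qn47 qn56 qn57 qn67 od1 od2 od3 od4 od5 od6 od7 c24 c25 c26 c27 c34 c35 c36 c37 c45 c46 c47 c56 c57 c67 gw01 gw02 gw03 gw04 gw05 gw06 gw07 gw12 gw13 gw14 gw15 gw16 gw17 gw23
                            · (have := hm2.out; have := e0.out; have := e1.out; have := e2.out; have := r24.out; have := r25.out; have := r26.out; have := r27.out; have := e3.out; have := r34.out; have := r35.out; have := r36.out; have := r37.out; omega)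
                            · (have := hm3.out; have := om3.out; have := e0.out; have := e1.out; have := e2.out; have := r24.out; have := r25.out; have := r26.out; have := r27.out; omega)
                            · (have := hm0.out; have := e1.out; have := e2.out; have := r24.out; have := r25.out; have := r26.out; have := r27.out; have := e3.out; have := r34.out; have := r35.out; have := r36.out; have := r37.out; omega)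
                            · (have := hm0.out; have := e1.out; have := e2.out; have := r24.out; have := r25.out; have := r26.out; have := r27.out; have := e3.out; have := r34.out; have := r35.out; have := r36.out; have := r37.out; omega)
                          · (have := hm3.out; have := om2.out; have := om7.out; have := e0.out; have := e1.out; omega)
                          · (have := hm3.out; have := om2.out; have := om7.out; have := e0.out; have := e1.out; omega)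
                          · (have := hm2.out; have := om3.out; have := om7.out; have := e0.out; have := e1.out; omega)
                        · (have := hm3.out; have := om2.out; have := om6.out; have := e0.out; have := e1.out; have := r17.out; omega)
                        · (have := hm3.out; have := om2.out; have := om6.out; have := e0.out; have := e1.out; have := r17.out; omega)
                        · (have := hm2.out; have := om3.out; have := om6.out; have := e0.out; have := e1.out; have := r17.out; omega)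
                      · (have := hm3.out; have := om2.out; have := om5.out; have := e0.out; have := e1.out; have := r16.out; have := r17.out; omega)
                      · (have := hm3.out; have := om2.out; have := om5.out; have := e0.out; have := e1.out; have := r16.out; have := r17.out; omega)
                      · (have := hm2.out; have := om3.out; have := om5.out; have := e0.out; have := e1.out; have := r16.out; have := r17.out; omega)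
                    · (have := hm3.out; have := om2.out; have := om4.out; have := e0.out; have := e1.out; have := r15.out; have := r16.out; have := r17.out; omega)
                    · (have := hm3.out; have := om2.out; have := om4.out; have := e0.out; have := e1.out; have := r15.out; have := r16.out; have := r17.out; omega)
                    · (have := hm2.out; have := om3.out; have := om4.out; have := e0.out; have := e1.out; have := r15.out; have := r16.out; have := r17.out; omega)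
                  · exact part113 T α14 α15 α16 α17 α23 α24 α25 α26 α27 α32 α34 α35 α36 α37 α41 α42 α43 α45 α46 α47 α51 α52 α53 α54 α56 α57 α61 α62 α63 α64 α65 α67 α71 α72 α73 α74 α75 α76 x14 x15 x16 x17 x23 x24 x25 x26 x27 x32 x34 x35 x36 x37 x41 x42 x43 x45 x46 x47 x51 x52 x53 x54 x56 x57 x61 x62 x63 x64 x65 x67 x71 x72 x73 x74 x75 x76 q14 q15 q16 q17 q23 q24 q25 q26 q27 q34 q35 q36 q37 q45 q46 q47 q56 q57 q67 hm0 hm1 hm2 hm3 hm4 hm5 hm6 hm7 om1 om2 om3 om4 om5 om6 om7 e0 e1 e2 e3 e4 e5 e6 e7 r01 r02 r03 r04 r05 r06 r07 r10 r12 r13 r14 r15 r16 r17 r20 r21 r23 r24 r25 r26 r27 r30 r31 r32 r34 r35 r36 r37 r40 r41 r42 r43 r45 r46 r47 r50 r51 r52 r53 r54 r56 r57 r60 r61 r62 r63 r64 r65 r67 r70 r71 r72 r73 r74 r75 r76 hw0 hw1 hw2 hw3 hw4 hw5 hw6 hw7 hs01 hs02 hs03 hs04 hs05 hs06 hs07 hs12 hs13 hs14 hs15 hs16 hs17 hs23 hs24 hs25 hs26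 hs27 hs34 hs35 hs36 hs37 hs45 hs46 hs47 hs56 hs57 hs67 ha00 ha11 ha22 ha33 ha44 ha55 ha66 ha77 v0 v1 v2 v3 v4 v5 v6 v7 qn01 qn02 qn03 qn04 qn05 qn06 qn07 qn12 qn13 qn14 qn15 qn16 qn17 qn23 qn24 qn25 qn26 qn27 qn34 qn35 qn36 qn37 qn45 qn46 qn47 qn56 qn57 qn67 od1 od2 od3 od4 od5 od6 od7 c14 c15 c16 c17 c23 c24 c25 c26 c27 c34 c35 c36 c37 c45 c46 c47 c56 c57 c67 gw01 gw02 gw03 gw04 gw05 gw06 gw07 gw12 gw13
                  · (have := hm1.out; have := om2.out; have := om3.out; have := e0.out; have := e1.out; have := r14.out; have := r15.out; have := r16.out; have := r17.out; omega)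
                  · (have := hm2.out; have := e0.out; have := e1.out; have := r14.out; have := r15.out; have := r16.out; have := r17.out; have := e3.out; have := r32.out; have := r34.out; have := r35.out; have := r36.out; have := r37.out; omega)
                  · (have := hm2.out; have := om3.out; have := e0.out; have := e1.out; have := r14.out; have := r15.out; have := r16.out; have := r17.out; omega)
                · exact part114 T α13 α14 α15 α16 α17 α23 α24 α25 α26 α27 α31 α32 α34 α35 α36 α37 α41 α42 α43 α45 α46 α47 α51 α52 α53 α54 α56 α57 α61 α62 α63 α64 α65 α67 α71 α72 α73 α74 α75 α76 x13 x14 x15 x16 x17 x23 x24 x25 x26 x27 x31 x32 x34 x35 x36 x37 x41 x42 x43 x45 x46 x47 x51 x52 x53 x54 x56 x57 x61 x62 x63 x64 x65 x67 x71 x72 x73 x74 x75 x76 q13 q14 q15 q16 q17 q23 q24 q25 q26 q27 q34 q35 q36 q37 q45 q46 q47 q56 q57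 q67 hm0 hm1 hm2 hm3 hm4 hm5 hm6 hm7 om1 om2 om3 om4 om5 om6 om7 e0 e1 e2 e3 e4 e5 e6 e7 r01 r02 r03 r04 r05 r06 r07 r10 r12 r13 r14 r15 r16 r17 r20 r21 r23 r24 r25 r26 r27 r30 r31 r32 r34 r35 r36 r37 r40 r41 r42 r43 r45 r46 r47 r50 r51 r52 r53 r54 r56 r57 r60 r61 r62 r63 r64 r65 r67 r70 r71 r72 r73 r74 r75 r76 hw0 hw1 hw2 hw3 hw4 hw5 hw6 hw7 hs01 hs02 hs03 hs04 hs05 hs06 hs07 hs12 hs13 hs14 hs15 hs16 hs17 hs23 hs24 hs25 hs26 hs27 hs34 hs35 hs36 hs37 hs45 hs46 hs47 hs56 hs57 hs67 ha00 ha11 ha22 ha33 ha44 ha55 ha66 ha77 v0 v1 v2 v3 v4 v5 v6 v7 qn01 qn02 qn03 qn04 qn05 qn06 qn07 qn12 qn13 qn14 qn15 qn16 qn17 qn23 qn24 qn25 qn26 qn27 qn34 qn35 qn36 qn37 qn45 qn46 qn47 qn56 qn57 qn67 od1 od2 od3 od4 od5 od6 od7 c13 c14 c15 c16 c17 c23 c24 c25 c26 c27 c34 c35 c36 c37 c45 c46 c47 c56 c57 c67 gw01 gw02 gw03 gw04 gw05 gw06 gw07 gw12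
                · (have := hm1.out; have := e0.out; have := e1.out; have := r13.out; have := r14.out; have := r15.out; have := r16.out; have := r17.out; have := e2.out; have := r23.out; have := r24.out; have := r25.out; have := r26.out; have := r27.out; omega)
                · (have := hm2.out; have := om2.out; have := e0.out; have := e1.out; have := r13.out; have := r14.out; have := r15.out; have := r16.out; have := r17.out; omega)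
                · (have := hm1.out; have := om1.out; have := e0.out; have := e2.out; have := r23.out; have := r24.out; have := r25.out; have := r26.out; have := r27.out; omega)
                · (have := hm2.out; have := om2.out; have := e0.out; have := e1.out; have := r13.out; have := r14.out; have := r15.out; have := r16.out; have := r17.out; omega)
              · (have := hm1.out; have := om2.out; have := om7.out; have := e0.out; omega)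
              · (have := hm1.out; have := om2.out; have := om7.out; have := e0.out; omega)
              · (have := hm1.out; have := om2.out; have := e0.out; have := e7.out; have := r71.out; have := r72.out; have := r73.out; have := r74.out; have := r75.out; have := r76.out; omega)
            · (have := hm1.out; have := om2.out; have := om6.out; have := e0.out; have := r07.out; omega)
            · (have := hm1.out; have := om2.out; have := om6.out; have := e0.out; have := r07.out; omega)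
            · (have := hm1.out; have := om2.out; have := e0.out; have := r07.out; have := e6.out; have := r61.out; have := r62.out; have := r63.out; have := r64.out; have := r65.out; have := r67.out; omega)
          · (have := hm1.out; have := om2.out; have := om5.out; have := e0.out; have := r06.out; have := r07.out; omega)
          · (have := hm1.out; have := om2.out; have := om5.out; have := e0.out; have := r06.out; have := r07.out; omega)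
          · (have := hm1.out; have := om2.out; have := e0.out; have := r06.out; have := r07.out; have := e5.out; have := r51.out; have := r52.out; have := r53.out; have := r54.out; have := r56.out; have := r57.out; omega)
        · (have := hm1.out; have := om2.out; have := om4.out; have := e0.out; have := r05.out; have := r06.out; have := r07.out; omega)
        · (have := hm1.out; have := om2.out; have := om4.out; have := e0.out; have := r05.out; have := r06.out; have := r07.out; omega)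
        · (have := hm1.out; have := om2.out; have := e0.out; have := r05.out; have := r06.out; have := r07.out; have := e4.out; have := r41.out; have := r42.out; have := r43.out; have := r45.out; have := r46.out; have := r47.out; omega)
      · (have := hm1.out; have := om2.out; have := om3.out; have := e0.out; have := r04.out; have := r05.out; have := r06.out; have := r07.out; omega)
      · (have := hm1.out; have := om2.out; have := om3.out; have := e0.out; have := r04.out; have := r05.out; have := r06.out; have := r07.out; omega)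
      · (have := hm1.out; have := om2.out; have := e0.out; have := r04.out; have := r05.out; have := r06.out; have := r07.out; have := e3.out; have := r31.out; have := r32.out; have := r34.out; have := r35.out; have := r36.out; have := r37.out; omega)
    · have t := pc1 q03 c03.out (by have := v0.out; have := qn04.out; have := qn05.out; have := qn06.out; have := qn07.out; omega)
      clear c03
      rcases t with ⟨⟨⟨rfl, rfl⟩, gw03, ⟨rfl, rfl⟩⟩, rfl⟩ | ⟨⟨⟨rfl, rfl⟩, gw03, ⟨rfl, rfl⟩⟩, rfl⟩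
      · have t := pc1 q04 c04.out (by have := v0.out; have := qn05.out; have := qn06.out; have := qn07.out; omega)
        clear c04
        rcases t with ⟨⟨⟨rfl, rfl⟩, gw04, ⟨rfl, rfl⟩⟩, rfl⟩ | ⟨⟨⟨rfl, rfl⟩, gw04, ⟨rfl, rfl⟩⟩, rfl⟩
        · have t := pc1 q05 c05.out (by have := v0.out; have := qn06.out; have := qn07.out; omega)
          clear c05
          rcases t with ⟨⟨⟨rfl, rfl⟩, gw05, ⟨rfl, rfl⟩⟩, rfl⟩ | ⟨⟨⟨rfl, rfl⟩, gw05, ⟨rfl, rfl⟩⟩, rfl⟩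
          · have t := pc1 q06 c06.out (by have := v0.out; have := qn07.out; omega)
            clear c06
            rcases t with ⟨⟨⟨rfl, rfl⟩, gw06, ⟨rfl, rfl⟩⟩, rfl⟩ | ⟨⟨⟨rfl, rfl⟩, gw06, ⟨rfl, rfl⟩⟩, rfl⟩
            · have t := pc1 q07 c07.out (by have := v0.out; omega)
              clear c07
              rcases t with ⟨⟨⟨rfl, rfl⟩, gw07, ⟨rfl, rfl⟩⟩, rfl⟩ | ⟨⟨⟨rfl, rfl⟩, gw07, ⟨rfl, rfl⟩⟩, rfl⟩
              · have t := pc2 q12 c12.out (by have := v2.out; have := qn23.out; have := qn24.out; have := qn25.out; have := qn26.out; have := qn27.out; omega)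
                clear c12
                rcases t with ⟨⟨⟨rfl, rfl⟩, gw12, ⟨rfl, rfl⟩⟩, rfl⟩ | ⟨⟨⟨rfl, rfl⟩, gw12, ⟨rfl, rfl⟩⟩, rfl⟩ | ⟨⟨⟨rfl, rfl⟩, gw12, ⟨rfl, rfl⟩⟩, rfl⟩ | ⟨⟨⟨rfl, rfl⟩, gw12, ⟨rfl, rfl⟩⟩, rfl⟩
                · have t := pc3 q13 c13.out (by have := v1.out; have := qn14.out; have := qn15.out; have := qn16.out; have := qn17.out; omega)
                  clear c13
                  rcases t with ⟨⟨⟨rfl, rfl⟩, gw13, ⟨rfl, rfl⟩⟩, rfl⟩ | ⟨⟨⟨rfl, rfl⟩, gw13, ⟨rfl, rfl⟩⟩, rfl⟩ | ⟨⟨⟨rfl, rfl⟩, gw13, ⟨rfl, rfl⟩⟩, rfl⟩ | ⟨⟨⟨rfl, rfl⟩, gw13, ⟨rfl, rfl⟩⟩, rfl⟩ | ⟨⟨⟨rfl, rfl⟩, gw13, ⟨rfl, rfl⟩⟩, rfl⟩ | ⟨⟨⟨rfl, rfl⟩, gw13, ⟨rfl, rfl⟩⟩, rfl⟩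
                  · exact part115 T α14 α15 α16 α17 α23 α24 α25 α26 α27 α32 α34 α35 α36 α37 α41 α42 α43 α45 α46 α47 α51 α52 α53 α54 α56 α57 α61 α62 α63 α64 α65 α67 α71 α72 α73 α74 α75 α76 x14 x15 x16 x17 x23 x24 x25 x26 x27 x32 x34 x35 x36 x37 x41 x42 x43 x45 x46 x47 x51 x52 x53 x54 x56 x57 x61 x62 x63 x64 x65 x67 x71 x72 x73 x74 x75 x76 q14 q15 q16 q17 q23 q24 q25 q26 q27 q34 q35 q36 q37 q45 q46 q47 q56 q57 q67 hm0 hm1 hm2 hm3 hm4 hm5 hm6 hm7 om1 om2 om3 om4 om5 om6 om7 e0 e1 e2 e3 e4 e5 e6 e7 r01 r02 r03 r04 r05 r06 r07 r10 r12 r13 r14 r15 r16 r17 r20 r21 r23 r24 r25 r26 r27 r30 r31 r32 r34 r35 r36 r37 r40 r41 r42 r43 r45 r46 r47 r50 r51 r52 r53 r54 r56 r57 r60 r61 r62 r63 r64 r65 r67 r70 r71 r72 r73 r74 r75 r76 hw0 hw1 hw2 hw3 hw4 hw5 hw6 hw7 hs01 hs02 hs03 hs04 hs05 hs06 hs07 hs12 hs13 hs14 hs15 hs16 hs17 hs23 hs24 hs25 hs26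 hs27 hs34 hs35 hs36 hs37 hs45 hs46 hs47 hs56 hs57 hs67 ha00 ha11 ha22 ha33 ha44 ha55 ha66 ha77 v0 v1 v2 v3 v4 v5 v6 v7 qn01 qn02 qn03 qn04 qn05 qn06 qn07 qn12 qn13 qn14 qn15 qn16 qn17 qn23 qn24 qn25 qn26 qn27 qn34 qn35 qn36 qn37 qn45 qn46 qn47 qn56 qn57 qn67 od1 od2 od3 od4 od5 od6 od7 c14 c15 c16 c17 c23 c24 c25 c26 c27 c34 c35 c36 c37 c45 c46 c47 c56 c57 c67 gw01 gw02 gw03 gw04 gw05 gw06 gw07 gw12 gw13
                  · exact part116 T α14 α15 α16 α17 α23 α24 α25 α26 α27 α32 α34 α35 α36 α37 α41 α42 α43 α45 α46 α47 α51 α52 α53 α54 α56 α57 α61 α62 α63 α64 α65 α67 α71 α72 α73 α74 α75 α76 x14 x15 x16 x17 x23 x24 x25 x26 x27 x32 x34 x35 x36 x37 x41 x42 x43 x45 x46 x47 x51 x52 x53 x54 x56 x57 x61 x62 x63 x64 x65 x67 x71 x72 x73 x74 x75 x76 q14 q15 q16 q17 q23 q24 q25 q26 q27 q34 q35 q36 q37 q45 q46 q47 q56 q57 q67 hm0 hm1 hm2 hm3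 hm4 hm5 hm6 hm7 om1 om2 om3 om4 om5 om6 om7 e0 e1 e2 e3 e4 e5 e6 e7 r01 r02 r03 r04 r05 r06 r07 r10 r12 r13 r14 r15 r16 r17 r20 r21 r23 r24 r25 r26 r27 r30 r31 r32 r34 r35 r36 r37 r40 r41 r42 r43 r45 r46 r47 r50 r51 r52 r53 r54 r56 r57 r60 r61 r62 r63 r64 r65 r67 r70 r71 r72 r73 r74 r75 r76 hw0 hw1 hw2 hw3 hw4 hw5 hw6 hw7 hs01 hs02 hs03 hs04 hs05 hs06 hs07 hs12 hs13 hs14 hs15 hs16 hs17 hs23 hs24 hs25 hs26 hs27 hs34 hs35 hs36 hs37 hs45 hs46 hs47 hs56 hs57 hs67 ha00 ha11 ha22 ha33 ha44 ha55 ha66 ha77 v0 v1 v2 v3 v4 v5 v6 v7 qn01 qn02 qn03 qn04 qn05 qn06 qn07 qn12 qn13 qn14 qn15 qn16 qn17 qn23 qn24 qn25 qn26 qn27 qn34 qn35 qn36 qn37 qn45 qn46 qn47 qn56 qn57 qn67 od1 od2 od3 od4 od5 od6 od7 c14 c15 c16 c17 c23 c24 c25 c26 c27 c34 c35 c36 c37 c45 c46 c47 c56 c57 c67 gw01 gw02 gw03 gw04 gw05 gw06 gw07 gw12 gw13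
                  · exact part117 T α14 α15 α16 α17 α23 α24 α25 α26 α27 α32 α34 α35 α36 α37 α41 α42 α43 α45 α46 α47 α51 α52 α53 α54 α56 α57 α61 α62 α63 α64 α65 α67 α71 α72 α73 α74 α75 α76 x14 x15 x16 x17 x23 x24 x25 x26 x27 x32 x34 x35 x36 x37 x41 x42 x43 x45 x46 x47 x51 x52 x53 x54 x56 x57 x61 x62 x63 x64 x65 x67 x71 x72 x73 x74 x75 x76 q14 q15 q16 q17 q23 q24 q25 q26 q27 q34 q35 q36 q37 q45 q46 q47 q56 q57 q67 hm0 hm1 hm2 hm3 hm4 hm5 hm6 hm7 om1 om2 om3 om4 om5 om6 om7 e0 e1 e2 e3 e4 e5 e6 e7 r01 r02 r03 r04 r05 r06 r07 r10 r12 r13 r14 r15 r16 r17 r20 r21 r23 r24 r25 r26 r27 r30 r31 r32 r34 r35 r36 r37 r40 r41 r42 r43 r45 r46 r47 r50 r51 r52 r53 r54 r56 r57 r60 r61 r62 r63 r64 r65 r67 r70 r71 r72 r73 r74 r75 r76 hw0 hw1 hw2 hw3 hw4 hw5 hw6 hw7 hs01 hs02 hs03 hs04 hs05 hs06 hs07 hs12 hs13 hs14 hs15 hs16 hs17 hs23 hs24 hs25 hs26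 hs27 hs34 hs35 hs36 hs37 hs45 hs46 hs47 hs56 hs57 hs67 ha00 ha11 ha22 ha33 ha44 ha55 ha66 ha77 v0 v1 v2 v3 v4 v5 v6 v7 qn01 qn02 qn03 qn04 qn05 qn06 qn07 qn12 qn13 qn14 qn15 qn16 qn17 qn23 qn24 qn25 qn26 qn27 qn34 qn35 qn36 qn37 qn45 qn46 qn47 qn56 qn57 qn67 od1 od2 od3 od4 od5 od6 od7 c14 c15 c16 c17 c23 c24 c25 c26 c27 c34 c35 c36 c37 c45 c46 c47 c56 c57 c67 gw01 gw02 gw03 gw04 gw05 gw06 gw07 gw12 gw13
                  · (have := hm0.out; have := om2.out; have := om3.out; have := e0.out; have := e1.out; have := r14.out; have := r15.out; have := r16.out; have := r17.out; omega)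
                  · (have := hm2.out; have := e0.out; have := e1.out; have := r14.out; have := r15.out; have := r16.out; have := r17.out; have := e3.out; have := r32.out; have := r34.out; have := r35.out; have := r36.out; have := r37.out; omega)
                  · (have := hm2.out; have := om3.out; have := e0.out; have := e1.out; have := r14.out; have := r15.out; have := r16.out; have := r17.out; omega)
                · (have := hm1.out; have := om1.out; have := e0.out; have := e2.out; have := r23.out; have := r24.out; have := r25.out; have := r26.out; have := r27.out; omega)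
                · (have := hm1.out; have := om1.out; have := e0.out; have := e2.out; have := r23.out; have := r24.out; have := r25.out; have := r26.out; have := r27.out; omega)
                · (have := hm1.out; have := om1.out; have := e0.out; have := e2.out; have := r23.out; have := r24.out; have := r25.out; have := r26.out; have := r27.out; omega)
              · (have := hm1.out; have := om2.out; have := om7.out; have := e0.out; omega)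
            · (have := hm1.out; have := om2.out; have := om6.out; have := e0.out; have := r07.out; omega)
          · (have := hm1.out; have := om2.out; have := om5.out; have := e0.out; have := r06.out; have := r07.out; omega)
        · (have := hm1.out; have := om2.out; have := om4.out; have := e0.out; have := r05.out; have := r06.out; have := r07.out; omega)
      · (have := hm1.out; have := om2.out; have := om3.out; have := e0.out; have := r04.out; have := r05.out; have := r06.out; have := r07.out; omega)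
    · (have := hm1.out; have := om2.out; have := e0.out; have := r03.out; have := r04.out; have := r05.out; have := r06.out; have := r07.out; omega)
    · (have := hm2.out; have := om1.out; have := e0.out; have := r03.out; have := r04.out; have := r05.out; have := r06.out; have := r07.out; have := e2.out; have := r21.out; have := r23.out; have := r24.out; have := r25.out; have := r26.out; have := r27.out; omega)
    · (have := hm2.out; have := om1.out; have := om2.out; have := e0.out; have := r03.out; have := r04.out; have := r05.out; have := r06.out; have := r07.out; omega)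
  · have t := pc2 q02 c02.out (by have := v0.out; have := qn03.out; have := qn04.out; have := qn05.out; have := qn06.out; have := qn07.out; omega)
    clear c02
    rcases t with ⟨⟨⟨rfl, rfl⟩, gw02, ⟨rfl, rfl⟩⟩, rfl⟩ | ⟨⟨⟨rfl, rfl⟩, gw02, ⟨rfl, rfl⟩⟩, rfl⟩ | ⟨⟨⟨rfl, rfl⟩, gw02, ⟨rfl, rfl⟩⟩, rfl⟩ | ⟨⟨⟨rfl, rfl⟩, gw02, ⟨rfl, rfl⟩⟩, rfl⟩
    · have t := pc2 q03 c03.out (by have := v0.out; have := qn04.out; have := qn05.out; have := qn06.out; have := qn07.out; omega)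
      clear c03
      rcases t with ⟨⟨⟨rfl, rfl⟩, gw03, ⟨rfl, rfl⟩⟩, rfl⟩ | ⟨⟨⟨rfl, rfl⟩, gw03, ⟨rfl, rfl⟩⟩, rfl⟩ | ⟨⟨⟨rfl, rfl⟩, gw03, ⟨rfl, rfl⟩⟩, rfl⟩ | ⟨⟨⟨rfl, rfl⟩, gw03, ⟨rfl, rfl⟩⟩, rfl⟩
      · have t := pc2 q04 c04.out (by have := v0.out; have := qn05.out; have := qn06.out; have := qn07.out; omega)
        clear c04
        rcases t with ⟨⟨⟨rfl, rfl⟩, gw04, ⟨rfl, rfl⟩⟩, rfl⟩ | ⟨⟨⟨rfl, rfl⟩, gw04, ⟨rfl, rfl⟩⟩, rfl⟩ | ⟨⟨⟨rfl, rfl⟩, gw04, ⟨rfl, rfl⟩⟩, rfl⟩ | ⟨⟨⟨rfl, rfl⟩, gw04, ⟨rfl, rfl⟩⟩, rfl⟩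
        · have t := pc2 q05 c05.out (by have := v0.out; have := qn06.out; have := qn07.out; omega)
          clear c05
          rcases t with ⟨⟨⟨rfl, rfl⟩, gw05, ⟨rfl, rfl⟩⟩, rfl⟩ | ⟨⟨⟨rfl, rfl⟩, gw05, ⟨rfl, rfl⟩⟩, rfl⟩ | ⟨⟨⟨rfl, rfl⟩, gw05, ⟨rfl, rfl⟩⟩, rfl⟩ | ⟨⟨⟨rfl, rfl⟩, gw05, ⟨rfl, rfl⟩⟩, rfl⟩
          · have t := pc2 q06 c06.out (by have := v0.out; have := qn07.out; omega)
            clear c06
            rcases t with ⟨⟨⟨rfl, rfl⟩, gw06, ⟨rfl, rfl⟩⟩, rfl⟩ | ⟨⟨⟨rfl, rfl⟩, gw06, ⟨rfl, rfl⟩⟩, rfl⟩ | ⟨⟨⟨rfl, rfl⟩, gw06, ⟨rfl, rfl⟩⟩, rfl⟩ | ⟨⟨⟨rfl, rfl⟩, gw06, ⟨rfl, rfl⟩⟩, rfl⟩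
            · have t := pc2 q07 c07.out (by have := v0.out; omega)
              clear c07
              rcases t with ⟨⟨⟨rfl, rfl⟩, gw07, ⟨rfl, rfl⟩⟩, rfl⟩ | ⟨⟨⟨rfl, rfl⟩, gw07, ⟨rfl, rfl⟩⟩, rfl⟩ | ⟨⟨⟨rfl, rfl⟩, gw07, ⟨rfl, rfl⟩⟩, rfl⟩ | ⟨⟨⟨rfl, rfl⟩, gw07, ⟨rfl, rfl⟩⟩, rfl⟩
              · have t := pc2 q12 c12.out (by have := v1.out; have := qn13.out; have := qn14.out; have := qn15.out; have := qn16.out; have := qn17.out; omega)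
                clear c12
                rcases t with ⟨⟨⟨rfl, rfl⟩, gw12, ⟨rfl, rfl⟩⟩, rfl⟩ | ⟨⟨⟨rfl, rfl⟩, gw12, ⟨rfl, rfl⟩⟩, rfl⟩ | ⟨⟨⟨rfl, rfl⟩, gw12, ⟨rfl, rfl⟩⟩, rfl⟩ | ⟨⟨⟨rfl, rfl⟩, gw12, ⟨rfl, rfl⟩⟩, rfl⟩
                · (have := od2.out; omega)
                · have t := pc1 q13 c13.out (by have := v1.out; have := qn14.out; have := qn15.out; have := qn16.out; have := qn17.out; omega)
                  clear c13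
                  rcases t with ⟨⟨⟨rfl, rfl⟩, gw13, ⟨rfl, rfl⟩⟩, rfl⟩ | ⟨⟨⟨rfl, rfl⟩, gw13, ⟨rfl, rfl⟩⟩, rfl⟩
                  · have t := pc1 q14 c14.out (by have := v1.out; have := qn15.out; have := qn16.out; have := qn17.out; omega)
                    clear c14
                    rcases t with ⟨⟨⟨rfl, rfl⟩, gw14, ⟨rfl, rfl⟩⟩, rfl⟩ | ⟨⟨⟨rfl, rfl⟩, gw14, ⟨rfl, rfl⟩⟩, rfl⟩
                    · have t := pc1 q15 c15.out (by have := v1.out; have := qn16.out; have := qn17.out; omega)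
                      clear c15
                      rcases t with ⟨⟨⟨rfl, rfl⟩, gw15, ⟨rfl, rfl⟩⟩, rfl⟩ | ⟨⟨⟨rfl, rfl⟩, gw15, ⟨rfl, rfl⟩⟩, rfl⟩
                      · have t := pc1 q16 c16.out (by have := v1.out; have := qn17.out; omega)
                        clear c16
                        rcases t with ⟨⟨⟨rfl, rfl⟩, gw16, ⟨rfl, rfl⟩⟩, rfl⟩ | ⟨⟨⟨rfl, rfl⟩, gw16, ⟨rfl, rfl⟩⟩, rfl⟩
                        · have t := pc1 q17 c17.out (by have := v1.out; omega)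
                          clear c17
                          rcases t with ⟨⟨⟨rfl, rfl⟩, gw17, ⟨rfl, rfl⟩⟩, rfl⟩ | ⟨⟨⟨rfl, rfl⟩, gw17, ⟨rfl, rfl⟩⟩, rfl⟩
                          · have t := pc3 q23 c23.out (by have := v2.out; have := qn24.out; have := qn25.out; have := qn26.out; have := qn27.out; omega)
                            clear c23
                            rcases t with ⟨⟨⟨rfl, rfl⟩, gw23, ⟨rfl, rfl⟩⟩, rfl⟩ | ⟨⟨⟨rfl, rfl⟩, gw23, ⟨rfl, rfl⟩⟩, rfl⟩ | ⟨⟨⟨rfl, rfl⟩, gw23, ⟨rfl, rfl⟩⟩, rfl⟩ | ⟨⟨⟨rfl, rfl⟩, gw23, ⟨rfl, rfl⟩⟩, rfl⟩ | ⟨⟨⟨rfl, rfl⟩, gw23, ⟨rfl, rfl⟩⟩, rfl⟩ | ⟨⟨⟨rfl, rfl⟩, gw23, ⟨rfl, rfl⟩⟩, rfl⟩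
                            · (have := od3.out; omega)
                            · have t := pc2 q24 c24.out (by have := v2.out; have := qn25.out; have := qn26.out; have := qn27.out; omega)
                              clear c24
                              rcases t with ⟨⟨⟨rfl, rfl⟩, gw24, ⟨rfl, rfl⟩⟩, rfl⟩ | ⟨⟨⟨rfl, rfl⟩, gw24, ⟨rfl, rfl⟩⟩, rfl⟩ | ⟨⟨⟨rfl, rfl⟩, gw24, ⟨rfl, rfl⟩⟩, rfl⟩ | ⟨⟨⟨rfl, rfl⟩, gw24, ⟨rfl, rfl⟩⟩, rfl⟩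
                              · exact part118 T α25 α26 α27 α34 α35 α36 α37 α43 α45 α46 α47 α52 α53 α54 α56 α57 α62 α63 α64 α65 α67 α72 α73 α74 α75 α76 x25 x26 x27 x34 x35 x36 x37 x43 x45 x46 x47 x52 x53 x54 x56 x57 x62 x63 x64 x65 x67 x72 x73 x74 x75 x76 q25 q26 q27 q34 q35 q36 q37 q45 q46 q47 q56 q57 q67 hm0 hm1 hm2 hm3 hm4 hm5 hm6 hm7 om1 om2 om3 om4 om5 om6 om7 e0 e1 e2 e3 e4 e5 e6 e7 r01 r02 r03 r04 r05 r06 r07 r10 r12 r13 r14 r15 r16 r17 r20 r21 r23 r24 r25 r26 r27 r30 r31 r32 r34 r35 r36 r37 r40 r41 r42 r43 r45 r46 r47 r50 r51 r52 r53 r54 r56 r57 r60 r61 r62 r63 r64 r65 r67 r70 r71 r72 r73 r74 r75 r76 hw0 hw1 hw2 hw3 hw4 hw5 hw6 hw7 hs01 hs02 hs03 hs04 hs05 hs06 hs07 hs12 hs13 hs14 hs15 hs16 hs17 hs23 hs24 hs25 hs26 hs27 hs34 hs35 hs36 hs37 hs45 hs46 hs47 hs56 hs57 hs67 ha00 ha11 ha22 ha33 ha44 ha55 ha66 ha77 v0 v1 v2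 v3 v4 v5 v6 v7 qn01 qn02 qn03 qn04 qn05 qn06 qn07 qn12 qn13 qn14 qn15 qn16 qn17 qn23 qn24 qn25 qn26 qn27 qn34 qn35 qn36 qn37 qn45 qn46 qn47 qn56 qn57 qn67 od1 od2 od3 od4 od5 od6 od7 c25 c26 c27 c34 c35 c36 c37 c45 c46 c47 c56 c57 c67 gw01 gw02 gw03 gw04 gw05 gw06 gw07 gw12 gw13 gw14 gw15 gw16 gw17 gw23 gw24
                              · exact part119 T α25 α26 α27 α34 α35 α36 α37 α43 α45 α46 α47 α52 α53 α54 α56 α57 α62 α63 α64 α65 α67 α72 α73 α74 α75 α76 x25 x26 x27 x34 x35 x36 x37 x43 x45 x46 x47 x52 x53 x54 x56 x57 x62 x63 x64 x65 x67 x72 x73 x74 x75 x76 q25 q26 q27 q34 q35 q36 q37 q45 q46 q47 q56 q57 q67 hm0 hm1 hm2 hm3 hm4 hm5 hm6 hm7 om1 om2 om3 om4 om5 om6 om7 e0 e1 e2 e3 e4 e5 e6 e7 r01 r02 r03 r04 r05 r06 r07 r10 r12 r13 r14 r15 r16 r17 r20 r21 r23 r24 r25 r26 r27 r30 r31 r32 r34 r35 r36 r37 r40 r41 r42 r43 r45 r46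 r47 r50 r51 r52 r53 r54 r56 r57 r60 r61 r62 r63 r64 r65 r67 r70 r71 r72 r73 r74 r75 r76 hw0 hw1 hw2 hw3 hw4 hw5 hw6 hw7 hs01 hs02 hs03 hs04 hs05 hs06 hs07 hs12 hs13 hs14 hs15 hs16 hs17 hs23 hs24 hs25 hs26 hs27 hs34 hs35 hs36 hs37 hs45 hs46 hs47 hs56 hs57 hs67 ha00 ha11 ha22 ha33 ha44 ha55 ha66 ha77 v0 v1 v2 v3 v4 v5 v6 v7 qn01 qn02 qn03 qn04 qn05 qn06 qn07 qn12 qn13 qn14 qn15 qn16 qn17 qn23 qn24 qn25 qn26 qn27 qn34 qn35 qn36 qn37 qn45 qn46 qn47 qn56 qn57 qn67 od1 od2 od3 od4 od5 od6 od7 c25 c26 c27 c34 c35 c36 c37 c45 c46 c47 c56 c57 c67 gw01 gw02 gw03 gw04 gw05 gw06 gw07 gw12 gw13 gw14 gw15 gw16 gw17 gw23 gw24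
                              · (have := hm3.out; have := e0.out; have := e1.out; have := e2.out; have := r25.out; have := r26.out; have := r27.out; have := e4.out; have := r43.out; have := r45.out; have := r46.out; have := r47.out; omega)
                              · (have := hm3.out; have := om4.out; have := e0.out; have := e1.out; have := e2.out; have := r25.out; have := r26.out; have := r27.out; omega)
                            · exact part120 T α24 α25 α26 α27 α34 α35 α36 α37 α42 α43 α45 α46 α47 α52 α53 α54 α56 α57 α62 α63 α64 α65 α67 α72 α73 α74 α75 α76 x24 x25 x26 x27 x34 x35 x36 x37 x42 x43 x45 x46 x47 x52 x53 x54 x56 x57 x62 x63 x64 x65 x67 x72 x73 x74 x75 x76 q24 q25 q26 q27 q34 q35 q36 q37 q45 q46 q47 q56 q57 q67 hm0 hm1 hm2 hm3 hm4 hm5 hm6 hm7 om1 om2 om3 om4 om5 om6 om7 e0 e1 e2 e3 e4 e5 e6 e7 r01 r02 r03 r04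 r05 r06 r07 r10 r12 r13 r14 r15 r16 r17 r20 r21 r23 r24 r25 r26 r27 r30 r31 r32 r34 r35 r36 r37 r40 r41 r42 r43 r45 r46 r47 r50 r51 r52 r53 r54 r56 r57 r60 r61 r62 r63 r64 r65 r67 r70 r71 r72 r73 r74 r75 r76 hw0 hw1 hw2 hw3 hw4 hw5 hw6 hw7 hs01 hs02 hs03 hs04 hs05 hs06 hs07 hs12 hs13 hs14 hs15 hs16 hs17 hs23 hs24 hs25 hs26 hs27 hs34 hs35 hs36 hs37 hs45 hs46 hs47 hs56 hs57 hs67 ha00 ha11 ha22 ha33 ha44 ha55 ha66 ha77 v0 v1 v2 v3 v4 v5 v6 v7 qn01 qn02 qn03 qn04 qn05 qn06 qn07 qn12 qn13 qn14 qn15 qn16 qn17 qn23 qn24 qn25 qn26 qn27 qn34 qn35 qn36 qn37 qn45 qn46 qn47 qn56 qn57 qn67 od1 od2 od3 od4 od5 od6 od7 c24 c25 c26 c27 c34 c35 c36 c37 c45 c46 c47 c56 c57 c67 gw01 gw02 gw03 gw04 gw05 gw06 gw07 gw12 gw13 gw14 gw15 gw16 gw17 gw23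
                            · exact part121 T α24 α25 α26 α27 α34 α35 α36 α37 α42 α43 α45 α46 α47 α52 α53 α54 α56 α57 α62 α63 α64 α65 α67 α72 α73 α74 α75 α76 x24 x25 x26 x27 x34 x35 x36 x37 x42 x43 x45 x46 x47 x52 x53 x54 x56 x57 x62 x63 x64 x65 x67 x72 x73 x74 x75 x76 q24 q25 q26 q27 q34 q35 q36 q37 q45 q46 q47 q56 q57 q67 hm0 hm1 hm2 hm3 hm4 hm5 hm6 hm7 om1 om2 om3 om4 om5 om6 om7 e0 e1 e2 e3 e4 e5 e6 e7 r01 r02 r03 r04 r05 r06 r07 r10 r12 r13 r14 r15 r16 r17 r20 r21 r23 r24 r25 r26 r27 r30 r31 r32 r34 r35 r36 r37 r40 r41 r42 r43 r45 r46 r47 r50 r51 r52 r53 r54 r56 r57 r60 r61 r62 r63 r64 r65 r67 r70 r71 r72 r73 r74 r75 r76 hw0 hw1 hw2 hw3 hw4 hw5 hw6 hw7 hs01 hs02 hs03 hs04 hs05 hs06 hs07 hs12 hs13 hs14 hs15 hs16 hs17 hs23 hs24 hs25 hs26 hs27 hs34 hs35 hs36 hs37 hs45 hs46 hs47 hs56 hs57 hs67 ha00 ha11 ha22 ha33 ha44 ha55 ha66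 ha77 v0 v1 v2 v3 v4 v5 v6 v7 qn01 qn02 qn03 qn04 qn05 qn06 qn07 qn12 qn13 qn14 qn15 qn16 qn17 qn23 qn24 qn25 qn26 qn27 qn34 qn35 qn36 qn37 qn45 qn46 qn47 qn56 qn57 qn67 od1 od2 od3 od4 od5 od6 od7 c24 c25 c26 c27 c34 c35 c36 c37 c45 c46 c47 c56 c57 c67 gw01 gw02 gw03 gw04 gw05 gw06 gw07 gw12 gw13 gw14 gw15 gw16 gw17 gw23
                            · (have := hm0.out; have := e1.out; have := e2.out; have := r24.out; have := r25.out; have := r26.out; have := r27.out; have := e3.out; have := r34.out; have := r35.out; have := r36.out; have := r37.out; omega)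
                            · (have := hm0.out; have := e1.out; have := e2.out; have := r24.out; have := r25.out; have := r26.out; have := r27.out; have := e3.out; have := r34.out; have := r35.out; have := r36.out; have := r37.out; omega)
                          · exact part122 T α23 α24 α25 α26 α27 α32 α34 α35 α36 α37 α42 α43 α45 α46 α47 α52 α53 α54 α56 α57 α62 α63 α64 α65 α67 α72 α73 α74 α75 α76 x23 x24 x25 x26 x27 x32 x34 x35 x36 x37 x42 x43 x45 x46 x47 x52 x53 x54 x56 x57 x62 x63 x64 x65 x67 x72 x73 x74 x75 x76 q23 q24 q25 q26 q27 q34 q35 q36 q37 q45 q46 q47 q56 q57 q67 hm0 hm1 hm2 hm3 hm4 hm5 hm6 hm7 om1 om2 om3 om4 om5 om6 om7 e0 e1 e2 e3 e4 e5 e6 e7 r01 r02 r03 r04 r05 r06 r07 r10 r12 r13 r14 r15 r16 r17 r20 r21 r23 r24 r25 r26 r27 r30 r31 r32 r34 r35 r36 r37 r40 r41 r42 r43 r45 r46 r47 r50 r51 r52 r53 r54 r56 r57 r60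 r61 r62 r63 r64 r65 r67 r70 r71 r72 r73 r74 r75 r76 hw0 hw1 hw2 hw3 hw4 hw5 hw6 hw7 hs01 hs02 hs03 hs04 hs05 hs06 hs07 hs12 hs13 hs14 hs15 hs16 hs17 hs23 hs24 hs25 hs26 hs27 hs34 hs35 hs36 hs37 hs45 hs46 hs47 hs56 hs57 hs67 ha00 ha11 ha22 ha33 ha44 ha55 ha66 ha77 v0 v1 v2 v3 v4 v5 v6 v7 qn01 qn02 qn03 qn04 qn05 qn06 qn07 qn12 qn13 qn14 qn15 qn16 qn17 qn23 qn24 qn25 qn26 qn27 qn34 qn35 qn36 qn37 qn45 qn46 qn47 qn56 qn57 qn67 od1 od2 od3 od4 od5 od6 od7 c23 c24 c25 c26 c27 c34 c35 c36 c37 c45 c46 c47 c56 c57 c67 gw01 gw02 gw03 gw04 gw05 gw06 gw07 gw12 gw13 gw14 gw15 gw16 gw17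
                        · exact part123 T α17 α23 α24 α25 α26 α27 α32 α34 α35 α36 α37 α42 α43 α45 α46 α47 α52 α53 α54 α56 α57 α62 α63 α64 α65 α67 α71 α72 α73 α74 α75 α76 x17 x23 x24 x25 x26 x27 x32 x34 x35 x36 x37 x42 x43 x45 x46 x47 x52 x53 x54 x56 x57 x62 x63 x64 x65 x67 x71 x72 x73 x74 x75 x76 q17 q23 q24 q25 q26 q27 q34 q35 q36 q37 q45 q46 q47 q56 q57 q67 hm0 hm1 hm2 hm3 hm4 hm5 hm6 hm7 om1 om2 om3 om4 om5 om6 om7 e0 e1 e2 e3 e4 e5 e6 e7 r01 r02 r03 r04 r05 r06 r07 r10 r12 r13 r14 r15 r16 r17 r20 r21 r23 r24 r25 r26 r27 r30 r31 r32 r34 r35 r36 r37 r40 r41 r42 r43 r45 r46 r47 r50 r51 r52 r53 r54 r56 r57 r60 r61 r62 r63 r64 r65 r67 r70 r71 r72 r73 r74 r75 r76 hw0 hw1 hw2 hw3 hw4 hw5 hw6 hw7 hs01 hs02 hs03 hs04 hs05 hs06 hs07 hs12 hs13 hs14 hs15 hs16 hs17 hs23 hs24 hs25 hs26 hs27 hs34 hs35 hs36 hs37 hs45 hs46 hs47 hs56 hs57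 hs67 ha00 ha11 ha22 ha33 ha44 ha55 ha66 ha77 v0 v1 v2 v3 v4 v5 v6 v7 qn01 qn02 qn03 qn04 qn05 qn06 qn07 qn12 qn13 qn14 qn15 qn16 qn17 qn23 qn24 qn25 qn26 qn27 qn34 qn35 qn36 qn37 qn45 qn46 qn47 qn56 qn57 qn67 od1 od2 od3 od4 od5 od6 od7 c17 c23 c24 c25 c26 c27 c34 c35 c36 c37 c45 c46 c47 c56 c57 c67 gw01 gw02 gw03 gw04 gw05 gw06 gw07 gw12 gw13 gw14 gw15 gw16
                      · exact part124 T α16 α17 α23 α24 α25 α26 α27 α32 α34 α35 α36 α37 α42 α43 α45 α46 α47 α52 α53 α54 α56 α57 α61 α62 α63 α64 α65 α67 α71 α72 α73 α74 α75 α76 x16 x17 x23 x24 x25 x26 x27 x32 x34 x35 x36 x37 x42 x43 x45 x46 x47 x52 x53 x54 x56 x57 x61 x62 x63 x64 x65 x67 x71 x72 x73 x74 x75 x76 q16 q17 q23 q24 q25 q26 q27 q34 q35 q36 q37 q45 q46 q47 q56 q57 q67 hm0 hm1 hm2 hm3 hm4 hm5 hm6 hm7 om1 om2 om3 om4 om5 om6 om7 e0 e1 e2 e3 e4 e5 e6 e7 r01 r02 r03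 r04 r05 r06 r07 r10 r12 r13 r14 r15 r16 r17 r20 r21 r23 r24 r25 r26 r27 r30 r31 r32 r34 r35 r36 r37 r40 r41 r42 r43 r45 r46 r47 r50 r51 r52 r53 r54 r56 r57 r60 r61 r62 r63 r64 r65 r67 r70 r71 r72 r73 r74 r75 r76 hw0 hw1 hw2 hw3 hw4 hw5 hw6 hw7 hs01 hs02 hs03 hs04 hs05 hs06 hs07 hs12 hs13 hs14 hs15 hs16 hs17 hs23 hs24 hs25 hs26 hs27 hs34 hs35 hs36 hs37 hs45 hs46 hs47 hs56 hs57 hs67 ha00 ha11 ha22 ha33 ha44 ha55 ha66 ha77 v0 v1 v2 v3 v4 v5 v6 v7 qn01 qn02 qn03 qn04 qn05 qn06 qn07 qn12 qn13 qn14 qn15 qn16 qn17 qn23 qn24 qn25 qn26 qn27 qn34 qn35 qn36 qn37 qn45 qn46 qn47 qn56 qn57 qn67 od1 od2 od3 od4 od5 od6 od7 c16 c17 c23 c24 c25 c26 c27 c34 c35 c36 c37 c45 c46 c47 c56 c57 c67 gw01 gw02 gw03 gw04 gw05 gw06 gw07 gw12 gw13 gw14 gw15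
                    · exact part125 T α15 α16 α17 α23 α24 α25 α26 α27 α32 α34 α35 α36 α37 α42 α43 α45 α46 α47 α51 α52 α53 α54 α56 α57 α61 α62 α63 α64 α65 α67 α71 α72 α73 α74 α75 α76 x15 x16 x17 x23 x24 x25 x26 x27 x32 x34 x35 x36 x37 x42 x43 x45 x46 x47 x51 x52 x53 x54 x56 x57 x61 x62 x63 x64 x65 x67 x71 x72 x73 x74 x75 x76 q15 q16 q17 q23 q24 q25 q26 q27 q34 q35 q36 q37 q45 q46 q47 q56 q57 q67 hm0 hm1 hm2 hm3 hm4 hm5 hm6 hm7 om1 om2 om3 om4 om5 om6 om7 e0 e1 e2 e3 e4 e5 e6 e7 r01 r02 r03 r04 r05 r06 r07 r10 r12 r13 r14 r15 r16 r17 r20 r21 r23 r24 r25 r26 r27 r30 r31 r32 r34 r35 r36 r37 r40 r41 r42 r43 r45 r46 r47 r50 r51 r52 r53 r54 r56 r57 r60 r61 r62 r63 r64 r65 r67 r70 r71 r72 r73 r74 r75 r76 hw0 hw1 hw2 hw3 hw4 hw5 hw6 hw7 hs01 hs02 hs03 hs04 hs05 hs06 hs07 hs12 hs13 hs14 hs15 hs16 hs17 hs23 hs24 hs25 hs26 hs27 hs34 hs35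 hs36 hs37 hs45 hs46 hs47 hs56 hs57 hs67 ha00 ha11 ha22 ha33 ha44 ha55 ha66 ha77 v0 v1 v2 v3 v4 v5 v6 v7 qn01 qn02 qn03 qn04 qn05 qn06 qn07 qn12 qn13 qn14 qn15 qn16 qn17 qn23 qn24 qn25 qn26 qn27 qn34 qn35 qn36 qn37 qn45 qn46 qn47 qn56 qn57 qn67 od1 od2 od3 od4 od5 od6 od7 c15 c16 c17 c23 c24 c25 c26 c27 c34 c35 c36 c37 c45 c46 c47 c56 c57 c67 gw01 gw02 gw03 gw04 gw05 gw06 gw07 gw12 gw13 gw14
                  · exact part126 T α14 α15 α16 α17 α23 α24 α25 α26 α27 α32 α34 α35 α36 α37 α41 α42 α43 α45 α46 α47 α51 α52 α53 α54 α56 α57 α61 α62 α63 α64 α65 α67 α71 α72 α73 α74 α75 α76 x14 x15 x16 x17 x23 x24 x25 x26 x27 x32 x34 x35 x36 x37 x41 x42 x43 x45 x46 x47 x51 x52 x53 x54 x56 x57 x61 x62 x63 x64 x65 x67 x71 x72 x73 x74 x75 x76 q14 q15 q16 q17 q23 q24 q25 q26 q27 q34 q35 q36 q37 q45 q46 q47 q56 q57 q67 hm0 hm1 hm2 hm3 hm4 hm5 hm6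 hm7 om1 om2 om3 om4 om5 om6 om7 e0 e1 e2 e3 e4 e5 e6 e7 r01 r02 r03 r04 r05 r06 r07 r10 r12 r13 r14 r15 r16 r17 r20 r21 r23 r24 r25 r26 r27 r30 r31 r32 r34 r35 r36 r37 r40 r41 r42 r43 r45 r46 r47 r50 r51 r52 r53 r54 r56 r57 r60 r61 r62 r63 r64 r65 r67 r70 r71 r72 r73 r74 r75 r76 hw0 hw1 hw2 hw3 hw4 hw5 hw6 hw7 hs01 hs02 hs03 hs04 hs05 hs06 hs07 hs12 hs13 hs14 hs15 hs16 hs17 hs23 hs24 hs25 hs26 hs27 hs34 hs35 hs36 hs37 hs45 hs46 hs47 hs56 hs57 hs67 ha00 ha11 ha22 ha33 ha44 ha55 ha66 ha77 v0 v1 v2 v3 v4 v5 v6 v7 qn01 qn02 qn03 qn04 qn05 qn06 qn07 qn12 qn13 qn14 qn15 qn16 qn17 qn23 qn24 qn25 qn26 qn27 qn34 qn35 qn36 qn37 qn45 qn46 qn47 qn56 qn57 qn67 od1 od2 od3 od4 od5 od6 od7 c14 c15 c16 c17 c23 c24 c25 c26 c27 c34 c35 c36 c37 c45 c46 c47 c56 c57 c67 gw01 gw02 gw03 gw04 gw05 gw06 gw07 gw12 gw13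
                · exact part127 T α13 α14 α15 α16 α17 α23 α24 α25 α26 α27 α31 α32 α34 α35 α36 α37 α41 α42 α43 α45 α46 α47 α51 α52 α53 α54 α56 α57 α61 α62 α63 α64 α65 α67 α71 α72 α73 α74 α75 α76 x13 x14 x15 x16 x17 x23 x24 x25 x26 x27 x31 x32 x34 x35 x36 x37 x41 x42 x43 x45 x46 x47 x51 x52 x53 x54 x56 x57 x61 x62 x63 x64 x65 x67 x71 x72 x73 x74 x75 x76 q13 q14 q15 q16 q17 q23 q24 q25 q26 q27 q34 q35 q36 q37 q45 q46 q47 q56 q57 q67 hm0 hm1 hm2 hm3 hm4 hm5 hm6 hm7 om1 om2 om3 om4 om5 om6 om7 e0 e1 e2 e3 e4 e5 e6 e7 r01 r02 r03 r04 r05 r06 r07 r10 r12 r13 r14 r15 r16 r17 r20 r21 r23 r24 r25 r26 r27 r30 r31 r32 r34 r35 r36 r37 r40 r41 r42 r43 r45 r46 r47 r50 r51 r52 r53 r54 r56 r57 r60 r61 r62 r63 r64 r65 r67 r70 r71 r72 r73 r74 r75 r76 hw0 hw1 hw2 hw3 hw4 hw5 hw6 hw7 hs01 hs02 hs03 hs04 hs05 hs06 hs07 hs12 hs13 hs14 hs15 hs16 hs17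 hs23 hs24 hs25 hs26 hs27 hs34 hs35 hs36 hs37 hs45 hs46 hs47 hs56 hs57 hs67 ha00 ha11 ha22 ha33 ha44 ha55 ha66 ha77 v0 v1 v2 v3 v4 v5 v6 v7 qn01 qn02 qn03 qn04 qn05 qn06 qn07 qn12 qn13 qn14 qn15 qn16 qn17 qn23 qn24 qn25 qn26 qn27 qn34 qn35 qn36 qn37 qn45 qn46 qn47 qn56 qn57 qn67 od1 od2 od3 od4 od5 od6 od7 c13 c14 c15 c16 c17 c23 c24 c25 c26 c27 c34 c35 c36 c37 c45 c46 c47 c56 c57 c67 gw01 gw02 gw03 gw04 gw05 gw06 gw07 gw12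
                · exact part128 T α13 α14 α15 α16 α17 α23 α24 α25 α26 α27 α31 α32 α34 α35 α36 α37 α41 α42 α43 α45 α46 α47 α51 α52 α53 α54 α56 α57 α61 α62 α63 α64 α65 α67 α71 α72 α73 α74 α75 α76 x13 x14 x15 x16 x17 x23 x24 x25 x26 x27 x31 x32 x34 x35 x36 x37 x41 x42 x43 x45 x46 x47 x51 x52 x53 x54 x56 x57 x61 x62 x63 x64 x65 x67 x71 x72 x73 x74 x75 x76 q13 q14 q15 q16 q17 q23 q24 q25 q26 q27 q34 q35 q36 q37 q45 q46 q47 q56 q57 q67 hm0 hm1 hm2 hm3 hm4 hm5 hm6 hm7 om1 om2 om3 om4 om5 om6 om7 e0 e1 e2 e3 e4 e5 e6 e7 r01 r02 r03 r04 r05 r06 r07 r10 r12 r13 r14 r15 r16 r17 r20 r21 r23 r24 r25 r26 r27 r30 r31 r32 r34 r35 r36 r37 r40 r41 r42 r43 r45 r46 r47 r50 r51 r52 r53 r54 r56 r57 r60 r61 r62 r63 r64 r65 r67 r70 r71 r72 r73 r74 r75 r76 hw0 hw1 hw2 hw3 hw4 hw5 hw6 hw7 hs01 hs02 hs03 hs04 hs05 hs06 hs07 hs12 hs13 hs14 hs15 hs16 hs17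 hs23 hs24 hs25 hs26 hs27 hs34 hs35 hs36 hs37 hs45 hs46 hs47 hs56 hs57 hs67 ha00 ha11 ha22 ha33 ha44 ha55 ha66 ha77 v0 v1 v2 v3 v4 v5 v6 v7 qn01 qn02 qn03 qn04 qn05 qn06 qn07 qn12 qn13 qn14 qn15 qn16 qn17 qn23 qn24 qn25 qn26 qn27 qn34 qn35 qn36 qn37 qn45 qn46 qn47 qn56 qn57 qn67 od1 od2 od3 od4 od5 od6 od7 c13 c14 c15 c16 c17 c23 c24 c25 c26 c27 c34 c35 c36 c37 c45 c46 c47 c56 c57 c67 gw01 gw02 gw03 gw04 gw05 gw06 gw07 gw12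
              · exact part129 T α12 α13 α14 α15 α16 α17 α21 α23 α24 α25 α26 α27 α31 α32 α34 α35 α36 α37 α41 α42 α43 α45 α46 α47 α51 α52 α53 α54 α56 α57 α61 α62 α63 α64 α65 α67 α71 α72 α73 α74 α75 α76 x12 x13 x14 x15 x16 x17 x21 x23 x24 x25 x26 x27 x31 x32 x34 x35 x36 x37 x41 x42 x43 x45 x46 x47 x51 x52 x53 x54 x56 x57 x61 x62 x63 x64 x65 x67 x71 x72 x73 x74 x75 x76 q12 q13 q14 q15 q16 q17 q23 q24 q25 q26 q27 q34 q35 q36 q37 q45 q46 q47 q56 q57 q67 hm0 hm1 hm2 hm3 hm4 hm5 hm6 hm7 om1 om2 om3 om4 om5 om6 om7 e0 e1 e2 e3 e4 e5 e6 e7 r01 r02 r03 r04 r05 r06 r07 r10 r12 r13 r14 r15 r16 r17 r20 r21 r23 r24 r25 r26 r27 r30 r31 r32 r34 r35 r36 r37 r40 r41 r42 r43 r45 r46 r47 r50 r51 r52 r53 r54 r56 r57 r60 r61 r62 r63 r64 r65 r67 r70 r71 r72 r73 r74 r75 r76 hw0 hw1 hw2 hw3 hw4 hw5 hw6 hw7 hs01 hs02 hs03 hs04 hs05 hs06 hs07 hs12 hs13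 hs14 hs15 hs16 hs17 hs23 hs24 hs25 hs26 hs27 hs34 hs35 hs36 hs37 hs45 hs46 hs47 hs56 hs57 hs67 ha00 ha11 ha22 ha33 ha44 ha55 ha66 ha77 v0 v1 v2 v3 v4 v5 v6 v7 qn01 qn02 qn03 qn04 qn05 qn06 qn07 qn12 qn13 qn14 qn15 qn16 qn17 qn23 qn24 qn25 qn26 qn27 qn34 qn35 qn36 qn37 qn45 qn46 qn47 qn56 qn57 qn67 od1 od2 od3 od4 od5 od6 od7 c12 c13 c14 c15 c16 c17 c23 c24 c25 c26 c27 c34 c35 c36 c37 c45 c46 c47 c56 c57 c67 gw01 gw02 gw03 gw04 gw05 gw06 gw07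
              · exact part130 T α12 α13 α14 α15 α16 α17 α21 α23 α24 α25 α26 α27 α31 α32 α34 α35 α36 α37 α41 α42 α43 α45 α46 α47 α51 α52 α53 α54 α56 α57 α61 α62 α63 α64 α65 α67 α71 α72 α73 α74 α75 α76 x12 x13 x14 x15 x16 x17 x21 x23 x24 x25 x26 x27 x31 x32 x34 x35 x36 x37 x41 x42 x43 x45 x46 x47 x51 x52 x53 x54 x56 x57 x61 x62 x63 x64 x65 x67 x71 x72 x73 x74 x75 x76 q12 q13 q14 q15 q16 q17 q23 q24 q25 q26 q27 q34 q35 q36 q37 q45 q46 q47 q56 q57 q67 hm0 hm1 hm2 hm3 hm4 hm5 hm6 hm7 om1 om2 om3 om4 om5 om6 om7 e0 e1 e2 e3 e4 e5 e6 e7 r01 r02 r03 r04 r05 r06 r07 r10 r12 r13 r14 r15 r16 r17 r20 r21 r23 r24 r25 r26 r27 r30 r31 r32 r34 r35 r36 r37 r40 r41 r42 r43 r45 r46 r47 r50 r51 r52 r53 r54 r56 r57 r60 r61 r62 r63 r64 r65 r67 r70 r71 r72 r73 r74 r75 r76 hw0 hw1 hw2 hw3 hw4 hw5 hw6 hw7 hs01 hs02 hs03 hs04 hs05 hs06 hs07 hs12 hs13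 hs14 hs15 hs16 hs17 hs23 hs24 hs25 hs26 hs27 hs34 hs35 hs36 hs37 hs45 hs46 hs47 hs56 hs57 hs67 ha00 ha11 ha22 ha33 ha44 ha55 ha66 ha77 v0 v1 v2 v3 v4 v5 v6 v7 qn01 qn02 qn03 qn04 qn05 qn06 qn07 qn12 qn13 qn14 qn15 qn16 qn17 qn23 qn24 qn25 qn26 qn27 qn34 qn35 qn36 qn37 qn45 qn46 qn47 qn56 qn57 qn67 od1 od2 od3 od4 od5 od6 od7 c12 c13 c14 c15 c16 c17 c23 c24 c25 c26 c27 c34 c35 c36 c37 c45 c46 c47 c56 c57 c67 gw01 gw02 gw03 gw04 gw05 gw06 gw07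
              · (have := hm1.out; have := om7.out; have := e0.out; omega)
            · exact part131 T α07 α12 α13 α14 α15 α16 α17 α21 α23 α24 α25 α26 α27 α31 α32 α34 α35 α36 α37 α41 α42 α43 α45 α46 α47 α51 α52 α53 α54 α56 α57 α61 α62 α63 α64 α65 α67 α70 α71 α72 α73 α74 α75 α76 x07 x12 x13 x14 x15 x16 x17 x21 x23 x24 x25 x26 x27 x31 x32 x34 x35 x36 x37 x41 x42 x43 x45 x46 x47 x51 x52 x53 x54 x56 x57 x61 x62 x63 x64 x65 x67 x70 x71 x72 x73 x74 x75 x76 q07 q12 q13 q14 q15 q16 q17 q23 q24 q25 q26 q27 q34 q35 q36 q37 q45 q46 q47 q56 q57 q67 hm0 hm1 hm2 hm3 hm4 hm5 hm6 hm7 om1 om2 om3 om4 om5 om6 om7 e0 e1 e2 e3 e4 e5 e6 e7 r01 r02 r03 r04 r05 r06 r07 r10 r12 r13 r14 r15 r16 r17 r20 r21 r23 r24 r25 r26 r27 r30 r31 r32 r34 r35 r36 r37 r40 r41 r42 r43 r45 r46 r47 r50 r51 r52 r53 r54 r56 r57 r60 r61 r62 r63 r64 r65 r67 r70 r71 r72 r73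 r74 r75 r76 hw0 hw1 hw2 hw3 hw4 hw5 hw6 hw7 hs01 hs02 hs03 hs04 hs05 hs06 hs07 hs12 hs13 hs14 hs15 hs16 hs17 hs23 hs24 hs25 hs26 hs27 hs34 hs35 hs36 hs37 hs45 hs46 hs47 hs56 hs57 hs67 ha00 ha11 ha22 ha33 ha44 ha55 ha66 ha77 v0 v1 v2 v3 v4 v5 v6 v7 qn01 qn02 qn03 qn04 qn05 qn06 qn07 qn12 qn13 qn14 qn15 qn16 qn17 qn23 qn24 qn25 qn26 qn27 qn34 qn35 qn36 qn37 qn45 qn46 qn47 qn56 qn57 qn67 od1 od2 od3 od4 od5 od6 od7 c07 c12 c13 c14 c15 c16 c17 c23 c24 c25 c26 c27 c34 c35 c36 c37 c45 c46 c47 c56 c57 c67 gw01 gw02 gw03 gw04 gw05 gw06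
            · exact part132 T α07 α12 α13 α14 α15 α16 α17 α21 α23 α24 α25 α26 α27 α31 α32 α34 α35 α36 α37 α41 α42 α43 α45 α46 α47 α51 α52 α53 α54 α56 α57 α61 α62 α63 α64 α65 α67 α70 α71 α72 α73 α74 α75 α76 x07 x12 x13 x14 x15 x16 x17 x21 x23 x24 x25 x26 x27 x31 x32 x34 x35 x36 x37 x41 x42 x43 x45 x46 x47 x51 x52 x53 x54 x56 x57 x61 x62 x63 x64 x65 x67 x70 x71 x72 x73 x74 x75 x76 q07 q12 q13 q14 q15 q16 q17 q23 q24 q25 q26 q27 q34 q35 q36 q37 q45 q46 q47 q56 q57 q67 hm0 hm1 hm2 hm3 hm4 hm5 hm6 hm7 om1 om2 om3 om4 om5 om6 om7 e0 e1 e2 e3 e4 e5 e6 e7 r01 r02 r03 r04 r05 r06 r07 r10 r12 r13 r14 r15 r16 r17 r20 r21 r23 r24 r25 r26 r27 r30 r31 r32 r34 r35 r36 r37 r40 r41 r42 r43 r45 r46 r47 r50 r51 r52 r53 r54 r56 r57 r60 r61 r62 r63 r64 r65 r67 r70 r71 r72 r73 r74 r75 r76 hw0 hw1 hw2 hw3 hw4 hw5 hw6 hw7 hs01 hs02 hs03 hs04 hs05 hs06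 hs07 hs12 hs13 hs14 hs15 hs16 hs17 hs23 hs24 hs25 hs26 hs27 hs34 hs35 hs36 hs37 hs45 hs46 hs47 hs56 hs57 hs67 ha00 ha11 ha22 ha33 ha44 ha55 ha66 ha77 v0 v1 v2 v3 v4 v5 v6 v7 qn01 qn02 qn03 qn04 qn05 qn06 qn07 qn12 qn13 qn14 qn15 qn16 qn17 qn23 qn24 qn25 qn26 qn27 qn34 qn35 qn36 qn37 qn45 qn46 qn47 qn56 qn57 qn67 od1 od2 od3 od4 od5 od6 od7 c07 c12 c13 c14 c15 c16 c17 c23 c24 c25 c26 c27 c34 c35 c36 c37 c45 c46 c47 c56 c57 c67 gw01 gw02 gw03 gw04 gw05 gw06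
            · (have := hm1.out; have := om6.out; have := e0.out; have := r07.out; omega)
          · exact part133 T α06 α07 α12 α13 α14 α15 α16 α17 α21 α23 α24 α25 α26 α27 α31 α32 α34 α35 α36 α37 α41 α42 α43 α45 α46 α47 α51 α52 α53 α54 α56 α57 α60 α61 α62 α63 α64 α65 α67 α70 α71 α72 α73 α74 α75 α76 x06 x07 x12 x13 x14 x15 x16 x17 x21 x23 x24 x25 x26 x27 x31 x32 x34 x35 x36 x37 x41 x42 x43 x45 x46 x47 x51 x52 x53 x54 x56 x57 x60 x61 x62 x63 x64 x65 x67 x70 x71 x72 x73 x74 x75 x76 q06 q07 q12 q13 q14 q15 q16 q17 q23 q24 q25 q26 q27 q34 q35 q36 q37 q45 q46 q47 q56 q57 q67 hm0 hm1 hm2 hm3 hm4 hm5 hm6 hm7 om1 om2 om3 om4 om5 om6 om7 e0 e1 e2 e3 e4 e5 e6 e7 r01 r02 r03 r04 r05 r06 r07 r10 r12 r13 r14 r15 r16 r17 r20 r21 r23 r24 r25 r26 r27 r30 r31 r32 r34 r35 r36 r37 r40 r41 r42 r43 r45 r46 r47 r50 r51 r52 r53 r54 r56 r57 r60 r61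 r62 r63 r64 r65 r67 r70 r71 r72 r73 r74 r75 r76 hw0 hw1 hw2 hw3 hw4 hw5 hw6 hw7 hs01 hs02 hs03 hs04 hs05 hs06 hs07 hs12 hs13 hs14 hs15 hs16 hs17 hs23 hs24 hs25 hs26 hs27 hs34 hs35 hs36 hs37 hs45 hs46 hs47 hs56 hs57 hs67 ha00 ha11 ha22 ha33 ha44 ha55 ha66 ha77 v0 v1 v2 v3 v4 v5 v6 v7 qn01 qn02 qn03 qn04 qn05 qn06 qn07 qn12 qn13 qn14 qn15 qn16 qn17 qn23 qn24 qn25 qn26 qn27 qn34 qn35 qn36 qn37 qn45 qn46 qn47 qn56 qn57 qn67 od1 od2 od3 od4 od5 od6 od7 c06 c07 c12 c13 c14 c15 c16 c17 c23 c24 c25 c26 c27 c34 c35 c36 c37 c45 c46 c47 c56 c57 c67 gw01 gw02 gw03 gw04 gw05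
          · exact part134 T α06 α07 α12 α13 α14 α15 α16 α17 α21 α23 α24 α25 α26 α27 α31 α32 α34 α35 α36 α37 α41 α42 α43 α45 α46 α47 α51 α52 α53 α54 α56 α57 α60 α61 α62 α63 α64 α65 α67 α70 α71 α72 α73 α74 α75 α76 x06 x07 x12 x13 x14 x15 x16 x17 x21 x23 x24 x25 x26 x27 x31 x32 x34 x35 x36 x37 x41 x42 x43 x45 x46 x47 x51 x52 x53 x54 x56 x57 x60 x61 x62 x63 x64 x65 x67 x70 x71 x72 x73 x74 x75 x76 q06 q07 q12 q13 q14 q15 q16 q17 q23 q24 q25 q26 q27 q34 q35 q36 q37 q45 q46 q47 q56 q57 q67 hm0 hm1 hm2 hm3 hm4 hm5 hm6 hm7 om1 om2 om3 om4 om5 om6 om7 e0 e1 e2 e3 e4 e5 e6 e7 r01 r02 r03 r04 r05 r06 r07 r10 r12 r13 r14 r15 r16 r17 r20 r21 r23 r24 r25 r26 r27 r30 r31 r32 r34 r35 r36 r37 r40 r41 r42 r43 r45 r46 r47 r50 r51 r52 r53 r54 r56 r57 r60 r61 r62 r63 r64 r65 r67 r70 r71 r72 r73 r74 r75 r76 hw0 hw1 hw2 hw3 hw4 hw5 hw6 hw7 hs01 hs02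 hs03 hs04 hs05 hs06 hs07 hs12 hs13 hs14 hs15 hs16 hs17 hs23 hs24 hs25 hs26 hs27 hs34 hs35 hs36 hs37 hs45 hs46 hs47 hs56 hs57 hs67 ha00 ha11 ha22 ha33 ha44 ha55 ha66 ha77 v0 v1 v2 v3 v4 v5 v6 v7 qn01 qn02 qn03 qn04 qn05 qn06 qn07 qn12 qn13 qn14 qn15 qn16 qn17 qn23 qn24 qn25 qn26 qn27 qn34 qn35 qn36 qn37 qn45 qn46 qn47 qn56 qn57 qn67 od1 od2 od3 od4 od5 od6 od7 c06 c07 c12 c13 c14 c15 c16 c17 c23 c24 c25 c26 c27 c34 c35 c36 c37 c45 c46 c47 c56 c57 c67 gw01 gw02 gw03 gw04 gw05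
          · (have := hm1.out; have := om5.out; have := e0.out; have := r06.out; have := r07.out; omega)
        · exact part135 T α05 α06 α07 α12 α13 α14 α15 α16 α17 α21 α23 α24 α25 α26 α27 α31 α32 α34 α35 α36 α37 α41 α42 α43 α45 α46 α47 α50 α51 α52 α53 α54 α56 α57 α60 α61 α62 α63 α64 α65 α67 α70 α71 α72 α73 α74 α75 α76 x05 x06 x07 x12 x13 x14 x15 x16 x17 x21 x23 x24 x25 x26 x27 x31 x32 x34 x35 x36 x37 x41 x42 x43 x45 x46 x47 x50 x51 x52 x53 x54 x56 x57 x60 x61 x62 x63 x64 x65 x67 x70 x71 x72 x73 x74 x75 x76 q05 q06 q07 q12 q13 q14 q15 q16 q17 q23 q24 q25 q26 q27 q34 q35 q36 q37 q45 q46 q47 q56 q57 q67 hm0 hm1 hm2 hm3 hm4 hm5 hm6 hm7 om1 om2 om3 om4 om5 om6 om7 e0 e1 e2 e3 e4 e5 e6 e7 r01 r02 r03 r04 r05 r06 r07 r10 r12 r13 r14 r15 r16 r17 r20 r21 r23 r24 r25 r26 r27 r30 r31 r32 r34 r35 r36 r37 r40 r41 r42 r43 r45 r46 r47 r50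 r51 r52 r53 r54 r56 r57 r60 r61 r62 r63 r64 r65 r67 r70 r71 r72 r73 r74 r75 r76 hw0 hw1 hw2 hw3 hw4 hw5 hw6 hw7 hs01 hs02 hs03 hs04 hs05 hs06 hs07 hs12 hs13 hs14 hs15 hs16 hs17 hs23 hs24 hs25 hs26 hs27 hs34 hs35 hs36 hs37 hs45 hs46 hs47 hs56 hs57 hs67 ha00 ha11 ha22 ha33 ha44 ha55 ha66 ha77 v0 v1 v2 v3 v4 v5 v6 v7 qn01 qn02 qn03 qn04 qn05 qn06 qn07 qn12 qn13 qn14 qn15 qn16 qn17 qn23 qn24 qn25 qn26 qn27 qn34 qn35 qn36 qn37 qn45 qn46 qn47 qn56 qn57 qn67 od1 od2 od3 od4 od5 od6 od7 c05 c06 c07 c12 c13 c14 c15 c16 c17 c23 c24 c25 c26 c27 c34 c35 c36 c37 c45 c46 c47 c56 c57 c67 gw01 gw02 gw03 gw04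
        · exact part136 T α05 α06 α07 α12 α13 α14 α15 α16 α17 α21 α23 α24 α25 α26 α27 α31 α32 α34 α35 α36 α37 α41 α42 α43 α45 α46 α47 α50 α51 α52 α53 α54 α56 α57 α60 α61 α62 α63 α64 α65 α67 α70 α71 α72 α73 α74 α75 α76 x05 x06 x07 x12 x13 x14 x15 x16 x17 x21 x23 x24 x25 x26 x27 x31 x32 x34 x35 x36 x37 x41 x42 x43 x45 x46 x47 x50 x51 x52 x53 x54 x56 x57 x60 x61 x62 x63 x64 x65 x67 x70 x71 x72 x73 x74 x75 x76 q05 q06 q07 q12 q13 q14 q15 q16 q17 q23 q24 q25 q26 q27 q34 q35 q36 q37 q45 q46 q47 q56 q57 q67 hm0 hm1 hm2 hm3 hm4 hm5 hm6 hm7 om1 om2 om3 om4 om5 om6 om7 e0 e1 e2 e3 e4 e5 e6 e7 r01 r02 r03 r04 r05 r06 r07 r10 r12 r13 r14 r15 r16 r17 r20 r21 r23 r24 r25 r26 r27 r30 r31 r32 r34 r35 r36 r37 r40 r41 r42 r43 r45 r46 r47 r50 r51 r52 r53 r54 r56 r57 r60 r61 r62 r63 r64 r65 r67 r70 r71 r72 r73 r74 r75 r76 hw0 hw1 hw2 hw3 hw4 hw5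 hw6 hw7 hs01 hs02 hs03 hs04 hs05 hs06 hs07 hs12 hs13 hs14 hs15 hs16 hs17 hs23 hs24 hs25 hs26 hs27 hs34 hs35 hs36 hs37 hs45 hs46 hs47 hs56 hs57 hs67 ha00 ha11 ha22 ha33 ha44 ha55 ha66 ha77 v0 v1 v2 v3 v4 v5 v6 v7 qn01 qn02 qn03 qn04 qn05 qn06 qn07 qn12 qn13 qn14 qn15 qn16 qn17 qn23 qn24 qn25 qn26 qn27 qn34 qn35 qn36 qn37 qn45 qn46 qn47 qn56 qn57 qn67 od1 od2 od3 od4 od5 od6 od7 c05 c06 c07 c12 c13 c14 c15 c16 c17 c23 c24 c25 c26 c27 c34 c35 c36 c37 c45 c46 c47 c56 c57 c67 gw01 gw02 gw03 gw04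
        · (have := hm1.out; have := om4.out; have := e0.out; have := r05.out; have := r06.out; have := r07.out; omega)
      · exact part137 T α04 α05 α06 α07 α12 α13 α14 α15 α16 α17 α21 α23 α24 α25 α26 α27 α31 α32 α34 α35 α36 α37 α40 α41 α42 α43 α45 α46 α47 α50 α51 α52 α53 α54 α56 α57 α60 α61 α62 α63 α64 α65 α67 α70 α71 α72 α73 α74 α75 α76 x04 x05 x06 x07 x12 x13 x14 x15 x16 x17 x21 x23 x24 x25 x26 x27 x31 x32 x34 x35 x36 x37 x40 x41 x42 x43 x45 x46 x47 x50 x51 x52 x53 x54 x56 x57 x60 x61 x62 x63 x64 x65 x67 x70 x71 x72 x73 x74 x75 x76 q04 q05 q06 q07 q12 q13 q14 q15 q16 q17 q23 q24 q25 q26 q27 q34 q35 q36 q37 q45 q46 q47 q56 q57 q67 hm0 hm1 hm2 hm3 hm4 hm5 hm6 hm7 om1 om2 om3 om4 om5 om6 om7 e0 e1 e2 e3 e4 e5 e6 e7 r01 r02 r03 r04 r05 r06 r07 r10 r12 r13 r14 r15 r16 r17 r20 r21 r23 r24 r25 r26 r27 r30 r31 r32 r34 r35 r36 r37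 r40 r41 r42 r43 r45 r46 r47 r50 r51 r52 r53 r54 r56 r57 r60 r61 r62 r63 r64 r65 r67 r70 r71 r72 r73 r74 r75 r76 hw0 hw1 hw2 hw3 hw4 hw5 hw6 hw7 hs01 hs02 hs03 hs04 hs05 hs06 hs07 hs12 hs13 hs14 hs15 hs16 hs17 hs23 hs24 hs25 hs26 hs27 hs34 hs35 hs36 hs37 hs45 hs46 hs47 hs56 hs57 hs67 ha00 ha11 ha22 ha33 ha44 ha55 ha66 ha77 v0 v1 v2 v3 v4 v5 v6 v7 qn01 qn02 qn03 qn04 qn05 qn06 qn07 qn12 qn13 qn14 qn15 qn16 qn17 qn23 qn24 qn25 qn26 qn27 qn34 qn35 qn36 qn37 qn45 qn46 qn47 qn56 qn57 qn67 od1 od2 od3 od4 od5 od6 od7 c04 c05 c06 c07 c12 c13 c14 c15 c16 c17 c23 c24 c25 c26 c27 c34 c35 c36 c37 c45 c46 c47 c56 c57 c67 gw01 gw02 gw03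
      · exact part138 T α04 α05 α06 α07 α12 α13 α14 α15 α16 α17 α21 α23 α24 α25 α26 α27 α31 α32 α34 α35 α36 α37 α40 α41 α42 α43 α45 α46 α47 α50 α51 α52 α53 α54 α56 α57 α60 α61 α62 α63 α64 α65 α67 α70 α71 α72 α73 α74 α75 α76 x04 x05 x06 x07 x12 x13 x14 x15 x16 x17 x21 x23 x24 x25 x26 x27 x31 x32 x34 x35 x36 x37 x40 x41 x42 x43 x45 x46 x47 x50 x51 x52 x53 x54 x56 x57 x60 x61 x62 x63 x64 x65 x67 x70 x71 x72 x73 x74 x75 x76 q04 q05 q06 q07 q12 q13 q14 q15 q16 q17 q23 q24 q25 q26 q27 q34 q35 q36 q37 q45 q46 q47 q56 q57 q67 hm0 hm1 hm2 hm3 hm4 hm5 hm6 hm7 om1 om2 om3 om4 om5 om6 om7 e0 e1 e2 e3 e4 e5 e6 e7 r01 r02 r03 r04 r05 r06 r07 r10 r12 r13 r14 r15 r16 r17 r20 r21 r23 r24 r25 r26 r27 r30 r31 r32 r34 r35 r36 r37 r40 r41 r42 r43 r45 r46 r47 r50 r51 r52 r53 r54 r56 r57 r60 r61 r62 r63 r64 r65 r67 r70 r71 r72 r73 r74 r75 r76 hw0 hw1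 hw2 hw3 hw4 hw5 hw6 hw7 hs01 hs02 hs03 hs04 hs05 hs06 hs07 hs12 hs13 hs14 hs15 hs16 hs17 hs23 hs24 hs25 hs26 hs27 hs34 hs35 hs36 hs37 hs45 hs46 hs47 hs56 hs57 hs67 ha00 ha11 ha22 ha33 ha44 ha55 ha66 ha77 v0 v1 v2 v3 v4 v5 v6 v7 qn01 qn02 qn03 qn04 qn05 qn06 qn07 qn12 qn13 qn14 qn15 qn16 qn17 qn23 qn24 qn25 qn26 qn27 qn34 qn35 qn36 qn37 qn45 qn46 qn47 qn56 qn57 qn67 od1 od2 od3 od4 od5 od6 od7 c04 c05 c06 c07 c12 c13 c14 c15 c16 c17 c23 c24 c25 c26 c27 c34 c35 c36 c37 c45 c46 c47 c56 c57 c67 gw01 gw02 gw03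
      · (have := hm1.out; have := om3.out; have := e0.out; have := r04.out; have := r05.out; have := r06.out; have := r07.out; omega)
    · exact part139 T α03 α04 α05 α06 α07 α12 α13 α14 α15 α16 α17 α21 α23 α24 α25 α26 α27 α30 α31 α32 α34 α35 α36 α37 α40 α41 α42 α43 α45 α46 α47 α50 α51 α52 α53 α54 α56 α57 α60 α61 α62 α63 α64 α65 α67 α70 α71 α72 α73 α74 α75 α76 x03 x04 x05 x06 x07 x12 x13 x14 x15 x16 x17 x21 x23 x24 x25 x26 x27 x30 x31 x32 x34 x35 x36 x37 x40 x41 x42 x43 x45 x46 x47 x50 x51 x52 x53 x54 x56 x57 x60 x61 x62 x63 x64 x65 x67 x70 x71 x72 x73 x74 x75 x76 q03 q04 q05 q06 q07 q12 q13 q14 q15 q16 q17 q23 q24 q25 q26 q27 q34 q35 q36 q37 q45 q46 q47 q56 q57 q67 hm0 hm1 hm2 hm3 hm4 hm5 hm6 hm7 om1 om2 om3 om4 om5 om6 om7 e0 e1 e2 e3 e4 e5 e6 e7 r01 r02 r03 r04 r05 r06 r07 r10 r12 r13 r14 r15 r16 r17 r20 r21 r23 r24 r25 r26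 r27 r30 r31 r32 r34 r35 r36 r37 r40 r41 r42 r43 r45 r46 r47 r50 r51 r52 r53 r54 r56 r57 r60 r61 r62 r63 r64 r65 r67 r70 r71 r72 r73 r74 r75 r76 hw0 hw1 hw2 hw3 hw4 hw5 hw6 hw7 hs01 hs02 hs03 hs04 hs05 hs06 hs07 hs12 hs13 hs14 hs15 hs16 hs17 hs23 hs24 hs25 hs26 hs27 hs34 hs35 hs36 hs37 hs45 hs46 hs47 hs56 hs57 hs67 ha00 ha11 ha22 ha33 ha44 ha55 ha66 ha77 v0 v1 v2 v3 v4 v5 v6 v7 qn01 qn02 qn03 qn04 qn05 qn06 qn07 qn12 qn13 qn14 qn15 qn16 qn17 qn23 qn24 qn25 qn26 qn27 qn34 qn35 qn36 qn37 qn45 qn46 qn47 qn56 qn57 qn67 od1 od2 od3 od4 od5 od6 od7 c03 c04 c05 c06 c07 c12 c13 c14 c15 c16 c17 c23 c24 c25 c26 c27 c34 c35 c36 c37 c45 c46 c47 c56 c57 c67 gw01 gw02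
    · exact part140 T α03 α04 α05 α06 α07 α12 α13 α14 α15 α16 α17 α21 α23 α24 α25 α26 α27 α30 α31 α32 α34 α35 α36 α37 α40 α41 α42 α43 α45 α46 α47 α50 α51 α52 α53 α54 α56 α57 α60 α61 α62 α63 α64 α65 α67 α70 α71 α72 α73 α74 α75 α76 x03 x04 x05 x06 x07 x12 x13 x14 x15 x16 x17 x21 x23 x24 x25 x26 x27 x30 x31 x32 x34 x35 x36 x37 x40 x41 x42 x43 x45 x46 x47 x50 x51 x52 x53 x54 x56 x57 x60 x61 x62 x63 x64 x65 x67 x70 x71 x72 x73 x74 x75 x76 q03 q04 q05 q06 q07 q12 q13 q14 q15 q16 q17 q23 q24 q25 q26 q27 q34 q35 q36 q37 q45 q46 q47 q56 q57 q67 hm0 hm1 hm2 hm3 hm4 hm5 hm6 hm7 om1 om2 om3 om4 om5 om6 om7 e0 e1 e2 e3 e4 e5 e6 e7 r01 r02 r03 r04 r05 r06 r07 r10 r12 r13 r14 r15 r16 r17 r20 r21 r23 r24 r25 r26 r27 r30 r31 r32 r34 r35 r36 r37 r40 r41 r42 r43 r45 r46 r47 r50 r51 r52 r53 r54 r56 r57 r60 r61 r62 r63 r64 r65 r67 r70 r71 r72 r73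 r74 r75 r76 hw0 hw1 hw2 hw3 hw4 hw5 hw6 hw7 hs01 hs02 hs03 hs04 hs05 hs06 hs07 hs12 hs13 hs14 hs15 hs16 hs17 hs23 hs24 hs25 hs26 hs27 hs34 hs35 hs36 hs37 hs45 hs46 hs47 hs56 hs57 hs67 ha00 ha11 ha22 ha33 ha44 ha55 ha66 ha77 v0 v1 v2 v3 v4 v5 v6 v7 qn01 qn02 qn03 qn04 qn05 qn06 qn07 qn12 qn13 qn14 qn15 qn16 qn17 qn23 qn24 qn25 qn26 qn27 qn34 qn35 qn36 qn37 qn45 qn46 qn47 qn56 qn57 qn67 od1 od2 od3 od4 od5 od6 od7 c03 c04 c05 c06 c07 c12 c13 c14 c15 c16 c17 c23 c24 c25 c26 c27 c34 c35 c36 c37 c45 c46 c47 c56 c57 c67 gw01 gw02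
    · (have := hm1.out; have := om2.out; have := e0.out; have := r03.out; have := r04.out; have := r05.out; have := r06.out; have := r07.out; omega)
  · exact part141 T α02 α03 α04 α05 α06 α07 α12 α13 α14 α15 α16 α17 α20 α21 α23 α24 α25 α26 α27 α30 α31 α32 α34 α35 α36 α37 α40 α41 α42 α43 α45 α46 α47 α50 α51 α52 α53 α54 α56 α57 α60 α61 α62 α63 α64 α65 α67 α70 α71 α72 α73 α74 α75 α76 x02 x03 x04 x05 x06 x07 x12 x13 x14 x15 x16 x17 x20 x21 x23 x24 x25 x26 x27 x30 x31 x32 x34 x35 x36 x37 x40 x41 x42 x43 x45 x46 x47 x50 x51 x52 x53 x54 x56 x57 x60 x61 x62 x63 x64 x65 x67 x70 x71 x72 x73 x74 x75 x76 q02 q03 q04 q05 q06 q07 q12 q13 q14 q15 q16 q17 q23 q24 q25 q26 q27 q34 q35 q36 q37 q45 q46 q47 q56 q57 q67 hm0 hm1 hm2 hm3 hm4 hm5 hm6 hm7 om1 om2 om3 om4 om5 om6 om7 e0 e1 e2 e3 e4 e5 e6 e7 r01 r02 r03 r04 r05 r06 r07 r10 r12 r13 r14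 r15 r16 r17 r20 r21 r23 r24 r25 r26 r27 r30 r31 r32 r34 r35 r36 r37 r40 r41 r42 r43 r45 r46 r47 r50 r51 r52 r53 r54 r56 r57 r60 r61 r62 r63 r64 r65 r67 r70 r71 r72 r73 r74 r75 r76 hw0 hw1 hw2 hw3 hw4 hw5 hw6 hw7 hs01 hs02 hs03 hs04 hs05 hs06 hs07 hs12 hs13 hs14 hs15 hs16 hs17 hs23 hs24 hs25 hs26 hs27 hs34 hs35 hs36 hs37 hs45 hs46 hs47 hs56 hs57 hs67 ha00 ha11 ha22 ha33 ha44 ha55 ha66 ha77 v0 v1 v2 v3 v4 v5 v6 v7 qn01 qn02 qn03 qn04 qn05 qn06 qn07 qn12 qn13 qn14 qn15 qn16 qn17 qn23 qn24 qn25 qn26 qn27 qn34 qn35 qn36 qn37 qn45 qn46 qn47 qn56 qn57 qn67 od1 od2 od3 od4 od5 od6 od7 c02 c03 c04 c05 c06 c07 c12 c13 c14 c15 c16 c17 c23 c24 c25 c26 c27 c34 c35 c36 c37 c45 c46 c47 c56 c57 c67 gw01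
  · exact part142 T α02 α03 α04 α05 α06 α07 α12 α13 α14 α15 α16 α17 α20 α21 α23 α24 α25 α26 α27 α30 α31 α32 α34 α35 α36 α37 α40 α41 α42 α43 α45 α46 α47 α50 α51 α52 α53 α54 α56 α57 α60 α61 α62 α63 α64 α65 α67 α70 α71 α72 α73 α74 α75 α76 x02 x03 x04 x05 x06 x07 x12 x13 x14 x15 x16 x17 x20 x21 x23 x24 x25 x26 x27 x30 x31 x32 x34 x35 x36 x37 x40 x41 x42 x43 x45 x46 x47 x50 x51 x52 x53 x54 x56 x57 x60 x61 x62 x63 x64 x65 x67 x70 x71 x72 x73 x74 x75 x76 q02 q03 q04 q05 q06 q07 q12 q13 q14 q15 q16 q17 q23 q24 q25 q26 q27 q34 q35 q36 q37 q45 q46 q47 q56 q57 q67 hm0 hm1 hm2 hm3 hm4 hm5 hm6 hm7 om1 om2 om3 om4 om5 om6 om7 e0 e1 e2 e3 e4 e5 e6 e7 r01 r02 r03 r04 r05 r06 r07 r10 r12 r13 r14 r15 r16 r17 r20 r21 r23 r24 r25 r26 r27 r30 r31 r32 r34 r35 r36 r37 r40 r41 r42 r43 r45 r46 r47 r50 r51 r52 r53 r54 r56 r57 r60 r61 r62 r63 r64 r65 r67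 r70 r71 r72 r73 r74 r75 r76 hw0 hw1 hw2 hw3 hw4 hw5 hw6 hw7 hs01 hs02 hs03 hs04 hs05 hs06 hs07 hs12 hs13 hs14 hs15 hs16 hs17 hs23 hs24 hs25 hs26 hs27 hs34 hs35 hs36 hs37 hs45 hs46 hs47 hs56 hs57 hs67 ha00 ha11 ha22 ha33 ha44 ha55 ha66 ha77 v0 v1 v2 v3 v4 v5 v6 v7 qn01 qn02 qn03 qn04 qn05 qn06 qn07 qn12 qn13 qn14 qn15 qn16 qn17 qn23 qn24 qn25 qn26 qn27 qn34 qn35 qn36 qn37 qn45 qn46 qn47 qn56 qn57 qn67 od1 od2 od3 od4 od5 od6 od7 c02 c03 c04 c05 c06 c07 c12 c13 c14 c15 c16 c17 c23 c24 c25 c26 c27 c34 c35 c36 c37 c45 c46 c47 c56 c57 c67 gw01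
  · (have := hm0.out; have := om1.out; have := e0.out; have := r02.out; have := r03.out; have := r04.out; have := r05.out; have := r06.out; have := r07.out; omega)
  · exact part143 T α02 α03 α04 α05 α06 α07 α12 α13 α14 α15 α16 α17 α20 α21 α23 α24 α25 α26 α27 α30 α31 α32 α34 α35 α36 α37 α40 α41 α42 α43 α45 α46 α47 α50 α51 α52 α53 α54 α56 α57 α60 α61 α62 α63 α64 α65 α67 α70 α71 α72 α73 α74 α75 α76 x02 x03 x04 x05 x06 x07 x12 x13 x14 x15 x16 x17 x20 x21 x23 x24 x25 x26 x27 x30 x31 x32 x34 x35 x36 x37 x40 x41 x42 x43 x45 x46 x47 x50 x51 x52 x53 x54 x56 x57 x60 x61 x62 x63 x64 x65 x67 x70 x71 x72 x73 x74 x75 x76 q02 q03 q04 q05 q06 q07 q12 q13 q14 q15 q16 q17 q23 q24 q25 q26 q27 q34 q35 q36 q37 q45 q46 q47 q56 q57 q67 hm0 hm1 hm2 hm3 hm4 hm5 hm6 hm7 om1 om2 om3 om4 om5 om6 om7 e0 e1 e2 e3 e4 e5 e6 e7 r01 r02 r03 r04 r05 r06 r07 r10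 r12 r13 r14 r15 r16 r17 r20 r21 r23 r24 r25 r26 r27 r30 r31 r32 r34 r35 r36 r37 r40 r41 r42 r43 r45 r46 r47 r50 r51 r52 r53 r54 r56 r57 r60 r61 r62 r63 r64 r65 r67 r70 r71 r72 r73 r74 r75 r76 hw0 hw1 hw2 hw3 hw4 hw5 hw6 hw7 hs01 hs02 hs03 hs04 hs05 hs06 hs07 hs12 hs13 hs14 hs15 hs16 hs17 hs23 hs24 hs25 hs26 hs27 hs34 hs35 hs36 hs37 hs45 hs46 hs47 hs56 hs57 hs67 ha00 ha11 ha22 ha33 ha44 ha55 ha66 ha77 v0 v1 v2 v3 v4 v5 v6 v7 qn01 qn02 qn03 qn04 qn05 qn06 qn07 qn12 qn13 qn14 qn15 qn16 qn17 qn23 qn24 qn25 qn26 qn27 qn34 qn35 qn36 qn37 qn45 qn46 qn47 qn56 qn57 qn67 od1 od2 od3 od4 od5 od6 od7 c02 c03 c04 c05 c06 c07 c12 c13 c14 c15 c16 c17 c23 c24 c25 c26 c27 c34 c35 c36 c37 c45 c46 c47 c56 c57 c67 gw01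
  · (have := hm0.out; have := om1.out; have := e0.out; have := r02.out; have := r03.out; have := r04.out; have := r05.out; have := r06.out; have := r07.out; omega)
  · exact part144 T α02 α03 α04 α05 α06 α07 α12 α13 α14 α15 α16 α17 α20 α21 α23 α24 α25 α26 α27 α30 α31 α32 α34 α35 α36 α37 α40 α41 α42 α43 α45 α46 α47 α50 α51 α52 α53 α54 α56 α57 α60 α61 α62 α63 α64 α65 α67 α70 α71 α72 α73 α74 α75 α76 x02 x03 x04 x05 x06 x07 x12 x13 x14 x15 x16 x17 x20 x21 x23 x24 x25 x26 x27 x30 x31 x32 x34 x35 x36 x37 x40 x41 x42 x43 x45 x46 x47 x50 x51 x52 x53 x54 x56 x57 x60 x61 x62 x63 x64 x65 x67 x70 x71 x72 x73 x74 x75 x76 q02 q03 q04 q05 q06 q07 q12 q13 q14 q15 q16 q17 q23 q24 q25 q26 q27 q34 q35 q36 q37 q45 q46 q47 q56 q57 q67 hm0 hm1 hm2 hm3 hm4 hm5 hm6 hm7 om1 om2 om3 om4 om5 om6 om7 e0 e1 e2 e3 e4 e5 e6 e7 r01 r02 r03 r04 r05 r06 r07 r10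 r12 r13 r14 r15 r16 r17 r20 r21 r23 r24 r25 r26 r27 r30 r31 r32 r34 r35 r36 r37 r40 r41 r42 r43 r45 r46 r47 r50 r51 r52 r53 r54 r56 r57 r60 r61 r62 r63 r64 r65 r67 r70 r71 r72 r73 r74 r75 r76 hw0 hw1 hw2 hw3 hw4 hw5 hw6 hw7 hs01 hs02 hs03 hs04 hs05 hs06 hs07 hs12 hs13 hs14 hs15 hs16 hs17 hs23 hs24 hs25 hs26 hs27 hs34 hs35 hs36 hs37 hs45 hs46 hs47 hs56 hs57 hs67 ha00 ha11 ha22 ha33 ha44 ha55 ha66 ha77 v0 v1 v2 v3 v4 v5 v6 v7 qn01 qn02 qn03 qn04 qn05 qn06 qn07 qn12 qn13 qn14 qn15 qn16 qn17 qn23 qn24 qn25 qn26 qn27 qn34 qn35 qn36 qn37 qn45 qn46 qn47 qn56 qn57 qn67 od1 od2 od3 od4 od5 od6 od7 c02 c03 c04 c05 c06 c07 c12 c13 c14 c15 c16 c17 c23 c24 c25 c26 c27 c34 c35 c36 c37 c45 c46 c47 c56 c57 c67 gw01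

end Groth.Agent.Lib.helper20.G1n8
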