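import Mathlib
import Groth.Agent.Lib.Helper20.EulerAlg

/-!
# Koszul cochain algebra on functions of finite subsets (helper20)

For `ξ : Fin m → T` and `v : Finset (Fin m) → T` the Koszul coboundary
`cbd ξ v K = ∑_{l ∈ K} sgn l (K.erase l) * ξ l * v (K.erase l)`.

* `cbd_cbd`: `cbd ξ (cbd ξ v) = 0`.
* `hs i`, `cbd_hs`: the homotopy `cbd ξ (hs i v) + hs i (cbd ξ v) = ξ i • v`.
* `ins j`, `cbd_ins`: wedge with `e_j`.
* `cbd_minor`: the maximal minors of a matrix `E` with `ξ = E f` form a cocycle.
-/

set_option autoImplicit false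

namespace Groth.Agent.Lib.Helper20.GK

open Finset Groth.Agent.Lib.helper20.EulerAlg

variable {m : ℕ} {T : Type*} [CommRing T]

/-- the Koszul coboundary -/
def cbd (ξ : Fin m → T) (v : Finset (Fin m) → T) (K : Finset (Fin m)) : T :=
  ∑ l, if l ∈ K then (sgn l (K.erase l) : T) * ξ l * v (K.erase l) else 0

lemma sgn_sq (l : Fin m) (J : Finset (Fin m)) : (sgn l J : T) * (sgn l J : T) = 1 := by
  rw [← Int.cast_mul, sgn_mul_self, Int.cast_one]

lemma cbd_congr (ξ : Fin m → T) (v v' : Finset (Fin m) → T) (K : Finset (Fin m))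
    (h : ∀ l ∈ K, v (K.erase l) = v' (K.erase l)) : cbd ξ v K = cbd ξ v' K := by
  unfold cbd
  refine Finset.sum_congr rfl fun l _ => ?_
  by_cases hl : l ∈ K
  · rw [if_pos hl, if_pos hl, h l hl]
  · rw [if_neg hl, if_neg hl]

lemma cbd_add (ξ : Fin m → T) (v w : Finset (Fin m) → T) (K : Finset (Fin m)) :
    cbd ξ (fun S => v S + w S) K = cbd ξ v K + cbd ξ w K := by
  unfold cbd
  rw [← Finset.sum_add_distrib]
  refine Finset.sum_congr rfl fun l _ => ?_
  by_cases hl : l ∈ K
  · simp only [if_pos hl]; ring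
  · simp only [if_neg hl, add_zero]

lemma cbd_sub (ξ : Fin m → T) (v w : Finset (Fin m) → T) (K : Finset (Fin m)) :
    cbd ξ (fun S => v S - w S) K = cbd ξ v K - cbd ξ w K := by
  unfold cbd
  rw [← Finset.sum_sub_distrib]
  refine Finset.sum_congr rfl fun l _ => ?_
  by_cases hl : l ∈ K
  · simp only [if_pos hl]; ring
  · simp only [if_neg hl, sub_zero]

lemma cbd_smul (ξ : Fin m → T) (a : T) (v : Finset (Fin m) → T) (K : Finset (Fin m)) :
    cbd ξ (fun S => a * v S) K = a * cbd ξ v K := by
  unfold cbd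
  rw [Finset.mul_sum]
  refine Finset.sum_congr rfl fun l _ => ?_
  by_cases hl : l ∈ K
  · simp only [if_pos hl]; ring
  · simp only [if_neg hl, mul_zero]

lemma cbd_sum {ι : Type*} (s : Finset ι) (ξ : Fin m → T) (v : ι → Finset (Fin m) → T)
    (K : Finset (Fin m)) :
    cbd ξ (fun S => ∑ i ∈ s, v i S) K = ∑ i ∈ s, cbd ξ (v i) K := by
  classical
  induction s using Finset.induction_on with
  | empty =>
    simp only [Finset.sum_empty]
    unfold cbd
    refine Finset.sum_eq_zero fun l _ => ?_
    split_ifs <;> simp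
  | insert a s ha ih =>
    simp only [Finset.sum_insert ha]
    rw [cbd_add, ih]

lemma cbd_zero (ξ : Fin m → T) (K : Finset (Fin m)) : cbd ξ (fun _ => (0 : T)) K = 0 := by
  unfold cbd
  refine Finset.sum_eq_zero fun l _ => ?_
  split_ifs <;> simp

lemma cbd_cbd (ξ : Fin m → T) (v : Finset (Fin m) → T) (K : Finset (Fin m)) :
    cbd ξ (cbd ξ v) K = 0 := by
  classical
  let F : Fin m × Fin m → T := fun q =>
    if q.1 ∈ K ∧ q.2 ∈ K ∧ q.2 ≠ q.1 then
      (sgn q.1 (K.erase q.1) : T) * ξ q.1 * ((sgn q.2 ((K.erase q.1).erase q.2) : T) * ξ q.2 *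
        v ((K.erase q.1).erase q.2))
    else 0
  have h1 : cbd ξ (cbd ξ v) K = ∑ q : Fin m × Fin m, F q := by
    rw [Fintype.sum_prod_type]
    unfold cbd
    refine Finset.sum_congr rfl fun l _ => ?_
    by_cases hl : l ∈ K
    · rw [if_pos hl, Finset.mul_sum]
      refine Finset.sum_congr rfl fun k _ => ?_
      simp only [F]
      by_cases hk : k ∈ K.erase l
      · rw [if_pos hk, if_pos]
        exact ⟨hl, Finset.mem_of_mem_erase hk, Finset.ne_of_mem_erase hk⟩
      · rw [if_neg hk, mul_zero, if_neg]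
        rintro ⟨-, h2, h3⟩
        exact hk (Finset.mem_erase.mpr ⟨h3, h2⟩)
    · rw [if_neg hl]
      symm
      refine Finset.sum_eq_zero fun k _ => ?_
      simp only [F]
      rw [if_neg]
      rintro ⟨h, -⟩
      exact hl h
  rw [h1]
  refine Finset.sum_involution (fun q _ => (q.2, q.1)) ?_ ?_ (fun _ _ => Finset.mem_univ _)
    (fun _ _ => rfl)
  · rintro ⟨l, k⟩ -
    simp only [F]
    by_cases h : l ∈ K ∧ k ∈ K ∧ k ≠ l
    · obtain ⟨hl, hk, hkl⟩ := h
      rw [if_pos ⟨hl, hk, hkl⟩, if_pos ⟨hk, hl, hkl.symm⟩]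
      have hk' : k ∈ K.erase l := Finset.mem_erase.mpr ⟨hkl, hk⟩
      have hl' : l ∈ K.erase k := Finset.mem_erase.mpr ⟨hkl.symm, hl⟩
      have e1 : sgn l (K.erase l) = sgn l ((K.erase l).erase k) * (if k < l then -1 else 1) :=
        sgn_erase hk'
      have e2 : sgn k (K.erase k) = sgn k ((K.erase k).erase l) * (if l < k then -1 else 1) :=
        sgn_erase hl'
      have e3 : (K.erase k).erase l = (K.erase l).erase k := Finset.erase_right_comm
      rw [e1, e2, e3]
      rcases lt_or_gt_of_ne hkl with h' | h'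
      · rw [if_pos h', if_neg (not_lt.mpr h'.le)]
        push_cast
        ring
      · rw [if_neg (not_lt.mpr h'.le), if_pos h']
        push_cast
        ring
    · rw [if_neg h, if_neg, add_zero]
      rintro ⟨h1, h2, h3⟩
      exact h ⟨h2, h1, h3.symm⟩
  · rintro ⟨l, k⟩ - hF
    simp only [F] at hF
    intro h
    apply hF
    rw [if_neg]
    rintro ⟨-, -, h3⟩
    exact h3 (Prod.ext_iff.mp h).1

/-- contraction with `e_i^*` -/
def hs (i : Fin m) (v : Finset (Fin m) → T) (S : Finset (Fin m)) : T :=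
  if i ∈ S then 0 else (sgn i S : T) * v (insert i S)

/-- wedge with `e_j` -/
def ins (j : Fin m) (w : Finset (Fin m) → T) (S : Finset (Fin m)) : T :=
  if j ∈ S then (sgn j (S.erase j) : T) * w (S.erase j) else 0

lemma hs_of_mem {i : Fin m} (v : Finset (Fin m) → T) {S : Finset (Fin m)} (h : i ∈ S) :
    hs i v S = 0 := if_pos h

lemma hs_of_notMem {i : Fin m} (v : Finset (Fin m) → T) {S : Finset (Fin m)} (h : i ∉ S) :
    hs i v S = (sgn i S : T) * v (insert i S) := if_neg h

lemma ins_of_mem {j : Fin m} (w : Finset (Fin m) → T) {S : Finset (Fin m)} (h : j ∈ S) :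
    ins j w S = (sgn j (S.erase j) : T) * w (S.erase j) := if_pos h

lemma ins_of_notMem {j : Fin m} (w : Finset (Fin m) → T) {S : Finset (Fin m)} (h : j ∉ S) :
    ins j w S = 0 := if_neg h

lemma hs_ins {j : Fin m} (w : Finset (Fin m) → T) {S : Finset (Fin m)} (h : j ∉ S) :
    hs j (ins j w) S = w S := by
  rw [hs_of_notMem _ h, ins_of_mem _ (Finset.mem_insert_self j S), Finset.erase_insert h,
    ← mul_assoc, sgn_sq, one_mul]

/-- **the homotopy identity** -/
theorem cbd_hs (ξ : Fin m → T) (i : Fin m) (v : Finset (Fin m) → T) (S : Finset (Fin m)) :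
    cbd ξ (hs i v) S + hs i (cbd ξ v) S = ξ i * v S := by
  classical
  by_cases hi : i ∈ S
  · rw [hs_of_mem _ hi, add_zero]
    unfold cbd
    rw [Finset.sum_eq_single i]
    · rw [if_pos hi, hs_of_notMem _ (Finset.notMem_erase i S), Finset.insert_erase hi]
      calc (sgn i (S.erase i) : T) * ξ i * ((sgn i (S.erase i) : T) * v S)
          = ((sgn i (S.erase i) : T) * (sgn i (S.erase i) : T)) * (ξ i * v S) := by ring
        _ = ξ i * v S := by rw [sgn_sq, one_mul]
    · intro l _ hl
      by_cases hlS : l ∈ S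
      · rw [if_pos hlS, hs_of_mem _ (Finset.mem_erase.mpr ⟨fun h => hl h.symm, hi⟩), mul_zero]
      · rw [if_neg hlS]
    · intro h
      exact absurd (Finset.mem_univ i) h
  · rw [hs_of_notMem _ hi]
    -- expand `cbd ξ v (insert i S)`
    have h1 : cbd ξ v (insert i S) = (sgn i S : T) * ξ i * v S +
        ∑ l, if l ∈ S then (sgn l (insert i (S.erase l)) : T) * ξ l * v (insert i (S.erase l))
          else 0 := by
      unfold cbd
      rw [← Finset.add_sum_erase Finset.univ _ (Finset.mem_univ i)]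
      rw [if_pos (Finset.mem_insert_self i S), Finset.erase_insert hi]
      congr 1
      rw [← Finset.sum_erase Finset.univ (a := i)
        (f := fun l => if l ∈ S then (sgn l (insert i (S.erase l)) : T) * ξ l *
          v (insert i (S.erase l)) else 0) (by simp only [if_neg hi])]
      refine Finset.sum_congr rfl fun l hl => ?_
      have hli : l ≠ i := Finset.ne_of_mem_erase hl
      by_cases hlS : l ∈ S
      · rw [if_pos (Finset.mem_insert_of_mem hlS), if_pos hlS,
          Finset.erase_insert_of_ne hli.symm]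
      · rw [if_neg hlS, if_neg]
        intro h
        rcases Finset.mem_insert.mp h with h | h
        · exact hli h
        · exact hlS h
    have h2 : cbd ξ (hs i v) S =
        ∑ l, if l ∈ S then (sgn l (S.erase l) : T) * ξ l *
          ((sgn i (S.erase l) : T) * v (insert i (S.erase l))) else 0 := by
      unfold cbd
      refine Finset.sum_congr rfl fun l _ => ?_
      by_cases hlS : l ∈ S
      · rw [if_pos hlS, if_pos hlS, hs_of_notMem _ (fun h => hi (Finset.mem_of_mem_erase h))]
      · rw [if_neg hlS, if_neg hlS]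
    rw [h1, h2, mul_add, ← mul_assoc, ← mul_assoc, sgn_sq, one_mul, Finset.mul_sum,
      add_comm, add_assoc, ← Finset.sum_add_distrib]
    rw [Finset.sum_eq_zero, add_zero]
    intro l _
    by_cases hlS : l ∈ S
    · rw [if_pos hlS, if_pos hlS]
      have hli : l ≠ i := fun h => hi (h ▸ hlS)
      have e1 : sgn l (insert i (S.erase l)) = sgn l (S.erase l) * (if i < l then -1 else 1) :=
        sgn_insert (fun h => hi (Finset.mem_of_mem_erase h))
      have e2 : sgn i S = sgn i (S.erase l) * (if l < i then -1 else 1) := sgn_erase hlS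
      rw [e1, e2]
      have hsq : (sgn i (S.erase l) : T) * (sgn i (S.erase l) : T) = 1 := sgn_sq _ _
      rcases lt_or_gt_of_ne hli with h' | h'
      · rw [if_pos h', if_neg (not_lt.mpr h'.le)]
        push_cast
        ring
      · rw [if_neg (not_lt.mpr h'.le), if_pos h']
        push_cast
        ring
    · rw [if_neg hlS, if_neg hlS, add_zero, mul_zero]

/-- the coboundary of `ins j w` on a set containing `j` -/
theorem cbd_ins (ξ : Fin m → T) (j : Fin m) (w : Finset (Fin m) → T) (S : Finset (Fin m))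
    (hj : j ∉ S) : cbd ξ (ins j w) (insert j S) = -((sgn j S : T) * cbd ξ w S) := by
  have h := cbd_hs ξ j (ins j w) S
  rw [ins_of_notMem _ hj, mul_zero, hs_of_notMem _ hj] at h
  have h2 : cbd ξ (hs j (ins j w)) S = cbd ξ w S := by
    refine cbd_congr ξ _ _ S fun l hl => ?_
    exact hs_ins w (fun h => hj (Finset.mem_of_mem_erase h))
  rw [h2] at h
  have hsq : (sgn j S : T) * (sgn j S : T) = 1 := sgn_sq _ _
  linear_combination (sgn j S : T) * h - (cbd ξ (ins j w) (insert j S)) * hsq

/-- the coboundary of `ins j w` on a set not containing `j` -/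
lemma cbd_ins_of_notMem (ξ : Fin m → T) (j : Fin m) (w : Finset (Fin m) → T)
    (S : Finset (Fin m)) (hj : j ∉ S) : cbd ξ (ins j w) S = 0 := by
  rw [← cbd_zero ξ S]
  refine cbd_congr ξ _ _ S fun l _ => ?_
  exact ins_of_notMem w (fun h => hj (Finset.mem_of_mem_erase h))

end Groth.Agent.Lib.Helper20.GK
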