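import Mathlib
import Groth.Agent.Lib.Helper20.EulerAlg

/-!
# The maximal minors of a matrix killed by `ξ`: the two-chart identity (helper20)

`minor_swap`: for `E : Fin (n+1) → Fin n → T` with `∑ ξ_j E_j = 0`,
`sgn l' (univ \ l') • M_{l'} • ξ_l = sgn l (univ \ l) • M_l • ξ_{l'}`, `M_l` the minor omitting the row `l`.
-/

set_option autoImplicit false

namespace Groth.Agent.Lib.Helper20.GK

open Finset Groth.Agent.Lib.helper20.EulerAlg

variable {n : ℕ} {T : Type*} [CommRing T]

theorem minor_swap (ξ : Fin (n + 1) → T) (E : Fin (n + 1) → Fin n → T)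
    (hE : ∀ b, ∑ j, ξ j * E j b = 0) (l l' : Fin (n + 1)) :
    (sgn l' (univ.erase l') : T) * minor E (univ.erase l') * ξ l =
      (sgn l (univ.erase l) : T) * minor E (univ.erase l) * ξ l' := by
  classical
  by_cases hll : l = l'
  · subst hll; rfl
  let K : Finset (Fin (n + 1)) := (univ.erase l).erase l'
  have hlK : l ∉ K := fun h => Finset.notMem_erase l univ (Finset.mem_of_mem_erase h)
  have hl'K : l' ∉ K := Finset.notMem_erase l' _
  have h1 : insert l K = univ.erase l' := by
    ext j
    simp only [K, Finset.mem_insert, Finset.mem_erase, Finset.mem_univ, and_true]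
    constructor
    · rintro (rfl | ⟨h1, -⟩)
      · exact hll
      · exact h1
    · intro h
      by_cases hj : j = l
      · exact Or.inl hj
      · exact Or.inr ⟨h, hj⟩
  have h2 : insert l' K = univ.erase l := by
    ext j
    simp only [K, Finset.mem_insert, Finset.mem_erase, Finset.mem_univ, and_true]
    constructor
    · rintro (rfl | ⟨-, h2⟩)
      · exact fun h => hll h.symm
      · exact h2
    · intro h
      by_cases hj : j = l'
      · exact Or.inl hj
      · exact Or.inr ⟨hj, h⟩
  have hbd := bd_minor ξ E hE K
  unfold bd at hbd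
  have hsum : ∑ j, (if j ∈ K then 0 else (sgn j K : T) * ξ j * minor E (insert j K)) =
      (sgn l K : T) * ξ l * minor E (insert l K) + (sgn l' K : T) * ξ l' * minor E (insert l' K) := by
    rw [← Finset.sum_subset (Finset.subset_univ ({l, l'} : Finset (Fin (n + 1))))]
    · rw [Finset.sum_pair hll, if_neg hlK, if_neg hl'K]
    · intro j _ hj
      rw [if_pos]
      simp only [Finset.mem_insert, Finset.mem_singleton, not_or] at hj
      simp only [K, Finset.mem_erase, Finset.mem_univ, and_true]
      exact ⟨hj.2, hj.1⟩
  rw [hsum, h1, h2] at hbd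
  have e1 : sgn l' (univ.erase l') = sgn l' K * (if l < l' then -1 else 1) := by
    rw [← h1]; exact sgn_insert hlK
  have e2 : sgn l (univ.erase l) = sgn l K * (if l' < l then -1 else 1) := by
    rw [← h2]; exact sgn_insert hl'K
  rw [e1, e2]
  have s1 : (sgn l K : T) * (sgn l K : T) = 1 := by
    rw [← Int.cast_mul, sgn_mul_self, Int.cast_one]
  have s2 : (sgn l' K : T) * (sgn l' K : T) = 1 := by
    rw [← Int.cast_mul, sgn_mul_self, Int.cast_one]
  have key : (sgn l' K : T) * ξ l * minor E (univ.erase l') +
      (sgn l K : T) * ξ l' * minor E (univ.erase l) = 0 := by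
    have := congrArg (fun t => (sgn l K : T) * (sgn l' K : T) * t) hbd
    simp only [mul_zero] at this
    calc (sgn l' K : T) * ξ l * minor E (univ.erase l') +
          (sgn l K : T) * ξ l' * minor E (univ.erase l)
        = ((sgn l K : T) * (sgn l K : T)) * ((sgn l' K : T) * ξ l * minor E (univ.erase l')) +
          ((sgn l' K : T) * (sgn l' K : T)) * ((sgn l K : T) * ξ l' * minor E (univ.erase l)) := by
          rw [s1, s2, one_mul, one_mul]
      _ = (sgn l K : T) * (sgn l' K : T) * ((sgn l K : T) * ξ l * minor E (univ.erase l') +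
          (sgn l' K : T) * ξ l' * minor E (univ.erase l)) := by ring
      _ = 0 := this
  rcases lt_or_gt_of_ne hll with h | h
  · rw [if_pos h, if_neg (not_lt.mpr h.le)]
    push_cast
    linear_combination (-1 : T) * key
  · rw [if_neg (not_lt.mpr h.le), if_pos h]
    push_cast
    linear_combination key

end Groth.Agent.Lib.Helper20.GK
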