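import Mathlib
import Groth.Agent.Lib.Helper20.GK1

/-!
# Koszul cochains: removing redundant generators (helper20)

`Ex I ξ p`: exactness in degree `p` of the Koszul cochain complex on the index set `I`.

* `ex_erase`: if `ξ j` is a combination of the `ξ l`, `l ∈ I.erase j`, then `Ex I ξ p → Ex (I.erase j) ξ p`.
* `cob_extend`: if `Ex (I.erase j) ξ p`, a `(p+1)`-cocycle on `I` whose restriction to `I.erase j` is a
  coboundary is a coboundary.
* `exists_cobound`: if `ξ` is generated by `ξ|S₀`, `#S₀ = c`, and the full complex is exact in degrees `< c`,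
  then a `c`-cocycle `z` with `z S₀ ∈ (ξ|S₀)` is a coboundary.
-/

set_option autoImplicit false

namespace Groth.Agent.Lib.Helper20.GK

open Finset Groth.Agent.Lib.helper20.EulerAlg

variable {m : ℕ} {T : Type*} [CommRing T]

/-- `v` is supported on the subsets of `I` of cardinality `p` -/
def SuppIn (I : Finset (Fin m)) (p : ℕ) (v : Finset (Fin m) → T) : Prop :=
  ∀ S, v S ≠ 0 → S ⊆ I ∧ S.card = p

/-- exactness in degree `p` of the Koszul cochain complex on the index set `I` -/
def Ex (I : Finset (Fin m)) (ξ : Fin m → T) (p : ℕ) : Prop :=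
  ∀ v : Finset (Fin m) → T, SuppIn I p v → (∀ K, K ⊆ I → cbd ξ v K = 0) →
    ∃ u : Finset (Fin m) → T, ∀ K, K ⊆ I → K.card = p → cbd ξ u K = v K

lemma cbd_neg (ξ : Fin m → T) (v : Finset (Fin m) → T) (K : Finset (Fin m)) :
    cbd ξ (fun S => -v S) K = -cbd ξ v K := by
  have h := cbd_smul ξ (-1) v K
  simp only [neg_mul, one_mul] at h
  exact h

lemma subset_erase_of_notMem {I K : Finset (Fin m)} {j : Fin m} (hK : K ⊆ I) (hj : j ∉ K) :
    K ⊆ I.erase j := fun x hx =>
  Finset.mem_erase.mpr ⟨fun h => hj (h ▸ hx), hK hx⟩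

theorem ex_erase (ξ : Fin m → T) (I : Finset (Fin m)) (j : Fin m) (hj : j ∈ I) (b : Fin m → T)
    (hb : ξ j = ∑ l ∈ I.erase j, b l * ξ l) (p : ℕ) (h : Ex I ξ p) : Ex (I.erase j) ξ p := by
  classical
  intro z' hz' hcoc'
  have hz'j : ∀ R, j ∈ R → z' R = 0 := by
    intro R hR
    by_contra hne
    exact Finset.notMem_erase j I ((hz' R hne).1 hR)
  let hh : Finset (Fin m) → T := fun S => ∑ l ∈ I.erase j, b l * hs l z' S
  let z : Finset (Fin m) → T := fun S => z' S + ins j hh S
  have hzsupp : SuppIn I p z := by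
    intro S hS
    by_cases h1 : z' S = 0
    · have h2 : ins j hh S ≠ 0 := by
        intro h3
        apply hS
        change z' S + ins j hh S = 0
        rw [h1, h3, add_zero]
      have hjS : j ∈ S := by
        by_contra hjS
        exact h2 (ins_of_notMem _ hjS)
      rw [ins_of_mem _ hjS] at h2
      have h3 : hh (S.erase j) ≠ 0 := fun h4 => h2 (by rw [h4, mul_zero])
      obtain ⟨l, hl, hl2⟩ := Finset.exists_ne_zero_of_sum_ne_zero h3
      have h5 : hs l z' (S.erase j) ≠ 0 := fun h6 => hl2 (by rw [h6, mul_zero])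
      have hlS : l ∉ S.erase j := fun h6 => h5 (hs_of_mem _ h6)
      rw [hs_of_notMem _ hlS] at h5
      have h6 : z' (insert l (S.erase j)) ≠ 0 := fun h7 => h5 (by rw [h7, mul_zero])
      obtain ⟨h7, h8⟩ := hz' _ h6
      rw [Finset.card_insert_of_notMem hlS] at h8
      constructor
      · intro x hx
        by_cases hxj : x = j
        · rw [hxj]; exact hj
        · exact Finset.mem_of_mem_erase
            (h7 (Finset.mem_insert_of_mem (Finset.mem_erase.mpr ⟨hxj, hx⟩)))
      · rw [← Finset.card_erase_add_one hjS]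
        exact h8
    · obtain ⟨h2, h3⟩ := hz' S h1
      exact ⟨fun x hx => Finset.mem_of_mem_erase (h2 hx), h3⟩
  have hcbdh : ∀ S, S ⊆ I.erase j → cbd ξ hh S = ξ j * z' S := by
    intro S hS
    have e1 : cbd ξ hh S = ∑ l ∈ I.erase j, b l * cbd ξ (hs l z') S := by
      change cbd ξ (fun S => ∑ l ∈ I.erase j, b l * hs l z' S) S = _
      rw [cbd_sum]
      refine Finset.sum_congr rfl fun l _ => ?_
      exact cbd_smul ξ (b l) (hs l z') S
    rw [e1, hb, Finset.sum_mul]
    refine Finset.sum_congr rfl fun l hl => ?_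
    have e2 := cbd_hs ξ l z' S
    have e3 : hs l (cbd ξ z') S = 0 := by
      by_cases hlS : l ∈ S
      · exact hs_of_mem _ hlS
      · rw [hs_of_notMem _ hlS, hcoc' (insert l S) (Finset.insert_subset hl hS), mul_zero]
    rw [e3, add_zero] at e2
    rw [e2]
    ring
  have hzcoc : ∀ K, K ⊆ I → cbd ξ z K = 0 := by
    intro K hK
    change cbd ξ (fun S => z' S + ins j hh S) K = 0
    rw [cbd_add]
    by_cases hjK : j ∈ K
    · set S := K.erase j with hS
      have hjS : j ∉ S := Finset.notMem_erase j K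
      have hKS : K = insert j S := (Finset.insert_erase hjK).symm
      have hSI : S ⊆ I.erase j := Finset.erase_subset_erase j hK
      rw [hKS, cbd_ins ξ j hh S hjS, hcbdh S hSI]
      have e1 := cbd_hs ξ j z' S
      have e2 : cbd ξ (hs j z') S = 0 := by
        rw [← cbd_zero ξ S]
        refine cbd_congr ξ _ _ S fun l _ => ?_
        by_cases hjR : j ∈ S.erase l
        · exact hs_of_mem _ hjR
        · rw [hs_of_notMem _ hjR, hz'j _ (Finset.mem_insert_self j _), mul_zero]
      rw [e2, zero_add, hs_of_notMem _ hjS] at e1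
      have hsq : (sgn j S : T) * (sgn j S : T) = 1 := sgn_sq _ _
      linear_combination (sgn j S : T) * e1 - (cbd ξ z' (insert j S)) * hsq
    · rw [hcoc' K (subset_erase_of_notMem hK hjK), cbd_ins_of_notMem ξ j hh K hjK, add_zero]
  obtain ⟨u, hu⟩ := h z hzsupp hzcoc
  refine ⟨u, fun K hK hKp => ?_⟩
  rw [hu K (fun x hx => Finset.mem_of_mem_erase (hK hx)) hKp]
  change z' K + ins j hh K = z' K
  rw [ins_of_notMem _ (fun hjK => Finset.notMem_erase j I (hK hjK)), add_zero]

theorem cob_extend (ξ : Fin m → T) (I : Finset (Fin m)) (j : Fin m) (hj : j ∈ I) (p : ℕ)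
    (hex : Ex (I.erase j) ξ p) (z : Finset (Fin m) → T)
    (hcoc : ∀ K, K ⊆ I → cbd ξ z K = 0) (u' : Finset (Fin m) → T)
    (hu' : ∀ K, K ⊆ I.erase j → K.card = p + 1 → cbd ξ u' K = z K) :
    ∃ u : Finset (Fin m) → T, ∀ K, K ⊆ I → K.card = p + 1 → cbd ξ u K = z K := by
  classical
  let y : Finset (Fin m) → T := fun S =>
    if S ⊆ I ∧ S.card = p + 1 then z S - cbd ξ u' S else 0
  have hy_pos : ∀ S, S ⊆ I → S.card = p + 1 → y S = z S - cbd ξ u' S := fun S h1 h2 =>
    if_pos ⟨h1, h2⟩
  have hy1 : ∀ K, K ⊆ I.erase j → y K = 0 := by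
    intro K hK
    by_cases hc : K ⊆ I ∧ K.card = p + 1
    · rw [hy_pos K hc.1 hc.2, hu' K hK hc.2, sub_self]
    · exact if_neg hc
  have hy2 : ∀ K, K ⊆ I → cbd ξ y K = 0 := by
    intro K hK
    by_cases hc : K.card = p + 2
    · have e1 : cbd ξ y K = cbd ξ (fun S => z S - cbd ξ u' S) K := by
        refine cbd_congr ξ _ _ K fun l hl => ?_
        refine hy_pos _ (fun x hx => hK (Finset.mem_of_mem_erase hx)) ?_
        rw [Finset.card_erase_of_mem hl, hc]
        rfl
      rw [e1, cbd_sub, hcoc K hK, cbd_cbd, sub_zero]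
    · rw [← cbd_zero ξ K]
      refine cbd_congr ξ _ _ K fun l hl => ?_
      refine if_neg ?_
      rintro ⟨-, h2⟩
      apply hc
      rw [← Finset.card_erase_add_one hl, h2]
  have hysupp : SuppIn (I.erase j) p (hs j y) := by
    intro R hR
    have hjR : j ∉ R := fun h => hR (hs_of_mem _ h)
    rw [hs_of_notMem _ hjR] at hR
    have h1 : y (insert j R) ≠ 0 := fun h => hR (by rw [h, mul_zero])
    have h2 : insert j R ⊆ I ∧ (insert j R).card = p + 1 := by
      by_contra hc
      exact h1 (if_neg hc)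
    constructor
    · exact subset_erase_of_notMem (fun x hx => h2.1 (Finset.mem_insert_of_mem hx)) hjR
    · have := h2.2
      rw [Finset.card_insert_of_notMem hjR] at this
      omega
  have hycoc : ∀ S, S ⊆ I.erase j → cbd ξ (hs j y) S = 0 := by
    intro S hS
    have hjS : j ∉ S := fun h => Finset.notMem_erase j I (hS h)
    have e1 := cbd_hs ξ j y S
    rw [hy1 S hS, mul_zero, hs_of_notMem _ hjS,
      hy2 (insert j S) (Finset.insert_subset hj (fun x hx => Finset.mem_of_mem_erase (hS hx))),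
      mul_zero, add_zero] at e1
    exact e1
  obtain ⟨tb, htb⟩ := hex (hs j y) hysupp hycoc
  refine ⟨fun S => u' S + ins j (fun R => -tb R) S, fun K hK hKp => ?_⟩
  rw [cbd_add]
  by_cases hjK : j ∈ K
  · set S := K.erase j with hS
    have hjS : j ∉ S := Finset.notMem_erase j K
    have hKS : K = insert j S := (Finset.insert_erase hjK).symm
    have hSI : S ⊆ I.erase j := Finset.erase_subset_erase j hK
    have hSp : S.card = p := by
      have := Finset.card_erase_add_one hjK
      rw [hKp, ← hS] at this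
      omega
    have e1 : cbd ξ (ins j (fun R => -tb R)) K = y K := by
      rw [hKS, cbd_ins ξ j _ S hjS, cbd_neg, htb S hSI hSp, hs_of_notMem _ hjS]
      have hsq : (sgn j S : T) * (sgn j S : T) = 1 := sgn_sq _ _
      linear_combination (y (insert j S)) * hsq
    rw [e1, hy_pos K hK hKp]
    ring
  · rw [hu' K (subset_erase_of_notMem hK hjK) hKp, cbd_ins_of_notMem ξ j _ K hjK, add_zero]

/-- exactness passes to index sets containing a generating subset -/
theorem ex_of_superset (ξ : Fin m → T) (S₀ : Finset (Fin m))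
    (hgen : ∀ j, ∃ b : Fin m → T, ξ j = ∑ l ∈ S₀, b l * ξ l) (p : ℕ)
    (h : Ex Finset.univ ξ p) : ∀ D : Finset (Fin m), Disjoint D S₀ → Ex Dᶜ ξ p := by
  classical
  intro D
  induction D using Finset.induction_on with
  | empty =>
    intro _
    rw [Finset.compl_empty]
    exact h
  | insert j D hjD ih =>
    intro hdis
    rw [Finset.disjoint_insert_left] at hdis
    have hjS₀ : j ∉ S₀ := hdis.1
    have ih' := ih hdis.2
    rw [Finset.compl_insert]
    obtain ⟨b, hb⟩ := hgen j
    have hsub : S₀ ⊆ Dᶜ.erase j := by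
      intro x hx
      refine Finset.mem_erase.mpr ⟨fun hxj => hjS₀ (hxj ▸ hx), ?_⟩
      rw [Finset.mem_compl]
      intro hxD
      exact (Finset.disjoint_left.mp hdis.2 hxD) hx
    refine ex_erase ξ Dᶜ j (Finset.mem_compl.mpr hjD) (fun l => if l ∈ S₀ then b l else 0) ?_ p ih'
    rw [hb]
    refine Finset.sum_subset_zero_on_sdiff hsub ?_ ?_
    · intro x hx
      rw [if_neg (Finset.mem_sdiff.mp hx).2, zero_mul]
    · intro x hx
      rw [if_pos hx]

/-- **removing redundant generators**: a `c`-cocycle whose `S₀`-component lies in `(ξ|S₀)` is a coboundary -/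
theorem exists_cobound (ξ : Fin m → T) (c : ℕ) (S₀ : Finset (Fin m)) (hS₀ : S₀.card = c)
    (hgen : ∀ j, ∃ b : Fin m → T, ξ j = ∑ l ∈ S₀, b l * ξ l)
    (hex : ∀ p, p < c → Ex Finset.univ ξ p)
    (z : Finset (Fin m) → T) (hcoc : ∀ K, cbd ξ z K = 0)
    (a : Fin m → T) (hz₀ : z S₀ = ∑ l ∈ S₀, a l * ξ l) :
    ∃ u : Finset (Fin m) → T, ∀ K, K.card = c → cbd ξ u K = z K := by
  classical
  rcases Nat.eq_zero_or_pos c with hc | hc
  · subst hc
    have hS : S₀ = ∅ := Finset.card_eq_zero.mp hS₀
    rw [hS, Finset.sum_empty] at hz₀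
    refine ⟨fun _ => 0, fun K hK => ?_⟩
    rw [Finset.card_eq_zero.mp hK, hz₀, cbd_zero]
  obtain ⟨p, rfl⟩ : ∃ p, c = p + 1 := ⟨c - 1, by omega⟩
  -- upward induction
  have key : ∀ D : Finset (Fin m), Disjoint D S₀ → ∀ z : Finset (Fin m) → T,
      (∀ K, K ⊆ S₀ ∪ D → cbd ξ z K = 0) → z S₀ = ∑ l ∈ S₀, a l * ξ l →
      ∃ u : Finset (Fin m) → T, ∀ K, K ⊆ S₀ ∪ D → K.card = p + 1 → cbd ξ u K = z K := by
    intro D
    induction D using Finset.induction_on with
    | empty =>
      intro _ z _ hz₀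
      let u : Finset (Fin m) → T := fun S =>
        ∑ l, if l ∈ S₀ ∧ S = S₀.erase l then (sgn l (S₀.erase l) : T) * a l else 0
      have hu : ∀ l, l ∈ S₀ → u (S₀.erase l) = (sgn l (S₀.erase l) : T) * a l := by
        intro l hl
        change (∑ l', if l' ∈ S₀ ∧ S₀.erase l = S₀.erase l' then _ else 0) = _
        rw [Finset.sum_eq_single l]
        · rw [if_pos ⟨hl, rfl⟩]
        · intro l' _ hl'
          rw [if_neg]
          rintro ⟨h1, h2⟩
          have : l' ∈ S₀.erase l := Finset.mem_erase.mpr ⟨hl', h1⟩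
          rw [h2] at this
          exact Finset.notMem_erase l' S₀ this
        · intro h
          exact absurd (Finset.mem_univ l) h
      refine ⟨u, fun K hK hKp => ?_⟩
      rw [Finset.union_empty] at hK
      have hKS : K = S₀ := Finset.eq_of_subset_of_card_le hK (by rw [hS₀, hKp])
      rw [hKS, hz₀]
      unfold cbd
      rw [← Finset.sum_filter, Finset.filter_mem_eq_inter, Finset.univ_inter]
      refine Finset.sum_congr rfl fun l hl => ?_
      rw [hu l hl]
      have hsq : (sgn l (S₀.erase l) : T) * (sgn l (S₀.erase l) : T) = 1 := sgn_sq _ _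
      linear_combination (ξ l * a l) * hsq
    | insert j D hjD ih =>
      intro hdis z hcoc hz₀
      rw [Finset.disjoint_insert_left] at hdis
      have hjS₀ : j ∉ S₀ := hdis.1
      have hI : S₀ ∪ insert j D = insert j (S₀ ∪ D) := Finset.union_insert j S₀ D
      have hjI : j ∉ S₀ ∪ D := by
        rw [Finset.mem_union]
        rintro (h | h)
        · exact hjS₀ h
        · exact hjD h
      have hIe : (S₀ ∪ insert j D).erase j = S₀ ∪ D := by
        rw [hI, Finset.erase_insert hjI]
      obtain ⟨u', hu'⟩ := ih hdis.2 z (fun K hK => hcoc K (by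
        rw [hI]; exact hK.trans (Finset.subset_insert _ _))) hz₀
      -- exactness on `S₀ ∪ D`
      have hexD : Ex (S₀ ∪ D) ξ p := by
        have hdisj : Disjoint (S₀ ∪ D)ᶜ S₀ := by
          rw [Finset.disjoint_left]
          intro x hx hx'
          exact (Finset.mem_compl.mp hx) (Finset.mem_union_left D hx')
        have := ex_of_superset ξ S₀ hgen p (hex p (Nat.lt_succ_self p)) (S₀ ∪ D)ᶜ hdisj
        rwa [compl_compl] at this
      have hjmem : j ∈ S₀ ∪ insert j D :=
        Finset.mem_union_right _ (Finset.mem_insert_self j D)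
      rw [← hIe] at hexD hu'
      exact cob_extend ξ (S₀ ∪ insert j D) j hjmem p hexD z hcoc u' hu'
  have hdisj : Disjoint (Finset.univ \ S₀) S₀ := Finset.sdiff_disjoint
  obtain ⟨u, hu⟩ := key (Finset.univ \ S₀) hdisj z (fun K _ => hcoc K) hz₀
  refine ⟨u, fun K hK => hu K ?_ hK⟩
  rw [Finset.union_sdiff_of_subset (Finset.subset_univ S₀)]
  exact Finset.subset_univ K

end Groth.Agent.Lib.Helper20.GK
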