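import Mathlib
import Groth.Agent.Lib.Helper20.GK2

/-!
# The cocycle of maximal minors (helper20)

`cbd_minor`: if `ξ j = ∑ b, E j b * f b` (`E` an `m × c` matrix), then `S ↦ minor E S * w` is a Koszul cocycle.
`det_lincomb`: an alternating map applied to `n` combinations of `n` vectors is `det • (value on the vectors)`.
-/

set_option autoImplicit false

namespace Groth.Agent.Lib.Helper20.GK

open Finset Groth.Agent.Lib.helper20.EulerAlg

variable {m : ℕ} {T : Type*} [CommRing T]

lemma sgn_orderEmb {q : ℕ} (K : Finset (Fin m)) (hK : K.card = q) (k : Fin q) :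
    (sgn (K.orderEmbOfFin hK k) (K.erase (K.orderEmbOfFin hK k)) : T) = (-1) ^ (k : ℕ) := by
  classical
  unfold sgn
  have h1 : (K.erase (K.orderEmbOfFin hK k)).filter (· < K.orderEmbOfFin hK k) =
      K.filter (· < K.orderEmbOfFin hK k) := by
    rw [Finset.filter_erase, Finset.erase_eq_of_notMem]
    intro h
    exact lt_irrefl _ (Finset.mem_filter.mp h).2
  rw [h1, orderEmbOfFin_symm_val K hK k]
  push_cast
  rfl

lemma orderEmbOfFin_erase {q : ℕ} (K : Finset (Fin m)) (hK : K.card = q + 1) (k : Fin (q + 1))
    (hc : (K.erase (K.orderEmbOfFin hK k)).card = q) (a : Fin q) :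
    (K.erase (K.orderEmbOfFin hK k)).orderEmbOfFin hc a = K.orderEmbOfFin hK (k.succAbove a) := by
  have h := Finset.orderEmbOfFin_unique hc
    (f := fun a => K.orderEmbOfFin hK (k.succAbove a)) ?_ ?_
  · exact (congrFun h a).symm
  · intro x
    refine Finset.mem_erase.mpr ⟨?_, Finset.orderEmbOfFin_mem K hK _⟩
    intro h
    exact Fin.succAbove_ne k x ((K.orderEmbOfFin hK).injective h)
  · intro x y hxy
    exact (K.orderEmbOfFin hK).strictMono (Fin.strictMono_succAbove k hxy)

/-- **the maximal minors form a cocycle** -/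
theorem cbd_minor {c : ℕ} (ξ : Fin m → T) (E : Fin m → Fin c → T) (f : Fin c → T)
    (hξ : ∀ j, ξ j = ∑ b, E j b * f b) (w : T) (K : Finset (Fin m)) :
    cbd ξ (fun S => minor E S * w) K = 0 := by
  classical
  by_cases hK : K.card = c + 1
  · set es := K.orderEmbOfFin hK with hes
    have h1 : cbd ξ (fun S => minor E S * w) K =
        ∑ k : Fin (c + 1), (sgn (es k) (K.erase (es k)) : T) * ξ (es k) *
          (minor E (K.erase (es k)) * w) := by
      unfold cbd
      rw [Finset.sum_ite_mem, Finset.univ_inter]
      have h0 := Finset.sum_map (Finset.univ) (K.orderEmbOfFin hK).toEmbedding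
        (fun l => (sgn l (K.erase l) : T) * ξ l * (minor E (K.erase l) * w))
      rw [Finset.map_orderEmbOfFin_univ] at h0
      exact h0
    rw [h1]
    -- the matrices
    let A : Fin c → Matrix (Fin (c + 1)) (Fin (c + 1)) T := fun b =>
      Matrix.of fun i => (Fin.cons (E (es i) b) (fun b' => E (es i) b') : Fin (c + 1) → T)
    have hA : ∀ b, (A b).det = 0 := by
      intro b
      refine Matrix.det_zero_of_column_eq (i := 0) (j := b.succ) (Fin.succ_ne_zero b).symm ?_
      intro i
      simp only [A, Matrix.of_apply, Fin.cons_zero, Fin.cons_succ]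
    have hminor : ∀ (b : Fin c) (k : Fin (c + 1)),
        minor E (K.erase (es k)) = ((A b).submatrix k.succAbove Fin.succ).det := by
      intro b k
      have hc : (K.erase (es k)).card = c := by
        rw [Finset.card_erase_of_mem (Finset.orderEmbOfFin_mem K hK k), hK]
        rfl
      rw [minor_of_card E _ hc]
      congr 1
      ext a b'
      simp only [A, Matrix.of_apply, Matrix.submatrix_apply, Fin.cons_succ]
      rw [orderEmbOfFin_erase K hK k hc a]
    have hexp : ∀ b : Fin c, (A b).det =
        ∑ k : Fin (c + 1), (-1) ^ (k : ℕ) * E (es k) b * minor E (K.erase (es k)) := by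
      intro b
      rw [Matrix.det_succ_column_zero]
      refine Finset.sum_congr rfl fun k _ => ?_
      rw [hminor b k]
      simp only [A, Matrix.of_apply, Fin.cons_zero]
    calc ∑ k : Fin (c + 1), (sgn (es k) (K.erase (es k)) : T) * ξ (es k) *
          (minor E (K.erase (es k)) * w)
        = ∑ k : Fin (c + 1), ∑ b, f b * w * ((-1) ^ (k : ℕ) * E (es k) b *
            minor E (K.erase (es k))) := by
          refine Finset.sum_congr rfl fun k _ => ?_
          rw [sgn_orderEmb K hK k, hξ (es k), Finset.mul_sum, Finset.sum_mul]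
          refine Finset.sum_congr rfl fun b _ => ?_
          ring
      _ = ∑ b, f b * w * (A b).det := by
          rw [Finset.sum_comm]
          refine Finset.sum_congr rfl fun b _ => ?_
          rw [hexp b, Finset.mul_sum]
      _ = 0 := by
          refine Finset.sum_eq_zero fun b _ => ?_
          rw [hA b, mul_zero]
  · unfold cbd
    refine Finset.sum_eq_zero fun l _ => ?_
    by_cases hl : l ∈ K
    · rw [if_pos hl]
      beta_reduce
      rw [minor_of_card_ne, zero_mul, mul_zero]
      intro h
      apply hK
      rw [← Finset.card_erase_add_one hl, h]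
    · rw [if_neg hl]

/-- an alternating map on `n` combinations of `n` vectors -/
theorem det_lincomb {R M Q : Type*} [CommRing R] [AddCommGroup M] [AddCommGroup Q] [Module R M]
    [Module R Q] {n : ℕ} (ψ : M [⋀^Fin n]→ₗ[R] Q) (u : Fin n → M) (C : Matrix (Fin n) (Fin n) R) :
    ψ (fun i => ∑ j, C i j • u j) = C.det • ψ u := by
  classical
  have h1 : ψ (fun i => ∑ j, C i j • u j) =
      ∑ σ : Fin n → Fin n, (∏ i, C i (σ i)) • ψ (fun i => u (σ i)) := by
    have := ψ.toMultilinearMap.map_sum (fun (i : Fin n) (j : Fin n) => C i j • u j)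
    rw [AlternatingMap.coe_multilinearMap] at this
    rw [this]
    refine Finset.sum_congr rfl fun σ _ => ?_
    exact ψ.toMultilinearMap.map_smul_univ (fun i => C i (σ i)) (fun i => u (σ i))
  rw [h1, ← Matrix.det_transpose, Matrix.det_apply', Finset.sum_smul]
  -- only bijective `σ` contribute
  rw [← Finset.sum_subset (Finset.subset_univ (Finset.univ.filter (fun σ : Fin n → Fin n =>
    Function.Bijective σ)))]
  · symm
    refine Finset.sum_bij (fun (τ : Equiv.Perm (Fin n)) _ => (τ : Fin n → Fin n)) ?_ ?_ ?_ ?_
    · intro τ _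
      exact Finset.mem_filter.mpr ⟨Finset.mem_univ _, τ.bijective⟩
    · intro τ _ τ' _ h
      exact Equiv.ext (congrFun h)
    · intro σ hσ
      exact ⟨Equiv.ofBijective σ (Finset.mem_filter.mp hσ).2, Finset.mem_univ _, rfl⟩
    · intro τ _
      have h2 : ψ (fun i => u (τ i)) = Equiv.Perm.sign τ • ψ u := ψ.map_perm u τ
      rw [h2, Units.smul_def, ← Int.cast_smul_eq_zsmul R, smul_smul, mul_comm]
      simp only [Matrix.transpose_apply]
  · intro σ _ hσ
    have hninj : ¬ Function.Injective σ := by
      intro hi
      exact hσ (Finset.mem_filter.mpr ⟨Finset.mem_univ _, Finite.injective_iff_bijective.mp hi⟩)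
    rw [ψ.map_eq_zero_of_not_injective _ (fun hi => hninj ?_), smul_zero]
    intro a b hab
    exact hi (congrArg u hab)

end Groth.Agent.Lib.Helper20.GK
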