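import Mathlib

/-!
# Alternating maps: descent along a surjection, congruences modulo an ideal, change of rings (helper20)

* `exists_alternating_descent`: an alternating map `Ψ` on `M` vanishing as soon as one argument lies in
  `ker π` (`π : M → N` surjective) descends to `N`.
* `alt_sub_mem`: if `v i - v' i ∈ J • ⊤` for all `i` then `ψ v - ψ v' ∈ J • ⊤`.
* `exists_linear_of_alternating`: an `A`-alternating map `N^r → Q` between `B`-modules (`A → B` surjective) induces a
  `B`-linear map `⋀[B]^r N → Q`.
-/

set_option autoImplicit false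

namespace Groth.Agent.Lib.Helper20.GK

open Function

section Descent

variable {R M N Q : Type*} [CommRing R] [AddCommGroup M] [AddCommGroup N] [AddCommGroup Q]
  [Module R M] [Module R N] [Module R Q] {r : ℕ}

lemma alt_eq_of_ker (π : M →ₗ[R] N) (Ψ : M [⋀^Fin r]→ₗ[R] Q)
    (hΨ : ∀ (v : Fin r → M) (j : Fin r) (k : M), π k = 0 → Ψ (update v j k) = 0)
    (v v' : Fin r → M) (h : ∀ i, π (v i) = π (v' i)) : Ψ v = Ψ v' := by
  classical
  have h1 : v = (v - v') + v' := by simp
  rw [h1]
  have h2 := Ψ.toMultilinearMap.map_add_univ (v - v') v'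
  rw [AlternatingMap.coe_multilinearMap] at h2
  rw [h2]
  rw [Finset.sum_eq_single (∅ : Finset (Fin r))]
  · simp
  · intro s _ hs
    obtain ⟨i, hi⟩ := Finset.nonempty_iff_ne_empty.mpr hs
    have h3 : s.piecewise (v - v') v' = update (s.piecewise (v - v') v') i ((v - v') i) := by
      rw [eq_comm, update_eq_self_iff]
      exact (Finset.piecewise_eq_of_mem _ _ _ hi).symm
    rw [h3]
    refine hΨ _ i _ ?_
    rw [Pi.sub_apply, map_sub, h i, sub_self]
  · intro h
    exact absurd (Finset.mem_univ _) h

lemma comp_update' {α β : Type*} [DecidableEq (Fin r)] (g : α → β) (w : Fin r → α) (i : Fin r)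
    (t : α) : (fun i' => g (update w i t i')) = update (fun i' => g (w i')) i (g t) :=
  Function.comp_update g w i t

/-- **descent of an alternating map along a surjection** -/
theorem exists_alternating_descent (π : M →ₗ[R] N) (hπ : Surjective π) (Ψ : M [⋀^Fin r]→ₗ[R] Q)
    (hΨ : ∀ (v : Fin r → M) (j : Fin r) (k : M), π k = 0 → Ψ (update v j k) = 0) :
    ∃ Φ : N [⋀^Fin r]→ₗ[R] Q, ∀ v : Fin r → M, Φ (fun j => π (v j)) = Ψ v := by
  let g : N → M := surjInv hπ
  have hg : ∀ x, π (g x) = x := surjInv_eq hπ
  have key := alt_eq_of_ker π Ψ hΨ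
  refine ⟨{ toFun := fun w => Ψ (fun i => g (w i))
            map_update_add' := ?_
            map_update_smul' := ?_
            map_eq_zero_of_eq' := ?_ }, ?_⟩
  · intro inst w i x y
    show Ψ (fun i' => g (update w i (x + y) i')) =
      Ψ (fun i' => g (update w i x i')) + Ψ (fun i' => g (update w i y i'))
    rw [comp_update' g w i (x + y), comp_update' g w i x, comp_update' g w i y,
      ← Ψ.map_update_add]
    refine key _ _ fun i' => ?_
    by_cases hi : i' = i
    · subst hi
      simp only [update_self]
      rw [hg, map_add, hg, hg]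
    · simp only [update_of_ne hi]
  · intro inst w i c x
    show Ψ (fun i' => g (update w i (c • x) i')) = c • Ψ (fun i' => g (update w i x i'))
    rw [comp_update' g w i (c • x), comp_update' g w i x, ← Ψ.map_update_smul]
    refine key _ _ fun i' => ?_
    by_cases hi : i' = i
    · subst hi
      simp only [update_self]
      rw [hg, map_smul, hg]
    · simp only [update_of_ne hi]
  · intro w i j hij hne
    exact Ψ.map_eq_zero_of_eq _ (by simp only [hij]) hne
  · intro v
    exact key _ _ fun i => hg _

end Descent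

section Cong

variable {A M Q : Type*} [CommRing A] [AddCommGroup M] [AddCommGroup Q] [Module A M] [Module A Q]
  {n : ℕ}

lemma alt_update_mem (J : Ideal A) (ψ : M [⋀^Fin n]→ₗ[A] Q) (v : Fin n → M) (i : Fin n) (x : M)
    (hx : x ∈ J • (⊤ : Submodule A M)) : ψ (update v i x) ∈ J • (⊤ : Submodule A Q) := by
  classical
  refine Submodule.smul_induction_on hx ?_ ?_
  · intro a ha y _
    rw [ψ.map_update_smul]
    exact Submodule.smul_mem_smul ha Submodule.mem_top
  · intro x y hx hy
    rw [ψ.map_update_add]
    exact Submodule.add_mem _ hx hy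

/-- congruence of the values of an alternating map modulo an ideal -/
theorem alt_sub_mem (J : Ideal A) (ψ : M [⋀^Fin n]→ₗ[A] Q) (v v' : Fin n → M)
    (h : ∀ i, v i - v' i ∈ J • (⊤ : Submodule A M)) : ψ v - ψ v' ∈ J • (⊤ : Submodule A Q) := by
  classical
  have h1 : v = (v - v') + v' := by simp
  rw [h1]
  have h2 := ψ.toMultilinearMap.map_add_univ (v - v') v'
  rw [AlternatingMap.coe_multilinearMap] at h2
  rw [h2, ← Finset.add_sum_erase Finset.univ _ (Finset.mem_univ (∅ : Finset (Fin n)))]
  have h3 : ψ ((∅ : Finset (Fin n)).piecewise (v - v') v') = ψ v' := by simp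
  rw [h3, add_sub_cancel_left]
  refine Submodule.sum_mem _ fun s hs => ?_
  have hs' : s ≠ ∅ := Finset.ne_of_mem_erase hs
  obtain ⟨i, hi⟩ := Finset.nonempty_iff_ne_empty.mpr hs'
  have h4 : s.piecewise (v - v') v' = update (s.piecewise (v - v') v') i ((v - v') i) := by
    rw [eq_comm, update_eq_self_iff]
    exact (Finset.piecewise_eq_of_mem _ _ _ hi).symm
  rw [h4]
  exact alt_update_mem J ψ _ i _ (h i)

end Cong

section ChangeRing

variable {A B N Q : Type*} [CommRing A] [CommRing B] [Algebra A B] [AddCommGroup N] [AddCommGroup Q]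
  [Module A N] [Module B N] [IsScalarTower A B N] [Module A Q] [Module B Q] [IsScalarTower A B Q]
  {r : ℕ}

/-- an `A`-alternating map between `B`-modules is `B`-alternating when `A → B` is surjective -/
theorem exists_linear_of_alternating (hAB : Surjective (algebraMap A B))
    (Φ : N [⋀^Fin r]→ₗ[A] Q) :
    ∃ L : (⋀[B]^r N) →ₗ[B] Q, ∀ w : Fin r → N, L (exteriorPower.ιMulti B r w) = Φ w := by
  classical
  let Φ' : N [⋀^Fin r]→ₗ[B] Q :=
    { toFun := fun w => Φ w
      map_update_add' := by
        intro _ w i x y
        convert Φ.map_update_add w i x y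
      map_update_smul' := by
        intro _ w i c x
        obtain ⟨a, rfl⟩ := hAB c
        rw [algebraMap_smul, algebraMap_smul]
        convert Φ.map_update_smul w i a x
      map_eq_zero_of_eq' := fun w i j hij hne => Φ.map_eq_zero_of_eq w hij hne }
  refine ⟨exteriorPower.alternatingMapLinearEquiv Φ', fun w => ?_⟩
  rw [exteriorPower.alternatingMapLinearEquiv_apply_ιMulti]
  rfl

end ChangeRing

end Groth.Agent.Lib.Helper20.GK
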