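import Mathlib
import Groth.Agent.Lib.Helper20.GK3
import Groth.Agent.Lib.Helper20.GK4
import Groth.Agent.Lib.Helper20.ExtFilt5

/-!
# The local comparison `Ω^r_B → H^c(K^•(γ; A))`: ring level, part 1 (helper20)

`A → B` surjective with kernel `J`, `M` an `A`-module with a derivation `D : A → M`, `ν : ⋀^n M → A`, `n = c + r`.

* `psiR ν u e = ν (u_1 ∧ … ∧ u_c ∧ e_1 ∧ … ∧ e_r)` (alternating in `e`), `psiL` (alternating in `u`).
* `psiR_comb_sub_mem`: `ν(DF ∧ e) ≡ det C · ν(Df ∧ e) mod J` if `F = C f`, `f ⊆ J`.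
* `psiR_unit_sub_mem`: `ν(D(αF) ∧ e) ≡ α^c ν(DF ∧ e) mod J` for `F ⊆ J`.
* `psiR_ker_mem`: `ν(Df ∧ e) ∈ J` if some `e_j ∈ J M + A D(J)`, `J = (f)`.
-/

set_option autoImplicit false
universe u

namespace Groth.Agent.Lib.Helper20.GK

open TensorProduct Function Groth.Agent.Lib.Helper20.ExtFilt Groth.Agent.Lib.helper20.EulerAlg

section Psi

variable {A : Type u} [CommRing A] {M : Type u} [AddCommGroup M] [Module A M]
  (c r n : ℕ) (hn : c + r = n) (ν : ⋀[A]^n M →ₗ[A] A)

/-- `e ↦ ν (u_1 ∧ … ∧ u_c ∧ e_1 ∧ … ∧ e_r)` -/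
noncomputable def psiR (u : Fin c → M) : M [⋀^Fin r]→ₗ[A] A :=
  (ν ∘ₗ Wn (LinearMap.id : M →ₗ[A] M) c r n hn ∘ₗ
    TensorProduct.mk A _ _ (exteriorPower.ιMulti A c u)).compAlternatingMap
      (exteriorPower.ιMulti A r)

/-- `u ↦ ν (u_1 ∧ … ∧ u_c ∧ e_1 ∧ … ∧ e_r)` -/
noncomputable def psiL (e : Fin r → M) : M [⋀^Fin c]→ₗ[A] A :=
  (ν ∘ₗ Wn (LinearMap.id : M →ₗ[A] M) c r n hn ∘ₗ
    (TensorProduct.mk A _ _).flip (exteriorPower.ιMulti A r e)).compAlternatingMap
      (exteriorPower.ιMulti A c)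

lemma psiR_apply (u : Fin c → M) (e : Fin r → M) :
    psiR c r n hn ν u e =
      ν (exteriorPower.ιMulti A n (fun j => Fin.append u e (Fin.cast hn.symm j))) := by
  unfold psiR
  rw [LinearMap.compAlternatingMap_apply, LinearMap.comp_apply, LinearMap.comp_apply,
    TensorProduct.mk_apply, Wn_ιMulti]
  rfl

lemma psiL_apply (u : Fin c → M) (e : Fin r → M) :
    psiL c r n hn ν e u =
      ν (exteriorPower.ιMulti A n (fun j => Fin.append u e (Fin.cast hn.symm j))) := by
  unfold psiL
  rw [LinearMap.compAlternatingMap_apply, LinearMap.comp_apply, LinearMap.comp_apply,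
    LinearMap.flip_apply, TensorProduct.mk_apply, Wn_ιMulti]
  rfl

lemma psiL_eq_psiR (u : Fin c → M) (e : Fin r → M) :
    psiL c r n hn ν e u = psiR c r n hn ν u e := by
  rw [psiL_apply, psiR_apply]

/-- a repeated vector -/
lemma psiR_update_self (u : Fin c → M) (v : Fin r → M) (j : Fin r) (b : Fin c) :
    psiR c r n hn ν u (update v j (u b)) = 0 := by
  rw [psiR_apply]
  have h : (exteriorPower.ιMulti A n)
      (fun j' => Fin.append u (update v j (u b)) (Fin.cast hn.symm j')) = 0 := by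
    refine (exteriorPower.ιMulti A n).map_eq_zero_of_eq _
      (i := Fin.cast hn (Fin.castAdd r b)) (j := Fin.cast hn (Fin.natAdd c j)) ?_ ?_
    · simp only [Fin.cast_cast, Fin.cast_eq_self, Fin.append_left, Fin.append_right,
        update_self]
    · intro h
      have h2 := congrArg Fin.val h
      simp only [Fin.val_cast, Fin.val_castAdd, Fin.val_natAdd] at h2
      have := b.isLt
      omega
  rw [h, map_zero]

end Psi

section Local

variable {A B : Type u} [CommRing A] [CommRing B] [Algebra A B]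
  {M : Type u} [AddCommGroup M] [Module A M]
  (D : A →+ M) (hD : ∀ a b, D (a * b) = a • D b + b • D a)
  (c r n : ℕ) (hn : c + r = n) (ν : ⋀[A]^n M →ₗ[A] A)

local notation "J" => RingHom.ker (algebraMap A B)

lemma smul_top_ideal (I : Ideal A) : I • (⊤ : Submodule A A) = I := by
  rw [smul_eq_mul]
  exact Ideal.mul_top I

include hD in
/-- `D (∑ C_b f_b) ≡ ∑ C_b D f_b` modulo `J M` for `f ⊆ J` -/
lemma D_comb_sub_mem (f : Fin c → A) (hf : ∀ b, f b ∈ J) (C : Fin c → A) :
    D (∑ b, C b * f b) - ∑ b, C b • D (f b) ∈ J • (⊤ : Submodule A M) := by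
  rw [map_sum, ← Finset.sum_sub_distrib]
  refine Submodule.sum_mem _ fun b _ => ?_
  rw [hD, add_sub_cancel_left]
  exact Submodule.smul_mem_smul (hf b) Submodule.mem_top

include hD in
/-- `ν(DF ∧ e) ≡ det C · ν(Df ∧ e)` modulo `J` if `F = C f` and `f ⊆ J` -/
theorem psiR_comb_sub_mem (f : Fin c → A) (hf : ∀ b, f b ∈ J) (C : Matrix (Fin c) (Fin c) A)
    (F : Fin c → A) (hF : ∀ i, F i = ∑ b, C i b * f b) (e : Fin r → M) :
    psiR c r n hn ν (fun i => D (F i)) e - C.det * psiR c r n hn ν (fun b => D (f b)) e ∈ J := by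
  rw [← psiL_eq_psiR, ← psiL_eq_psiR]
  have h1 := alt_sub_mem J (psiL c r n hn ν e) (fun i => D (F i))
    (fun i => ∑ b, C i b • D (f b)) (fun i => by
      rw [hF i]
      exact D_comb_sub_mem D hD c f hf (C i))
  rw [smul_top_ideal, det_lincomb (psiL c r n hn ν e) (fun b => D (f b)) C, smul_eq_mul] at h1
  exact h1

include hD in
/-- `ν(D(αF) ∧ e) ≡ α^c ν(DF ∧ e)` modulo `J` for `F ⊆ J` -/
theorem psiR_unit_sub_mem (F : Fin c → A) (hF : ∀ b, F b ∈ J) (α : A) (e : Fin r → M) :
    psiR c r n hn ν (fun i => D (α * F i)) e - α ^ c * psiR c r n hn ν (fun b => D (F b)) e ∈ J := by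
  rw [← psiL_eq_psiR, ← psiL_eq_psiR]
  have h1 := alt_sub_mem J (psiL c r n hn ν e) (fun i => D (α * F i))
    (fun i => α • D (F i)) (fun i => by
      rw [hD, add_sub_cancel_left]
      exact Submodule.smul_mem_smul (hF i) Submodule.mem_top)
  have h2 : psiL c r n hn ν e (fun i => α • D (F i)) = α ^ c * psiL c r n hn ν e (fun b => D (F b)) := by
    have := (psiL c r n hn ν e).toMultilinearMap.map_smul_univ (fun _ => α) (fun i => D (F i))
    rw [AlternatingMap.coe_multilinearMap] at this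
    rw [this, Finset.prod_const, Finset.card_univ, Fintype.card_fin, smul_eq_mul]
  rw [smul_top_ideal, h2] at h1
  exact h1

include hD in
/-- `ν(Df ∧ e) ∈ J` as soon as one `e_j` lies in `J M + A D(J)`, when `J = (f)` -/
theorem psiR_ker_mem (f : Fin c → A) (hf : Ideal.span (Set.range f) = J) (v : Fin r → M)
    (j : Fin r) (k : M)
    (hk : k ∈ J • (⊤ : Submodule A M) ⊔ Submodule.span A (D '' (J : Set A))) :
    psiR c r n hn ν (fun b => D (f b)) (update v j k) ∈ J := by
  classical
  have hfJ : ∀ b, f b ∈ J := fun b => hf ▸ Ideal.subset_span ⟨b, rfl⟩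
  let L : M →ₗ[A] A := (psiR c r n hn ν (fun b => D (f b))).toMultilinearMap.toLinearMap v j
  have hL : ∀ t, L t = psiR c r n hn ν (fun b => D (f b)) (update v j t) := fun t => rfl
  rw [← hL]
  have hle : J • (⊤ : Submodule A M) ⊔ Submodule.span A (D '' (J : Set A)) ≤
      Submodule.comap L (J : Submodule A A) := by
    refine sup_le ?_ ?_
    · rw [Submodule.smul_le]
      intro a ha y _
      rw [Submodule.mem_comap, map_smul, smul_eq_mul]
      exact Ideal.mul_mem_right _ _ ha
    · rw [Submodule.span_le]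
      rintro _ ⟨x, hx, rfl⟩
      rw [SetLike.mem_coe, Submodule.mem_comap]
      have hx' : x ∈ Ideal.span (Set.range f) := by rw [hf]; exact hx
      obtain ⟨C, hC⟩ := Ideal.mem_span_range_iff_exists_fun.mp hx'
      have h1 := D_comb_sub_mem D hD c f hfJ C
      rw [hC] at h1
      have h2 : L (D x - ∑ b, C b • D (f b)) ∈ J := by
        have := alt_update_mem J (psiR c r n hn ν (fun b => D (f b))) v j _ h1
        rw [smul_top_ideal] at this
        exact this
      have h3 : L (∑ b, C b • D (f b)) = 0 := by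
        rw [map_sum]
        refine Finset.sum_eq_zero fun b _ => ?_
        rw [map_smul, hL]
        have := psiR_update_self c r n hn ν (fun b => D (f b)) v j b
        rw [this, smul_zero]
      rw [map_sub, h3, sub_zero] at h2
      exact h2
  exact hle hk

end Local

end Groth.Agent.Lib.Helper20.GK
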