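import Mathlib
import Groth.Agent.Lib.Helper20.GK5

/-!
# The local comparison `Ω^r_B → H^c(K^•(γ; A))`: ring level, part 2 (helper20)

The descended maps `L_F : ⋀[B]^r N₀ → B`, `η = e_1 ∧ … ∧ e_r ↦ ν(DF ∧ ẽ) mod J`.
-/

set_option autoImplicit false
universe u

namespace Groth.Agent.Lib.Helper20.GK

open TensorProduct Function Groth.Agent.Lib.Helper20.ExtFilt Groth.Agent.Lib.helper20.EulerAlg

variable {A B : Type u} [CommRing A] [CommRing B] [Algebra A B]
  {M N₀ : Type u} [AddCommGroup M] [Module A M] [AddCommGroup N₀] [Module A N₀] [Module B N₀]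
  [IsScalarTower A B N₀]
  (D : A →+ M) (res : M →ₗ[A] N₀)
  (c r n : ℕ) (hn : c + r = n) (ν : ⋀[A]^n M →ₗ[A] A)

local notation "J" => RingHom.ker (algebraMap A B)

/-- `L` is the descent of `e ↦ ν(DF ∧ e) mod J` -/
def IsDesc (F : Fin c → A) (L : (⋀[B]^r N₀) →ₗ[B] B) : Prop :=
  ∀ e : Fin r → M, L (exteriorPower.ιMulti B r (fun j => res (e j))) =
    algebraMap A B (psiR c r n hn ν (fun i => D (F i)) e)

variable {D res c r n hn ν}

lemma IsDesc.unique (hres : Surjective res) {F : Fin c → A} {L L' : (⋀[B]^r N₀) →ₗ[B] B}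
    (h : IsDesc D res c r n hn ν F L) (h' : IsDesc D res c r n hn ν F L') : L = L' := by
  apply exteriorPower.linearMap_ext
  ext w
  simp only [LinearMap.compAlternatingMap_apply]
  have hw : w = fun j => res (surjInv hres (w j)) := by
    funext j
    exact (surjInv_eq hres (w j)).symm
  rw [hw, h, h']

/-- the value of a descent on a combination of decomposable elements -/
lemma IsDesc.apply_sum {F : Fin c → A} {L : (⋀[B]^r N₀) →ₗ[B] B}
    (h : IsDesc D res c r n hn ν F L) {k : ℕ} (b : Fin k → B) (e : Fin k → Fin r → M) :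
    L (∑ i, b i • exteriorPower.ιMulti B r (fun j => res (e i j))) =
      ∑ i, b i * algebraMap A B (psiR c r n hn ν (fun t => D (F t)) (e i)) := by
  rw [map_sum]
  refine Finset.sum_congr rfl fun i _ => ?_
  rw [map_smul, h, smul_eq_mul]

variable (D res c r n hn ν)

/-- existence of the descent from the kernel condition -/
theorem exists_isDesc_of_ker (hAB : Surjective (algebraMap A B)) (hres : Surjective res)
    (F : Fin c → A)
    (hF : ∀ (v : Fin r → M) (j : Fin r) (k : M), res k = 0 →
      psiR c r n hn ν (fun i => D (F i)) (update v j k) ∈ J) :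
    ∃ L : (⋀[B]^r N₀) →ₗ[B] B, IsDesc D res c r n hn ν F L := by
  let Ψ : M [⋀^Fin r]→ₗ[A] B :=
    (Algebra.linearMap A B).compAlternatingMap (psiR c r n hn ν (fun i => D (F i)))
  have hΨ : ∀ (v : Fin r → M) (j : Fin r) (k : M), res k = 0 → Ψ (update v j k) = 0 := by
    intro v j k hk
    change algebraMap A B (psiR c r n hn ν (fun i => D (F i)) (update v j k)) = 0
    exact (RingHom.mem_ker).mp (hF v j k hk)
  obtain ⟨Φ, hΦ⟩ := exists_alternating_descent res hres Ψ hΨ
  obtain ⟨L, hL⟩ := exists_linear_of_alternating (B := B) hAB Φ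
  refine ⟨L, fun e => ?_⟩
  rw [hL, hΦ]
  rfl

variable (hD : ∀ a b, D (a * b) = a • D b + b • D a)

include hD in
/-- the descent exists for a generating family of `J` -/
theorem exists_isDesc_gen (hAB : Surjective (algebraMap A B)) (hres : Surjective res)
    (hker : ∀ x, res x = 0 →
      x ∈ J • (⊤ : Submodule A M) ⊔ Submodule.span A (D '' (J : Set A)))
    (f : Fin c → A) (hf : Ideal.span (Set.range f) = J) :
    ∃ L : (⋀[B]^r N₀) →ₗ[B] B, IsDesc D res c r n hn ν f L := by
  refine exists_isDesc_of_ker D res c r n hn ν hAB hres f ?_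
  intro v j k hk
  have h1 := hker k hk
  exact psiR_ker_mem D hD c r n hn ν f hf v j k h1

include hD in
/-- the descent exists for combinations of a generating family of `J` -/
theorem exists_isDesc_comb (hAB : Surjective (algebraMap A B)) (hres : Surjective res)
    (hker : ∀ x, res x = 0 →
      x ∈ J • (⊤ : Submodule A M) ⊔ Submodule.span A (D '' (J : Set A)))
    (f : Fin c → A) (hf : Ideal.span (Set.range f) = J) (C : Matrix (Fin c) (Fin c) A)
    (F : Fin c → A) (hF : ∀ i, F i = ∑ b, C i b * f b) :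
    ∃ L : (⋀[B]^r N₀) →ₗ[B] B, IsDesc D res c r n hn ν F L := by
  have hfJ : ∀ b, f b ∈ J := fun b => hf ▸ Ideal.subset_span ⟨b, rfl⟩
  refine exists_isDesc_of_ker D res c r n hn ν hAB hres F ?_
  intro v j k hk
  have h0 := hker k hk
  have h1 := psiR_comb_sub_mem D hD c r n hn ν f hfJ C F hF (update v j k)
  have h2 := psiR_ker_mem D hD c r n hn ν f hf v j k h0
  have h3 := Ideal.add_mem _ h1 (Ideal.mul_mem_left _ C.det h2)
  rwa [sub_add_cancel] at h3

include hD in
/-- comparison of the descents -/
theorem isDesc_comb_eq (hres : Surjective res)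
    (f : Fin c → A) (hfJ : ∀ b, f b ∈ J) (C : Matrix (Fin c) (Fin c) A)
    (F : Fin c → A) (hF : ∀ i, F i = ∑ b, C i b * f b)
    (Lf LF : (⋀[B]^r N₀) →ₗ[B] B) (hLf : IsDesc D res c r n hn ν f Lf)
    (hLF : IsDesc D res c r n hn ν F LF) (η : ⋀[B]^r N₀) :
    LF η = algebraMap A B C.det * Lf η := by
  have h : LF = (algebraMap A B C.det) • Lf := by
    apply exteriorPower.linearMap_ext
    ext w
    simp only [LinearMap.compAlternatingMap_apply, LinearMap.smul_apply]
    have hw : w = fun j => res (surjInv hres (w j)) := by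
      funext j
      exact (surjInv_eq hres (w j)).symm
    rw [hw, hLF, hLf, smul_eq_mul, ← map_mul, ← sub_eq_zero, ← map_sub]
    exact (RingHom.mem_ker).mp (psiR_comb_sub_mem D hD c r n hn ν f hfJ C F hF _)
  rw [h, LinearMap.smul_apply, smul_eq_mul]

include hD in
/-- change of the trivialisation -/
theorem isDesc_unit_eq (hres : Surjective res)
    (F : Fin c → A) (hFJ : ∀ b, F b ∈ J) (α β : A)
    (LF LF' : (⋀[B]^r N₀) →ₗ[B] B) (hLF : IsDesc D res c r n hn ν F LF)
    (hLF' : IsDesc D res c r n hn (β • ν) (fun i => α * F i) LF') (η : ⋀[B]^r N₀) :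
    LF' η = algebraMap A B (α ^ c * β) * LF η := by
  have h : LF' = (algebraMap A B (α ^ c * β)) • LF := by
    apply exteriorPower.linearMap_ext
    ext w
    simp only [LinearMap.compAlternatingMap_apply, LinearMap.smul_apply]
    have hw : w = fun j => res (surjInv hres (w j)) := by
      funext j
      exact (surjInv_eq hres (w j)).symm
    rw [hw, hLF, hLF', smul_eq_mul, ← map_mul, ← sub_eq_zero, ← map_sub]
    apply (RingHom.mem_ker).mp
    have h1 := psiR_unit_sub_mem D hD c r n hn ν F hFJ α (fun j => surjInv hres (w j))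
    have h2 : psiR c r n hn (β • ν) (fun i => D (α * F i)) (fun j => surjInv hres (w j)) =
        β * psiR c r n hn ν (fun i => D (α * F i)) (fun j => surjInv hres (w j)) := by
      rw [psiR_apply, psiR_apply, LinearMap.smul_apply, smul_eq_mul]
    rw [h2]
    have h3 := Ideal.mul_mem_left _ β h1
    convert h3 using 1
    ring
  rw [h, LinearMap.smul_apply, smul_eq_mul]

end Groth.Agent.Lib.Helper20.GK
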