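import Mathlib
import Groth.Agent.Lib.Helper20.GK6

/-!
# The local comparison `Ω^r_B → H^c(K^•(γ; A))`: ring level, part 3 (helper20)

`Related γ z η`: the cochain `z` has the components prescribed by `η ∈ ⋀[B]^r N₀`:
`z_S ≡ ν(Dγ_S ∧ η̃) mod J` for all `S` of cardinality `c`.
-/

set_option autoImplicit false
universe u

namespace Groth.Agent.Lib.Helper20.GK

open TensorProduct Function Groth.Agent.Lib.Helper20.ExtFilt Groth.Agent.Lib.helper20.EulerAlg

variable {A B : Type u} [CommRing A] [CommRing B] [Algebra A B]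
  {M N₀ : Type u} [AddCommGroup M] [Module A M] [AddCommGroup N₀] [Module A N₀] [Module B N₀]
  [IsScalarTower A B N₀]
  (D : A →+ M) (res : M →ₗ[A] N₀)
  (c r n : ℕ) (hn : c + r = n) (ν : ⋀[A]^n M →ₗ[A] A) {m : ℕ} (γ : Fin m → A)

local notation "J" => RingHom.ker (algebraMap A B)

/-- the subfamily of `γ` indexed by a subset of cardinality `c` -/
def gS (S : Finset (Fin m)) (h : S.card = c) : Fin c → A := fun i => γ (S.orderEmbOfFin h i)

/-- `z_S ≡ ν(Dγ_S ∧ η̃) mod J` for all `S` -/
def Related (z : Finset (Fin m) → A) (η : ⋀[B]^r N₀) : Prop :=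
  ∃ (k : ℕ) (b : Fin k → B) (e : Fin k → Fin r → M),
    η = ∑ i, b i • exteriorPower.ιMulti B r (fun j => res (e i j)) ∧
    ∀ (S : Finset (Fin m)) (h : S.card = c), algebraMap A B (z S) =
      ∑ i, b i * algebraMap A B (psiR c r n hn ν (fun t => D (gS c γ S h t)) (e i))

variable {D res c r n hn ν γ}

lemma Related.apply {z : Finset (Fin m) → A} {η : ⋀[B]^r N₀}
    (h : Related D res c r n hn ν γ z η) (S : Finset (Fin m)) (hS : S.card = c)
    (L : (⋀[B]^r N₀) →ₗ[B] B) (hL : IsDesc D res c r n hn ν (gS c γ S hS) L) :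
    algebraMap A B (z S) = L η := by
  obtain ⟨k, b, e, rfl, h2⟩ := h
  rw [h2 S hS, hL.apply_sum]

lemma Related.add {z z' : Finset (Fin m) → A} {η η' : ⋀[B]^r N₀}
    (h : Related D res c r n hn ν γ z η) (h' : Related D res c r n hn ν γ z' η') :
    Related D res c r n hn ν γ (fun S => z S + z' S) (η + η') := by
  obtain ⟨k, b, e, rfl, h2⟩ := h
  obtain ⟨k', b', e', rfl, h2'⟩ := h'
  refine ⟨k + k', Fin.append b b', Fin.append e e', ?_, fun S hS => ?_⟩
  · rw [Fin.sum_univ_add]
    simp only [Fin.append_left, Fin.append_right]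
  · rw [map_add, h2 S hS, h2' S hS, Fin.sum_univ_add]
    simp only [Fin.append_left, Fin.append_right]

lemma Related.smul {z : Finset (Fin m) → A} {η : ⋀[B]^r N₀}
    (h : Related D res c r n hn ν γ z η) (x : A) :
    Related D res c r n hn ν γ (fun S => x * z S) (algebraMap A B x • η) := by
  obtain ⟨k, b, e, rfl, h2⟩ := h
  refine ⟨k, fun i => algebraMap A B x * b i, e, ?_, fun S hS => ?_⟩
  · rw [Finset.smul_sum]
    refine Finset.sum_congr rfl fun i _ => ?_
    rw [smul_smul]
  · rw [map_mul, h2 S hS, Finset.mul_sum]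
    refine Finset.sum_congr rfl fun i _ => ?_
    ring

/-- every element of the exterior power is a combination of decomposable elements with lifts -/
lemma exists_decomp (hres : Surjective res) (η : ⋀[B]^r N₀) :
    ∃ (k : ℕ) (b : Fin k → B) (e : Fin k → Fin r → M),
      η = ∑ i, b i • exteriorPower.ιMulti B r (fun j => res (e i j)) := by
  have hη : η ∈ Submodule.span B (Set.range (exteriorPower.ιMulti B r (M := N₀))) := by
    rw [exteriorPower.ιMulti_span]
    exact Submodule.mem_top
  induction hη using Submodule.span_induction with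
  | mem x hx =>
    obtain ⟨w, rfl⟩ := hx
    refine ⟨1, fun _ => 1, fun _ j => surjInv hres (w j), ?_⟩
    rw [Fin.sum_univ_one, one_smul]
    congr 1
    funext j
    exact (surjInv_eq hres (w j)).symm
  | zero => exact ⟨0, Fin.elim0, Fin.elim0, by simp⟩
  | add x y _ _ hx hy =>
    obtain ⟨k, b, e, rfl⟩ := hx
    obtain ⟨k', b', e', rfl⟩ := hy
    refine ⟨k + k', Fin.append b b', Fin.append e e', ?_⟩
    rw [Fin.sum_univ_add]
    simp only [Fin.append_left, Fin.append_right]
  | smul a x _ hx =>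
    obtain ⟨k, b, e, rfl⟩ := hx
    refine ⟨k, fun i => a * b i, e, ?_⟩
    rw [Finset.smul_sum]
    refine Finset.sum_congr rfl fun i _ => ?_
    rw [smul_smul]

variable (hD : ∀ a b, D (a * b) = a • D b + b • D a)

include hD in
/-- change of the trivialisation -/
theorem Related.unit (hγJ : ∀ j, γ j ∈ J) {z : Finset (Fin m) → A} {η : ⋀[B]^r N₀}
    (h : Related D res c r n hn ν γ z η) (α β : A) :
    Related D res c r n hn (β • ν) (fun j => α * γ j) (fun S => α ^ c * β * z S) η := by
  obtain ⟨k, b, e, rfl, h2⟩ := h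
  refine ⟨k, b, e, rfl, fun S hS => ?_⟩
  rw [map_mul, h2 S hS, Finset.mul_sum]
  refine Finset.sum_congr rfl fun i _ => ?_
  have h1 := psiR_unit_sub_mem D hD c r n hn ν (gS c γ S hS) (fun t => hγJ _) α (e i)
  have h3 : psiR c r n hn (β • ν) (fun t => D (gS c (fun j => α * γ j) S hS t)) (e i) =
      β * psiR c r n hn ν (fun t => D (α * gS c γ S hS t)) (e i) := by
    rw [psiR_apply, psiR_apply, LinearMap.smul_apply, smul_eq_mul]
    rfl
  rw [h3]
  have h4 := (RingHom.mem_ker).mp (Ideal.mul_mem_left _ β h1)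
  rw [mul_sub, map_sub, sub_eq_zero] at h4
  rw [h4]
  simp only [map_mul]
  ring

end Groth.Agent.Lib.Helper20.GK
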