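import Mathlib
import Groth.Agent.Lib.Helper20.GK7

/-!
# The local comparison `Ω^r_B → H^c(K^•(γ; A))`: ring level, part 4 (helper20)

On a good chart (`J` generated by `γ|S₀`, `#S₀ = c`, Koszul cochain complex exact below degree `c`):
existence (`exists_related`) and uniqueness (`related_unique`) of cocycles related to `η`, and the
resulting bijectivity (`related_injective`, `related_surjective`) when the descent `L_f` is bijective.
-/

set_option autoImplicit false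
universe u

namespace Groth.Agent.Lib.Helper20.GK

open TensorProduct Function Groth.Agent.Lib.Helper20.ExtFilt Groth.Agent.Lib.helper20.EulerAlg

section Combinatorics

variable {A : Type u} [CommRing A] {m c : ℕ} (S₀ : Finset (Fin m)) (hS₀ : S₀.card = c)

/-- the position of an element of `S₀` -/
noncomputable def idx (l : Fin m) (hl : l ∈ S₀) : Fin c := (S₀.orderIsoOfFin hS₀).symm ⟨l, hl⟩

lemma orderEmb_idx (l : Fin m) (hl : l ∈ S₀) : S₀.orderEmbOfFin hS₀ (idx S₀ hS₀ l hl) = l := by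
  have h := (S₀.orderIsoOfFin hS₀).apply_symm_apply ⟨l, hl⟩
  have h2 := congrArg Subtype.val h
  rw [Finset.coe_orderIsoOfFin_apply] at h2
  exact h2

lemma idx_orderEmb (i : Fin c) :
    idx S₀ hS₀ (S₀.orderEmbOfFin hS₀ i) (Finset.orderEmbOfFin_mem S₀ hS₀ i) = i := by
  apply (S₀.orderEmbOfFin hS₀).injective
  rw [orderEmb_idx]

/-- sums over `Fin c` and over `S₀` -/
lemma sum_orderEmb (w : Fin c → A) :
    ∃ w' : Fin m → A, ∀ g : Fin m → A,
      ∑ i, w i * g (S₀.orderEmbOfFin hS₀ i) = ∑ l ∈ S₀, w' l * g l := by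
  classical
  refine ⟨fun l => if hl : l ∈ S₀ then w (idx S₀ hS₀ l hl) else 0, fun g => ?_⟩
  have h0 := Finset.sum_map (Finset.univ) (S₀.orderEmbOfFin hS₀).toEmbedding
    (fun l => (if hl : l ∈ S₀ then w (idx S₀ hS₀ l hl) else 0) * g l)
  rw [Finset.map_orderEmbOfFin_univ] at h0
  rw [h0]
  refine Finset.sum_congr rfl fun i _ => ?_
  change _ = (if hl : S₀.orderEmbOfFin hS₀ i ∈ S₀ then
    w (idx S₀ hS₀ (S₀.orderEmbOfFin hS₀ i) hl) else 0) * g (S₀.orderEmbOfFin hS₀ i)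
  rw [dif_pos (Finset.orderEmbOfFin_mem S₀ hS₀ i), idx_orderEmb]

variable (γ : Fin m → A)

/-- coefficients expressing `γ` through `γ|S₀`, the identity on `S₀` -/
lemma exists_coeff (hgen : ∀ j, γ j ∈ Ideal.span (Set.range (gS c γ S₀ hS₀))) :
    ∃ a : Fin m → Fin c → A, (∀ j, γ j = ∑ b, a j b * gS c γ S₀ hS₀ b) ∧ minor a S₀ = 1 := by
  classical
  have hex : ∀ j, ∃ w : Fin c → A, ∑ b, w b * gS c γ S₀ hS₀ b = γ j := fun j =>
    Ideal.mem_span_range_iff_exists_fun.mp (hgen j)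
  choose w hw using hex
  refine ⟨fun j => if hj : j ∈ S₀ then Pi.single (idx S₀ hS₀ j hj) 1 else w j, fun j => ?_, ?_⟩
  · by_cases hj : j ∈ S₀
    · simp only [dif_pos hj]
      rw [Finset.sum_eq_single (idx S₀ hS₀ j hj)]
      · rw [Pi.single_eq_same, one_mul]
        unfold gS
        rw [orderEmb_idx]
      · intro b _ hb
        rw [Pi.single_eq_of_ne hb, zero_mul]
      · intro h
        exact absurd (Finset.mem_univ _) h
    · simp only [dif_neg hj]
      exact (hw j).symm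
  · rw [minor_of_card _ _ hS₀]
    have : (Matrix.of fun i b => (fun j => if hj : j ∈ S₀ then
        (Pi.single (idx S₀ hS₀ j hj) (1 : A) : Fin c → A) else w j)
        (S₀.orderEmbOfFin hS₀ i) b) = (1 : Matrix (Fin c) (Fin c) A) := by
      ext i b
      rw [Matrix.of_apply]
      simp only [dif_pos (Finset.orderEmbOfFin_mem S₀ hS₀ i), idx_orderEmb]
      rw [Matrix.one_apply]
      by_cases hib : i = b
      · subst hib
        rw [Pi.single_eq_same, if_pos rfl]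
      · rw [Pi.single_eq_of_ne (fun h => hib h.symm), if_neg hib]
    rw [this, Matrix.det_one]

end Combinatorics

section Cob

variable {A B : Type u} [CommRing A] [CommRing B] [Algebra A B] {m : ℕ} (c : ℕ) (γ : Fin m → A)
  (S₀ : Finset (Fin m)) (hS₀ : S₀.card = c)

local notation "J" => RingHom.ker (algebraMap A B)

/-- a cocycle whose `S₀`-component lies in `J` is a coboundary -/
theorem cobound_of_mem (hf : Ideal.span (Set.range (gS c γ S₀ hS₀)) = J) (hγJ : ∀ j, γ j ∈ J)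
    (hex : ∀ p, p < c → Ex Finset.univ γ p)
    (z : Finset (Fin m) → A) (hz : ∀ K, cbd γ z K = 0) (hz₀ : z S₀ ∈ J) :
    ∃ u : Finset (Fin m) → A, ∀ K, K.card = c → cbd γ u K = z K := by
  have hgen : ∀ j, ∃ b : Fin m → A, γ j = ∑ l ∈ S₀, b l * γ l := by
    intro j
    have h1 : γ j ∈ Ideal.span (Set.range (gS c γ S₀ hS₀)) := by rw [hf]; exact hγJ j
    obtain ⟨w, hw⟩ := Ideal.mem_span_range_iff_exists_fun.mp h1
    obtain ⟨w', hw'⟩ := sum_orderEmb S₀ hS₀ w
    exact ⟨w', by rw [← hw' γ]; exact hw.symm⟩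
  have h1 : z S₀ ∈ Ideal.span (Set.range (gS c γ S₀ hS₀)) := by rw [hf]; exact hz₀
  obtain ⟨w, hw⟩ := Ideal.mem_span_range_iff_exists_fun.mp h1
  obtain ⟨w', hw'⟩ := sum_orderEmb S₀ hS₀ w
  exact exists_cobound γ c S₀ hS₀ hgen hex z hz w' (by rw [← hw' γ]; exact hw.symm)

/-- coboundaries have components in `J` -/
lemma cbd_mem (hγJ : ∀ j, γ j ∈ J) (u : Finset (Fin m) → A) (K : Finset (Fin m)) :
    cbd γ u K ∈ J := by
  unfold cbd
  refine Ideal.sum_mem _ fun l _ => ?_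
  by_cases hl : l ∈ K
  · rw [if_pos hl]
    exact Ideal.mul_mem_right _ _ (Ideal.mul_mem_left _ _ (hγJ l))
  · rw [if_neg hl]
    exact Ideal.zero_mem _

end Cob

variable {A B : Type u} [CommRing A] [CommRing B] [Algebra A B]
  {M N₀ : Type u} [AddCommGroup M] [Module A M] [AddCommGroup N₀] [Module A N₀] [Module B N₀]
  [IsScalarTower A B N₀]
  (D : A →+ M) (res : M →ₗ[A] N₀)
  (c r n : ℕ) (hn : c + r = n) (ν : ⋀[A]^n M →ₗ[A] A) {m : ℕ} (γ : Fin m → A)
  (hD : ∀ a b, D (a * b) = a • D b + b • D a)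
  (hAB : Surjective (algebraMap A B)) (hres : Surjective res)
  (S₀ : Finset (Fin m)) (hS₀ : S₀.card = c)

local notation "J" => RingHom.ker (algebraMap A B)

include hD hAB hres in
/-- **existence** of a cocycle related to `η` -/
theorem exists_related
    (hker : ∀ x, res x = 0 →
      x ∈ J • (⊤ : Submodule A M) ⊔ Submodule.span A (D '' (J : Set A)))
    (hf : Ideal.span (Set.range (gS c γ S₀ hS₀)) = J) (hγJ : ∀ j, γ j ∈ J) (η : ⋀[B]^r N₀) :
    ∃ z : Finset (Fin m) → A, (∀ S, S.card ≠ c → z S = 0) ∧ (∀ K, cbd γ z K = 0) ∧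
      Related D res c r n hn ν γ z η := by
  have hgen : ∀ j, γ j ∈ Ideal.span (Set.range (gS c γ S₀ hS₀)) := fun j => by
    rw [hf]; exact hγJ j
  obtain ⟨a, ha, -⟩ := exists_coeff S₀ hS₀ γ hgen
  have hfJ : ∀ b, gS c γ S₀ hS₀ b ∈ J := fun b => hγJ _
  obtain ⟨Lf, hLf⟩ := exists_isDesc_gen D res c r n hn ν hD hAB hres hker (gS c γ S₀ hS₀) hf
  obtain ⟨y, hy⟩ := hAB (Lf η)
  refine ⟨fun S => minor a S * y, fun S hS => ?_, fun K => ?_, ?_⟩
  · beta_reduce
    rw [minor_of_card_ne _ _ hS, zero_mul]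
  · exact cbd_minor γ a (gS c γ S₀ hS₀) ha y K
  · obtain ⟨k, b, e, hη⟩ := exists_decomp (B := B) (r := r) hres η
    refine ⟨k, b, e, hη, fun S hS => ?_⟩
    have hF : ∀ i, gS c γ S hS i = ∑ b', (Matrix.of fun i b' => a (S.orderEmbOfFin hS i) b') i b' *
        gS c γ S₀ hS₀ b' := fun i => ha _
    obtain ⟨LF, hLF⟩ := exists_isDesc_comb D res c r n hn ν hD hAB hres hker (gS c γ S₀ hS₀) hf
      (Matrix.of fun i b' => a (S.orderEmbOfFin hS i) b') (gS c γ S hS) hF
    have h1 := isDesc_comb_eq D res c r n hn ν hD hres (gS c γ S₀ hS₀) hfJ _ (gS c γ S hS) hF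
      Lf LF hLf hLF η
    rw [← hLF.apply_sum, ← hη, h1, map_mul, hy, minor_of_card _ _ hS]

include hD hAB hres in
/-- the `S₀`-component of a related cochain -/
theorem Related.apply_S₀
    (hker : ∀ x, res x = 0 →
      x ∈ J • (⊤ : Submodule A M) ⊔ Submodule.span A (D '' (J : Set A)))
    (hf : Ideal.span (Set.range (gS c γ S₀ hS₀)) = J)
    (Lf : (⋀[B]^r N₀) →ₗ[B] B) (hLf : IsDesc D res c r n hn ν (gS c γ S₀ hS₀) Lf)
    {z : Finset (Fin m) → A} {η : ⋀[B]^r N₀} (h : Related D res c r n hn ν γ z η) :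
    algebraMap A B (z S₀) = Lf η :=
  h.apply S₀ hS₀ Lf hLf

include hD hAB hres in
/-- **uniqueness**: two cocycles related to the same `η` differ by a coboundary -/
theorem related_unique
    (hker : ∀ x, res x = 0 →
      x ∈ J • (⊤ : Submodule A M) ⊔ Submodule.span A (D '' (J : Set A)))
    (hf : Ideal.span (Set.range (gS c γ S₀ hS₀)) = J) (hγJ : ∀ j, γ j ∈ J)
    (hex : ∀ p, p < c → Ex Finset.univ γ p)
    (z z' : Finset (Fin m) → A) (η : ⋀[B]^r N₀)
    (hz : ∀ K, cbd γ z K = 0) (hz' : ∀ K, cbd γ z' K = 0)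
    (h : Related D res c r n hn ν γ z η) (h' : Related D res c r n hn ν γ z' η) :
    ∃ u : Finset (Fin m) → A, ∀ K, K.card = c → cbd γ u K = z K - z' K := by
  obtain ⟨Lf, hLf⟩ := exists_isDesc_gen D res c r n hn ν hD hAB hres hker (gS c γ S₀ hS₀) hf
  have e1 := h.apply S₀ hS₀ Lf hLf
  have e2 := h'.apply S₀ hS₀ Lf hLf
  have hmem : z S₀ - z' S₀ ∈ J := by
    rw [RingHom.mem_ker, map_sub, e1, e2, sub_self]
  exact cobound_of_mem (B := B) c γ S₀ hS₀ hf hγJ hex (fun S => z S - z' S)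
    (fun K => by rw [cbd_sub, hz, hz', sub_zero]) hmem

include hD hAB hres in
/-- **injectivity** -/
theorem related_injective
    (Lf : (⋀[B]^r N₀) →ₗ[B] B) (hLf : IsDesc D res c r n hn ν (gS c γ S₀ hS₀) Lf)
    (hinj : Injective Lf) (hγJ : ∀ j, γ j ∈ J)
    (z : Finset (Fin m) → A) (η : ⋀[B]^r N₀) (h : Related D res c r n hn ν γ z η)
    (u : Finset (Fin m) → A) (hu : ∀ K, K.card = c → cbd γ u K = z K) : η = 0 := by
  apply hinj
  rw [map_zero, ← h.apply S₀ hS₀ Lf hLf, ← hu S₀ hS₀]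
  exact (RingHom.mem_ker).mp (cbd_mem (B := B) γ hγJ u S₀)

include hD hAB hres in
/-- **surjectivity** -/
theorem related_surjective
    (hker : ∀ x, res x = 0 →
      x ∈ J • (⊤ : Submodule A M) ⊔ Submodule.span A (D '' (J : Set A)))
    (hf : Ideal.span (Set.range (gS c γ S₀ hS₀)) = J) (hγJ : ∀ j, γ j ∈ J)
    (hex : ∀ p, p < c → Ex Finset.univ γ p)
    (Lf : (⋀[B]^r N₀) →ₗ[B] B) (hLf : IsDesc D res c r n hn ν (gS c γ S₀ hS₀) Lf)
    (hsurj : Surjective Lf)
    (z : Finset (Fin m) → A) (hz : ∀ K, cbd γ z K = 0) :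
    ∃ (η : ⋀[B]^r N₀) (z' : Finset (Fin m) → A), (∀ S, S.card ≠ c → z' S = 0) ∧
      (∀ K, cbd γ z' K = 0) ∧ Related D res c r n hn ν γ z' η ∧
      ∃ u : Finset (Fin m) → A, ∀ K, K.card = c → cbd γ u K = z K - z' K := by
  obtain ⟨η, hη⟩ := hsurj (algebraMap A B (z S₀))
  obtain ⟨z', hz'1, hz'2, hz'3⟩ :=
    exists_related D res c r n hn ν γ hD hAB hres S₀ hS₀ hker hf hγJ η
  refine ⟨η, z', hz'1, hz'2, hz'3, ?_⟩
  have e2 := hz'3.apply S₀ hS₀ Lf hLf
  have hmem : z S₀ - z' S₀ ∈ J := by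
    rw [RingHom.mem_ker, map_sub, e2, hη, sub_self]
  exact cobound_of_mem (B := B) c γ S₀ hS₀ hf hγJ hex (fun S => z S - z' S)
    (fun K => by rw [cbd_sub, hz, hz'2, sub_zero]) hmem

end Groth.Agent.Lib.Helper20.GK
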