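import Mathlib
import Groth.Agent.Lib.Helper20.GK8

/-!
# The local comparison `Ω^r_B → H^c(K^•(γ; A))`: ring level, part 5 (helper20)

`isDesc_bijective`: the descent `L_f : ⋀[B]^r N₀ → B` is bijective when `N₀` is free on `res e₀` and `ν` is surjective.
-/

set_option autoImplicit false
universe u

namespace Groth.Agent.Lib.Helper20.GK

open TensorProduct Function Groth.Agent.Lib.Helper20.ExtFilt Groth.Agent.Lib.helper20.EulerAlg

variable {A B : Type u} [CommRing A] [CommRing B] [Algebra A B]
  {M N₀ : Type u} [AddCommGroup M] [Module A M] [AddCommGroup N₀] [Module A N₀] [Module B N₀]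
  [IsScalarTower A B N₀]
  (D : A →+ M) (res : M →ₗ[A] N₀)
  (c r n : ℕ) (hn : c + r = n) (ν : ⋀[A]^n M →ₗ[A] A)
  (hD : ∀ a b, D (a * b) = a • D b + b • D a)
  (hAB : Surjective (algebraMap A B))

local notation "J" => RingHom.ker (algebraMap A B)

/-- the top exterior power of a free module of rank `r` is generated by the wedge of a basis -/
lemma extPow_top_le_span (bN : Module.Basis (Fin r) B N₀) :
    (⊤ : Submodule B (⋀[B]^r N₀)) ≤ Submodule.span B {exteriorPower.ιMulti B r bN} := by
  rw [← exteriorPower.ιMulti_span, Submodule.span_le]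
  rintro _ ⟨w, rfl⟩
  have hw : w = fun i => ∑ j, (bN.repr (w i) j) • bN j := by
    funext i
    exact (bN.sum_repr (w i)).symm
  have h := det_lincomb (exteriorPower.ιMulti B r (M := N₀)) bN
    (Matrix.of fun i j => bN.repr (w i) j)
  simp only [Matrix.of_apply] at h
  rw [hw, h]
  exact Submodule.smul_mem _ _ (Submodule.subset_span rfl)

include hD hAB in
theorem isDesc_bijective
    (hker : ∀ x, res x = 0 →
      x ∈ J • (⊤ : Submodule A M) ⊔ Submodule.span A (D '' (J : Set A)))
    (f : Fin c → A) (hf : Ideal.span (Set.range f) = J)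
    (Lf : (⋀[B]^r N₀) →ₗ[B] B) (hLf : IsDesc D res c r n hn ν f Lf)
    (e₀ : Fin r → M) (bN : Module.Basis (Fin r) B N₀) (hbN : ∀ j, bN j = res (e₀ j))
    (hν : Surjective ν) : Bijective Lf := by
  classical
  subst hn
  have hfJ : ∀ b, f b ∈ J := fun b => hf ▸ Ideal.subset_span ⟨b, rfl⟩
  let u : Fin (c + r) → M := Fin.append (fun b => D (f b)) e₀
  let P : Submodule A M := Submodule.span A (Set.range u) ⊔ J • (⊤ : Submodule A M)
  have hu1 : ∀ b, D (f b) ∈ P := fun b =>
    Submodule.mem_sup_left (Submodule.subset_span ⟨Fin.castAdd r b, Fin.append_left _ _ b⟩)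
  have hu2 : ∀ j, e₀ j ∈ P := fun j =>
    Submodule.mem_sup_left (Submodule.subset_span ⟨Fin.natAdd c j, Fin.append_right _ _ j⟩)
  have hJP : J • (⊤ : Submodule A M) ≤ P := le_sup_right
  have hDJ : ∀ y, y ∈ J → D y ∈ P := by
    intro y hy
    have hy' : y ∈ Ideal.span (Set.range f) := by rw [hf]; exact hy
    obtain ⟨C, hC⟩ := Ideal.mem_span_range_iff_exists_fun.mp hy'
    have h1 := D_comb_sub_mem (B := B) D hD c f hfJ C
    rw [hC] at h1
    have h2 : ∑ b, C b • D (f b) ∈ P :=
      Submodule.sum_mem _ fun b _ => Submodule.smul_mem _ _ (hu1 b)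
    have h3 := Submodule.add_mem _ (hJP h1) h2
    rwa [sub_add_cancel] at h3
  have hMP : ∀ x : M, x ∈ P := by
    intro x
    choose a ha using fun j => hAB (bN.repr (res x) j)
    have h1 : res (x - ∑ j, a j • e₀ j) = 0 := by
      rw [map_sub, map_sum, sub_eq_zero]
      conv_lhs => rw [← bN.sum_repr (res x)]
      refine Finset.sum_congr rfl fun j _ => ?_
      rw [map_smul, ← hbN, ← ha j, algebraMap_smul]
    have h2 : x - ∑ j, a j • e₀ j ∈ P := by
      refine (sup_le hJP ?_) (hker _ h1)
      rw [Submodule.span_le]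
      rintro _ ⟨y, hy, rfl⟩
      exact hDJ y hy
    have h3 : ∑ j, a j • e₀ j ∈ P :=
      Submodule.sum_mem _ fun j _ => Submodule.smul_mem _ _ (hu2 j)
    have h4 := Submodule.add_mem _ h2 h3
    rwa [sub_add_cancel] at h4
  -- the alternating form
  let ω : M [⋀^Fin (c + r)]→ₗ[A] A := ν.compAlternatingMap (exteriorPower.ιMulti A (c + r))
  let I : Ideal A := Ideal.span {ω u} ⊔ J
  have hωI : ∀ m' : Fin (c + r) → M, ω m' ∈ I := by
    intro m'
    have hex : ∀ i, ∃ C : Fin (c + r) → A, m' i - ∑ j, C j • u j ∈ J • (⊤ : Submodule A M) := by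
      intro i
      obtain ⟨y, hy, z, hz, hyz⟩ := Submodule.mem_sup.mp (hMP (m' i))
      obtain ⟨C, hC⟩ := (Submodule.mem_span_range_iff_exists_fun A).mp hy
      refine ⟨C, ?_⟩
      rw [hC, ← hyz, add_sub_cancel_left]
      exact hz
    choose C hC using hex
    have h1 := alt_sub_mem J ω m' (fun i => ∑ j, C i j • u j) hC
    have hdet := det_lincomb ω u (Matrix.of C)
    simp only [Matrix.of_apply] at hdet
    rw [smul_top_ideal, hdet, smul_eq_mul] at h1
    have h2 : (Matrix.of C).det * ω u ∈ I :=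
      Ideal.mul_mem_left _ _ (Submodule.mem_sup_left (Ideal.subset_span rfl))
    have h3 := Ideal.add_mem _ (Submodule.mem_sup_right h1 : _ ∈ I) h2
    rwa [sub_add_cancel] at h3
  have hνI : ∀ y : ⋀[A]^(c + r) M, ν y ∈ I := by
    intro y
    have hy : y ∈ Submodule.span A (Set.range (exteriorPower.ιMulti A (c + r) (M := M))) := by
      rw [exteriorPower.ιMulti_span]
      exact Submodule.mem_top
    have hle : Submodule.span A (Set.range (exteriorPower.ιMulti A (c + r) (M := M))) ≤
        Submodule.comap ν (I : Submodule A A) := by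
      rw [Submodule.span_le]
      rintro _ ⟨m', rfl⟩
      exact hωI m'
    exact hle hy
  obtain ⟨y₁, hy₁⟩ := hν 1
  have h1I : (1 : A) ∈ I := hy₁ ▸ hνI y₁
  obtain ⟨s, hs, j, hj, hsj⟩ := Submodule.mem_sup.mp h1I
  obtain ⟨t, rfl⟩ := Ideal.mem_span_singleton'.mp hs
  have hunit : algebraMap A B (ω u) * algebraMap A B t = 1 := by
    have := congrArg (algebraMap A B) hsj
    rw [map_add, map_mul, (RingHom.mem_ker).mp hj, add_zero, map_one] at this
    rw [mul_comm]
    exact this
  -- the value of `Lf` on the generator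
  set g₀ : ⋀[B]^r N₀ := exteriorPower.ιMulti B r bN with hg₀
  have hLg : Lf g₀ = algebraMap A B (ω u) := by
    have h1 : (bN : Fin r → N₀) = fun j => res (e₀ j) := funext hbN
    rw [hg₀, h1, hLf, psiR_apply]
    rfl
  have hspan := extPow_top_le_span (B := B) (N₀ := N₀) r bN
  constructor
  · intro η η' hηη'
    rw [← sub_eq_zero]
    have hmem : η - η' ∈ Submodule.span B {g₀} := hspan Submodule.mem_top
    obtain ⟨β, hβ⟩ := Submodule.mem_span_singleton.mp hmem
    have h2 : Lf (η - η') = 0 := by rw [map_sub, hηη', sub_self]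
    rw [← hβ, map_smul, hLg, smul_eq_mul] at h2
    have h3 : β = 0 := by
      calc β = β * (algebraMap A B (ω u) * algebraMap A B t) := by rw [hunit, mul_one]
        _ = (β * algebraMap A B (ω u)) * algebraMap A B t := by ring
        _ = 0 := by rw [h2, zero_mul]
    rw [← hβ, h3, zero_smul]
  · intro y
    refine ⟨(y * algebraMap A B t) • g₀, ?_⟩
    rw [map_smul, hLg, smul_eq_mul]
    calc y * algebraMap A B t * algebraMap A B (ω u)
        = y * (algebraMap A B (ω u) * algebraMap A B t) := by ring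
      _ = y := by rw [hunit, mul_one]

end Groth.Agent.Lib.Helper20.GK
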