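import Mathlib
import Groth.Agent.Lib.Helper20.Euler4e

/-!
# Functions `p / x_l^d` on opens of the standard charts of projective space (helper20)

Shared definitions for the Koszul description of `ℰxt^c(ι_* O_X, O(-N-1))` (S11924).

* `InChart l U` : the open `U` of `Proj` lies in the chart `D₊(X_l)`.
* `gam l U hU p` : for `p` homogeneous of degree `d`, the function `p / X_l^d` on `U`.
* `valA a x` : the value of a function `a ∈ Γ(Proj, U)` in the localization at the point `x ∈ U`.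
-/

set_option autoImplicit false
universe u

open CategoryTheory CategoryTheory.Limits AlgebraicGeometry Opposite TopologicalSpace

namespace Groth.Agent.Lib.Helper20.GKS

open Groth.Agent.Lib.helper20.TwistVal
  Groth.Agent.Lib.helper28.TwistFree Groth.Agent.Lib.helper28.TwistMul
  Groth.Agent.Lib.Helper20.ProjMulHom

noncomputable section

variable {n : ℕ} {A : Type u} [CommRing A]

local notation "𝒜ₙ" => CohB1.polyGrading n A
local notation "S" => MvPolynomial (Fin (n + 1)) A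

/-- the open `U` lies in the standard chart `D₊(X_l)` -/
abbrev InChart (l : Fin (n + 1)) (U : (Proj 𝒜ₙ).Opens) : Prop :=
  ∀ x : U, (MvPolynomial.X l : S) ∉ x.1.asHomogeneousIdeal

lemma InChart.mono {l : Fin (n + 1)} {U V : (Proj 𝒜ₙ).Opens} (hU : InChart l U) (hVU : V ≤ U) :
    InChart l V := fun x => hU ⟨x.1, hVU x.2⟩

lemma inChart_iff_le (l : Fin (n + 1)) (U : (Proj 𝒜ₙ).Opens) :
    InChart l U ↔ U ≤ Proj.basicOpen 𝒜ₙ (MvPolynomial.X l : S) := by
  constructor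
  · intro h x hx
    exact (Proj.mem_basicOpen 𝒜ₙ _ x).mpr (h ⟨x, hx⟩)
  · intro h x
    exact (Proj.mem_basicOpen 𝒜ₙ _ x.1).mp (h x.2)

lemma X_pow_mem (l : Fin (n + 1)) (d : ℕ) : (MvPolynomial.X l : S) ^ d ∈ 𝒜ₙ d := by
  have := (MvPolynomial.isHomogeneous_X A l).pow d
  rw [one_mul] at this
  exact this

lemma InChart.pow_notMem {l : Fin (n + 1)} {U : (Proj 𝒜ₙ).Opens} (hU : InChart l U) (d : ℕ)
    (x : U) : (MvPolynomial.X l : S) ^ d ∉ x.1.asHomogeneousIdeal := fun h =>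
  hU x (x.1.isPrime.mem_of_pow_mem d h)

/-- the value of a function at a point, in the localization of the polynomial ring -/
def valA {U : (Proj 𝒜ₙ).Opens} (a : Γ(Proj 𝒜ₙ, U)) (x : U) : Twist.Loc 𝒜ₙ x.1 :=
  ((show Twist.O (𝒜 := 𝒜ₙ) (op U) from a).1 x).val

lemma valA_ext {U : (Proj 𝒜ₙ).Opens} (a b : Γ(Proj 𝒜ₙ, U)) (h : ∀ x, valA a x = valA b x) : a = b :=
  O_ext' 𝒜ₙ (show Twist.O (𝒜 := 𝒜ₙ) (op U) from a) (show Twist.O (𝒜 := 𝒜ₙ) (op U) from b) h

/-- the function `p / X_l^d` on an open of the chart `D₊(X_l)`, for `p` homogeneous of degree `d` -/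
def gam (l : Fin (n + 1)) (U : (Proj 𝒜ₙ).Opens) (hU : InChart l U) {d : ℕ} (p : 𝒜ₙ d) :
    Γ(Proj 𝒜ₙ, U) :=
  fracSectO 𝒜ₙ U p ⟨(MvPolynomial.X l : S) ^ d, X_pow_mem l d⟩ (hU.pow_notMem d)

lemma valA_gam (l : Fin (n + 1)) (U : (Proj 𝒜ₙ).Opens) (hU : InChart l U) {d : ℕ} (p : 𝒜ₙ d)
    (x : U) :
    valA (gam l U hU p) x =
      Localization.mk p.1 ⟨(MvPolynomial.X l : S) ^ d, hU.pow_notMem d x⟩ := rfl

lemma gam_res (l : Fin (n + 1)) {U V : (Proj 𝒜ₙ).Opens} (hU : InChart l U) (hVU : V ≤ U)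
    {d : ℕ} (p : 𝒜ₙ d) :
    (Proj 𝒜ₙ).presheaf.map (homOfLE hVU).op (gam l U hU p) = gam l V (hU.mono hVU) p :=
  valA_ext _ _ fun _ => rfl

end

end Groth.Agent.Lib.Helper20.GKS
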