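import Mathlib
import Groth.Agent.Lib.Helper20.GKS0

/-!
# Normalisation of sections of `O(e)` on the standard charts of projective space (helper20)

For an open `U` in the chart `D₊(X_l)`: `nrm l U hU e : Γ(O(e), U) → Γ(O, U)`, `σ ↦ σ / X_l^e`,
a bijective `Γ(O,U)`-linear map; its compatibility with restriction, multiplication by homogeneous
polynomials and change of chart.
-/

set_option autoImplicit false
universe u

open CategoryTheory CategoryTheory.Limits AlgebraicGeometry Opposite TopologicalSpace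

namespace Groth.Agent.Lib.Helper20.GKS

open Groth.Agent.Lib.helper20.TwistVal
  Groth.Agent.Lib.helper28.TwistFree Groth.Agent.Lib.helper28.TwistMul
  Groth.Agent.Lib.Helper20.ProjMulHom Groth.Agent.Lib.helper20.Euler3
  Groth.Agent.Lib.helper20.Euler4a

noncomputable section

variable {n : ℕ} {A : Type u} [CommRing A]

local notation "𝒜ₙ" => CohB1.polyGrading n A
local notation "S" => MvPolynomial (Fin (n + 1)) A

/-- `x_l` as a unit of the localization at a point of the chart `D₊(X_l)` -/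
def xiu (l : Fin (n + 1)) (x : ProjectiveSpectrum 𝒜ₙ)
    (hx : (MvPolynomial.X l : S) ∉ x.asHomogeneousIdeal) : (Twist.Loc 𝒜ₙ x)ˣ :=
  ⟨xi x l, eta l x hx, xi_mul_eta l x hx, by rw [mul_comm]; exact xi_mul_eta l x hx⟩

/-- `x_l ^ e`, `e ∈ ℤ`, in the localization at a point of the chart `D₊(X_l)` -/
def zp (l : Fin (n + 1)) (x : ProjectiveSpectrum 𝒜ₙ)
    (hx : (MvPolynomial.X l : S) ∉ x.asHomogeneousIdeal) (e : ℤ) : Twist.Loc 𝒜ₙ x :=
  ((xiu l x hx ^ e : (Twist.Loc 𝒜ₙ x)ˣ) : Twist.Loc 𝒜ₙ x)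

lemma zp_add (l : Fin (n + 1)) (x : ProjectiveSpectrum 𝒜ₙ)
    (hx : (MvPolynomial.X l : S) ∉ x.asHomogeneousIdeal) (e e' : ℤ) :
    zp l x hx (e + e') = zp l x hx e * zp l x hx e' := by
  unfold zp
  rw [zpow_add, Units.val_mul]

lemma zp_zero (l : Fin (n + 1)) (x : ProjectiveSpectrum 𝒜ₙ)
    (hx : (MvPolynomial.X l : S) ∉ x.asHomogeneousIdeal) : zp l x hx 0 = 1 := by
  unfold zp
  rw [zpow_zero, Units.val_one]

lemma zp_mul_neg (l : Fin (n + 1)) (x : ProjectiveSpectrum 𝒜ₙ)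
    (hx : (MvPolynomial.X l : S) ∉ x.asHomogeneousIdeal) (e : ℤ) :
    zp l x hx e * zp l x hx (-e) = 1 := by
  rw [← zp_add, add_neg_cancel, zp_zero]

lemma zp_neg_mul (l : Fin (n + 1)) (x : ProjectiveSpectrum 𝒜ₙ)
    (hx : (MvPolynomial.X l : S) ∉ x.asHomogeneousIdeal) (e : ℤ) :
    zp l x hx (-e) * zp l x hx e = 1 := by
  rw [mul_comm, zp_mul_neg]

lemma zp_natCast (l : Fin (n + 1)) (x : ProjectiveSpectrum 𝒜ₙ)
    (hx : (MvPolynomial.X l : S) ∉ x.asHomogeneousIdeal) (k : ℕ) :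
    zp l x hx (k : ℤ) = (xi x l) ^ k := by
  unfold zp
  rw [zpow_natCast, Units.val_pow_eq_pow_val]
  rfl

lemma zp_neg_natCast (l : Fin (n + 1)) (x : ProjectiveSpectrum 𝒜ₙ)
    (hx : (MvPolynomial.X l : S) ∉ x.asHomogeneousIdeal) (k : ℕ) :
    zp l x hx (-(k : ℤ)) = (eta l x hx) ^ k := by
  unfold zp
  rw [zpow_neg, zpow_natCast, ← inv_pow, Units.val_pow_eq_pow_val]
  rfl

lemma xi_pow_eq (l : Fin (n + 1)) (x : ProjectiveSpectrum 𝒜ₙ) (k : ℕ) :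
    (xi x l) ^ k = mkOne 𝒜ₙ ((MvPolynomial.X l : S) ^ k) x := by
  unfold xi mkOne
  rw [Localization.mk_pow]
  refine congrArg (Localization.mk _) ?_
  exact Subtype.ext (one_pow k)

lemma eta_pow_eq (l : Fin (n + 1)) (x : ProjectiveSpectrum 𝒜ₙ)
    (hx : (MvPolynomial.X l : S) ∉ x.asHomogeneousIdeal) (k : ℕ)
    (hk : (MvPolynomial.X l : S) ^ k ∉ x.asHomogeneousIdeal) :
    (eta l x hx) ^ k = Localization.mk 1 ⟨(MvPolynomial.X l : S) ^ k, hk⟩ := by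
  unfold eta
  rw [Localization.mk_pow, one_pow]
  rfl

/-- `x ↦ x_l^e` is the function of values of a section of `O(e)` on the chart -/
lemma isSec_zp (l : Fin (n + 1)) (U : (Proj 𝒜ₙ).Opens) (hU : InChart l U) (e : ℤ) :
    IsSec U e (fun x => zp l x.1 (hU x) e) := by
  obtain ⟨k, hk⟩ : ∃ k : ℕ, e = k ∨ e = -(k : ℤ) := Int.eq_nat_or_neg e
  rcases hk with rfl | rfl
  · refine ⟨ofSec 𝒜ₙ (fracSectN 𝒜ₙ (k : ℤ) U (i := k) (j := 0)
      ⟨(MvPolynomial.X l : S) ^ k, X_pow_mem l k⟩ ⟨1, SetLike.GradedOne.one_mem⟩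
      (fun x => Groth.Agent.Lib.helper28.TwistZero.one_notMem 𝒜ₙ x.1) (by simp)), fun x => ?_⟩
    rw [valO_ofSec]
    change _ = zp l x.1 (hU x) (k : ℤ)
    rw [zp_natCast, xi_pow_eq]
    rfl
  · refine ⟨ofSec 𝒜ₙ (fracSectN 𝒜ₙ (-(k : ℤ)) U (i := 0) (j := k)
      ⟨1, SetLike.GradedOne.one_mem⟩ ⟨(MvPolynomial.X l : S) ^ k, X_pow_mem l k⟩
      (hU.pow_notMem k) (by simp)), fun x => ?_⟩
    rw [valO_ofSec]
    change _ = zp l x.1 (hU x) (-(k : ℤ))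
    rw [zp_neg_natCast, eta_pow_eq l x.1 (hU x) k (hU.pow_notMem k x)]
    rfl

/-- functions are the sections of `O(0)` -/
lemma exists_fun_of_isSec (U : (Proj 𝒜ₙ).Opens) (φ : FunU n A U) (h : IsSec U 0 φ) :
    ∃ b : Γ(Proj 𝒜ₙ, U), ∀ x : U, valA b x = φ x := by
  obtain ⟨τ, hτ⟩ := h
  let b : Γ(Proj 𝒜ₙ, U) :=
    ((inv (Groth.Agent.Lib.helper28.TwistZero.unitToTwistZero 𝒜ₙ)).app U).hom τ
  have hb : ((Groth.Agent.Lib.helper28.TwistZero.unitToTwistZero 𝒜ₙ).app U).hom b = τ := by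
    have h := IsIso.inv_hom_id (Groth.Agent.Lib.helper28.TwistZero.unitToTwistZero 𝒜ₙ)
    exact congrArg (fun φ => (Scheme.Modules.Hom.app φ U).hom τ) h
  refine ⟨b, fun x => ?_⟩
  rw [← hτ x, ← hb]
  have h2 := Groth.Agent.Lib.helper28.TwistZero.unitToTwistZero_app 𝒜ₙ U b
  refine Eq.trans ?_ (congrArg (fun σ => valO 𝒜ₙ σ x) h2).symm
  rw [valO_smul]
  have h3 : valO 𝒜ₙ (show Γ(Twist.twist 𝒜ₙ 0, U) from
      Groth.Agent.Lib.helper28.TwistZero.oneSect 𝒜ₙ U) x = 1 :=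
    Localization.mk_self (1 : x.1.asHomogeneousIdeal.toIdeal.primeCompl)
  rw [h3, mul_one]
  rfl

lemma isSec_valA (U : (Proj 𝒜ₙ).Opens) (a : Γ(Proj 𝒜ₙ, U)) : IsSec U 0 (fun x => valA a x) := by
  refine ⟨((Groth.Agent.Lib.helper28.TwistZero.unitToTwistZero 𝒜ₙ).app U).hom a, fun x => ?_⟩
  have h2 := Groth.Agent.Lib.helper28.TwistZero.unitToTwistZero_app 𝒜ₙ U a
  refine (congrArg (fun σ => valO 𝒜ₙ σ x) h2).trans ?_
  rw [valO_smul]
  have h3 : valO 𝒜ₙ (show Γ(Twist.twist 𝒜ₙ 0, U) from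
      Groth.Agent.Lib.helper28.TwistZero.oneSect 𝒜ₙ U) x = 1 :=
    Localization.mk_self (1 : x.1.asHomogeneousIdeal.toIdeal.primeCompl)
  rw [h3, mul_one]
  rfl

/-! ### values of functions -/

lemma valA_add {U : (Proj 𝒜ₙ).Opens} (a b : Γ(Proj 𝒜ₙ, U)) (x : U) :
    valA (a + b) x = valA a x + valA b x := HomogeneousLocalization.val_add _ _

lemma valA_mul {U : (Proj 𝒜ₙ).Opens} (a b : Γ(Proj 𝒜ₙ, U)) (x : U) :
    valA (a * b) x = valA a x * valA b x := HomogeneousLocalization.val_mul _ _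

lemma valA_one {U : (Proj 𝒜ₙ).Opens} (x : U) : valA (1 : Γ(Proj 𝒜ₙ, U)) x = 1 :=
  HomogeneousLocalization.val_one

lemma valA_zero {U : (Proj 𝒜ₙ).Opens} (x : U) : valA (0 : Γ(Proj 𝒜ₙ, U)) x = 0 :=
  HomogeneousLocalization.val_zero

lemma valA_res {U V : (Proj 𝒜ₙ).Opens} (hVU : V ≤ U) (a : Γ(Proj 𝒜ₙ, U)) (x : V) :
    valA ((Proj 𝒜ₙ).presheaf.map (homOfLE hVU).op a) x = valA a ⟨x.1, hVU x.2⟩ := rfl

/-- the value at a point as a ring homomorphism -/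
def valAHom {U : (Proj 𝒜ₙ).Opens} (x : U) : Γ(Proj 𝒜ₙ, U) →+* Twist.Loc 𝒜ₙ x.1 where
  toFun a := valA a x
  map_one' := valA_one x
  map_mul' a b := valA_mul a b x
  map_zero' := valA_zero x
  map_add' a b := valA_add a b x

lemma valAHom_apply {U : (Proj 𝒜ₙ).Opens} (x : U) (a : Γ(Proj 𝒜ₙ, U)) : valAHom x a = valA a x := rfl

lemma valA_pow {U : (Proj 𝒜ₙ).Opens} (a : Γ(Proj 𝒜ₙ, U)) (k : ℕ) (x : U) :
    valA (a ^ k) x = valA a x ^ k := map_pow (valAHom x) a k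

lemma valA_zsmul {U : (Proj 𝒜ₙ).Opens} (z : ℤ) (a : Γ(Proj 𝒜ₙ, U)) (x : U) :
    valA (z • a) x = (z : Twist.Loc 𝒜ₙ x.1) * valA a x := by
  rw [zsmul_eq_mul, valA_mul]
  congr 1
  exact map_intCast (valAHom x) z

lemma valA_intCast {U : (Proj 𝒜ₙ).Opens} (z : ℤ) (x : U) :
    valA ((z : ℤ) : Γ(Proj 𝒜ₙ, U)) x = (z : Twist.Loc 𝒜ₙ x.1) := map_intCast (valAHom x) z

lemma valA_sum {U : (Proj 𝒜ₙ).Opens} {ι : Type*} (s : Finset ι) (f : ι → Γ(Proj 𝒜ₙ, U)) (x : U) :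
    valA (∑ i ∈ s, f i) x = ∑ i ∈ s, valA (f i) x := map_sum (valAHom x) f s

lemma valO_smul' {U : (Proj 𝒜ₙ).Opens} {e : ℤ} (r : Γ(Proj 𝒜ₙ, U))
    (σ : Γ(Twist.twist 𝒜ₙ e, U)) (x : U) : valO 𝒜ₙ (r • σ) x = valA r x * valO 𝒜ₙ σ x :=
  valO_smul r σ x

/-! ### the normalisation -/

lemma exists_nrm (l : Fin (n + 1)) (U : (Proj 𝒜ₙ).Opens) (hU : InChart l U) (e : ℤ)
    (σ : Γ(Twist.twist 𝒜ₙ e, U)) :
    ∃ b : Γ(Proj 𝒜ₙ, U), ∀ x : U, valA b x = valO 𝒜ₙ σ x * zp l x.1 (hU x) (-e) := by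
  refine exists_fun_of_isSec U _ ?_
  exact ((isSec_valO σ).mul (isSec_zp l U hU (-e))).congr (add_neg_cancel e)

/-- `σ ↦ σ / x_l^e` -/
def nrmFun (l : Fin (n + 1)) (U : (Proj 𝒜ₙ).Opens) (hU : InChart l U) (e : ℤ)
    (σ : Γ(Twist.twist 𝒜ₙ e, U)) : Γ(Proj 𝒜ₙ, U) := (exists_nrm l U hU e σ).choose

lemma valA_nrmFun (l : Fin (n + 1)) (U : (Proj 𝒜ₙ).Opens) (hU : InChart l U) (e : ℤ)
    (σ : Γ(Twist.twist 𝒜ₙ e, U)) (x : U) :
    valA (nrmFun l U hU e σ) x = valO 𝒜ₙ σ x * zp l x.1 (hU x) (-e) :=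
  (exists_nrm l U hU e σ).choose_spec x

/-- `σ ↦ σ / x_l^e`, as a linear map -/
def nrm (l : Fin (n + 1)) (U : (Proj 𝒜ₙ).Opens) (hU : InChart l U) (e : ℤ) :
    Γ(Twist.twist 𝒜ₙ e, U) →ₗ[Γ(Proj 𝒜ₙ, U)] Γ(Proj 𝒜ₙ, U) where
  toFun := nrmFun l U hU e
  map_add' σ τ := by
    apply valA_ext
    intro x
    rw [valA_add, valA_nrmFun, valA_nrmFun, valA_nrmFun, valO_add, add_mul]
  map_smul' r σ := by
    apply valA_ext
    intro x
    rw [RingHom.id_apply, smul_eq_mul, valA_mul, valA_nrmFun, valA_nrmFun, valO_smul', mul_assoc]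

lemma valA_nrm (l : Fin (n + 1)) (U : (Proj 𝒜ₙ).Opens) (hU : InChart l U) (e : ℤ)
    (σ : Γ(Twist.twist 𝒜ₙ e, U)) (x : U) :
    valA (nrm l U hU e σ) x = valO 𝒜ₙ σ x * zp l x.1 (hU x) (-e) :=
  valA_nrmFun l U hU e σ x

lemma valO_eq_nrm (l : Fin (n + 1)) (U : (Proj 𝒜ₙ).Opens) (hU : InChart l U) (e : ℤ)
    (σ : Γ(Twist.twist 𝒜ₙ e, U)) (x : U) :
    valO 𝒜ₙ σ x = valA (nrm l U hU e σ) x * zp l x.1 (hU x) e := by
  rw [valA_nrm, mul_assoc, zp_neg_mul, mul_one]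

lemma nrm_injective (l : Fin (n + 1)) (U : (Proj 𝒜ₙ).Opens) (hU : InChart l U) (e : ℤ) :
    Function.Injective (nrm l U hU e) := by
  intro σ τ h
  apply valO_ext
  intro x
  rw [valO_eq_nrm l U hU e σ x, valO_eq_nrm l U hU e τ x, h]

lemma exists_unrm (l : Fin (n + 1)) (U : (Proj 𝒜ₙ).Opens) (hU : InChart l U) (e : ℤ)
    (a : Γ(Proj 𝒜ₙ, U)) :
    ∃ σ : Γ(Twist.twist 𝒜ₙ e, U), ∀ x : U, valO 𝒜ₙ σ x = valA a x * zp l x.1 (hU x) e :=
  ((isSec_valA U a).mul (isSec_zp l U hU e)).congr (zero_add e)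

lemma nrm_surjective (l : Fin (n + 1)) (U : (Proj 𝒜ₙ).Opens) (hU : InChart l U) (e : ℤ) :
    Function.Surjective (nrm l U hU e) := by
  intro a
  obtain ⟨σ, hσ⟩ := exists_unrm l U hU e a
  refine ⟨σ, valA_ext _ _ fun x => ?_⟩
  rw [valA_nrm, hσ, mul_assoc, zp_mul_neg, mul_one]

lemma nrm_res (l : Fin (n + 1)) {U V : (Proj 𝒜ₙ).Opens} (hU : InChart l U) (hVU : V ≤ U) (e : ℤ)
    (σ : Γ(Twist.twist 𝒜ₙ e, U)) :
    nrm l V (hU.mono hVU) e ((Twist.twist 𝒜ₙ e).presheaf.map (homOfLE hVU).op σ) =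
      (Proj 𝒜ₙ).presheaf.map (homOfLE hVU).op (nrm l U hU e σ) := by
  apply valA_ext
  intro x
  rw [valA_nrm, valA_res, valA_nrm, valO_res]

/-- `g / x_l^d` in terms of values -/
lemma valA_gam' (l : Fin (n + 1)) (U : (Proj 𝒜ₙ).Opens) (hU : InChart l U) {d : ℕ} (p : 𝒜ₙ d)
    (x : U) : valA (gam l U hU p) x = mkOne 𝒜ₙ p.1 x.1 * zp l x.1 (hU x) (-(d : ℤ)) := by
  rw [valA_gam, zp_neg_natCast, eta_pow_eq l x.1 (hU x) d (hU.pow_notMem d x)]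
  unfold mkOne
  rw [Localization.mk_mul, mul_one]
  refine congrArg (Localization.mk _) ?_
  exact Subtype.ext (one_mul _).symm

/-- normalisation and multiplication by a homogeneous polynomial -/
lemma nrm_mulHom (l : Fin (n + 1)) (U : (Proj 𝒜ₙ).Opens) (hU : InChart l U) {a b : ℤ} {d : ℕ}
    (h : a + (d : ℤ) = b) (p : 𝒜ₙ d) (σ : Γ(Twist.twist 𝒜ₙ a, U)) :
    nrm l U hU b (((mulHom 𝒜ₙ h p).app U).hom σ) = gam l U hU p * nrm l U hU a σ := by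
  apply valA_ext
  intro x
  rw [valA_nrm, mulHom_valO, valA_mul, valA_gam', valA_nrm]
  have hb : -b = -a + -(d : ℤ) := by rw [← h]; ring
  rw [hb, zp_add]
  ring

/-! ### change of chart -/

/-- `x_l / x_{l'}` as a function on an open of the chart `D₊(X_{l'})` -/
def rat (l l' : Fin (n + 1)) (U : (Proj 𝒜ₙ).Opens) (hU' : InChart l' U) : Γ(Proj 𝒜ₙ, U) :=
  gam l' U hU' (⟨MvPolynomial.X l, MvPolynomial.isHomogeneous_X A l⟩ : 𝒜ₙ 1)

lemma valA_rat (l l' : Fin (n + 1)) (U : (Proj 𝒜ₙ).Opens) (hU' : InChart l' U) (x : U) :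
    valA (rat l l' U hU') x = xi x.1 l * eta l' x.1 (hU' x) := by
  unfold rat
  rw [valA_gam']
  have h := zp_neg_natCast l' x.1 (hU' x) 1
  rw [pow_one] at h
  rw [h]
  rfl

lemma rat_mul_rat (l l' : Fin (n + 1)) (U : (Proj 𝒜ₙ).Opens) (hU : InChart l U)
    (hU' : InChart l' U) : rat l l' U hU' * rat l' l U hU = 1 := by
  apply valA_ext
  intro x
  rw [valA_mul, valA_rat, valA_rat, valA_one]
  have h1 := xi_mul_eta l x.1 (hU x)
  have h2 := xi_mul_eta l' x.1 (hU' x)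
  calc xi x.1 l * eta l' x.1 (hU' x) * (xi x.1 l' * eta l x.1 (hU x))
      = (xi x.1 l * eta l x.1 (hU x)) * (xi x.1 l' * eta l' x.1 (hU' x)) := by ring
    _ = 1 := by rw [h1, h2, one_mul]

lemma zp_sub_natCast (l : Fin (n + 1)) (x : ProjectiveSpectrum 𝒜ₙ)
    (hx : (MvPolynomial.X l : S) ∉ x.asHomogeneousIdeal) (a b : ℕ) :
    zp l x hx (-((a : ℤ) - (b : ℤ))) = (eta l x hx) ^ a * (xi x l) ^ b := by
  have h : -((a : ℤ) - (b : ℤ)) = -(a : ℤ) + (b : ℤ) := by ring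
  rw [h, zp_add, zp_neg_natCast, zp_natCast]

/-- change of chart for the normalisation -/
lemma nrm_chart (l l' : Fin (n + 1)) (U : (Proj 𝒜ₙ).Opens) (hU : InChart l U)
    (hU' : InChart l' U) (e : ℤ) (a b : ℕ) (he : e = (a : ℤ) - (b : ℤ))
    (σ : Γ(Twist.twist 𝒜ₙ e, U)) :
    nrm l' U hU' e σ = rat l l' U hU' ^ a * rat l' l U hU ^ b * nrm l U hU e σ := by
  subst he
  apply valA_ext
  intro x
  have hpow : ∀ (c : Γ(Proj 𝒜ₙ, U)) (k : ℕ), valA (c ^ k) x = valA c x ^ k := by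
    intro c k
    induction k with
    | zero => rw [pow_zero, pow_zero, valA_one]
    | succ k ih => rw [pow_succ, pow_succ, valA_mul, ih]
  rw [valA_mul, valA_mul, hpow, hpow, valA_rat, valA_rat, valA_nrm, valA_nrm, zp_sub_natCast,
    zp_sub_natCast]
  have h1 := xi_mul_eta l x.1 (hU x)
  calc valO 𝒜ₙ σ x * (eta l' x.1 (hU' x) ^ a * xi x.1 l' ^ b)
      = valO 𝒜ₙ σ x * (eta l' x.1 (hU' x) ^ a * xi x.1 l' ^ b) *
          ((xi x.1 l * eta l x.1 (hU x)) ^ a * (xi x.1 l * eta l x.1 (hU x)) ^ b) := by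
        rw [h1, one_pow, one_pow, mul_one, mul_one]
    _ = _ := by ring

/-- change of chart for `g / x_l^d` -/
lemma gam_chart (l l' : Fin (n + 1)) (U : (Proj 𝒜ₙ).Opens) (hU : InChart l U)
    (hU' : InChart l' U) {d : ℕ} (p : 𝒜ₙ d) :
    gam l' U hU' p = rat l l' U hU' ^ d * gam l U hU p := by
  apply valA_ext
  intro x
  have hpow : ∀ (c : Γ(Proj 𝒜ₙ, U)) (k : ℕ), valA (c ^ k) x = valA c x ^ k := by
    intro c k
    induction k with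
    | zero => rw [pow_zero, pow_zero, valA_one]
    | succ k ih => rw [pow_succ, pow_succ, valA_mul, ih]
  rw [valA_mul, hpow, valA_rat, valA_gam', valA_gam', zp_neg_natCast, zp_neg_natCast]
  have h1 := xi_mul_eta l x.1 (hU x)
  calc mkOne 𝒜ₙ p.1 x.1 * eta l' x.1 (hU' x) ^ d
      = mkOne 𝒜ₙ p.1 x.1 * eta l' x.1 (hU' x) ^ d * (xi x.1 l * eta l x.1 (hU x)) ^ d := by
        rw [h1, one_pow, mul_one]
    _ = _ := by ring

end

end Groth.Agent.Lib.Helper20.GKS
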