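import Mathlib
import Groth.Agent.Lib.Helper19.HomologySections
import Groth.Agent.Lib.Helper20.Euler3a

/-!
# Sections of the cohomology sheaves of a complex of quasi-coherent modules (helper20)

For a cochain complex `K` of quasi-coherent modules on a scheme and an open `U`:
`IsClassOf K p U z h` : the section `h` of `H^p(K)` over `U` is the class of the cocycle `z ∈ Γ(K^p, U)`.
Existence, uniqueness, additivity, linearity, restriction; over affine opens every class has a
representative (`exists_rep`) and the classes of coboundaries are exactly the zero classes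
(`isClassOf_zero_iff_succ`, `eq_zero_of_isClassOf_zero`).
-/

set_option autoImplicit false
universe u

open CategoryTheory CategoryTheory.Limits AlgebraicGeometry Opposite TopologicalSpace

namespace Groth.Agent.Lib.Helper20.GKS

open Groth.Agent.Lib.helper19.HomologySections Groth.Agent.Lib.helper20.Euler3a

noncomputable section

variable {X : Scheme.{u}} (K : CochainComplex X.Modules ℕ)

/-- `h` is the class of the cocycle `z` -/
def IsClassOf (p : ℕ) (U : X.Opens) (z : Γ(K.X p, U)) (h : Γ(K.homology p, U)) : Prop :=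
  ∃ y : Γ(K.cycles p, U), ((K.iCycles p).app U).hom y = z ∧ ((K.homologyπ p).app U).hom y = h

variable {K}

lemma d_app_congr {p k k' : ℕ} (hk : k = k') {U : X.Opens} (z : Γ(K.X p, U)) :
    ((K.d p k).app U).hom z = 0 ↔ ((K.d p k').app U).hom z = 0 := by
  subst hk; rfl

lemma IsClassOf.cocycle {p : ℕ} {U : X.Opens} {z : Γ(K.X p, U)} {h : Γ(K.homology p, U)}
    (hz : IsClassOf K p U z h) : ((K.d p (p + 1)).app U).hom z = 0 := by
  obtain ⟨y, rfl, -⟩ := hz
  have h1 := K.iCycles_d p (p + 1)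
  exact congrArg (fun φ => (Scheme.Modules.Hom.app φ U).hom y) h1

lemma exists_isClassOf {p : ℕ} {U : X.Opens} (z : Γ(K.X p, U))
    (hz : ((K.d p (p + 1)).app U).hom z = 0) : ∃ h, IsClassOf K p U z h := by
  have hz' : (((K.sc p).g).app U).hom z = 0 :=
    (d_app_congr (K := K) (CochainComplex.next ℕ p) z).mpr hz
  obtain ⟨y, hy⟩ := exists_cycle (K.sc p) U z hz'
  exact ⟨((K.homologyπ p).app U).hom y, y, hy, rfl⟩

lemma IsClassOf.unique {p : ℕ} {U : X.Opens} {z : Γ(K.X p, U)} {h h' : Γ(K.homology p, U)}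
    (hz : IsClassOf K p U z h) (hz' : IsClassOf K p U z h') : h = h' := by
  obtain ⟨y, hy, rfl⟩ := hz
  obtain ⟨y', hy', rfl⟩ := hz'
  have : y = y' := iCycles_app_injective (K.sc p) U (hy.trans hy'.symm)
  rw [this]

lemma IsClassOf.add {p : ℕ} {U : X.Opens} {z z' : Γ(K.X p, U)} {h h' : Γ(K.homology p, U)}
    (hz : IsClassOf K p U z h) (hz' : IsClassOf K p U z' h') :
    IsClassOf K p U (z + z') (h + h') := by
  obtain ⟨y, rfl, rfl⟩ := hz
  obtain ⟨y', rfl, rfl⟩ := hz'
  exact ⟨y + y', map_add _ _ _, map_add _ _ _⟩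

lemma IsClassOf.sub {p : ℕ} {U : X.Opens} {z z' : Γ(K.X p, U)} {h h' : Γ(K.homology p, U)}
    (hz : IsClassOf K p U z h) (hz' : IsClassOf K p U z' h') :
    IsClassOf K p U (z - z') (h - h') := by
  obtain ⟨y, rfl, rfl⟩ := hz
  obtain ⟨y', rfl, rfl⟩ := hz'
  exact ⟨y - y', map_sub _ _ _, map_sub _ _ _⟩

lemma isClassOf_zero (p : ℕ) (U : X.Opens) : IsClassOf K p U 0 0 :=
  ⟨0, map_zero _, map_zero _⟩

lemma IsClassOf.smul {p : ℕ} {U : X.Opens} {z : Γ(K.X p, U)} {h : Γ(K.homology p, U)}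
    (hz : IsClassOf K p U z h) (r : Γ(X, U)) : IsClassOf K p U (r • z) (r • h) := by
  obtain ⟨y, rfl, rfl⟩ := hz
  exact ⟨r • y, Scheme.Modules.Hom.app_smul _ r y, Scheme.Modules.Hom.app_smul _ r y⟩

lemma IsClassOf.res {p : ℕ} {U V : X.Opens} (hVU : V ≤ U) {z : Γ(K.X p, U)}
    {h : Γ(K.homology p, U)} (hz : IsClassOf K p U z h) :
    IsClassOf K p V ((K.X p).presheaf.map (homOfLE hVU).op z)
      ((K.homology p).presheaf.map (homOfLE hVU).op h) := by
  obtain ⟨y, rfl, rfl⟩ := hz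
  exact ⟨(K.cycles p).presheaf.map (homOfLE hVU).op y, app_res _ hVU y, app_res _ hVU y⟩

variable (hK : ∀ j, (K.X j).IsQuasicoherent)
include hK

/-- over an affine open every class has a representative -/
theorem exists_rep {p : ℕ} {U : X.Opens} (hU : IsAffineOpen U) (h : Γ(K.homology p, U)) :
    ∃ z, IsClassOf K p U z h := by
  haveI : (K.sc p).X₁.IsQuasicoherent := hK _
  haveI : (K.sc p).X₂.IsQuasicoherent := hK _
  haveI : (K.sc p).X₃.IsQuasicoherent := hK _
  obtain ⟨y, hy⟩ := homologyπ_app_surjective (K.sc p) hU h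
  exact ⟨_, y, rfl, hy⟩

theorem isQuasicoherent_homology' (p : ℕ) : (K.homology p).IsQuasicoherent := by
  haveI : (K.sc p).X₁.IsQuasicoherent := hK _
  haveI : (K.sc p).X₂.IsQuasicoherent := hK _
  haveI : (K.sc p).X₃.IsQuasicoherent := hK _
  exact isQuasicoherent_homology (K.sc p)

/-- over an affine open, a cocycle with zero class in degree `q + 1` is a coboundary -/
theorem exists_of_isClassOf_zero_succ {q : ℕ} {U : X.Opens} (hU : IsAffineOpen U)
    {z : Γ(K.X (q + 1), U)} (hz : IsClassOf K (q + 1) U z 0) :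
    ∃ b : Γ(K.X q, U), ((K.d q (q + 1)).app U).hom b = z := by
  haveI : (K.sc (q + 1)).X₁.IsQuasicoherent := hK _
  haveI : (K.sc (q + 1)).X₂.IsQuasicoherent := hK _
  haveI : (K.sc (q + 1)).X₃.IsQuasicoherent := hK _
  obtain ⟨y, rfl, hy⟩ := hz
  obtain ⟨b, hb⟩ := exists_of_homologyπ_eq_zero (K.sc (q + 1)) hU y hy
  have hprev : (ComplexShape.up ℕ).prev (q + 1) = q := CochainComplex.prev_nat_succ q
  -- transport along `prev (q + 1) = q`
  have key : ∀ (k : ℕ) (hk : k = q) (c : Γ(K.X k, U)),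
      ∃ b' : Γ(K.X q, U), ((K.d q (q + 1)).app U).hom b' = ((K.d k (q + 1)).app U).hom c := by
    intro k hk c
    cases hk
    exact ⟨c, rfl⟩
  obtain ⟨b', hb'⟩ := key _ hprev b
  refine ⟨b', hb'.trans ?_⟩
  have h1 : (K.sc (q + 1)).toCycles ≫ (K.sc (q + 1)).iCycles = (K.sc (q + 1)).f :=
    (K.sc (q + 1)).toCycles_i
  have h2 := congrArg (fun φ => (Scheme.Modules.Hom.app φ U).hom b) h1
  rw [← hb]
  exact h2.symm

omit hK in
/-- the class of a coboundary is zero -/
theorem isClassOf_dC_zero {q : ℕ} {U : X.Opens} (b : Γ(K.X q, U)) :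
    IsClassOf K (q + 1) U (((K.d q (q + 1)).app U).hom b) 0 := by
  refine ⟨((K.toCycles q (q + 1)).app U).hom b, ?_, ?_⟩
  · have h1 := K.toCycles_i q (q + 1)
    exact congrArg (fun φ => (Scheme.Modules.Hom.app φ U).hom b) h1
  · have h1 := K.toCycles_comp_homologyπ q (q + 1)
    exact congrArg (fun φ => (Scheme.Modules.Hom.app φ U).hom b) h1

/-- over an affine open, a cocycle with zero class in degree `0` is zero -/
theorem eq_zero_of_isClassOf_zero {U : X.Opens} (hU : IsAffineOpen U)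
    {z : Γ(K.X 0, U)} (hz : IsClassOf K 0 U z 0) : z = 0 := by
  have : (K.sc 0).X₁.IsQuasicoherent := hK _
  have : (K.sc 0).X₂.IsQuasicoherent := hK _
  have : (K.sc 0).X₃.IsQuasicoherent := hK _
  obtain ⟨y, rfl, hy⟩ := hz
  obtain ⟨b, hb⟩ := exists_of_homologyπ_eq_zero (K.sc 0) hU y hy
  have h1 : (K.sc 0).toCycles ≫ (K.sc 0).iCycles = (K.sc 0).f := (K.sc 0).toCycles_i
  have h2 := congrArg (fun φ => (Scheme.Modules.Hom.app φ U).hom b) h1
  have h3 : (K.sc 0).f = 0 := by
    apply K.shape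
    intro h
    have h4 : (ComplexShape.up ℕ).prev 0 + 1 = 0 := h
    omega
  rw [← hb]
  refine h2.trans ?_
  rw [h3]
  rfl

end

end Groth.Agent.Lib.Helper20.GKS
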