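import Mathlib
import Groth.Agent.Lib.Helper20.GKS1
import Groth.Agent.Lib.Helper20.GK1

/-!
# The Koszul cochain complex of a family of forms of degree `d` on projective space (helper20)

For `g : Fin m → 𝒜ₙ d` and `w : ℤ`: `CX p = ∐_{#S = p} O(p d + w)` with differential
`dC p : CX p ⟶ CX (p + 1)`, `(dC a)_K = ∑_{l ∈ K} ± g_l a_{K \ l}`; the values `vE`, the formula
`vE_dC` and `dC_comp_dC`.
-/

set_option autoImplicit false
universe u

open CategoryTheory CategoryTheory.Limits AlgebraicGeometry Opposite TopologicalSpace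

namespace Groth.Agent.Lib.Helper20.GKS

open Groth.Agent.Lib.helper20.TwistVal
  Groth.Agent.Lib.helper28.TwistFree Groth.Agent.Lib.helper28.TwistMul
  Groth.Agent.Lib.Helper20.ProjMulHom Groth.Agent.Lib.helper20.Euler3
  Groth.Agent.Lib.helper20.Euler3a Groth.Agent.Lib.helper20.EulerAlg
  Groth.Agent.Lib.helper20.LFMono Groth.Agent.Lib.helper20.ExactLoc
  Groth.Agent.Lib.Helper20.GK

noncomputable section

variable {n : ℕ} {A : Type u} [CommRing A]

local notation "𝒜ₙ" => CohB1.polyGrading n A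
local notation "S" => MvPolynomial (Fin (n + 1)) A

/-- the index set of the degree `p` term: subsets of `Fin m` of cardinality `p` -/
abbrev KIdx (m p : ℕ) : Type := ↥(Set.powersetCard (Fin m) p)

variable (n A) in
/-- `O(p dg + w)` -/
abbrev ktw (w : ℤ) (dg p : ℕ) : (Proj 𝒜ₙ).Modules := Twist.twist 𝒜ₙ ((p : ℤ) * (dg : ℤ) + w)

variable (n A) in
/-- the Koszul term `∐_{#S = p} O(p dg + w)` -/
abbrev CX (w : ℤ) (dg m p : ℕ) : (Proj 𝒜ₙ).Modules := ∐ (fun _ : KIdx m p => ktw n A w dg p)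

variable (w : ℤ) {dg m : ℕ} (g : Fin m → ↥(CohB1.polyGrading n A dg))

/-- multiplication by `g_l`, `O(p dg + w) ⟶ O((p + 1) dg + w)` -/
def gHom (p : ℕ) (l : Fin m) : ktw n A w dg p ⟶ ktw n A w dg (p + 1) :=
  mulHom 𝒜ₙ (a := (p : ℤ) * (dg : ℤ) + w) (b := ((p + 1 : ℕ) : ℤ) * (dg : ℤ) + w) (k := dg)
    (by push_cast; ring) (g l)

/-- the coefficients of the Koszul differential -/
def dCoef (p : ℕ) (I : KIdx m p) (K : KIdx m (p + 1)) : ktw n A w dg p ⟶ ktw n A w dg (p + 1) :=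
  ∑ l : Fin m, if l ∉ I.val ∧ K.val = insert l I.val then (sgn l I.val) • gHom w g p l else 0

/-- the Koszul differential -/
def dC (p : ℕ) : CX n A w dg m p ⟶ CX n A w dg m (p + 1) :=
  matDesc (fun _ : KIdx m p => ktw n A w dg p) (fun _ : KIdx m (p + 1) => ktw n A w dg (p + 1))
    (dCoef w g p)

/-- the values `g_l / 1` in the localization at a point -/
def xig (x : ProjectiveSpectrum 𝒜ₙ) (l : Fin m) : Twist.Loc 𝒜ₙ x := mkOne 𝒜ₙ (g l).1 x

variable {w}

lemma valO_gHom (p : ℕ) (l : Fin m) {V : (Proj 𝒜ₙ).Opens} (σ : Γ(ktw n A w dg p, V)) (x : V) :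
    valO 𝒜ₙ (((gHom w g p l).app V).hom σ) x = valO 𝒜ₙ σ x * xig g x.1 l :=
  mulHom_valO _ _ σ x

/-- values of a section of `CX p`, extended by zero to all finite subsets -/
def vE {p : ℕ} {V : (Proj 𝒜ₙ).Opens} (a : Γ(CX n A w dg m p, V)) (x : V) (I : Finset (Fin m)) :
    Twist.Loc 𝒜ₙ x.1 :=
  if h : I.card = p then
    valO 𝒜ₙ (comp (fun _ : KIdx m p => ktw n A w dg p) a ⟨I, Set.powersetCard.mem_iff.mpr h⟩) x
  else 0

lemma vE_of_card {p : ℕ} {V : (Proj 𝒜ₙ).Opens} (a : Γ(CX n A w dg m p, V)) (x : V)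
    (I : KIdx m p) :
    vE a x I.val = valO 𝒜ₙ (comp (fun _ : KIdx m p => ktw n A w dg p) a I) x := by
  unfold vE
  rw [dif_pos (Set.powersetCard.mem_iff.mp I.prop)]

lemma vE_of_card_ne {p : ℕ} {V : (Proj 𝒜ₙ).Opens} (a : Γ(CX n A w dg m p, V)) (x : V)
    (I : Finset (Fin m)) (h : I.card ≠ p) : vE a x I = 0 := dif_neg h

lemma valO_dCoef (p : ℕ) (I : KIdx m p) (K : KIdx m (p + 1)) {V : (Proj 𝒜ₙ).Opens}
    (σ : Γ(ktw n A w dg p, V)) (x : V) :
    valO 𝒜ₙ (((dCoef w g p I K).app V).hom σ) x =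
      ∑ l : Fin m, if l ∉ I.val ∧ K.val = insert l I.val then
        ((sgn l I.val : ℤ) : Twist.Loc 𝒜ₙ x.1) * (valO 𝒜ₙ σ x * xig g x.1 l) else 0 := by
  have h1 : ((dCoef w g p I K).app V).hom σ = (appAddHom V (dCoef w g p I K)) σ := rfl
  rw [h1]
  unfold dCoef
  rw [map_sum, AddMonoidHom.finsetSum_apply, valO_sum]
  refine Finset.sum_congr rfl fun l _ => ?_
  by_cases h : l ∉ I.val ∧ K.val = insert l I.val
  · rw [if_pos h, if_pos h, map_zsmul, AddMonoidHom.smul_apply, valO_zsmul]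
    congr 1
    exact valO_gHom g p l σ x
  · rw [if_neg h, if_neg h, map_zero]
    rfl

/-- the Koszul differential on values -/
theorem vE_dC (p : ℕ) {V : (Proj 𝒜ₙ).Opens} (a : Γ(CX n A w dg m p, V)) (x : V)
    (K : Finset (Fin m)) :
    vE (((dC w g p).app V).hom a) x K = cbd (xig g x.1) (vE a x) K := by
  classical
  by_cases hK : K.card = p + 1
  · have hmem : K ∈ Set.powersetCard (Fin m) (p + 1) := Set.powersetCard.mem_iff.mpr hK
    rw [vE_of_card _ x ⟨K, hmem⟩]
    unfold dC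
    rw [comp_matDesc, valO_sum]
    rw [Finset.sum_congr rfl (fun I _ => valO_dCoef g p I ⟨K, hmem⟩ (comp _ a I) x), Finset.sum_comm]
    unfold cbd
    refine Finset.sum_congr rfl fun l _ => ?_
    by_cases hl : l ∈ K
    · rw [if_pos hl]
      have hc : (K.erase l).card = p := by rw [Finset.card_erase_of_mem hl, hK]; rfl
      have hmem' : K.erase l ∈ Set.powersetCard (Fin m) p := Set.powersetCard.mem_iff.mpr hc
      rw [Finset.sum_eq_single (⟨K.erase l, hmem'⟩ : KIdx m p)]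
      · rw [if_pos ⟨Finset.notMem_erase l K, (Finset.insert_erase hl).symm⟩,
          vE_of_card a x ⟨K.erase l, hmem'⟩]
        ring
      · intro I _ hI
        rw [if_neg]
        rintro ⟨h1, h2⟩
        apply hI
        apply Subtype.ext
        change I.val = K.erase l
        rw [show K = insert l I.val from h2, Finset.erase_insert h1]
      · intro h
        exact absurd (Finset.mem_univ _) h
    · rw [if_neg hl]
      refine Finset.sum_eq_zero fun I _ => ?_
      rw [if_neg]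
      rintro ⟨-, h2⟩
      apply hl
      change l ∈ K
      rw [show K = insert l I.val from h2]
      exact Finset.mem_insert_self l _
  · rw [vE_of_card_ne _ x K hK]
    unfold cbd
    symm
    refine Finset.sum_eq_zero fun l _ => ?_
    by_cases hl : l ∈ K
    · rw [if_pos hl, vE_of_card_ne, mul_zero]
      rw [Finset.card_erase_of_mem hl]
      have : 0 < K.card := Finset.card_pos.mpr ⟨l, hl⟩
      omega
    · rw [if_neg hl]

/-- sections of `CX p` are determined by their values -/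
lemma sec_ext_vE {p : ℕ} {V : (Proj 𝒜ₙ).Opens} (a a' : Γ(CX n A w dg m p, V))
    (h : ∀ (x : V) (I : KIdx m p), vE a x I.val = vE a' x I.val) : a = a' := by
  apply comp_ext (fun _ : KIdx m p => ktw n A w dg p)
  intro I
  apply valO_ext
  intro x
  rw [← vE_of_card, ← vE_of_card]
  exact h x I

lemma vE_zero {p : ℕ} {V : (Proj 𝒜ₙ).Opens} (x : V) (I : Finset (Fin m)) :
    vE (0 : Γ(CX n A w dg m p, V)) x I = 0 := by
  unfold vE
  split_ifs with h
  · rw [Groth.Agent.Lib.helper20.Euler3a.comp_zero]; rfl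
  · rfl

lemma vE_res {p : ℕ} {V W : (Proj 𝒜ₙ).Opens} (hW : W ≤ V) (a : Γ(CX n A w dg m p, V)) (x : W)
    (I : Finset (Fin m)) :
    vE ((CX n A w dg m p).presheaf.map (homOfLE hW).op a) x I = vE a ⟨x.1, hW x.2⟩ I := by
  unfold vE
  split_ifs with h
  · rw [comp_res, valO_res]
  · rfl

lemma vE_add {p : ℕ} {V : (Proj 𝒜ₙ).Opens} (a a' : Γ(CX n A w dg m p, V)) (x : V)
    (I : Finset (Fin m)) : vE (a + a') x I = vE a x I + vE a' x I := by
  unfold vE
  split_ifs with h
  · rw [Groth.Agent.Lib.helper20.Euler3a.comp_add, valO_add]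
  · rw [add_zero]

lemma comp_smul' {p : ℕ} {V : (Proj 𝒜ₙ).Opens} (r : Γ(Proj 𝒜ₙ, V)) (a : Γ(CX n A w dg m p, V))
    (I : KIdx m p) :
    comp (fun _ : KIdx m p => ktw n A w dg p) (r • a) I =
      r • comp (fun _ : KIdx m p => ktw n A w dg p) a I :=
  Scheme.Modules.Hom.app_smul _ r a

lemma vE_smul {p : ℕ} {V : (Proj 𝒜ₙ).Opens} (r : Γ(Proj 𝒜ₙ, V)) (a : Γ(CX n A w dg m p, V))
    (x : V) (I : Finset (Fin m)) : vE (r • a) x I = valA r x * vE a x I := by
  unfold vE
  split_ifs with h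
  · rw [comp_smul', valO_smul']
  · rw [mul_zero]

variable (w) in
/-- `dg ∘ dg = 0` -/
theorem dC_comp_dC (p : ℕ) : dC w g p ≫ dC w g (p + 1) = 0 := by
  apply Scheme.Modules.hom_ext
  intro V
  apply AddCommGrpCat.hom_ext
  apply AddMonoidHom.ext
  intro a
  change ((dC w g (p + 1)).app V).hom (((dC w g p).app V).hom a) = 0
  apply sec_ext_vE
  intro x I
  rw [vE_dC, vE_zero]
  have : vE (((dC w g p).app V).hom a) x = cbd (xig g x.1) (vE a x) := by
    funext J
    exact vE_dC g p a x J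
  rw [this, cbd_cbd]

variable (w) in
/-- the Koszul cochain complex -/
def KC : CochainComplex (Proj 𝒜ₙ).Modules ℕ :=
  CochainComplex.of (fun p => CX n A w dg m p) (fun p => dC w g p) (fun p => dC_comp_dC w g p)

end

end Groth.Agent.Lib.Helper20.GKS
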