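import Mathlib
import Groth.Agent.Lib.Helper20.GKS2

/-!
# Normalised components of Koszul cochains on a chart (helper20)

`kap l U hU p a S = a_S / x_l^(p d + w)`: the dictionary between sections of the Koszul complex `KC`
over an open `U` of the chart `D₊(X_l)` and the ring-level Koszul cochains of
`γ_j = g_j / x_l^d ∈ Γ(O, U)`: `kap_dC` (cochain map), `kap_injective`, `exists_kap_eq`, `kap_res`,
`kap_chart`.
-/

set_option autoImplicit false
universe u

open CategoryTheory CategoryTheory.Limits AlgebraicGeometry Opposite TopologicalSpace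

namespace Groth.Agent.Lib.Helper20.GKS

open Groth.Agent.Lib.helper20.TwistVal
  Groth.Agent.Lib.helper28.TwistFree Groth.Agent.Lib.helper28.TwistMul
  Groth.Agent.Lib.Helper20.ProjMulHom Groth.Agent.Lib.helper20.Euler3
  Groth.Agent.Lib.helper20.Euler3a Groth.Agent.Lib.helper20.EulerAlg
  Groth.Agent.Lib.helper20.LFMono Groth.Agent.Lib.helper20.ExactLoc
  Groth.Agent.Lib.Helper20.GK

noncomputable section

variable {n : ℕ} {A : Type u} [CommRing A]

local notation "𝒜ₙ" => CohB1.polyGrading n A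
local notation "S" => MvPolynomial (Fin (n + 1)) A

variable {w : ℤ} {dg m : ℕ} (g : Fin m → ↥(CohB1.polyGrading n A dg))

/-- the functions `γ_j = g_j / x_l^d` on an open of the chart `D₊(X_l)` -/
def gamF (l : Fin (n + 1)) (U : (Proj 𝒜ₙ).Opens) (hU : InChart l U) (j : Fin m) : Γ(Proj 𝒜ₙ, U) :=
  gam l U hU (g j)

/-- normalised components of a cochain in the chart `l` -/
def kap (l : Fin (n + 1)) (U : (Proj 𝒜ₙ).Opens) (hU : InChart l U) (p : ℕ)
    (a : Γ(CX n A w dg m p, U)) (I : Finset (Fin m)) : Γ(Proj 𝒜ₙ, U) :=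
  if h : I.card = p then
    nrm l U hU ((p : ℤ) * (dg : ℤ) + w)
      (comp (fun _ : KIdx m p => ktw n A w dg p) a ⟨I, Set.powersetCard.mem_iff.mpr h⟩)
  else 0

lemma kap_of_card_ne (l : Fin (n + 1)) (U : (Proj 𝒜ₙ).Opens) (hU : InChart l U) (p : ℕ)
    (a : Γ(CX n A w dg m p, U)) (I : Finset (Fin m)) (h : I.card ≠ p) : kap l U hU p a I = 0 :=
  dif_neg h

lemma kap_of_card (l : Fin (n + 1)) (U : (Proj 𝒜ₙ).Opens) (hU : InChart l U) (p : ℕ)
    (a : Γ(CX n A w dg m p, U)) (I : KIdx m p) :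
    kap l U hU p a I.val = nrm l U hU ((p : ℤ) * (dg : ℤ) + w)
      (comp (fun _ : KIdx m p => ktw n A w dg p) a I) := by
  unfold kap
  rw [dif_pos (Set.powersetCard.mem_iff.mp I.prop)]

lemma valA_kap (l : Fin (n + 1)) (U : (Proj 𝒜ₙ).Opens) (hU : InChart l U) (p : ℕ)
    (a : Γ(CX n A w dg m p, U)) (I : Finset (Fin m)) (x : U) :
    valA (kap l U hU p a I) x = vE a x I * zp l x.1 (hU x) (-((p : ℤ) * (dg : ℤ) + w)) := by
  by_cases h : I.card = p
  · have hmem : I ∈ Set.powersetCard (Fin m) p := Set.powersetCard.mem_iff.mpr h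
    rw [kap_of_card l U hU p a ⟨I, hmem⟩, vE_of_card a x ⟨I, hmem⟩, valA_nrm]
  · rw [kap_of_card_ne l U hU p a I h, vE_of_card_ne a x I h, valA_zero, zero_mul]

lemma valA_cbd {U : (Proj 𝒜ₙ).Opens} (γ : Fin m → Γ(Proj 𝒜ₙ, U))
    (v : Finset (Fin m) → Γ(Proj 𝒜ₙ, U)) (K : Finset (Fin m)) (x : U) :
    valA (cbd γ v K) x = cbd (fun j => valA (γ j) x) (fun I => valA (v I) x) K := by
  change valAHom x (cbd γ v K) = _
  unfold cbd
  rw [map_sum]
  refine Finset.sum_congr rfl fun l _ => ?_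
  by_cases hl : l ∈ K
  · rw [if_pos hl, if_pos hl, map_mul, map_mul, map_intCast]
    rfl
  · rw [if_neg hl, if_neg hl, map_zero]

/-- **`kap` is a cochain map** to the ring-level Koszul cochains of `γ` -/
theorem kap_dC (l : Fin (n + 1)) (U : (Proj 𝒜ₙ).Opens) (hU : InChart l U) (p : ℕ)
    (a : Γ(CX n A w dg m p, U)) (K : Finset (Fin m)) :
    kap l U hU (p + 1) (((dC w g p).app U).hom a) K =
      cbd (gamF g l U hU) (kap l U hU p a) K := by
  apply valA_ext
  intro x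
  rw [valA_kap, vE_dC, valA_cbd]
  unfold cbd
  rw [Finset.sum_mul]
  refine Finset.sum_congr rfl fun j _ => ?_
  by_cases hj : j ∈ K
  · rw [if_pos hj, if_pos hj]
    beta_reduce
    rw [valA_kap]
    unfold gamF
    rw [valA_gam']
    have he : -((((p + 1 : ℕ) : ℤ)) * (dg : ℤ) + w) = -(dg : ℤ) + -((p : ℤ) * (dg : ℤ) + w) := by
      push_cast; ring
    rw [he, zp_add]
    unfold xig
    ring
  · rw [if_neg hj, if_neg hj, zero_mul]

lemma kap_add (l : Fin (n + 1)) (U : (Proj 𝒜ₙ).Opens) (hU : InChart l U) (p : ℕ)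
    (a a' : Γ(CX n A w dg m p, U)) (I : Finset (Fin m)) :
    kap l U hU p (a + a') I = kap l U hU p a I + kap l U hU p a' I := by
  apply valA_ext
  intro x
  rw [valA_add, valA_kap, valA_kap, valA_kap, vE_add, add_mul]

lemma kap_zero (l : Fin (n + 1)) (U : (Proj 𝒜ₙ).Opens) (hU : InChart l U) (p : ℕ)
    (I : Finset (Fin m)) : kap l U hU p (0 : Γ(CX n A w dg m p, U)) I = 0 := by
  apply valA_ext
  intro x
  rw [valA_kap, vE_zero, zero_mul, valA_zero]

lemma kap_smul (l : Fin (n + 1)) (U : (Proj 𝒜ₙ).Opens) (hU : InChart l U) (p : ℕ)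
    (r : Γ(Proj 𝒜ₙ, U)) (a : Γ(CX n A w dg m p, U)) (I : Finset (Fin m)) :
    kap l U hU p (r • a) I = r * kap l U hU p a I := by
  apply valA_ext
  intro x
  rw [valA_mul, valA_kap, valA_kap, vE_smul, mul_assoc]

lemma kap_sub (l : Fin (n + 1)) (U : (Proj 𝒜ₙ).Opens) (hU : InChart l U) (p : ℕ)
    (a a' : Γ(CX n A w dg m p, U)) (I : Finset (Fin m)) :
    kap l U hU p (a - a') I = kap l U hU p a I - kap l U hU p a' I := by
  have h := kap_add l U hU p (a - a') a' I
  rw [sub_add_cancel] at h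
  rw [h, add_sub_cancel_right]

theorem kap_injective (l : Fin (n + 1)) (U : (Proj 𝒜ₙ).Opens) (hU : InChart l U) (p : ℕ)
    (a a' : Γ(CX n A w dg m p, U))
    (h : ∀ I : Finset (Fin m), I.card = p → kap l U hU p a I = kap l U hU p a' I) : a = a' := by
  apply comp_ext (fun _ : KIdx m p => ktw n A w dg p)
  intro I
  apply nrm_injective l U hU ((p : ℤ) * (dg : ℤ) + w)
  rw [← kap_of_card, ← kap_of_card]
  exact h I.val (Set.powersetCard.mem_iff.mp I.prop)

theorem exists_kap_eq (l : Fin (n + 1)) (U : (Proj 𝒜ₙ).Opens) (hU : InChart l U) (p : ℕ)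
    (v : Finset (Fin m) → Γ(Proj 𝒜ₙ, U)) :
    ∃ a : Γ(CX n A w dg m p, U), ∀ I : Finset (Fin m), I.card = p → kap l U hU p a I = v I := by
  choose t ht using fun I : KIdx m p => nrm_surjective l U hU ((p : ℤ) * (dg : ℤ) + w) (v I.val)
  refine ⟨ofComp (fun _ : KIdx m p => ktw n A w dg p) t, fun I hI => ?_⟩
  have hmem : I ∈ Set.powersetCard (Fin m) p := Set.powersetCard.mem_iff.mpr hI
  rw [kap_of_card l U hU p _ ⟨I, hmem⟩, comp_ofComp, ht]

lemma kap_res (l : Fin (n + 1)) {U V : (Proj 𝒜ₙ).Opens} (hU : InChart l U) (hVU : V ≤ U) (p : ℕ)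
    (a : Γ(CX n A w dg m p, U)) (I : Finset (Fin m)) :
    kap l V (hU.mono hVU) p ((CX n A w dg m p).presheaf.map (homOfLE hVU).op a) I =
      (Proj 𝒜ₙ).presheaf.map (homOfLE hVU).op (kap l U hU p a I) := by
  apply valA_ext
  intro x
  rw [valA_kap, valA_res, valA_kap, vE_res]

lemma gamF_res (l : Fin (n + 1)) {U V : (Proj 𝒜ₙ).Opens} (hU : InChart l U) (hVU : V ≤ U)
    (j : Fin m) :
    (Proj 𝒜ₙ).presheaf.map (homOfLE hVU).op (gamF g l U hU j) = gamF g l V (hU.mono hVU) j :=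
  gam_res l hU hVU (g j)

lemma gamF_chart (l l' : Fin (n + 1)) (U : (Proj 𝒜ₙ).Opens) (hU : InChart l U)
    (hU' : InChart l' U) (j : Fin m) :
    gamF g l' U hU' j = rat l l' U hU' ^ dg * gamF g l U hU j :=
  gam_chart l l' U hU hU' (g j)

/-- change of chart for the normalised components (`w = -b`) -/
lemma kap_chart (l l' : Fin (n + 1)) (U : (Proj 𝒜ₙ).Opens) (hU : InChart l U)
    (hU' : InChart l' U) (p b : ℕ) (hw : w = -(b : ℤ)) (a : Γ(CX n A w dg m p, U))
    (I : Finset (Fin m)) :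
    kap l' U hU' p a I =
      rat l l' U hU' ^ (p * dg) * rat l' l U hU ^ b * kap l U hU p a I := by
  by_cases h : I.card = p
  · have hmem : I ∈ Set.powersetCard (Fin m) p := Set.powersetCard.mem_iff.mpr h
    rw [kap_of_card l' U hU' p a ⟨I, hmem⟩, kap_of_card l U hU p a ⟨I, hmem⟩]
    refine nrm_chart l l' U hU hU' _ (p * dg) b ?_ _
    rw [hw]
    push_cast
    ring
  · rw [kap_of_card_ne l' U hU' p a I h, kap_of_card_ne l U hU p a I h, mul_zero]

end

end Groth.Agent.Lib.Helper20.GKS
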