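import Mathlib
import Groth.Agent.Lib.Helper20.GKS3
import Groth.Agent.Lib.Helper20.GK2

/-!
# Cocycles, coboundaries and the contraction homotopy for sections of the Koszul complex (helper20)

On an open `U` of the chart `D₊(X_l)`:
* `dC_eq_zero_iff`, `eq_dC_iff`: cocycles / coboundaries in terms of the normalised components `kap`;
* `exists_contraction`: `γ_j • z` is a coboundary for every cocycle `z` (so the `γ_j` kill cohomology);
* `gamF_smul_eq_zero`: in degree `0`, `γ_j • z = 0` for every cocycle `z`;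
* `ex_of_exact`: exactness of the sections complex gives the ring-level exactness `Ex univ γ p`.
-/

set_option autoImplicit false
universe u

open CategoryTheory CategoryTheory.Limits AlgebraicGeometry Opposite TopologicalSpace

namespace Groth.Agent.Lib.Helper20.GKS

open Groth.Agent.Lib.helper20.TwistVal
  Groth.Agent.Lib.Helper20.ProjMulHom Groth.Agent.Lib.helper20.Euler3
  Groth.Agent.Lib.helper20.Euler3a Groth.Agent.Lib.helper20.EulerAlg
  Groth.Agent.Lib.Helper20.GK

noncomputable section

variable {n : ℕ} {A : Type u} [CommRing A]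

local notation "𝒜ₙ" => CohB1.polyGrading n A
local notation "S" => MvPolynomial (Fin (n + 1)) A

variable {w : ℤ} {dg m : ℕ} (g : Fin m → ↥(CohB1.polyGrading n A dg))
  (l : Fin (n + 1)) (U : (Proj (CohB1.polyGrading n A)).Opens) (hU : InChart l U)

lemma dC_eq_zero_iff (p : ℕ) (a : Γ(CX n A w dg m p, U)) :
    ((dC w g p).app U).hom a = 0 ↔ ∀ K, cbd (gamF g l U hU) (kap l U hU p a) K = 0 := by
  constructor
  · intro h K
    rw [← kap_dC, h, kap_zero]
  · intro h
    apply kap_injective l U hU (p + 1)
    intro K _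
    rw [kap_dC, h K, kap_zero]

lemma eq_dC_iff (p : ℕ) (a : Γ(CX n A w dg m (p + 1), U)) (b : Γ(CX n A w dg m p, U)) :
    ((dC w g p).app U).hom b = a ↔
      ∀ K : Finset (Fin m), K.card = p + 1 →
        cbd (gamF g l U hU) (kap l U hU p b) K = kap l U hU (p + 1) a K := by
  constructor
  · intro h K _
    rw [← kap_dC, h]
  · intro h
    apply kap_injective l U hU (p + 1)
    intro K hK
    rw [kap_dC, h K hK]

lemma kap_suppIn (p : ℕ) (a : Γ(CX n A w dg m p, U)) :
    SuppIn Finset.univ p (kap l U hU p a) := by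
  intro I hI
  refine ⟨Finset.subset_univ _, ?_⟩
  by_contra h
  exact hI (kap_of_card_ne l U hU p a I h)

/-- the contraction of a cochain supported in degree `p + 1` is supported in degree `p` -/
lemma hs_eq_zero_of_card {T : Type*} [CommRing T] (j : Fin m) (v : Finset (Fin m) → T) (q : ℕ)
    (hv : ∀ I, I.card ≠ q + 1 → v I = 0) (I : Finset (Fin m)) (hI : I.card ≠ q) :
    hs j v I = 0 := by
  by_cases hj : j ∈ I
  · exact hs_of_mem v hj
  · rw [hs_of_notMem v hj, hv, mul_zero]
    rw [Finset.card_insert_of_notMem hj]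
    omega

lemma hs_zero_fun {T : Type*} [CommRing T] (j : Fin m) (I : Finset (Fin m)) :
    hs j (fun _ => (0 : T)) I = 0 := by
  unfold hs
  split_ifs <;> simp

/-- **`γ_j` kills cohomology**: `γ_j • z` is a coboundary for every cocycle `z` -/
theorem exists_contraction (p : ℕ) (z : Γ(CX n A w dg m (p + 1), U))
    (hz : ((dC w g (p + 1)).app U).hom z = 0) (j : Fin m) :
    ∃ b : Γ(CX n A w dg m p, U), ((dC w g p).app U).hom b = gamF g l U hU j • z := by
  have hcoc := (dC_eq_zero_iff g l U hU (p + 1) z).mp hz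
  set v := kap l U hU (p + 1) z with hv
  obtain ⟨b, hb⟩ := exists_kap_eq (w := w) (dg := dg) l U hU p (hs j v)
  have hb' : kap l U hU p b = hs j v := by
    funext I
    by_cases hI : I.card = p
    · exact hb I hI
    · rw [kap_of_card_ne l U hU p b I hI,
        hs_eq_zero_of_card j v p (fun I' hI' => kap_of_card_ne l U hU (p + 1) z I' hI') I hI]
  refine ⟨b, (eq_dC_iff g l U hU p _ b).mpr fun K _ => ?_⟩
  rw [hb', kap_smul]
  have h := cbd_hs (gamF g l U hU) j v K
  have h0 : hs j (cbd (gamF g l U hU) v) K = 0 := by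
    have : cbd (gamF g l U hU) v = fun _ => 0 := funext hcoc
    rw [this, hs_zero_fun]
  rw [h0, add_zero] at h
  exact h

/-- in degree `0`, `γ_j` kills the cocycles -/
theorem gamF_smul_eq_zero (z : Γ(CX n A w dg m 0, U))
    (hz : ((dC w g 0).app U).hom z = 0) (j : Fin m) : gamF g l U hU j • z = 0 := by
  have hcoc := (dC_eq_zero_iff g l U hU 0 z).mp hz
  set v := kap l U hU 0 z with hv
  apply kap_injective l U hU 0
  intro K _
  rw [kap_smul, kap_zero]
  have h := cbd_hs (gamF g l U hU) j v K
  have h0 : hs j (cbd (gamF g l U hU) v) K = 0 := by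
    have : cbd (gamF g l U hU) v = fun _ => 0 := funext hcoc
    rw [this, hs_zero_fun]
  have h1 : hs j v = fun _ => 0 := by
    funext I
    by_cases hj : j ∈ I
    · exact hs_of_mem v hj
    · rw [hs_of_notMem v hj, hv, kap_of_card_ne, mul_zero]
      rw [Finset.card_insert_of_notMem hj]
      omega
  rw [h0, add_zero, h1, cbd_zero] at h
  exact h.symm

/-- exactness of the sections complex in degree `p + 1` gives `Ex univ γ (p + 1)` -/
theorem ex_succ_of_exact (p : ℕ)
    (hex : ∀ z : Γ(CX n A w dg m (p + 1), U), ((dC w g (p + 1)).app U).hom z = 0 →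
      ∃ b : Γ(CX n A w dg m p, U), ((dC w g p).app U).hom b = z) :
    Ex Finset.univ (gamF g l U hU) (p + 1) := by
  intro v hv hcoc
  obtain ⟨z, hz⟩ := exists_kap_eq (w := w) (dg := dg) l U hU (p + 1) v
  have hz' : kap l U hU (p + 1) z = v := by
    funext I
    by_cases hI : I.card = p + 1
    · exact hz I hI
    · rw [kap_of_card_ne l U hU (p + 1) z I hI]
      by_contra hne
      exact hI (hv I (Ne.symm hne)).2
  have hdz : ((dC w g (p + 1)).app U).hom z = 0 := by
    rw [dC_eq_zero_iff g l U hU, hz']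
    exact fun K => hcoc K (Finset.subset_univ K)
  obtain ⟨b, hb⟩ := hex z hdz
  refine ⟨kap l U hU p b, fun K _ hK => ?_⟩
  rw [(eq_dC_iff g l U hU p z b).mp hb K hK, hz']

/-- exactness of the sections complex in degree `0` gives `Ex univ γ 0` -/
theorem ex_zero_of_exact
    (hex : ∀ z : Γ(CX n A w dg m 0, U), ((dC w g 0).app U).hom z = 0 → z = 0) :
    Ex Finset.univ (gamF g l U hU) 0 := by
  intro v hv hcoc
  obtain ⟨z, hz⟩ := exists_kap_eq (w := w) (dg := dg) l U hU 0 v
  have hz' : kap l U hU 0 z = v := by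
    funext I
    by_cases hI : I.card = 0
    · exact hz I hI
    · rw [kap_of_card_ne l U hU 0 z I hI]
      by_contra hne
      exact hI (hv I (Ne.symm hne)).2
  have hdz : ((dC w g 0).app U).hom z = 0 := by
    rw [dC_eq_zero_iff g l U hU, hz']
    exact fun K => hcoc K (Finset.subset_univ K)
  have hz0 := hex z hdz
  refine ⟨fun _ => 0, fun K _ hK => ?_⟩
  rw [cbd_zero, ← hz', hz0, kap_zero]

end

end Groth.Agent.Lib.Helper20.GKS
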