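import Mathlib
import Groth.Agent.Lib.Helper20.ClosedImmDual
import Groth.Agent.Lib.Helper21.ClosedFF
import Groth.Agent.Lib.Helper21.ExtShDelta

/-!
# Quasi-coherent modules killed by the ideal of a closed subscheme (helper20)

`ι : X ⟶ P` a closed immersion, `M = ι_* O_X`, `G` a quasi-coherent `O_P`-module killed by the ideal
of `X`.  Then `ℋom(M, G) ≅ G` (`nonempty_sheafHom_iso`), hence `R⁰ℋom(M, G) ≅ G`
(`nonempty_extSh_zero_iso`).
-/

set_option autoImplicit false
universe u

open CategoryTheory CategoryTheory.Limits AlgebraicGeometry Opposite TopologicalSpace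

namespace Groth.Agent.Lib.Helper20.GKS

open Groth.Agent.Lib.Helper20.ClosedImmAdj Groth.Agent.Lib.Helper20.ClosedImmDual

noncomputable section

variable {X P : Scheme.{u}} (ι : X ⟶ P) [IsClosedImmersion ι]

/-- `G` is killed by the ideal of the closed subscheme -/
def KilledBy (G : P.Modules) : Prop :=
  ∀ (U : P.affineOpens) (a : Γ(P, U.1)), a ∈ ι.ker.ideal U → ∀ s : Γ(G, U.1), a • s = 0

variable {ι}

/-- a quasi-coherent module killed by the ideal is a direct image -/
lemma KilledBy.isIso_unit {G : P.Modules} [G.IsQuasicoherent] (h : KilledBy ι G) :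
    IsIso ((Scheme.Modules.pullbackPushforwardAdjunction ι).unit.app G) :=
  (Groth.Agent.Lib.helper8.ClosedImmUnit.isIso_unit_iff_of_isClosedImmersion ι G).mpr h

variable (ι)

/-- the unit of `ι_* ⊣ ι^!` is an isomorphism -/
instance isIso_unit_shriekAdj : IsIso (shriekAdj ι).unit := by
  haveI := Groth.Agent.Lib.helper21.ClosedFF.full_pushforward ι
  haveI := Groth.Agent.Lib.helper21.ClosedFF.faithful_pushforward ι
  infer_instance

variable [ModSite.HasSheafHom (O := P.sheaf)
    ((Scheme.Modules.pushforward ι).obj (Coh.structureModule X))]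

/-- `ℋom(ι_* O_X, ι_* G') ≅ ι_* G'` -/
def sheafHomPushObjIso (G' : X.Modules) :
    (ModSite.sheafHom (O := P.sheaf) ((Scheme.Modules.pushforward ι).obj (Coh.structureModule X))).obj
        ((Scheme.Modules.pushforward ι).obj G') ≅ (Scheme.Modules.pushforward ι).obj G' :=
  (sheafHomPushIso ι).app _ ≪≫
    (Scheme.Modules.pushforward ι).mapIso (asIso ((shriekAdj ι).unit.app G')).symm

/-- **`ℋom(ι_* O_X, G) ≅ G`** for `G` quasi-coherent and killed by the ideal of `X` -/
theorem nonempty_sheafHom_iso (G : P.Modules) [G.IsQuasicoherent] (h : KilledBy ι G) :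
    Nonempty ((ModSite.sheafHom (O := P.sheaf)
      ((Scheme.Modules.pushforward ι).obj (Coh.structureModule X))).obj G ≅ G) := by
  haveI := h.isIso_unit
  let e1 : G ≅ (Scheme.Modules.pushforward ι).obj ((Scheme.Modules.pullback ι).obj G) :=
    asIso ((Scheme.Modules.pullbackPushforwardAdjunction ι).unit.app G)
  exact ⟨(ModSite.sheafHom (O := P.sheaf)
    ((Scheme.Modules.pushforward ι).obj (Coh.structureModule X))).mapIso e1 ≪≫
      sheafHomPushObjIso ι _ ≪≫ e1.symm⟩

variable [HasInjectiveResolutions (ModSite.Mod P.sheaf)]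

/-- **`R⁰ℋom(ι_* O_X, G) ≅ G`** for `G` quasi-coherent and killed by the ideal of `X` -/
theorem nonempty_extSh_zero_iso (G : P.Modules) [G.IsQuasicoherent] (h : KilledBy ι G) :
    Nonempty ((ModSite.extSh (O := P.sheaf)
      ((Scheme.Modules.pushforward ι).obj (Coh.structureModule X)) 0).obj G ≅ G) := by
  obtain ⟨e⟩ := nonempty_sheafHom_iso ι G h
  haveI := Groth.Agent.Lib.helper21.ExtShDelta.preservesFiniteLimits_sheafHom P.sheaf
    ((Scheme.Modules.pushforward ι).obj (Coh.structureModule X))
  exact ⟨((ModSite.sheafHom (O := P.sheaf)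
    ((Scheme.Modules.pushforward ι).obj (Coh.structureModule X))).rightDerivedZeroIsoSelf).app G ≪≫ e⟩

/-- if `R⁰ℋom(ι_* O_X, G) = 0` then `G = 0` -/
theorem isZero_of_isZero_extSh_zero (G : P.Modules) [G.IsQuasicoherent] (h : KilledBy ι G)
    (hz : IsZero ((ModSite.extSh (O := P.sheaf)
      ((Scheme.Modules.pushforward ι).obj (Coh.structureModule X)) 0).obj G)) : IsZero G := by
  obtain ⟨e⟩ := nonempty_extSh_zero_iso ι G h
  exact hz.of_iso e.symm

end

end Groth.Agent.Lib.Helper20.GKS
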