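import Mathlib
import Groth.Agent.Lib.Helper20.GKS5
import Groth.Agent.Lib.Helper20.GKS7
import Groth.Agent.Lib.Helper20.GKS10
import Groth.Agent.Lib.Helper11.QCohSigma
import Groth.Agent.Lib.Helper16.FLF5
import Groth.Agent.Lib.Helper28.TwistPn

/-!
# The cohomology sheaves of the Koszul complex are killed by the ideal of `X` (helper20)

`ι : X ⟶ P^n_A` a closed immersion, `g : Fin m → 𝒜ₙ d` forms whose dehomogenisations generate the
ideal of `X` on every affine open of every standard chart.  Then the cohomology sheaves of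
`KC w g` are quasi-coherent and killed by the ideal of `X`.
-/

set_option autoImplicit false
universe u

open CategoryTheory CategoryTheory.Limits AlgebraicGeometry Opposite TopologicalSpace

namespace Groth.Agent.Lib.Helper20.GKS

open Groth.Agent.Lib.helper20.Euler4e

noncomputable section

variable {n : ℕ} {A : Type u} [CommRing A]

local notation "𝒜ₙ" => CohB1.polyGrading n A

lemma isQuasicoherent_twist (e : ℤ) : (Twist.twist 𝒜ₙ e).IsQuasicoherent :=
  Groth.Agent.Lib.helper16.FLF.isQuasicoherent_of_isFinLocFree (X := Proj 𝒜ₙ) _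
    (Groth.Agent.Lib.helper16.FLF.isFinLocFree_of_isInvertible
      (Groth.Agent.Lib.helper28.TwistPn.isInvertible n A e))

lemma isQuasicoherent_CX (w : ℤ) (dg m p : ℕ) : (CX n A w dg m p).IsQuasicoherent := by
  let f : KIdx m p → (Proj 𝒜ₙ).Modules := fun _ => ktw n A w dg p
  have h1 : (∐ fun j : ULift.{u} (KIdx m p) => f j.down).IsQuasicoherent :=
    Groth.Agent.Lib.helper11.QCohSigma.isQuasicoherent_sigma _ fun _ => isQuasicoherent_twist _
  exact (SheafOfModules.isQuasicoherent (Proj 𝒜ₙ).ringCatSheaf).prop_of_iso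
    (Sigma.reindex (Equiv.ulift.{u} (α := KIdx m p)) f) h1

variable {w : ℤ} {dg m : ℕ} (g : Fin m → ↥(CohB1.polyGrading n A dg))

lemma isQuasicoherent_KC_X (j : ℕ) : ((KC w g).X j).IsQuasicoherent := isQuasicoherent_CX w dg m j

lemma KC_d (p : ℕ) : (KC w g).d p (p + 1) = dC w g p := by
  unfold KC
  exact CochainComplex.of_d _ _ p

variable {X : Scheme.{u}} (ι : X ⟶ Proj (CohB1.polyGrading n A)) [IsClosedImmersion ι]

/-- the dehomogenisations of the `g_j` generate the ideal of `X` on the affine opens of the charts -/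
def Generates : Prop :=
  ∀ (l : Fin (n + 1)) (U : (Proj 𝒜ₙ).Opens) (hU : IsAffineOpen U) (hUl : InChart l U),
    Ideal.span (Set.range (gamF g l U hUl)) = ι.ker.ideal ⟨U, hU⟩

variable {g ι}

/-- on an affine open of a chart, the ideal of `X` kills the cohomology of the Koszul complex -/
lemma smul_eq_zero_of_chart (hg : Generates g ι) (p : ℕ) (l : Fin (n + 1))
    (U : (Proj 𝒜ₙ).Opens) (hU : IsAffineOpen U) (hUl : InChart l U) (a : Γ(Proj 𝒜ₙ, U))
    (ha : a ∈ ι.ker.ideal ⟨U, hU⟩) (s : Γ((KC w g).homology p, U)) : a • s = 0 := by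
  rw [← hg l U hU hUl] at ha
  refine Submodule.span_induction (p := fun a _ => a • s = 0) ?_ ?_ ?_ ?_ ha
  · rintro _ ⟨j, rfl⟩
    obtain ⟨z, hz⟩ := exists_rep (K := KC w g) (isQuasicoherent_KC_X g) hU s
    have hcoc := hz.cocycle
    rw [KC_d] at hcoc
    have h1 := hz.smul (gamF g l U hUl j)
    cases p with
    | zero =>
      have h2 : gamF g l U hUl j • z = 0 := gamF_smul_eq_zero g l U hUl z hcoc j
      rw [h2] at h1
      exact h1.unique (isClassOf_zero 0 U)
    | succ q =>
      obtain ⟨b, hb⟩ := exists_contraction g l U hUl q z hcoc j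
      have h2 := isClassOf_dC_zero (K := KC w g) (q := q) (U := U) b
      have h3 : (((KC w g).d q (q + 1)).app U).hom b = gamF g l U hUl j • z := by
        rw [KC_d]; exact hb
      rw [h3] at h2
      exact h1.unique h2
  · exact zero_smul _ s
  · intro x y _ _ hx hy
    rw [add_smul, hx, hy, add_zero]
  · intro r x _ hx
    rw [smul_eq_mul, mul_smul, hx, smul_zero]

/-- **the cohomology sheaves of the Koszul complex are killed by the ideal of `X`** -/
theorem killedBy_homology (hg : Generates g ι) (p : ℕ) : KilledBy ι ((KC w g).homology p) := by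
  intro U a ha s
  rw [Scheme.Hom.ker_apply] at ha
  refine TopCat.Presheaf.IsSheaf.section_ext ((KC w g).homology p).isSheaf (U := op U.1) ?_
  intro x hx
  obtain ⟨l, hl⟩ := Groth.Agent.Lib.helper28.TwistPn.exists_X_notMem n A x
  have hxl : x ∈ U0 n A l := (Proj.mem_basicOpen 𝒜ₙ _ x).mpr hl
  obtain ⟨_, ⟨V, hV : IsAffineOpen V, rfl⟩, hxV, hVle⟩ :=
    (Proj 𝒜ₙ).isBasis_affineOpens.exists_subset_of_mem_open
      (show x ∈ ((U.1 ⊓ U0 n A l : (Proj 𝒜ₙ).Opens) : Set (Proj 𝒜ₙ)) from ⟨hx, hxl⟩)
      (U.1 ⊓ U0 n A l).2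
  have hVU : V ≤ U.1 := fun y hy => (hVle hy).1
  have hVl : InChart l V := fun y => hU0 l ⟨y.1, (hVle y.2).2⟩
  refine ⟨V, hVU, hxV, ?_⟩
  have hres : ((KC w g).homology p).presheaf.map (homOfLE hVU).op (a • s) =
      ((Proj 𝒜ₙ).presheaf.map (homOfLE hVU).op).hom a •
        ((KC w g).homology p).presheaf.map (homOfLE hVU).op s :=
    Groth.Agent.Lib.helper28.HomOfBasis.map_smul' _ (homOfLE hVU) a s
  have ha' : ((Proj 𝒜ₙ).presheaf.map (homOfLE hVU).op).hom a ∈ ι.ker.ideal ⟨V, hV⟩ := by
    rw [Scheme.Hom.ker_apply, RingHom.mem_ker]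
    have nat := ι.naturality (homOfLE hVU).op
    have h1 := congrArg (fun φ => φ.hom a) nat
    simp only [CommRingCat.hom_comp, RingHom.comp_apply] at h1
    rw [h1, (RingHom.mem_ker).mp ha, map_zero]
  change ((KC w g).homology p).presheaf.map (homOfLE hVU).op (a • s) =
    ((KC w g).homology p).presheaf.map (homOfLE hVU).op 0
  rw [hres, smul_eq_zero_of_chart hg p l V hV hVl _ ha', map_zero]

end

end Groth.Agent.Lib.Helper20.GKS
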