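import Mathlib
import Groth.Prelude.Def_KLin
import Groth.Agent.Lib.Helper18.HHConseq
import Groth.Agent.Lib.Helper18.HHSum
import Groth.Agent.Lib.Helper27.DeltaSeq

/-!
# A linear local-to-global comparison `Ext^m(F, N) ≃ₗ[A] H^0(X, ℰxt^m(F, N))` (helper20)

`X` a scheme over a commutative ring `A`, `F` an `O_X`-module, `E b` a sequence of functors on
`O_X`-modules with long exact sequences vanishing on injectives in positive degrees
(`DeltaSeq.IsExSeq`, e.g. `E b = ℰxt^b(F, -)`), `E 0` left exact, `H^{p+1}(X, E 0 I) = 0` for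
injective `I`, and a natural `A`-linear isomorphism `θ : Ext^0(F, B) ≃ H^0(X, E 0 B)`.

`ext_equiv_HH_zero`: if `H^a(X, E b N) = 0` for all `a > 0`, `b < m` then
`Ext^m(F, N) ≃ₗ[A] H^0(X, E m N)` (dimension shifting in `N`; no spectral sequence).
-/

set_option autoImplicit false

universe u

open CategoryTheory Limits Abelian Opposite AlgebraicGeometry

namespace Groth.Agent.Lib.Helper20.LocGlobLin

open Groth.Agent.Lib.Helper18.HH Groth.Agent.Lib.helper27

namespace LA

variable {k : Type*} [CommRing k] {V1 V2 V3 V4 W1 W2 W3 : Type*}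
  [AddCommGroup V1] [Module k V1] [AddCommGroup V2] [Module k V2]
  [AddCommGroup V3] [Module k V3] [AddCommGroup V4] [Module k V4] [AddCommGroup W1] [Module k W1]
  [AddCommGroup W2] [Module k W2] [AddCommGroup W3] [Module k W3]

/-- comparison of cokernels -/
theorem coker_equiv (a : V1 →ₗ[k] V2) (b : V2 →ₗ[k] V3) (a' : W1 →ₗ[k] W2) (b' : W2 →ₗ[k] W3)
    (hab : Function.Exact a b) (hb : Function.Surjective b)
    (hab' : Function.Exact a' b') (hb' : Function.Surjective b')
    (θ1 : V1 ≃ₗ[k] W1) (θ2 : V2 ≃ₗ[k] W2) (hcomm : ∀ x, θ2 (a x) = a' (θ1 x)) :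
    Nonempty (V3 ≃ₗ[k] W3) := by
  have hker : (LinearMap.ker b).map (θ2 : V2 →ₗ[k] W2) = LinearMap.ker b' := by
    rw [LinearMap.exact_iff.1 hab, LinearMap.exact_iff.1 hab']
    ext w
    constructor
    · rintro ⟨v, ⟨x, rfl⟩, rfl⟩
      exact ⟨θ1 x, (hcomm x).symm⟩
    · rintro ⟨y, rfl⟩
      refine ⟨a (θ1.symm y), ⟨_, rfl⟩, ?_⟩
      change θ2 (a (θ1.symm y)) = a' y
      rw [hcomm, LinearEquiv.apply_symm_apply]
  exact ⟨(b.quotKerEquivOfSurjective hb).symm.trans
    ((Submodule.Quotient.equiv _ _ θ2 hker).trans (b'.quotKerEquivOfSurjective hb'))⟩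

/-- `V1 → V2 → V3 → V4` exact with `V1 = V4 = 0`: the middle map is bijective -/
theorem bijective_of_exact (a : V1 →ₗ[k] V2) (b : V2 →ₗ[k] V3) (c : V3 →ₗ[k] V4)
    (hab : Function.Exact a b) (hbc : Function.Exact b c)
    [Subsingleton V1] [Subsingleton V4] : Function.Bijective b := by
  constructor
  · rw [injective_iff_map_eq_zero]
    intro x hx
    obtain ⟨y, rfl⟩ := (hab x).1 hx
    rw [Subsingleton.elim y 0, _root_.map_zero]
  · intro z
    exact (hbc z).1 (Subsingleton.elim _ _)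

end LA

variable {X : Scheme.{u}} (A : Type u) [CommRing A] [X.Over (Spec (CommRingCat.of A))]

section FourTerm

variable {M0 M1 M2 M3 : X.Modules} (f : M0 ⟶ M1) (g : M1 ⟶ M2) (h : M2 ⟶ M3)
  (w01 : f ≫ g = 0) (w12 : g ≫ h = 0) [Mono f] [Epi h]
  (e01 : (ShortComplex.mk f g w01).Exact) (e12 : (ShortComplex.mk g h w12).Exact)

/-- the kernel of `h` -/
noncomputable abbrev K : X.Modules := kernel h

/-- `M1 ⟶ K` -/
noncomputable abbrev π : M1 ⟶ kernel h := kernel.lift h g w12

include e12 in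
lemma epi_π : Epi (kernel.lift h g w12) := e12.epi_kernelLift

/-- `0 → K → M2 → M3 → 0` -/
noncomputable abbrev S2 : ShortComplex X.Modules :=
  ShortComplex.mk (kernel.ι h) h (kernel.condition h)

lemma shortExact_S2 : (S2 h).ShortExact :=
  { exact := ShortComplex.exact_kernel h
    mono_f := inferInstanceAs (Mono (kernel.ι h))
    epi_g := inferInstanceAs (Epi h) }

include w01 in
lemma w_S1 : f ≫ kernel.lift h g w12 = 0 := by
  rw [← cancel_mono (kernel.ι h), Category.assoc, kernel.lift_ι, w01, zero_comp]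

/-- `0 → M0 → M1 → K → 0` -/
noncomputable abbrev S1 : ShortComplex X.Modules :=
  ShortComplex.mk f (kernel.lift h g w12) (w_S1 f g h w01 w12)

include e01 e12 in
lemma shortExact_S1 : (S1 f g h w01 w12).ShortExact := by
  let φ : S1 f g h w01 w12 ⟶ ShortComplex.mk f g w01 :=
    { τ₁ := 𝟙 _
      τ₂ := 𝟙 _
      τ₃ := kernel.ι h
      comm₁₂ := by simp
      comm₂₃ := by simp }
  have h1 : Epi φ.τ₁ := inferInstanceAs (Epi (𝟙 M0))
  have h2 : IsIso φ.τ₂ := inferInstanceAs (IsIso (𝟙 M1))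
  have h3 : Mono φ.τ₃ := inferInstanceAs (Mono (kernel.ι h))
  exact
    { exact := (ShortComplex.exact_iff_of_epi_of_isIso_of_mono φ).mpr e01
      mono_f := inferInstanceAs (Mono f)
      epi_g := epi_π g h w12 e12 }

include e01 e12 in
/-- `H^a(K) = 0` -/
lemma subsingleton_HH_K (a : ℕ) (h1 : Subsingleton (Coh.HH X M1 a))
    (h0 : Subsingleton (Coh.HH X M0 (a + 1))) : Subsingleton (Coh.HH X (kernel h) a) := by
  have hS1 := shortExact_S1 f g h w01 w12 e01 e12
  refine subsingleton_of_forall_eq 0 (fun y => ?_)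
  have hy : δ hS1 a y = 0 := Subsingleton.elim _ _
  obtain ⟨z, rfl⟩ := (exact₃ hS1 a y).1 hy
  rw [Subsingleton.elim z 0, _root_.map_zero]

include e01 e12 in
/-- `M0`, `M1`, `M3` acyclic in degrees `a`, `a + 1` ⇒ `H^a(M2) = 0` -/
theorem subsingleton_HH_M2 (a : ℕ) (h1 : Subsingleton (Coh.HH X M1 a))
    (h0 : Subsingleton (Coh.HH X M0 (a + 1))) (h3 : Subsingleton (Coh.HH X M3 a)) :
    Subsingleton (Coh.HH X M2 a) := by
  have hK := subsingleton_HH_K f g h w01 w12 e01 e12 a h1 h0
  have hS2 := shortExact_S2 h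
  refine subsingleton_of_forall_eq 0 (fun x => ?_)
  have hx : map (S2 h).g a x = 0 := Subsingleton.elim _ _
  obtain ⟨y, rfl⟩ := (exact₂ hS2 a x).1 hx
  rw [Subsingleton.elim y 0, _root_.map_zero]

include e01 e12 in
/-- `H^0(M1) → H^0(M2) → H^0(M3) → 0` is exact -/
theorem exact_H0 (h01 : Subsingleton (Coh.HH X M0 1)) (h02 : Subsingleton (Coh.HH X M0 2))
    (h11 : Subsingleton (Coh.HH X M1 1)) :
    Function.Exact (mapOver A g 0) (mapOver A h 0) ∧ Function.Surjective (mapOver A h 0) := by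
  have hK := subsingleton_HH_K f g h w01 w12 e01 e12 1 h11 h02
  have hS1 := shortExact_S1 f g h w01 w12 e01 e12
  have hS2 := shortExact_S2 h
  have hg : g = kernel.lift h g w12 ≫ kernel.ι h := (kernel.lift_ι h g w12).symm
  constructor
  · intro x
    constructor
    · intro hx
      obtain ⟨y, rfl⟩ := (exact₂ hS2 0 x).1 hx
      have hy : δ hS1 0 y = 0 := Subsingleton.elim _ _
      obtain ⟨z, rfl⟩ := (exact₃ hS1 0 y).1 hy
      refine ⟨z, ?_⟩
      change map g 0 z = map (kernel.ι h) 0 (map (kernel.lift h g w12) 0 z)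
      rw [← map_comp_apply, ← hg]
    · rintro ⟨z, rfl⟩
      change map h 0 (map g 0 z) = 0
      rw [← map_comp_apply, w12, Groth.Agent.Lib.Helper18.HH.map_zero]
      rfl
  · intro x
    have hx : δ hS2 0 x = 0 := Subsingleton.elim _ _
    exact (exact₃ hS2 0 x).1 hx

end FourTerm

section Shift

variable [HasExt.{u} X.Modules] (F : X.Modules)

/-- the step `Ext^{p+1}(F, X₃) ≃ Ext^{p+2}(F, X₁)` for a short exact sequence with injective
middle term -/
theorem ext_shift {S : ShortComplex X.Modules} (hS : S.ShortExact) [Injective S.X₂] (p : ℕ) :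
    Nonempty (Ext.{u} F S.X₃ (p + 1) ≃ₗ[A] Ext.{u} F S.X₁ (p + 2)) := by
  have h1 : Subsingleton (Ext.{u} F S.X₂ (p + 1)) := Ext.subsingleton_of_injective _ _ _
  have h2 : Subsingleton (Ext.{u} F S.X₂ (p + 2)) := Ext.subsingleton_of_injective _ _ _
  have hb : Function.Bijective (hS.extClass.postcompOfLinear A F (rfl : p + 1 + 1 = p + 2)) := by
    refine LA.bijective_of_exact ((Ext.mk₀ S.g).postcompOfLinear A F (add_zero (p + 1)))
      (hS.extClass.postcompOfLinear A F (rfl : p + 1 + 1 = p + 2))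
      ((Ext.mk₀ S.f).postcompOfLinear A F (add_zero (p + 2))) ?_ ?_
    · intro x
      constructor
      · intro hx
        exact Ext.covariant_sequence_exact₃ F hS x rfl hx
      · rintro ⟨y, rfl⟩
        show (y.comp (Ext.mk₀ S.g) (add_zero (p + 1))).comp hS.extClass rfl = 0
        rw [Ext.comp_assoc_of_second_deg_zero, hS.comp_extClass, Ext.comp_zero]
    · intro x
      constructor
      · intro hx
        exact Ext.covariant_sequence_exact₁ F hS x hx rfl
      · rintro ⟨y, rfl⟩
        show (y.comp hS.extClass rfl).comp (Ext.mk₀ S.f) (add_zero (p + 2)) = 0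
        rw [Ext.comp_assoc_of_third_deg_zero, hS.extClass_comp, Ext.comp_zero]
  exact ⟨LinearEquiv.ofBijective _ hb⟩

end Shift

lemma subsingleton_of_iso' {M N : X.Modules} (e : M ≅ N) (q : ℕ)
    (h : Subsingleton (Coh.HH X M q)) : Subsingleton (Coh.HH X N q) :=
  (isoEquiv e q).symm.toEquiv.subsingleton

section Main

variable [HasExt.{u} X.Modules] [EnoughInjectives X.Modules] (F : X.Modules)
  (E : ℕ → X.Modules ⥤ X.Modules) (hE : DeltaSeq.IsExSeq E) [PreservesFiniteLimits (E 0)]
  [(E 0).Additive]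
  (hI : ∀ I : X.Modules, Injective I → ∀ p : ℕ, Subsingleton (Coh.HH X ((E 0).obj I) (p + 1)))
  (θ : ∀ B : X.Modules, Ext.{u} F B 0 ≃ₗ[A] Coh.HH X ((E 0).obj B) 0)
  (hθ : ∀ {B B' : X.Modules} (f : B ⟶ B') (x : Ext.{u} F B 0),
    θ B' (x.comp (Ext.mk₀ f) (add_zero 0)) = mapOver A ((E 0).map f) 0 (θ B x))

/-- the canonical short exact sequence `0 → N → I → Q → 0` with `I` injective -/
noncomputable abbrev injSC (N : X.Modules) : ShortComplex X.Modules :=
  ShortComplex.mk (Injective.ι N) (cokernel.π (Injective.ι N)) (cokernel.condition _)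

lemma shortExact_injSC (N : X.Modules) : (injSC N).ShortExact :=
  { exact := ShortComplex.exact_of_g_is_cokernel _ (cokernelIsCokernel _)
    mono_f := inferInstanceAs (Mono (Injective.ι N))
    epi_g := inferInstanceAs (Epi (cokernel.π (Injective.ι N))) }

instance injective_injSC (N : X.Modules) : Injective (injSC N).X₂ :=
  inferInstanceAs (Injective (Injective.under N))

include hE in
/-- the four term exact sequence `0 → E⁰N → E⁰I → E⁰Q → E¹N → 0` -/
lemma four_term_data {S : ShortComplex X.Modules} (hS : S.ShortExact) [Injective S.X₂] :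
    ∃ (δ : (E 0).obj S.X₃ ⟶ (E 1).obj S.X₁) (w01 : (E 0).map S.f ≫ (E 0).map S.g = 0)
      (w12 : (E 0).map S.g ≫ δ = 0), Mono ((E 0).map S.f) ∧ Epi δ ∧
      (ShortComplex.mk _ _ w01).Exact ∧ (ShortComplex.mk _ _ w12).Exact := by
  obtain ⟨δ, h1, h2, e1, e2⟩ := hE.ex S hS 0
  have hepi : Epi δ := e2.epi_f ((hE.vanish _ inferInstance 0).eq_of_tgt _ _)
  have w01 : (E 0).map S.f ≫ (E 0).map S.g = 0 := by
    rw [← Functor.map_comp, S.zero, Functor.map_zero]
  have hm : Mono ((E 0).map S.f) := by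
    have := hS.mono_f
    infer_instance
  have hex := (S.map (E 0)).exact_of_f_is_kernel
    (KernelFork.mapIsLimit _ (hS.fIsKernel) (E 0))
  exact ⟨δ, w01, h1, hm, hepi, hex, e1⟩

include hE hI θ hθ in
/-- **linear local-to-global comparison by dimension shifting** -/
theorem ext_equiv_HH_zero (m : ℕ) : ∀ N : X.Modules,
    (∀ a b : ℕ, 0 < a → b < m → Subsingleton (Coh.HH X ((E b).obj N) a)) →
      Nonempty (Ext.{u} F N m ≃ₗ[A] Coh.HH X ((E m).obj N) 0) := by
  induction m with
  | zero => exact fun N _ => ⟨θ N⟩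
  | succ m ih =>
    intro N hN
    have hS := shortExact_injSC N
    obtain ⟨δ, w01, w12, hm, hepi, e01, e12⟩ := four_term_data E hE hS
    cases m with
    | zero =>
      have h11 : Subsingleton (Ext.{u} F (injSC N).X₂ 1) := Ext.subsingleton_of_injective _ _ _
      obtain ⟨hex, hsurj⟩ := exact_H0 A _ _ δ w01 w12 e01 e12 (hN 1 0 one_pos one_pos)
        (hN 2 0 two_pos one_pos) (hI _ inferInstance 0)
      refine LA.coker_equiv ((Ext.mk₀ (injSC N).g).postcompOfLinear A F (add_zero 0))
        (hS.extClass.postcompOfLinear A F (rfl : 0 + 1 = 1))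
        (mapOver A ((E 0).map (injSC N).g) 0) (mapOver A δ 0) ?_ ?_ hex hsurj
        (θ (injSC N).X₂) (θ (injSC N).X₃) ?_
      · intro x
        constructor
        · intro hx
          exact Ext.covariant_sequence_exact₃ F hS x rfl hx
        · rintro ⟨y, rfl⟩
          show (y.comp (Ext.mk₀ (injSC N).g) (add_zero 0)).comp hS.extClass rfl = 0
          rw [Ext.comp_assoc_of_second_deg_zero, hS.comp_extClass, Ext.comp_zero]
      · intro x
        exact Ext.covariant_sequence_exact₁ F hS x (Subsingleton.elim _ _) rfl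
      · intro x
        exact hθ (injSC N).g x
    | succ m =>
      obtain ⟨e1⟩ := ext_shift A F hS m
      have hQ : ∀ a b : ℕ, 0 < a → b < m + 1 →
          Subsingleton (Coh.HH X ((E b).obj (injSC N).X₃) a) := by
        intro a b ha hb
        cases b with
        | zero =>
          obtain ⟨a', rfl⟩ : ∃ a', a = a' + 1 := ⟨a - 1, by omega⟩
          exact subsingleton_HH_M2 _ _ δ w01 w12 e01 e12 (a' + 1) (hI _ inferInstance a')
            (hN (a' + 1 + 1) 0 (by omega) (by omega)) (hN (a' + 1) 1 (by omega) (by omega))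
        | succ b' =>
          obtain ⟨i⟩ := DeltaSeq.shift_iso hE (injSC N) hS inferInstance b'
          have h2 : Subsingleton (Coh.HH X ((E (b' + 2)).obj N) a) := hN a (b' + 2) ha (by omega)
          exact subsingleton_of_iso' i.symm a h2
      obtain ⟨e2⟩ := ih (injSC N).X₃ hQ
      obtain ⟨i⟩ := DeltaSeq.shift_iso hE (injSC N) hS inferInstance m
      have e3 : Coh.HH X ((E (m + 1)).obj (injSC N).X₃) 0 ≃ₗ[A] Coh.HH X ((E (m + 2)).obj N) 0 :=
        isoEquivOver A i 0
      have e1' : Ext.{u} F N (m + 2) ≃ₗ[A] Ext.{u} F (injSC N).X₃ (m + 1) := e1.symm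
      exact ⟨e1'.trans (e2.trans e3)⟩

end Main

end Groth.Agent.Lib.Helper20.LocGlobLin
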