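import Mathlib
import Groth.Agent.Lib.Helper20.LocGlobLin
import Groth.Agent.Lib.Helper20.SheafHomExt
import Groth.Agent.Lib.Helper21.ShHomCoh2

/-!
# `Ext^m(F, N) ≃ₗ[A] H^0(X, ℰxt^m(F, N))` when the lower `ℰxt` sheaves are acyclic (helper20)

`ext_equiv_HH_zero_extSh`: `X` over a commutative ring `A`; if `H^a(X, ℰxt^b(F, N)) = 0` for all
`a > 0`, `b < m`, then `Ext^m(F, N) ≃ₗ[A] H^0(X, ℰxt^m(F, N))` (the `A`-linear form of the
degenerate local-to-global spectral sequence).
-/

set_option autoImplicit false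

universe u

open CategoryTheory Limits Abelian Opposite AlgebraicGeometry

namespace Groth.Agent.Lib.Helper20.LocGlobLin

open Groth.Agent.Lib.Helper18.HH Groth.Agent.Lib.helper27 Groth.Agent.Lib.Helper20.SheafHomExt
  Groth.Agent.Lib.Helper20.SheafHomLin

variable {X : Scheme.{u}} (A : Type u) [CommRing A] [X.Over (Spec (CommRingCat.of A))]

section Theta

variable (F : X.Modules) [DCoh.HasSheafHom F]

/-- `θ'` as an `A`-linear equivalence, `A` any commutative ring -/
noncomputable def θLinR (B : X.Modules) : (F ⟶ B) ≃ₗ[A] Coh.HH X ((DCoh.sheafHom F).obj B) 0 :=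
  LinearEquiv.ofBijective
    { toFun := θ' F B
      map_add' := fun g g' => by
        unfold θ'
        rw [Functor.map_add, Groth.Agent.Lib.Helper18.HH.map_add]
        rfl
      map_smul' := fun a g => by
        unfold θ'
        rw [KLin.smul_def, Functor.map_comp, map_comp_apply]
        have h : (DCoh.sheafHom F).map (Formal.smulMod A F a) =
            Formal.smulMod A ((DCoh.sheafHom F).obj F) a := sheafHom_map_smulModΓ F F _
        rw [h]
        have h2 : map (Formal.smulMod A ((DCoh.sheafHom F).obj F) a) 0 (c₀ F) = a • c₀ F := rfl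
        rw [h2]
        exact (mapOver A ((DCoh.sheafHom F).map g) 0).map_smul a (c₀ F) }
    (θ'_bijective F B)

lemma θLinR_apply (B : X.Modules) (g : F ⟶ B) : θLinR A F B g = θ' F B g := rfl

end Theta

section Inst

variable [HasExt.{u} X.Modules] (F : X.Modules) [ModSite.HasSheafHom (O := X.sheaf) F]
  [HasInjectiveResolutions (ModSite.Mod X.sheaf)]

/-- **the `A`-linear degenerate local-to-global comparison** -/
theorem ext_equiv_HH_zero_extSh (m : ℕ) (N : X.Modules)
    (hN : ∀ a b : ℕ, 0 < a → b < m →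
      Subsingleton (Coh.HH X ((ModSite.extSh (O := X.sheaf) F b).obj N) a)) :
    Nonempty (Ext.{u} F N m ≃ₗ[A] Coh.HH X ((ModSite.extSh (O := X.sheaf) F m).obj N) 0) := by
  have : EnoughInjectives X.Modules :=
    Groth.Agent.Lib.Helper21.ModGroth.enoughInjectives_mod X.ringCatSheaf
  have hExt' : HasExt.{u} (ModSite.Mod X.sheaf) := ‹HasExt.{u} X.Modules›
  have : DCoh.HasSheafHom F := Groth.Agent.Lib.Helper21.TensorMon.isLeftAdjoint_tensL X.sheaf F
  let T : X.Modules ⥤ X.Modules := ModSite.sheafHom (O := X.sheaf) F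
  have hTadd : T.Additive := ModSite.sheafHom_additive (O := X.sheaf) F
  let E : ℕ → X.Modules ⥤ X.Modules := fun b => T.rightDerived b
  have hE : DeltaSeq.IsExSeq E := DeltaSeq.isExSeq_rightDerived T
  have hTlim : PreservesFiniteLimits T := by
    have h1 : PreservesLimitsOfSize.{u, u} T :=
      (ModSite.sheafHomAdj (O := X.sheaf) F).rightAdjoint_preservesLimits
    exact PreservesLimitsOfSize.preservesFiniteLimits.{u, u} _
  let e0 : E 0 ≅ T := T.rightDerivedZeroIsoSelf
  have hE0lim : PreservesFiniteLimits (E 0) := preservesFiniteLimits_of_natIso e0.symm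
  have hE0add : (E 0).Additive := inferInstanceAs (T.rightDerived 0).Additive
  let e : DCoh.sheafHom F ≅ E 0 :=
    Groth.Agent.Lib.helper21.ShHomCoh.dcohSheafHomIso F ≪≫ e0.symm
  have hI : ∀ I : X.Modules, Injective I → ∀ p : ℕ,
      Subsingleton (Coh.HH X ((E 0).obj I) (p + 1)) := by
    intro I hI p
    have : Injective (C := ModSite.Mod X.sheaf) I := hI
    have h3 : Subsingleton (Ext.{u} (ModSite.unit X.sheaf)
        ((ModSite.sheafHom (O := X.sheaf) F).obj I) (p + 1)) :=
      subsingleton_of_forall_eq 0 fun x =>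
        Groth.Agent.Lib.helper21.HomAcyc.ext_flat_sheafHom_eq_zero F I p _
          (Groth.Agent.Lib.helper21.HomAcyc.isFlat_unit X.sheaf) x
    obtain ⟨e4⟩ := Groth.Agent.Lib.helper21.InjAcyc.ext_unit_equiv_H (ModSite.ringSh X.sheaf)
      ((ModSite.sheafHom (O := X.sheaf) F).obj I) (p + 1)
    have h5 : Subsingleton (Coh.HH X (T.obj I) (p + 1)) :=
      (EquivLike.injective e4.symm).subsingleton
    exact subsingleton_of_iso' (e0.app I).symm (p + 1) h5
  let θ : ∀ B : X.Modules, Ext.{u} F B 0 ≃ₗ[A] Coh.HH X ((E 0).obj B) 0 := fun B =>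
    Ext.linearEquiv₀.trans ((θLinR A F B).trans (isoEquivOver A (e.app B) 0))
  have hθ : ∀ {B B' : X.Modules} (f : B ⟶ B') (x : Ext.{u} F B 0),
      θ B' (x.comp (Ext.mk₀ f) (add_zero 0)) = mapOver A ((E 0).map f) 0 (θ B x) := by
    intro B B' f x
    have hx : x = Ext.mk₀ (Ext.homEquiv₀ x) := (Ext.mk₀_homEquiv₀_apply x).symm
    generalize Ext.homEquiv₀ x = g at hx
    subst hx
    have e1 : Ext.homEquiv₀ (Ext.mk₀ (g ≫ f)) = g ≫ f := Ext.homEquiv₀.apply_symm_apply (g ≫ f)
    have e2 : Ext.homEquiv₀ (Ext.mk₀ g) = g := Ext.homEquiv₀.apply_symm_apply g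
    show map (e.hom.app B') 0 (θ' F B' (Ext.homEquiv₀ ((Ext.mk₀ g).comp (Ext.mk₀ f) (add_zero 0)))) =
      map ((E 0).map f) 0 (map (e.hom.app B) 0 (θ' F B (Ext.homEquiv₀ (Ext.mk₀ g))))
    rw [Ext.mk₀_comp_mk₀, e1, e2, θ'_comp, ← map_comp_apply, ← map_comp_apply, e.hom.naturality]
  exact ext_equiv_HH_zero A F E hE hI θ hθ m N hN

end Inst

end Groth.Agent.Lib.Helper20.LocGlobLin
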