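import Mathlib
import Groth.Agent.Lib.Helper20.LocGlobLin2
import Groth.Agent.Lib.Helper11.Bidual3
import Groth.Agent.Lib.Helper21.ShHomCoh3
import Groth.Agent.Lib.Lead.ProjectiveVan

/-!
# `Ext^i(F, G(d)) ≃ₗ[A] H^0(X, ℰxt^i(F, G(d)))` for `d ≫ 0` on projective schemes (helper20)

* `nonempty_extSh_tensor_right_iso`: `ℰxt^b(F, G ⊗ L) ≅ ℰxt^b(F, G) ⊗ L` for `L` finite locally free.
* `exists_ext_twist_linearEquiv`: `X ⊆ P^n_A` closed, `A` Noetherian, `F`, `G` coherent: for `d ≫ 0`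
  `Ext^i(F, G(d)) ≃ₗ[A] H^0(X, ℰxt^i(F, G(d)))` (Hartshorne III.6.9, `A`-linear form).
-/

set_option autoImplicit false

universe u

open CategoryTheory Limits Abelian Opposite AlgebraicGeometry

namespace Groth.Agent.Lib.Helper20.LocGlobLin

open Groth.Agent.Lib.Helper21.TensorW Groth.Agent.Lib.Helper21.TensorAdj
open Groth.Agent.Lib.Helper21.DerivedComm
open Groth.Agent.Lib.helper11.Bidual
open Groth.Agent.Lib.helper21.FLFDual

variable {X : Scheme.{u}}

/-- **`ℰxt^b(F, G ⊗ L) ≅ ℰxt^b(F, G) ⊗ L`** for `L` finite locally free -/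
theorem nonempty_extSh_tensor_right_iso [HasInjectiveResolutions (ModSite.Mod X.sheaf)]
    (F G L : X.Modules) (hL : FlatMod.IsFinLocFree L) (b : ℕ)
    [ModSite.HasSheafHom (O := X.sheaf) F] :
    Nonempty ((ModSite.extSh (O := X.sheaf) F b).obj (CohB1.tensorMod G L) ≅
      CohB1.tensorMod ((ModSite.extSh (O := X.sheaf) F b).obj G) L) := by
  have : PreservesFiniteLimits (tens X.sheaf L) := preservesFiniteLimits_tens hL
  have : PreservesFiniteColimits (tens X.sheaf L) := preservesFiniteColimits_tens _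
  have : (tens X.sheaf L).PreservesInjectiveObjects := preservesInjectiveObjects_tens hL
  let j4 := ((rightDerivedPreIso (tens X.sheaf L) (ModSite.sheafHom (O := X.sheaf) F) b).app G).symm
  let j5 := (rightDerivedIso (tensSheafHomCommIso hL F) b).app G
  let j6 := (rightDerivedPostIso (tens X.sheaf L) (ModSite.sheafHom (O := X.sheaf) F) b).app G
  exact ⟨j4 ≪≫ j5 ≪≫ j6⟩

/-- **`Ext^i(F, G(d)) ≃ₗ[A] H^0(X, ℰxt^i(F, G(d)))` for `d ≫ 0`** -/
theorem exists_ext_twist_linearEquiv (A : Type u) [CommRing A] [IsNoetherianRing A] (n : ℕ)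
    (X : Scheme.{u}) [X.Over (Spec (CommRingCat.of A))] (ι : X ⟶ CohB1.ProjSpace n A)
    [IsClosedImmersion ι] [HasExt.{u} X.Modules] (F G : X.Modules) (hF : Coh.IsCoh F)
    (hG : Coh.IsCoh G) [ModSite.HasSheafHom (O := X.sheaf) F]
    [HasInjectiveResolutions (ModSite.Mod X.sheaf)] (i : ℕ) :
    ∃ d₀ : ℕ, ∀ d : ℕ, d₀ ≤ d →
      Nonempty (Abelian.Ext.{u} F (CohB1.tensorMod G ((Scheme.Modules.pullback ι).obj
          (Twist.twistProjSpace n A (d : ℤ)))) i ≃ₗ[A]
        Coh.HH X ((ModSite.extSh (O := X.sheaf) F i).obj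
          (CohB1.tensorMod G ((Scheme.Modules.pullback ι).obj
            (Twist.twistProjSpace n A (d : ℤ))))) 0) := by
  have hP : IsLocallyNoetherian (CohB1.ProjSpace n A) :=
    Groth.Agent.Lib.Lead.SerreFin.isLocallyNoetherian_projSpace n A
  have hX : IsLocallyNoetherian X := LocallyOfFiniteType.isLocallyNoetherian ι
  have hC : ∀ b : ℕ, Coh.IsCoh ((ModSite.extSh (O := X.sheaf) F b).obj G) :=
    fun b => Groth.Agent.Lib.helper21.ShHomCoh.isCoh_T b X F G hF hG
  have hex := fun b => Groth.Agent.Lib.Lead.ProjectiveVan.serre_vanishing ι _ (hC b)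
  choose D hD using hex
  refine ⟨((Finset.range (i + 1)).sup fun b => (D b).toNat), fun d hd => ?_⟩
  have hL : FlatMod.IsFinLocFree ((Scheme.Modules.pullback ι).obj
      (Twist.twistProjSpace n A (d : ℤ))) :=
    Groth.Agent.Lib.helper16.FLF.isFinLocFree_pullback ι
      (Groth.Agent.Lib.helper16.FLF.isFinLocFree_of_isInvertible
        (Groth.Agent.Lib.helper28.TwistPn.isInvertible n A (d : ℤ)))
  refine ext_equiv_HH_zero_extSh A F i _ (fun a b ha hb => ?_)
  obtain ⟨e⟩ := nonempty_extSh_tensor_right_iso F G _ hL b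
  have hdb : D b ≤ (d : ℤ) := by
    have h1 : (D b).toNat ≤ (Finset.range (i + 1)).sup fun b => (D b).toNat :=
      Finset.le_sup (f := fun b => (D b).toNat) (Finset.mem_range.mpr (by omega))
    have h2 : (D b).toNat ≤ d := h1.trans hd
    omega
  exact subsingleton_of_iso' e.symm a (hD b (d : ℤ) hdb a ha)

end Groth.Agent.Lib.Helper20.LocGlobLin
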