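import Mathlib
import Groth.Agent.Lib.Helper20.GKS2
import Groth.Agent.Lib.Helper20.LocGlobLin3
import Groth.Agent.Lib.Helper28.TwistPn
import Groth.Agent.Lib.Helper20.TwistEquivPn
import Groth.Agent.Lib.Helper21.ShHomCoh3

/-!
# Vanishing of `ℰxt^q(M, -)` on the terms of the Koszul complex (helper20)

* `isZero_extSh_twist`: if `ℰxt^q(M, O(e₀)) = 0` then `ℰxt^q(M, O(e)) = 0` for all `e`.
* `isZero_obj_sigma`: an additive functor killing the summands kills a finite coproduct.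
* `isZero_extSh_CX`: `ℰxt^q(M, CX p) = 0`.
-/

set_option autoImplicit false
universe u

open CategoryTheory CategoryTheory.Limits AlgebraicGeometry Opposite TopologicalSpace

namespace Groth.Agent.Lib.Helper20.GKS

open Groth.Agent.Lib.helper20.ExactLoc

noncomputable section

/-- an additive functor killing the summands kills a finite coproduct -/
lemma isZero_obj_sigma {X : Scheme.{u}} {D : Type*} [Category D] [Preadditive D]
    (G : X.Modules ⥤ D) [G.Additive] {ι : Type} [Fintype ι] [DecidableEq ι] (f : ι → X.Modules)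
    (h : ∀ b, IsZero (G.obj (f b))) : IsZero (G.obj (∐ f)) := by
  rw [IsZero.iff_id_eq_zero, ← G.map_id, ← sum_π_ι f, G.map_sum]
  refine Finset.sum_eq_zero fun b _ => ?_
  rw [G.map_comp, (h b).eq_of_tgt (G.map (Sigma.π f b)) 0, zero_comp]

variable {n : ℕ} {A : Type u} [CommRing A]

local notation "𝒜ₙ" => CohB1.polyGrading n A

variable [HasInjectiveResolutions (ModSite.Mod (Proj (CohB1.polyGrading n A)).sheaf)]

/-- `ℰxt^q(M, O(e₀)) = 0 → ℰxt^q(M, O(e)) = 0` -/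
theorem isZero_extSh_twist (M : (Proj (CohB1.polyGrading n A)).Modules)
    [ModSite.HasSheafHom (O := (Proj (CohB1.polyGrading n A)).sheaf) M] (q : ℕ) (e₀ : ℤ)
    (h : IsZero ((ModSite.extSh (O := (Proj 𝒜ₙ).sheaf) M q).obj (Twist.twist 𝒜ₙ e₀))) (e : ℤ) :
    IsZero ((ModSite.extSh (O := (Proj 𝒜ₙ).sheaf) M q).obj (Twist.twist 𝒜ₙ e)) := by
  have hL : FlatMod.IsFinLocFree (X := Proj 𝒜ₙ) (Twist.twist 𝒜ₙ (e - e₀)) :=
    Groth.Agent.Lib.helper16.FLF.isFinLocFree_of_isInvertible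
      (Groth.Agent.Lib.helper28.TwistPn.isInvertible n A (e - e₀))
  obtain ⟨e1⟩ := Groth.Agent.Lib.Helper20.LocGlobLin.nonempty_extSh_tensor_right_iso
    (X := Proj 𝒜ₙ) M (Twist.twist 𝒜ₙ e₀) (Twist.twist 𝒜ₙ (e - e₀)) hL q
  have e2 : CohB1.tensorMod (X := Proj 𝒜ₙ) (Twist.twist 𝒜ₙ e₀) (Twist.twist 𝒜ₙ (e - e₀)) ≅
      Twist.twist 𝒜ₙ e :=
    Groth.Agent.Lib.helper28.TwistPn.tensorIso n A e₀ (e - e₀) ≪≫
      Groth.Agent.Lib.Helper20.TwistEquivPn.twistCongr n A (by ring)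
  have hz : IsZero (CohB1.tensorMod (X := Proj 𝒜ₙ)
      ((ModSite.extSh (O := (Proj 𝒜ₙ).sheaf) M q).obj (Twist.twist 𝒜ₙ e₀))
      (Twist.twist 𝒜ₙ (e - e₀))) := by
    have := Groth.Agent.Lib.Helper21.FlatSES.additive_tens (O := (Proj 𝒜ₙ).sheaf)
      (Twist.twist 𝒜ₙ (e - e₀))
    exact Functor.map_isZero (Groth.Agent.Lib.Helper21.TensorAdj.tens (Proj 𝒜ₙ).sheaf
      (Twist.twist 𝒜ₙ (e - e₀))) h
  exact (hz.of_iso e1).of_iso ((ModSite.extSh (O := (Proj 𝒜ₙ).sheaf) M q).mapIso e2.symm)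

/-- `ℰxt^q(M, CX p) = 0` if `ℰxt^q(M, O(w)) = 0` -/
theorem isZero_extSh_CX (M : (Proj (CohB1.polyGrading n A)).Modules)
    [ModSite.HasSheafHom (O := (Proj (CohB1.polyGrading n A)).sheaf) M] (q : ℕ) (w : ℤ)
    (h : IsZero ((ModSite.extSh (O := (Proj 𝒜ₙ).sheaf) M q).obj (Twist.twist 𝒜ₙ w)))
    (dg m p : ℕ) :
    IsZero ((ModSite.extSh (O := (Proj 𝒜ₙ).sheaf) M q).obj (CX n A w dg m p)) := by
  have hadd : ((ModSite.sheafHom (O := (Proj 𝒜ₙ).sheaf) M).rightDerived q).Additive :=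
    inferInstance
  exact @isZero_obj_sigma (Proj 𝒜ₙ) _ _ _ (ModSite.extSh (O := (Proj 𝒜ₙ).sheaf) M q) hadd _ _ _ _
    (fun _ => isZero_extSh_twist M q w h _)

end

end Groth.Agent.Lib.Helper20.GKS
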