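import Mathlib
import Groth.Agent.Lib.Lead.ExtShLin
import Groth.Agent.Lib.Helper21.ShHomCoh3
import Groth.Agent.Lib.Helper16.QCohEpi

/-!
# `ℰxt^q(M, f) = 0` for morphisms `f` which locally factor through a function killing `M` (helper20)
-/

set_option autoImplicit false
universe u

open CategoryTheory CategoryTheory.Limits AlgebraicGeometry Opposite TopologicalSpace

namespace Groth.Agent.Lib.Helper20.GKS

open Groth.Agent.Lib.Helper20.SmulHom Scheme.Modules

noncomputable section

variable {P : Scheme.{u}}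

/-- a morphism of modules whose restrictions to the members of an open cover vanish is zero -/
lemma hom_eq_zero_of_restrict {F F' : P.Modules} (g : F ⟶ F') {I : Type*} (U : I → P.Opens)
    (hU : ∀ x : P, ∃ i, x ∈ U i)
    (h : ∀ i, (restrictFunctor (U i).ι).map g = 0) : g = 0 := by
  let 𝔅 : Set P.Opens := {D | ∃ (i : I) (W : (↑(U i) : Scheme.{u}).Opens), D = (U i).ι ''ᵁ W}
  refine Groth.Agent.Lib.helper16.QCohEpi.hom_ext_of_basis g 0 𝔅 ?_ ?_
  · rw [Opens.isBasis_iff_nbhd]
    intro O x hx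
    obtain ⟨i, hi⟩ := hU x
    refine ⟨(U i).ι ''ᵁ ((U i).ι ⁻¹ᵁ O), ⟨i, _, rfl⟩, ?_, ?_⟩
    · rw [Scheme.Hom.image_preimage_eq_opensRange_inf, Scheme.Opens.opensRange_ι]
      exact ⟨hi, hx⟩
    · rw [Scheme.Hom.image_preimage_eq_opensRange_inf]
      exact inf_le_right
  · rintro D ⟨i, W, rfl⟩ s
    have h1 := congrArg (fun φ => (Scheme.Modules.Hom.app φ W).hom s) (h i)
    exact h1

variable (M : P.Modules) [ModSite.HasSheafHom (O := P.sheaf) M]
  [HasInjectiveResolutions (ModSite.Mod P.sheaf)]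

/-- **`ℰxt^q(M, f) = 0`** if `f` locally factors through multiplication by a function killing `M` -/
theorem extSh_map_eq_zero_of_local {F F' : P.Modules} (f : F ⟶ F') (q : ℕ) {I : Type*}
    (U : I → P.Opens) (hU : ∀ x : P, ∃ i, x ∈ U i)
    (h : ∀ i, ∃ (r : Coh.Γtop (↑(U i) : Scheme.{u}))
      (e : (restrictFunctor (U i).ι).obj F ⟶ (restrictFunctor (U i).ι).obj F'),
      (restrictFunctor (U i).ι).map f = smulHom r _ ≫ e ∧
        smulHom r ((restrictFunctor (U i).ι).obj M) = 0) :
    (ModSite.extSh (O := P.sheaf) M q).map f = 0 := by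
  refine hom_eq_zero_of_restrict _ U hU fun i => ?_
  obtain ⟨r, e, hfe, hr⟩ := h i
  haveI := Groth.Agent.Lib.helper21.ShHomCoh.hasInjRes (↑(U i) : Scheme.{u})
  let α := Groth.Agent.Lib.helper21.ShHomCoh.extShRestrIso (U i) M q
  have nat := α.hom.naturality f
  have key : (ModSite.extSh (O := P.sheaf) M q ⋙ restrictFunctor (U i).ι).map f ≫
      α.hom.app F' = 0 := by
    rw [nat, Functor.comp_map, hfe, Functor.map_comp,
      Groth.Agent.Lib.Lead.ExtShLin.extSh_map_smulHom_eq_zero _ _ r hr q]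
    erw [zero_comp]
    exact comp_zero
  have h2 : (ModSite.extSh (O := P.sheaf) M q ⋙ restrictFunctor (U i).ι).map f = 0 := by
    have := congrArg (fun φ => φ ≫ α.inv.app F') key
    simpa using this
  exact h2

end

end Groth.Agent.Lib.Helper20.GKS
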