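import Mathlib
import Groth.Agent.Lib.Helper20.GKS8
import Groth.Agent.Lib.Helper20.GKS1

/-!
# `ℰxt^q(M, g·) = 0` for a form `g` whose dehomogenisations kill `M` (helper20)
-/

set_option autoImplicit false
universe u

open CategoryTheory CategoryTheory.Limits AlgebraicGeometry Opposite TopologicalSpace

namespace Groth.Agent.Lib.Helper20.GKS

open Groth.Agent.Lib.Helper20.SmulHom Scheme.Modules
  Groth.Agent.Lib.helper20.TwistVal Groth.Agent.Lib.Helper20.ProjMulHom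
  Groth.Agent.Lib.helper20.Euler3 Groth.Agent.Lib.helper20.Euler4e

noncomputable section

variable {n : ℕ} {A : Type u} [CommRing A]

local notation "𝒜ₙ" => CohB1.polyGrading n A
local notation "S" => MvPolynomial (Fin (n + 1)) A

/-- the image of an open of the chart is in the chart -/
lemma inChart_image (i : Fin (n + 1)) (W : (↑(U0 n A i) : Scheme.{u}).Opens) :
    InChart i ((U0 n A i).ι ''ᵁ W) := by
  intro x
  have hx : x.1 ∈ U0 n A i := by
    have := (U0 n A i).ι.image_le_opensRange W x.2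
    rwa [Scheme.Opens.opensRange_ι] at this
  exact hU0 i ⟨x.1, hx⟩

/-- `x_i^d` as an element of degree `d` -/
def xpow (i : Fin (n + 1)) (dg : ℕ) : ↥(CohB1.polyGrading n A dg) :=
  ⟨(MvPolynomial.X i : S) ^ dg, X_pow_mem i dg⟩

/-- the function `g / x_i^d` on the chart, as a global function of the open subscheme -/
def gamTop (i : Fin (n + 1)) {dg : ℕ} (g : ↥(CohB1.polyGrading n A dg)) :
    Coh.Γtop (↑(U0 n A i) : Scheme.{u}) :=
  ((U0 n A i).ι.appIso ⊤).hom.hom (gam i ((U0 n A i).ι ''ᵁ ⊤) (inChart_image i ⊤) g)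

lemma appIso_inv_resTop (i : Fin (n + 1)) {dg : ℕ} (g : ↥(CohB1.polyGrading n A dg))
    (W : (↑(U0 n A i) : Scheme.{u}).Opens) :
    ((U0 n A i).ι.appIso W).inv.hom (Coh.resTop (↑(U0 n A i) : Scheme.{u}) (op W) (gamTop i g)) =
      gam i ((U0 n A i).ι ''ᵁ W) (inChart_image i W) g := by
  have nat := (U0 n A i).ι.appIso_inv_naturality (homOfLE (le_top : W ≤ ⊤)).op
  have h1 : ((U0 n A i).ι.appIso W).inv.hom
      (Coh.resTop (↑(U0 n A i) : Scheme.{u}) (op W) (gamTop i g)) =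
      ((Proj 𝒜ₙ).presheaf.map ((U0 n A i).ι.opensFunctor.op.map (homOfLE (le_top : W ≤ ⊤)).op)).hom
        (((U0 n A i).ι.appIso ⊤).inv.hom (gamTop i g)) :=
    congrArg (fun φ => φ.hom (gamTop i g)) nat
  have h2 : ((U0 n A i).ι.appIso ⊤).inv.hom (gamTop i g) =
      gam i ((U0 n A i).ι ''ᵁ ⊤) (inChart_image i ⊤) g :=
    congrArg (fun φ => φ.hom (gam i ((U0 n A i).ι ''ᵁ ⊤) (inChart_image i ⊤) g))
      ((U0 n A i).ι.appIso ⊤).hom_inv_id
  rw [h1, h2]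
  exact gam_res i (inChart_image i ⊤) _ g

/-- on the chart `D₊(X_i)`, multiplication by `g` is `g / x_i^d` times multiplication by `x_i^d` -/
theorem restrict_mulHom_eq (i : Fin (n + 1)) {dg : ℕ} (g : ↥(CohB1.polyGrading n A dg)) {a b : ℤ}
    (h : a + (dg : ℤ) = b) :
    (restrictFunctor (U0 n A i).ι).map (mulHom 𝒜ₙ h g) =
      smulHom (gamTop i g) _ ≫ (restrictFunctor (U0 n A i).ι).map (mulHom 𝒜ₙ h (xpow i dg)) := by
  apply Scheme.Modules.hom_ext
  intro W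
  apply AddCommGrpCat.hom_ext
  apply AddMonoidHom.ext
  intro σ
  let σ' : Γ(Twist.twist 𝒜ₙ a, (U0 n A i).ι ''ᵁ W) := σ
  change ((mulHom 𝒜ₙ h g).app ((U0 n A i).ι ''ᵁ W)).hom σ' =
    ((mulHom 𝒜ₙ h (xpow i dg)).app ((U0 n A i).ι ''ᵁ W)).hom
      ((((U0 n A i).ι.appIso W).inv.hom
        (Coh.resTop (↑(U0 n A i) : Scheme.{u}) (op W) (gamTop i g)) :
          Γ(Proj 𝒜ₙ, (U0 n A i).ι ''ᵁ W)) • σ')
  rw [appIso_inv_resTop]
  apply valO_ext
  intro x
  rw [mulHom_valO, mulHom_valO, valO_smul', valA_gam']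
  have hx := inChart_image i W x
  have h1 : mkOne 𝒜ₙ (xpow i dg).1 x.1 = zp i x.1 hx (dg : ℤ) := by
    rw [zp_natCast, xi_pow_eq]
    rfl
  rw [h1]
  have h2 := zp_neg_mul i x.1 hx (dg : ℤ)
  calc valO 𝒜ₙ σ' x * mkOne 𝒜ₙ g.1 x.1
      = valO 𝒜ₙ σ' x * mkOne 𝒜ₙ g.1 x.1 * (zp i x.1 hx (-(dg : ℤ)) * zp i x.1 hx (dg : ℤ)) := by
        rw [h2, mul_one]
    _ = _ := by ring

/-- `g / x_i^d` kills the restriction of `M` to the chart if it kills the sections of `M` -/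
theorem smulHom_gamTop_eq_zero (M : (Proj 𝒜ₙ).Modules) (i : Fin (n + 1)) {dg : ℕ}
    (g : ↥(CohB1.polyGrading n A dg))
    (hM : ∀ (D : (Proj 𝒜ₙ).Opens) (hD : InChart i D) (τ : Γ(M, D)), gam i D hD g • τ = 0) :
    smulHom (gamTop i g) ((restrictFunctor (U0 n A i).ι).obj M) = 0 := by
  apply Scheme.Modules.hom_ext
  intro W
  apply AddCommGrpCat.hom_ext
  apply AddMonoidHom.ext
  intro τ
  let τ' : Γ(M, (U0 n A i).ι ''ᵁ W) := τ
  change ((((U0 n A i).ι.appIso W).inv.hom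
        (Coh.resTop (↑(U0 n A i) : Scheme.{u}) (op W) (gamTop i g)) :
          Γ(Proj 𝒜ₙ, (U0 n A i).ι ''ᵁ W)) • τ') = 0
  rw [appIso_inv_resTop]
  exact hM _ _ τ'

/-- **`ℰxt^q(M, g·) = 0`** for a form `g` whose dehomogenisations kill `M` -/
theorem extSh_map_mulHom_eq_zero (M : (Proj (CohB1.polyGrading n A)).Modules)
    [ModSite.HasSheafHom (O := (Proj (CohB1.polyGrading n A)).sheaf) M]
    [HasInjectiveResolutions (ModSite.Mod (Proj (CohB1.polyGrading n A)).sheaf)] {dg : ℕ}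
    (g : ↥(CohB1.polyGrading n A dg))
    (hM : ∀ (i : Fin (n + 1)) (D : (Proj 𝒜ₙ).Opens) (hD : InChart i D) (τ : Γ(M, D)),
      gam i D hD g • τ = 0) {a b : ℤ} (h : a + (dg : ℤ) = b) (q : ℕ) :
    (ModSite.extSh (O := (Proj 𝒜ₙ).sheaf) M q).map (mulHom 𝒜ₙ h g) = 0 := by
  refine extSh_map_eq_zero_of_local M (mulHom 𝒜ₙ h g) q (fun i => U0 n A i) ?_ ?_
  · intro x
    obtain ⟨i, hi⟩ := Groth.Agent.Lib.helper28.TwistPn.exists_X_notMem n A x
    exact ⟨i, (Proj.mem_basicOpen 𝒜ₙ _ x).mpr hi⟩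
  · intro i
    exact ⟨gamTop i g, _, restrict_mulHom_eq i g h, smulHom_gamTop_eq_zero M i g (hM i)⟩

end

end Groth.Agent.Lib.Helper20.GKS
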