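import Mathlib
import Groth.Agent.Lib.Helper20.GKS6
import Groth.Agent.Lib.Helper20.GKS9
import Groth.Agent.Lib.Helper20.GKS11
import Groth.Agent.Lib.Helper23.DimShift
import Groth.Agent.Lib.Helper25.StalkPull

/-!
# The Koszul complex computes `ℰxt^c(ι_* O_X, O(w))` (helper20)

`ι : X ⟶ P^n_A` a closed immersion, `g : Fin m → 𝒜ₙ d` forms generating the ideal of `X` on the
charts, `M = ι_* O_X`, and `ℰxt^q(M, O(w)) = 0` for `q < c`.  Then the Koszul complex `KC w g` is
exact in degrees `< c` (`exactAt_KC`) and `H^c(KC w g) ≅ ℰxt^c(M, O(w))` (`nonempty_homology_iso`).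
-/

set_option autoImplicit false
universe u

open CategoryTheory CategoryTheory.Limits AlgebraicGeometry Opposite TopologicalSpace

namespace Groth.Agent.Lib.Helper20.GKS

open Groth.Agent.Lib.helper20.Euler4e Groth.Agent.Lib.helper20.Euler3a
  Groth.Agent.Lib.helper20.ExactLoc Groth.Agent.Lib.Helper20.ProjMulHom

noncomputable section

/-- an additive functor killing the entries of a matrix kills the matrix -/
lemma map_matDesc_eq_zero {Y : Scheme.{u}} {D : Type*} [Category D] [Preadditive D]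
    (G : Y.Modules ⥤ D) [G.Additive] {ι₁ ι₂ : Type} [Fintype ι₁] [DecidableEq ι₁] [Fintype ι₂]
    [DecidableEq ι₂] (f : ι₁ → Y.Modules) (g : ι₂ → Y.Modules)
    (m : ∀ i j, f i ⟶ g j) (h : ∀ i j, G.map (m i j) = 0) : G.map (matDesc f g m) = 0 := by
  have h1 : matDesc f g m = ∑ b : ι₁, Sigma.π f b ≫ ∑ j, m b j ≫ Sigma.ι g j := by
    rw [← Category.id_comp (matDesc f g m), ← sum_π_ι f, Preadditive.sum_comp]
    refine Finset.sum_congr rfl fun b _ => ?_
    rw [Category.assoc]
    unfold matDesc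
    rw [Sigma.ι_desc]
  rw [h1, G.map_sum]
  refine Finset.sum_eq_zero fun b _ => ?_
  rw [G.map_comp, G.map_sum]
  rw [Finset.sum_eq_zero (fun j _ => by rw [G.map_comp, h b j, zero_comp]), Limits.comp_zero]

/-- an additive functor killing the `φ l` kills `∑ l, if c l then z l • φ l else 0` -/
lemma map_sum_ite_zsmul_eq_zero {Y : Scheme.{u}} {D : Type*} [Category D] [Preadditive D]
    (G : Y.Modules ⥤ D) [G.Additive] {M N : Y.Modules} {ι : Type} [Fintype ι] (c : ι → Prop)
    [DecidablePred c] (z : ι → ℤ) (φ : ι → (M ⟶ N)) (h : ∀ l, G.map (φ l) = 0) :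
    G.map (∑ l, if c l then z l • φ l else 0) = 0 := by
  rw [Functor.map_sum]
  refine Finset.sum_eq_zero fun l _ => ?_
  split_ifs
  · rw [Functor.map_zsmul, h l, smul_zero]
  · exact Functor.map_zero _ _ _

variable {n : ℕ} {A : Type u} [CommRing A] {X : Scheme.{u}}
  (ι : X ⟶ Proj (CohB1.polyGrading n A)) [IsClosedImmersion ι]

local notation "𝒜ₙ" => CohB1.polyGrading n A

variable {w : ℤ} {dg m : ℕ} {g : Fin m → ↥(CohB1.polyGrading n A dg)}

variable {ι} in
/-- the dehomogenisations of the `g_j` kill `ι_* O_X` -/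
lemma gam_smul_push_eq_zero (hg : Generates g ι) (j : Fin m) (i : Fin (n + 1))
    (D : (Proj 𝒜ₙ).Opens) (hD : InChart i D)
    (τ : Γ((Scheme.Modules.pushforward ι).obj (Coh.structureModule X), D)) :
    gam i D hD (g j) • τ = 0 := by
  have hle : D ≤ U0 n A i := (inChart_iff_le i D).mp hD
  have h1 : gam i D hD (g j) =
      ((Proj 𝒜ₙ).presheaf.map (homOfLE hle).op).hom (gam i (U0 n A i) (hU0 i) (g j)) :=
    (gam_res i (hU0 i) hle (g j)).symm
  have h2 : gam i (U0 n A i) (hU0 i) (g j) ∈ ι.ker.ideal ⟨U0 n A i, isAffineOpen_U0 i⟩ := by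
    rw [← hg i (U0 n A i) (isAffineOpen_U0 i) (hU0 i)]
    exact Ideal.subset_span ⟨j, rfl⟩
  rw [Scheme.Hom.ker_apply, RingHom.mem_ker] at h2
  have h3 : (ι.app D).hom (gam i D hD (g j)) = 0 := by
    rw [h1]
    have nat := ι.naturality (homOfLE hle).op
    have h4 := congrArg (fun φ => φ.hom (gam i (U0 n A i) (hU0 i) (g j))) nat
    simp only [CommRingCat.hom_comp, RingHom.comp_apply] at h4
    rw [h4, h2, map_zero]
  rw [Groth.Agent.Lib.Helper25.StalkSky.pushforward_smul, h3, zero_smul]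
  rfl

variable [ModSite.HasSheafHom (O := (Proj (CohB1.polyGrading n A)).sheaf)
    ((Scheme.Modules.pushforward ι).obj (Coh.structureModule X))]
  [HasInjectiveResolutions (ModSite.Mod (Proj (CohB1.polyGrading n A)).sheaf)]

/-- `ℰxt^q(ι_* O_X, -)` -/
abbrev TT (q : ℕ) : ModSite.Mod (Proj (CohB1.polyGrading n A)).sheaf ⥤
    ModSite.Mod (Proj (CohB1.polyGrading n A)).sheaf :=
  ModSite.extSh (O := (Proj (CohB1.polyGrading n A)).sheaf)
    ((Scheme.Modules.pushforward ι).obj (Coh.structureModule X)) q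

variable {ι}

/-- the Koszul complex is exact below the grade -/
theorem exactAt_KC (hg : Generates g ι) (c : ℕ)
    (hvan : ∀ q, q < c → IsZero ((TT ι q).obj (Twist.twist 𝒜ₙ w))) :
    ∀ p, p < c → (KC w g).ExactAt p := by
  intro p
  induction p using Nat.strong_induction_on with
  | _ p ih =>
    intro hp
    have hex : ∀ j, j < p → (KC w g).ExactAt j := fun j hj => ih j hj (hj.trans hp)
    obtain ⟨φ, hφ, -⟩ := Groth.Agent.Lib.helper23.DimShift.exists_mono
      (ModSite.sheafHom (O := (Proj 𝒜ₙ).sheaf)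
        ((Scheme.Modules.pushforward ι).obj (Coh.structureModule X))) (KC w g) p c hp.le hex
      (fun q j hq _ _ => isZero_extSh_CX _ q w (hvan q hq) dg m j)
    have hz0 : IsZero ((TT ι p).obj ((KC w g).X 0)) := isZero_extSh_CX _ p w (hvan p hp) dg m 0
    have hz := @IsZero.of_mono _ _ _ _ _ φ hφ hz0
    have : ((KC w g).homology p).IsQuasicoherent :=
      isQuasicoherent_homology' (isQuasicoherent_KC_X g) p
    exact ((KC w g).exactAt_iff_isZero_homology p).2
      (isZero_of_isZero_extSh_zero ι _ (killedBy_homology hg p) hz)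

/-- `ℰxt^q(ι_* O_X, d⁰) = 0` -/
theorem map_d_eq_zero (hg : Generates g ι) (q : ℕ) :
    (TT ι q).map ((KC w g).d 0 1) = 0 := by
  have h0 : (KC w g).d 0 1 = dC w g 0 := KC_d g 0
  rw [h0]
  unfold dC
  have hadd : ((ModSite.sheafHom (O := (Proj 𝒜ₙ).sheaf)
      ((Scheme.Modules.pushforward ι).obj (Coh.structureModule X))).rightDerived q).Additive :=
    inferInstance
  refine @map_matDesc_eq_zero (Proj 𝒜ₙ) _ _ _ (TT ι q) hadd _ _ _ _ _ _ _ _ _ (fun I K => ?_)
  unfold dCoef
  refine @map_sum_ite_zsmul_eq_zero (Proj 𝒜ₙ) _ _ _ (TT ι q) hadd _ _ _ _ _ _ _ _ (fun l => ?_)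
  unfold gHom
  exact extSh_map_mulHom_eq_zero _ (g l) (gam_smul_push_eq_zero hg l) _ q

instance uniqueKIdxZero : Unique (KIdx m 0) where
  default := ⟨∅, (Set.powersetCard.mem_iff).mpr rfl⟩
  uniq x := Subtype.ext (Finset.card_eq_zero.mp ((Set.powersetCard.mem_iff).mp x.2))

variable (n A w dg m) in
/-- the degree `0` term of the Koszul complex is `O(w)` -/
def CXZeroIso : CX n A w dg m 0 ≅ Twist.twist 𝒜ₙ w :=
  coproductUniqueIso (fun _ : KIdx m 0 => ktw n A w dg 0) ≪≫
    Groth.Agent.Lib.Helper20.TwistEquivPn.twistCongr n A (by push_cast; ring)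

/-- **`H^c(KC w g) ≅ ℰxt^c(ι_* O_X, O(w))`** -/
theorem nonempty_homology_iso (hg : Generates g ι) (c : ℕ)
    (hvan : ∀ q, q < c → IsZero ((TT ι q).obj (Twist.twist 𝒜ₙ w))) :
    Nonempty ((KC w g).homology c ≅ (TT ι c).obj (Twist.twist 𝒜ₙ w)) := by
  obtain ⟨φ, -, hφ⟩ := Groth.Agent.Lib.helper23.DimShift.exists_mono
    (ModSite.sheafHom (O := (Proj 𝒜ₙ).sheaf)
      ((Scheme.Modules.pushforward ι).obj (Coh.structureModule X))) (KC w g) c c le_rfl
    (exactAt_KC hg c hvan)
    (fun q j hq _ _ => isZero_extSh_CX _ q w (hvan q hq) dg m j)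
  have hiso := hφ rfl (map_d_eq_zero hg c)
  have : ((KC w g).homology c).IsQuasicoherent :=
    isQuasicoherent_homology' (isQuasicoherent_KC_X g) c
  obtain ⟨e1⟩ := nonempty_extSh_zero_iso ι ((KC w g).homology c) (killedBy_homology hg c)
  exact ⟨e1.symm ≪≫ @asIso _ _ _ _ φ hiso ≪≫ (TT ι c).mapIso (CXZeroIso n A w dg m)⟩

end

end Groth.Agent.Lib.Helper20.GKS
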