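import Mathlib
import Groth.Agent.Lib.Helper20.GKS11

/-!
# Ring-level exactness of the Koszul complex on affine opens of the charts (helper20)

If `KC w g` is exact in degrees `< c` then for every affine open `U` of a chart the ring-level
Koszul complex on `γ = gamF g l U` is exact in degrees `< c` (`ex_of_exactAt`).
-/

set_option autoImplicit false
universe u

open CategoryTheory CategoryTheory.Limits AlgebraicGeometry Opposite TopologicalSpace

namespace Groth.Agent.Lib.Helper20.GKS

open Groth.Agent.Lib.Helper20.GK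

noncomputable section

lemma subsingleton_sections_of_isZero {Y : Scheme.{u}} {M : Y.Modules} (h : IsZero M)
    (V : Y.Opens) : Subsingleton Γ(M, V) := by
  refine ⟨fun a b => ?_⟩
  have h0 : (𝟙 M : M ⟶ M) = 0 := (IsZero.iff_id_eq_zero M).mp h
  have ha : ((𝟙 M : M ⟶ M).app V).hom a = ((0 : M ⟶ M).app V).hom a := by rw [h0]
  have hb : ((𝟙 M : M ⟶ M).app V).hom b = ((0 : M ⟶ M).app V).hom b := by rw [h0]
  have ea : ((𝟙 M : M ⟶ M).app V).hom a = a := rfl
  have eb : ((𝟙 M : M ⟶ M).app V).hom b = b := rfl
  have za : ((0 : M ⟶ M).app V).hom a = 0 := rfl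
  have zb : ((0 : M ⟶ M).app V).hom b = 0 := rfl
  rw [← ea, ← eb, ha, hb, za, zb]

variable {n : ℕ} {A : Type u} [CommRing A]

local notation "𝒜ₙ" => CohB1.polyGrading n A

variable {w : ℤ} {dg m : ℕ} (g : Fin m → ↥(CohB1.polyGrading n A dg))

/-- exactness of the complex of sheaves gives the ring-level exactness on affine opens of charts -/
theorem ex_of_exactAt (c : ℕ) (hex : ∀ p, p < c → (KC w g).ExactAt p) (l : Fin (n + 1))
    (U : (Proj 𝒜ₙ).Opens) (hU : IsAffineOpen U) (hUl : InChart l U) :
    ∀ p, p < c → Ex Finset.univ (gamF g l U hUl) p := by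
  intro p hp
  have hz : IsZero ((KC w g).homology p) := ((KC w g).exactAt_iff_isZero_homology p).1 (hex p hp)
  have hss : Subsingleton Γ((KC w g).homology p, U) := subsingleton_sections_of_isZero hz U
  cases p with
  | zero =>
    refine ex_zero_of_exact (w := w) g l U hUl fun z hz' => ?_
    have hz'' : (((KC w g).d 0 (0 + 1)).app U).hom z = 0 := by rw [KC_d]; exact hz'
    obtain ⟨h, hh⟩ := exists_isClassOf (K := KC w g) z hz''
    rw [Subsingleton.elim h 0] at hh
    exact eq_zero_of_isClassOf_zero (K := KC w g) (isQuasicoherent_KC_X g) hU hh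
  | succ q =>
    refine ex_succ_of_exact (w := w) g l U hUl q fun z hz' => ?_
    have hz'' : (((KC w g).d (q + 1) (q + 1 + 1)).app U).hom z = 0 := by rw [KC_d]; exact hz'
    obtain ⟨h, hh⟩ := exists_isClassOf (K := KC w g) z hz''
    rw [Subsingleton.elim h 0] at hh
    obtain ⟨b, hb⟩ := exists_of_isClassOf_zero_succ (K := KC w g) (isQuasicoherent_KC_X g) hU hh
    refine ⟨b, ?_⟩
    rw [← KC_d]
    exact hb

end

end Groth.Agent.Lib.Helper20.GKS
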