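import Mathlib
import Groth.Agent.Lib.Helper20.GKS1
import Groth.Agent.Lib.Helper20.GK10

/-!
# The volume form on the charts of projective space (helper20)

For an open `U` of the chart `D₊(X_l)` of `P^n`: `vol l U hU : ⋀^n Γ(Ω, U) → Γ(O, U)`, linear and
surjective, with `vol l' = (x_{l'} / x_l)^(n+1) • vol l` and compatible with restriction.
(`vol l = x_l^(n+1) •` the isomorphism `⋀^n Ω ≅ O(-n-1)`.)
-/

set_option autoImplicit false
universe u

open CategoryTheory CategoryTheory.Limits AlgebraicGeometry Opposite TopologicalSpace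

namespace Groth.Agent.Lib.Helper20.GKS

open Groth.Agent.Lib.helper20.TwistVal
  Groth.Agent.Lib.helper28.TwistFree Groth.Agent.Lib.helper28.TwistMul
  Groth.Agent.Lib.Helper20.ProjMulHom Groth.Agent.Lib.helper20.Euler3
  Groth.Agent.Lib.helper20.Euler2 Groth.Agent.Lib.helper20.Euler2b
  Groth.Agent.Lib.helper20.Euler4a Groth.Agent.Lib.helper20.Euler4b
  Groth.Agent.Lib.helper20.Euler3a Groth.Agent.Lib.helper20.EulerAlg
  Groth.Agent.Lib.helper20.Euler4c Groth.Agent.Lib.helper20.Euler4d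
  Groth.Agent.Lib.Helper20.GK

noncomputable section

variable {n : ℕ} {A : Type u} [CommRing A] [QuasiSeparated (fP n A)]

local notation "𝒜ₙ" => CohB1.polyGrading n A
local notation "S" => MvPolynomial (Fin (n + 1)) A
local notation "Ωₙ" => Omega.sheaf (fP n A)

/-- the index `{0..n} \ {l}` -/
def Jl (l : Fin (n + 1)) : Idx n n :=
  ⟨Finset.univ.erase l, Set.powersetCard.mem_iff.mpr (by
    rw [Finset.card_erase_of_mem (Finset.mem_univ l), Finset.card_univ, Fintype.card_fin]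
    rfl)⟩

/-- the volume form in the chart `l` -/
def vol (l : Fin (n + 1)) (U : (Proj 𝒜ₙ).Opens) (hU : InChart l U) :
    ⋀[Γ(Proj 𝒜ₙ, U)]^n Γ(Ωₙ, U) →ₗ[Γ(Proj 𝒜ₙ, U)] Γ(Proj 𝒜ₙ, U) :=
  (sgn l (Finset.univ.erase l) : ℤ) • ((nrm l U hU (-(n : ℤ))) ∘ₗ (cLin (Jl l) U))

lemma valO_cLin_ιMulti {p : ℕ} (I : Idx n p) (U : (Proj 𝒜ₙ).Opens) (ω : Fin p → Γ(Ωₙ, U))
    (x : U) :
    valO 𝒜ₙ (cLin I U (exteriorPower.ιMulti _ p ω)) x = minor (Emat U ω x) I.val := by
  have h := congrFun (vExt_cAll_ιMulti U ω x) I.val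
  rw [vExt_of_card _ x I, comp_cAll] at h
  exact h

lemma valA_vol_ιMulti (l : Fin (n + 1)) (U : (Proj 𝒜ₙ).Opens) (hU : InChart l U)
    (ω : Fin n → Γ(Ωₙ, U)) (x : U) :
    valA (vol l U hU (exteriorPower.ιMulti _ n ω)) x =
      ((sgn l (Finset.univ.erase l) : ℤ) : Twist.Loc 𝒜ₙ x.1) *
        (minor (Emat U ω x) (Finset.univ.erase l) * (xi x.1 l) ^ n) := by
  unfold vol
  rw [LinearMap.smul_apply, LinearMap.comp_apply]
  rw [valA_zsmul, valA_nrm, valO_cLin_ιMulti, neg_neg, zp_natCast]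
  rfl

lemma Emat_res {p : ℕ} {U V : (Proj 𝒜ₙ).Opens} (hVU : V ≤ U) (ω : Fin p → Γ(Ωₙ, U)) (x : V) :
    Emat V (fun b => (Ωₙ).presheaf.map (homOfLE hVU).op (ω b)) x = Emat U ω ⟨x.1, hVU x.2⟩ := by
  funext j b
  exact valO_eps_res j hVU (ω b) x

/-- the volume form commutes with restriction -/
theorem vol_res (l : Fin (n + 1)) {U V : (Proj 𝒜ₙ).Opens} (hU : InChart l U) (hVU : V ≤ U)
    (ω : Fin n → Γ(Ωₙ, U)) :
    vol l V (hU.mono hVU) (exteriorPower.ιMulti _ n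
        (fun b => (Ωₙ).presheaf.map (homOfLE hVU).op (ω b))) =
      (Proj 𝒜ₙ).presheaf.map (homOfLE hVU).op (vol l U hU (exteriorPower.ιMulti _ n ω)) := by
  apply valA_ext
  intro x
  rw [valA_res, valA_vol_ιMulti, valA_vol_ιMulti, Emat_res]

lemma Emat_euler {p : ℕ} (U : (Proj 𝒜ₙ).Opens) (ω : Fin p → Γ(Ωₙ, U)) (x : U) (b : Fin p) :
    ∑ j, xi x.1 j * Emat U ω x j b = 0 := by
  have h := sum_valO_eps U (ω b) x
  refine Eq.trans ?_ h
  refine Finset.sum_congr rfl fun j _ => ?_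
  exact mul_comm _ _

/-- change of chart for the volume form -/
theorem vol_chart (l l' : Fin (n + 1)) (U : (Proj 𝒜ₙ).Opens) (hU : InChart l U)
    (hU' : InChart l' U) :
    vol l' U hU' = rat l' l U hU ^ (n + 1) • vol l U hU := by
  apply exteriorPower.linearMap_ext
  ext ω
  simp only [LinearMap.compAlternatingMap_apply, LinearMap.smul_apply, smul_eq_mul]
  apply valA_ext
  intro x
  rw [valA_mul, valA_pow, valA_rat, valA_vol_ιMulti, valA_vol_ιMulti]
  have hsw := minor_swap (xi x.1) (Emat U ω x) (Emat_euler U ω x) l l'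
  have h1 := xi_mul_eta l x.1 (hU x)
  set s' : Twist.Loc 𝒜ₙ x.1 := ((sgn l' (Finset.univ.erase l') : ℤ) : Twist.Loc 𝒜ₙ x.1)
  set s : Twist.Loc 𝒜ₙ x.1 := ((sgn l (Finset.univ.erase l) : ℤ) : Twist.Loc 𝒜ₙ x.1)
  set M' := minor (Emat U ω x) (Finset.univ.erase l')
  set M := minor (Emat U ω x) (Finset.univ.erase l)
  set a := xi x.1 l
  set a' := xi x.1 l'
  set e := eta l x.1 (hU x)
  calc s' * (M' * a' ^ n) = (s' * M' * a) * e * a' ^ n * (a * e) ^ n := by
        rw [h1, one_pow, mul_one]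
        calc s' * (M' * a' ^ n) = s' * M' * (a * e) * a' ^ n := by rw [h1]; ring
          _ = _ := by ring
    _ = (s * M * a') * e * a' ^ n * (a * e) ^ n := by rw [hsw]
    _ = (a' * e) ^ (n + 1) * (s * (M * a ^ n)) := by ring

/-- the volume form of the coordinate differentials is `±1` -/
lemma vol_omT (l : Fin (n + 1)) (U : (Proj 𝒜ₙ).Opens) (hU : InChart l U) :
    vol l U hU (omT l U hU (Jl l)) = ((sgn l (Finset.univ.erase l) : ℤ) : Γ(Proj 𝒜ₙ, U)) := by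
  apply valA_ext
  intro x
  unfold omT
  rw [valA_vol_ιMulti, valA_intCast]
  have h := vExt_cAll_omT l U hU (Jl l) x (Finset.univ.erase l)
    (Set.powersetCard.mem_iff.mp (Jl l).prop) (Finset.notMem_erase l _)
  unfold omT at h
  rw [vExt_cAll_ιMulti] at h
  rw [h, if_pos (show Finset.univ.erase l = (Jl (n := n) l).val from rfl)]
  have h1 := xi_mul_eta l x.1 (hU x)
  rw [← mul_pow, mul_comm (eta l x.1 (hU x)), h1, one_pow, mul_one]

theorem vol_surjective (l : Fin (n + 1)) (U : (Proj 𝒜ₙ).Opens) (hU : InChart l U) :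
    Function.Surjective (vol l U hU) := by
  intro a
  refine ⟨(((sgn l (Finset.univ.erase l) : ℤ) : Γ(Proj 𝒜ₙ, U)) * a) • omT l U hU (Jl l), ?_⟩
  rw [map_smul, vol_omT, smul_eq_mul]
  have hs : ((sgn l (Finset.univ.erase l) : ℤ) : Γ(Proj 𝒜ₙ, U)) *
      ((sgn l (Finset.univ.erase l) : ℤ) : Γ(Proj 𝒜ₙ, U)) = 1 := by
    rw [← Int.cast_mul, sgn_mul_self, Int.cast_one]
  calc ((sgn l (Finset.univ.erase l) : ℤ) : Γ(Proj 𝒜ₙ, U)) * a *
        ((sgn l (Finset.univ.erase l) : ℤ) : Γ(Proj 𝒜ₙ, U))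
      = a * (((sgn l (Finset.univ.erase l) : ℤ) : Γ(Proj 𝒜ₙ, U)) *
        ((sgn l (Finset.univ.erase l) : ℤ) : Γ(Proj 𝒜ₙ, U))) := by ring
    _ = a := by rw [hs, mul_one]

end

end Groth.Agent.Lib.Helper20.GKS
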