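import Mathlib
import Groth.Agent.Lib.Helper20.GKS4
import Groth.Agent.Lib.Helper20.GKS5
import Groth.Agent.Lib.Helper20.GKS11
import Groth.Agent.Lib.Helper20.GK8
import Groth.Agent.Lib.Helper13.OmegaRes1

/-!
# The local comparison relation between top forms on `X` and Koszul cochains (helper20)

`ι : X ⟶ P^n_A` a closed immersion, `q = ι ≫ (P^n_A → Spec A)`, `U` an affine open of the chart
`D₊(X_l)`.  Ring-level data on `U`: `A_U = Γ(P, U)`, `B_U = Γ(X, ι⁻¹U)` (`BX`), `M = Γ(Ω_P, U)`,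
`N₀ = Γ(Ω_X, ι⁻¹U)` (`NX`), `D = d_P` (`DP`), `res` (`resL`), and for a family of linear
identifications `φ_V : L(V) ≃ ⋀^r Ω_X(V)` the relation `Rel φ l U z ζ` between cochains
`z ∈ Γ(CX c, U)` and sections `ζ ∈ L(ι⁻¹U)`.
-/

set_option autoImplicit false
universe u

open CategoryTheory CategoryTheory.Limits AlgebraicGeometry Opposite TopologicalSpace

namespace Groth.Agent.Lib.Helper20.GKS

open Groth.Agent.Lib.helper20.Euler2 Groth.Agent.Lib.Helper20.GK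

noncomputable section

variable {n : ℕ} {A : Type u} [CommRing A] [QuasiSeparated (fP n A)]
  {X : Scheme.{u}} (ι : X ⟶ Proj (CohB1.polyGrading n A)) [IsClosedImmersion ι]
  (q : X ⟶ Spec (CommRingCat.of A)) [QuasiSeparated q] (hq : ι ≫ fP n A = q)

local notation "𝒜ₙ" => CohB1.polyGrading n A
local notation "Ωₙ" => Omega.sheaf (fP n A)

/-- functions on `ι⁻¹ U`, as an algebra over the functions on `U` -/
abbrev BX (U : (Proj (CohB1.polyGrading n A)).Opens) : Type u := Γ(X, ι ⁻¹ᵁ U)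

scoped instance algBX (U : (Proj (CohB1.polyGrading n A)).Opens) :
    Algebra Γ(Proj 𝒜ₙ, U) (BX ι U) :=
  (ι.app U).hom.toAlgebra

lemma algebraMap_BX (U : (Proj (CohB1.polyGrading n A)).Opens) (a : Γ(Proj 𝒜ₙ, U)) :
    algebraMap Γ(Proj 𝒜ₙ, U) (BX ι U) a = (ι.app U).hom a := rfl

/-- differentials of `X` on `ι⁻¹ U` -/
abbrev NX (U : (Proj (CohB1.polyGrading n A)).Opens) : Type u :=
  Γ(Omega.sheaf q, ι ⁻¹ᵁ U)

scoped instance modNX (U : (Proj (CohB1.polyGrading n A)).Opens) :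
    Module Γ(Proj 𝒜ₙ, U) (NX ι q U) :=
  Module.compHom (NX ι q U) (algebraMap Γ(Proj 𝒜ₙ, U) (BX ι U))

lemma smul_NX (U : (Proj (CohB1.polyGrading n A)).Opens) (a : Γ(Proj 𝒜ₙ, U)) (x : NX ι q U) :
    a • x = algebraMap Γ(Proj 𝒜ₙ, U) (BX ι U) a • x := rfl

scoped instance towerNX (U : (Proj (CohB1.polyGrading n A)).Opens) :
    IsScalarTower Γ(Proj 𝒜ₙ, U) (BX ι U) (NX ι q U) :=
  ⟨fun a b x => by
    rw [smul_NX, Algebra.smul_def, mul_smul]⟩

/-- the differential of `P` on `U` -/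
def DP (U : (Proj (CohB1.polyGrading n A)).Opens) : Γ(Proj 𝒜ₙ, U) →+ Γ(Ωₙ, U) :=
  (OmegaSh.dOmega (fP n A)).app U

lemma DP_mul (U : (Proj (CohB1.polyGrading n A)).Opens) (a b : Γ(Proj 𝒜ₙ, U)) :
    DP U (a * b) = a • DP U b + b • DP U a :=
  Groth.Agent.Lib.helper7.OmegaUniv.der_mul (fP n A) (OmegaSh.dOmega (fP n A)) U a b

lemma DP_res {U V : (Proj (CohB1.polyGrading n A)).Opens} (hVU : V ≤ U) (a : Γ(Proj 𝒜ₙ, U)) :
    DP V ((Proj 𝒜ₙ).presheaf.map (homOfLE hVU).op a) =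
      (Ωₙ).presheaf.map (homOfLE hVU).op (DP U a) :=
  Groth.Agent.Lib.helper7.OmegaUniv.der_map (fP n A) (OmegaSh.dOmega (fP n A)) hVU a

include hq in
lemma exists_resA (U : (Proj (CohB1.polyGrading n A)).Opens) (hU : IsAffineOpen U) :
    ∃ res : Γ(Ωₙ, U) →+ Γ(Omega.sheaf q, ι ⁻¹ᵁ U),
      (∀ (a : Γ(Proj 𝒜ₙ, U)) (ω : Γ(Ωₙ, U)), res (a • ω) = (ι.app U a) • res ω) ∧
      (∀ a : Γ(Proj 𝒜ₙ, U), res ((OmegaSh.dOmega (fP n A)).app U a) =
        (OmegaSh.dOmega q).app (ι ⁻¹ᵁ U) (ι.app U a)) ∧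
      Function.Surjective res ∧
      ∀ ω : Γ(Ωₙ, U), res ω = 0 ↔
        ω ∈ (ι.ker.ideal ⟨U, hU⟩ • ⊤ : Submodule Γ(Proj 𝒜ₙ, U) Γ(Ωₙ, U)) ⊔
          Submodule.span Γ(Proj 𝒜ₙ, U)
            (((OmegaSh.dOmega (fP n A)).app U) '' (ι.ker.ideal ⟨U, hU⟩ : Set Γ(Proj 𝒜ₙ, U))) :=
  Groth.Agent.Lib.helper13.OmegaRes.exists_res_dOmega ι (fP n A) q hq hU
    (isAffineOpen_top (Spec (CommRingCat.of A))) (fun _ _ => trivial)

/-- the restriction of differentials `Γ(Ω_P, U) → Γ(Ω_X, ι⁻¹U)` -/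
def resA (U : (Proj (CohB1.polyGrading n A)).Opens) (hU : IsAffineOpen U) :
    Γ(Ωₙ, U) →+ Γ(Omega.sheaf q, ι ⁻¹ᵁ U) :=
  Classical.choose (exists_resA ι q hq U hU)

lemma resA_smul (U : (Proj (CohB1.polyGrading n A)).Opens) (hU : IsAffineOpen U)
    (a : Γ(Proj 𝒜ₙ, U)) (ω : Γ(Ωₙ, U)) :
    resA ι q hq U hU (a • ω) = (ι.app U a) • resA ι q hq U hU ω :=
  (Classical.choose_spec (exists_resA ι q hq U hU)).1 a ω

lemma resA_d (U : (Proj (CohB1.polyGrading n A)).Opens) (hU : IsAffineOpen U)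
    (a : Γ(Proj 𝒜ₙ, U)) :
    resA ι q hq U hU ((OmegaSh.dOmega (fP n A)).app U a) =
      (OmegaSh.dOmega q).app (ι ⁻¹ᵁ U) (ι.app U a) :=
  (Classical.choose_spec (exists_resA ι q hq U hU)).2.1 a

lemma resA_surjective (U : (Proj (CohB1.polyGrading n A)).Opens) (hU : IsAffineOpen U) :
    Function.Surjective (resA ι q hq U hU) :=
  (Classical.choose_spec (exists_resA ι q hq U hU)).2.2.1

lemma resA_eq_zero_iff (U : (Proj (CohB1.polyGrading n A)).Opens) (hU : IsAffineOpen U)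
    (ω : Γ(Ωₙ, U)) : resA ι q hq U hU ω = 0 ↔
      ω ∈ (ι.ker.ideal ⟨U, hU⟩ • ⊤ : Submodule Γ(Proj 𝒜ₙ, U) Γ(Ωₙ, U)) ⊔
        Submodule.span Γ(Proj 𝒜ₙ, U)
          (((OmegaSh.dOmega (fP n A)).app U) '' (ι.ker.ideal ⟨U, hU⟩ : Set Γ(Proj 𝒜ₙ, U))) :=
  (Classical.choose_spec (exists_resA ι q hq U hU)).2.2.2 ω

/-- `resA` commutes with restriction -/
lemma resA_res {U V : (Proj (CohB1.polyGrading n A)).Opens} (hU : IsAffineOpen U)
    (hV : IsAffineOpen V) (hVU : V ≤ U) (ω : Γ(Ωₙ, U)) :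
    resA ι q hq V hV ((Ωₙ).presheaf.map (homOfLE hVU).op ω) =
      (Omega.sheaf q).presheaf.map
        (homOfLE (show ι ⁻¹ᵁ V ≤ ι ⁻¹ᵁ U from fun _ hx => hVU hx)).op (resA ι q hq U hU ω) :=
  Groth.Agent.Lib.helper13.OmegaRes.res_natural ι (fP n A) q (OmegaSh.dOmega (fP n A))
    (Groth.Agent.Lib.helper7.OmegaUniv.isUniversal_dOmega (fP n A)) (OmegaSh.dOmega q) hU
    (isAffineOpen_top (Spec (CommRingCat.of A))) (fun _ _ => trivial) hVU
    (resA ι q hq U hU) (resA ι q hq V hV) (resA_smul ι q hq U hU) (resA_d ι q hq U hU)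
    (resA_smul ι q hq V hV) (resA_d ι q hq V hV) ω

/-- `resA` as a linear map -/
def resL (U : (Proj (CohB1.polyGrading n A)).Opens) (hU : IsAffineOpen U) :
    Γ(Ωₙ, U) →ₗ[Γ(Proj 𝒜ₙ, U)] NX ι q U where
  toFun ω := (resA ι q hq U hU ω : Γ(Omega.sheaf q, ι ⁻¹ᵁ U))
  map_add' a b := map_add (resA ι q hq U hU) a b
  map_smul' a ω := resA_smul ι q hq U hU a ω

lemma resL_apply (U : (Proj (CohB1.polyGrading n A)).Opens) (hU : IsAffineOpen U) (ω : Γ(Ωₙ, U)) :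
    resL ι q hq U hU ω = (resA ι q hq U hU ω : Γ(Omega.sheaf q, ι ⁻¹ᵁ U)) := rfl

/-! ### The data of `ExtPow.IsExtPow`, in terms of sections -/

section Phi

variable {Y : Scheme.{u}} {E L : Y.Modules} {r : ℕ}

/-- compatibility with restriction of linear identifications `L(V) ≃ ⋀^r E(V)` -/
def PhiCompat (φ : ∀ V : Y.affineOpens, Γ(L, V.1) ≃ₗ[Γ(Y, V.1)] ↥(⋀[Γ(Y, V.1)]^r Γ(E, V.1))) :
    Prop :=
  ∀ (U V : Y.affineOpens) (h : V.1 ≤ U.1) (e : Fin r → Γ(E, U.1)),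
    L.presheaf.map (homOfLE h).op ((φ U).symm (exteriorPower.ιMulti _ r e)) =
      (φ V).symm (exteriorPower.ιMulti _ r (fun j => E.presheaf.map (homOfLE h).op (e j)))

lemma exists_phi (h : ExtPow.IsExtPow r E L) :
    ∃ φ : ∀ V : Y.affineOpens, Γ(L, V.1) ≃ₗ[Γ(Y, V.1)] ↥(⋀[Γ(Y, V.1)]^r Γ(E, V.1)),
      PhiCompat φ := by
  obtain ⟨φ, hφ⟩ := h
  exact ⟨fun V => φ V, fun U V h e => hφ U V h e⟩

lemma phi_res {φ : ∀ V : Y.affineOpens, Γ(L, V.1) ≃ₗ[Γ(Y, V.1)] ↥(⋀[Γ(Y, V.1)]^r Γ(E, V.1))}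
    (hφ : PhiCompat φ) (U' V' : Y.affineOpens) (h : V'.1 ≤ U'.1) {k : ℕ}
    (b : Fin k → Γ(Y, U'.1)) (e : Fin k → Fin r → Γ(E, U'.1)) (ζ : Γ(L, U'.1))
    (hζ : φ U' ζ = ∑ i, b i • exteriorPower.ιMulti _ r (e i)) :
    φ V' (L.presheaf.map (homOfLE h).op ζ) = ∑ i, (Y.presheaf.map (homOfLE h).op).hom (b i) •
      exteriorPower.ιMulti _ r (fun j => E.presheaf.map (homOfLE h).op (e i j)) := by
  have h1 : ζ = ∑ i, b i • (φ U').symm (exteriorPower.ιMulti _ r (e i)) := by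
    rw [← (φ U').symm_apply_apply ζ, hζ, map_sum]
    refine Finset.sum_congr rfl fun i _ => ?_
    exact map_smul _ _ _
  rw [h1, map_sum, map_sum]
  refine Finset.sum_congr rfl fun i _ => ?_
  rw [Scheme.Modules.map_smul, hφ U' V' h (e i), map_smul, LinearEquiv.apply_symm_apply]

end Phi

/-! ### Standing hypotheses of the ring-level theory -/

lemma algebraMap_BX_surjective (U : (Proj (CohB1.polyGrading n A)).Opens) (hU : IsAffineOpen U) :
    Function.Surjective (algebraMap Γ(Proj 𝒜ₙ, U) (BX ι U)) :=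
  ι.app_surjective U hU

lemma ker_algebraMap_BX (U : (Proj (CohB1.polyGrading n A)).Opens) (hU : IsAffineOpen U) :
    RingHom.ker (algebraMap Γ(Proj 𝒜ₙ, U) (BX ι U)) = ι.ker.ideal ⟨U, hU⟩ := by
  rw [Scheme.Hom.ker_apply]
  rfl

lemma resL_surjective (U : (Proj (CohB1.polyGrading n A)).Opens) (hU : IsAffineOpen U) :
    Function.Surjective (resL ι q hq U hU) :=
  resA_surjective ι q hq U hU

lemma resL_ker (U : (Proj (CohB1.polyGrading n A)).Opens) (hU : IsAffineOpen U) (x : Γ(Ωₙ, U))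
    (hx : resL ι q hq U hU x = 0) :
    x ∈ RingHom.ker (algebraMap Γ(Proj 𝒜ₙ, U) (BX ι U)) • (⊤ : Submodule Γ(Proj 𝒜ₙ, U) Γ(Ωₙ, U)) ⊔
      Submodule.span Γ(Proj 𝒜ₙ, U)
        ((DP U) '' (RingHom.ker (algebraMap Γ(Proj 𝒜ₙ, U) (BX ι U)) : Set Γ(Proj 𝒜ₙ, U))) := by
  rw [ker_algebraMap_BX ι U hU]
  exact (resA_eq_zero_iff ι q hq U hU x).mp hx

lemma range_gS {T : Type*} {m c : ℕ} (γ : Fin m → T) (S₀ : Finset (Fin m)) (hS₀ : S₀.card = c) :
    Set.range (gS c γ S₀ hS₀) = γ '' (S₀ : Set (Fin m)) := by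
  have : gS c γ S₀ hS₀ = γ ∘ (S₀.orderEmbOfFin hS₀) := rfl
  rw [this, Set.range_comp, Finset.range_orderEmbOfFin]

variable {w : ℤ} {dg m : ℕ} (g : Fin m → ↥(CohB1.polyGrading n A dg)) (c r : ℕ)
  (hn : c + r = n) {Ω : X.Modules}
  (φ : ∀ V : X.affineOpens, Γ(Ω, V.1) ≃ₗ[Γ(X, V.1)] ↥(⋀[Γ(X, V.1)]^r Γ(Omega.sheaf q, V.1)))

/-- the element of `⋀^r N₀` attached to a section of `Ω` over `ι⁻¹U` -/
def etaOf (U : (Proj (CohB1.polyGrading n A)).Opens) (hU : IsAffineOpen U)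
    (ζ : Γ(Ω, ι ⁻¹ᵁ U)) : ⋀[BX ι U]^r (NX ι q U) :=
  φ ⟨ι ⁻¹ᵁ U, hU.preimage ι⟩ ζ

lemma etaOf_add (U : (Proj (CohB1.polyGrading n A)).Opens) (hU : IsAffineOpen U)
    (ζ ζ' : Γ(Ω, ι ⁻¹ᵁ U)) :
    etaOf ι q r φ U hU (ζ + ζ') = etaOf ι q r φ U hU ζ + etaOf ι q r φ U hU ζ' :=
  map_add (φ ⟨ι ⁻¹ᵁ U, hU.preimage ι⟩) _ _

lemma etaOf_smul (U : (Proj (CohB1.polyGrading n A)).Opens) (hU : IsAffineOpen U)
    (b : Γ(X, ι ⁻¹ᵁ U)) (ζ : Γ(Ω, ι ⁻¹ᵁ U)) :
    etaOf ι q r φ U hU (b • ζ) = (show BX ι U from b) • etaOf ι q r φ U hU ζ :=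
  map_smul (φ ⟨ι ⁻¹ᵁ U, hU.preimage ι⟩) _ _

/-- the cochain `z` and the section `ζ` of `Ω` correspond in the chart `l` -/
def Rel (l : Fin (n + 1)) (U : (Proj (CohB1.polyGrading n A)).Opens) (hU : IsAffineOpen U)
    (hUl : InChart l U) (z : Γ(CX n A w dg m c, U)) (ζ : Γ(Ω, ι ⁻¹ᵁ U)) : Prop :=
  Related (B := BX ι U) (N₀ := NX ι q U) (DP U) (resL ι q hq U hU) c r n hn (vol l U hUl)
    (gamF g l U hUl) (kap l U hUl c z) (etaOf ι q r φ U hU ζ)

variable {ι q hq g c r hn φ}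

lemma Rel.add {l : Fin (n + 1)} {U : (Proj (CohB1.polyGrading n A)).Opens} {hU : IsAffineOpen U}
    {hUl : InChart l U} {z z' : Γ(CX n A w dg m c, U)} {ζ ζ' : Γ(Ω, ι ⁻¹ᵁ U)}
    (h : Rel ι q hq g c r hn φ l U hU hUl z ζ) (h' : Rel ι q hq g c r hn φ l U hU hUl z' ζ') :
    Rel ι q hq g c r hn φ l U hU hUl (z + z') (ζ + ζ') := by
  unfold Rel at h h' ⊢
  rw [etaOf_add]
  have h1 : kap l U hUl c (z + z') = fun S => kap l U hUl c z S + kap l U hUl c z' S :=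
    funext fun S => kap_add l U hUl c z z' S
  rw [h1]
  exact h.add h'

lemma Rel.smul {l : Fin (n + 1)} {U : (Proj (CohB1.polyGrading n A)).Opens} {hU : IsAffineOpen U}
    {hUl : InChart l U} {z : Γ(CX n A w dg m c, U)} {ζ : Γ(Ω, ι ⁻¹ᵁ U)}
    (h : Rel ι q hq g c r hn φ l U hU hUl z ζ) (a : Γ(Proj 𝒜ₙ, U)) :
    Rel ι q hq g c r hn φ l U hU hUl (a • z) ((ι.app U).hom a • ζ) := by
  unfold Rel at h ⊢
  rw [etaOf_smul]
  have h1 : kap l U hUl c (a • z) = fun S => a * kap l U hUl c z S :=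
    funext fun S => kap_smul l U hUl c a z S
  rw [h1]
  exact h.smul a

/-- `U` is good: the ideal of `X` on `U` is generated by `c` of the `γ_j` -/
def Good (ι : X ⟶ Proj (CohB1.polyGrading n A)) [IsClosedImmersion ι]
    (g : Fin m → ↥(CohB1.polyGrading n A dg)) (c : ℕ) (l : Fin (n + 1))
    (U : (Proj (CohB1.polyGrading n A)).Opens) (hU : IsAffineOpen U) (hUl : InChart l U) : Prop :=
  ∃ S₀ : Finset (Fin m), S₀.card = c ∧
    Ideal.span ((gamF g l U hUl) '' (S₀ : Set (Fin m))) = ι.ker.ideal ⟨U, hU⟩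

lemma gamF_mem_ker (hg : Generates g ι) (l : Fin (n + 1))
    (U : (Proj (CohB1.polyGrading n A)).Opens) (hU : IsAffineOpen U) (hUl : InChart l U)
    (j : Fin m) : gamF g l U hUl j ∈ RingHom.ker (algebraMap Γ(Proj 𝒜ₙ, U) (BX ι U)) := by
  rw [ker_algebraMap_BX ι U hU, ← hg l U hU hUl]
  exact Ideal.subset_span ⟨j, rfl⟩

/-- **existence**: on a good open every section of `Ω` is related to a cocycle -/
theorem exists_rel (hg : Generates g ι) {l : Fin (n + 1)}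
    {U : (Proj (CohB1.polyGrading n A)).Opens} {hU : IsAffineOpen U} {hUl : InChart l U}
    (hgood : Good ι g c l U hU hUl) (ζ : Γ(Ω, ι ⁻¹ᵁ U)) :
    ∃ z : Γ(CX n A w dg m c, U), ((dC w g c).app U).hom z = 0 ∧
      Rel ι q hq g c r hn φ l U hU hUl z ζ := by
  obtain ⟨S₀, hS₀, hspan⟩ := hgood
  have hf : Ideal.span (Set.range (gS c (gamF g l U hUl) S₀ hS₀)) =
      RingHom.ker (algebraMap Γ(Proj 𝒜ₙ, U) (BX ι U)) := by
    rw [range_gS, hspan, ker_algebraMap_BX ι U hU]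
  obtain ⟨v, hv1, hv2, hv3⟩ := exists_related (B := BX ι U) (N₀ := NX ι q U) (DP U)
    (resL ι q hq U hU) c r n hn (vol l U hUl) (gamF g l U hUl) (DP_mul U)
    (algebraMap_BX_surjective ι U hU) (resL_surjective ι q hq U hU) S₀ hS₀
    (resL_ker ι q hq U hU) hf (gamF_mem_ker hg l U hU hUl) (etaOf ι q r φ U hU ζ)
  obtain ⟨z, hz⟩ := exists_kap_eq (w := w) (dg := dg) l U hUl c v
  have hz' : kap l U hUl c z = v := by
    funext I
    by_cases hI : I.card = c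
    · exact hz I hI
    · rw [kap_of_card_ne l U hUl c z I hI, hv1 I hI]
  refine ⟨z, ?_, ?_⟩
  · rw [dC_eq_zero_iff g l U hUl c z, hz']
    exact hv2
  · unfold Rel
    rw [hz']
    exact hv3

lemma isClassOf_congr {Y : Scheme.{u}} {K : CochainComplex Y.Modules ℕ} {p : ℕ} {U : Y.Opens}
    {z z' : Γ(K.X p, U)} {h : Γ(K.homology p, U)} (hz : IsClassOf K p U z h) (e : z = z') :
    IsClassOf K p U z' h := e ▸ hz

/-- two cocycles whose normalised components differ by a coboundary have the same class -/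
theorem class_eq_of_cbd {c : ℕ} {l : Fin (n + 1)} {U : (Proj (CohB1.polyGrading n A)).Opens}
    (hUl : InChart l U) {z z' : Γ(CX n A w dg m c, U)} {h h' : Γ((KC w g).homology c, U)}
    (hz : IsClassOf (KC w g) c U z h) (hz' : IsClassOf (KC w g) c U z' h')
    (u : Finset (Fin m) → Γ(Proj 𝒜ₙ, U))
    (hu : ∀ K : Finset (Fin m), K.card = c →
      cbd (gamF g l U hUl) u K = kap l U hUl c z K - kap l U hUl c z' K) : h = h' := by
  have hsub := hz.sub hz'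
  rw [← sub_eq_zero]
  cases c with
  | zero =>
    have hzz : z - z' = 0 := by
      apply kap_injective l U hUl 0
      intro I hI
      rw [kap_sub, kap_zero, ← hu I hI]
      have hI' : I = ∅ := Finset.card_eq_zero.mp hI
      subst hI'
      unfold cbd
      exact Finset.sum_eq_zero fun l _ => by rw [if_neg (Finset.notMem_empty l)]
    exact (isClassOf_congr hsub hzz).unique (isClassOf_zero 0 U)
  | succ p =>
    obtain ⟨b, hb⟩ := exists_kap_eq (w := w) (dg := dg) l U hUl p u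
    have hd : ((dC w g p).app U).hom b = z - z' := by
      rw [eq_dC_iff g l U hUl p (z - z') b]
      intro K hK
      rw [kap_sub, ← hu K hK]
      unfold cbd
      refine Finset.sum_congr rfl fun j _ => ?_
      by_cases hj : j ∈ K
      · rw [if_pos hj, if_pos hj, hb (K.erase j) (by rw [Finset.card_erase_of_mem hj, hK]; rfl)]
      · rw [if_neg hj, if_neg hj]
    have h2 := isClassOf_dC_zero (K := KC w g) (q := p) (U := U) b
    have h3 : (((KC w g).d p (p + 1)).app U).hom b = z - z' := by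
      rw [KC_d]; exact hd
    rw [h3] at h2
    exact hsub.unique h2

/-- **uniqueness**: on a good open, cocycles related to the same section are cohomologous -/
theorem rel_unique (hg : Generates g ι) {l : Fin (n + 1)}
    {U : (Proj (CohB1.polyGrading n A)).Opens} {hU : IsAffineOpen U} {hUl : InChart l U}
    (hgood : Good ι g c l U hU hUl)
    (hex : ∀ p, p < c → Ex Finset.univ (gamF g l U hUl) p)
    {z z' : Γ(CX n A w dg m c, U)} {h h' : Γ((KC w g).homology c, U)} {ζ : Γ(Ω, ι ⁻¹ᵁ U)}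
    (hz : IsClassOf (KC w g) c U z h) (hz' : IsClassOf (KC w g) c U z' h')
    (hr : Rel ι q hq g c r hn φ l U hU hUl z ζ) (hr' : Rel ι q hq g c r hn φ l U hU hUl z' ζ) :
    h = h' := by
  obtain ⟨S₀, hS₀, hspan⟩ := hgood
  have hf : Ideal.span (Set.range (gS c (gamF g l U hUl) S₀ hS₀)) =
      RingHom.ker (algebraMap Γ(Proj 𝒜ₙ, U) (BX ι U)) := by
    rw [range_gS, hspan, ker_algebraMap_BX ι U hU]
  have hc1 : ((dC w g c).app U).hom z = 0 := by
    have := hz.cocycle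
    rwa [KC_d] at this
  have hc2 : ((dC w g c).app U).hom z' = 0 := by
    have := hz'.cocycle
    rwa [KC_d] at this
  obtain ⟨u, hu⟩ := related_unique (B := BX ι U) (N₀ := NX ι q U) (DP U)
    (resL ι q hq U hU) c r n hn (vol l U hUl) (gamF g l U hUl) (DP_mul U)
    (algebraMap_BX_surjective ι U hU) (resL_surjective ι q hq U hU) S₀ hS₀
    (resL_ker ι q hq U hU) hf (gamF_mem_ker hg l U hU hUl) hex
    (kap l U hUl c z) (kap l U hUl c z') (etaOf ι q r φ U hU ζ)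
    ((dC_eq_zero_iff g l U hUl c z).mp hc1) ((dC_eq_zero_iff g l U hUl c z').mp hc2) hr hr'
  exact class_eq_of_cbd hUl hz hz' u hu

end

end Groth.Agent.Lib.Helper20.GKS
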