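import Mathlib
import Groth.Agent.Lib.Helper20.GKS14
import Groth.Agent.Lib.Helper20.GK9

/-!
# The local comparison relation: disjoint opens, change of chart, restriction (helper20)
-/

set_option autoImplicit false
universe u

open CategoryTheory CategoryTheory.Limits AlgebraicGeometry Opposite TopologicalSpace

namespace Groth.Agent.Lib.Helper20.GKS

open Groth.Agent.Lib.helper20.Euler2 Groth.Agent.Lib.Helper20.GK

noncomputable section

/-- over the zero ring everything is related -/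
lemma related_of_subsingleton {A B : Type u} [CommRing A] [CommRing B] [Algebra A B]
    {M N₀ : Type u} [AddCommGroup M] [Module A M] [AddCommGroup N₀] [Module A N₀] [Module B N₀]
    [IsScalarTower A B N₀] [Subsingleton B] (D : A →+ M) (res : M →ₗ[A] N₀) (c r n : ℕ)
    (hn : c + r = n) (ν : ⋀[A]^n M →ₗ[A] A) {m : ℕ} (γ : Fin m → A) (z : Finset (Fin m) → A)
    (η : ⋀[B]^r N₀) : Related D res c r n hn ν γ z η := by
  haveI : Subsingleton (⋀[B]^r N₀) := Module.subsingleton B _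
  exact ⟨0, Fin.elim0, Fin.elim0, Subsingleton.elim _ _, fun S h => Subsingleton.elim _ _⟩

variable {n : ℕ} {A : Type u} [CommRing A] [QuasiSeparated (fP n A)]
  {X : Scheme.{u}} {ι : X ⟶ Proj (CohB1.polyGrading n A)} [IsClosedImmersion ι]
  {q : X ⟶ Spec (CommRingCat.of A)} [QuasiSeparated q] {hq : ι ≫ fP n A = q}

local notation "𝒜ₙ" => CohB1.polyGrading n A
local notation "Ωₙ" => Omega.sheaf (fP n A)

variable {w : ℤ} {dg m : ℕ} {g : Fin m → ↥(CohB1.polyGrading n A dg)} {c r : ℕ}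
  {hn : c + r = n} {Ω : X.Modules}
  {φ : ∀ V : X.affineOpens, (Ω.val.obj (op V.1)) ≃ₗ[Γ(X, V.1)]
    ↥(⋀[Γ(X, V.1)]^r ((Omega.sheaf q).val.obj (op V.1)))}

lemma subsingleton_BX_of_disjoint (U : (Proj (CohB1.polyGrading n A)).Opens)
    (hdis : ι ⁻¹ᵁ U = ⊥) : Subsingleton (BX ι U) := by
  unfold BX
  rw [hdis]
  infer_instance

/-- on an open disjoint from `X` everything is related -/
lemma rel_of_disjoint {l : Fin (n + 1)} {U : (Proj (CohB1.polyGrading n A)).Opens}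
    (hU : IsAffineOpen U) (hUl : InChart l U) (hdis : ι ⁻¹ᵁ U = ⊥)
    (z : Γ(CX n A w dg m c, U)) (ζ : Γ(Ω, ι ⁻¹ᵁ U)) :
    Rel ι q hq g c r hn φ l U hU hUl z ζ := by
  haveI := subsingleton_BX_of_disjoint (ι := ι) U hdis
  exact related_of_subsingleton _ _ _ _ _ _ _ _ _ _

/-- on an open disjoint from `X` the cohomology of the Koszul complex vanishes -/
lemma subsingleton_homology_of_disjoint (hg : Generates g ι) (p : ℕ)
    {U : (Proj (CohB1.polyGrading n A)).Opens} (hU : IsAffineOpen U) (hdis : ι ⁻¹ᵁ U = ⊥) :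
    Subsingleton Γ((KC w g).homology p, U) := by
  haveI := subsingleton_BX_of_disjoint (ι := ι) U hdis
  refine ⟨fun a b => ?_⟩
  have h1 : (1 : Γ(Proj 𝒜ₙ, U)) ∈ ι.ker.ideal ⟨U, hU⟩ := by
    rw [← ker_algebraMap_BX ι U hU, RingHom.mem_ker]
    exact Subsingleton.elim _ _
  have ha := killedBy_homology (w := w) hg p ⟨U, hU⟩ 1 h1 a
  have hb := killedBy_homology (w := w) hg p ⟨U, hU⟩ 1 h1 b
  rw [one_smul] at ha hb
  rw [ha, hb]

/-- **change of chart** (`w = -(n+1)`) -/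
theorem Rel.chart (hg : Generates g ι) (hw : w = -((n + 1 : ℕ) : ℤ)) {l l' : Fin (n + 1)}
    {U : (Proj (CohB1.polyGrading n A)).Opens} {hU : IsAffineOpen U} {hUl : InChart l U}
    (hUl' : InChart l' U) {z : Γ(CX n A w dg m c, U)} {ζ : Γ(Ω, ι ⁻¹ᵁ U)}
    (h : Rel ι q hq g c r hn φ l U hU hUl z ζ) : Rel ι q hq g c r hn φ l' U hU hUl' z ζ := by
  unfold Rel at h ⊢
  have h1 := Related.unit (DP_mul U) (gamF_mem_ker hg l U hU hUl) h (rat l l' U hUl' ^ dg)
    (rat l' l U hUl ^ (n + 1))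
  have e1 : vol l' U hUl' = rat l' l U hUl ^ (n + 1) • vol l U hUl := vol_chart l l' U hUl hUl'
  have e2 : gamF g l' U hUl' = fun j => rat l l' U hUl' ^ dg * gamF g l U hUl j :=
    funext fun j => gamF_chart g l l' U hUl hUl' j
  have e3 : kap l' U hUl' c z = fun S => (rat l l' U hUl' ^ dg) ^ c * rat l' l U hUl ^ (n + 1) *
      kap l U hUl c z S := by
    funext S
    rw [kap_chart l l' U hUl hUl' c (n + 1) hw z S, ← pow_mul, mul_comm dg c]
  rw [e1, e2, e3]
  exact h1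

/-! ### Restriction -/

lemma preimage_le {U V : (Proj (CohB1.polyGrading n A)).Opens} (hVU : V ≤ U) :
    ι ⁻¹ᵁ V ≤ ι ⁻¹ᵁ U := fun _ hx => hVU hx

/-- restriction of functions on `X` -/
def rhoB {U V : (Proj (CohB1.polyGrading n A)).Opens} (hVU : V ≤ U) : BX ι U →+* BX ι V :=
  (X.presheaf.map (homOfLE (preimage_le (ι := ι) hVU)).op).hom

lemma algebraMap_rhoB {U V : (Proj (CohB1.polyGrading n A)).Opens} (hVU : V ≤ U)
    (a : Γ(Proj 𝒜ₙ, U)) :
    algebraMap Γ(Proj 𝒜ₙ, V) (BX ι V) (((Proj 𝒜ₙ).presheaf.map (homOfLE hVU).op).hom a) =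
      rhoB (ι := ι) hVU (algebraMap Γ(Proj 𝒜ₙ, U) (BX ι U) a) := by
  have nat := ι.naturality (homOfLE hVU).op
  have h4 := congrArg (fun ψ => ψ.hom a) nat
  simp only [CommRingCat.hom_comp, RingHom.comp_apply] at h4
  exact h4

/-- restriction of differentials of `X` -/
def rhoN {U V : (Proj (CohB1.polyGrading n A)).Opens} (hVU : V ≤ U) : NX ι q U →+ NX ι q V :=
  ((Omega.sheaf q).presheaf.map (homOfLE (preimage_le (ι := ι) hVU)).op).hom

lemma resL_res {U V : (Proj (CohB1.polyGrading n A)).Opens} (hU : IsAffineOpen U)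
    (hV : IsAffineOpen V) (hVU : V ≤ U) (ω : Γ(Ωₙ, U)) :
    resL ι q hq V hV ((Ωₙ).presheaf.map (homOfLE hVU).op ω) =
      rhoN (ι := ι) (q := q) hVU (resL ι q hq U hU ω) :=
  resA_res ι q hq hU hV hVU ω

lemma etaOf_res (hφ : PhiCompat φ) {U V : (Proj (CohB1.polyGrading n A)).Opens}
    (hU : IsAffineOpen U) (hV : IsAffineOpen V) (hVU : V ≤ U) {k : ℕ} (b : Fin k → BX ι U)
    (e : Fin k → Fin r → NX ι q U) (ζ : Γ(Ω, ι ⁻¹ᵁ U))
    (hζ : etaOf ι q r φ U hU ζ = ∑ i, b i • exteriorPower.ιMulti (BX ι U) r (e i)) :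
    etaOf ι q r φ V hV (Ω.presheaf.map (homOfLE (preimage_le (ι := ι) hVU)).op ζ) =
      ∑ i, rhoB (ι := ι) hVU (b i) •
        exteriorPower.ιMulti (BX ι V) r (fun j => rhoN (ι := ι) (q := q) hVU (e i j)) :=
  phi_res hφ ⟨ι ⁻¹ᵁ U, hU.preimage ι⟩ ⟨ι ⁻¹ᵁ V, hV.preimage ι⟩ (preimage_le (ι := ι) hVU) b e ζ hζ

/-- **restriction** -/
theorem Rel.res (hφ : PhiCompat φ) {l : Fin (n + 1)}
    {U V : (Proj (CohB1.polyGrading n A)).Opens} {hU : IsAffineOpen U} (hV : IsAffineOpen V)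
    {hUl : InChart l U} (hVU : V ≤ U) {z : Γ(CX n A w dg m c, U)} {ζ : Γ(Ω, ι ⁻¹ᵁ U)}
    (h : Rel ι q hq g c r hn φ l U hU hUl z ζ) :
    Rel ι q hq g c r hn φ l V hV (hUl.mono hVU)
      ((CX n A w dg m c).presheaf.map (homOfLE hVU).op z)
      (Ω.presheaf.map (homOfLE (preimage_le (ι := ι) hVU)).op ζ) := by
  unfold Rel at h ⊢
  obtain ⟨k, b, e, hη, h2⟩ := h
  refine ⟨k, fun i => rhoB (ι := ι) hVU (b i),
    fun i j => (Ωₙ).presheaf.map (homOfLE hVU).op (e i j), ?_, ?_⟩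
  · have h3 := etaOf_res hφ hU hV hVU b (fun i j => resL ι q hq U hU (e i j)) ζ hη
    rw [h3]
    refine Finset.sum_congr rfl fun i _ => ?_
    congr 2
    funext j
    exact (resL_res hU hV hVU (e i j)).symm
  · intro S hS
    have h4 := h2 S hS
    have h5 : kap l V (hUl.mono hVU) c ((CX n A w dg m c).presheaf.map (homOfLE hVU).op z) S =
        ((Proj 𝒜ₙ).presheaf.map (homOfLE hVU).op).hom (kap l U hUl c z S) :=
      kap_res l hUl hVU c z S
    rw [h5, algebraMap_rhoB, h4, map_sum]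
    refine Finset.sum_congr rfl fun i _ => ?_
    rw [map_mul, ← algebraMap_rhoB]
    congr 2
    rw [psiR_apply, psiR_apply]
    have h6 := vol_res l hUl hVU
      (fun j => Fin.append (fun t => DP U (gS c (gamF g l U hUl) S hS t)) (e i)
        (Fin.cast hn.symm j))
    rw [← h6]
    congr 2
    funext j
    generalize Fin.cast hn.symm j = j'
    refine Fin.addCases (fun t => ?_) (fun t => ?_) j'
    · rw [Fin.append_left, Fin.append_left, ← DP_res hVU]
      congr 1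
    · rw [Fin.append_right, Fin.append_right]

end

end Groth.Agent.Lib.Helper20.GKS
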