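import Mathlib
import Groth.Agent.Lib.Helper20.GKS15

/-!
# The local comparison relation is bijective on good opens where `Ω_X` is free (helper20)
-/

set_option autoImplicit false
universe u

open CategoryTheory CategoryTheory.Limits AlgebraicGeometry Opposite TopologicalSpace

namespace Groth.Agent.Lib.Helper20.GKS

open Groth.Agent.Lib.helper20.Euler2 Groth.Agent.Lib.Helper20.GK

noncomputable section

variable {n : ℕ} {A : Type u} [CommRing A] [QuasiSeparated (fP n A)]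
  {X : Scheme.{u}} {ι : X ⟶ Proj (CohB1.polyGrading n A)} [IsClosedImmersion ι]
  {q : X ⟶ Spec (CommRingCat.of A)} [QuasiSeparated q] {hq : ι ≫ fP n A = q}

local notation "𝒜ₙ" => CohB1.polyGrading n A
local notation "Ωₙ" => Omega.sheaf (fP n A)

variable {w : ℤ} {dg m : ℕ} {g : Fin m → ↥(CohB1.polyGrading n A dg)} {c r : ℕ}
  {hn : c + r = n} {Ω : X.Modules}
  {φ : ∀ V : X.affineOpens, Γ(Ω, V.1) ≃ₗ[Γ(X, V.1)] ↥(⋀[Γ(X, V.1)]^r Γ(Omega.sheaf q, V.1))}

/-- the descent `Lf` attached to a good open is bijective when `Ω_X` is free of rank `r` -/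
lemma exists_bijective_isDesc {l : Fin (n + 1)} {U : (Proj (CohB1.polyGrading n A)).Opens}
    (hU : IsAffineOpen U) (hUl : InChart l U) (S₀ : Finset (Fin m)) (hS₀ : S₀.card = c)
    (hf : Ideal.span (Set.range (gS c (gamF g l U hUl) S₀ hS₀)) =
      RingHom.ker (algebraMap Γ(Proj 𝒜ₙ, U) (BX ι U)))
    (hfree : Nonempty (Module.Basis (Fin r) Γ(X, ι ⁻¹ᵁ U) Γ(Omega.sheaf q, ι ⁻¹ᵁ U))) :
    ∃ Lf : (⋀[BX ι U]^r (NX ι q U)) →ₗ[BX ι U] BX ι U,
      IsDesc (DP U) (resL ι q hq U hU) c r n hn (vol l U hUl) (gS c (gamF g l U hUl) S₀ hS₀) Lf ∧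
      Function.Bijective Lf := by
  obtain ⟨bN⟩ := hfree
  obtain ⟨Lf, hLf⟩ := exists_isDesc_gen (B := BX ι U) (N₀ := NX ι q U) (DP U)
    (resL ι q hq U hU) c r n hn (vol l U hUl) (DP_mul U) (algebraMap_BX_surjective ι U hU)
    (resL_surjective ι q hq U hU) (resL_ker ι q hq U hU) (gS c (gamF g l U hUl) S₀ hS₀) hf
  refine ⟨Lf, hLf, ?_⟩
  exact isDesc_bijective (B := BX ι U) (N₀ := NX ι q U) (DP U) (resL ι q hq U hU) c r n hn
    (vol l U hUl) (DP_mul U) (algebraMap_BX_surjective ι U hU) (resL_ker ι q hq U hU)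
    (gS c (gamF g l U hUl) S₀ hS₀) hf Lf hLf
    (fun j => Function.surjInv (resL_surjective ι q hq U hU) (bN j)) bN
    (fun j => (Function.surjInv_eq (resL_surjective ι q hq U hU) (bN j)).symm)
    (vol_surjective l U hUl)

/-- **injectivity** -/
theorem rel_injective (hg : Generates g ι) {l : Fin (n + 1)}
    {U : (Proj (CohB1.polyGrading n A)).Opens} {hU : IsAffineOpen U} {hUl : InChart l U}
    (hgood : Good ι g c l U hU hUl)
    (hfree : Nonempty (Module.Basis (Fin r) Γ(X, ι ⁻¹ᵁ U) Γ(Omega.sheaf q, ι ⁻¹ᵁ U)))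
    {z : Γ(CX n A w dg m c, U)} {ζ : Γ(Ω, ι ⁻¹ᵁ U)}
    (hz : IsClassOf (KC w g) c U z 0) (hr : Rel ι q hq g c r hn φ l U hU hUl z ζ) : ζ = 0 := by
  obtain ⟨S₀, hS₀, hspan⟩ := hgood
  have hf : Ideal.span (Set.range (gS c (gamF g l U hUl) S₀ hS₀)) =
      RingHom.ker (algebraMap Γ(Proj 𝒜ₙ, U) (BX ι U)) := by
    rw [range_gS, hspan, ker_algebraMap_BX ι U hU]
  obtain ⟨Lf, hLf, hbij⟩ := exists_bijective_isDesc (hq := hq) (hn := hn) hU hUl S₀ hS₀ hf hfree
  have hu : ∃ u : Finset (Fin m) → Γ(Proj 𝒜ₙ, U), ∀ K : Finset (Fin m), K.card = c →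
      cbd (gamF g l U hUl) u K = kap l U hUl c z K := by
    cases c with
    | zero =>
      have hz0 : z = 0 := eq_zero_of_isClassOf_zero (K := KC w g) (isQuasicoherent_KC_X g) hU hz
      refine ⟨fun _ => 0, fun K _ => ?_⟩
      rw [hz0, kap_zero]
      unfold cbd
      refine Finset.sum_eq_zero fun j _ => ?_
      split_ifs <;> simp
    | succ p =>
      obtain ⟨b, hb⟩ := exists_of_isClassOf_zero_succ (K := KC w g) (isQuasicoherent_KC_X g) hU hz
      refine ⟨kap l U hUl p b, fun K _ => ?_⟩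
      rw [← kap_dC]
      congr 1
      rw [← KC_d]
      exact hb
  obtain ⟨u, hu⟩ := hu
  have hη : etaOf ι q r φ U hU ζ = 0 :=
    related_injective (B := BX ι U) (N₀ := NX ι q U) (DP U)
      (resL ι q hq U hU) c r n hn (vol l U hUl) (gamF g l U hUl) (DP_mul U)
      (algebraMap_BX_surjective ι U hU) (resL_surjective ι q hq U hU) S₀ hS₀ Lf hLf hbij.1
      (gamF_mem_ker hg l U hU hUl) (kap l U hUl c z) (etaOf ι q r φ U hU ζ) hr u hu
  unfold etaOf at hη
  exact (LinearEquiv.map_eq_zero_iff _).mp hη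

/-- **surjectivity** -/
theorem rel_surjective (hg : Generates g ι) {l : Fin (n + 1)}
    {U : (Proj (CohB1.polyGrading n A)).Opens} {hU : IsAffineOpen U} {hUl : InChart l U}
    (hgood : Good ι g c l U hU hUl)
    (hfree : Nonempty (Module.Basis (Fin r) Γ(X, ι ⁻¹ᵁ U) Γ(Omega.sheaf q, ι ⁻¹ᵁ U)))
    (hex : ∀ p, p < c → Ex Finset.univ (gamF g l U hUl) p)
    (h : Γ((KC w g).homology c, U)) :
    ∃ (z : Γ(CX n A w dg m c, U)) (ζ : Γ(Ω, ι ⁻¹ᵁ U)), IsClassOf (KC w g) c U z h ∧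
      Rel ι q hq g c r hn φ l U hU hUl z ζ := by
  obtain ⟨S₀, hS₀, hspan⟩ := hgood
  have hf : Ideal.span (Set.range (gS c (gamF g l U hUl) S₀ hS₀)) =
      RingHom.ker (algebraMap Γ(Proj 𝒜ₙ, U) (BX ι U)) := by
    rw [range_gS, hspan, ker_algebraMap_BX ι U hU]
  obtain ⟨Lf, hLf, hbij⟩ := exists_bijective_isDesc (hq := hq) (hn := hn) hU hUl S₀ hS₀ hf hfree
  obtain ⟨z, hz⟩ := exists_rep (K := KC w g) (isQuasicoherent_KC_X g) hU h
  have hc1 : ((dC w g c).app U).hom z = 0 := by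
    have := hz.cocycle
    rwa [KC_d] at this
  obtain ⟨η, v, hv1, hv2, hv3, u, hu⟩ := related_surjective (B := BX ι U) (N₀ := NX ι q U) (DP U)
    (resL ι q hq U hU) c r n hn (vol l U hUl) (gamF g l U hUl) (DP_mul U)
    (algebraMap_BX_surjective ι U hU) (resL_surjective ι q hq U hU) S₀ hS₀
    (resL_ker ι q hq U hU) hf (gamF_mem_ker hg l U hU hUl) hex Lf hLf hbij.2
    (kap l U hUl c z) ((dC_eq_zero_iff g l U hUl c z).mp hc1)
  obtain ⟨z', hz'⟩ := exists_kap_eq (w := w) (dg := dg) l U hUl c v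
  have hz'' : kap l U hUl c z' = v := by
    funext I
    by_cases hI : I.card = c
    · exact hz' I hI
    · rw [kap_of_card_ne l U hUl c z' I hI, hv1 I hI]
  have hc2 : ((dC w g c).app U).hom z' = 0 := by
    rw [dC_eq_zero_iff g l U hUl c z', hz'']
    exact hv2
  have hc2' : (((KC w g).d c (c + 1)).app U).hom z' = 0 := by rw [KC_d]; exact hc2
  obtain ⟨h', hh'⟩ := exists_isClassOf (K := KC w g) z' hc2'
  have heq : h = h' := class_eq_of_cbd hUl hz hh' u (fun K hK => by rw [hz'']; exact hu K hK)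
  refine ⟨z', (φ ⟨ι ⁻¹ᵁ U, hU.preimage ι⟩).symm η, heq ▸ hh', ?_⟩
  unfold Rel etaOf
  rw [hz'', LinearEquiv.apply_symm_apply]
  exact hv3

end

end Groth.Agent.Lib.Helper20.GKS
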