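import Mathlib
import Groth.Agent.Lib.Helper20.GKS13
import Groth.Agent.Lib.Helper20.GKS16
import Groth.Agent.Lib.Helper28.HomOfBasis

/-!
# The comparison isomorphism `ι_* Ω ≅ H^c(KC (-(n+1)) g)` (helper20)

`ι : X ⟶ P^n_A` a closed immersion, `Ω` an `r`-th exterior power of `Ω_{X/A}`, `g` forms generating
the ideal of `X` on the charts, `c + r = n`, `KC w g` exact in degrees `< c`, and a basis of affine
opens of charts which are either disjoint from `X` or good (the ideal of `X` is generated by `c` of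
the `g_j`) with `Ω_{X/A}` free of rank `r`.  Then `ι_* Ω ≅ H^c(KC (-(n+1)) g)`.
-/

set_option autoImplicit false
universe u

open CategoryTheory CategoryTheory.Limits AlgebraicGeometry Opposite TopologicalSpace

namespace Groth.Agent.Lib.Helper20.GKS

open Groth.Agent.Lib.helper20.Euler2 Groth.Agent.Lib.Helper20.GK

noncomputable section

/-- a morphism of modules bijective on a basis of opens is an isomorphism (helper28) -/
theorem isIso_of_bijective_basis' {Y : Scheme.{u}} {M N : Y.Modules} (ψ : M ⟶ N) {J : Type*}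
    (B : J → Y.Opens) (hB : Opens.IsBasis (Set.range B))
    (h : ∀ i, Function.Bijective (ψ.app (B i))) : IsIso ψ := by
  let ψ' : Groth.Agent.Lib.helper2.ModSec.sheaf M ⟶ Groth.Agent.Lib.helper2.ModSec.sheaf N :=
    ⟨ψ.mapPresheaf⟩
  have hψ : IsIso ψ' := by
    refine TopCat.Sheaf.isIso_iff_isIso_basis (B := B) hB ?_
    intro i
    exact (ConcreteCategory.isIso_iff_bijective _).mpr (h i)
  have h2 : IsIso ((TopCat.Sheaf.forget _ _).map ψ') := inferInstance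
  have h3 : IsIso ((Scheme.Modules.toPresheaf Y).map ψ) := h2
  exact isIso_of_reflects_iso ψ (Scheme.Modules.toPresheaf Y)

variable {n : ℕ} {A : Type u} [CommRing A] [QuasiSeparated (fP n A)]
  {X : Scheme.{u}} {ι : X ⟶ Proj (CohB1.polyGrading n A)} [IsClosedImmersion ι]
  {q : X ⟶ Spec (CommRingCat.of A)} [QuasiSeparated q] {hq : ι ≫ fP n A = q}

local notation "𝒜ₙ" => CohB1.polyGrading n A
local notation "Ωₙ" => Omega.sheaf (fP n A)

variable {w : ℤ} {dg m : ℕ} {g : Fin m → ↥(CohB1.polyGrading n A dg)} {c r : ℕ}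
  {hn : c + r = n} {Ω : X.Modules}
  {φ : ∀ V : X.affineOpens, Γ(Ω, V.1) ≃ₗ[Γ(X, V.1)] ↥(⋀[Γ(X, V.1)]^r Γ(Omega.sheaf q, V.1))}

variable (ι q g c r) in
/-- the index set of the basis: affine opens of charts, disjoint from `X` or good with `Ω_X` free -/
structure BIdx where
  l : Fin (n + 1)
  U : (Proj (CohB1.polyGrading n A)).Opens
  hU : IsAffineOpen U
  hUl : InChart l U
  ok : ι ⁻¹ᵁ U = ⊥ ∨ (Good ι g c l U hU hUl ∧
    Nonempty (Module.Basis (Fin r) Γ(X, ι ⁻¹ᵁ U) Γ(Omega.sheaf q, ι ⁻¹ᵁ U)))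

variable (hq hn φ w) in
/-- the correspondence between sections of `Ω` and cohomology classes -/
def RR (b : BIdx ι q g c r) (ζ : Γ(Ω, ι ⁻¹ᵁ b.U)) (h : Γ((KC w g).homology c, b.U)) : Prop :=
  ∃ z : Γ(CX n A w dg m c, b.U), IsClassOf (KC w g) c b.U z h ∧
    Rel ι q hq g c r hn φ b.l b.U b.hU b.hUl z ζ

lemma subsingleton_sections_of_disjoint (M : X.Modules) (V : X.Opens) (hV : V = ⊥) :
    Subsingleton Γ(M, V) := by
  subst hV
  exact Module.subsingleton Γ(X, (⊥ : X.Opens)) _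

theorem existsUnique_RR (hg : Generates g ι) (hexact : ∀ p, p < c → (KC w g).ExactAt p)
    (b : BIdx ι q g c r) (ζ : Γ(Ω, ι ⁻¹ᵁ b.U)) : ∃! h, RR hq w hn φ b ζ h := by
  rcases b.ok with hdis | ⟨hgood, -⟩
  · haveI := subsingleton_homology_of_disjoint (w := w) hg c b.hU hdis
    exact ⟨0, ⟨0, isClassOf_zero c b.U, rel_of_disjoint b.hU b.hUl hdis 0 ζ⟩,
      fun _ _ => Subsingleton.elim _ _⟩
  · obtain ⟨z, hz1, hz2⟩ := exists_rel (hq := hq) (hn := hn) (φ := φ) hg hgood ζ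
    have hz1' : (((KC w g).d c (c + 1)).app b.U).hom z = 0 := by rw [KC_d]; exact hz1
    obtain ⟨h, hh⟩ := exists_isClassOf (K := KC w g) z hz1'
    refine ⟨h, ⟨z, hh, hz2⟩, ?_⟩
    rintro h' ⟨z', hh', hz2'⟩
    exact rel_unique hg hgood (ex_of_exactAt g c hexact b.l b.U b.hU b.hUl) hh' hh hz2' hz2

variable (hq hn φ w) in
/-- the comparison map on a basic open -/
def thetaFun (hg : Generates g ι) (hexact : ∀ p, p < c → (KC w g).ExactAt p)
    (b : BIdx ι q g c r) (ζ : Γ(Ω, ι ⁻¹ᵁ b.U)) : Γ((KC w g).homology c, b.U) :=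
  Classical.choose (existsUnique_RR (hq := hq) (hn := hn) (φ := φ) hg hexact b ζ).exists

lemma thetaFun_spec (hg : Generates g ι) (hexact : ∀ p, p < c → (KC w g).ExactAt p)
    (b : BIdx ι q g c r) (ζ : Γ(Ω, ι ⁻¹ᵁ b.U)) :
    RR hq w hn φ b ζ (thetaFun hq w hn φ hg hexact b ζ) :=
  Classical.choose_spec (existsUnique_RR (hq := hq) (hn := hn) (φ := φ) hg hexact b ζ).exists

lemma thetaFun_eq (hg : Generates g ι) (hexact : ∀ p, p < c → (KC w g).ExactAt p)
    (b : BIdx ι q g c r) {ζ : Γ(Ω, ι ⁻¹ᵁ b.U)} {h : Γ((KC w g).homology c, b.U)}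
    (hr : RR hq w hn φ b ζ h) : thetaFun hq w hn φ hg hexact b ζ = h :=
  (existsUnique_RR (hq := hq) (hn := hn) (φ := φ) hg hexact b ζ).unique
    (thetaFun_spec hg hexact b ζ) hr

lemma RR.add {b : BIdx ι q g c r} {ζ ζ' : Γ(Ω, ι ⁻¹ᵁ b.U)} {h h' : Γ((KC w g).homology c, b.U)}
    (hr : RR hq w hn φ b ζ h) (hr' : RR hq w hn φ b ζ' h') : RR hq w hn φ b (ζ + ζ') (h + h') := by
  obtain ⟨z, hz1, hz2⟩ := hr
  obtain ⟨z', hz1', hz2'⟩ := hr'
  exact ⟨z + z', hz1.add hz1', hz2.add hz2'⟩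

lemma RR.smul {b : BIdx ι q g c r} {ζ : Γ(Ω, ι ⁻¹ᵁ b.U)} {h : Γ((KC w g).homology c, b.U)}
    (hr : RR hq w hn φ b ζ h) (a : Γ(Proj 𝒜ₙ, b.U)) :
    RR hq w hn φ b ((ι.app b.U).hom a • ζ) (a • h) := by
  obtain ⟨z, hz1, hz2⟩ := hr
  exact ⟨a • z, hz1.smul a, hz2.smul a⟩

/-- the comparison map on a basic open, as an additive map -/
def thetaHom (hg : Generates g ι) (hexact : ∀ p, p < c → (KC w g).ExactAt p)
    (hq : ι ≫ fP n A = q) (hn : c + r = n)
    (φ : ∀ V : X.affineOpens, Γ(Ω, V.1) ≃ₗ[Γ(X, V.1)] ↥(⋀[Γ(X, V.1)]^r Γ(Omega.sheaf q, V.1)))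
    (b : BIdx ι q g c r) :
    Γ((Scheme.Modules.pushforward ι).obj Ω, b.U) →+ Γ((KC w g).homology c, b.U) where
  toFun ζ := thetaFun hq w hn φ hg hexact b ζ
  map_zero' := by
    have h0 : RR hq w hn φ b 0 0 := by
      have := (thetaFun_spec (hq := hq) (hn := hn) (φ := φ) hg hexact b 0).smul 0
      rwa [map_zero, zero_smul, zero_smul] at this
    exact thetaFun_eq hg hexact b h0
  map_add' ζ ζ' :=
    thetaFun_eq hg hexact b ((thetaFun_spec hg hexact b ζ).add (thetaFun_spec hg hexact b ζ'))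

/-- **the comparison isomorphism** -/
theorem nonempty_push_iso (hw : w = -((n + 1 : ℕ) : ℤ)) (hg : Generates g ι)
    (hexact : ∀ p, p < c → (KC w g).ExactAt p) (hq : ι ≫ fP n A = q) (hn : c + r = n)
    (φ : ∀ V : X.affineOpens, Γ(Ω, V.1) ≃ₗ[Γ(X, V.1)] ↥(⋀[Γ(X, V.1)]^r Γ(Omega.sheaf q, V.1)))
    (hφ : PhiCompat φ)
    (hbas : ∀ (x : Proj 𝒜ₙ) (W : (Proj 𝒜ₙ).Opens), x ∈ W →
      ∃ b : BIdx ι q g c r, x ∈ b.U ∧ b.U ≤ W) :
    Nonempty ((Scheme.Modules.pushforward ι).obj Ω ≅ (KC w g).homology c) := by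
  have hB : Opens.IsBasis (Set.range (fun b : BIdx ι q g c r => b.U)) := by
    rw [Opens.isBasis_iff_nbhd]
    intro W x hx
    obtain ⟨b, hxb, hbW⟩ := hbas x W hx
    exact ⟨b.U, ⟨b, rfl⟩, hxb, hbW⟩
  have hnat : ∀ (b' b : BIdx ι q g c r) (hle : b'.U ≤ b.U)
      (ζ : Γ((Scheme.Modules.pushforward ι).obj Ω, b.U)),
      thetaHom hg hexact hq hn φ b'
        (((Scheme.Modules.pushforward ι).obj Ω).presheaf.map (homOfLE hle).op ζ) =
      ((KC w g).homology c).presheaf.map (homOfLE hle).op (thetaHom hg hexact hq hn φ b ζ) := by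
    intro b' b hle ζ
    change thetaFun hq w hn φ hg hexact b' _ = _
    apply thetaFun_eq
    obtain ⟨z, hz1, hz2⟩ := thetaFun_spec (hq := hq) (hn := hn) (φ := φ) hg hexact b ζ
    refine ⟨(CX n A w dg m c).presheaf.map (homOfLE hle).op z, hz1.res hle, ?_⟩
    exact (hz2.res hφ b'.hU hle).chart hg hw b'.hUl
  have hlin : ∀ (b : BIdx ι q g c r) (a : Γ(Proj 𝒜ₙ, b.U))
      (ζ : Γ((Scheme.Modules.pushforward ι).obj Ω, b.U)),
      thetaHom hg hexact hq hn φ b (a • ζ) = a • thetaHom hg hexact hq hn φ b ζ := by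
    intro b a ζ
    change thetaFun hq w hn φ hg hexact b _ = _
    apply thetaFun_eq
    exact (thetaFun_spec hg hexact b ζ).smul a
  obtain ⟨θ, hθ⟩ := Groth.Agent.Lib.helper28.HomOfBasis.exists_hom_of_basis
    (F := (Scheme.Modules.pushforward ι).obj Ω) (G := (KC w g).homology c)
    (fun b : BIdx ι q g c r => b.U) hB (thetaHom hg hexact hq hn φ) hnat hlin
  have hiso : IsIso θ := by
    refine isIso_of_bijective_basis' θ (fun b : BIdx ι q g c r => b.U) hB fun b => ?_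
    have hθb : ∀ ζ : Γ((Scheme.Modules.pushforward ι).obj Ω, b.U),
        θ.app b.U ζ = thetaFun hq w hn φ hg hexact b ζ := fun ζ => hθ b ζ
    rcases b.ok with hdis | ⟨hgood, hfree⟩
    · have := subsingleton_homology_of_disjoint (w := w) hg c b.hU hdis
      have : Subsingleton Γ((Scheme.Modules.pushforward ι).obj Ω, b.U) :=
        subsingleton_sections_of_disjoint Ω (ι ⁻¹ᵁ b.U) hdis
      exact ⟨fun _ _ _ => Subsingleton.elim _ _, fun y => ⟨0, Subsingleton.elim _ _⟩⟩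
    · constructor
      · rw [injective_iff_map_eq_zero]
        intro ζ hζ
        rw [hθb] at hζ
        obtain ⟨z, hz1, hz2⟩ := thetaFun_spec (hq := hq) (hn := hn) (φ := φ) hg hexact b ζ
        rw [hζ] at hz1
        exact rel_injective hg hgood hfree hz1 hz2
      · intro h
        obtain ⟨z, ζ, hz1, hz2⟩ := rel_surjective (hq := hq) (hn := hn) (φ := φ) hg hgood hfree
          (ex_of_exactAt g c hexact b.l b.U b.hU b.hUl) h
        exact ⟨ζ, (hθb ζ).trans (thetaFun_eq hg hexact b ⟨z, hz1, hz2⟩)⟩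
  exact ⟨asIso θ⟩

end

end Groth.Agent.Lib.Helper20.GKS
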