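import Mathlib
import Groth.Agent.Lib.Helper20.LinRes
import Groth.Agent.Lib.Helper27.AffStratVan7
import Groth.Agent.Lib.Helper18.Punctual
import Groth.Agent.Lib.Lead.VBCurve3
import Groth.Agent.Lib.Helper8.PushSupp
import Groth.Agent.S0020

/-!
# The Gruson–Lazarsfeld–Peskine regularity lemma for complexes on `P^n_k` (helper20)

* abelian-category preliminaries: `imgToKer f g w : image f ⟶ kernel g`, its cokernel is the homology;
* `subsingleton_HH_twist_of_support_dim_le_one`: a coherent module on `P^n_k` with support of dimension `≤ 1` has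
  no cohomology in degrees `≥ 2`, after any twist;
* `image_vanish`: the descending induction.
-/

set_option autoImplicit false
universe u

open CategoryTheory CategoryTheory.Limits AlgebraicGeometry Opposite TopologicalSpace

namespace Groth.Agent.Lib.helper20.GLP

section abelian

variable {C : Type*} [Category C] [Abelian C] {A B D : C} (f : A ⟶ B) (g : B ⟶ D) (w : f ≫ g = 0)

include w in
lemma image_ι_comp : Abelian.image.ι f ≫ g = 0 := by
  rw [← cancel_epi (Abelian.factorThruImage f), ← Category.assoc, Abelian.image.fac, w, comp_zero]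

/-- the inclusion of the image of `f` in the kernel of `g` -/
noncomputable def imgToKer : Abelian.image f ⟶ kernel g :=
  kernel.lift g (Abelian.image.ι f) (image_ι_comp f g w)

@[reassoc (attr := simp)]
lemma imgToKer_ι : imgToKer f g w ≫ kernel.ι g = Abelian.image.ι f := kernel.lift_ι _ _ _

instance : Mono (imgToKer f g w) := mono_of_mono_fac (imgToKer_ι f g w)

lemma factor_imgToKer : Abelian.factorThruImage f ≫ imgToKer f g w = kernel.lift g f w := by
  apply (cancel_mono (kernel.ι g)).1
  simp

/-- the cokernel of `image f ⟶ kernel g` is the homology -/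
noncomputable def cokerIso : cokernel (imgToKer f g w) ≅ (ShortComplex.mk f g w).homology :=
  (cokernelEpiComp (Abelian.factorThruImage f) (imgToKer f g w)).symm ≪≫
    cokernelIsoOfEq (factor_imgToKer f g w) ≪≫
      ((ShortComplex.mk f g w).homologyIsoCokernelLift).symm

/-- `0 → image f → kernel g → H → 0` -/
theorem shortExact_imgToKer :
    (ShortComplex.mk (imgToKer f g w) (cokernel.π (imgToKer f g w))
      (cokernel.condition _)).ShortExact :=
  { exact := ShortComplex.exact_of_g_is_cokernel _ (cokernelIsCokernel _)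
    mono_f := inferInstanceAs (Mono (imgToKer f g w))
    epi_g := inferInstanceAs (Epi (cokernel.π (imgToKer f g w))) }

/-- `0 → image f → B → coker f → 0` -/
theorem shortExact_image_cokernel :
    (ShortComplex.mk (Abelian.image.ι f) (cokernel.π f) (kernel.condition _)).ShortExact :=
  { exact := ShortComplex.exact_of_f_is_kernel _ (kernelIsKernel _)
    mono_f := inferInstanceAs (Mono (Abelian.image.ι f))
    epi_g := inferInstanceAs (Epi (cokernel.π f)) }

lemma isZero_image_of_isZero (hA : IsZero A) : IsZero (Abelian.image f) := by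
  rw [IsZero.iff_id_eq_zero, ← cancel_epi (Abelian.factorThruImage f)]
  exact hA.eq_of_src _ _

end abelian

section Pn

open Groth.Agent.Lib.Helper20.TwistEquivPn Groth.Agent.Lib.Helper20.TensorEquiv
  Groth.Agent.Lib.helper20.CMReg Groth.Agent.Lib.helper20.LinRes
  Groth.Agent.Lib.helper27.AffStratVan Groth.Agent.Lib.Helper18.HH

variable {k : Type u} [Field k] {n : ℕ}

/-- a coherent module on `P^n_k` with support of dimension `≤ 1` has no cohomology in degrees `≥ 2`, after any
twist -/
theorem subsingleton_HH_twist_of_support_dim_le_one {H : (CohB1.ProjSpace n k).Modules}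
    (hH : Coh.IsCoh H) (hdim : topologicalKrullDim (CohB1.support H) ≤ 1) (m : ℤ) (j : ℕ)
    (hj : 2 ≤ j) :
    Subsingleton (Coh.HH (CohB1.ProjSpace n k)
      (CohB1.tensorMod H (Twist.twistProjSpace n k m)) j) := by
  have hcl : IsClosed (CohB1.support H) := Groth.Agent.S0020.result _ H hH.2
  let U₀ : (CohB1.ProjSpace n k).Opens := ⟨(CohB1.support H)ᶜ, hcl.isOpen_compl⟩
  have : IsLocallyNoetherian (CohB1.ProjSpace n k) :=
    Groth.Agent.Lib.Lead.SerreFin.isLocallyNoetherian_projSpace n k
  have : IsNoetherian (CohB1.ProjSpace n k) := {}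
  have hU₀c : IsCompact (U₀ : Set (CohB1.ProjSpace n k)) := NoetherianSpace.isCompact _
  have hd : topologicalKrullDim ↥((U₀ : Set (CohB1.ProjSpace n k))ᶜ) ≤ ((1 : ℕ) : WithBot ℕ∞) := by
    have e : ((U₀ : Set (CohB1.ProjSpace n k))ᶜ) = CohB1.support H := compl_compl _
    rw [e]
    exact_mod_cast hdim
  have hvan : VanOn U₀ H := fun W hW =>
    Groth.Agent.Lib.Lead.VBCurve.subsingleton_sections_of_stalks H W (fun x hx => by
      have hx' : x ∈ (CohB1.support H)ᶜ := hW hx
      simpa [CohB1.support] using hx')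
  have hvanT : VanOn U₀ (CohB1.tensorMod H (Twist.twistProjSpace n k m)) := fun W hW =>
    Groth.Agent.Lib.Helper18.Punctual.subsingleton_sections_tensor H _ W
      (fun P hP => hvan P (hP.trans hW))
  have hq : (CohB1.tensorMod H (Twist.twistProjSpace n k m)).IsQuasicoherent := by
    have : H.IsQuasicoherent := hH.1
    exact Groth.Agent.Lib.helper2.TensorQCoh.isQuasicoherent_tensorMod _ _
  exact subsingleton_HH_of_vanOn_of_dim_le U₀ hU₀c 1 hd _ hq hvanT j (by omega)

lemma isCoh_image {F G : (CohB1.ProjSpace n k).Modules} (hF : Coh.IsCoh F) (hG : Coh.IsCoh G)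
    (φ : F ⟶ G) : Coh.IsCoh (Abelian.image φ) := by
  have : IsLocallyNoetherian (CohB1.ProjSpace n k) :=
    Groth.Agent.Lib.Lead.SerreFin.isLocallyNoetherian_projSpace n k
  exact Groth.Agent.Lib.helper7.CohKer.isCoh_kernel hG
    (Groth.Agent.Lib.helper7.CohKer.isCoh_cokernel hF hG φ) (cokernel.π φ)

lemma isCoh_kernel' {F G : (CohB1.ProjSpace n k).Modules} (hF : Coh.IsCoh F) (hG : Coh.IsCoh G)
    (φ : F ⟶ G) : Coh.IsCoh (kernel φ) := by
  have : IsLocallyNoetherian (CohB1.ProjSpace n k) :=
    Groth.Agent.Lib.Lead.SerreFin.isLocallyNoetherian_projSpace n k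
  exact Groth.Agent.Lib.helper7.CohKer.isCoh_kernel hF hG φ

variable (E : ChainComplex ((CohB1.ProjSpace n k).Modules) ℕ)

/-- the homology in positive degree as the cokernel of `image ⟶ kernel` -/
noncomputable def homologyIso (i : ℕ) :
    cokernel (imgToKer (E.d (i + 2) (i + 1)) (E.d (i + 1) i) (E.d_comp_d _ _ _)) ≅
      E.homology (i + 1) :=
  cokerIso (E.d (i + 2) (i + 1)) (E.d (i + 1) i) (E.d_comp_d _ _ _) ≪≫
    (E.homologyIsoSc' (i + 2) (i + 1) i (by simp) (by simp)).symm

/-- the descending induction: the image of `E_{i+1} → E_i` is `(d + i + 1)`-regular -/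
theorem image_vanish (t : ℕ) (hbdd : ∀ s : ℕ, t < s → IsZero (E.X s))
    (hcoh : ∀ s : ℕ, Coh.IsCoh (E.X s)) (d : ℤ)
    (hreg : ∀ s : ℕ, Curv2.IsMRegular k n (E.X s) (d + s))
    (hsupp : ∀ i : ℕ, 0 < i → topologicalKrullDim (CohB1.support (E.homology i)) ≤ 1) :
    ∀ (i j : ℕ), 1 ≤ j → ∀ m : ℤ, m = d + i + 1 - j →
      Subsingleton (Coh.HH (CohB1.ProjSpace n k)
        (CohB1.tensorMod (Abelian.image (E.d (i + 1) i)) (Twist.twistProjSpace n k m)) j) := by
  suffices H : ∀ (c i : ℕ), t ≤ i + c → ∀ j : ℕ, 1 ≤ j → ∀ m : ℤ, m = d + i + 1 - j →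
      Subsingleton (Coh.HH (CohB1.ProjSpace n k)
        (CohB1.tensorMod (Abelian.image (E.d (i + 1) i)) (Twist.twistProjSpace n k m)) j) from
    fun i => H t i (by omega)
  intro c
  induction c with
  | zero =>
    intro i hi j hj m hm
    have hz : IsZero (Abelian.image (E.d (i + 1) i)) :=
      isZero_image_of_isZero _ (hbdd (i + 1) (by omega))
    exact Groth.Agent.Lib.helper20.KosChase.subsingleton_HH_of_isZero
      (Groth.Agent.Lib.Helper18.Punctual.isZero_tensorMod_left hz _) j
  | succ c ih =>
    intro i hi j hj m hm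
    have IH := ih (i + 1) (by omega)
    have w : E.d (i + 2) (i + 1) ≫ E.d (i + 1) i = 0 := E.d_comp_d _ _ _
    have hTa := shortExact_twistSC n k m
      (Groth.Agent.Lib.Lead.VBCurve.shortExact_kernel_image (E.d (i + 1) i))
    refine subsingleton_X₃ hTa j ?_ ?_
    · have h := vanish_of_regular (hcoh (i + 1)) (hreg (i + 1)) (d + ((i + 1 : ℕ) : ℤ)) le_rfl j hj
      have e : d + ((i + 1 : ℕ) : ℤ) - j = m := by rw [hm]; push_cast; ring
      rw [e] at h
      exact h
    · have hTb := shortExact_twistSC n k m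
        (shortExact_imgToKer (E.d (i + 2) (i + 1)) (E.d (i + 1) i) w)
      refine subsingleton_X₂ hTb (j + 1) ?_ ?_
      · exact IH (j + 1) (by omega) m (by rw [hm]; push_cast; ring)
      · refine subsingleton_HH_twist_of_support_dim_le_one ?_ ?_ m (j + 1) (by omega)
        · exact Groth.Agent.Lib.helper7.CohKer.isCoh_cokernel
            (isCoh_image (hcoh _) (hcoh _) _) (isCoh_kernel' (hcoh _) (hcoh _) _) _
        · rw [Groth.Agent.Lib.helper8.StalkLen.support_eq_of_iso (homologyIso E i)]
          exact hsupp (i + 1) (by omega)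

end Pn

end Groth.Agent.Lib.helper20.GLP
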