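import Mathlib
import Groth.Prelude.Def_KLin
import Groth.Agent.Lib.Helper9.CurveVanish
import Groth.Agent.Lib.Lead.KrullSchmidt3
import Groth.Agent.Lib.Helper20.TensorEquiv
import Groth.Agent.Lib.Helper18.HHConseq
import Groth.Agent.Lib.Helper11.FibLift1

/-!
# `Hom(L, G) ≃ H^0(G ⊗ L⁻¹)` for invertible `L`, and consequences (helper20)

For `e : L₁ ⊗ L₂ ≅ O_X`:
* `twEquiv e G : (L₁ ⟶ G) ≃ H^0(X, G ⊗ L₂)`, natural in `G` (`twEquiv_comp`);
* `hom_eq_zero_of_subsingleton`, `exists_lift` (lifting along an epimorphism whose kernel has no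
  `H^1`), `surjective_of_lift`, `injective_of_ker` (back to `H^0`);
* `end_unit_scalar`, `end_scalar`: endomorphisms of `O_X` / `L₁` are scalars when `h^0(O_X) = 1`.
-/

set_option autoImplicit false
universe u

open CategoryTheory CategoryTheory.Limits AlgebraicGeometry Opposite TopologicalSpace

namespace Groth.Agent.Lib.helper20.GaetaHom

open Groth.Agent.Lib.Helper20.SplitH1 Groth.Agent.Lib.Helper18.HH
  Groth.Agent.Lib.helper9.CurveVanish Groth.Agent.Lib.Lead.ModTensor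
  Groth.Agent.Lib.Helper20.TensorEquiv

noncomputable section

section General

variable {X : Scheme.{u}}

/-- `secHom` is natural -/
lemma secHom_comp {F G : X.Modules} (p : F ⟶ G) (x : Coh.HH X F 0) :
    secHom G (map p 0 x) = secHom F x ≫ p := by
  apply hom_ext_top
  rw [secHom_top, equiv₀_naturality]
  change _ = (p.val.app (op ⊤)).hom (((secHom F x).val.app (op ⊤)).hom
    (1 : X.ringCatSheaf.obj.obj (op ⊤)))
  rw [secHom_top]

lemma secHom_injective (F : X.Modules) : Function.Injective (secHom F) := by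
  intro x y h
  apply (equiv₀ F).injective
  rw [← secHom_top, ← secHom_top, h]

lemma secHom_surjective (F : X.Modules) : Function.Surjective (secHom F) := fun s =>
  Groth.Agent.Lib.Lead.KS.exists_secHom_eq F s

/-- `H^0(F) ≃ Hom(O, F)` -/
def secEquiv (F : X.Modules) : Coh.HH X F 0 ≃ (Coh.structureModule X ⟶ F) :=
  Equiv.ofBijective (secHom F) ⟨secHom_injective F, secHom_surjective F⟩

@[simp] lemma secEquiv_apply (F : X.Modules) (x : Coh.HH X F 0) : secEquiv F x = secHom F x := rfl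

lemma secHom_secEquiv_symm (F : X.Modules) (s : Coh.structureModule X ⟶ F) :
    secHom F ((secEquiv F).symm s) = s := (secEquiv F).apply_symm_apply s

variable {L₁ L₂ : X.Modules} (e : CohB1.tensorMod L₁ L₂ ≅ Coh.structureModule X)

/-- the forward map of `twEquiv` -/
def twFun (G : X.Modules) (t : L₁ ⟶ G) : Coh.HH X (CohB1.tensorMod G L₂) 0 :=
  (secEquiv _).symm (e.inv ≫ tensorMap t (𝟙 L₂))

lemma secHom_twFun (G : X.Modules) (t : L₁ ⟶ G) :
    secHom _ (twFun e G t) = e.inv ≫ tensorMap t (𝟙 L₂) := secHom_secEquiv_symm _ _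

lemma twFun_comp {G G' : X.Modules} (t : L₁ ⟶ G) (p : G ⟶ G') :
    twFun e G' (t ≫ p) = map (tensorMap p (𝟙 L₂)) 0 (twFun e G t) := by
  apply secHom_injective
  rw [secHom_comp, secHom_twFun, secHom_twFun, Category.assoc]
  congr 1
  have := tensorMap_comp t p (𝟙 L₂) (𝟙 L₂)
  rw [Category.comp_id] at this
  exact this

lemma twFun_injective (G : X.Modules) : Function.Injective (twFun e G) := by
  intro t t' h
  have h1 : e.inv ≫ tensorMap t (𝟙 L₂) = e.inv ≫ tensorMap t' (𝟙 L₂) := by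
    rw [← secHom_twFun, ← secHom_twFun, h]
  have h2 : tensorMap t (𝟙 L₂) = tensorMap t' (𝟙 L₂) := (cancel_epi e.inv).1 h1
  haveI := isEquivalence_tensorRight (braid L₂ L₁ ≪≫ e)
  exact (tensorRight L₂).map_injective h2

lemma twFun_surjective (G : X.Modules) : Function.Surjective (twFun e G) := by
  intro y
  haveI := isEquivalence_tensorRight (braid L₂ L₁ ≪≫ e)
  obtain ⟨t, ht⟩ := (tensorRight L₂).map_surjective (e.hom ≫ secHom _ y)
  refine ⟨t, ?_⟩
  apply secHom_injective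
  rw [secHom_twFun]
  have ht' : tensorMap t (𝟙 L₂) = e.hom ≫ secHom _ y := ht
  rw [ht', Iso.inv_hom_id_assoc]

/-- `Hom(L₁, G) ≃ H^0(G ⊗ L₂)` when `L₁ ⊗ L₂ ≅ O` -/
def twEquiv (G : X.Modules) : (L₁ ⟶ G) ≃ Coh.HH X (CohB1.tensorMod G L₂) 0 :=
  Equiv.ofBijective (twFun e G) ⟨twFun_injective e G, twFun_surjective e G⟩

lemma twEquiv_comp {G G' : X.Modules} (t : L₁ ⟶ G) (p : G ⟶ G') :
    twEquiv e G' (t ≫ p) = map (tensorMap p (𝟙 L₂)) 0 (twEquiv e G t) := twFun_comp e t p

lemma twEquiv_zero (G : X.Modules) : twEquiv e G 0 = 0 := by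
  apply secHom_injective
  change secHom _ (twFun e G 0) = _
  rw [secHom_twFun, tensorMap_zero (braid L₂ L₁ ≪≫ e), comp_zero]
  exact ((secHom_eq_zero_iff _ _).2 rfl).symm

include e in
/-- no nonzero maps `L₁ ⟶ G` when `H^0(G ⊗ L₂) = 0` -/
lemma hom_eq_zero_of_subsingleton {G : X.Modules}
    (h : Subsingleton (Coh.HH X (CohB1.tensorMod G L₂) 0)) (t : L₁ ⟶ G) : t = 0 :=
  (twEquiv e G).injective (Subsingleton.elim _ _)

include e in
/-- lifting along `S.g` when `H^1(S.X₁ ⊗ L₂) = 0` -/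
lemma exists_lift {S : ShortComplex X.Modules} (hS : S.ShortExact)
    (h : Subsingleton (Coh.HH X (CohB1.tensorMod S.X₁ L₂) 1)) (t : L₁ ⟶ S.X₃) :
    ∃ t' : L₁ ⟶ S.X₂, t' ≫ S.g = t := by
  have hT := shortExact_mapSC (braid L₂ L₁ ≪≫ e) hS
  obtain ⟨y', hy'⟩ := surjective_map_g hT 0 h (twEquiv e S.X₃ t)
  refine ⟨(twEquiv e S.X₂).symm y', ?_⟩
  apply (twEquiv e S.X₃).injective
  rw [twEquiv_comp, Equiv.apply_symm_apply]
  exact hy'

include e in
/-- surjectivity on `H^0(− ⊗ L₂)` from the lifting property for maps out of `L₁` -/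
lemma surjective_of_lift {E F : X.Modules} (φ : E ⟶ F)
    (h : ∀ t : L₁ ⟶ F, ∃ t' : L₁ ⟶ E, t' ≫ φ = t) :
    Function.Surjective (map (tensorMap φ (𝟙 L₂)) 0) := by
  intro y
  obtain ⟨t', ht'⟩ := h ((twEquiv e F).symm y)
  refine ⟨twEquiv e E t', ?_⟩
  rw [← twEquiv_comp, ht', Equiv.apply_symm_apply]

include e in
/-- injectivity on `H^0(− ⊗ L₂)` from injectivity of composition on maps out of `L₁` -/
lemma injective_of_ker {E F : X.Modules} (φ : E ⟶ F)
    (h : ∀ t' : L₁ ⟶ E, t' ≫ φ = 0 → t' = 0) :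
    Function.Injective (map (tensorMap φ (𝟙 L₂)) 0) := by
  rw [injective_iff_map_eq_zero]
  intro y hy
  obtain ⟨t', rfl⟩ := (twEquiv e E).surjective y
  rw [← twEquiv_comp] at hy
  have h0 : t' ≫ φ = 0 := (twEquiv e F).injective (hy.trans (twEquiv_zero e F).symm)
  rw [h t' h0, twEquiv_zero]

end General

section OverField

variable (k : Type u) [Field k] {X : Scheme.{u}} [X.Over (Spec (CommRingCat.of k))]

/-- endomorphisms of `O_X` are scalars when `h^0(O_X) = 1` -/
lemma end_unit_scalar (h1 : Module.finrank k (Coh.HH X (Coh.structureModule X) 0) = 1)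
    (f : Coh.structureModule X ⟶ Coh.structureModule X) :
    ∃ c : k, f = c • 𝟙 (Coh.structureModule X) := by
  obtain ⟨x, rfl⟩ := secHom_surjective _ f
  obtain ⟨x₀, hx₀⟩ := secHom_surjective _ (𝟙 (Coh.structureModule X))
  have hx₀ne : x₀ ≠ 0 := by
    rintro rfl
    have h0 : (𝟙 (Coh.structureModule X)) = 0 := by
      rw [← hx₀]; exact (secHom_eq_zero_iff _ _).2 rfl
    have hsub : Subsingleton (Coh.HH X (Coh.structureModule X) 0) := ⟨fun a b => by
      apply secHom_injective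
      rw [← Category.comp_id (secHom _ a), ← Category.comp_id (secHom _ b), h0, comp_zero,
        comp_zero]⟩
    have := Module.finrank_zero_of_subsingleton (R := k)
      (M := Coh.HH X (Coh.structureModule X) 0)
    omega
  obtain ⟨c, hc⟩ := (finrank_eq_one_iff_of_nonzero' x₀ hx₀ne).1 h1 x
  refine ⟨c, ?_⟩
  rw [← hc]
  have h2 : (c • x₀ : Coh.HH X (Coh.structureModule X) 0) =
      (Coh.toGlobal (X ↘ Spec (CommRingCat.of k)) c) • x₀ := rfl
  rw [h2, secHom_smul, hx₀, Category.id_comp, KLin.smul_id]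
  rfl

variable {L₁ L₂ : X.Modules} (e : CohB1.tensorMod L₁ L₂ ≅ Coh.structureModule X)

lemma tensorMap_smul_id (c : k) (M N : X.Modules) :
    tensorMap (c • 𝟙 M) (𝟙 N) = c • 𝟙 (CohB1.tensorMod M N) := by
  rw [KLin.smul_id, KLin.smul_id]
  exact Groth.Agent.Lib.helper11.FibLift.tensorMap_smulModΓ_left M N _

include e in
/-- endomorphisms of an invertible module are scalars when `h^0(O_X) = 1` -/
lemma end_scalar (h1 : Module.finrank k (Coh.HH X (Coh.structureModule X) 0) = 1)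
    (f : L₁ ⟶ L₁) : ∃ c : k, f = c • 𝟙 L₁ := by
  obtain ⟨c, hc⟩ := end_unit_scalar k h1 (e.inv ≫ tensorMap f (𝟙 L₂) ≫ e.hom)
  refine ⟨c, ?_⟩
  haveI := isEquivalence_tensorRight (braid L₂ L₁ ≪≫ e)
  apply (tensorRight L₂).map_injective
  change tensorMap f (𝟙 L₂) = tensorMap (c • 𝟙 L₁) (𝟙 L₂)
  rw [tensorMap_smul_id]
  have h3 : tensorMap f (𝟙 L₂) = e.hom ≫ (e.inv ≫ tensorMap f (𝟙 L₂) ≫ e.hom) ≫ e.inv := by
    simp
  rw [h3, hc, Linear.smul_comp, Linear.comp_smul, Category.id_comp, e.hom_inv_id]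

end OverField

end

end Groth.Agent.Lib.helper20.GaetaHom
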