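import Mathlib

/-!
# Linear algebra in a `k`-linear category behind Gaeta resolutions (helper20)

`C` a `k`-linear category with finite coproducts and binary biproducts, `L O F : C`.
* `exists_gaeta_map`: if `Hom(L,O) ⊗ Hom(O,F) → Hom(L,F)` is injective (and the Hom spaces are finite
  dimensional) there is `φ : L^a ⊕ O^b ⟶ F` such that `Hom(O, φ)` and `Hom(L, φ)` are surjective and
  `Hom(L, φ)` is injective when `End(L) = k`.
* `injective_of_gaeta`: conversely, for `π : L^a ⊕ O^b ⟶ F` with `Hom(O, π)` surjective, `Hom(L, π)`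
  injective, `End(O) = k`, `Hom(O, L) = 0`, the multiplication map is injective.
-/

set_option autoImplicit false

open CategoryTheory CategoryTheory.Limits
open scoped TensorProduct

namespace Groth.Agent.Lib.helper20.GaetaLin

universe v u' w

variable {k : Type w} [Field k] {C : Type u'} [Category.{v} C] [Preadditive C] [Linear k C]
  [HasFiniteCoproducts C] [HasBinaryBiproducts C]

noncomputable section

section Sigma

variable {b : ℕ} (L : C)

/-- the projections of a finite copower in a preadditive category -/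
def sπ (i : Fin b) : (∐ fun _ : Fin b => L) ⟶ L :=
  Sigma.desc (fun j => if j = i then 𝟙 L else 0)

@[reassoc]
lemma ι_sπ (i j : Fin b) :
    Sigma.ι (fun _ : Fin b => L) j ≫ sπ L i = if j = i then 𝟙 L else 0 := by
  simp [sπ]

lemma sum_sπ_ι : ∑ i : Fin b, sπ L i ≫ Sigma.ι (fun _ : Fin b => L) i = 𝟙 _ := by
  apply Sigma.hom_ext
  intro j
  rw [Preadditive.comp_sum, Category.comp_id, Finset.sum_eq_single j]
  · rw [ι_sπ_assoc, if_pos rfl, Category.id_comp]
  · intro i _ hij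
    rw [ι_sπ_assoc, if_neg (Ne.symm hij), zero_comp]
  · intro h
    exact absurd (Finset.mem_univ j) h

lemma hom_eq_zero_of_sπ {M : C} (t : M ⟶ ∐ fun _ : Fin b => L) (h : ∀ i, t ≫ sπ L i = 0) :
    t = 0 := by
  rw [← Category.comp_id t, ← sum_sπ_ι, Preadditive.comp_sum]
  exact Finset.sum_eq_zero (fun i _ => by rw [← Category.assoc, h i, zero_comp])

lemma hom_eq_sum_sπ {M : C} (t : M ⟶ ∐ fun _ : Fin b => L) :
    t = ∑ i, (t ≫ sπ L i) ≫ Sigma.ι (fun _ : Fin b => L) i := by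
  conv_lhs => rw [← Category.comp_id t, ← sum_sπ_ι, Preadditive.comp_sum]
  exact Finset.sum_congr rfl (fun i _ => (Category.assoc _ _ _).symm)

end Sigma

variable (L O F : C)

/-- the multiplication map `Hom(L,O) ⊗ Hom(O,F) → Hom(L,F)` -/
abbrev mulMap : (L ⟶ O) ⊗[k] (O ⟶ F) →ₗ[k] (L ⟶ F) :=
  TensorProduct.lift (Linear.comp L O F : (L ⟶ O) →ₗ[k] (O ⟶ F) →ₗ[k] (L ⟶ F))

lemma mulMap_tmul (w : L ⟶ O) (a : O ⟶ F) : mulMap (k := k) L O F (w ⊗ₜ a) = w ≫ a := by
  simp [mulMap]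

theorem exists_gaeta_map [Module.Finite k (O ⟶ F)] [Module.Finite k (L ⟶ F)]
    (hμ : Function.Injective (mulMap (k := k) L O F)) :
    ∃ (a b : ℕ) (φ : (∐ fun _ : Fin a => L) ⊞ (∐ fun _ : Fin b => O) ⟶ F),
      (∀ t : O ⟶ F, ∃ t' : O ⟶ (∐ fun _ : Fin a => L) ⊞ (∐ fun _ : Fin b => O), t' ≫ φ = t) ∧
      (∀ t : L ⟶ F, ∃ t' : L ⟶ (∐ fun _ : Fin a => L) ⊞ (∐ fun _ : Fin b => O), t' ≫ φ = t) ∧
      ((∀ f : L ⟶ L, ∃ c : k, f = c • 𝟙 L) →
        ∀ t' : L ⟶ (∐ fun _ : Fin a => L) ⊞ (∐ fun _ : Fin b => O), t' ≫ φ = 0 → t' = 0) := by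
  classical
  obtain ⟨U, hU⟩ := Submodule.exists_isCompl (LinearMap.range (mulMap (k := k) L O F))
  let s := Module.finBasis k (O ⟶ F)
  let u := Module.finBasis k U
  let φ : (∐ fun _ : Fin (Module.finrank k U) => L) ⊞
      (∐ fun _ : Fin (Module.finrank k (O ⟶ F)) => O) ⟶ F :=
    biprod.desc (Sigma.desc (fun i => (u i : L ⟶ F))) (Sigma.desc (fun j => s j))
  have hφl : ∀ i, Sigma.ι (fun _ : Fin (Module.finrank k U) => L) i ≫ biprod.inl ≫ φ =
      (u i : L ⟶ F) := by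
    intro i
    simp [φ]
  have hφr : ∀ j, Sigma.ι (fun _ : Fin (Module.finrank k (O ⟶ F)) => O) j ≫ biprod.inr ≫ φ =
      s j := by
    intro j
    simp [φ]
  have hA : ∀ t : O ⟶ F, ∃ t' : O ⟶ _, t' ≫ φ = t := by
    intro t
    refine ⟨∑ j, (s.repr t j) •
      (Sigma.ι (fun _ : Fin (Module.finrank k (O ⟶ F)) => O) j ≫
        (biprod.inr : _ ⟶ (∐ fun _ : Fin (Module.finrank k U) => L) ⊞
          (∐ fun _ : Fin (Module.finrank k (O ⟶ F)) => O))), ?_⟩
    rw [Preadditive.sum_comp]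
    conv_rhs => rw [← s.sum_repr t]
    refine Finset.sum_congr rfl (fun j _ => ?_)
    rw [Linear.smul_comp, Category.assoc, hφr]
  have hR : ∀ z, ∃ t₁ : L ⟶ _, t₁ ≫ φ = mulMap (k := k) L O F z := by
    intro z
    induction z using TensorProduct.induction_on with
    | zero => exact ⟨0, by rw [zero_comp, map_zero]⟩
    | tmul w a' =>
      obtain ⟨a'', ha''⟩ := hA a'
      exact ⟨w ≫ a'', by rw [Category.assoc, ha'', mulMap_tmul]⟩
    | add z₁ z₂ h₁ h₂ =>
      obtain ⟨t₁, ht₁⟩ := h₁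
      obtain ⟨t₂, ht₂⟩ := h₂
      exact ⟨t₁ + t₂, by rw [Preadditive.add_comp, ht₁, ht₂, map_add]⟩
  have hB : ∀ t : L ⟶ F, ∃ t' : L ⟶ _, t' ≫ φ = t := by
    intro t
    have hmem : t ∈ LinearMap.range (mulMap (k := k) L O F) ⊔ U := by
      rw [hU.sup_eq_top]; trivial
    obtain ⟨r, hr, u', hu', rfl⟩ := Submodule.mem_sup.1 hmem
    obtain ⟨z, rfl⟩ := hr
    have h2 : ∃ t₂ : L ⟶ _, t₂ ≫ φ = u' := by
      refine ⟨∑ i, (u.repr ⟨u', hu'⟩ i) •
        (Sigma.ι (fun _ : Fin (Module.finrank k U) => L) i ≫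
          (biprod.inl : _ ⟶ (∐ fun _ : Fin (Module.finrank k U) => L) ⊞
            (∐ fun _ : Fin (Module.finrank k (O ⟶ F)) => O))), ?_⟩
      rw [Preadditive.sum_comp]
      have h3 : (∑ i, ((u.repr ⟨u', hu'⟩ i) • (u i : L ⟶ F))) = u' := by
        have h3' := congrArg (Subtype.val) (u.sum_repr ⟨u', hu'⟩)
        rw [Submodule.coe_sum] at h3'
        exact h3'
      refine Eq.trans ?_ h3
      refine Finset.sum_congr rfl (fun i _ => ?_)
      rw [Linear.smul_comp, Category.assoc, hφl]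
    obtain ⟨t₁, ht₁⟩ := hR z
    obtain ⟨t₂, ht₂⟩ := h2
    exact ⟨t₁ + t₂, by rw [Preadditive.add_comp, ht₁, ht₂]⟩
  refine ⟨_, _, φ, hA, hB, ?_⟩
  intro hL t' ht'
  choose c hc using fun i => hL (t' ≫ biprod.fst ≫ sπ L i)
  let w : Fin (Module.finrank k (O ⟶ F)) → (L ⟶ O) := fun j => t' ≫ biprod.snd ≫ sπ O j
  have h2 : t' ≫ biprod.fst = ∑ i, (c i) • Sigma.ι (fun _ : Fin (Module.finrank k U) => L) i := by
    conv_lhs => rw [hom_eq_sum_sπ L (t' ≫ biprod.fst)]
    refine Finset.sum_congr rfl (fun i _ => ?_)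
    rw [Category.assoc t', hc i, Linear.smul_comp, Category.id_comp]
  have h3 : t' ≫ biprod.snd =
      ∑ j, w j ≫ Sigma.ι (fun _ : Fin (Module.finrank k (O ⟶ F)) => O) j := by
    conv_lhs => rw [hom_eq_sum_sπ O (t' ≫ biprod.snd)]
    refine Finset.sum_congr rfl (fun j _ => ?_)
    rw [Category.assoc t']
  have h4 : t' ≫ φ = (∑ i, c i • (u i : L ⟶ F)) +
      mulMap (k := k) L O F (∑ j, w j ⊗ₜ[k] s j) := by
    have h1 : t' = t' ≫ biprod.fst ≫ biprod.inl + t' ≫ biprod.snd ≫ biprod.inr := by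
      rw [← Preadditive.comp_add, biprod.total, Category.comp_id]
    conv_lhs => rw [h1]
    rw [Preadditive.add_comp, ← Category.assoc t', ← Category.assoc t', h2, h3, map_sum]
    congr 1
    · rw [Preadditive.sum_comp, Preadditive.sum_comp]
      refine Finset.sum_congr rfl (fun i _ => ?_)
      rw [Linear.smul_comp, Linear.smul_comp, Category.assoc, hφl]
    · rw [Preadditive.sum_comp, Preadditive.sum_comp]
      refine Finset.sum_congr rfl (fun j _ => ?_)
      rw [mulMap_tmul, Category.assoc, Category.assoc, hφr]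
  rw [ht'] at h4
  have hxU : (∑ i, c i • (u i : L ⟶ F)) ∈ U :=
    Submodule.sum_mem _ (fun i _ => Submodule.smul_mem _ _ (u i).2)
  have hyR : mulMap (k := k) L O F (∑ j, w j ⊗ₜ[k] s j) ∈
      LinearMap.range (mulMap (k := k) L O F) := ⟨_, rfl⟩
  have hyU : mulMap (k := k) L O F (∑ j, w j ⊗ₜ[k] s j) ∈ U := by
    have : mulMap (k := k) L O F (∑ j, w j ⊗ₜ[k] s j) = -(∑ i, c i • (u i : L ⟶ F)) := by
      rw [eq_neg_iff_add_eq_zero, add_comm]; exact h4.symm
    rw [this]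
    exact Submodule.neg_mem _ hxU
  have hy0 : mulMap (k := k) L O F (∑ j, w j ⊗ₜ[k] s j) = 0 :=
    Submodule.disjoint_def.1 hU.disjoint _ hyR hyU
  have hx0 : (∑ i, c i • (u i : L ⟶ F)) = 0 := by
    rw [hy0, add_zero] at h4; exact h4.symm
  have hc0 : ∀ i, c i = 0 := by
    have h5 : (∑ i, c i • u i : U) = 0 := by
      apply Subtype.ext
      rw [Submodule.coe_sum]
      exact hx0
    exact Fintype.linearIndependent_iff.1 u.linearIndependent c h5
  have hw0 : ∀ j, w j = 0 := by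
    have h6 : (∑ j, w j ⊗ₜ[k] s j) = 0 := hμ (by rw [hy0, map_zero])
    have h7 := TensorProduct.sum_tmul_basis_right_eq_zero s (Finsupp.equivFunOnFinite.symm w)
      (by
        rw [Finsupp.sum_fintype _ _ (fun i => by simp)]
        simpa using h6)
    intro j
    have := DFunLike.congr_fun h7 j
    simpa using this
  apply biprod.hom_ext
  · rw [zero_comp]
    refine hom_eq_zero_of_sπ L _ (fun i => ?_)
    rw [Category.assoc, hc i, hc0 i, zero_smul]
  · rw [zero_comp]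
    refine hom_eq_zero_of_sπ O _ (fun j => ?_)
    rw [Category.assoc]
    exact hw0 j

theorem injective_of_gaeta [Module.Finite k (L ⟶ O)] {a b : ℕ}
    (π : (∐ fun _ : Fin a => L) ⊞ (∐ fun _ : Fin b => O) ⟶ F)
    (hlift : ∀ t : O ⟶ F, ∃ t' : O ⟶ (∐ fun _ : Fin a => L) ⊞ (∐ fun _ : Fin b => O), t' ≫ π = t)
    (hker : ∀ t' : L ⟶ (∐ fun _ : Fin a => L) ⊞ (∐ fun _ : Fin b => O), t' ≫ π = 0 → t' = 0)
    (hO : ∀ f : O ⟶ O, ∃ c : k, f = c • 𝟙 O)
    (hOL : ∀ f : O ⟶ L, f = 0) :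
    Function.Injective (mulMap (k := k) L O F) := by
  classical
  rw [injective_iff_map_eq_zero]
  intro z hz
  let ψ := Module.finBasis k (L ⟶ O)
  obtain ⟨cz, rfl⟩ := TensorProduct.eq_repr_basis_left ψ z
  choose a' ha' using fun i => hlift (cz i)
  rw [Finsupp.sum_fintype _ _ (fun i => by simp), map_sum] at hz
  have hsum : (∑ i, ψ i ≫ a' i) ≫ π = 0 := by
    rw [Preadditive.sum_comp, ← hz]
    refine Finset.sum_congr rfl (fun i _ => ?_)
    rw [Category.assoc, ha', mulMap_tmul]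
  have h0 := hker _ hsum
  have hai : ∀ i, a' i = 0 := by
    intro i
    apply biprod.hom_ext
    · rw [zero_comp]
      exact hom_eq_zero_of_sπ L _ (fun j => hOL _)
    · rw [zero_comp]
      refine hom_eq_zero_of_sπ O _ (fun j => ?_)
      choose d hd using fun i' => hO (a' i' ≫ biprod.snd ≫ sπ O j)
      have h1 : (∑ i', ψ i' ≫ a' i') ≫ biprod.snd ≫ sπ O j = ∑ i', d i' • ψ i' := by
        rw [Preadditive.sum_comp]
        refine Finset.sum_congr rfl (fun i' _ => ?_)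
        rw [Category.assoc, hd i', Linear.comp_smul, Category.comp_id]
      rw [h0, zero_comp] at h1
      have hd0 := Fintype.linearIndependent_iff.1 ψ.linearIndependent d h1.symm
      rw [Category.assoc, hd i, hd0 i, zero_smul]
  have hcz : cz = 0 := by
    ext i
    rw [← ha' i, hai i, zero_comp]
    rfl
  rw [hcz]
  simp

end

end Groth.Agent.Lib.helper20.GaetaLin
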