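import Mathlib
import Groth.Agent.Lib.Helper20.LinRes
import Groth.Agent.Lib.Helper20.Horrocks
import Groth.Agent.Lib.Helper20.PushReg
import Groth.Agent.Lib.Helper13.K0Res3
import Groth.Agent.S0843

/-!
# Hilbert's syzygy theorem for coherent sheaves on `P^n_k` (helper20)

Every coherent module on `P^n_k` has a resolution of length `≤ n` by finite direct sums of twisting
sheaves: minimal linear resolutions of a regular sheaf, terminated by Horrocks' criterion.
-/

set_option autoImplicit false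
universe u

open CategoryTheory CategoryTheory.Limits AlgebraicGeometry Opposite TopologicalSpace

namespace Groth.Agent.Lib.helper20.Syzygy

open Groth.Agent.Lib.Helper20.SplitH1 Groth.Agent.Lib.helper20.GGDescent
  Groth.Agent.Lib.Helper18.HH Groth.Agent.Lib.helper20.LinRes Groth.Agent.Lib.helper20.Horrocks
  Groth.Agent.Lib.Helper20.TwistEquivPn Groth.Agent.Lib.Helper20.TensorEquiv
  Groth.Agent.Lib.Lead.ModTensor Groth.Agent.Lib.helper28 Groth.Agent.Lib.helper20.CMReg
  Groth.Agent.Lib.helper20.CMGG Groth.Agent.Lib.helper13.K0Res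

noncomputable section

variable {k : Type u} [Field k] {n : ℕ}

/-- `h^0(O) = 1` -/
lemma finrank_H0_O (c : ℤ) (hc : c = 0) :
    Module.finrank k (Coh.HH (CohB1.ProjSpace n k) (Twist.twistProjSpace n k c) 0) = 1 := by
  subst hc
  obtain ⟨E⟩ := Groth.Agent.S0843.result k n 0
  have E' : Coh.HH (CohB1.ProjSpace n k) (Twist.twistProjSpace n k 0) 0 ≃ₗ[k]
      ↥(MvPolynomial.homogeneousSubmodule (Fin (n + 1)) k 0) := E
  rw [E'.finrank_eq, MvPolynomial.homogeneousSubmodule_zero, Submodule.one_eq_span]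
  exact finrank_span_singleton (K := k) (one_ne_zero (α := MvPolynomial (Fin (n + 1)) k))

/-- `h^0(O^b) = b` -/
lemma finrank_H0_sigma (b : ℕ) (c : ℤ) (hc : c = 0) :
    Module.finrank k (Coh.HH (CohB1.ProjSpace n k)
      (∐ fun _ : Fin b => Twist.twistProjSpace n k c) 0) = b := by
  have hfin : ∀ _ : Fin b, Module.Finite k (Coh.HH (CohB1.ProjSpace n k)
      (Twist.twistProjSpace n k c) 0) := fun _ =>
    Groth.Agent.S0038.result n k _ (isCoh_O c) 0
  rw [(sigmaEquivOver k (fun _ : Fin b => Twist.twistProjSpace n k c) 0).finrank_eq,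
    Module.finrank_pi_fintype]
  simp only [finrank_H0_O c hc, Finset.sum_const, Finset.card_univ, Fintype.card_fin, smul_eq_mul,
    mul_one]

/-- a spanning family of global sections from a `k`-basis of `H^0` -/
lemma exists_span_basis {X : Scheme.{u}} [X.Over (Spec (CommRingCat.of k))] (M : X.Modules)
    [Module.Finite k (Coh.HH X M 0)] :
    ∃ (s : Fin (Module.finrank k (Coh.HH X M 0)) → M.val.obj (op ⊤)),
      ∀ t : M.val.obj (op ⊤), ∃ c : Fin (Module.finrank k (Coh.HH X M 0)) → Coh.Γtop X,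
        t = ∑ j, c j • s j := by
  set s₀ := Module.finBasis k (Coh.HH X M 0) with hs₀
  refine ⟨fun j => equiv₀ M (s₀ j), fun t => ?_⟩
  have hx : (equiv₀ M).symm t ∈ Submodule.span k (Set.range s₀) := by
    rw [s₀.span_eq]; trivial
  obtain ⟨c₀, hc₀⟩ := (Submodule.mem_span_range_iff_exists_fun k).1 hx
  refine ⟨fun j => Coh.toGlobal (X ↘ Spec (CommRingCat.of k)) (c₀ j), ?_⟩
  have h1 : t = equiv₀ M (∑ j, c₀ j • s₀ j) := by
    rw [hc₀, LinearEquiv.apply_symm_apply]
  rw [h1, _root_.map_sum]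
  refine Finset.sum_congr rfl fun j _ => ?_
  rw [smul_over_def, _root_.map_smul]

/-- a minimal linear presentation of an `m`-regular coherent module: the kernel of `O(-m)^b ⟶ F`
is `(m+1)`-regular and `H^0(K(m)) = 0` -/
theorem exists_res_min {F : (CohB1.ProjSpace n k).Modules} (hF : Coh.IsCoh F) (m : ℤ)
    (h : Curv2.IsMRegular k n F m) :
    ∃ (b : ℕ) (φ : (∐ fun _ : Fin b => Twist.twistProjSpace n k (-m)) ⟶ F),
      Epi φ ∧ Curv2.IsMRegular k n (kernel φ) (m + 1) ∧
      Subsingleton (Coh.HH (CohB1.ProjSpace n k)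
        (CohB1.tensorMod (kernel φ) (Twist.twistProjSpace n k m)) 0) := by
  have hMcoh := isCoh_twist hF m
  have hgg := gg_of_regular hF h
  have hfin : Module.Finite k (Coh.HH (CohB1.ProjSpace n k)
      (CohB1.tensorMod F (Twist.twistProjSpace n k m)) 0) :=
    Groth.Agent.S0038.result n k _ hMcoh 0
  obtain ⟨b, hb⟩ : ∃ b : ℕ, Module.finrank k (Coh.HH (CohB1.ProjSpace n k)
      (CohB1.tensorMod F (Twist.twistProjSpace n k m)) 0) = b := ⟨_, rfl⟩
  obtain ⟨s, hspan⟩ : ∃ (s : Fin b → (CohB1.tensorMod F (Twist.twistProjSpace n k m)).val.obj (op ⊤)),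
      ∀ t : (CohB1.tensorMod F (Twist.twistProjSpace n k m)).val.obj (op ⊤),
        ∃ c : Fin b → Coh.Γtop (CohB1.ProjSpace n k), t = ∑ j, c j • s j := by
    subst hb
    exact exists_span_basis (k := k) (CohB1.tensorMod F (Twist.twistProjSpace n k m))
  have hepiψ := epi_ψ hgg s hspan
  have hsurjψ := surj_ψ _ s hspan
  have hepiφ : Epi (φOf m (ψ _ s)) := epi_φOf m _
  refine ⟨b, φOf m (ψ _ s), hepiφ, ?_, ?_⟩
  · intro i hi1 hin
    rcases Nat.lt_or_ge i 2 with h2 | h2
    · obtain rfl : i = 1 := by omega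
      have e : m + 1 - ((1 : ℕ) : ℤ) = m := by push_cast; ring
      rw [e]
      exact h1_kernel_vanish m _ (surj_twist_φOf m _ hsurjψ)
    · obtain ⟨q, rfl⟩ : ∃ q, i = q + 1 := ⟨i - 1, by omega⟩
      have hT := shortExact_twistSC n k (m + 1 - ((q + 1 : ℕ) : ℤ))
        (shortExact_kernel (φOf m (ψ _ s)))
      refine subsingleton_X₁_succ hT q ?_ ?_
      · show Subsingleton (Coh.HH _ (CohB1.tensorMod F
          (Twist.twistProjSpace n k (m + 1 - ((q + 1 : ℕ) : ℤ)))) q)
        have e : m + 1 - ((q + 1 : ℕ) : ℤ) = m - q := by push_cast; ring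
        rw [e]
        exact vanish_of_regular hF h m le_rfl q (by omega)
      · exact subsingleton_HH_sigma_twist b (-m) _ (q + 1)
          (Groth.Agent.S0844.result k n (-m + (m + 1 - ((q + 1 : ℕ) : ℤ))) (q + 1) (by omega)
            (by push_cast; omega))
  · have hT := shortExact_twistSC n k m (shortExact_kernel (φOf m (ψ _ s)))
    have hsurj := surj_twist_φOf m _ hsurjψ
    have hEcoh : Coh.IsCoh (CohB1.tensorMod (∐ fun _ : Fin b => Twist.twistProjSpace n k (-m))
        (Twist.twistProjSpace n k m)) := isCoh_twist (isCoh_sigma b (-m)) m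
    have hfinE : Module.Finite k (Coh.HH (CohB1.ProjSpace n k)
        (CohB1.tensorMod (∐ fun _ : Fin b => Twist.twistProjSpace n k (-m))
          (Twist.twistProjSpace n k m)) 0) := Groth.Agent.S0038.result n k _ hEcoh 0
    have hadd := finrank_eq_add hT hsurj hfinE
    have hE : Module.finrank k (Coh.HH (CohB1.ProjSpace n k)
        (CohB1.tensorMod (∐ fun _ : Fin b => Twist.twistProjSpace n k (-m))
          (Twist.twistProjSpace n k m)) 0) = b := by
      rw [Groth.Agent.Lib.helper20.PushReg.finrank_of_iso (A := k) (sigmaTwistIso b (-m) m) 0]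
      exact finrank_H0_sigma b (-m + m) (by ring)
    have hKcoh : Coh.IsCoh (CohB1.tensorMod (kernel (φOf m (ψ _ s)))
        (Twist.twistProjSpace n k m)) := isCoh_twist (isCoh_kernel hF _) m
    have hfinK : Module.Finite k (Coh.HH (CohB1.ProjSpace n k)
        (CohB1.tensorMod (kernel (φOf m (ψ _ s))) (Twist.twistProjSpace n k m)) 0) :=
      Groth.Agent.S0038.result n k _ hKcoh 0
    have hK0 : Module.finrank k (Coh.HH (CohB1.ProjSpace n k)
        (CohB1.tensorMod (kernel (φOf m (ψ _ s))) (Twist.twistProjSpace n k m)) 0) = 0 := by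
      have hadd' : Module.finrank k (Coh.HH (CohB1.ProjSpace n k)
          (CohB1.tensorMod (∐ fun _ : Fin b => Twist.twistProjSpace n k (-m))
            (Twist.twistProjSpace n k m)) 0) =
          Module.finrank k (Coh.HH (CohB1.ProjSpace n k)
            (CohB1.tensorMod (kernel (φOf m (ψ _ s))) (Twist.twistProjSpace n k m)) 0) +
          Module.finrank k (Coh.HH (CohB1.ProjSpace n k)
            (CohB1.tensorMod F (Twist.twistProjSpace n k m)) 0) := hadd
      omega
    exact Module.finrank_zero_iff.1 hK0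

/-- the invariant of the `j`-th syzygy module in a minimal linear resolution -/
structure Inv (j : ℕ) (c : ℤ) (G : (CohB1.ProjSpace n k).Modules) : Prop where
  coh : Coh.IsCoh G
  reg : Curv2.IsMRegular k n G c
  h0 : 1 ≤ j → ∀ d : ℤ, d < c → Subsingleton (Coh.HH (CohB1.ProjSpace n k)
    (CohB1.tensorMod G (Twist.twistProjSpace n k d)) 0)
  hmid : ∀ (d : ℤ) (i : ℕ), 1 ≤ i → i < j → i < n → Subsingleton (Coh.HH (CohB1.ProjSpace n k)
    (CohB1.tensorMod G (Twist.twistProjSpace n k d)) i)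

/-- one step of the minimal linear resolution -/
theorem step (hn : 1 ≤ n) {j : ℕ} {c : ℤ} {G : (CohB1.ProjSpace n k).Modules} (H : Inv j c G) :
    ∃ (b : ℕ) (φ : (∐ fun _ : Fin b => Twist.twistProjSpace n k (-c)) ⟶ G),
      Epi φ ∧ Inv (j + 1) (c + 1) (kernel φ) := by
  obtain ⟨b, φ, hφ, hreg, hmin⟩ := exists_res_min H.coh c H.reg
  refine ⟨b, φ, hφ, ?_⟩
  have hKcoh := isCoh_kernel H.coh φ
  have hT : ∀ d : ℤ, (twistSC n k d
      (ShortComplex.mk (kernel.ι φ) φ (kernel.condition φ))).ShortExact := fun d =>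
    shortExact_twistSC n k d (shortExact_kernel φ)
  have h0K : ∀ d : ℤ, d < c + 1 → Subsingleton (Coh.HH (CohB1.ProjSpace n k)
      (CohB1.tensorMod (kernel φ) (Twist.twistProjSpace n k d)) 0) := by
    intro d hd
    rcases lt_or_eq_of_le (Int.lt_add_one_iff.1 hd) with hlt | rfl
    · refine subsingleton_X₁_zero (hT d) ?_
      exact subsingleton_HH_sigma_twist b (-c) d 0
        (Groth.Agent.S0844.result k n (-c + d) 0 (by omega) (by omega))
    · exact hmin
  refine ⟨hKcoh, hreg, fun _ => h0K, ?_⟩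
  intro d i hi1 hij hin
  rcases Nat.lt_or_ge i 2 with h2 | h2
  · obtain rfl : i = 1 := by omega
    rcases lt_or_ge d c with hdc | hdc
    · refine subsingleton_X₁_succ (hT d) 0 ?_ ?_
      · exact H.h0 (by omega) d hdc
      · exact subsingleton_HH_sigma_twist b (-c) d 1
          (Groth.Agent.S0844.result k n (-c + d) 1 (by omega) (by omega))
    · have hv := vanish_of_regular hKcoh hreg (d + 1) (by omega) 1 le_rfl
      have e : d + 1 - ((1 : ℕ) : ℤ) = d := by push_cast; ring
      rw [e] at hv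
      exact hv
  · obtain ⟨q, rfl⟩ : ∃ q, i = q + 1 := ⟨i - 1, by omega⟩
    refine subsingleton_X₁_succ (hT d) q ?_ ?_
    · exact H.hmid d q (by omega) (by omega) (by omega)
    · exact subsingleton_HH_sigma_twist b (-c) d (q + 1)
        (Groth.Agent.S0844.result k n (-c + d) (q + 1) (by omega) (by omega))

section Triv

open ZeroObject

variable {C : Type*} [Category C] [Abelian C]

lemma shortExact_zero_id (G : C) :
    (ShortComplex.mk (0 : (0 : C) ⟶ G) (𝟙 G) zero_comp).ShortExact := by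
  have hm : Mono (0 : (0 : C) ⟶ G) := ⟨fun g h _ => (isZero_zero C).eq_of_tgt g h⟩
  refine ShortComplex.ShortExact.mk' ?_ hm (inferInstanceAs (Epi (𝟙 G)))
  exact (ShortComplex.exact_iff_mono _ rfl).2 (inferInstanceAs (Mono (𝟙 G)))

lemma shortExact_zero_zero :
    (ShortComplex.mk (0 : (0 : C) ⟶ (0 : C)) (0 : (0 : C) ⟶ (0 : C)) zero_comp).ShortExact := by
  have hm : Mono (0 : (0 : C) ⟶ (0 : C)) := ⟨fun g h _ => (isZero_zero C).eq_of_tgt g h⟩
  have he : Epi (0 : (0 : C) ⟶ (0 : C)) := ⟨fun g h _ => (isZero_zero C).eq_of_src g h⟩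
  refine ShortComplex.ShortExact.mk' ?_ hm he
  exact ShortComplex.exact_of_isZero_X₂ _ (isZero_zero C)

/-- the trivial resolution `0 → G → G → 0` -/
def trivRes (P₀ : ObjectProperty C) (G : C) (hG : P₀ G) (hz : P₀ (0 : C)) : Res P₀ G where
  K := consObj G (fun _ => (0 : C))
  L := consObj G (fun _ => (0 : C))
  ι := fun i => match i with
    | 0 => (0 : (0 : C) ⟶ G)
    | _ + 1 => (0 : (0 : C) ⟶ (0 : C))
  p := fun i => match i with
    | 0 => (𝟙 G : G ⟶ G)
    | _ + 1 => (0 : (0 : C) ⟶ (0 : C))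
  zero := fun i => match i with
    | 0 => zero_comp
    | _ + 1 => zero_comp
  exact := fun i => match i with
    | 0 => shortExact_zero_id G
    | _ + 1 => shortExact_zero_zero
  hL := fun i => match i with
    | 0 => hG
    | _ + 1 => hz
  e := Iso.refl G

lemma trivRes_L_succ (P₀ : ObjectProperty C) (G : C) (hG : P₀ G) (hz : P₀ (0 : C)) (i : ℕ) :
    IsZero ((trivRes P₀ G hG hz).L (i + 1)) := isZero_zero C

lemma trivRes_L_zero (P₀ : ObjectProperty C) (G : C) (hG : P₀ G) (hz : P₀ (0 : C)) :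
    (trivRes P₀ G hG hz).L 0 = G := rfl

lemma cons_L_succ {P₀ : ObjectProperty C} {A K' L' : C} (i : K' ⟶ L') (p : L' ⟶ A)
    (w : i ≫ p = 0) (hS : (ShortComplex.mk i p w).ShortExact) (hL' : P₀ L') (R : Res P₀ K')
    (m : ℕ) : (Res.cons i p w hS hL' R).L (m + 1) = R.L m := rfl

end Triv

open ZeroObject

variable (k n) in
/-- the class of finite direct sums of twisting sheaves -/
def splitsProp : ObjectProperty (CohB1.ProjSpace n k).Modules := fun F => Splits (k := k) F

lemma splitsProp_zero : splitsProp k n (0 : (CohB1.ProjSpace n k).Modules) :=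
  splits_of_isZero (isZero_zero _)

lemma splitsProp_sigma (b : ℕ) (c : ℤ) :
    splitsProp k n (∐ fun _ : Fin b => Twist.twistProjSpace n k c) :=
  ⟨b, fun _ => c, ⟨Iso.refl _⟩⟩

/-- from the invariant to a finite resolution, by induction on `n - j` -/
theorem exists_res_of_inv (hn : 1 ≤ n) : ∀ (r j : ℕ) (c : ℤ) (G : (CohB1.ProjSpace n k).Modules),
    1 ≤ j → j + r = n → Inv j c G →
    ∃ R : Res (splitsProp k n) G, ∀ i : ℕ, r < i → IsZero (R.L i) := by
  intro r
  induction r with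
  | zero =>
    intro j c G hj hjn H
    have hyp : Hyp G :=
      ⟨H.coh, ⟨c - 1, fun m hm => H.h0 hj m (by omega)⟩,
        fun m i hi hin => H.hmid m i hi (by omega) hin⟩
    have hs : Splits (k := k) G := splits_of_hyp hn hyp
    refine ⟨trivRes (splitsProp k n) G hs splitsProp_zero, fun i hi => ?_⟩
    obtain ⟨i', rfl⟩ : ∃ i', i = i' + 1 := ⟨i - 1, by omega⟩
    exact trivRes_L_succ _ _ _ _ _
  | succ r ih =>
    intro j c G hj hjn H
    obtain ⟨b, φ, hφ, HK⟩ := step hn H
    obtain ⟨R', hR'⟩ := ih (j + 1) (c + 1) (kernel φ) (by omega) (by omega) HK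
    refine ⟨Res.cons (kernel.ι φ) φ (kernel.condition φ) (shortExact_kernel φ)
      (splitsProp_sigma b (-c)) R', fun i hi => ?_⟩
    obtain ⟨i', rfl⟩ : ∃ i', i = i' + 1 := ⟨i - 1, by omega⟩
    rw [cons_L_succ]
    exact hR' i' (by omega)

/-- **Hilbert's syzygy theorem on `P^n_k`**: a coherent module has a resolution of length `≤ n`
by finite direct sums of twisting sheaves -/
theorem exists_res_coh (F : (CohB1.ProjSpace n k).Modules) (hF : Coh.IsCoh F) :
    ∃ R : Res (splitsProp k n) F, ∀ i : ℕ, n < i → IsZero (R.L i) := by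
  obtain ⟨d₀, hd₀⟩ := Groth.Agent.Lib.Lead.SerreVan.serre_vanishing n k F hF
  have hreg : Curv2.IsMRegular k n F (d₀ + n) :=
    fun i hi hin => hd₀ (d₀ + n - i) (by omega) i hi
  rcases Nat.eq_zero_or_pos n with hn0 | hn
  · subst hn0
    obtain ⟨b, φ, hφ, hregK, hminK⟩ := exists_res_min hF (d₀ + (0 : ℕ)) hreg
    have hKcoh := isCoh_kernel hF φ
    have hregK' : Curv2.IsMRegular k 0 (kernel φ) (d₀ + (0 : ℕ)) := fun i hi hin => by omega
    have hz : IsZero (kernel φ) :=
      isZero_of_isZero_twist _ _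
        (isZero_of_gg_of_subsingleton (gg_of_regular hKcoh hregK') hminK)
    refine ⟨Res.cons (kernel.ι φ) φ (kernel.condition φ) (shortExact_kernel φ)
      (splitsProp_sigma b _) (trivRes (splitsProp k 0) (kernel φ) (splits_of_isZero hz)
        splitsProp_zero), fun i hi => ?_⟩
    obtain ⟨i', rfl⟩ : ∃ i', i = i' + 1 := ⟨i - 1, by omega⟩
    rw [cons_L_succ]
    rcases i' with _ | i''
    · exact hz
    · exact trivRes_L_succ _ _ _ _ _
  · have H0 : Inv 0 (d₀ + n) F :=
      ⟨hF, hreg, fun h => absurd h (by omega), fun d i hi hij => absurd hij (by omega)⟩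
    obtain ⟨b, φ, hφ, HK⟩ := step hn H0
    obtain ⟨R', hR'⟩ := exists_res_of_inv hn (n - 1) 1 _ (kernel φ) le_rfl (by omega) HK
    refine ⟨Res.cons (kernel.ι φ) φ (kernel.condition φ) (shortExact_kernel φ)
      (splitsProp_sigma b _) R', fun i hi => ?_⟩
    obtain ⟨i', rfl⟩ : ∃ i', i = i' + 1 := ⟨i - 1, by omega⟩
    rw [cons_L_succ]
    exact hR' i' (by omega)

/-- the chain-complex form -/
theorem exists_complex (F : (CohB1.ProjSpace n k).Modules) (hF : Coh.IsCoh F) :
    ∃ (C : ChainComplex (CohB1.ProjSpace n k).Modules ℕ) (π : C.X 0 ⟶ F) (w : C.d 1 0 ≫ π = 0),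
      (∀ i : ℕ, n < i → IsZero (C.X i)) ∧
      (∀ i : ℕ, Splits (k := k) (C.X i)) ∧
      (∀ i : ℕ, 1 ≤ i → IsZero (C.homology i)) ∧ Epi π ∧
      (ShortComplex.mk (C.d 1 0) π w).Exact := by
  obtain ⟨R, hR⟩ := exists_res_coh F hF
  have hd : R.toComplex.d 1 0 = R.p 1 ≫ R.ι 0 := R.toComplex_d 0
  have w0 : (R.p 1 ≫ R.ι 0) ≫ (R.p 0 ≫ R.e.hom) = 0 := by
    rw [Category.assoc, ← Category.assoc (R.ι 0), R.zero 0, zero_comp, comp_zero]
  have w : R.toComplex.d 1 0 ≫ (R.p 0 ≫ R.e.hom) = 0 := by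
    rw [hd]; exact w0
  refine ⟨R.toComplex, R.p 0 ≫ R.e.hom, w, fun i hi => hR i hi, fun i => R.hL i, ?_, ?_, ?_⟩
  · intro i hi
    obtain ⟨i', rfl⟩ : ∃ i', i = i' + 1 := ⟨i - 1, by omega⟩
    exact (HomologicalComplex.exactAt_iff_isZero_homology _ _).1 (R.toComplex_exactAt i')
  · exact @epi_comp _ _ _ _ _ (R.p 0) (R.exact 0).epi_g _ inferInstance
  · let S₁ : ShortComplex (CohB1.ProjSpace n k).Modules :=
      ShortComplex.mk (R.toComplex.d 1 0) (R.p 0 ≫ R.e.hom) w
    let S₃ : ShortComplex (CohB1.ProjSpace n k).Modules :=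
      ShortComplex.mk (R.ι 0) (R.p 0) (R.zero 0)
    let φ : S₁ ⟶ S₃ :=
      { τ₁ := R.p 1
        τ₂ := 𝟙 _
        τ₃ := R.e.inv
        comm₁₂ := by
          change R.p 1 ≫ R.ι 0 = R.toComplex.d 1 0 ≫ 𝟙 _
          rw [Category.comp_id, hd]
        comm₂₃ := by
          change 𝟙 _ ≫ R.p 0 = (R.p 0 ≫ R.e.hom) ≫ R.e.inv
          rw [Category.id_comp, Category.assoc, Iso.hom_inv_id, Category.comp_id] }
    have h1 : Epi φ.τ₁ := (R.exact 1).epi_g
    have h2 : IsIso φ.τ₂ := inferInstanceAs (IsIso (𝟙 _))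
    have h3 : Mono φ.τ₃ := inferInstanceAs (Mono R.e.inv)
    exact (ShortComplex.exact_iff_of_epi_of_isIso_of_mono φ).2 (R.exact 0).exact

end

end Groth.Agent.Lib.helper20.Syzygy
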