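import Mathlib
import Groth.Agent.Lib.Helper20.GaetaHom
import Groth.Agent.Lib.Helper20.GaetaLin
import Groth.Agent.Lib.Helper20.Syzygy
import Groth.Agent.Lib.Helper19.ProjSpaceProper
import Groth.Agent.Lib.Lead.HilbPos12

/-!
# Gaeta resolutions on the projective plane (helper20)

A coherent `F` on `P²_k` has a resolution `0 → O(-2)^a → O(-1)^b ⊕ O^c → F → 0` iff
`H^0(F(-1)) = H^2(F(-1)) = H^1(F) = H^2(F) = H^1(F(1)) = H^2(F(1)) = 0` and
`Hom(O(-1), O) ⊗ Hom(O, F) → Hom(O(-1), F)` is injective.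
-/

set_option autoImplicit false
universe u

open CategoryTheory CategoryTheory.Limits AlgebraicGeometry Opposite TopologicalSpace

namespace Groth.Agent.Lib.helper20.Gaeta

open Groth.Agent.Lib.Helper20.SplitH1 Groth.Agent.Lib.helper20.GGDescent
  Groth.Agent.Lib.Helper18.HH Groth.Agent.Lib.helper20.LinRes Groth.Agent.Lib.helper20.Horrocks
  Groth.Agent.Lib.Helper20.TwistEquivPn Groth.Agent.Lib.Helper20.TensorEquiv
  Groth.Agent.Lib.Lead.ModTensor Groth.Agent.Lib.helper28 Groth.Agent.Lib.helper20.CMReg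
  Groth.Agent.Lib.helper20.CMGG Groth.Agent.Lib.helper20.Syzygy
  Groth.Agent.Lib.helper20.GaetaHom Groth.Agent.Lib.helper20.GaetaLin

noncomputable section

section General

variable {X : Scheme.{u}}

/-- a map onto a globally generated module which is surjective on `H^0` is an epimorphism -/
lemma epi_of_gg_of_surj {E G : X.Modules} (hgg : Curv2.IsGloballyGenerated G) (f : E ⟶ G)
    (hs : Function.Surjective (map f 0)) : Epi f := by
  obtain ⟨ι', p, hp⟩ := hgg
  have hπ : Epi (cokernel.π f) := coequalizer.π_epi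
  have hkill : ∀ t : G.val.obj (op ⊤), ((cokernel.π f).val.app (op ⊤)).hom t = 0 := by
    intro t
    obtain ⟨y, hy⟩ := hs ((equiv₀ G).symm t)
    have h1 : t = (f.val.app (op ⊤)).hom (equiv₀ E y) := by
      rw [← equiv₀_naturality, hy, LinearEquiv.apply_symm_apply]
    have hcond : f ≫ cokernel.π f = 0 := cokernel.condition _
    have h0 : ((f ≫ cokernel.π f).val.app (op ⊤)).hom (equiv₀ E y) = 0 := by
      rw [hcond]; rfl
    rw [h1]
    exact h0
  have hepi : Epi (p ≫ cokernel.π f) := @epi_comp _ _ _ _ _ p hp _ hπ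
  have hz : IsZero (cokernel f) :=
    @isZero_of_epi_of_gen X _ _ (p ≫ cokernel.π f) hepi ι'
      (fun i => SheafOfModules.ιFree i) (fun a b h => free_hom_ext a b h) (fun i => hkill _)
  exact Abelian.epi_of_cokernel_π_eq_zero _ (hz.eq_of_tgt _ _)

variable {S : ShortComplex X.Modules} (hS : S.ShortExact)

include hS in
lemma subsingleton_X₁_one_of_surj (hsurj : Function.Surjective (map S.g 0))
    (h₂ : Subsingleton (Coh.HH X S.X₂ 1)) : Subsingleton (Coh.HH X S.X₁ 1) := by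
  refine ⟨fun x y => ?_⟩
  have hx : ∀ x : Coh.HH X S.X₁ 1, x = 0 := by
    intro x
    obtain ⟨a, ha⟩ := (exact₁ hS 0 x).1 (Subsingleton.elim _ _)
    obtain ⟨a', rfl⟩ := hsurj a
    rw [← ha]
    exact (exact₃ hS 0 _).2 ⟨a', rfl⟩
  rw [hx x, hx y]

include hS in
lemma subsingleton_X₁_zero_of_inj (hinj : Function.Injective (map S.g 0)) :
    Subsingleton (Coh.HH X S.X₁ 0) := by
  refine ⟨fun x y => ?_⟩
  have hx : ∀ x : Coh.HH X S.X₁ 0, x = 0 := by
    intro x
    apply injective_map_f_zero hS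
    apply hinj
    rw [_root_.map_zero, _root_.map_zero]
    exact (exact₂ hS 0 _).2 ⟨x, rfl⟩
  rw [hx x, hx y]

end General

section Pn

variable {k : Type u} [Field k] {n : ℕ}

/-- `O(a) ⊗ O(b) ≅ O` when `a + b = 0` -/
def eTw (a b : ℤ) (hab : a + b = 0) :
    CohB1.tensorMod (Twist.twistProjSpace n k a) (Twist.twistProjSpace n k b) ≅
      Coh.structureModule (CohB1.ProjSpace n k) :=
  TwistPn.tensorIso n k a b ≪≫ twistCongr n k hab ≪≫ (TwistPn.zeroIso n k).symm

/-- `O ⊗ O(0) ≅ O` -/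
def eUnit : CohB1.tensorMod (Coh.structureModule (CohB1.ProjSpace n k))
    (Twist.twistProjSpace n k 0) ≅ Coh.structureModule (CohB1.ProjSpace n k) :=
  twistZeroIso n k _

lemma finrank_H0_unit :
    Module.finrank k (Coh.HH (CohB1.ProjSpace n k)
      (Coh.structureModule (CohB1.ProjSpace n k)) 0) = 1 := by
  rw [Groth.Agent.Lib.helper20.PushReg.finrank_of_iso (A := k) (TwistPn.zeroIso n k) 0]
  exact finrank_H0_O 0 rfl

lemma isCoh_unit : Coh.IsCoh (Coh.structureModule (CohB1.ProjSpace n k)) := by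
  have : IsLocallyNoetherian (CohB1.ProjSpace n k) :=
    Groth.Agent.Lib.Lead.SerreFin.isLocallyNoetherian_projSpace n k
  exact Groth.Agent.Lib.helper7.CohKer.isCoh_of_iso (TwistPn.zeroIso n k).symm (isCoh_O 0)

variable (k n) in
/-- the middle term `O(-1)^a ⊕ O^b` -/
abbrev mid (a b : ℕ) : (CohB1.ProjSpace n k).Modules :=
  (∐ fun _ : Fin a => Twist.twistProjSpace n k (-1)) ⊞
    (∐ fun _ : Fin b => Coh.structureModule (CohB1.ProjSpace n k))

variable (k n) in
/-- `O^b ≅ O(0)^b` -/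
def sigmaUnitIso (b : ℕ) :
    (∐ fun _ : Fin b => Coh.structureModule (CohB1.ProjSpace n k)) ≅
      (∐ fun _ : Fin b => Twist.twistProjSpace n k 0) :=
  Sigma.mapIso (fun _ => TwistPn.zeroIso n k)

lemma subsingleton_HH_sigmaUnit_twist (b : ℕ) (d : ℤ) (q : ℕ)
    (h : Subsingleton (Coh.HH (CohB1.ProjSpace n k) (Twist.twistProjSpace n k (0 + d)) q)) :
    Subsingleton (Coh.HH (CohB1.ProjSpace n k)
      (CohB1.tensorMod (∐ fun _ : Fin b => Coh.structureModule (CohB1.ProjSpace n k))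
        (Twist.twistProjSpace n k d)) q) :=
  subsingleton_of_iso (tensorIso (sigmaUnitIso k n b).symm (Iso.refl _)) q
    (subsingleton_HH_sigma_twist b 0 d q h)

lemma isCoh_sigmaUnit (b : ℕ) :
    Coh.IsCoh (∐ fun _ : Fin b => Coh.structureModule (CohB1.ProjSpace n k)) := by
  have : IsLocallyNoetherian (CohB1.ProjSpace n k) :=
    Groth.Agent.Lib.Lead.SerreFin.isLocallyNoetherian_projSpace n k
  exact Groth.Agent.Lib.helper7.CohKer.isCoh_of_iso (sigmaUnitIso k n b).symm (isCoh_sigma b 0)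

lemma shortExact_biprod {C : Type*} [Category C] [Abelian C] (A B : C) :
    (ShortComplex.mk (biprod.inl : A ⟶ A ⊞ B) (biprod.snd : A ⊞ B ⟶ B)
      biprod.inl_snd).ShortExact :=
  (ShortComplex.Splitting.ofHasBinaryBiproduct A B).shortExact

lemma subsingleton_HH_mid (a b : ℕ) (d : ℤ) (q : ℕ)
    (h1 : Subsingleton (Coh.HH (CohB1.ProjSpace n k) (Twist.twistProjSpace n k (-1 + d)) q))
    (h0 : Subsingleton (Coh.HH (CohB1.ProjSpace n k) (Twist.twistProjSpace n k (0 + d)) q)) :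
    Subsingleton (Coh.HH (CohB1.ProjSpace n k)
      (CohB1.tensorMod (mid k n a b) (Twist.twistProjSpace n k d)) q) :=
  subsingleton_X₂ (shortExact_twistSC n k d (shortExact_biprod _ _)) q
    (subsingleton_HH_sigma_twist a (-1) d q h1) (subsingleton_HH_sigmaUnit_twist b d q h0)

lemma isCoh_mid (a b : ℕ) : Coh.IsCoh (mid k n a b) :=
  Groth.Agent.Lib.Lead.HilbPos.isCoh_of_extension _ (shortExact_biprod _ _)
    (isCoh_sigma a (-1)) (isCoh_sigmaUnit b)

end Pn

section P2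

variable {k : Type u} [Field k]

/-- a coherent module on `P²` with `H^0(N(1)) = H^1(N(1)) = H^1(N) = H^2(N) = 0` is `O(-2)^b` -/
theorem iso_sigma_of_vanishing {N : (CohB1.ProjSpace 2 k).Modules} (hN : Coh.IsCoh N)
    (h01 : Subsingleton (Coh.HH (CohB1.ProjSpace 2 k)
      (CohB1.tensorMod N (Twist.twistProjSpace 2 k 1)) 0))
    (h11 : Subsingleton (Coh.HH (CohB1.ProjSpace 2 k)
      (CohB1.tensorMod N (Twist.twistProjSpace 2 k 1)) 1))
    (h10 : Subsingleton (Coh.HH (CohB1.ProjSpace 2 k)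
      (CohB1.tensorMod N (Twist.twistProjSpace 2 k 0)) 1))
    (h20 : Subsingleton (Coh.HH (CohB1.ProjSpace 2 k)
      (CohB1.tensorMod N (Twist.twistProjSpace 2 k 0)) 2)) :
    ∃ b : ℕ, Nonempty ((∐ fun _ : Fin b => Twist.twistProjSpace 2 k (-2)) ≅ N) := by
  have hreg : Curv2.IsMRegular k 2 N 2 := by
    intro i hi1 hi2
    interval_cases i
    · have e : (2 : ℤ) - ((1 : ℕ) : ℤ) = 1 := by norm_num
      rw [e]; exact h11
    · have e : (2 : ℤ) - ((2 : ℕ) : ℤ) = 0 := by norm_num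
      rw [e]; exact h20
  obtain ⟨b, ψ, hψ, -, hK0⟩ := exists_res_min hN 2 hreg
  have hKcoh := isCoh_kernel hN ψ
  have hT : ∀ d : ℤ, (twistSC 2 k d
      (ShortComplex.mk (kernel.ι ψ) ψ (kernel.condition ψ))).ShortExact := fun d =>
    shortExact_twistSC 2 k d (shortExact_kernel ψ)
  have hKreg : Curv2.IsMRegular k 2 (kernel ψ) 2 := by
    intro i hi1 hi2
    interval_cases i
    · have e : (2 : ℤ) - ((1 : ℕ) : ℤ) = 1 := by norm_num
      rw [e]
      exact subsingleton_X₁_succ (hT 1) 0 h01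
        (subsingleton_HH_sigma_twist b (-2) 1 1
          (Groth.Agent.S0844.result k 2 (-2 + 1) 1 (by omega) (by norm_num)))
    · have e : (2 : ℤ) - ((2 : ℕ) : ℤ) = 0 := by norm_num
      rw [e]
      exact subsingleton_X₁_succ (hT 0) 1 h10
        (subsingleton_HH_sigma_twist b (-2) 0 2
          (Groth.Agent.S0844.result k 2 (-2 + 0) 2 (by omega) (by norm_num)))
  have hgg := gg_of_regular hKcoh hKreg
  have hz : IsZero (kernel ψ) :=
    isZero_of_isZero_twist _ 2 (isZero_of_gg_of_subsingleton hgg hK0)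
  haveI : Mono ψ := Preadditive.mono_of_kernel_zero (hz.eq_of_src _ _)
  haveI : IsIso ψ := isIso_of_mono_of_epi ψ
  exact ⟨b, ⟨asIso ψ⟩⟩

/-- (⇐): the cohomological conditions give a Gaeta resolution -/
theorem exists_resolution (F : (CohB1.ProjSpace 2 k).Modules) (hF : Coh.IsCoh F)
    (h2 : Subsingleton (Coh.HH (CohB1.ProjSpace 2 k)
      (CohB1.tensorMod F (Twist.twistProjSpace 2 k (-1))) 2))
    (h3 : Subsingleton (Coh.HH (CohB1.ProjSpace 2 k) F 1))
    (hμ : Function.Injective (mulMap (k := k) (Twist.twistProjSpace 2 k (-1))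
      (Coh.structureModule (CohB1.ProjSpace 2 k)) F)) :
    ∃ (a₁ a₂ a₃ : ℕ) (S : ShortComplex (CohB1.ProjSpace 2 k).Modules), S.ShortExact ∧
      Nonempty (S.X₁ ≅ ∐ fun _ : Fin a₁ => Twist.twistProjSpace 2 k (-2)) ∧
      Nonempty (S.X₂ ≅ mid k 2 a₂ a₃) ∧ Nonempty (S.X₃ ≅ F) := by
  have hreg : Curv2.IsMRegular k 2 F 1 := by
    intro i hi1 hi2
    interval_cases i
    · have e : (1 : ℤ) - ((1 : ℕ) : ℤ) = 0 := by norm_num
      rw [e]; exact subsingleton_of_iso (twistZeroIso 2 k F).symm 1 h3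
    · have e : (1 : ℤ) - ((2 : ℕ) : ℤ) = -1 := by norm_num
      rw [e]; exact h2
  have hgg := gg_of_regular hF hreg
  haveI : IsProper (CohB1.ProjSpace 2 k ↘ Spec (CommRingCat.of k)) :=
    Groth.Agent.Lib.helper19.ProjSpaceProper.proper_toSpec 2 k
  haveI hfinA : Module.Finite k (Coh.structureModule (CohB1.ProjSpace 2 k) ⟶ F) :=
    Groth.Agent.Lib.Lead.KS.finite_hom k (CohB1.ProjSpace 2 k) isCoh_unit hF
  haveI hfinB : Module.Finite k (Twist.twistProjSpace 2 k (-1) ⟶ F) :=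
    Groth.Agent.Lib.Lead.KS.finite_hom k (CohB1.ProjSpace 2 k) (isCoh_O (-1)) hF
  obtain ⟨a, b, φ, hA, hB, hC⟩ := exists_gaeta_map (k := k) (Twist.twistProjSpace 2 k (-1))
    (Coh.structureModule (CohB1.ProjSpace 2 k)) F hμ
  have hC' := hC (end_scalar k (eTw (n := 2) (k := k) (-1) 1 (by norm_num)) finrank_H0_unit)
  have hs0 : Function.Surjective (map (tensorMap φ (𝟙 (Twist.twistProjSpace 2 k 0))) 0) :=
    surjective_of_lift eUnit φ hA
  have hs1 : Function.Surjective (map (tensorMap φ (𝟙 (Twist.twistProjSpace 2 k 1))) 0) :=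
    surjective_of_lift (eTw (-1) 1 (by norm_num)) φ hB
  have hi1 : Function.Injective (map (tensorMap φ (𝟙 (Twist.twistProjSpace 2 k 1))) 0) :=
    injective_of_ker (eTw (-1) 1 (by norm_num)) φ hC'
  have hepi1 : Epi (tensorMap φ (𝟙 (Twist.twistProjSpace 2 k 1))) :=
    epi_of_gg_of_surj hgg _ hs1
  haveI hepi : Epi φ := by
    haveI := isEquivalence_tensorRight (invIso 2 k 1)
    exact (tensorRight (Twist.twistProjSpace 2 k 1)).epi_of_epi_map hepi1
  have hNcoh : Coh.IsCoh (kernel φ) := by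
    have : IsLocallyNoetherian (CohB1.ProjSpace 2 k) :=
      Groth.Agent.Lib.Lead.SerreFin.isLocallyNoetherian_projSpace 2 k
    exact Groth.Agent.Lib.helper7.CohKer.isCoh_kernel (isCoh_mid a b) hF φ
  have hT : ∀ d : ℤ, (twistSC 2 k d
      (ShortComplex.mk (kernel.ι φ) φ (kernel.condition φ))).ShortExact := fun d =>
    shortExact_twistSC 2 k d (shortExact_kernel φ)
  have h01 : Subsingleton (Coh.HH (CohB1.ProjSpace 2 k)
      (CohB1.tensorMod (kernel φ) (Twist.twistProjSpace 2 k 1)) 0) :=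
    subsingleton_X₁_zero_of_inj (hT 1) hi1
  have h11 : Subsingleton (Coh.HH (CohB1.ProjSpace 2 k)
      (CohB1.tensorMod (kernel φ) (Twist.twistProjSpace 2 k 1)) 1) :=
    subsingleton_X₁_one_of_surj (hT 1) hs1
      (subsingleton_HH_mid a b 1 1
        (Groth.Agent.S0844.result k 2 (-1 + 1) 1 (by omega) (by norm_num))
        (Groth.Agent.S0844.result k 2 (0 + 1) 1 (by omega) (by norm_num)))
  have h10 : Subsingleton (Coh.HH (CohB1.ProjSpace 2 k)
      (CohB1.tensorMod (kernel φ) (Twist.twistProjSpace 2 k 0)) 1) :=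
    subsingleton_X₁_one_of_surj (hT 0) hs0
      (subsingleton_HH_mid a b 0 1
        (Groth.Agent.S0844.result k 2 (-1 + 0) 1 (by omega) (by norm_num))
        (Groth.Agent.S0844.result k 2 (0 + 0) 1 (by omega) (by norm_num)))
  have h20 : Subsingleton (Coh.HH (CohB1.ProjSpace 2 k)
      (CohB1.tensorMod (kernel φ) (Twist.twistProjSpace 2 k 0)) 2) :=
    subsingleton_X₁_succ (hT 0) 1 (subsingleton_of_iso (twistZeroIso 2 k F).symm 1 h3)
      (subsingleton_HH_mid a b 0 2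
        (Groth.Agent.S0844.result k 2 (-1 + 0) 2 (by omega) (by norm_num))
        (Groth.Agent.S0844.result k 2 (0 + 0) 2 (by omega) (by norm_num)))
  obtain ⟨c, ⟨ψ⟩⟩ := iso_sigma_of_vanishing hNcoh h01 h11 h10 h20
  have hzero : (ψ.hom ≫ kernel.ι φ) ≫ φ = 0 := by
    rw [Category.assoc, kernel.condition, comp_zero]
  have eS : ShortComplex.mk (kernel.ι φ) φ (kernel.condition φ) ≅
      ShortComplex.mk (ψ.hom ≫ kernel.ι φ) φ hzero :=
    ShortComplex.isoMk ψ.symm (Iso.refl _) (Iso.refl _) (by simp) (by simp)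
  exact ⟨c, a, b, ShortComplex.mk (ψ.hom ≫ kernel.ι φ) φ hzero,
    ShortComplex.shortExact_of_iso eS (shortExact_kernel φ), ⟨Iso.refl _⟩, ⟨Iso.refl _⟩,
    ⟨Iso.refl _⟩⟩

/-- (⇒): a Gaeta resolution gives the cohomological conditions -/
theorem conditions_of_resolution (F : (CohB1.ProjSpace 2 k).Modules) (hF : Coh.IsCoh F)
    (a₁ a₂ a₃ : ℕ) (S : ShortComplex (CohB1.ProjSpace 2 k).Modules) (hS : S.ShortExact)
    (e₁ : S.X₁ ≅ ∐ fun _ : Fin a₁ => Twist.twistProjSpace 2 k (-2))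
    (e₂ : S.X₂ ≅ mid k 2 a₂ a₃) (e₃ : S.X₃ ≅ F) :
    Subsingleton (Coh.HH (CohB1.ProjSpace 2 k)
        (CohB1.tensorMod F (Twist.twistProjSpace 2 k (-1))) 0) ∧
      Subsingleton (Coh.HH (CohB1.ProjSpace 2 k)
        (CohB1.tensorMod F (Twist.twistProjSpace 2 k (-1))) 2) ∧
      Subsingleton (Coh.HH (CohB1.ProjSpace 2 k) F 1) ∧
      Subsingleton (Coh.HH (CohB1.ProjSpace 2 k) F 2) ∧
      Subsingleton (Coh.HH (CohB1.ProjSpace 2 k)
        (CohB1.tensorMod F (Twist.twistProjSpace 2 k 1)) 1) ∧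
      Subsingleton (Coh.HH (CohB1.ProjSpace 2 k)
        (CohB1.tensorMod F (Twist.twistProjSpace 2 k 1)) 2) ∧
      Function.Injective (mulMap (k := k) (Twist.twistProjSpace 2 k (-1))
        (Coh.structureModule (CohB1.ProjSpace 2 k)) F) := by
  have hzero : (e₁.inv ≫ S.f ≫ e₂.hom) ≫ (e₂.inv ≫ S.g ≫ e₃.hom) = 0 := by
    simp
  have eS : S ≅ ShortComplex.mk (e₁.inv ≫ S.f ≫ e₂.hom) (e₂.inv ≫ S.g ≫ e₃.hom) hzero :=
    ShortComplex.isoMk e₁ e₂ e₃ (by simp) (by simp)
  have hS' := ShortComplex.shortExact_of_iso eS hS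
  have hT : ∀ d : ℤ, (twistSC 2 k d
      (ShortComplex.mk (e₁.inv ≫ S.f ≫ e₂.hom) (e₂.inv ≫ S.g ≫ e₃.hom) hzero)).ShortExact :=
    fun d => shortExact_twistSC 2 k d hS'
  have hv : ∀ (d : ℤ) (q : ℕ), ¬ (q = 0 ∧ 0 ≤ -1 + d) → ¬ (q = 0 ∧ 0 ≤ 0 + d) →
      ¬ (q = 2 ∧ -1 + d ≤ -3) → ¬ (q = 2 ∧ 0 + d ≤ -3) → ¬ (q + 1 = 2 ∧ -2 + d ≤ -3) →
      Subsingleton (Coh.HH (CohB1.ProjSpace 2 k)
        (CohB1.tensorMod F (Twist.twistProjSpace 2 k d)) q) := by
    intro d q c1 c2 c3 c4 c5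
    exact subsingleton_X₃ (hT d) q
      (subsingleton_HH_mid a₂ a₃ d q
        (Groth.Agent.S0844.result k 2 (-1 + d) q c1 (by push_cast; omega))
        (Groth.Agent.S0844.result k 2 (0 + d) q c2 (by push_cast; omega)))
      (subsingleton_HH_sigma_twist a₁ (-2) d (q + 1)
        (Groth.Agent.S0844.result k 2 (-2 + d) (q + 1) (by omega)
          (by push_cast; omega)))
  refine ⟨hv (-1) 0 (by omega) (by omega) (by omega) (by omega) (by omega),
    hv (-1) 2 (by omega) (by omega) (by omega) (by omega) (by omega),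
    subsingleton_of_iso (twistZeroIso 2 k F) 1
      (hv 0 1 (by omega) (by omega) (by omega) (by omega) (by omega)),
    subsingleton_of_iso (twistZeroIso 2 k F) 2
      (hv 0 2 (by omega) (by omega) (by omega) (by omega) (by omega)),
    hv 1 1 (by omega) (by omega) (by omega) (by omega) (by omega),
    hv 1 2 (by omega) (by omega) (by omega) (by omega) (by omega), ?_⟩
  haveI : IsProper (CohB1.ProjSpace 2 k ↘ Spec (CommRingCat.of k)) :=
    Groth.Agent.Lib.helper19.ProjSpaceProper.proper_toSpec 2 k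
  haveI hfinW : Module.Finite k (Twist.twistProjSpace 2 k (-1) ⟶
      Coh.structureModule (CohB1.ProjSpace 2 k)) :=
    Groth.Agent.Lib.Lead.KS.finite_hom k (CohB1.ProjSpace 2 k) (isCoh_O (-1)) isCoh_unit
  refine injective_of_gaeta (k := k) (Twist.twistProjSpace 2 k (-1))
    (Coh.structureModule (CohB1.ProjSpace 2 k)) F (e₂.inv ≫ S.g ≫ e₃.hom) ?_ ?_ ?_ ?_
  · intro t
    exact exists_lift eUnit hS'
      (subsingleton_HH_sigma_twist a₁ (-2) 0 1
        (Groth.Agent.S0844.result k 2 (-2 + 0) 1 (by omega) (by norm_num))) t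
  · intro t' ht'
    haveI := hS'.mono_f
    have h1 := hS'.exact.lift_f t' ht'
    have h2 : hS'.exact.lift t' ht' = 0 :=
      hom_eq_zero_of_subsingleton (eTw (n := 2) (k := k) (-1) 1 (by norm_num))
        (subsingleton_HH_sigma_twist a₁ (-2) 1 0
          (Groth.Agent.S0844.result k 2 (-2 + 1) 0 (by omega) (by norm_num))) _
    rw [← h1, h2, zero_comp]
  · exact end_unit_scalar k finrank_H0_unit
  · intro f
    exact hom_eq_zero_of_subsingleton eUnit
      (subsingleton_of_iso (TwistPn.tensorIso 2 k (-1) 0).symm 0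
        (Groth.Agent.S0844.result k 2 (-1 + 0) 0 (by omega) (by norm_num))) f

end P2

end

end Groth.Agent.Lib.helper20.Gaeta
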