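import Mathlib

/-!
# Homogeneous components and degree-shifting additive maps (helper20)

`decompose_map_shift`: an additive map `u : M → N` between graded groups carrying `ℳ l` into `𝒩 (φ l)` for an
injective `φ` commutes with taking homogeneous components.
-/

set_option autoImplicit false

namespace Groth.Agent.Lib.helper20.GrDecomp

open DirectSum

section

variable {ι ι' : Type*} [DecidableEq ι] [DecidableEq ι']
variable {M N σ τ : Type*} [AddCommMonoid M] [AddCommMonoid N] [SetLike σ M] [AddSubmonoidClass σ M]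
  [SetLike τ N] [AddSubmonoidClass τ N] (ℳ : ι → σ) (𝒩 : ι' → τ) [Decomposition ℳ] [Decomposition 𝒩]

theorem decompose_map_shift (φ : ι → ι') (hφ : Function.Injective φ) (u : M →+ N)
    (hu : ∀ (l : ι) (m : M), m ∈ ℳ l → u m ∈ 𝒩 (φ l)) (x : M) (j : ι) :
    (decompose 𝒩 (u x) (φ j) : N) = u (decompose ℳ x j : M) := by
  classical
  conv_lhs => rw [← DirectSum.sum_support_decompose ℳ x, map_sum, DirectSum.decompose_sum]
  rw [DFinsupp.finsetSum_apply, AddSubmonoidClass.coe_finsetSum]
  by_cases hj : j ∈ (decompose ℳ x).support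
  · rw [Finset.sum_eq_single j]
    · rw [DirectSum.decompose_of_mem_same 𝒩 (hu j _ (SetLike.coe_mem _))]
    · intro l _ hlj
      rw [DirectSum.decompose_of_mem_ne 𝒩 (hu l _ (SetLike.coe_mem _)) (hφ.ne hlj)]
    · intro h; exact absurd hj h
  · have h0 : (decompose ℳ x j : M) = 0 := by
      have := DFinsupp.notMem_support_iff.mp hj
      rw [this]; rfl
    rw [h0, map_zero]
    refine Finset.sum_eq_zero fun l hl => ?_
    have hlj : l ≠ j := fun h => hj (h ▸ hl)
    rw [DirectSum.decompose_of_mem_ne 𝒩 (hu l _ (SetLike.coe_mem _)) (hφ.ne hlj)]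

/-- components outside the image of `φ` vanish -/
theorem decompose_map_shift_of_notMem (φ : ι → ι') (u : M →+ N)
    (hu : ∀ (l : ι) (m : M), m ∈ ℳ l → u m ∈ 𝒩 (φ l)) (x : M) (j' : ι')
    (hj' : ∀ l, φ l ≠ j') : (decompose 𝒩 (u x) j' : N) = 0 := by
  classical
  conv_lhs => rw [← DirectSum.sum_support_decompose ℳ x, map_sum, DirectSum.decompose_sum]
  rw [DFinsupp.finsetSum_apply, AddSubmonoidClass.coe_finsetSum]
  refine Finset.sum_eq_zero fun l _ => ?_
  rw [DirectSum.decompose_of_mem_ne 𝒩 (hu l _ (SetLike.coe_mem _)) (hj' l)]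

end

end Groth.Agent.Lib.helper20.GrDecomp
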