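import Mathlib
import Groth.Agent.Lib.Helper20.KosCone

/-!
# The terms of the Koszul complex as coproducts, and reindexing (helper20)
-/

set_option autoImplicit false
universe v u

open CategoryTheory CategoryTheory.Limits

namespace Groth.Agent.Lib.helper20.KosCone

noncomputable section

variable {𝒜 : Type u} [Category.{v} 𝒜] [Preadditive 𝒜] [HasBinaryBiproducts 𝒜]
  [HasZeroObject 𝒜] [HasFiniteCoproducts 𝒜]

lemma coprod_zero (Y : 𝒜) {X : 𝒜} (h : IsZero X) :
    Nonempty (X ≅ ∐ fun _ : Fin 0 => Y) := by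
  have hI : IsInitial (∐ fun _ : Fin 0 => Y) := by
    refine IsInitial.ofUniqueHom (fun Z => Sigma.desc fun i => i.elim0) ?_
    intro Z m
    apply Sigma.hom_ext
    intro i
    exact i.elim0
  have hz : IsZero (∐ fun _ : Fin 0 => Y) := by
    rw [IsZero.iff_id_eq_zero]
    exact hI.hom_ext _ _
  exact ⟨h.iso hz⟩

lemma coprod_one (Y : 𝒜) : Nonempty (Y ≅ ∐ fun _ : Fin 1 => Y) := by
  refine ⟨⟨Sigma.ι (fun _ : Fin 1 => Y) 0, Sigma.desc fun _ => 𝟙 Y, by simp, ?_⟩⟩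
  apply Sigma.hom_ext
  intro i
  have : i = 0 := Subsingleton.elim _ _
  subst this
  simp

lemma coprod_add (Y : 𝒜) {X₁ X₂ : 𝒜} {p q : ℕ} (e₁ : X₁ ≅ ∐ fun _ : Fin p => Y)
    (e₂ : X₂ ≅ ∐ fun _ : Fin q => Y) : Nonempty (X₁ ⊞ X₂ ≅ ∐ fun _ : Fin (p + q) => Y) := by
  let f₁ : Fin p → 𝒜 := fun _ => Y
  let f₂ : Fin q → 𝒜 := fun _ => Y
  have hcomb := Cofan.combPairIsColimit (coproductIsCoproduct f₁) (coproductIsCoproduct f₂)
    (coprodIsCoprod (∐ f₁) (∐ f₂))
  let e₃ : (∐ f₁) ⨿ (∐ f₂) ≅ ∐ (Sum.elim f₁ f₂) :=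
    IsColimit.coconePointUniqueUpToIso hcomb (coproductIsCoproduct (Sum.elim f₁ f₂))
  let e₄ : ∐ (Sum.elim f₁ f₂) ≅ ∐ fun _ : Fin (p + q) => Y :=
    Sigma.whiskerEquiv finSumFinEquiv (fun j => by
      cases j <;> exact Iso.refl _)
  exact ⟨biprod.mapIso e₁ e₂ ≪≫ biprod.isoCoprod _ _ ≪≫ e₃ ≪≫ e₄⟩

lemma coprod_cast (Y : 𝒜) {X : 𝒜} {p q : ℕ} (h : p = q)
    (e : Nonempty (X ≅ ∐ fun _ : Fin p => Y)) : Nonempty (X ≅ ∐ fun _ : Fin q => Y) := by
  subst h; exact e

/-- the terms of the Koszul complex are coproducts of `m.choose j` copies -/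
theorem kos_X_iso_coprod (G : GrOp 𝒜) :
    ∀ (m : ℕ) (a i : ℤ) (j : ℕ), i + m = j → ∀ b : ℤ, b = a + j →
      Nonempty (((kos G m).M a).X i ≅ ∐ fun _ : Fin (m.choose j) => G.M b) := by
  intro m
  induction m with
  | zero =>
    intro a i j hij b hb
    rcases Nat.eq_zero_or_pos j with rfl | hj
    · have hi : i = 0 := by simpa using hij
      subst hi
      have hb' : b = a := by simpa using hb
      subst hb'
      obtain ⟨e⟩ := coprod_one (G.M b)
      exact ⟨HomologicalComplex.singleObjXSelf (ComplexShape.up ℤ) 0 (G.M b) ≪≫ e⟩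
    · have hz : IsZero (((kos G 0).M a).X i) :=
        kos_isZero G 0 a i (Or.inl (by push_cast at hij; omega))
      exact coprod_cast _ (Nat.choose_eq_zero_of_lt hj).symm (coprod_zero _ hz)
  | succ m ih =>
    intro a i j hij b hb
    obtain ⟨e₁⟩ := ih a (i + 1) j (by push_cast at hij; omega) b hb
    rcases Nat.eq_zero_or_pos j with rfl | hj
    · have hz : IsZero (((kos G m).M (a + 1)).X i) :=
        kos_isZero G m (a + 1) i (Or.inr (by push_cast at hij; omega))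
      obtain ⟨e₂⟩ := coprod_zero (G.M b) hz
      obtain ⟨e⟩ := coprod_add (G.M b) e₁ e₂
      exact coprod_cast _ (by simp) ⟨stepXIso (kos G m) a i ≪≫ e⟩
    · obtain ⟨j', rfl⟩ : ∃ j', j = j' + 1 := ⟨j - 1, by omega⟩
      obtain ⟨e₂⟩ := ih (a + 1) i j' (by push_cast at hij; omega) b (by rw [hb]; push_cast; ring)
      obtain ⟨e⟩ := coprod_add (G.M b) e₁ e₂
      exact coprod_cast _ (by rw [Nat.choose_succ_succ, add_comm]) ⟨stepXIso (kos G m) a i ≪≫ e⟩

end

section Reindex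

variable {𝒜 : Type u} [Category.{v} 𝒜] [Abelian 𝒜]

/-- translation of the degrees of a cochain complex -/
def reindex (K : CochainComplex 𝒜 ℤ) (s : ℤ) : CochainComplex 𝒜 ℤ where
  X i := K.X (i + s)
  d i j := K.d (i + s) (j + s)
  shape i j h := K.shape _ _ (by simp only [ComplexShape.up_Rel] at h ⊢; omega)
  d_comp_d' i j k _ _ := K.d_comp_d _ _ _

lemma reindex_exactAt (K : CochainComplex 𝒜 ℤ) (s i : ℤ) (h : K.ExactAt (i + s)) :
    (reindex K s).ExactAt i := by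
  rw [HomologicalComplex.exactAt_iff' _ (i - 1) i (i + 1) (by simp) (by simp)]
  rw [HomologicalComplex.exactAt_iff' _ (i - 1 + s) (i + s) (i + 1 + s) (by simp; omega)
    (by simp; omega)] at h
  exact h

end Reindex

end Groth.Agent.Lib.helper20.KosCone
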