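import Mathlib
import Groth.Prelude.Def_LefPen
import Groth.Agent.Lib.Helper20.HypIdeal3
import Groth.Agent.Lib.Helper20.ClosedImmHHLin
import Groth.Agent.Lib.Helper18.HHConseq
import Groth.Agent.Lib.Helper18.HHSum

/-!
# Cohomology of the structure sheaf of a hypersurface in `P^n_k` (helper20)

For `G ≠ 0` of degree `d`, `C = V(G) ⊆ P = P^n_k`:
* `equiv_of_vanish_left`: if `H^p(P, O(-d)) = 0 = H^{p+1}(P, O(-d))` then `H^p(P, O) ≃ₗ[k] H^p(C, O_C)`;
* `equiv_of_vanish_mid`: if `H^p(P, O) = 0 = H^{p+1}(P, O)` then `H^p(C, O_C) ≃ₗ[k] H^{p+1}(P, O(-d))`.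
-/

set_option autoImplicit false
universe u

open CategoryTheory CategoryTheory.Limits AlgebraicGeometry Opposite TopologicalSpace MvPolynomial

namespace Groth.Agent.Lib.helper20.HypIdeal

open Groth.Agent.Lib.Helper18.HH Groth.Agent.Lib.Helper20.ClosedImmHH

variable {n : ℕ} {k : Type u} [Field k]

section

variable {d : ℕ} (G : LefPen.Form n k d) (hG : G ≠ 0)
  [inst : ((hypJ G).subscheme).Over (Spec (CommRingCat.of k))]
  (hinst : (hypJ G).subscheme ↘ (Spec (CommRingCat.of k)) =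
    (hypJ G).subschemeι ≫ CohB1.ProjSpace.toSpec n k)

include hinst in
theorem isOver_subschemeι :
    (hypJ G).subschemeι.IsOver (Spec (CommRingCat.of k)) := ⟨by rw [hinst]; rfl⟩

include hinst in
/-- `H^p(P, ι_* O_C) ≃ₗ[k] H^p(C, O_C)` -/
theorem nonempty_pushEquiv (p : ℕ) : Nonempty (
    Coh.HH (Proj (CohB1.polyGrading n k)) (hypSeq G).X₃ p ≃ₗ[k]
      Coh.HH (hypJ G).subscheme (Coh.structureModule (hypJ G).subscheme) p) :=
  haveI := isOver_subschemeι G hinst
  ⟨pushEquivLin (hypJ G).subschemeι k (Coh.structureModule (hypJ G).subscheme) p⟩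

include hG hinst in
/-- if `H^p(O(-d)) = 0 = H^{p+1}(O(-d))` then `H^p(P, O) ≃ H^p(C, O_C)` -/
theorem equiv_of_vanish_left (p : ℕ)
    (h1 : Subsingleton (Coh.HH (CohB1.ProjSpace n k) (Twist.twistProjSpace n k (-(d : ℤ))) p))
    (h2 : Subsingleton (Coh.HH (CohB1.ProjSpace n k) (Twist.twistProjSpace n k (-(d : ℤ))) (p + 1))) :
    Nonempty (Coh.HH (CohB1.ProjSpace n k) (Coh.structureModule (CohB1.ProjSpace n k)) p ≃ₗ[k]
      Coh.HH (hypJ G).subscheme (Coh.structureModule (hypJ G).subscheme) p) := by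
  have hS := hypSeq_shortExact G hG
  let e1 : Coh.HH (Proj (CohB1.polyGrading n k)) (hypSeq G).X₂ p ≃ₗ[k]
      Coh.HH (Proj (CohB1.polyGrading n k)) (hypSeq G).X₃ p :=
    LinearEquiv.ofBijective (mapOver k (hypSeq G).g p)
      ⟨injective_map_g hS p h1, surjective_map_g hS p h2⟩
  obtain ⟨e2⟩ := nonempty_pushEquiv G hinst p
  exact ⟨e1.trans e2⟩

include hG hinst in
/-- if `H^p(O) = 0 = H^{p+1}(O)` then `H^p(C, O_C) ≃ H^{p+1}(P, O(-d))` -/
theorem equiv_of_vanish_mid (p : ℕ)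
    (h1 : Subsingleton (Coh.HH (CohB1.ProjSpace n k) (Coh.structureModule (CohB1.ProjSpace n k)) p))
    (h2 : Subsingleton (Coh.HH (CohB1.ProjSpace n k) (Coh.structureModule (CohB1.ProjSpace n k))
      (p + 1))) :
    Nonempty (Coh.HH (hypJ G).subscheme (Coh.structureModule (hypJ G).subscheme) p ≃ₗ[k]
      Coh.HH (CohB1.ProjSpace n k) (Twist.twistProjSpace n k (-(d : ℤ))) (p + 1)) := by
  have hS := hypSeq_shortExact G hG
  let e1 : Coh.HH (Proj (CohB1.polyGrading n k)) (hypSeq G).X₃ p ≃ₗ[k]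
      Coh.HH (Proj (CohB1.polyGrading n k)) (hypSeq G).X₁ (p + 1) :=
    LinearEquiv.ofBijective (δOver hS k p)
      ⟨injective_δ hS p h1, surjective_δ hS p h2⟩
  obtain ⟨e2⟩ := nonempty_pushEquiv G hinst p
  exact ⟨e2.symm.trans e1⟩

include hG hinst in
/-- vanishing transfer: `H^p(O) = 0` and `H^{p+1}(O(-d)) = 0` give `H^p(C, O_C) = 0` -/
theorem subsingleton_of_vanish (p : ℕ)
    (h1 : Subsingleton (Coh.HH (CohB1.ProjSpace n k) (Coh.structureModule (CohB1.ProjSpace n k)) p))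
    (h2 : Subsingleton (Coh.HH (CohB1.ProjSpace n k) (Twist.twistProjSpace n k (-(d : ℤ))) (p + 1))) :
    Subsingleton (Coh.HH (hypJ G).subscheme (Coh.structureModule (hypJ G).subscheme) p) := by
  have hS := hypSeq_shortExact G hG
  have h3 : Subsingleton (Coh.HH (Proj (CohB1.polyGrading n k)) (hypSeq G).X₃ p) :=
    subsingleton_X₃ hS p h1 h2
  obtain ⟨e2⟩ := nonempty_pushEquiv G hinst p
  exact e2.symm.injective.subsingleton

end

end Groth.Agent.Lib.helper20.HypIdeal
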