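import Mathlib
import Groth.Agent.Lib.Helper20.SplitP1
import Groth.Agent.Lib.Helper11.CounitEpi

/-!
# Coherent modules on `P^0_k` are free (helper20)
-/

set_option autoImplicit false
universe u

open CategoryTheory CategoryTheory.Limits AlgebraicGeometry Opposite TopologicalSpace

namespace Groth.Agent.Lib.helper20.SplitP0

open Groth.Agent.Lib.Helper18.HH Groth.Agent.Lib.helper20.Horrocks
  Groth.Agent.Lib.Helper20.TwistEquivPn Groth.Agent.Lib.helper20.CMGG
  Groth.Agent.Lib.Lead.ModTensor Groth.Agent.Lib.Helper20.TensorEquiv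
  Groth.Agent.Lib.helper20.MumfordLemma Groth.Agent.Lib.helper28
  Groth.Agent.Lib.helper20.H0Vanish Groth.Agent.Lib.helper16.FLF
  Groth.Agent.Lib.Lead.SerreFin Groth.Agent.Lib.helper20.LinRes

noncomputable section

variable {k : Type u} [Field k] {n : ℕ}

/-- `P^0_k` is affine -/
instance isAffine_projSpace_zero (R : Type u) [CommRing R] : IsAffine (CohB1.ProjSpace 0 R) := by
  have htop : Proj.basicOpen (CohB1.polyGrading 0 R) (MvPolynomial.X 0) = ⊤ := by
    rw [eq_top_iff]
    intro x _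
    obtain ⟨i, hi⟩ := TwistPn.exists_X_notMem 0 R x
    have : i = 0 := Fin.fin_one_eq_zero i
    subst this
    exact (Proj.mem_basicOpen _ _ x).2 hi
  have h1 : IsAffineOpen (Proj.basicOpen (CohB1.polyGrading 0 R) (MvPolynomial.X 0)) :=
    Proj.isAffineOpen_basicOpen (CohB1.polyGrading 0 R) (MvPolynomial.X 0)
      (MvPolynomial.isHomogeneous_X R 0) one_pos
  rw [htop] at h1
  have h2 : IsAffine ((⊤ : (Proj (CohB1.polyGrading 0 R)).Opens) : Scheme.{u}) := h1
  change IsAffine (Proj (CohB1.polyGrading 0 R))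
  exact IsAffine.of_isIso (Scheme.topIso (Proj (CohB1.polyGrading 0 R))).inv

/-- `h^0(P^n_k, O) = 1` -/
lemma finrank_H0_O :
    Module.finrank k (Coh.HH (CohB1.ProjSpace n k) (Coh.structureModule (CohB1.ProjSpace n k)) 0) = 1 := by
  rw [(isoEquivOver k (TwistPn.zeroIso n k) 0).finrank_eq]
  obtain ⟨E⟩ := Groth.Agent.S0843.result k n 0
  have h0 : Module.finrank k (Coh.HH (CohB1.ProjSpace n k) (Twist.twistProjSpace n k ((0 : ℕ) : ℤ)) 0) =
      Module.finrank k ↥(MvPolynomial.homogeneousSubmodule (Fin (n + 1)) k 0) := E.finrank_eq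
  have h1 := congrArg (fun S : Submodule k (MvPolynomial (Fin (n + 1)) k) => Module.finrank k S)
    (MvPolynomial.homogeneousSubmodule_zero (σ := Fin (n + 1)) (R := k))
  have h2 : Module.finrank k ↥(1 : Submodule k (MvPolynomial (Fin (n + 1)) k)) = 1 := by
    rw [Submodule.one_eq_span]
    exact finrank_span_singleton one_ne_zero
  exact h0.trans (h1.trans h2)

/-- spanning sections from a spanning family of `H^0` -/
lemma span_of_span {X : Scheme.{u}} (A : Type u) [CommRing A] [X.Over (Spec (CommRingCat.of A))]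
    (M : X.Modules) {b : ℕ} (s₀ : Fin b → Coh.HH X M 0)
    (hs₀ : Submodule.span A (Set.range s₀) = ⊤) :
    ∀ t : M.val.obj (op ⊤), ∃ c : Fin b → Coh.Γtop X, t = ∑ j, c j • (equiv₀ M (s₀ j)) := by
  intro t
  have hx : (equiv₀ M).symm t ∈ Submodule.span A (Set.range s₀) := by rw [hs₀]; trivial
  obtain ⟨c₀, hc₀⟩ := (Submodule.mem_span_range_iff_exists_fun A).1 hx
  refine ⟨fun j => Coh.toGlobal (X ↘ Spec (CommRingCat.of A)) (c₀ j), ?_⟩
  have h1 : t = equiv₀ M (∑ j, c₀ j • s₀ j) := by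
    rw [hc₀, LinearEquiv.apply_symm_apply]
  rw [h1, _root_.map_sum]
  refine Finset.sum_congr rfl fun j _ => ?_
  rw [smul_over_def, _root_.map_smul]


/-- a coherent module on `P^0_k` is free -/
theorem exists_iso_free {F : (CohB1.ProjSpace 0 k).Modules} (hF : Coh.IsCoh F) :
    ∃ b : ℕ, Nonempty (F ≅ ∐ fun _ : Fin b => Coh.structureModule (CohB1.ProjSpace 0 k)) := by
  have hqc : F.IsQuasicoherent := hF.1
  have hgg := Groth.Agent.Lib.helper11.CounitEpi.isGloballyGenerated_of_isAffine F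
  have hfin : Module.Finite k (Coh.HH (CohB1.ProjSpace 0 k) F 0) :=
    Groth.Agent.S0038.result 0 k F hF 0
  let B := Module.finBasis k (Coh.HH (CohB1.ProjSpace 0 k) F 0)
  let s : Fin (Module.finrank k (Coh.HH (CohB1.ProjSpace 0 k) F 0)) → F.val.obj (op ⊤) :=
    fun j => equiv₀ F (B j)
  have hspan := span_of_span k F (fun j => B j) B.span_eq
  have hepi : Epi (ψ F s) := epi_ψ hgg s hspan
  have hsurj : Function.Surjective (mapOver k (ψ F s) 0) := surj_ψ F s hspan
  -- dimension count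
  have hfinO : Module.Finite k (Coh.HH (CohB1.ProjSpace 0 k)
      (Coh.structureModule (CohB1.ProjSpace 0 k)) 0) := by
    apply Module.finite_of_finrank_pos
    rw [finrank_H0_O]
    exact one_pos
  have hdim : Module.finrank k (Coh.HH (CohB1.ProjSpace 0 k)
      (∐ fun _ : Fin (Module.finrank k (Coh.HH (CohB1.ProjSpace 0 k) F 0)) =>
        Coh.structureModule (CohB1.ProjSpace 0 k)) 0) =
      Module.finrank k (Coh.HH (CohB1.ProjSpace 0 k) F 0) := by
    rw [(sigmaEquivOver k (fun _ : Fin (Module.finrank k (Coh.HH (CohB1.ProjSpace 0 k) F 0)) =>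
      Coh.structureModule (CohB1.ProjSpace 0 k)) 0).finrank_eq, Module.finrank_pi_fintype k]
    simp [finrank_H0_O]
  have hfinS : Module.Finite k (Coh.HH (CohB1.ProjSpace 0 k)
      (∐ fun _ : Fin (Module.finrank k (Coh.HH (CohB1.ProjSpace 0 k) F 0)) =>
        Coh.structureModule (CohB1.ProjSpace 0 k)) 0) :=
    Module.Finite.equiv (sigmaEquivOver k (fun _ : Fin (Module.finrank k
      (Coh.HH (CohB1.ProjSpace 0 k) F 0)) => Coh.structureModule (CohB1.ProjSpace 0 k)) 0).symm
  have hinj : Function.Injective (mapOver k (ψ F s) 0) :=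
    (LinearMap.injective_iff_surjective_of_finrank_eq_finrank hdim).2 hsurj
  -- the kernel vanishes
  have hT := shortExact_kernel (ψ F s)
  have hinjK := injective_mapOver_f_zero hT k
  have hex := exactOver₂ hT k 0
  have hK0 : Subsingleton (Coh.HH (CohB1.ProjSpace 0 k) (kernel (ψ F s)) 0) := by
    refine ⟨fun x y => hinjK (hinj ?_)⟩
    have hx := hex.apply_apply_eq_zero x
    have hy := hex.apply_apply_eq_zero y
    exact hx.trans hy.symm
  have hqS : (∐ fun _ : Fin (Module.finrank k (Coh.HH (CohB1.ProjSpace 0 k) F 0)) =>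
      Coh.structureModule (CohB1.ProjSpace 0 k)).IsQuasicoherent :=
    (Groth.Agent.Lib.Lead.RankAdd.isCoh_of_isFinLocFree
      (isFinLocFree_sigma _ (fun _ => isFinLocFree_structureModule _))).1
  have hqK : (kernel (ψ F s)).IsQuasicoherent :=
    Groth.Agent.Lib.helper7.CohKer.isQuasicoherent_kernel (ψ F s)
  have hggK := Groth.Agent.Lib.helper11.CounitEpi.isGloballyGenerated_of_isAffine (kernel (ψ F s))
  have hKz : IsZero (kernel (ψ F s)) := isZero_of_gg_of_subsingleton hggK hK0
  have hmono : Mono (ψ F s) := Preadditive.mono_of_kernel_zero (hKz.eq_of_src _ _)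
  have hiso : IsIso (ψ F s) := isIso_of_mono_of_epi _
  exact ⟨_, ⟨(asIso (ψ F s)).symm⟩⟩

/-- a coherent module on `P^0_k` splits -/
theorem splits_P0 {F : (CohB1.ProjSpace 0 k).Modules} (hF : Coh.IsCoh F) : Splits (k := k) F := by
  obtain ⟨b, ⟨e⟩⟩ := exists_iso_free hF
  exact ⟨b, fun _ => 0, ⟨e ≪≫ Sigma.mapIso (fun _ => TwistPn.zeroIso 0 k)⟩⟩

end

end Groth.Agent.Lib.helper20.SplitP0
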