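import Mathlib
import Groth.Prelude.Def_LefPen
import Groth.Agent.Lib.Helper20.HypCoh
import Groth.Agent.Lib.Helper20.PushOPn
import Groth.Agent.Lib.Helper20.SplitP0
import Groth.Agent.Lib.Helper20.TwistEquivPn
import Groth.Agent.Lib.Helper7.RegInt
import Groth.Agent.Lib.Helper18.H0Field
import Groth.Agent.S0844

/-!
# `H^i(X, O_X)` for a hypersurface `X = V(G) ⊆ P^N_k`, `N ≥ 2` (helper20)

`structure_coh`: for `G` of degree `d < N + 1` (zero allowed): `H^i(X, O_X) = 0` for `i ≥ 1`, and
`k → Γ(X, O_X)` is bijective.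
-/

set_option autoImplicit false
universe u

open CategoryTheory CategoryTheory.Limits AlgebraicGeometry Opposite TopologicalSpace MvPolynomial

namespace Groth.Agent.Lib.helper20.HypIdeal

open Groth.Agent.Lib.Helper18.HH Groth.Agent.Lib.Helper20.ClosedImmHH

variable {n : ℕ} {k : Type u} [Field k]

theorem dh_zero (d : ℕ) (i : Fin (n + 1)) : dh (0 : LefPen.Form n k d) i = 0 := by
  refine Groth.Agent.Lib.helper28.TwistFree.O_ext' (CohB1.polyGrading n k) _ _ fun x => ?_
  rw [dh_val]
  have h2 : ((show Twist.O (𝒜 := CohB1.polyGrading n k) (op (ch n k i)) from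
      (0 : Γ(Proj (CohB1.polyGrading n k), ch n k i))).1 x).val = 0 :=
    HomogeneousLocalization.val_zero
  rw [h2]
  exact Localization.mk_zero _

theorem hypJ_zero (d : ℕ) : hypJ (0 : LefPen.Form n k d) = ⊥ := by
  refine Scheme.IdealSheafData.ext_of_iSup_eq_top (chA n k) iSup_ch (fun i => ?_)
  rw [hypJ_ideal_chart, dh_zero, Scheme.IdealSheafData.ideal_bot]
  exact Ideal.span_singleton_eq_bot.mpr rfl

theorem subsingleton_HH_O (q : ℕ) (hq : 1 ≤ q) :
    Subsingleton (Coh.HH (CohB1.ProjSpace n k) (Coh.structureModule (CohB1.ProjSpace n k)) q) := by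
  have h := Groth.Agent.S0844.result k n 0 q (fun h => by omega) (fun h => by omega)
  exact Groth.Agent.Lib.Helper20.TwistEquivPn.subsingleton_of_iso
    (Groth.Agent.Lib.helper28.TwistPn.zeroIso n k).symm q h

/-- the case of the zero ideal -/
theorem structure_coh_bot (I : (Proj (CohB1.polyGrading n k)).IdealSheafData) (hI : I = ⊥) :
    (∀ i : ℕ, 1 ≤ i → Subsingleton (Coh.HH I.subscheme (Coh.structureModule I.subscheme) i)) ∧
      Function.Bijective (I.subschemeι ≫ CohB1.ProjSpace.toSpec n k).appTop.hom := by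
  subst hI
  constructor
  · intro i hi
    rw [subsingleton_iff_push_closed
      (⊥ : (Proj (CohB1.polyGrading n k)).IdealSheafData).subschemeι]
    have h1 := subsingleton_HH_O (n := n) (k := k) i hi
    exact Groth.Agent.Lib.Helper20.TwistEquivPn.subsingleton_of_iso
      (asIso (ClSub.toSubscheme (⊥ : (Proj (CohB1.polyGrading n k)).IdealSheafData))) i h1
  · rw [Scheme.Hom.comp_appTop]
    have i1 : IsIso (CohB1.ProjSpace.toSpec n k).appTop :=
      Groth.Agent.Lib.Helper20.PushOPn.isIso_appTop_toSpec n k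
    have i2 : IsIso (⊥ : (Proj (CohB1.polyGrading n k)).IdealSheafData).subschemeι.appTop :=
      (inferInstance : IsIso ((⊥ : (Proj (CohB1.polyGrading n k)).IdealSheafData).subschemeι.app ⊤))
    haveI : IsIso ((CohB1.ProjSpace.toSpec n k).appTop ≫
        (⊥ : (Proj (CohB1.polyGrading n k)).IdealSheafData).subschemeι.appTop) :=
      IsIso.comp_isIso' i1 i2
    exact ConcreteCategory.bijective_of_isIso
      ((CohB1.ProjSpace.toSpec n k).appTop ≫
        (⊥ : (Proj (CohB1.polyGrading n k)).IdealSheafData).subschemeι.appTop)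

/-- `H^i(X, O_X) = 0` for `i ≥ 1` and `k = Γ(X, O_X)` for a hypersurface of degree `d ≤ n` in `P^n`,
`n ≥ 2` -/
theorem structure_coh {d : ℕ} (hd1 : 1 ≤ d) (hd : d ≤ n) (G : LefPen.Form n k d)
    (I : (Proj (CohB1.polyGrading n k)).IdealSheafData) (hI : I = hypJ G) :
    (∀ i : ℕ, 1 ≤ i → Subsingleton (Coh.HH I.subscheme (Coh.structureModule I.subscheme) i)) ∧
      Function.Bijective (I.subschemeι ≫ CohB1.ProjSpace.toSpec n k).appTop.hom := by
  by_cases hG : G = 0
  · exact structure_coh_bot I (by rw [hI, hG, hypJ_zero])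
  subst hI
  letI inst : ((hypJ G).subscheme).Over (Spec (CommRingCat.of k)) :=
    ⟨(hypJ G).subschemeι ≫ CohB1.ProjSpace.toSpec n k⟩
  have hinst : (hypJ G).subscheme ↘ (Spec (CommRingCat.of k)) =
      (hypJ G).subschemeι ≫ CohB1.ProjSpace.toSpec n k := rfl
  have hneg : ∀ q : ℕ, Subsingleton (Coh.HH (CohB1.ProjSpace n k)
      (Twist.twistProjSpace n k (-(d : ℤ))) q) := fun q =>
    Groth.Agent.S0844.result k n (-(d : ℤ)) q (fun h => by omega) (fun h => by omega)
  constructor
  · intro i hi
    exact subsingleton_of_vanish G hG hinst i (subsingleton_HH_O i hi) (hneg (i + 1))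
  · have h0 : Module.finrank k (Coh.HH (hypJ G).subscheme
        (Coh.structureModule (hypJ G).subscheme) 0) = 1 := by
      obtain ⟨e⟩ := equiv_of_vanish_left G hG hinst 0 (hneg 0) (hneg 1)
      rw [← e.finrank_eq]
      exact Groth.Agent.Lib.helper20.SplitP0.finrank_H0_O
    set f := (hypJ G).subschemeι ≫ CohB1.ProjSpace.toSpec n k with hf
    have hnt := Groth.Agent.Lib.Helper18.H0Field.nontrivial_sections_top k (hypJ G).subscheme h0
    have hsurj : Function.Surjective (Coh.toGlobal f) := fun β =>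
      Groth.Agent.Lib.Helper18.H0Field.exists_toGlobal_eq k (hypJ G).subscheme h0 β
    haveI : Nontrivial (Coh.Γtop (hypJ G).subscheme) := hnt
    have hinj : Function.Injective (Coh.toGlobal f) := RingHom.injective _
    have hbij : Function.Bijective (Scheme.ΓSpecIso (CommRingCat.of k)).hom.hom :=
      ConcreteCategory.bijective_of_isIso (Scheme.ΓSpecIso (CommRingCat.of k)).hom
    have h4 : ∀ x, f.appTop.hom x =
        Coh.toGlobal f ((Scheme.ΓSpecIso (CommRingCat.of k)).hom.hom x) := by
      intro x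
      change _ = f.appTop.hom
        ((Scheme.ΓSpecIso (CommRingCat.of k)).inv.hom
          ((Scheme.ΓSpecIso (CommRingCat.of k)).hom.hom x))
      congr 1
      exact (congrArg (fun φ => φ.hom x) (Scheme.ΓSpecIso (CommRingCat.of k)).hom_inv_id).symm
    refine ⟨fun x y hxy => ?_, fun z => ?_⟩
    · exact hbij.1 (hinj ((h4 x).symm.trans (hxy.trans (h4 y))))
    · obtain ⟨w, hw⟩ := hsurj z
      obtain ⟨x, hx⟩ := hbij.2 w
      exact ⟨x, (h4 x).trans (by rw [hx]; exact hw)⟩

end Groth.Agent.Lib.helper20.HypIdeal
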