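import Mathlib
import Groth.Prelude.Def_CohB1
import Groth.Agent.Lib.Helper12.HypCover

/-!
# Hypersurfaces in `P^n_k`, `n ≥ 2`, are connected (helper20)

Topological statement on `ProjectiveSpectrum`: `V_+(f)` is the union of the closures of the points given by
the minimal primes of `(f)`; any two of them meet, by Krull's height theorem and `ht(S_+) ≥ 3`.
-/

set_option autoImplicit false
universe u
open MvPolynomial

namespace Groth.Agent.Lib.helper20.HypConn

variable (n : ℕ) (k : Type u) [Field k]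

/-- the polynomial ring -/
abbrev S : Type u := MvPolynomial (Fin (n + 1)) k

/-- the irrelevant ideal -/
noncomputable abbrev irr : Ideal (S n k) := (HomogeneousIdeal.irrelevant (CohB1.polyGrading n k)).toIdeal

lemma mem_irr_iff (z : S n k) : z ∈ irr n k ↔ constantCoeff z = 0 := by
  have h1 : GradedRing.proj (CohB1.polyGrading n k) 0 z = homogeneousComponent 0 z := by
    rw [GradedRing.proj_apply]
    exact decomposition.decompose'_apply z 0
  have h2 : z ∈ irr n k ↔ GradedRing.proj (CohB1.polyGrading n k) 0 z = 0 :=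
    HomogeneousIdeal.mem_irrelevant_iff _ z
  rw [h2, h1, homogeneousComponent_zero, C_eq_zero, constantCoeff_eq]

lemma irr_eq_ker : irr n k = RingHom.ker (constantCoeff : S n k →+* k) := by
  ext z
  rw [mem_irr_iff, RingHom.mem_ker]

instance irr_isPrime : (irr n k).IsPrime := by
  rw [irr_eq_ker]
  exact RingHom.ker_isPrime _

lemma irr_ne_top : irr n k ≠ ⊤ := (irr_isPrime n k).ne_top

/-- a proper homogeneous ideal lies in the irrelevant ideal -/
lemma le_irr_of_isHomogeneous {I : Ideal (S n k)} (hI : I.IsHomogeneous (CohB1.polyGrading n k))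
    (hne : I ≠ ⊤) : I ≤ irr n k := by
  intro x hx
  rw [mem_irr_iff]
  by_contra hc
  apply hne
  have h0 : homogeneousComponent 0 x ∈ I := by
    have := hI 0 hx
    rwa [show ((DirectSum.decompose (CohB1.polyGrading n k) x 0 : CohB1.polyGrading n k 0) : S n k) =
      homogeneousComponent 0 x from decomposition.decompose'_apply x 0] at this
  rw [homogeneousComponent_zero, ← constantCoeff_eq] at h0
  exact Ideal.eq_top_of_isUnit_mem _ h0 ((IsUnit.mk0 _ hc).map C)

section Kill

open Classical in
/-- kill the variables in `T` -/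
noncomputable def killHom (T : Set (Fin (n + 1))) : S n k →ₐ[k] S n k :=
  aeval (fun i => if i ∈ T then 0 else X i)

/-- the prime ideal generated by the variables in `T` (as a kernel) -/
noncomputable def killIdeal (T : Set (Fin (n + 1))) : Ideal (S n k) :=
  RingHom.ker (killHom n k T : S n k →+* S n k)

instance killIdeal_isPrime (T : Set (Fin (n + 1))) : (killIdeal n k T).IsPrime :=
  RingHom.ker_isPrime _

lemma killHom_X_of_mem {T : Set (Fin (n + 1))} {i : Fin (n + 1)} (h : i ∈ T) :
    killHom n k T (X i) = 0 := by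
  classical
  unfold killHom
  rw [aeval_X, if_pos h]

lemma killHom_X_of_notMem {T : Set (Fin (n + 1))} {i : Fin (n + 1)} (h : i ∉ T) :
    killHom n k T (X i) = X i := by
  classical
  unfold killHom
  rw [aeval_X, if_neg h]

lemma X_mem_killIdeal_iff (T : Set (Fin (n + 1))) (i : Fin (n + 1)) :
    (X i : S n k) ∈ killIdeal n k T ↔ i ∈ T := by
  unfold killIdeal
  rw [RingHom.mem_ker]
  change killHom n k T (X i) = 0 ↔ _
  by_cases h : i ∈ T
  · rw [killHom_X_of_mem n k h]
    simp [h]
  · rw [killHom_X_of_notMem n k h]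
    simp [h, X_ne_zero]

lemma killIdeal_mono {T T' : Set (Fin (n + 1))} (h : T ⊆ T') : killIdeal n k T ≤ killIdeal n k T' := by
  have hc : killHom n k T' = (killHom n k T').comp (killHom n k T) := by
    apply algHom_ext
    intro i
    rw [AlgHom.comp_apply]
    by_cases hi : i ∈ T
    · rw [killHom_X_of_mem n k hi, killHom_X_of_mem n k (h hi), map_zero]
    · rw [killHom_X_of_notMem n k hi]
  intro x hx
  unfold killIdeal at hx ⊢
  rw [RingHom.mem_ker] at hx ⊢
  change killHom n k T x = 0 at hx
  change killHom n k T' x = 0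
  rw [hc, AlgHom.comp_apply, hx, map_zero]

lemma killIdeal_le_irr (T : Set (Fin (n + 1))) : killIdeal n k T ≤ irr n k := by
  intro x hx
  rw [mem_irr_iff]
  have hc : (constantCoeff : S n k →+* k).comp (killHom n k T : S n k →+* S n k) = constantCoeff := by
    apply ringHom_ext
    · intro c
      rw [RingHom.comp_apply]
      change constantCoeff (killHom n k T (C c)) = _
      rw [← algebraMap_eq, AlgHom.commutes]
    · intro i
      rw [RingHom.comp_apply]
      change constantCoeff (killHom n k T (X i)) = _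
      by_cases hi : i ∈ T
      · rw [killHom_X_of_mem n k hi, map_zero, constantCoeff_X]
      · rw [killHom_X_of_notMem n k hi]
  have hx' : killHom n k T x = 0 := hx
  rw [← hc, RingHom.comp_apply]
  change constantCoeff (killHom n k T x) = 0
  rw [hx', map_zero]

lemma killIdeal_lt {T T' : Set (Fin (n + 1))} (h : T ⊆ T') {i : Fin (n + 1)} (hi : i ∈ T')
    (hi' : i ∉ T) : killIdeal n k T < killIdeal n k T' := by
  refine lt_of_le_of_ne (killIdeal_mono n k h) ?_
  intro e
  have h1 := (X_mem_killIdeal_iff n k T' i).2 hi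
  rw [← e] at h1
  exact hi' ((X_mem_killIdeal_iff n k T i).1 h1)

end Kill

/-- the irrelevant ideal of `k[X_0..X_n]`, `n ≥ 2`, has height at least three -/
theorem three_le_height_irr (hn : 2 ≤ n) : 3 ≤ (irr n k).height := by
  let i0 : Fin (n + 1) := ⟨0, by omega⟩
  let i1 : Fin (n + 1) := ⟨1, by omega⟩
  let i2 : Fin (n + 1) := ⟨2, by omega⟩
  have h01 : i0 ≠ i1 := by simp [i0, i1, Fin.ext_iff]
  have h02 : i0 ≠ i2 := by simp [i0, i2, Fin.ext_iff]
  have h12 : i1 ≠ i2 := by simp [i1, i2, Fin.ext_iff]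
  have l1 : killIdeal n k ∅ < killIdeal n k {i0} :=
    killIdeal_lt n k (Set.empty_subset _) (Set.mem_singleton i0) (Set.notMem_empty _)
  have l2 : killIdeal n k {i0} < killIdeal n k {i0, i1} :=
    killIdeal_lt n k (by intro x hx; exact Or.inl hx) (Or.inr rfl : i1 ∈ ({i0, i1} : Set _))
      (fun h => h01 (Set.mem_singleton_iff.mp h).symm)
  have l3 : killIdeal n k {i0, i1} < killIdeal n k {i0, i1, i2} :=
    killIdeal_lt n k (by intro x hx; rcases hx with hx | hx; exact Or.inl hx; exact Or.inr (Or.inl hx))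
      (Or.inr (Or.inr rfl) : i2 ∈ ({i0, i1, i2} : Set _))
      (by rintro (h | h); exact h02 h.symm; exact h12 (Set.mem_singleton_iff.mp h).symm)
  have e1 := Ideal.height_add_one_le_of_lt_of_isPrime l1
  have e2 := Ideal.height_add_one_le_of_lt_of_isPrime l2
  have e3 := Ideal.height_add_one_le_of_lt_of_isPrime l3
  have e4 := Ideal.height_mono (killIdeal_le_irr n k {i0, i1, i2})
  have a1 : (1 : ℕ∞) ≤ (killIdeal n k {i0}).height := le_trans (le_add_self) e1
  have a2 : (2 : ℕ∞) ≤ (killIdeal n k {i0, i1}).height :=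
    le_trans (by rw [← one_add_one_eq_two]; exact add_le_add a1 le_rfl) e2
  have a3 : (3 : ℕ∞) ≤ (killIdeal n k {i0, i1, i2}).height :=
    le_trans (by rw [← two_add_one_eq_three]; exact add_le_add a2 le_rfl) e3
  exact a3.trans e4

/-- a homogeneous prime of height at most two is a point of `P^n`, `n ≥ 2` -/
lemma not_irr_le (hn : 2 ≤ n) {P : Ideal (S n k)} (hP : P.height ≤ 2) : ¬ irr n k ≤ P := by
  intro h
  have h1 := (three_le_height_irr n k hn).trans (Ideal.height_mono h)
  have h2 := h1.trans hP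
  exact absurd h2 (by decide)

theorem isConnected_zeroLocus (hn : 2 ≤ n) (d : ℕ) (f : S n k) (hf : f.IsHomogeneous d) (hd : 0 < d)
    (hf0 : f ≠ 0) :
    IsConnected (ProjectiveSpectrum.zeroLocus (CohB1.polyGrading n k) ({f} : Set (S n k))) := by
  classical
  let 𝒜 := CohB1.polyGrading n k
  let I : Ideal (S n k) := Ideal.span {f}
  have hIhom : I.IsHomogeneous 𝒜 := by
    apply Ideal.homogeneous_span
    rintro _ rfl
    exact ⟨d, hf⟩
  have hfirr : f ∈ irr n k := by
    rw [mem_irr_iff, constantCoeff_eq]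
    apply hf.coeff_eq_zero
    rw [map_zero]
    omega
  have hIirr : I ≤ irr n k := (Ideal.span_singleton_le_iff_mem _).mpr hfirr
  have hItop : I ≠ ⊤ := fun h => irr_ne_top n k (top_le_iff.mp (h ▸ hIirr))
  -- facts on the minimal primes
  have hprime : ∀ p ∈ I.minimalPrimes, p.IsPrime := fun p hp => hp.1.1
  have hhom : ∀ p ∈ I.minimalPrimes, p.IsHomogeneous 𝒜 := fun p hp =>
    Groth.Agent.Lib.helper12.HypCover.isHomogeneous_of_mem_minimalPrimes 𝒜 hIhom hp
  have hht : ∀ p ∈ I.minimalPrimes, p.height ≤ 1 := fun p hp =>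
    Ideal.height_le_one_of_isPrincipal_of_mem_minimalPrimes I p hp
  have hnirr : ∀ p ∈ I.minimalPrimes, ¬ irr n k ≤ p := fun p hp =>
    not_irr_le n k hn ((hht p hp).trans (by norm_num))
  -- the sets
  let Zs : Ideal (S n k) → Set (ProjectiveSpectrum 𝒜) := fun p =>
    ProjectiveSpectrum.zeroLocus 𝒜 (p : Set (S n k))
  have hunion : ProjectiveSpectrum.zeroLocus 𝒜 ({f} : Set (S n k)) = ⋃ p ∈ I.minimalPrimes, Zs p := by
    ext x
    simp only [Set.mem_iUnion, exists_prop]
    constructor
    · intro hx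
      have hx' : I ≤ x.asHomogeneousIdeal.toIdeal := by
        rw [Ideal.span_le]
        exact (ProjectiveSpectrum.mem_zeroLocus 𝒜 x _).mp hx
      haveI := x.isPrime
      obtain ⟨p, hp, hpx⟩ := Ideal.exists_minimalPrimes_le hx'
      exact ⟨p, hp, (ProjectiveSpectrum.mem_zeroLocus 𝒜 x _).mpr hpx⟩
    · rintro ⟨p, hp, hx⟩
      rw [ProjectiveSpectrum.mem_zeroLocus] at hx ⊢
      intro g hg
      rw [Set.mem_singleton_iff] at hg
      subst hg
      exact hx (hp.1.2 (Ideal.subset_span rfl))
  -- points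
  have hpt : ∀ (P : Ideal (S n k)) (_ : P.IsPrime) (_ : P.IsHomogeneous 𝒜) (_ : ¬ irr n k ≤ P),
      ∃ x : ProjectiveSpectrum 𝒜, x.asHomogeneousIdeal.toIdeal = P := by
    intro P h1 h2 h3
    exact ⟨⟨⟨P, h2⟩, h1, h3⟩, rfl⟩
  have hZmem : ∀ (p : Ideal (S n k)) (x : ProjectiveSpectrum 𝒜), x ∈ Zs p ↔
      p ≤ x.asHomogeneousIdeal.toIdeal := fun p x => ProjectiveSpectrum.mem_zeroLocus 𝒜 x _
  have hconn : ∀ p ∈ I.minimalPrimes, IsPreconnected (Zs p) := by
    intro p hp
    obtain ⟨x, hx⟩ := hpt p (hprime p hp) (hhom p hp) (hnirr p hp)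
    have : Zs p = closure {x} := by
      rw [← ProjectiveSpectrum.zeroLocus_vanishingIdeal_eq_closure,
        ProjectiveSpectrum.vanishingIdeal_singleton]
      change ProjectiveSpectrum.zeroLocus 𝒜 (p : Set (S n k)) =
        ProjectiveSpectrum.zeroLocus 𝒜 (x.asHomogeneousIdeal.toIdeal : Set (S n k))
      rw [hx]
    rw [this]
    exact isPreconnected_singleton.closure
  have hmeet : ∀ p ∈ I.minimalPrimes, ∀ q ∈ I.minimalPrimes, (Zs p ∩ Zs q).Nonempty := by
    intro p hp q hq
    haveI := hprime p hp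
    haveI := hprime q hq
    have hpne : p ≠ ⊥ := fun h => hf0 (by
      have : f ∈ p := hp.1.2 (Ideal.subset_span rfl)
      rw [h, Ideal.mem_bot] at this
      exact this)
    have hqne : q ≠ ⊥ := fun h => hf0 (by
      have : f ∈ q := hq.1.2 (Ideal.subset_span rfl)
      rw [h, Ideal.mem_bot] at this
      exact this)
    have hp1 : p.height = 1 := le_antisymm (hht p hp)
      (ENat.one_le_iff_ne_zero.mpr (fun h => hpne (Ideal.height_eq_zero_iff_eq_bot.mp h)))
    have hq1 : q.height = 1 := le_antisymm (hht q hq)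
      (ENat.one_le_iff_ne_zero.mpr (fun h => hqne (Ideal.height_eq_zero_iff_eq_bot.mp h)))
    obtain ⟨x, hxp, hxprime⟩ := Ideal.IsPrime.exists_mem_prime_of_ne_bot (hprime p hp) hpne
    obtain ⟨y, hyq, hyprime⟩ := Ideal.IsPrime.exists_mem_prime_of_ne_bot (hprime q hq) hqne
    have ep : p = Ideal.span {x} := Ideal.eq_span_singleton_of_height_eq_one hp1 hxp hxprime
    have eq : q = Ideal.span {y} := Ideal.eq_span_singleton_of_height_eq_one hq1 hyq hyprime
    let J : Ideal (S n k) := Ideal.span {x, y}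
    have hJ : J = p ⊔ q := by
      rw [ep, eq, ← Ideal.span_union]
      rfl
    have hJhom : J.IsHomogeneous 𝒜 := by
      rw [hJ]
      exact (hhom p hp).sup (hhom q hq)
    have hJirr : J ≤ irr n k := by
      rw [hJ]
      exact sup_le (le_irr_of_isHomogeneous n k (hhom p hp) (hprime p hp).ne_top)
        (le_irr_of_isHomogeneous n k (hhom q hq) (hprime q hq).ne_top)
    have hJtop : J ≠ ⊤ := fun h => irr_ne_top n k (top_le_iff.mp (h ▸ hJirr))
    obtain ⟨P, hP⟩ := Ideal.nonempty_minimalPrimes hJtop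
    have hPprime : P.IsPrime := hP.1.1
    have hPhom : P.IsHomogeneous 𝒜 :=
      Groth.Agent.Lib.helper12.HypCover.isHomogeneous_of_mem_minimalPrimes 𝒜 hJhom hP
    have hPht : P.height ≤ 2 := by
      have h1 := Ideal.height_le_card_of_mem_minimalPrimes_span (s := ({x, y} : Set (S n k)))
        (Set.toFinite _) hP
      refine h1.trans ?_
      have : ({x, y} : Set (S n k)).ncard ≤ 2 := (Set.ncard_insert_le _ _).trans (by simp)
      exact_mod_cast this
    obtain ⟨z, hz⟩ := hpt P hPprime hPhom (not_irr_le n k hn hPht)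
    refine ⟨z, (hZmem p z).mpr ?_, (hZmem q z).mpr ?_⟩
    · rw [hz]
      exact (le_sup_left.trans hJ.ge).trans hP.1.2
    · rw [hz]
      exact (le_sup_right.trans hJ.ge).trans hP.1.2
  constructor
  · obtain ⟨p, hp⟩ := Ideal.nonempty_minimalPrimes hItop
    obtain ⟨x, hx⟩ := hpt p (hprime p hp) (hhom p hp) (hnirr p hp)
    refine ⟨x, ?_⟩
    rw [hunion]
    simp only [Set.mem_iUnion, exists_prop]
    exact ⟨p, hp, (hZmem p x).mpr hx.ge⟩
  · rw [hunion]
    exact IsPreconnected.biUnion_of_reflTransGen hconn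
      (fun p hp q hq => Relation.ReflTransGen.single ⟨hmeet p hp q hq, hp⟩)

end Groth.Agent.Lib.helper20.HypConn
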