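import Mathlib

/-!
# The Jacobian criterion for an affine hypersurface `R[X_σ] / (w)` (helper20)

* `formallySmooth_of_jacUnit`: if `1 ∈ (w, ∂w/∂X_i)` then `R[X_σ]/(w)` is formally smooth over `R`.
* `jacUnit_of_formallySmooth`: the converse, when `R[X_σ]` is a domain and `w ≠ 0`.
* `smooth_iff_jacUnit`: `R[X_σ]/(w)` is smooth over `R` iff `1 ∈ (w, ∂w/∂X_i)`.
-/

set_option autoImplicit false
universe u v

open MvPolynomial KaehlerDifferential Algebra

namespace Groth.Agent.Lib.helper20.JacHyp

variable {R : Type u} [CommRing R] {σ : Type v} [Fintype σ] (w : MvPolynomial σ R)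

/-- the Jacobian condition: `1 ∈ (w, ∂w/∂X_i)` -/
def JacUnit : Prop :=
  ∃ (c : σ → MvPolynomial σ R) (e : MvPolynomial σ R), ∑ i, c i * pderiv i w + e * w = 1

/-- the naive generators of `R[X_σ]/(w)` -/
noncomputable abbrev gen : Generators R (MvPolynomial σ R ⧸ Ideal.span {w}) σ := Generators.naive

theorem ker_gen : (gen w).ker = Ideal.span {w} := Generators.ker_naive _ _

/-- a polynomial as an element of the ring of the extension -/
def toP (q : MvPolynomial σ R) : (gen w).toExtension.Ring := q

theorem toP_mul (a b : MvPolynomial σ R) : toP w (a * b) = toP w a * toP w b := rfl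
theorem toP_sub (a b : MvPolynomial σ R) : toP w (a - b) = toP w a - toP w b := rfl
theorem toP_one : toP w 1 = 1 := rfl
theorem toP_sum (f : σ → MvPolynomial σ R) : toP w (∑ i, f i) = ∑ i, toP w (f i) := rfl

theorem w_mem_ker : toP w w ∈ (gen w).toExtension.ker := by
  have : w ∈ (gen w).ker := by rw [ker_gen]; exact Ideal.mem_span_singleton_self w
  exact this

/-- the class of `w` in `I/I²` -/
noncomputable def xi : (gen w).toExtension.Cotangent :=
  Extension.Cotangent.mk ⟨toP w w, w_mem_ker w⟩

theorem exists_smul_xi (x : (gen w).toExtension.Cotangent) :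
    ∃ p : MvPolynomial σ R, x = toP w p • xi w := by
  obtain ⟨⟨y, hy⟩, rfl⟩ := Extension.Cotangent.mk_surjective x
  have hy' : y ∈ Ideal.span {w} := by
    have : y ∈ (gen w).ker := hy
    rwa [ker_gen] at this
  obtain ⟨p, hp⟩ := Ideal.mem_span_singleton'.mp hy'
  refine ⟨p, ?_⟩
  unfold xi
  rw [← LinearMap.map_smul]
  congr 1
  exact Subtype.ext hp.symm

theorem cotangentComplex_xi :
    (gen w).toExtension.cotangentComplex (xi w) =
      ∑ i, (algebraMap (gen w).toExtension.Ring (MvPolynomial σ R ⧸ Ideal.span {w})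
        (toP w (pderiv i w))) • (gen w).cotangentSpaceBasis i := by
  classical
  have h := ((gen w).cotangentSpaceBasis.sum_repr
    ((gen w).toExtension.cotangentComplex (xi w))).symm
  refine h.trans (Finset.sum_congr rfl fun i _ => ?_)
  congr 1
  unfold xi
  rw [Extension.cotangentComplex_mk]
  exact ((gen w).cotangentSpaceBasis_repr_one_tmul w i).trans ((gen w).algebraMap_apply _).symm

theorem smul_xi_eq_zero (q : MvPolynomial σ R) : toP w (q * w) • xi w = 0 := by
  unfold xi
  rw [← LinearMap.map_smul, Extension.Cotangent.mk_eq_zero_iff]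
  have h1 : toP w w ∈ (gen w).toExtension.ker := w_mem_ker w
  have : (toP w (q * w) • (⟨toP w w, w_mem_ker w⟩ : (gen w).toExtension.ker)).val =
      toP w q * (toP w w * toP w w) := by
    change toP w (q * w) * toP w w = _
    rw [toP_mul, mul_assoc]
  rw [this, pow_two]
  exact Ideal.mul_mem_left _ _ (Ideal.mul_mem_mul h1 h1)

theorem formallySmooth_of_jacUnit (h : JacUnit w) :
    Algebra.FormallySmooth R (MvPolynomial σ R ⧸ Ideal.span {w}) := by
  classical
  obtain ⟨c, e, hce⟩ := h
  haveI : FormallySmooth R (gen w).toExtension.Ring :=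
    inferInstanceAs (FormallySmooth R (MvPolynomial σ R))
  rw [Extension.formallySmooth_iff_split_injection (gen w).toExtension]
  let l : (gen w).toExtension.CotangentSpace →ₗ[MvPolynomial σ R ⧸ Ideal.span {w}]
      (gen w).toExtension.Cotangent :=
    (gen w).cotangentSpaceBasis.constr (MvPolynomial σ R ⧸ Ideal.span {w})
      (fun i => toP w (c i) • xi w)
  have hl : l ((gen w).toExtension.cotangentComplex (xi w)) = xi w := by
    rw [cotangentComplex_xi, map_sum]
    have h1 : ∀ i, l ((algebraMap (gen w).toExtension.Ring (MvPolynomial σ R ⧸ Ideal.span {w})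
        (toP w (pderiv i w))) • (gen w).cotangentSpaceBasis i) =
        toP w (c i * pderiv i w) • xi w := by
      intro i
      rw [LinearMap.map_smul, Module.Basis.constr_basis, toP_mul, mul_comm, mul_smul]
      exact algebraMap_smul _ _ _
    rw [Finset.sum_congr rfl fun i _ => h1 i, ← Finset.sum_smul, ← toP_sum]
    have h2 : (∑ i, c i * pderiv i w) = 1 - e * w := by
      rw [← hce]; ring
    rw [h2, toP_sub, sub_smul, toP_one, one_smul, smul_xi_eq_zero, sub_zero]
  refine ⟨l, LinearMap.ext fun x => ?_⟩
  obtain ⟨p, rfl⟩ := exists_smul_xi w x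
  simp only [LinearMap.coe_comp, Function.comp_apply, LinearMap.id_coe, id_eq]
  rw [LinearMap.map_smul_of_tower, LinearMap.map_smul_of_tower, hl]

theorem jacUnit_of_formallySmooth [IsDomain (MvPolynomial σ R)] (hw : w ≠ 0)
    (h : Algebra.FormallySmooth R (MvPolynomial σ R ⧸ Ideal.span {w})) : JacUnit w := by
  classical
  haveI : FormallySmooth R (gen w).toExtension.Ring :=
    inferInstanceAs (FormallySmooth R (MvPolynomial σ R))
  rw [Extension.formallySmooth_iff_split_injection (gen w).toExtension] at h
  obtain ⟨l, hl⟩ := h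
  choose p hp using fun i => exists_smul_xi w (l ((gen w).cotangentSpaceBasis i))
  have h1 : xi w = toP w (∑ i, p i * pderiv i w) • xi w := by
    have h2 := LinearMap.congr_fun hl (xi w)
    simp only [LinearMap.coe_comp, Function.comp_apply, LinearMap.id_coe, id_eq] at h2
    rw [cotangentComplex_xi, map_sum] at h2
    have h3 : ∀ i, l ((algebraMap (gen w).toExtension.Ring (MvPolynomial σ R ⧸ Ideal.span {w})
        (toP w (pderiv i w))) • (gen w).cotangentSpaceBasis i) =
        toP w (p i * pderiv i w) • xi w := by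
      intro i
      rw [LinearMap.map_smul, hp i, toP_mul, mul_comm, mul_smul]
      exact algebraMap_smul _ _ _
    rw [Finset.sum_congr rfl fun i _ => h3 i, ← Finset.sum_smul, ← toP_sum] at h2
    exact h2.symm
  have h4 : toP w (1 - ∑ i, p i * pderiv i w) • xi w = 0 := by
    rw [toP_sub, sub_smul, toP_one, one_smul, ← h1, sub_self]
  unfold xi at h4
  rw [← LinearMap.map_smul, Extension.Cotangent.mk_eq_zero_iff] at h4
  have h5 : (1 - ∑ i, p i * pderiv i w) * w ∈ (gen w).ker ^ 2 := h4
  rw [ker_gen, Ideal.span_singleton_pow] at h5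
  obtain ⟨q, hq⟩ := Ideal.mem_span_singleton'.mp h5
  have h6 : q * w = 1 - ∑ i, p i * pderiv i w := by
    apply mul_right_cancel₀ hw
    rw [← hq]; ring
  exact ⟨p, q, by rw [h6]; ring⟩

theorem smooth_iff_jacUnit [IsDomain (MvPolynomial σ R)] (hw : w ≠ 0) :
    Algebra.Smooth R (MvPolynomial σ R ⧸ Ideal.span {w}) ↔ JacUnit w := by
  constructor
  · intro h
    exact jacUnit_of_formallySmooth w hw h.formallySmooth
  · intro h
    haveI := formallySmooth_of_jacUnit w h
    haveI : Algebra.FinitePresentation R (MvPolynomial σ R ⧸ Ideal.span {w}) :=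
      Algebra.FinitePresentation.quotient ⟨{w}, by simp⟩
    exact {}

end Groth.Agent.Lib.helper20.JacHyp
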