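import Mathlib
import Groth.Prelude.Def_LefPen
import Groth.Agent.Lib.Helper20.HypIdeal2
import Groth.Agent.Lib.Helper18.ProjChart
import Groth.Agent.Lib.Helper28.RelTwistCanon
import Groth.Agent.Lib.Helper20.JacHyp1

/-!
# Smoothness of a hypersurface of `P^n_k` on the standard charts (helper20)

* `chartRing i : k[Y_j, j ≠ i] ≃+* Γ(P^n, D₊(X_i))`, with `chartRing_psi`: the dehomogenisation of a form
  `G` goes to `G / X_i^d`, and `chartRing_C`: constants go to the structure map of `P^n → Spec k`.
-/

set_option autoImplicit false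
universe u

open CategoryTheory CategoryTheory.Limits AlgebraicGeometry Opposite TopologicalSpace MvPolynomial

namespace Groth.Agent.Lib.helper20.JacHyp

open Groth.Agent.Lib.helper20.HypIdeal Groth.Agent.Lib.Helper18.ProjChart
  Groth.Agent.Lib.helper12.ProjClosed

variable {n : ℕ} {k : Type u} [Field k]

/-- the chart ring -/
noncomputable def chartRing (i : Fin (n + 1)) :
    MvPolynomial (Idx n i) k ≃+* Γ(Proj (CohB1.polyGrading n k), ch n k i) :=
  (chartEquiv n k i).trans
    (Proj.basicOpenIsoAway (CohB1.polyGrading n k) (X i : MvPolynomial (Fin (n + 1)) k)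
      (LefPen.X_mem n k i) one_pos).commRingCatIsoToRingEquiv

theorem chartEquiv_symm_apply (i : Fin (n + 1))
    (z : HomogeneousLocalization.Away (CohB1.polyGrading n k) (X i : MvPolynomial (Fin (n + 1)) k)) :
    (chartEquiv n k i).symm z = Ψ n k i z := by
  obtain ⟨y, rfl⟩ := (chartEquiv n k i).surjective z
  rw [RingEquiv.symm_apply_apply]
  have := congrArg (fun f => f y) (Ψ_Φ n k i)
  exact this.symm

theorem Ψ_mk (i : Fin (n + 1)) {d : ℕ} (G : LefPen.Form n k d) :
    Ψ n k i (HomogeneousLocalization.Away.mk (CohB1.polyGrading n k) (LefPen.X_mem n k i) d G.1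
      (by rw [smul_eq_mul, mul_one]; exact G.2)) = ψ n k i G.1 := by
  unfold Ψ
  rw [RingHom.comp_apply, HomogeneousLocalization.algebraMap_apply,
    HomogeneousLocalization.Away.val_mk]
  exact ψL_mk n k i G.1 d

theorem chartRing_psi (i : Fin (n + 1)) {d : ℕ} (G : LefPen.Form n k d) :
    chartRing i (ψ n k i G.1) = dh G i := by
  unfold chartRing
  rw [RingEquiv.trans_apply]
  have h1 : chartEquiv n k i (ψ n k i G.1) =
      HomogeneousLocalization.Away.mk (CohB1.polyGrading n k) (LefPen.X_mem n k i) d G.1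
        (by rw [smul_eq_mul, mul_one]; exact G.2) := by
    rw [← Ψ_mk i G, ← chartEquiv_symm_apply, RingEquiv.apply_symm_apply]
  rw [h1]
  rfl

/-- the structure map `k → Γ(P^n, D₊(X_i))` -/
noncomputable def strMap (i : Fin (n + 1)) : k →+* Γ(Proj (CohB1.polyGrading n k), ch n k i) :=
  (((Proj (CohB1.polyGrading n k)).presheaf.map (homOfLE (le_top : ch n k i ≤ ⊤)).op).hom.comp
    (Scheme.Hom.appTop (X := Proj (CohB1.polyGrading n k)) (CohB1.ProjSpace.toSpec n k)).hom).comp
      (Scheme.ΓSpecIso (CommRingCat.of k)).inv.hom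

/-- a constant as a form of degree `0` -/
noncomputable def cForm (c : k) : LefPen.Form n k 0 :=
  ⟨C c, (MvPolynomial.mem_homogeneousSubmodule 0 _).mpr (MvPolynomial.isHomogeneous_C _ c)⟩

theorem strMap_apply (i : Fin (n + 1)) (c : k) : strMap i c = dh (cForm (n := n) c) i := by
  refine sec_ext (CohB1.polyGrading n k) _ _ fun x => ?_
  rw [dh_val]
  unfold strMap
  simp only [RingHom.comp_apply]
  rw [res_val]
  have h1 : (Scheme.Hom.appTop (X := Proj (CohB1.polyGrading n k)) (CohB1.ProjSpace.toSpec n k)).hom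
      ((Scheme.ΓSpecIso (CommRingCat.of k)).inv.hom c) =
      (Proj.toSpecZero (CohB1.polyGrading n k)).appTop.hom
        ((Scheme.ΓSpecIso (CommRingCat.of (CohB1.polyGrading n k 0))).inv.hom
          (algebraMap k (CohB1.polyGrading n k 0) c)) := by
    unfold CohB1.ProjSpace.toSpec
    rw [Scheme.Hom.comp_appTop]
    have h2 := Scheme.ΓSpecIso_inv_naturality
      (CommRingCat.ofHom (algebraMap k (CohB1.polyGrading n k 0)))
    have h3 := congrArg (fun f => f.hom c) h2
    simp only [CommRingCat.hom_comp, RingHom.comp_apply, CommRingCat.hom_ofHom] at h3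
    change (Proj.toSpecZero (CohB1.polyGrading n k)).appTop.hom
      ((Spec.map (CommRingCat.ofHom (algebraMap k (CohB1.polyGrading n k 0)))).appTop.hom
        ((Scheme.ΓSpecIso (CommRingCat.of k)).inv.hom c)) = _
    rw [← h3]
  rw [h1]
  have h4 := Groth.Agent.Lib.helper28.RelTwistCanon.toSpecZero_val (CohB1.polyGrading n k)
    (algebraMap k (CohB1.polyGrading n k 0) c) x.1
  refine h4.trans ?_
  rw [← Localization.mk_one_eq_algebraMap, Localization.mk_eq_mk_iff, Localization.r_iff_exists]
  exact ⟨1, by simp [cForm]⟩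

theorem chartRing_C (i : Fin (n + 1)) (c : k) : chartRing i (C c) = strMap i c := by
  rw [strMap_apply]
  have h := chartRing_psi i (cForm (n := n) c)
  have h1 : ψ n k i (cForm (n := n) c).1 = C c := ψ_C n k i c
  rw [h1] at h
  exact h

end Groth.Agent.Lib.helper20.JacHyp
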