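import Mathlib
import Groth.Prelude.Def_LefPen
import Groth.Agent.Lib.Helper20.JacHyp2

/-!
# Smoothness of a hypersurface of `P^n_k` via the Jacobian criterion on charts (helper20)

* `chXRing G i : Γ(V₊(G), D₊(X_i)) ≃+* k[Y_j, j ≠ i] / (G(Y, 1))`, compatible with the structure maps.
* `smooth_iff`: `V₊(G) → Spec k` is smooth iff on each chart of a covering family the dehomogenised
  equation satisfies the Jacobian condition.
-/

set_option autoImplicit false
universe u

open CategoryTheory CategoryTheory.Limits AlgebraicGeometry Opposite TopologicalSpace MvPolynomial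

namespace Groth.Agent.Lib.helper20.JacHyp

open Groth.Agent.Lib.helper20.HypIdeal Groth.Agent.Lib.Helper18.ProjChart
  Groth.Agent.Lib.helper12.ProjClosed

variable {n : ℕ} {k : Type u} [Field k] {d : ℕ} (G : LefPen.Form n k d)

/-- `LefPen.hypIdeal`, typed on `Proj` -/
noncomputable abbrev hJ : (Proj (CohB1.polyGrading n k)).IdealSheafData := LefPen.hypIdeal G

/-- `chartRing`, typed on the affine open `chA` -/
noncomputable def chartRingA (i : Fin (n + 1)) :
    MvPolynomial (Idx n i) k ≃+* Γ(Proj (CohB1.polyGrading n k), (chA n k i).1) := chartRing i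

/-- `dh`, typed on the affine open `chA` -/
noncomputable def dhA (i : Fin (n + 1)) : Γ(Proj (CohB1.polyGrading n k), (chA n k i).1) := dh G i

/-- `strMap`, typed on the affine open `chA` -/
noncomputable def strMapA (i : Fin (n + 1)) :
    k →+* Γ(Proj (CohB1.polyGrading n k), (chA n k i).1) := strMap i

theorem chartRingA_psi (i : Fin (n + 1)) : chartRingA i (ψ n k i G.1) = dhA G i :=
  chartRing_psi i G

theorem chartRingA_C (i : Fin (n + 1)) (c : k) : chartRingA (n := n) i (C c) = strMapA i c :=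
  chartRing_C i c

theorem ideal_chA (i : Fin (n + 1)) : (hJ G).ideal (chA n k i) = Ideal.span {dhA G i} :=
  hypIdeal_ideal_chart G i

theorem map_ideal_chart (i : Fin (n + 1)) :
    Ideal.span {ψ n k i G.1} = ((hJ G).ideal (chA n k i)).map
      (RingEquiv.toRingHom (chartRingA (n := n) (k := k) i).symm) := by
  rw [ideal_chA, Ideal.map_span, Set.image_singleton]
  congr 2
  change _ = (chartRingA i).symm (dhA G i)
  rw [← chartRingA_psi G i, RingEquiv.symm_apply_apply]

/-- the coordinate ring of the chart `D₊(X_i)` of the hypersurface -/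
noncomputable def chXRing (i : Fin (n + 1)) :
    Γ((hJ G).subscheme, (hJ G).subschemeι ⁻¹ᵁ (chA n k i).1) ≃+*
      MvPolynomial (Idx n i) k ⧸ Ideal.span {ψ n k i G.1} :=
  ((hJ G).subschemeObjIso (chA n k i)).commRingCatIsoToRingEquiv.trans
    (Ideal.quotientEquiv _ _ (chartRingA i).symm (map_ideal_chart G i))

theorem chXRing_app (i : Fin (n + 1)) (s : Γ(Proj (CohB1.polyGrading n k), (chA n k i).1)) :
    chXRing G i (((hJ G).subschemeι.app (chA n k i).1).hom s) =
      Ideal.Quotient.mk _ ((chartRingA i).symm s) := by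
  unfold chXRing
  rw [RingEquiv.trans_apply]
  have h1 : ((hJ G).subschemeObjIso (chA n k i)).commRingCatIsoToRingEquiv
      (((hJ G).subschemeι.app (chA n k i).1).hom s) = Ideal.Quotient.mk _ s := by
    have h2 := (hJ G).subschemeι_app (chA n k i)
    have h3 := congrArg (fun f => ((hJ G).subschemeObjIso (chA n k i)).hom.hom (f.hom s)) h2
    simp only [CommRingCat.hom_comp, RingHom.comp_apply, CommRingCat.hom_ofHom] at h3
    refine h3.trans ?_
    exact congrArg (fun f => f.hom (Ideal.Quotient.mk _ s))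
      ((hJ G).subschemeObjIso (chA n k i)).inv_hom_id
  rw [h1]
  exact Ideal.quotientEquiv_mk _ _ _ _ s

/-- the structure morphism of the hypersurface -/
noncomputable abbrev strX : (hJ G).subscheme ⟶ Spec (CommRingCat.of k) :=
  (hJ G).subschemeι ≫ CohB1.ProjSpace.toSpec n k

theorem strX_appLE (i : Fin (n + 1)) :
    (strX G).appLE ⊤ ((hJ G).subschemeι ⁻¹ᵁ (chA n k i).1) le_top =
      (Scheme.Hom.appTop (X := Proj (CohB1.polyGrading n k)) (CohB1.ProjSpace.toSpec n k)) ≫
        (Proj (CohB1.polyGrading n k)).presheaf.map (homOfLE (le_top : (chA n k i).1 ≤ ⊤)).op ≫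
          (hJ G).subschemeι.app (chA n k i).1 := by
  unfold strX
  rw [Scheme.Hom.comp_appLE, Scheme.Hom.app_eq_appLE (hJ G).subschemeι, Scheme.Hom.map_appLE]
  rfl

theorem strX_appLE_apply (i : Fin (n + 1)) (c : k) :
    ((strX G).appLE ⊤ ((hJ G).subschemeι ⁻¹ᵁ (chA n k i).1) le_top).hom
      ((Scheme.ΓSpecIso (CommRingCat.of k)).inv.hom c) =
      ((hJ G).subschemeι.app (chA n k i).1).hom (strMapA i c) := by
  rw [strX_appLE]
  rfl

theorem chXRing_strX (i : Fin (n + 1)) (c : k) :
    chXRing G i (((strX G).appLE ⊤ ((hJ G).subschemeι ⁻¹ᵁ (chA n k i).1) le_top).hom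
      ((Scheme.ΓSpecIso (CommRingCat.of k)).inv.hom c)) =
      algebraMap k (MvPolynomial (Idx n i) k ⧸ Ideal.span {ψ n k i G.1}) c := by
  rw [strX_appLE_apply, chXRing_app, ← chartRingA_C, RingEquiv.symm_apply_apply]
  rfl

theorem smooth_iff_of_equiv {A B A' B' : Type u} [CommRing A] [CommRing B] [CommRing A']
    [CommRing B'] (g : A →+* B) (g' : A' →+* B') (e₁ : A' ≃+* A) (e₂ : B ≃+* B')
    (h : ∀ a, e₂ (g (e₁ a)) = g' a) : g.Smooth ↔ g'.Smooth := by
  have hP := RingHom.Smooth.respectsIso.{u}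
  have hg' : g' = (e₂.toRingHom.comp g).comp e₁.toRingHom := RingHom.ext fun a => (h a).symm
  constructor
  · intro H
    rw [hg']
    exact hP.2 _ e₁ (hP.1 g e₂ H)
  · intro H
    have hg : g = (e₂.symm.toRingHom.comp g').comp e₁.symm.toRingHom := by
      refine RingHom.ext fun a => ?_
      simp only [RingHom.comp_apply, RingEquiv.toRingHom_eq_coe, RingHom.coe_coe]
      rw [← h, RingEquiv.apply_symm_apply, RingEquiv.symm_apply_apply]
    rw [hg]
    exact hP.2 _ e₁.symm (hP.1 g' e₂.symm H)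

theorem smooth_appLE_iff (i : Fin (n + 1)) (hne : ψ n k i G.1 ≠ 0) :
    ((strX G).appLE ⊤ ((hJ G).subschemeι ⁻¹ᵁ (chA n k i).1) le_top).hom.Smooth ↔
      JacUnit (ψ n k i G.1) := by
  rw [← smooth_iff_jacUnit _ hne, ← RingHom.smooth_algebraMap]
  exact smooth_iff_of_equiv _ _
    (Scheme.ΓSpecIso (CommRingCat.of k)).symm.commRingCatIsoToRingEquiv (chXRing G i)
    (fun c => chXRing_strX G i c)

/-- **the Jacobian criterion on charts** for a hypersurface of `P^n_k` -/
theorem smooth_iff (T : Set (Fin (n + 1)))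
    (hcov : ∀ x : (hJ G).subscheme, ∃ i ∈ T, (hJ G).subschemeι x ∈ (chA n k i).1)
    (hne : ∀ i ∈ T, ψ n k i G.1 ≠ 0) :
    Smooth (strX G) ↔ ∀ i ∈ T, JacUnit (ψ n k i G.1) := by
  have hU : ⨆ i : T, (((⟨(hJ G).subschemeι ⁻¹ᵁ (chA n k i.1).1,
      (chA n k i.1).2.preimage (hJ G).subschemeι⟩ : (hJ G).subscheme.affineOpens)) :
        (hJ G).subscheme.Opens) = ⊤ := by
    refine top_le_iff.mp fun x _ => ?_
    obtain ⟨i, hi, hx⟩ := hcov x
    exact Opens.mem_iSup.mpr ⟨⟨i, hi⟩, hx⟩
  rw [HasRingHomProperty.iff_of_iSup_eq_top (P := @Smooth) _ hU]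
  constructor
  · intro H i hi
    exact (smooth_appLE_iff G i (hne i hi)).mp (H ⟨i, hi⟩)
  · intro H i
    exact (smooth_appLE_iff G i.1 (hne i.1 i.2)).mpr (H i.1 i.2)

end Groth.Agent.Lib.helper20.JacHyp
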