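import Mathlib
import Groth.Prelude.Def_LefPen
import Groth.Agent.Lib.Helper20.JacHyp3

/-!
# The Weierstrass cubic: Jacobian computations (helper20)
-/

set_option autoImplicit false
universe u

open CategoryTheory CategoryTheory.Limits AlgebraicGeometry Opposite TopologicalSpace MvPolynomial

namespace Groth.Agent.Lib.helper20.JacHyp

open Groth.Agent.Lib.helper20.HypIdeal Groth.Agent.Lib.Helper18.ProjChart

section General

variable {R : Type u} [CommRing R] {σ : Type*} [Fintype σ] (w : MvPolynomial σ R)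

theorem jacUnit_of_mem (h : (1 : MvPolynomial σ R) ∈
    Ideal.span (insert w (Set.range fun i => pderiv i w))) : JacUnit w := by
  obtain ⟨e, z, hz, h1⟩ := Ideal.mem_span_insert.mp h
  obtain ⟨c, hc⟩ := Ideal.mem_span_range_iff_exists_fun.mp hz
  exact ⟨c, e, by rw [hc, h1]; ring⟩

theorem not_jacUnit_of_hom {L : Type*} [CommRing L] [Nontrivial L] (φ : MvPolynomial σ R →+* L)
    (h0 : φ w = 0) (h : ∀ i, φ (pderiv i w) = 0) : ¬ JacUnit w := by
  rintro ⟨c, e, hce⟩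
  have h1 := congrArg φ hce
  simp only [map_add, map_sum, map_mul, h, h0, mul_zero, Finset.sum_const_zero, add_zero,
    map_one] at h1
  exact zero_ne_one h1

end General

variable {k : Type u} [Field k]

/-- the affine coordinates on the chart `Z ≠ 0` -/
def y0 : Idx 2 (2 : Fin 3) := ⟨0, by decide⟩
def y1 : Idx 2 (2 : Fin 3) := ⟨1, by decide⟩
/-- the affine coordinates on the chart `Y ≠ 0` -/
def z0 : Idx 2 (1 : Fin 3) := ⟨0, by decide⟩
def z2 : Idx 2 (1 : Fin 3) := ⟨2, by decide⟩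

variable (a b : k)

/-- the affine Weierstrass equation -/
noncomputable def w2 : MvPolynomial (Idx 2 (2 : Fin 3)) k :=
  X y1 ^ 2 - X y0 ^ 3 - C a * X y0 + C b

/-- the equation on the chart `Y ≠ 0` -/
noncomputable def w1 : MvPolynomial (Idx 2 (1 : Fin 3)) k :=
  X z2 - X z0 ^ 3 - C a * X z0 * X z2 ^ 2 + C b * X z2 ^ 3

theorem psi_two (W : MvPolynomial (Fin (2 + 1)) k)
    (hW : W = X 1 ^ 2 * X 2 - X 0 ^ 3 - C a * X 0 * X 2 ^ 2 + C b * X 2 ^ 3) :
    ψ 2 k 2 W = w2 a b := by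
  subst hW
  simp [ψ, w2, y0, y1]

theorem psi_one (W : MvPolynomial (Fin (2 + 1)) k)
    (hW : W = X 1 ^ 2 * X 2 - X 0 ^ 3 - C a * X 0 * X 2 ^ 2 + C b * X 2 ^ 3) :
    ψ 2 k 1 W = w1 a b := by
  subst hW
  simp [ψ, w1, z0, z2]

theorem y0_ne_y1 : y0 ≠ y1 := by decide
theorem z0_ne_z2 : z0 ≠ z2 := by decide

theorem idx2_cases (j : Idx 2 (2 : Fin 3)) : j = y0 ∨ j = y1 := by
  obtain ⟨j, hj⟩ := j
  fin_cases j
  · left; rfl
  · right; rfl
  · exact absurd rfl hj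

theorem idx1_cases (j : Idx 2 (1 : Fin 3)) : j = z0 ∨ j = z2 := by
  obtain ⟨j, hj⟩ := j
  fin_cases j
  · left; rfl
  · exact absurd rfl hj
  · right; rfl

theorem pderiv_w2_y0 : pderiv y0 (w2 a b) = -(3 * X y0 ^ 2 + C a) := by
  simp [w2, pderiv_X, Pi.single_apply, y0_ne_y1, y0_ne_y1.symm]
  ring

theorem pderiv_w2_y1 : pderiv y1 (w2 a b) = 2 * X y1 := by
  simp [w2, pderiv_X, Pi.single_apply, y0_ne_y1, y0_ne_y1.symm]

theorem pderiv_w1_z0 : pderiv z0 (w1 a b) = -(3 * X z0 ^ 2 + C a * X z2 ^ 2) := by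
  simp [w1, pderiv_X, Pi.single_apply, z0_ne_z2, z0_ne_z2.symm]
  ring

theorem pderiv_w1_z2 : pderiv z2 (w1 a b) =
    1 - 2 * C a * X z0 * X z2 + 3 * C b * X z2 ^ 2 := by
  simp [w1, pderiv_X, Pi.single_apply, z0_ne_z2, z0_ne_z2.symm]
  ring

theorem C_inv_two (h2 : (2 : k) ≠ 0) {τ : Type*} :
    (C (2⁻¹ : k) : MvPolynomial τ k) * 2 = 1 := by
  rw [← map_ofNat (C : k →+* MvPolynomial τ k) 2, ← map_mul, inv_mul_cancel₀ h2, map_one]

theorem jacUnit_w1 (h2 : (2 : k) ≠ 0) : JacUnit (w1 a b) := by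
  apply jacUnit_of_mem
  set J := Ideal.span (insert (w1 a b) (Set.range fun i => pderiv i (w1 a b))) with hJ
  have hw : w1 a b ∈ J := Ideal.subset_span (Set.mem_insert _ _)
  have h0 : pderiv z0 (w1 a b) ∈ J := Ideal.subset_span (Set.mem_insert_of_mem _ ⟨z0, rfl⟩)
  have h1 : pderiv z2 (w1 a b) ∈ J := Ideal.subset_span (Set.mem_insert_of_mem _ ⟨z2, rfl⟩)
  have h3 : 2 * X z2 ∈ J := by
    have : 2 * X z2 = 3 * w1 a b - X z0 * pderiv z0 (w1 a b) - X z2 * pderiv z2 (w1 a b) := by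
      rw [pderiv_w1_z0, pderiv_w1_z2, w1]; ring
    rw [this]
    exact J.sub_mem (J.sub_mem (J.mul_mem_left _ hw) (J.mul_mem_left _ h0)) (J.mul_mem_left _ h1)
  have h4 : X z2 ∈ J := by
    have : (X z2 : MvPolynomial (Idx 2 (1 : Fin 3)) k) = C (2⁻¹ : k) * (2 * X z2) := by
      rw [← mul_assoc, C_inv_two h2, one_mul]
    rw [this]
    exact J.mul_mem_left _ h3
  have h5 : (1 : MvPolynomial (Idx 2 (1 : Fin 3)) k) =
      pderiv z2 (w1 a b) + (2 * C a * X z0 - 3 * C b * X z2) * X z2 := by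
    rw [pderiv_w1_z2]; ring
  rw [h5]
  exact J.add_mem h1 (J.mul_mem_left _ h4)

theorem jacUnit_w2 (h2 : (2 : k) ≠ 0) (hd : 4 * a ^ 3 + 27 * b ^ 2 ≠ 0) : JacUnit (w2 a b) := by
  apply jacUnit_of_mem
  set J := Ideal.span (insert (w2 a b) (Set.range fun i => pderiv i (w2 a b))) with hJ
  have hw : w2 a b ∈ J := Ideal.subset_span (Set.mem_insert _ _)
  have h0 : pderiv y0 (w2 a b) ∈ J := Ideal.subset_span (Set.mem_insert_of_mem _ ⟨y0, rfl⟩)
  have h1 : pderiv y1 (w2 a b) ∈ J := Ideal.subset_span (Set.mem_insert_of_mem _ ⟨y1, rfl⟩)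
  rw [pderiv_w2_y0] at h0
  rw [pderiv_w2_y1] at h1
  have hf' : 3 * X y0 ^ 2 + C a ∈ J := by
    have := J.neg_mem h0
    rwa [neg_neg] at this
  have hf : X y0 ^ 3 + C a * X y0 - C b ∈ J := by
    have : X y0 ^ 3 + C a * X y0 - C b =
        (C (2⁻¹ : k) * 2) * X y1 ^ 2 - w2 a b := by
      rw [C_inv_two h2, w2]; ring
    rw [this]
    refine J.sub_mem ?_ hw
    have : (C (2⁻¹ : k) * 2) * X y1 ^ 2 = (C (2⁻¹ : k) * X y1) * (2 * X y1) := by ring
    rw [this]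
    exact J.mul_mem_left _ h1
  have hD : (C (4 * a ^ 3 + 27 * b ^ 2) : MvPolynomial (Idx 2 (2 : Fin 3)) k) ∈ J := by
    have : (C (4 * a ^ 3 + 27 * b ^ 2) : MvPolynomial (Idx 2 (2 : Fin 3)) k) =
        (-18 * C a * X y0 - 27 * C b) * (X y0 ^ 3 + C a * X y0 - C b) +
        (6 * C a * X y0 ^ 2 + 9 * C b * X y0 + 4 * C a ^ 2) * (3 * X y0 ^ 2 + C a) := by
      simp only [map_add, map_mul, map_pow, map_ofNat]
      ring
    rw [this]
    exact J.add_mem (J.mul_mem_left _ hf) (J.mul_mem_left _ hf')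
  have h1' : (1 : MvPolynomial (Idx 2 (2 : Fin 3)) k) =
      C ((4 * a ^ 3 + 27 * b ^ 2)⁻¹) * C (4 * a ^ 3 + 27 * b ^ 2) := by
    rw [← map_mul, inv_mul_cancel₀ hd, map_one]
  rw [h1']
  exact J.mul_mem_left _ hD

end Groth.Agent.Lib.helper20.JacHyp
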