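import Mathlib
import Groth.Prelude.Def_LefPen
import Groth.Agent.Lib.Helper20.JacHyp4

/-!
# The Weierstrass cubic: the singular case (helper20)
-/

set_option autoImplicit false
universe u

open CategoryTheory CategoryTheory.Limits AlgebraicGeometry Opposite TopologicalSpace MvPolynomial

namespace Groth.Agent.Lib.helper20.JacHyp

open Groth.Agent.Lib.helper20.HypIdeal Groth.Agent.Lib.Helper18.ProjChart

variable {k : Type u} [Field k] (a b : k)

theorem not_jacUnit_w2 (h2 : (2 : k) ≠ 0) (hd : 4 * a ^ 3 + 27 * b ^ 2 = 0) :
    ¬ JacUnit (w2 a b) := by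
  classical
  by_cases ha : a = 0
  · subst ha
    by_cases hb : b = 0
    · subst hb
      refine not_jacUnit_of_hom _ (MvPolynomial.eval (fun _ => (0 : k))) ?_ ?_
      · simp [w2]
      · intro i
        rcases idx2_cases i with rfl | rfl
        · rw [pderiv_w2_y0]; simp
        · rw [pderiv_w2_y1]; simp
    · have h27 : (27 : k) = 0 := by
        have h : (27 : k) * b ^ 2 = 0 := by simpa using hd
        rcases mul_eq_zero.mp h with h | h
        · exact h
        · exact absurd ((pow_eq_zero_iff (two_ne_zero)).mp h) hb
      have h3 : (3 : k) = 0 := by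
        have h : (3 : k) ^ 3 = 0 := by rw [← h27]; norm_num
        exact (pow_eq_zero_iff (by norm_num)).mp h
      let f : Polynomial k := Polynomial.X ^ 3 - Polynomial.C b
      haveI : Nontrivial (AdjoinRoot f) := AdjoinRoot.nontrivial f (by
        rw [Polynomial.degree_X_pow_sub_C (by norm_num : 0 < 3) b]; norm_num)
      have ht : (AdjoinRoot.root f) ^ 3 - AdjoinRoot.of f b = 0 := by
        have h := AdjoinRoot.eval₂_root f
        simpa [f, Polynomial.eval₂_sub, Polynomial.eval₂_pow] using h
      have h3' : (3 : AdjoinRoot f) = 0 := by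
        have := congrArg (AdjoinRoot.of f) h3
        rw [map_ofNat, map_zero] at this
        exact this
      refine not_jacUnit_of_hom _ (MvPolynomial.eval₂Hom (AdjoinRoot.of f)
        (fun j => if j = y0 then AdjoinRoot.root f else 0)) ?_ ?_
      · simp [w2, y0_ne_y1.symm]
        linear_combination (-1 : AdjoinRoot f) * ht
      · intro i
        rcases idx2_cases i with rfl | rfl
        · rw [pderiv_w2_y0]; simp [h3']
        · rw [pderiv_w2_y1]; simp [y0_ne_y1.symm]
  · refine not_jacUnit_of_hom _ (MvPolynomial.eval (fun j => if j = y0 then 3 * b / (2 * a) else 0))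
      ?_ ?_
    · simp [w2, y0_ne_y1.symm]
      field_simp
      linear_combination (-b) * hd
    · intro i
      rcases idx2_cases i with rfl | rfl
      · rw [pderiv_w2_y0]
        simp
        field_simp
        linear_combination (-1) * hd
      · rw [pderiv_w2_y1]; simp [y0_ne_y1.symm]

end Groth.Agent.Lib.helper20.JacHyp
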