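import Mathlib
import Groth.Prelude.Def_LefPen
import Groth.Agent.Lib.Helper20.JacHyp5
import Groth.Agent.Lib.Helper20.CIdeal1

/-!
# The short Weierstrass cubic is smooth iff its discriminant does not vanish (helper20)
-/

set_option autoImplicit false
universe u

open CategoryTheory CategoryTheory.Limits AlgebraicGeometry Opposite TopologicalSpace MvPolynomial

namespace Groth.Agent.Lib.helper20.JacHyp

open Groth.Agent.Lib.helper20.HypIdeal Groth.Agent.Lib.Helper18.ProjChart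
  Groth.Agent.Lib.helper20.CIdeal

variable {k : Type u} [Field k] (a b : k)

theorem w2_ne_zero (h2 : (2 : k) ≠ 0) : w2 a b ≠ 0 := by
  intro h
  have h1 := pderiv_w2_y1 a b
  rw [h, map_zero] at h1
  rcases mul_eq_zero.mp h1.symm with h3 | h3
  · rw [← map_ofNat (C : k →+* MvPolynomial (Idx 2 (2 : Fin 3)) k) 2] at h3
    exact h2 (C_eq_zero.mp h3)
  · exact X_ne_zero _ h3

theorem w1_ne_zero : w1 a b ≠ 0 := by
  intro h
  have h1 := pderiv_w1_z2 a b
  rw [h, map_zero] at h1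
  have h2 := congrArg (MvPolynomial.eval (fun _ => (0 : k))) h1
  simp at h2

theorem mem_of_mem_support {d : ℕ} (G : LefPen.Form 2 k d) (x : (hJ G).subscheme) :
    G.1 ∈ ((hJ G).subschemeι x).asHomogeneousIdeal := by
  have h1 : (hJ G).subschemeι x ∈ ((hJ G).support : Set (Proj (CohB1.polyGrading 2 k))) := by
    rw [← Scheme.IdealSheafData.range_subschemeι]
    exact ⟨x, rfl⟩
  have h2 : hJ G = (LefPen.ciIdeal (fun _ : Unit => G) :
      (Proj (CohB1.polyGrading 2 k)).IdealSheafData) := by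
    unfold LefPen.ciIdeal
    exact (iSup_const (a := hJ G)).symm
  have h3 : ∀ y : Proj (CohB1.polyGrading 2 k),
      y ∈ ((hJ G).support : Set (Proj (CohB1.polyGrading 2 k))) →
        G.1 ∈ y.asHomogeneousIdeal := by
    intro y hy
    rw [h2] at hy
    exact (mem_support_ciIdeal (fun _ : Unit => G) y).mp hy ()
  exact h3 _ h1

theorem cover (W : LefPen.Form 2 k 3)
    (hW : W.1 = X 1 ^ 2 * X 2 - X 0 ^ 3 - C a * X 0 * X 2 ^ 2 + C b * X 2 ^ 3)
    (x : (hJ W).subscheme) :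
    ∃ i ∈ ({1, 2} : Set (Fin 3)), (hJ W).subschemeι x ∈ (chA 2 k i).1 := by
  set y := (hJ W).subschemeι x with hy
  have hWy : W.1 ∈ y.asHomogeneousIdeal := mem_of_mem_support W x
  by_contra hcon
  push_neg at hcon
  have h1 : (X 1 : MvPolynomial (Fin (2 + 1)) k) ∈ y.asHomogeneousIdeal := by
    by_contra h
    exact hcon 1 (Or.inl rfl) ((ProjectiveSpectrum.mem_basicOpen _ _ _).mpr h)
  have h2 : (X 2 : MvPolynomial (Fin (2 + 1)) k) ∈ y.asHomogeneousIdeal := by
    by_contra h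
    exact hcon 2 (Or.inr rfl) ((ProjectiveSpectrum.mem_basicOpen _ _ _).mpr h)
  have h0 : (X 0 : MvPolynomial (Fin (2 + 1)) k) ∈ y.asHomogeneousIdeal := by
    have h3 : (X 0 : MvPolynomial (Fin (2 + 1)) k) ^ 3 ∈ y.asHomogeneousIdeal := by
      have : (X 0 : MvPolynomial (Fin (2 + 1)) k) ^ 3 =
          (X 1 ^ 2 - C a * X 0 * X 2 + C b * X 2 ^ 2) * X 2 - W.1 := by
        rw [hW]; ring
      rw [this]
      exact Ideal.sub_mem _ (Ideal.mul_mem_left _ _ h2) hWy
    exact y.isPrime.mem_of_pow_mem 3 h3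
  obtain ⟨i, hi⟩ := exists_ch y
  have hi' := (ProjectiveSpectrum.mem_basicOpen _ _ _).mp hi
  fin_cases i
  · exact hi' h0
  · exact hi' h1
  · exact hi' h2

/-- **the short Weierstrass cubic is smooth iff `4a³ + 27b² ≠ 0`** -/
theorem weierstrass_smooth_iff (h2 : (2 : k) ≠ 0) (W : LefPen.Form 2 k 3)
    (hW : W.1 = X 1 ^ 2 * X 2 - X 0 ^ 3 - C a * X 0 * X 2 ^ 2 + C b * X 2 ^ 3) :
    Smooth (strX W) ↔ 4 * a ^ 3 + 27 * b ^ 2 ≠ 0 := by
  have hp1 := psi_one a b W.1 hW
  have hp2 := psi_two a b W.1 hW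
  rw [smooth_iff W ({1, 2} : Set (Fin 3)) (cover a b W hW) (by
    rintro i (rfl | rfl)
    · rw [hp1]; exact w1_ne_zero a b
    · rw [hp2]; exact w2_ne_zero a b h2)]
  constructor
  · intro H hd
    have := H 2 (Or.inr rfl)
    rw [hp2] at this
    exact not_jacUnit_w2 a b h2 hd this
  · rintro hd i (rfl | rfl)
    · rw [hp1]; exact jacUnit_w1 a b h2
    · rw [hp2]; exact jacUnit_w2 a b h2 hd

end Groth.Agent.Lib.helper20.JacHyp
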