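import Mathlib
import Groth.Prelude.Def_SGA6
import Groth.Agent.Lib.Helper13.K0Res2

/-!
# `K₀`: one-step comparison with coresolutions, and exhaustive chains (helper20)

* `oneStep_bijective'`: variant of helper13's `oneStep_bijective` where the kernel hypothesis is only required
  for kernels already known to lie in `Q` (and `Q` is closed under extensions).
* `toOp`, `fromOp`: `K0sub P ≃ K0sub P.op`.
* `oneStep_bijective_dual`: the dual statement (coresolutions `0 → A → L → K → 0`).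
* `chain_union_bijective`: for an exhaustive chain `P 0 ≤ P 1 ≤ ⋯ ≤ Q` with bijective steps,
  `K0sub (P 0) → K0sub Q` is bijective.
-/

set_option autoImplicit false
universe v u
open CategoryTheory CategoryTheory.Limits

namespace Groth.Agent.Lib.Helper20.K0Co

open Groth.Agent.Lib.helper13.K0Res

variable {C : Type u} [Category.{v} C] [Abelian C]

section OneStep

variable (P Q : ObjectProperty C) (hle : ∀ X, P X → Q X)
  (hext : ∀ S : ShortComplex C, S.ShortExact → P S.X₁ → P S.X₃ → P S.X₂)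
  (hextQ : ∀ S : ShortComplex C, S.ShortExact → Q S.X₁ → Q S.X₃ → Q S.X₂)
  (o1 : ∀ A : C, Q A → ∃ (K L : C) (i : K ⟶ L) (p : L ⟶ A) (w : i ≫ p = 0),
    (ShortComplex.mk i p w).ShortExact ∧ P L ∧ P K)
  (o2 : ∀ S : ShortComplex C, S.ShortExact → Q S.X₁ → P S.X₂ → Q S.X₃ → P S.X₁)

include hle hext hextQ o2 in
theorem oneStepχ_add' (S : ShortComplex C) (hS : S.ShortExact) (h1 : Q S.X₁) (h2 : Q S.X₂)
    (h3 : Q S.X₃) :
    oneStepχ P Q o1 S.X₂ h2 = oneStepχ P Q o1 S.X₁ h1 + oneStepχ P Q o1 S.X₃ h3 := by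
  obtain ⟨K, L, i, a, w, ha, hL, hK⟩ := o1 S.X₂ h2
  have : Epi a := ha.epi_g
  obtain ⟨w2, hS2⟩ := shortExact_pullback_comp S.zero hS a
  obtain ⟨j, w1, -, hS1⟩ := shortExact_pullback_fst w ha S.f
  have hFQ : Q (pullback S.f a) := hextQ _ hS1 (hle _ hK) h1
  have hF : P (pullback S.f a) := o2 _ hS2 hFQ hL h3
  rw [oneStepχ_eq P Q hext o1 h2 i a w ha hL hK, oneStepχ_eq P Q hext o1 h1 j _ w1 hS1 hF hK,
    oneStepχ_eq P Q hext o1 h3 _ _ w2 hS2 hL hF]
  abel

include hle hext hextQ o1 o2 in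
theorem oneStep_bijective' : Function.Bijective (SGA6.mapSub (𝟭 C) P Q hle) := by
  let χ : KZero.K0sub Q →+ KZero.K0sub P :=
    K0lift Q (oneStepχ P Q o1) (oneStepχ_add' P Q hle hext hextQ o1 o2)
  have h1 : χ.comp (SGA6.mapSub (𝟭 C) P Q hle) = AddMonoidHom.id _ := by
    apply K0sub_hom_ext
    intro X hX
    rw [AddMonoidHom.comp_apply, mapSub_cls, AddMonoidHom.id_apply]
    change K0lift Q (oneStepχ P Q o1) (oneStepχ_add' P Q hle hext hextQ o1 o2) _ = _
    rw [K0lift_cls]
    obtain ⟨K, L, i, a, w, ha, hL, hK⟩ := o1 X (hle X hX)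
    rw [oneStepχ_eq P Q hext o1 (hle X hX) i a w ha hL hK]
    have := cls_rel P _ ha hK hL hX
    dsimp only at this
    rw [this]
    abel
  have h2 : (SGA6.mapSub (𝟭 C) P Q hle).comp χ = AddMonoidHom.id _ := by
    apply K0sub_hom_ext
    intro A hA
    rw [AddMonoidHom.comp_apply, AddMonoidHom.id_apply]
    change SGA6.mapSub (𝟭 C) P Q hle
      (K0lift Q (oneStepχ P Q o1) (oneStepχ_add' P Q hle hext hextQ o1 o2) _) = _
    rw [K0lift_cls]
    obtain ⟨K, L, i, a, w, ha, hL, hK⟩ := o1 A hA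
    rw [oneStepχ_eq P Q hext o1 hA i a w ha hL hK, map_sub, mapSub_cls, mapSub_cls]
    have := cls_rel Q _ ha (hle _ hK) (hle _ hL) hA
    dsimp only at this
    rw [this]
    abel
  constructor
  · intro x y hxy
    have := congrArg χ hxy
    rwa [← AddMonoidHom.comp_apply, ← AddMonoidHom.comp_apply, h1] at this
  · intro y
    exact ⟨χ y, by rw [← AddMonoidHom.comp_apply, h2, AddMonoidHom.id_apply]⟩

end OneStep

section Op

variable (P Q : ObjectProperty C)

/-- `K0sub P → K0sub P.op` -/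
noncomputable def toOp : KZero.K0sub P →+ KZero.K0sub P.op :=
  K0lift P (fun X hX => cls P.op (Opposite.op X) hX) (by
    intro S hS h1 h2 h3
    have h := cls_rel P.op S.op hS.op h3 h2 h1
    rw [add_comm]
    exact h)

/-- `K0sub P.op → K0sub P` -/
noncomputable def fromOp : KZero.K0sub P.op →+ KZero.K0sub P :=
  K0lift P.op (fun X hX => cls P X.unop hX) (by
    intro S hS h1 h2 h3
    have h := cls_rel P S.unop hS.unop h3 h2 h1
    rw [add_comm]
    exact h)

theorem toOp_cls (X : C) (hX : P X) : toOp P (cls P X hX) = cls P.op (Opposite.op X) hX :=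
  K0lift_cls P _ _ X hX

theorem fromOp_cls (X : Cᵒᵖ) (hX : P.op X) : fromOp P (cls P.op X hX) = cls P X.unop hX :=
  K0lift_cls P.op _ _ X hX

theorem fromOp_toOp : (fromOp P).comp (toOp P) = AddMonoidHom.id _ := by
  apply K0sub_hom_ext
  intro X hX
  rw [AddMonoidHom.comp_apply, toOp_cls, fromOp_cls, AddMonoidHom.id_apply]

theorem toOp_fromOp : (toOp P).comp (fromOp P) = AddMonoidHom.id _ := by
  apply K0sub_hom_ext
  intro X hX
  rw [AddMonoidHom.comp_apply, fromOp_cls, toOp_cls, AddMonoidHom.id_apply]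

theorem toOp_mapSub (hle : ∀ X, P X → Q X) :
    (toOp Q).comp (SGA6.mapSub (𝟭 C) P Q hle) =
      (SGA6.mapSub (𝟭 Cᵒᵖ) P.op Q.op (fun X hX => hle X.unop hX)).comp (toOp P) := by
  apply K0sub_hom_ext
  intro X hX
  rw [AddMonoidHom.comp_apply, AddMonoidHom.comp_apply, mapSub_cls, toOp_cls, toOp_cls,
    mapSub_cls]

theorem bijective_of_op (hle : ∀ X, P X → Q X)
    (h : Function.Bijective (SGA6.mapSub (𝟭 Cᵒᵖ) P.op Q.op (fun X hX => hle X.unop hX))) :
    Function.Bijective (SGA6.mapSub (𝟭 C) P Q hle) := by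
  have hP : Function.Bijective (toOp P) :=
    ⟨Function.LeftInverse.injective (g := fromOp P)
        (fun x => DFunLike.congr_fun (fromOp_toOp P) x),
      Function.RightInverse.surjective (g := fromOp P)
        (fun x => DFunLike.congr_fun (toOp_fromOp P) x)⟩
  have hQ : Function.Bijective (toOp Q) :=
    ⟨Function.LeftInverse.injective (g := fromOp Q)
        (fun x => DFunLike.congr_fun (fromOp_toOp Q) x),
      Function.RightInverse.surjective (g := fromOp Q)
        (fun x => DFunLike.congr_fun (toOp_fromOp Q) x)⟩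
  have e : (toOp Q : KZero.K0sub Q → KZero.K0sub Q.op) ∘ (SGA6.mapSub (𝟭 C) P Q hle) =
      (SGA6.mapSub (𝟭 Cᵒᵖ) P.op Q.op (fun X hX => hle X.unop hX)) ∘ (toOp P) := by
    funext x
    exact DFunLike.congr_fun (toOp_mapSub P Q hle) x
  have h1 : Function.Bijective ((toOp Q : KZero.K0sub Q → KZero.K0sub Q.op) ∘
      (SGA6.mapSub (𝟭 C) P Q hle)) := by
    rw [e]
    exact h.comp hP
  exact (Function.Bijective.of_comp_iff' hQ _).1 h1

end Op

section Dual

variable (P Q : ObjectProperty C) (hle : ∀ X, P X → Q X)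
  (hext : ∀ S : ShortComplex C, S.ShortExact → P S.X₁ → P S.X₃ → P S.X₂)
  (hextQ : ∀ S : ShortComplex C, S.ShortExact → Q S.X₁ → Q S.X₃ → Q S.X₂)
  (o1 : ∀ A : C, Q A → ∃ (K L : C) (i : A ⟶ L) (p : L ⟶ K) (w : i ≫ p = 0),
    (ShortComplex.mk i p w).ShortExact ∧ P L ∧ P K)
  (o2 : ∀ S : ShortComplex C, S.ShortExact → Q S.X₁ → P S.X₂ → Q S.X₃ → P S.X₃)

include hext hextQ o1 o2 in
/-- one-step comparison with coresolutions `0 → A → L → K → 0`, `L, K ∈ P` -/
theorem oneStep_bijective_dual : Function.Bijective (SGA6.mapSub (𝟭 C) P Q hle) := by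
  apply bijective_of_op
  refine oneStep_bijective' P.op Q.op (fun X hX => hle X.unop hX) ?_ ?_ ?_ ?_
  · intro S hS h1 h3
    exact hext S.unop hS.unop h3 h1
  · intro S hS h1 h3
    exact hextQ S.unop hS.unop h3 h1
  · intro A hA
    obtain ⟨K, L, i, p, w, hS, hL, hK⟩ := o1 A.unop hA
    exact ⟨Opposite.op K, Opposite.op L, p.op, i.op, by rw [← op_comp, w, op_zero], hS.op, hL, hK⟩
  · intro S hS h1 h2 h3
    exact o2 S.unop hS.unop h3 h2 h1

end Dual

section Chain

variable (Pk : ℕ → ObjectProperty C) (Q : ObjectProperty C)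
  (hmono : ∀ k X, Pk k X → Pk (k + 1) X) (hle : ∀ k X, Pk k X → Q X)
  (hex : ∀ X, Q X → ∃ k, Pk k X)
  (hstep : ∀ k, Function.Bijective (SGA6.mapSub (𝟭 C) (Pk k) (Pk (k + 1)) (hmono k)))

include hmono in
theorem chain_mono {j k : ℕ} (hjk : j ≤ k) (X : C) (hX : Pk j X) : Pk k X := by
  induction hjk with
  | refl => exact hX
  | step _ ih => exact hmono _ _ ih

include hstep in
theorem chain_bijective' (k : ℕ) :
    Function.Bijective (SGA6.mapSub (𝟭 C) (Pk 0) (Pk k)
      (fun X hX => chain_mono Pk hmono (Nat.zero_le k) X hX)) := by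
  induction k with
  | zero =>
    have : SGA6.mapSub (𝟭 C) (Pk 0) (Pk 0)
        (fun X hX => chain_mono Pk hmono (Nat.zero_le 0) X hX) = AddMonoidHom.id _ := by
      apply K0sub_hom_ext
      intro X hX
      rw [mapSub_cls, AddMonoidHom.id_apply]
    rw [this]
    exact Function.bijective_id
  | succ k ih =>
    have hcomp := mapSub_comp (Pk 0) (Pk k) (Pk (k + 1))
      (fun X hX => chain_mono Pk hmono (Nat.zero_le k) X hX) (hmono k)
    have : (SGA6.mapSub (𝟭 C) (Pk 0) (Pk (k + 1))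
        (fun X hX => chain_mono Pk hmono (Nat.zero_le (k + 1)) X hX) :
        KZero.K0sub (Pk 0) → KZero.K0sub (Pk (k + 1))) =
        (SGA6.mapSub (𝟭 C) (Pk k) (Pk (k + 1)) (hmono k)) ∘
          (SGA6.mapSub (𝟭 C) (Pk 0) (Pk k)
            (fun X hX => chain_mono Pk hmono (Nat.zero_le k) X hX)) := by
      funext x
      exact (DFunLike.congr_fun hcomp x).symm
    rw [this]
    exact (hstep k).comp ih

include hmono hle hex in
theorem relSub_exhaust' (y : FreeAbelianGroup (Subtype Q)) (hy : y ∈ KZero.relSub Q) :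
    ∃ (n : ℕ) (b : FreeAbelianGroup (Subtype (Pk n))), b ∈ KZero.relSub (Pk n) ∧
      FreeAbelianGroup.map (SGA6.objMap (𝟭 C) (Pk n) Q (hle n)) b = y := by
  unfold KZero.relSub at hy
  induction hy using AddSubgroup.closure_induction with
  | mem y hy =>
    obtain ⟨S, h1, h2, h3, hS, rfl⟩ := hy
    obtain ⟨n1, hn1⟩ := hex _ h1
    obtain ⟨n2, hn2⟩ := hex _ h2
    obtain ⟨n3, hn3⟩ := hex _ h3
    have d1 : Pk (max n1 (max n2 n3)) S.X₁ := chain_mono Pk hmono (le_max_left _ _) _ hn1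
    have d2 : Pk (max n1 (max n2 n3)) S.X₂ :=
      chain_mono Pk hmono ((le_max_left _ _).trans (le_max_right _ _)) _ hn2
    have d3 : Pk (max n1 (max n2 n3)) S.X₃ :=
      chain_mono Pk hmono ((le_max_right _ _).trans (le_max_right _ _)) _ hn3
    refine ⟨max n1 (max n2 n3), FreeAbelianGroup.of ⟨S.X₂, d2⟩ - FreeAbelianGroup.of ⟨S.X₁, d1⟩ -
      FreeAbelianGroup.of ⟨S.X₃, d3⟩, AddSubgroup.subset_closure ⟨S, d1, d2, d3, hS, rfl⟩, ?_⟩
    rw [map_sub, map_sub, FreeAbelianGroup.map_of_apply, FreeAbelianGroup.map_of_apply,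
      FreeAbelianGroup.map_of_apply]
    rfl
  | zero => exact ⟨0, 0, zero_mem _, map_zero _⟩
  | add y1 y2 _ _ ih1 ih2 =>
    obtain ⟨n1, b1, hb1, rfl⟩ := ih1
    obtain ⟨n2, b2, hb2, rfl⟩ := ih2
    have t1 := SGA6.relSub_le_comap (𝟭 C) (Pk n1) (Pk (max n1 n2))
      (fun X hX => chain_mono Pk hmono (le_max_left _ _) X hX) hb1
    have t2 := SGA6.relSub_le_comap (𝟭 C) (Pk n2) (Pk (max n1 n2))
      (fun X hX => chain_mono Pk hmono (le_max_right _ _) X hX) hb2
    refine ⟨max n1 n2, _, add_mem t1 t2, ?_⟩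
    rw [map_add, ← FreeAbelianGroup.map_comp_apply, ← FreeAbelianGroup.map_comp_apply]
    rfl
  | neg y _ ih =>
    obtain ⟨n, b, hb, rfl⟩ := ih
    exact ⟨n, -b, neg_mem hb, map_neg _ _⟩

include hmono hle hex hstep in
/-- exhaustive chains with bijective steps -/
theorem chain_union_bijective :
    Function.Bijective (SGA6.mapSub (𝟭 C) (Pk 0) Q (hle 0)) := by
  constructor
  · rw [injective_iff_map_eq_zero]
    intro x hx
    obtain ⟨a, rfl⟩ := QuotientAddGroup.mk_surjective x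
    have hx' : FreeAbelianGroup.map (SGA6.objMap (𝟭 C) (Pk 0) Q (hle 0)) a ∈ KZero.relSub Q := by
      rw [← QuotientAddGroup.eq_zero_iff]
      exact hx
    obtain ⟨n, b, hb, hbe⟩ := relSub_exhaust' Pk Q hmono hle hex _ hx'
    have hcomp : SGA6.objMap (𝟭 C) (Pk 0) Q (hle 0) =
        SGA6.objMap (𝟭 C) (Pk n) Q (hle n) ∘
          SGA6.objMap (𝟭 C) (Pk 0) (Pk n)
            (fun X hX => chain_mono Pk hmono (Nat.zero_le n) X hX) := rfl
    rw [hcomp, FreeAbelianGroup.map_comp_apply] at hbe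
    have hinj : Function.Injective (SGA6.objMap (𝟭 C) (Pk n) Q (hle n)) := by
      intro X Y hXY
      apply Subtype.ext
      have h3 := congrArg Subtype.val hXY
      exact h3
    have hb' := freeAbelianGroup_map_injective _ hinj hbe
    have hz : SGA6.mapSub (𝟭 C) (Pk 0) (Pk n)
        (fun X hX => chain_mono Pk hmono (Nat.zero_le n) X hX) (QuotientAddGroup.mk a) = 0 := by
      unfold SGA6.mapSub
      rw [QuotientAddGroup.map_mk, QuotientAddGroup.eq_zero_iff, ← hb']
      exact hb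
    exact (injective_iff_map_eq_zero _).1 (chain_bijective' Pk hmono hstep n).1 _ hz
  · have hrange : (⊤ : AddSubgroup (KZero.K0sub Q)) ≤
        (SGA6.mapSub (𝟭 C) (Pk 0) Q (hle 0)).range := by
      rw [← closure_cls, AddSubgroup.closure_le]
      rintro x ⟨A, hA, rfl⟩
      obtain ⟨n, hn⟩ := hex A hA
      obtain ⟨y, hy⟩ := (chain_bijective' Pk hmono hstep n).2 (cls (Pk n) A hn)
      refine ⟨y, ?_⟩
      have := mapSub_comp (Pk 0) (Pk n) Q
        (fun X hX => chain_mono Pk hmono (Nat.zero_le n) X hX) (hle n)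
      have h2 := DFunLike.congr_fun this y
      rw [AddMonoidHom.comp_apply, hy, mapSub_cls] at h2
      exact h2.symm
    intro y
    exact hrange (AddSubgroup.mem_top y)

/-- `mapSub` between equivalent properties is bijective -/
theorem mapSub_bijective_of_iff (P P' : ObjectProperty C) (h : ∀ X, P X → P' X)
    (h' : ∀ X, P' X → P X) : Function.Bijective (SGA6.mapSub (𝟭 C) P P' h) := by
  have e1 : (SGA6.mapSub (𝟭 C) P' P h').comp (SGA6.mapSub (𝟭 C) P P' h) = AddMonoidHom.id _ := by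
    apply K0sub_hom_ext
    intro X hX
    rw [AddMonoidHom.comp_apply, mapSub_cls, mapSub_cls, AddMonoidHom.id_apply]
  have e2 : (SGA6.mapSub (𝟭 C) P P' h).comp (SGA6.mapSub (𝟭 C) P' P h') = AddMonoidHom.id _ := by
    apply K0sub_hom_ext
    intro X hX
    rw [AddMonoidHom.comp_apply, mapSub_cls, mapSub_cls, AddMonoidHom.id_apply]
  exact ⟨Function.LeftInverse.injective (g := SGA6.mapSub (𝟭 C) P' P h')
      (fun x => DFunLike.congr_fun e1 x),
    Function.RightInverse.surjective (g := SGA6.mapSub (𝟭 C) P' P h')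
      (fun x => DFunLike.congr_fun e2 x)⟩

end Chain

end Groth.Agent.Lib.Helper20.K0Co
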