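import Mathlib
import Groth.Prelude.Def_K0Var

/-!
# Grothendieck ring of varieties: inclusion–exclusion for opens (helper20)

For a scheme `A` of finite type over `S` with `A` locally Noetherian (so that every open
subscheme is again of finite type over `S`):
* `clO pA V`: the class of the open subscheme `V` of `A` in `K0Var.K S`.
* `clO_sup_add_inf`: `[V ∪ W] + [V ∩ W] = [V] + [W]`.
* `clO_bot`, `clO_top`.
-/

set_option autoImplicit false
universe u

open CategoryTheory CategoryTheory.Limits AlgebraicGeometry TopologicalSpace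

namespace Groth.Agent.Lib.helper20.K0Fib

variable {S A : Scheme.{u}} (pA : A ⟶ S) [LocallyOfFiniteType pA] [QuasiCompact pA]
  [IsLocallyNoetherian A]

/-- the class of an open subscheme -/
noncomputable def clO (V : A.Opens) : K0Var.K S := K0Var.cl (V.ι ≫ pA)

theorem clO_congr {V W : A.Opens} (h : V = W) : clO pA V = clO pA W := by rw [h]

theorem clO_bot : clO pA (⊥ : A.Opens) = 0 := by
  haveI : IsEmpty (K0Var.Gen.mk (S := S) (⊥ : A.Opens).toScheme ((⊥ : A.Opens).ι ≫ pA)).X :=
    ⟨fun x => x.2.elim⟩
  exact K0Var.Gen.cl_eq_zero_of_isEmpty _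

theorem clO_top : clO pA (⊤ : A.Opens) = K0Var.cl pA :=
  K0Var.Gen.cl_congr (K0Var.Gen.mk (⊤ : A.Opens).toScheme ((⊤ : A.Opens).ι ≫ pA))
    (K0Var.Gen.mk A pA) (Scheme.topIso A) (by simp)

section scissor

variable (V W : A.Opens)

/-- the closed subset `W \ V` of the open subscheme `W` -/
def diffCloseds : Closeds W.toScheme :=
  ⟨(W.ι ⁻¹ᵁ V : W.toScheme.Opens)ᶜ, (W.ι ⁻¹ᵁ V).isOpen.isClosed_compl⟩

/-- the reduced closed subscheme of `W` on `W \ V` -/
noncomputable def diffIdeal : W.toScheme.IdealSheafData :=
  Scheme.IdealSheafData.vanishingIdeal (diffCloseds V W)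

theorem range_diffι :
    Set.range (diffIdeal V W).subschemeι = ((W.ι ⁻¹ᵁ V : W.toScheme.Opens) : Set W.toScheme)ᶜ := by
  rw [Scheme.IdealSheafData.range_subschemeι]
  exact Scheme.IdealSheafData.coe_support_vanishingIdeal _

/-- the class of `W \ V` -/
noncomputable def clDiff : K0Var.K S :=
  K0Var.cl ((diffIdeal V W).subschemeι ≫ W.ι ≫ pA)

theorem range_homOfLE {V W : A.Opens} (h : V ≤ W) :
    Set.range (A.homOfLE h) = ((W.ι ⁻¹ᵁ V : W.toScheme.Opens) : Set W.toScheme) := by
  have := Scheme.opensRange_homOfLE h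
  rw [← this]
  rfl

theorem clO_eq_inf_add_diff : clO pA W = clO pA (V ⊓ W) + clDiff pA V W := by
  have hsc : K0Var.IsScissor (K0Var.Gen.mk W.toScheme (W.ι ≫ pA))
      (K0Var.Gen.mk (diffIdeal V W).subscheme ((diffIdeal V W).subschemeι ≫ W.ι ≫ pA))
      (K0Var.Gen.mk (V ⊓ W).toScheme ((V ⊓ W).ι ≫ pA))
      (diffIdeal V W).subschemeι (A.homOfLE inf_le_right) :=
    { isClosedImmersion := inferInstance
      isOpenImmersion := inferInstance
      i_comp := rfl
      j_comp := by simp
      range_eq := by
        rw [range_diffι, range_homOfLE]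
        congr 1
        ext x
        simp only [Scheme.Hom.coe_preimage, Set.mem_preimage, SetLike.mem_coe]
        constructor
        · intro hx; exact ⟨hx, by simpa using x.2⟩
        · intro hx; exact hx.1 }
  have := K0Var.Gen.cl_scissor hsc
  rw [add_comm]
  exact this

theorem clO_sup_eq_add_diff : clO pA (V ⊔ W) = clO pA V + clDiff pA V W := by
  haveI : IsClosedImmersion ((diffIdeal V W).subschemeι ≫ A.homOfLE (le_sup_right : W ≤ V ⊔ W)) := by
    apply IsClosedImmersion.of_isPreimmersion
    have h1 : Set.range ((diffIdeal V W).subschemeι ≫ A.homOfLE (le_sup_right : W ≤ V ⊔ W)) =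
        (Set.range (A.homOfLE (le_sup_left : V ≤ V ⊔ W)))ᶜ := by
      rw [Scheme.Hom.comp_base, TopCat.coe_comp, Set.range_comp, range_diffι, range_homOfLE]
      ext x
      simp only [Set.mem_image, Set.mem_compl_iff, Scheme.Hom.coe_preimage, Set.mem_preimage,
        SetLike.mem_coe]
      constructor
      · rintro ⟨y, hy, rfl⟩
        rw [← Scheme.Hom.comp_apply, Scheme.homOfLE_ι]
        exact hy
      · intro hx
        have hxW : (V ⊔ W).ι x ∈ W := by
          have := x.2
          rcases this with h | h
          · exact absurd h hx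
          · exact h
        refine ⟨⟨(V ⊔ W).ι x, hxW⟩, ?_, ?_⟩
        · exact hx
        · apply Subtype.ext
          rw [Scheme.homOfLE_apply]
          rfl
    rw [h1]
    exact (A.homOfLE (le_sup_left : V ≤ V ⊔ W)).isOpenEmbedding.isOpen_range.isClosed_compl
  have hsc : K0Var.IsScissor (K0Var.Gen.mk (V ⊔ W).toScheme ((V ⊔ W).ι ≫ pA))
      (K0Var.Gen.mk (diffIdeal V W).subscheme ((diffIdeal V W).subschemeι ≫ W.ι ≫ pA))
      (K0Var.Gen.mk V.toScheme (V.ι ≫ pA))
      ((diffIdeal V W).subschemeι ≫ A.homOfLE (le_sup_right : W ≤ V ⊔ W))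
      (A.homOfLE (le_sup_left : V ≤ V ⊔ W)) :=
    { isClosedImmersion := inferInstance
      isOpenImmersion := inferInstance
      i_comp := by simp
      j_comp := by simp
      range_eq := by
        rw [Scheme.Hom.comp_base, TopCat.coe_comp, Set.range_comp, range_diffι, range_homOfLE]
        ext x
        simp only [Set.mem_image, Set.mem_compl_iff, Scheme.Hom.coe_preimage, Set.mem_preimage,
          SetLike.mem_coe]
        constructor
        · rintro ⟨y, hy, rfl⟩
          rw [← Scheme.Hom.comp_apply, Scheme.homOfLE_ι]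
          exact hy
        · intro hx
          have hxW : (V ⊔ W).ι x ∈ W := by
            have := x.2
            rcases this with h | h
            · exact absurd h hx
            · exact h
          refine ⟨⟨(V ⊔ W).ι x, hxW⟩, ?_, ?_⟩
          · exact hx
          · apply Subtype.ext
            rw [Scheme.homOfLE_apply]
            rfl }
  have := K0Var.Gen.cl_scissor hsc
  rw [add_comm]
  exact this

/-- inclusion–exclusion for the classes of opens -/
theorem clO_sup_add_inf : clO pA (V ⊔ W) + clO pA (V ⊓ W) = clO pA V + clO pA W := by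
  rw [clO_sup_eq_add_diff, clO_eq_inf_add_diff pA V W]
  ring

end scissor

end Groth.Agent.Lib.helper20.K0Fib
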