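import Mathlib
import Groth.Prelude.Def_K0Var
import Groth.Agent.Lib.Helper20.K0Fib1

/-!
# Grothendieck ring of varieties: Zariski-locally trivial fibrations (helper20)

`cl_fibration`: if `f : X ⟶ Y` is Zariski-locally (on `Y`) isomorphic to the projection
`U ×_S F ⟶ U`, then `[X] = [Y] * [F]` in `K0Var.K S` (for `X`, `Y` locally Noetherian, `Y`
quasi-compact).
-/

set_option autoImplicit false
universe u

open CategoryTheory CategoryTheory.Limits AlgebraicGeometry TopologicalSpace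

namespace Groth.Agent.Lib.helper20.K0Fib

variable {S X Y F : Scheme.{u}} (pY : Y ⟶ S) [LocallyOfFiniteType pY] [QuasiCompact pY]
  (pF : F ⟶ S) [LocallyOfFiniteType pF] [QuasiCompact pF]
  (f : X ⟶ Y) [LocallyOfFiniteType f] [QuasiCompact f]
  [IsLocallyNoetherian Y] [IsLocallyNoetherian X]

/-- `f` is trivial with fibre `F` over the open `U` -/
def Triv (U : Y.Opens) : Prop :=
  ∃ e : (f ⁻¹ᵁ U).toScheme ≅ pullback (U.ι ≫ pY) pF,
    e.hom ≫ pullback.fst (U.ι ≫ pY) pF = f ∣_ U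

/-- `[f⁻¹ V] = [V] * [F]` -/
def Q (V : Y.Opens) : Prop :=
  clO (f ≫ pY) (f ⁻¹ᵁ V) = clO pY V * K0Var.cl pF

omit [LocallyOfFiniteType pY] [QuasiCompact pY] [LocallyOfFiniteType pF] [QuasiCompact pF]
  [LocallyOfFiniteType f] [QuasiCompact f] [IsLocallyNoetherian Y] [IsLocallyNoetherian X] in
theorem isPullback_of_triv {U V : Y.Opens} (hU : Triv pY pF f U) (h : V ≤ U) :
    ∃ b : (f ⁻¹ᵁ V).toScheme ⟶ F, IsPullback (f ∣_ V) b (V.ι ≫ pY) pF := by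
  obtain ⟨e, he⟩ := hU
  have hR : IsPullback (f ∣_ U) (e.hom ≫ pullback.snd (U.ι ≫ pY) pF) (U.ι ≫ pY) pF := by
    refine IsPullback.of_iso_pullback ⟨?_⟩ e he rfl
    rw [← he, Category.assoc, Category.assoc, pullback.condition]
  have h' : f ⁻¹ᵁ V ≤ f ⁻¹ᵁ U := f.preimage_mono h
  have hL : IsPullback (X.homOfLE h') (f ∣_ V) (f ∣_ U) (Y.homOfLE h) := by
    refine IsPullback.of_right ?_ ?_ (isPullback_morphismRestrict f U).flip
    · rw [Scheme.homOfLE_ι, Scheme.homOfLE_ι]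
      exact (isPullback_morphismRestrict f V).flip
    · rw [← cancel_mono U.ι, Category.assoc, Category.assoc, morphismRestrict_ι,
        Scheme.homOfLE_ι, Scheme.homOfLE_ι_assoc, morphismRestrict_ι]
  have := hL.flip.paste_vert hR
  rw [Scheme.homOfLE_ι_assoc] at this
  exact ⟨_, this⟩

theorem Q_of_triv {U V : Y.Opens} (hU : Triv pY pF f U) (h : V ≤ U) : Q pY pF f V := by
  obtain ⟨b, hb⟩ := isPullback_of_triv pY pF f hU h
  have h1 : clO (f ≫ pY) (f ⁻¹ᵁ V) =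
      ((K0Var.Gen.mk V.toScheme (V.ι ≫ pY)).prod (K0Var.Gen.mk F pF)).cl := by
    refine K0Var.Gen.cl_congr (K0Var.Gen.mk (f ⁻¹ᵁ V).toScheme ((f ⁻¹ᵁ V).ι ≫ f ≫ pY)) _
      hb.isoPullback ?_
    change hb.isoPullback.hom ≫ pullback.fst (V.ι ≫ pY) pF ≫ V.ι ≫ pY = (f ⁻¹ᵁ V).ι ≫ f ≫ pY
    rw [IsPullback.isoPullback_hom_fst_assoc, morphismRestrict_ι_assoc]
  unfold Q
  rw [h1, K0Var.Gen.cl_prod]
  rfl

theorem Q_sup {V W : Y.Opens} (hV : Q pY pF f V) (hW : Q pY pF f W)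
    (hVW : Q pY pF f (V ⊓ W)) : Q pY pF f (V ⊔ W) := by
  unfold Q at *
  have h1 := clO_sup_add_inf (f ≫ pY) (f ⁻¹ᵁ V) (f ⁻¹ᵁ W)
  have h2 := clO_sup_add_inf pY V W
  have e1 : clO (f ≫ pY) (f ⁻¹ᵁ (V ⊔ W)) = clO (f ≫ pY) (f ⁻¹ᵁ V ⊔ f ⁻¹ᵁ W) :=
    clO_congr _ rfl
  have e2 : clO (f ≫ pY) (f ⁻¹ᵁ (V ⊓ W)) = clO (f ≫ pY) (f ⁻¹ᵁ V ⊓ f ⁻¹ᵁ W) :=
    clO_congr _ rfl
  rw [e2] at hVW
  rw [e1]
  linear_combination h1 - hVW + hV + hW - K0Var.cl pF * h2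

theorem Q_bot : Q pY pF f ⊥ := by
  unfold Q
  have e1 : clO (f ≫ pY) (f ⁻¹ᵁ ⊥) = clO (f ≫ pY) ⊥ := clO_congr _ rfl
  rw [e1, clO_bot, clO_bot, zero_mul]

theorem Q_finset_sup (s : Finset Y.Opens) (hs : ∀ U ∈ s, Triv pY pF f U) :
    Q pY pF f (s.sup id) := by
  classical
  induction s using Finset.induction_on with
  | empty => exact Q_bot pY pF f
  | insert U s hUs ih =>
    rw [Finset.sup_insert]
    have hU := hs U (Finset.mem_insert_self U s)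
    exact Q_sup pY pF f (Q_of_triv pY pF f hU le_rfl)
      (ih fun W hW => hs W (Finset.mem_insert_of_mem hW))
      (Q_of_triv pY pF f hU inf_le_left)

/-- a Zariski-locally trivial fibration with fibre `F` has class `[Y] * [F]` -/
theorem cl_fibration [CompactSpace Y]
    (hf : ∀ y : Y, ∃ (U : Y.Opens) (e : (f ⁻¹ᵁ U).toScheme ≅ pullback (U.ι ≫ pY) pF),
      y ∈ U ∧ e.hom ≫ pullback.fst (U.ι ≫ pY) pF = f ∣_ U) :
    K0Var.cl (f ≫ pY) = K0Var.cl pY * K0Var.cl pF := by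
  classical
  have hf' : ∀ y : Y, ∃ U : Y.Opens, y ∈ U ∧ Triv pY pF f U := by
    intro y
    obtain ⟨U, e, hy, he⟩ := hf y
    exact ⟨U, hy, e, he⟩
  choose U hyU hU using hf'
  obtain ⟨t, ht⟩ := isCompact_univ.elim_finite_subcover (fun y => (U y : Set Y))
    (fun y => (U y).isOpen) (fun y _ => Set.mem_iUnion.2 ⟨y, hyU y⟩)
  have hQ := Q_finset_sup pY pF f (t.image U) (by
    intro W hW
    obtain ⟨y, -, rfl⟩ := Finset.mem_image.1 hW
    exact hU y)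
  have htop : (t.image U).sup id = ⊤ := by
    rw [eq_top_iff]
    intro x _
    obtain ⟨y, hy⟩ := Set.mem_iUnion.1 (ht (Set.mem_univ x))
    obtain ⟨hyt, hxy⟩ := Set.mem_iUnion.1 hy
    have hle : U y ≤ (t.image U).sup id :=
      Finset.le_sup (f := id) (Finset.mem_image_of_mem U hyt)
    exact hle hxy
  rw [htop] at hQ
  unfold Q at hQ
  have e1 : clO (f ≫ pY) (f ⁻¹ᵁ ⊤) = clO (f ≫ pY) ⊤ := clO_congr _ rfl
  rw [e1, clO_top, clO_top] at hQ
  exact hQ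

end Groth.Agent.Lib.helper20.K0Fib
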