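import Mathlib
import Groth.Prelude.Def_KRR
import Groth.Agent.Lib.Helper13.K0Res2
import Groth.Agent.Lib.Helper13.K0Res3
import Groth.Agent.Lib.Helper23.RegPD
import Groth.Agent.Lib.Helper21.RelFPSch2
import Groth.Agent.Lib.Helper21.CohWeakSerre
import Groth.Agent.Lib.Helper16.FLF8
import Groth.Agent.Lib.Helper25.FLFKernel
import Groth.Agent.Lib.Helper7.CohKer

/-!
# `K₀(vector bundles) ≅ K₀(coherent)` on regular Noetherian schemes with enough locally frees (helper20)
-/

set_option autoImplicit false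
universe u

open CategoryTheory CategoryTheory.Limits AlgebraicGeometry Opposite TopologicalSpace

namespace Groth.Agent.Lib.Helper20.K0Reg

open Groth.Agent.Lib.helper16.FLF Groth.Agent.Lib.helper13.K0Res

variable {X : Scheme.{u}}

/-- sections over `U` of a short complex of modules, as a short complex of `Γ(X, U)`-modules -/
noncomputable def secSC (E : ShortComplex X.Modules) (U : X.Opens) :
    ShortComplex (ModuleCat.{u} Γ(X, U)) :=
  ShortComplex.mk (ModuleCat.ofHom (sectionsLin E.f U)) (ModuleCat.ofHom (sectionsLin E.g U)) (by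
    rw [← ModuleCat.ofHom_comp, ← sectionsLin_comp, E.zero]
    ext x
    rfl)

theorem secSC_shortExact (E : ShortComplex X.Modules) (hE : E.ShortExact) [E.X₁.IsQuasicoherent]
    {U : X.Opens} (hU : IsAffineOpen U) : (secSC E U).ShortExact := by
  obtain ⟨h1, h2, h3⟩ := Groth.Agent.Lib.helper21.RelFPSch.sections_exact E hE hU
  exact ModuleCat.shortComplex_shortExact _ h3 h1 h2

theorem isCoh_of_vb {M : X.Modules} (hM : FlatMod.IsFinLocFree M) : Coh.IsCoh M :=
  ⟨isQuasicoherent_of_isFinLocFree M hM, isFiniteType_of_isFinLocFree M hM⟩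

section Hyp

open Groth.Agent.Lib.helper16.CohFinite

variable [IsLocallyNoetherian X]

theorem projective_of_sections {M : X.Modules} {U : X.Opens}
    (h : Module.Projective Γ(X, U) Γ(M, U)) :
    Projective (ModuleCat.of Γ(X, U) Γ(M, U)) :=
  (IsProjective.iff_projective _).mp h

/-- an extension of finite locally free modules is finite locally free -/
theorem vb_ext (S : ShortComplex X.Modules) (hS : S.ShortExact)
    (h1 : FlatMod.IsFinLocFree S.X₁) (h3 : FlatMod.IsFinLocFree S.X₃) :
    FlatMod.IsFinLocFree S.X₂ := by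
  have hc := Groth.Agent.Lib.helper21.CohWeakSerre.isCoh_of_extension S hS
    (isCoh_of_vb h1) (isCoh_of_vb h3)
  haveI := hc.1
  haveI := (isCoh_of_vb h1).1
  refine (isFinLocFree_iff_projective_sections S.X₂).mpr (fun U => ?_)
  have hT := secSC_shortExact S hS U.2
  have p1 := projective_sections_of_isFinLocFree S.X₁ h1 U.2
  have p3 := projective_sections_of_isFinLocFree S.X₃ h3 U.2
  refine ⟨finite_sections_of_isCoh S.X₂ hc U.2, ?_⟩
  have q1 : HasProjectiveDimensionLT (secSC S U.1).X₁ 1 :=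
    projective_iff_hasProjectiveDimensionLT_one.mp (projective_of_sections p1.2)
  have q3 : HasProjectiveDimensionLT (secSC S U.1).X₃ 1 :=
    projective_iff_hasProjectiveDimensionLT_one.mp (projective_of_sections p3.2)
  have q2 := hT.hasProjectiveDimensionLT_X₂ 1 q1 q3
  exact (IsProjective.iff_projective _).mpr
    (projective_iff_hasProjectiveDimensionLT_one.mpr q2)

theorem coh_ker (S : ShortComplex X.Modules) (hS : S.ShortExact)
    (h2 : Coh.IsCoh S.X₂) (h3 : Coh.IsCoh S.X₃) : Coh.IsCoh S.X₁ := by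
  let e : S.X₁ ≅ kernel S.g := IsLimit.conePointUniqueUpToIso hS.fIsKernel (limit.isLimit _)
  exact Groth.Agent.Lib.helper7.CohKer.isCoh_of_iso e.symm
    (Groth.Agent.Lib.helper7.CohKer.isCoh_kernel h2 h3 S.g)

theorem vb_ker (S : ShortComplex X.Modules) (hS : S.ShortExact)
    (h2 : FlatMod.IsFinLocFree S.X₂) (h3 : FlatMod.IsFinLocFree S.X₃) :
    FlatMod.IsFinLocFree S.X₁ := by
  let e : S.X₁ ≅ kernel S.g := IsLimit.conePointUniqueUpToIso hS.fIsKernel (limit.isLimit _)
  haveI := hS.epi_g
  exact isFinLocFree_of_iso e.symm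
    (Groth.Agent.Lib.helper25.FLFKernel.isFinLocFree_kernel_of_epi S.g h2 h3)

theorem hyp (hX : KRR.HasEnoughLocFree X) :
    Hyp (KRR.vbP X) (fun M : X.Modules => Coh.IsCoh M) where
  le := fun _ hM => isCoh_of_vb hM
  ext₀ := vb_ext
  ext₁ := fun S hS h1 h3 =>
    Groth.Agent.Lib.helper21.CohWeakSerre.isCoh_of_extension S hS h1 h3
  ker₀ := vb_ker
  ker₁ := coh_ker
  cover := fun A hA => by
    obtain ⟨E, p, hE, hp⟩ := hX A hA
    exact ⟨E, p, hE, hp⟩

end Hyp

section Pd

open Groth.Agent.Lib.helper16.CohFinite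

variable [IsLocallyNoetherian X]

/-- bounded projective dimension of the sections over a finite set of affine opens -/
def PdAff (t : Finset X.affineOpens) (n : ℕ) (A : X.Modules) : Prop :=
  ∀ U ∈ t, HasProjectiveDimensionLE (ModuleCat.of Γ(X, U.1) Γ(A, U.1)) n

theorem vb_of_pdAff_zero (t : Finset X.affineOpens) (hcov : ⨆ U : {U // U ∈ t}, U.1.1 = (⊤ : X.Opens))
    {A : X.Modules} (hA : Coh.IsCoh A) (h : PdAff t 0 A) : FlatMod.IsFinLocFree A := by
  haveI := hA.1
  refine isFinLocFree_of_projective_sections A (fun U : {U // U ∈ t} => U.1.1)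
    (fun U => U.1.2) hcov (fun U => ⟨finite_sections_of_isCoh A hA U.1.2, ?_⟩)
  have h1 : HasProjectiveDimensionLT (ModuleCat.of Γ(X, U.1.1) Γ(A, U.1.1)) 1 := h U.1 U.2
  exact (IsProjective.iff_projective _).mpr (projective_iff_hasProjectiveDimensionLT_one.mpr h1)

theorem pdAff_ker (t : Finset X.affineOpens) (n : ℕ) (E : ShortComplex X.Modules)
    (hE : E.ShortExact) [E.X₁.IsQuasicoherent] (h2 : FlatMod.IsFinLocFree E.X₂)
    (h3 : PdAff t (n + 1) E.X₃) : PdAff t n E.X₁ := by
  intro U hU
  have hT := secSC_shortExact E hE U.2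
  have hp := projective_of_sections (projective_sections_of_isFinLocFree E.X₂ h2 U.2).2
  exact (hT.hasProjectiveDimensionLT_X₃_iff n hp).mp (h3 U hU)

theorem D_of_pdAff (t : Finset X.affineOpens)
    (hcov : ⨆ U : {U // U ∈ t}, U.1.1 = (⊤ : X.Opens)) :
    ∀ (n : ℕ) (A : X.Modules), Coh.IsCoh A → PdAff t n A →
      D (KRR.vbP X) (fun M : X.Modules => Coh.IsCoh M) n A
  | 0, A, hA, h => vb_of_pdAff_zero t hcov hA h
  | n + 1, A, hA, h => by
    refine ⟨hA, fun K L i p w hS hL => ?_⟩
    have hK : Coh.IsCoh K := coh_ker _ hS (isCoh_of_vb hL) hA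
    haveI : (ShortComplex.mk i p w).X₁.IsQuasicoherent := hK.1
    exact D_of_pdAff t hcov n K hK (pdAff_ker t n _ hS hL h)

/-- the localizations of the ring of sections over an affine open are regular when the stalks are -/
theorem isRegularLocalRing_localization
    (hreg : ∀ x : X, IsRegularLocalRing (X.presheaf.stalk x)) {U : X.Opens} (hU : IsAffineOpen U)
    (p : PrimeSpectrum Γ(X, U)) : IsRegularLocalRing (Localization.AtPrime p.asIdeal) := by
  have hx : hU.fromSpec p ∈ U := by
    have : hU.fromSpec p ∈ Set.range hU.fromSpec := Set.mem_range_self p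
    rwa [hU.range_fromSpec] at this
  letI := TopCat.Presheaf.algebra_section_stalk X.presheaf (⟨hU.fromSpec p, hx⟩ : U)
  haveI : IsLocalization p.asIdeal.primeCompl (X.presheaf.stalk (hU.fromSpec p)) :=
    hU.isLocalization_stalk' p hx
  haveI := hreg (hU.fromSpec p)
  let e : X.presheaf.stalk (hU.fromSpec p) ≃ₐ[Γ(X, U)] Localization.AtPrime p.asIdeal :=
    IsLocalization.algEquiv p.asIdeal.primeCompl _ _
  exact IsRegularLocalRing.of_ringEquiv e.toRingEquiv

theorem exists_pdAff (hreg : ∀ x : X, IsRegularLocalRing (X.presheaf.stalk x))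
    (t : Finset X.affineOpens) {A : X.Modules} (hA : Coh.IsCoh A) : ∃ n, PdAff t n A := by
  have h1 : ∀ U : X.affineOpens, ∃ n,
      HasProjectiveDimensionLE (ModuleCat.of Γ(X, U.1) Γ(A, U.1)) n := by
    intro U
    haveI : IsNoetherianRing Γ(X, U.1) := IsLocallyNoetherian.component_noetherian U
    haveI : Module.Finite Γ(X, U.1) (ModuleCat.of Γ(X, U.1) Γ(A, U.1)) :=
      finite_sections_of_isCoh A hA U.2
    exact Groth.Agent.Lib.helper23.RegPD.exists_hasProjectiveDimensionLE_of_regular
      (fun p => isRegularLocalRing_localization hreg U.2 p) _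
  choose nU hnU using h1
  refine ⟨t.sup nU, fun U hU => ?_⟩
  have hle : nU U ≤ t.sup nU := Finset.le_sup hU
  haveI := hnU U
  exact hasProjectiveDimensionLT_of_ge _ (nU U + 1) (t.sup nU + 1) (by omega)

/-- **`K₀(vb) → K₀(coh)` is bijective** on a regular Noetherian scheme with enough locally frees -/
theorem bijective [CompactSpace X] (hreg : ∀ x : X, IsRegularLocalRing (X.presheaf.stalk x))
    (hX : KRR.HasEnoughLocFree X)
    (h : ∀ M : X.Modules, FlatMod.IsFinLocFree M → Coh.IsCoh M) :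
    Function.Bijective (SGA6.mapSub (𝟭 X.Modules) (KRR.vbP X)
      (fun M : X.Modules => Coh.IsCoh M) h) := by
  obtain ⟨t, ht⟩ : ∃ t : Finset X.affineOpens,
      ⨆ U : {U // U ∈ t}, U.1.1 = (⊤ : X.Opens) := by
    have hc := isCompact_univ (X := X)
    obtain ⟨t, ht⟩ := hc.elim_finite_subcover (fun U : X.affineOpens => (U.1 : Set X))
      (fun U => U.1.2) (by
        intro x _
        have hx : x ∈ (⨆ U : X.affineOpens, U.1 : X.Opens) := by
          rw [iSup_affineOpens_eq_top]; trivial
        obtain ⟨U, hU⟩ := Opens.mem_iSup.mp hx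
        exact Set.mem_iUnion.mpr ⟨U, hU⟩)
    refine ⟨t, ?_⟩
    rw [eq_top_iff]
    intro x _
    obtain ⟨U, hU⟩ := Set.mem_iUnion.mp (ht (Set.mem_univ x))
    obtain ⟨hUt, hxU⟩ := Set.mem_iUnion.mp hU
    exact Opens.mem_iSup.mpr ⟨⟨U, hUt⟩, hxU⟩
  exact union_bijective (hyp hX) (fun A hA => by
    obtain ⟨n, hn⟩ := exists_pdAff hreg t hA
    exact ⟨n, D_of_pdAff t ht n A hA hn⟩)

end Pd

end Groth.Agent.Lib.Helper20.K0Reg
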