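import Mathlib
import Groth.Prelude.Def_KRR
import Groth.Agent.Lib.Helper20.K0Reg

/-!
# `K₀(vector bundles) ≅ K₀(coherent modules with a finite locally free resolution)` (helper20)
-/

set_option autoImplicit false
universe u

open CategoryTheory CategoryTheory.Limits AlgebraicGeometry Opposite TopologicalSpace ZeroObject

namespace Groth.Agent.Lib.Helper20.K0LFRes

open Groth.Agent.Lib.helper16.FLF Groth.Agent.Lib.helper13.K0Res Groth.Agent.Lib.Helper20.K0Reg

section Abstract

variable {C : Type*} [Category C] [Abelian C]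

lemma epi_toCycles_of_exactAt {ι : Type*} {c : ComplexShape ι} (K : HomologicalComplex C c)
    (i j : ι) (hi : c.prev j = i) (h : K.ExactAt j) : Epi (K.toCycles i j) := by
  subst hi
  exact ((HomologicalComplex.exactAt_iff K j).1 h).epi_toCycles

variable (L : ChainComplex C ℕ)

/-- `0 → Z_{q+1} → L_{q+1} → Z_q → 0` -/
noncomputable def cyclesSC (q : ℕ) : ShortComplex C :=
  ShortComplex.mk (L.iCycles (q + 1)) (L.toCycles (q + 1) q) (by
    rw [← cancel_mono (L.iCycles q), Category.assoc, L.toCycles_i, L.iCycles_d, zero_comp])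

lemma cyclesSC_shortExact (q : ℕ) (h : L.ExactAt q) : (cyclesSC L q).ShortExact := by
  have hepi : Epi (L.toCycles (q + 1) q) :=
    epi_toCycles_of_exactAt L (q + 1) q (by simp) h
  have hmono : Mono (L.iCycles (q + 1)) := inferInstance
  refine ShortComplex.ShortExact.mk' ?_ hmono hepi
  exact ShortComplex.exact_of_f_is_kernel _
    (isKernelOfComp (L.iCycles q) (L.d (q + 1) q) (L.cyclesIsKernel (q + 1) q (by simp))
      _ (L.toCycles_i (q + 1) q))

lemma isZero_cycles (q : ℕ) (h : IsZero (L.X q)) : IsZero (L.cycles q) := by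
  rw [IsZero.iff_id_eq_zero, ← cancel_mono (L.iCycles q)]
  exact h.eq_of_tgt _ _

variable {L} {F : C} (π : L ⟶ (ChainComplex.single₀ C).obj F)

lemma d_comp_π : L.d 1 0 ≫ π.f 0 = 0 := by
  have := π.comm 1 0
  have h0 : ((ChainComplex.single₀ C).obj F).d 1 0 = 0 := by simp
  rw [← this, h0, comp_zero]

variable [QuasiIso π]

include π in
lemma exactAt_succ (n : ℕ) : L.ExactAt (n + 1) := by
  rw [← quasiIsoAt_iff_exactAt' π (n + 1) (ChainComplex.exactAt_succ_single_obj _ _)]
  infer_instance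

lemma exact₀ : (ShortComplex.mk (L.d 1 0) (π.f 0) (d_comp_π π)).Exact ∧ Epi (π.f 0) := by
  have h : QuasiIsoAt π 0 := inferInstance
  rw [ChainComplex.quasiIsoAt₀_iff, ShortComplex.quasiIso_iff_of_zeros'] at h
  · exact h
  · exact L.shape _ _ (by simp)
  · rfl
  · rfl

/-- `0 → ker π₀ → L₀ → F → 0` -/
noncomputable def augSC : ShortComplex C :=
  ShortComplex.mk (kernel.ι (π.f 0)) (π.f 0) (kernel.condition _)

lemma augSC_shortExact : (augSC π).ShortExact := by
  have hepi : Epi (π.f 0) := (exact₀ π).2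
  have hmono : Mono (kernel.ι (π.f 0)) := inferInstance
  exact ShortComplex.ShortExact.mk' (ShortComplex.exact_of_f_is_kernel _ (kernelIsKernel _))
    hmono hepi

/-- `0 → Z₁ → L₁ → ker π₀ → 0` -/
noncomputable def firstSC : ShortComplex C :=
  ShortComplex.mk (L.iCycles 1) (kernel.lift (π.f 0) (L.d 1 0) (d_comp_π π)) (by
    rw [← cancel_mono (kernel.ι (π.f 0)), Category.assoc, kernel.lift_ι, L.iCycles_d, zero_comp])

lemma firstSC_shortExact : (firstSC π).ShortExact := by
  have hepi : Epi (kernel.lift (π.f 0) (L.d 1 0) (d_comp_π π)) :=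
    (ShortComplex.exact_iff_epi_kernel_lift _).mp (exact₀ π).1
  have hmono : Mono (L.iCycles 1) := inferInstance
  refine ShortComplex.ShortExact.mk' ?_ hmono hepi
  exact ShortComplex.exact_of_f_is_kernel _
    (isKernelOfComp (kernel.ι (π.f 0)) (L.d 1 0) (L.cyclesIsKernel 1 0 (by simp))
      _ (kernel.lift_ι _ _ _))

omit [QuasiIso π] in
/-- build a quasi-isomorphism to `single₀ F` from exactness -/
lemma quasiIso_of_exact (L : ChainComplex C ℕ) (F : C) (f : L.X 0 ⟶ F) (hf : L.d 1 0 ≫ f = 0)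
    (hex : (ShortComplex.mk _ _ hf).Exact) (hepi : Epi f) (hL : ∀ n, L.ExactAt (n + 1)) :
    QuasiIso ((ChainComplex.toSingle₀Equiv L F).symm ⟨f, hf⟩) := by
  refine ⟨fun n => ?_⟩
  cases n with
  | zero =>
    rw [ChainComplex.quasiIsoAt₀_iff, ShortComplex.quasiIso_iff_of_zeros']
    · refine (ShortComplex.exact_and_epi_g_iff_of_iso ?_).2 ⟨hex, hepi⟩
      exact ShortComplex.isoMk (Iso.refl _) (Iso.refl _) (Iso.refl _)
        ((Category.id_comp _).trans (Category.comp_id _).symm)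
        (by
          change 𝟙 (L.X 0) ≫ f = ((ChainComplex.toSingle₀Equiv L F).symm ⟨f, hf⟩).f 0 ≫ 𝟙 F
          rw [ChainComplex.toSingle₀Equiv_symm_apply_f_zero, Category.id_comp]
          exact (Category.comp_id f).symm)
    · exact L.shape _ _ (by simp)
    · rfl
    · rfl
  | succ k =>
    rw [quasiIsoAt_iff_exactAt' _ (k + 1) (ChainComplex.exactAt_succ_single_obj _ _)]
    exact hL k

end Abstract

section Sch

open Groth.Agent.Lib.helper16.CohFinite

variable {X : Scheme.{u}} [IsLocallyNoetherian X]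

theorem pdAff_mono (t : Finset X.affineOpens) {m n : ℕ} (hmn : m ≤ n) {A : X.Modules}
    (h : PdAff t m A) : PdAff t n A := fun U hU => by
  haveI := h U hU
  exact hasProjectiveDimensionLT_of_ge _ (m + 1) (n + 1) (by omega)

theorem pdAff_zero_of_vb (t : Finset X.affineOpens) {A : X.Modules}
    (hA : FlatMod.IsFinLocFree A) : PdAff t 0 A := fun U _ =>
  projective_iff_hasProjectiveDimensionLT_one.mp
    (projective_of_sections (projective_sections_of_isFinLocFree A hA U.2).2)

theorem pdAff_coker (t : Finset X.affineOpens) (m : ℕ) (E : ShortComplex X.Modules)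
    (hE : E.ShortExact) [E.X₁.IsQuasicoherent] (h2 : FlatMod.IsFinLocFree E.X₂)
    (h1 : PdAff t m E.X₁) : PdAff t (m + 1) E.X₃ := by
  intro U hU
  have hT := secSC_shortExact E hE U.2
  have hp := projective_of_sections (projective_sections_of_isFinLocFree E.X₂ h2 U.2).2
  exact (hT.hasProjectiveDimensionLT_X₃_iff m hp).mpr (h1 U hU)

theorem isCoh_cycles (L : ChainComplex X.Modules ℕ) (hL : ∀ i, Coh.IsCoh (L.X i)) (q : ℕ) :
    Coh.IsCoh (L.cycles (q + 1)) := by
  let e : L.cycles (q + 1) ≅ kernel (L.d (q + 1) q) :=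
    IsLimit.conePointUniqueUpToIso (L.cyclesIsKernel (q + 1) q (by simp)) (limit.isLimit _)
  exact Groth.Agent.Lib.helper7.CohKer.isCoh_of_iso e.symm
    (Groth.Agent.Lib.helper7.CohKer.isCoh_kernel (hL _) (hL _) _)

/-- a coherent module with a finite locally free resolution has sections of bounded projective
dimension -/
theorem exists_pdAff_of_isLFRes (t : Finset X.affineOpens) {F : X.Modules} (hF : Coh.IsCoh F)
    {n : ℕ} {L : ChainComplex X.Modules ℕ} {π : L ⟶ (ChainComplex.single₀ X.Modules).obj F}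
    (hL : KRR.IsLFRes F n L π) : ∃ m, PdAff t m F := by
  haveI := hL.quasiIso
  have hcoh : ∀ i, Coh.IsCoh (L.X i) := fun i => isCoh_of_vb (hL.finLocFree i)
  have step : ∀ q j, PdAff t j (L.cycles (q + 1 + 1)) → PdAff t (j + 1) (L.cycles (q + 1)) := by
    intro q j h
    haveI : (cyclesSC L (q + 1)).X₁.IsQuasicoherent := (isCoh_cycles L hcoh (q + 1)).1
    exact pdAff_coker t j (cyclesSC L (q + 1))
      (cyclesSC_shortExact L (q + 1) (exactAt_succ π q)) (hL.finLocFree _) h
  have base : PdAff t 0 (L.cycles (n + 1 + 1)) :=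
    pdAff_zero_of_vb t (Groth.Agent.Lib.helper25.FLFKernel.isFinLocFree_of_isZero
      (isZero_cycles L _ (hL.isZero _ (by omega))))
  have ind : ∀ j q, q + j = n + 1 → PdAff t j (L.cycles (q + 1)) := by
    intro j
    induction j with
    | zero =>
      intro q hq
      obtain rfl : q = n + 1 := by omega
      exact base
    | succ j ih =>
      intro q hq
      exact step q j (ih (q + 1) (by omega))
  have h1 : PdAff t (n + 1) (L.cycles 1) := ind (n + 1) 0 (by omega)
  have hK : Coh.IsCoh (kernel (π.f 0)) :=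
    coh_ker (augSC π) (augSC_shortExact π) (hcoh 0) hF
  have h2 : PdAff t (n + 1 + 1) (kernel (π.f 0)) := by
    haveI : (firstSC π).X₁.IsQuasicoherent := (isCoh_cycles L hcoh 0).1
    exact pdAff_coker t (n + 1) (firstSC π) (firstSC_shortExact π) (hL.finLocFree _) h1
  have h3 : PdAff t (n + 1 + 1 + 1) F := by
    haveI : (augSC π).X₁.IsQuasicoherent := hK.1
    exact pdAff_coker t (n + 1 + 1) (augSC π) (augSC_shortExact π) (hL.finLocFree _) h2
  exact ⟨_, h3⟩

/-- the zero resolution of the zero module -/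
noncomputable def zeroRes : Res (KRR.vbP X) (0 : X.Modules) where
  K := fun _ => 0
  L := fun _ => 0
  ι := fun _ => 0
  p := fun _ => 0
  zero := fun _ => comp_zero
  exact := fun _ => ShortComplex.ShortExact.mk'
    (ShortComplex.exact_of_isZero_X₂ _ (isZero_zero _)) inferInstance inferInstance
  hL := fun _ => Groth.Agent.Lib.helper25.FLFKernel.isFinLocFree_of_isZero (isZero_zero _)
  e := Iso.refl _

theorem exists_res (hX : KRR.HasEnoughLocFree X) (t : Finset X.affineOpens)
    (hcov : ⨆ U : {U // U ∈ t}, U.1.1 = (⊤ : X.Opens)) :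
    ∀ (n : ℕ) (A : X.Modules), Coh.IsCoh A → PdAff t n A →
      ∃ R : Res (KRR.vbP X) A, ∀ i, n < i → IsZero (R.L i)
  | 0, A, hA, h => by
    have hvb := vb_of_pdAff_zero t hcov hA h
    have hS : (ShortComplex.mk (0 : (0 : X.Modules) ⟶ A) (𝟙 A) zero_comp).ShortExact :=
      ShortComplex.ShortExact.mk' ((ShortComplex.exact_iff_mono _ rfl).mpr
        (inferInstanceAs (Mono (𝟙 A)))) inferInstance (inferInstanceAs (Epi (𝟙 A)))
    refine ⟨Res.cons _ _ _ hS hvb zeroRes, fun i hi => ?_⟩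
    obtain ⟨j, rfl⟩ : ∃ j, i = j + 1 := ⟨i - 1, by omega⟩
    exact isZero_zero _
  | n + 1, A, hA, h => by
    obtain ⟨E, p, hE, hp⟩ := hX A hA
    have hS : (ShortComplex.mk (kernel.ι p) p (kernel.condition p)).ShortExact :=
      ShortComplex.ShortExact.mk' (ShortComplex.exact_of_f_is_kernel _ (kernelIsKernel _))
        (inferInstanceAs (Mono (kernel.ι p))) hp
    have hK : Coh.IsCoh (kernel p) := coh_ker _ hS (isCoh_of_vb hE) hA
    haveI : (ShortComplex.mk (kernel.ι p) p (kernel.condition p)).X₁.IsQuasicoherent := hK.1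
    obtain ⟨R, hR⟩ := exists_res hX t hcov n (kernel p) hK (pdAff_ker t n _ hS hE h)
    refine ⟨Res.cons _ _ _ hS hE R, fun i hi => ?_⟩
    obtain ⟨j, rfl⟩ : ∃ j, i = j + 1 := ⟨i - 1, by omega⟩
    exact hR j (by omega)

theorem hasLFRes_of_res {A : X.Modules} (R : Res (KRR.vbP X) A) (n : ℕ)
    (hR : ∀ i, n < i → IsZero (R.L i)) : KRR.HasLFRes A := by
  have hd : R.toComplex.d 1 0 ≫ (R.p 0 ≫ R.e.hom) = 0 := by
    have h1 : R.toComplex.d 1 0 = R.p 1 ≫ R.ι 0 := R.toComplex_d 0
    have h2 : (R.p 1 ≫ R.ι 0) ≫ (R.p 0 ≫ R.e.hom) = 0 := by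
      rw [Category.assoc, ← Category.assoc (R.ι 0), R.zero, zero_comp, comp_zero]
    exact (congrArg (· ≫ (R.p 0 ≫ R.e.hom)) h1).trans h2
  have hex : (ShortComplex.mk _ _ hd).Exact := by
    let S₃ : ShortComplex X.Modules := ShortComplex.mk (R.ι 0) (R.p 0) (R.zero 0)
    let ψ : ShortComplex.mk _ _ hd ⟶ S₃ :=
      { τ₁ := R.p 1
        τ₂ := 𝟙 _
        τ₃ := R.e.inv
        comm₁₂ := by
          change R.p 1 ≫ R.ι 0 = R.toComplex.d 1 0 ≫ 𝟙 _
          rw [Category.comp_id, R.toComplex_d 0]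
        comm₂₃ := by
          change 𝟙 _ ≫ R.p 0 = (R.p 0 ≫ R.e.hom) ≫ R.e.inv
          rw [Category.id_comp, Category.assoc, Iso.hom_inv_id, Category.comp_id] }
    have : Epi ψ.τ₁ := by change Epi (R.p 1); infer_instance
    have : IsIso ψ.τ₂ := by change IsIso (𝟙 _); infer_instance
    have : Mono ψ.τ₃ := by change Mono R.e.inv; infer_instance
    rw [ShortComplex.exact_iff_of_epi_of_isIso_of_mono ψ]
    exact (R.exact 0).exact
  have hepi : Epi (R.p 0 ≫ R.e.hom) := epi_comp _ _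
  exact ⟨n, R.toComplex, _, ⟨R.hL, hR,
    quasiIso_of_exact R.toComplex A _ hd hex hepi (fun k => R.toComplex_exactAt k)⟩⟩

/-- coherent with bounded projective dimension of sections on the cover `t` -/
def P1 (t : Finset X.affineOpens) : ObjectProperty X.Modules :=
  fun M => Coh.IsCoh M ∧ ∃ n, PdAff t n M

theorem hyp' (hX : KRR.HasEnoughLocFree X) (t : Finset X.affineOpens) :
    Hyp (KRR.vbP X) (P1 t) where
  le := fun M hM => ⟨isCoh_of_vb hM, 0, pdAff_zero_of_vb t hM⟩
  ext₀ := vb_ext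
  ext₁ := fun S hS ⟨c1, n1, p1⟩ ⟨c3, n3, p3⟩ => by
    refine ⟨Groth.Agent.Lib.helper21.CohWeakSerre.isCoh_of_extension S hS c1 c3,
      max n1 n3, fun U hU => ?_⟩
    haveI := c1.1
    have hT := secSC_shortExact S hS U.2
    exact hT.hasProjectiveDimensionLT_X₂ _ (pdAff_mono t (le_max_left _ _) p1 U hU)
      (pdAff_mono t (le_max_right _ _) p3 U hU)
  ker₀ := vb_ker
  ker₁ := fun S hS ⟨c2, n2, p2⟩ ⟨c3, n3, p3⟩ => by
    have c1 := coh_ker S hS c2 c3
    refine ⟨c1, max n2 n3, fun U hU => ?_⟩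
    haveI := c1.1
    have hT := secSC_shortExact S hS U.2
    have q3 : HasProjectiveDimensionLT (secSC S U.1).X₃ (n3 + 1) := p3 U hU
    exact hT.hasProjectiveDimensionLT_X₁ _ (pdAff_mono t (le_max_left _ _) p2 U hU)
      (hasProjectiveDimensionLT_of_ge _ (n3 + 1) _ (by
        have := le_max_right n2 n3
        omega))
  cover := fun A hA => hX A hA.1

theorem D_of_pdAff' (t : Finset X.affineOpens)
    (hcov : ⨆ U : {U // U ∈ t}, U.1.1 = (⊤ : X.Opens)) :
    ∀ (n : ℕ) (A : X.Modules), Coh.IsCoh A → PdAff t n A →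
      D (KRR.vbP X) (P1 t) n A
  | 0, A, hA, h => vb_of_pdAff_zero t hcov hA h
  | n + 1, A, hA, h => by
    refine ⟨⟨hA, n + 1, h⟩, fun K L i p w hS hL => ?_⟩
    have hK : Coh.IsCoh K := coh_ker _ hS (isCoh_of_vb hL) hA
    haveI : (ShortComplex.mk i p w).X₁.IsQuasicoherent := hK.1
    exact D_of_pdAff' t hcov n K hK (pdAff_ker t n _ hS hL h)

theorem bijective_of_iff (hX : KRR.HasEnoughLocFree X) (t : Finset X.affineOpens)
    (hcov : ⨆ U : {U // U ∈ t}, U.1.1 = (⊤ : X.Opens))
    (Q : ObjectProperty X.Modules) (hQ : ∀ M, Q M ↔ P1 t M)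
    (h : ∀ M : X.Modules, FlatMod.IsFinLocFree M → Q M) :
    Function.Bijective (SGA6.mapSub (𝟭 X.Modules) (KRR.vbP X) Q h) := by
  obtain rfl : Q = P1 t := funext fun M => propext (hQ M)
  exact union_bijective (hyp' hX t) (fun A hA => by
    obtain ⟨c, n, hn⟩ := hA
    exact ⟨n, D_of_pdAff' t hcov n A c hn⟩)

/-- **`K₀(vb) → K₀(coherent with finite locally free resolution)` is bijective** -/
theorem bijective [CompactSpace X] (hX : KRR.HasEnoughLocFree X)
    (h : ∀ M : X.Modules, FlatMod.IsFinLocFree M → Coh.IsCoh M ∧ KRR.HasLFRes M) :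
    Function.Bijective (SGA6.mapSub (𝟭 X.Modules) (KRR.vbP X)
      (fun M : X.Modules => Coh.IsCoh M ∧ KRR.HasLFRes M) h) := by
  obtain ⟨t, ht⟩ : ∃ t : Finset X.affineOpens,
      ⨆ U : {U // U ∈ t}, U.1.1 = (⊤ : X.Opens) := by
    have hc := isCompact_univ (X := X)
    obtain ⟨t, ht⟩ := hc.elim_finite_subcover (fun U : X.affineOpens => (U.1 : Set X))
      (fun U => U.1.2) (by
        intro x _
        have hx : x ∈ (⨆ U : X.affineOpens, U.1 : X.Opens) := by
          rw [iSup_affineOpens_eq_top]; trivial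
        obtain ⟨U, hU⟩ := Opens.mem_iSup.mp hx
        exact Set.mem_iUnion.mpr ⟨U, hU⟩)
    refine ⟨t, ?_⟩
    rw [eq_top_iff]
    intro x _
    obtain ⟨U, hU⟩ := Set.mem_iUnion.mp (ht (Set.mem_univ x))
    obtain ⟨hUt, hxU⟩ := Set.mem_iUnion.mp hU
    exact Opens.mem_iSup.mpr ⟨⟨U, hUt⟩, hxU⟩
  refine bijective_of_iff hX t ht _ (fun M => ⟨?_, ?_⟩) h
  · rintro ⟨c, n, L, π, hL⟩
    exact ⟨c, exists_pdAff_of_isLFRes t c hL⟩
  · rintro ⟨c, n, hn⟩
    obtain ⟨R, hR⟩ := exists_res hX t ht n M c hn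
    exact ⟨c, hasLFRes_of_res R n hR⟩

end Sch

end Groth.Agent.Lib.Helper20.K0LFRes
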