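import Mathlib
import Groth.Agent.Lib.Helper20.Syzygy
import Groth.Agent.Lib.Helper20.KosPn
import Groth.Agent.Lib.Helper20.KosCount
import Groth.Agent.Lib.Helper20.KosChase
import Groth.Agent.Lib.Helper20.MumfordUnif2
import Groth.Agent.Lib.Helper8.DevK0b
import Groth.Agent.Lib.Helper7.K0API
import Groth.Agent.Lib.Lead.HilbPos12

/-!
# `K₀` of coherent modules on `P^n_k` is free on `O, O(-1), …, O(-n)` (helper20)
-/

set_option autoImplicit false
universe v u

open CategoryTheory CategoryTheory.Limits AlgebraicGeometry Opposite TopologicalSpace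

namespace Groth.Agent.Lib.helper20.K0Pn

open Groth.Agent.Lib.helper8.Dev KZero Groth.Agent.Lib.helper20.KosChase
  Groth.Agent.Lib.helper13.K0Res

noncomputable section

section Abstract

variable {A : Type u} [Category.{v} A] [Abelian A] (Q : ObjectProperty A)
  (hQ0 : ∀ N : A, IsZero N → Q N)

include hQ0 in
/-- in an exact bounded complex, if all terms but one have their class in `H`, so has the
remaining one -/
theorem clSub_mem_of_exact (K : CochainComplex A ℤ) (hex : ∀ q, K.ExactAt q)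
    (hQX : ∀ q, Q (K.X q)) (hQZ : ∀ q, Q (K.cycles q))
    (lo hi : ℤ) (hlo : ∀ q, q < lo → IsZero (K.X q)) (hhi : ∀ q, hi < q → IsZero (K.X q))
    (H : AddSubgroup (K0sub Q)) (i₀ : ℤ) (hmem : ∀ q, q ≠ i₀ → clSub Q (K.X q) ∈ H) :
    clSub Q (K.X i₀) ∈ H := by
  have rel : ∀ q, clSub Q (K.X q) = clSub Q (K.cycles q) + clSub Q (K.cycles (q + 1)) := fun q =>
    clSub_rel Q (cyclesSC K q) (cyclesSC_shortExact K q (hex (q + 1))) (hQZ q) (hQX q)
      (hQZ (q + 1))
  have up : ∀ (D : ℕ) (q : ℤ), q ≤ i₀ → q - D < lo → clSub Q (K.cycles q) ∈ H := by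
    intro D
    induction D with
    | zero =>
      intro q _ hq
      rw [clSub_zero Q hQ0 _ (isZero_cycles K q (hlo q (by simpa using hq)))]
      exact H.zero_mem
    | succ D ih =>
      intro q hq hlt
      have h1 := rel (q - 1)
      have e : q - 1 + 1 = q := by ring
      rw [e] at h1
      have h2 : clSub Q (K.cycles q) = clSub Q (K.X (q - 1)) - clSub Q (K.cycles (q - 1)) := by
        rw [h1]; abel
      rw [h2]
      exact H.sub_mem (hmem (q - 1) (by omega))
        (ih (q - 1) (by omega) (by push_cast at hlt; omega))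
  have down : ∀ (D : ℕ) (q : ℤ), i₀ < q → hi < q + D → clSub Q (K.cycles q) ∈ H := by
    intro D
    induction D with
    | zero =>
      intro q _ hq
      rw [clSub_zero Q hQ0 _ (isZero_cycles K q (hhi q (by simpa using hq)))]
      exact H.zero_mem
    | succ D ih =>
      intro q hq hlt
      have h1 := rel q
      have h2 : clSub Q (K.cycles q) = clSub Q (K.X q) - clSub Q (K.cycles (q + 1)) := by
        rw [h1]; abel
      rw [h2]
      exact H.sub_mem (hmem q (by omega)) (ih (q + 1) (by omega) (by push_cast at hlt; omega))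
  rw [rel i₀]
  exact H.add_mem (up (i₀ - lo + 1).toNat i₀ le_rfl (by omega))
    (down (hi - i₀ + 1).toNat (i₀ + 1) (by omega) (by omega))

include hQ0 in
/-- the class of an object with a finite resolution lies in any subgroup containing the classes
of the terms -/
theorem clSub_mem_of_res {P₀ : ObjectProperty A} {F : A} (R : Res P₀ F) (hF : Q F)
    (hQiso : ∀ M N : A, (M ≅ N) → Q M → Q N)
    (hQker : ∀ S : ShortComplex A, S.ShortExact → Q S.X₂ → Q S.X₃ → Q S.X₁)
    (hQL : ∀ i, Q (R.L i)) (N : ℕ) (hN : ∀ i, N < i → IsZero (R.L i))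
    (H : AddSubgroup (K0sub Q)) (hmem : ∀ i, clSub Q (R.L i) ∈ H) : clSub Q F ∈ H := by
  have hK : ∀ i, Q (R.K i) := by
    intro i
    induction i with
    | zero => exact hQiso _ _ R.e.symm hF
    | succ i ih => exact hQker _ (R.exact i) (hQL i) ih
  have hKz : ∀ i, N < i → IsZero (R.K i) := fun i hi =>
    @IsZero.of_epi _ _ _ _ _ (R.p i) (R.exact i).epi_g (hN i hi)
  have rel : ∀ i, clSub Q (R.L i) = clSub Q (R.K (i + 1)) + clSub Q (R.K i) := fun i =>
    clSub_rel Q _ (R.exact i) (hK (i + 1)) (hQL i) (hK i)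
  have down : ∀ (D i : ℕ), N < i + D → clSub Q (R.K i) ∈ H := by
    intro D
    induction D with
    | zero =>
      intro i hi
      rw [clSub_zero Q hQ0 _ (hKz i (by simpa using hi))]
      exact H.zero_mem
    | succ D ih =>
      intro i hi
      have h2 : clSub Q (R.K i) = clSub Q (R.L i) - clSub Q (R.K (i + 1)) := by
        rw [rel i]; abel
      rw [h2]
      exact H.sub_mem (hmem i) (ih (i + 1) (by omega))
  rw [← clSub_iso Q hQ0 hQiso R.e]
  exact down (N + 1) 0 (by omega)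

include hQ0 in
/-- the class of a finite coproduct -/
theorem clSub_sigma (hQiso : ∀ M N : A, (M ≅ N) → Q M → Q N)
    (hQext : ∀ S : ShortComplex A, S.ShortExact → Q S.X₁ → Q S.X₃ → Q S.X₂) :
    ∀ (r : ℕ) (f : Fin r → A), (∀ j, Q (f j)) →
      Q (∐ f) ∧ clSub Q (∐ f) = ∑ j, clSub Q (f j) := by
  intro r
  induction r with
  | zero =>
    intro f _
    have hI : IsInitial (∐ f) := by
      refine IsInitial.ofUniqueHom (fun Z => Sigma.desc fun i => i.elim0) ?_
      intro Z m
      apply Sigma.hom_ext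
      intro i
      exact i.elim0
    have hz : IsZero (∐ f) := by
      rw [IsZero.iff_id_eq_zero]
      exact hI.hom_ext _ _
    exact ⟨hQ0 _ hz, by rw [clSub_zero Q hQ0 _ hz, Fin.sum_univ_zero]⟩
  | succ r ih =>
    intro f hf
    let g : Fin r → A := fun i => f i.succ
    obtain ⟨hg, hgcl⟩ := ih g (fun j => hf j.succ)
    let c₁ : Cofan g := Cofan.mk (∐ g) (Sigma.ι g)
    have hc₁ : IsColimit c₁ := coproductIsCoproduct g
    let c₂ : BinaryCofan (f 0) c₁.pt := (BinaryBiproduct.bicone (f 0) (∐ g)).toCocone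
    have hc₂ : IsColimit c₂ := BinaryBiproduct.isColimit (f 0) (∐ g)
    have hcol := CategoryTheory.extendCofanIsColimit f hc₁ hc₂
    let e : ∐ f ≅ f 0 ⊞ ∐ g :=
      IsColimit.coconePointUniqueUpToIso (coproductIsCoproduct f) hcol
    have hS := (ShortComplex.Splitting.ofHasBinaryBiproduct (f 0) (∐ g)).shortExact
    have hB : Q (f 0 ⊞ ∐ g) := hQext _ hS (hf 0) hg
    have hrel : clSub Q (f 0 ⊞ ∐ g) = clSub Q (f 0) + clSub Q (∐ g) :=
      clSub_rel Q _ hS (hf 0) hB hg
    refine ⟨hQiso _ _ e.symm hB, ?_⟩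
    rw [clSub_iso Q hQ0 hQiso e, hrel, hgcl, Fin.sum_univ_succ]

end Abstract

section Pn

open Groth.Agent.Lib.helper20.KosCone Groth.Agent.Lib.helper20.KosPn
  Groth.Agent.Lib.helper20.Horrocks Groth.Agent.Lib.helper20.Syzygy
  Groth.Agent.Lib.helper20.LinRes Groth.Agent.Lib.helper20.CMGG
  Groth.Agent.Lib.Helper20.TwistEquivPn

variable (k : Type u) [Field k] (n : ℕ)

/-- coherence, as an object property -/
abbrev PC : ObjectProperty (CohB1.ProjSpace n k).Modules := fun M => Coh.IsCoh M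

lemma hLN : IsLocallyNoetherian (CohB1.ProjSpace n k) :=
  Groth.Agent.Lib.Lead.SerreFin.isLocallyNoetherian_projSpace n k

lemma pc_zero : ∀ N : (CohB1.ProjSpace n k).Modules, IsZero N → PC k n N :=
  fun _ h => Groth.Agent.Lib.helper7.CohKer.isCoh_of_isZero h

lemma pc_iso : ∀ M N : (CohB1.ProjSpace n k).Modules, (M ≅ N) → PC k n M → PC k n N := by
  intro M N e h
  have := hLN k n
  exact Groth.Agent.Lib.helper7.CohKer.isCoh_of_iso e h

lemma pc_ext : ∀ S : ShortComplex (CohB1.ProjSpace n k).Modules, S.ShortExact →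
    PC k n S.X₁ → PC k n S.X₃ → PC k n S.X₂ :=
  fun S hS h₁ h₃ => Groth.Agent.Lib.Lead.HilbPos.isCoh_of_extension S hS h₁ h₃

lemma pc_kernel {M N : (CohB1.ProjSpace n k).Modules} (f : M ⟶ N) (hM : PC k n M)
    (hN : PC k n N) : PC k n (kernel f) := by
  have := hLN k n
  exact Groth.Agent.Lib.helper7.CohKer.isCoh_kernel hM hN f

lemma pc_ker : ∀ S : ShortComplex (CohB1.ProjSpace n k).Modules, S.ShortExact →
    PC k n S.X₂ → PC k n S.X₃ → PC k n S.X₁ := by
  intro S hS h₂ h₃
  have e := IsLimit.conePointUniqueUpToIso hS.fIsKernel (kernelIsKernel S.g)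
  exact pc_iso k n (kernel S.g) S.X₁ e.symm (pc_kernel k n S.g h₂ h₃)

lemma pc_cycles (K : CochainComplex (CohB1.ProjSpace n k).Modules ℤ) (hK : ∀ q, PC k n (K.X q))
    (q : ℤ) : PC k n (K.cycles q) := by
  have e := IsLimit.conePointUniqueUpToIso (K.cyclesIsKernel q (q + 1) (by simp))
    (kernelIsKernel (K.d q (q + 1)))
  exact pc_iso k n (kernel (K.d q (q + 1))) (K.cycles q) e.symm
    (pc_kernel k n _ (hK q) (hK (q + 1)))

/-- the class of `O(d)` -/
def tcl (d : ℤ) : K0sub (PC k n) := clSub (PC k n) (Twist.twistProjSpace n k d)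

/-- the comparison map `ℤ^{n+1} → K₀` -/
def Φ : (Fin (n + 1) → ℤ) →+ K0sub (PC k n) where
  toFun a := ∑ i : Fin (n + 1), a i • tcl k n (-((i : ℕ) : ℤ))
  map_zero' := by simp
  map_add' a b := by simp [add_smul, Finset.sum_add_distrib]

lemma Φ_single (i : Fin (n + 1)) : Φ k n (Pi.single i 1) = tcl k n (-((i : ℕ) : ℤ)) := by
  show ∑ j : Fin (n + 1), (Pi.single i (1 : ℤ) : Fin (n + 1) → ℤ) j • tcl k n (-((j : ℕ) : ℤ)) = _
  rw [Finset.sum_eq_single i]
  · rw [Pi.single_eq_same, one_smul]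
  · intro j _ hj
    rw [Pi.single_eq_of_ne hj, zero_smul]
  · intro h
    exact absurd (Finset.mem_univ i) h

/-- additive properties propagate to the terms of the Koszul complex -/
lemma kos_term (P : (CohB1.ProjSpace n k).Modules → Prop)
    (hiso : ∀ {X Y : (CohB1.ProjSpace n k).Modules}, (X ≅ Y) → P X → P Y)
    (hzero : ∀ X : (CohB1.ProjSpace n k).Modules, IsZero X → P X)
    (hadd : ∀ X Y : (CohB1.ProjSpace n k).Modules, P X → P Y → P (X ⊞ Y))
    (a q : ℤ) (h : 0 ≤ q + (n + 1) → q ≤ 0 → P (Twist.twistProjSpace n k (a + (q + (n + 1))))) :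
    P (((kos (grOpO n k) (n + 1)).M a).X q) := by
  by_cases hq : 0 < q ∨ q + ((n + 1 : ℕ) : ℤ) < 0
  · exact hzero _ (kos_isZero (grOpO n k) (n + 1) a q hq)
  · push Not at hq
    refine kos_prop (grOpO n k) P hiso hzero hadd (n + 1) a q (a + (q + (n + 1))) ?_ ?_
    · push_cast; ring
    · exact h (by push_cast at hq; omega) hq.1

lemma biprod_rel (H : AddSubgroup (K0sub (PC k n))) (X Y : (CohB1.ProjSpace n k).Modules)
    (hX : PC k n X ∧ clSub (PC k n) X ∈ H) (hY : PC k n Y ∧ clSub (PC k n) Y ∈ H) :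
    PC k n (X ⊞ Y) ∧ clSub (PC k n) (X ⊞ Y) ∈ H := by
  have hS := (ShortComplex.Splitting.ofHasBinaryBiproduct X Y).shortExact
  have hB : PC k n (X ⊞ Y) := pc_ext k n _ hS hX.1 hY.1
  refine ⟨hB, ?_⟩
  have hrel : clSub (PC k n) (X ⊞ Y) = clSub (PC k n) X + clSub (PC k n) Y :=
    clSub_rel (PC k n) _ hS hX.1 hB hY.1
  rw [hrel]
  exact H.add_mem hX.2 hY.2

/-- the Koszul relation: if all but an extreme term of `O(a), …, O(a+n+1)` have class in `H`, so has
the remaining one -/
theorem kos_step (H : AddSubgroup (K0sub (PC k n))) (a : ℤ) (j₀ : ℕ) (hj₀ : j₀ = 0 ∨ j₀ = n + 1)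
    (hmem : ∀ j : ℤ, 0 ≤ j → j ≤ n + 1 → j ≠ j₀ → tcl k n (a + j) ∈ H) :
    tcl k n (a + j₀) ∈ H := by
  set K := (kos (grOpO n k) (n + 1)).M a with hKdef
  have hQX : ∀ q, PC k n (K.X q) := fun q =>
    kos_term k n (PC k n) (fun e h => pc_iso k n _ _ e h) (pc_zero k n)
      (fun X Y hX hY => pc_ext k n _
        (ShortComplex.Splitting.ofHasBinaryBiproduct X Y).shortExact hX hY) a q
      (fun _ _ => isCoh_O _)
  have key := clSub_mem_of_exact (PC k n) (pc_zero k n) K (fun q => kosO_exactAt n k a q) hQX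
    (pc_cycles k n K hQX) (-((n + 1 : ℕ) : ℤ)) 0
    (fun q hq => kos_isZero (grOpO n k) (n + 1) a q (Or.inr (by omega)))
    (fun q hq => kos_isZero (grOpO n k) (n + 1) a q (Or.inl hq)) H
    ((j₀ : ℤ) - ((n + 1 : ℕ) : ℤ)) (fun q hq => by
      have := kos_term k n (fun M => PC k n M ∧ clSub (PC k n) M ∈ H)
        (fun {X Y} e h => ⟨pc_iso k n _ _ e h.1, by
          rw [← clSub_iso (PC k n) (pc_zero k n) (pc_iso k n) e]; exact h.2⟩)
        (fun X hX => ⟨pc_zero k n X hX, by
          rw [clSub_zero (PC k n) (pc_zero k n) X hX]; exact H.zero_mem⟩)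
        (biprod_rel k n H) a q (fun h1 h2 => ⟨isCoh_O _, hmem (q + (n + 1)) h1 (by omega) (by
          intro h; apply hq; push_cast; omega)⟩)
      exact this.2)
  obtain ⟨e⟩ := kos_X_iso_coprod (grOpO n k) (n + 1) a ((j₀ : ℤ) - ((n + 1 : ℕ) : ℤ)) j₀
    (by ring) (a + j₀) rfl
  have hch : (n + 1).choose j₀ = 1 := by
    rcases hj₀ with rfl | rfl
    · exact Nat.choose_zero_right _
    · exact Nat.choose_self _
  obtain ⟨e'⟩ := coprod_cast ((grOpO n k).M (a + j₀)) hch ⟨e⟩
  obtain ⟨e''⟩ := coprod_one ((grOpO n k).M (a + j₀))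
  have e3 : K.X ((j₀ : ℤ) - ((n + 1 : ℕ) : ℤ)) ≅ Twist.twistProjSpace n k (a + j₀) :=
    e' ≪≫ e''.symm
  unfold tcl
  rw [← clSub_iso (PC k n) (pc_zero k n) (pc_iso k n) e3]
  exact key

/-- all classes `[O(d)]` lie in the image of `Φ` -/
theorem tcl_mem_range : ∀ (N : ℕ) (d : ℤ), -(n : ℤ) - N ≤ d → d ≤ N → tcl k n d ∈ (Φ k n).range := by
  intro N
  induction N with
  | zero =>
    intro d h1 h2
    obtain ⟨i, hi⟩ : ∃ i : ℕ, d = -(i : ℤ) := ⟨(-d).toNat, by omega⟩
    have hin : i < n + 1 := by push_cast at h1; omega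
    refine ⟨Pi.single ⟨i, hin⟩ 1, ?_⟩
    rw [Φ_single, hi]
  | succ N ih =>
    intro d h1 h2
    by_cases hd : -(n : ℤ) - N ≤ d ∧ d ≤ N
    · exact ih d hd.1 hd.2
    · rcases (show d = N + 1 ∨ d = -(n : ℤ) - N - 1 by push_cast at h1 h2; omega) with rfl | rfl
      · have := kos_step k n (Φ k n).range ((N : ℤ) + 1 - (n + 1)) (n + 1) (Or.inr rfl)
          (fun j hj1 hj2 hj3 => ih _ (by push_cast at hj3; omega) (by push_cast at hj3; omega))
        have e : (N : ℤ) + 1 - (n + 1) + ((n + 1 : ℕ) : ℤ) = N + 1 := by push_cast; ring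
        rw [e] at this
        exact this
      · have := kos_step k n (Φ k n).range (-(n : ℤ) - N - 1) 0 (Or.inl rfl)
          (fun j hj1 hj2 hj3 => ih _ (by push_cast at hj3; omega) (by push_cast at hj3; omega))
        have e : -(n : ℤ) - N - 1 + ((0 : ℕ) : ℤ) = -(n : ℤ) - N - 1 := by push_cast; ring
        rw [e] at this
        exact this

lemma tcl_mem (d : ℤ) : tcl k n d ∈ (Φ k n).range :=
  tcl_mem_range k n d.natAbs d (by omega) (by omega)

end Pn

section Surj

open Groth.Agent.Lib.helper20.KosCone Groth.Agent.Lib.helper20.KosPn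
  Groth.Agent.Lib.helper20.Horrocks Groth.Agent.Lib.helper20.Syzygy
  Groth.Agent.Lib.helper20.LinRes Groth.Agent.Lib.helper20.CMGG
  Groth.Agent.Lib.Helper20.TwistEquivPn

variable (k : Type u) [Field k] (n : ℕ)

/-- a finite direct sum of twisting sheaves is coherent with class in the image of `Φ` -/
lemma splits_mem {G : (CohB1.ProjSpace n k).Modules} (h : Splits (k := k) G) :
    PC k n G ∧ clSub (PC k n) G ∈ (Φ k n).range := by
  obtain ⟨r, a, ⟨e⟩⟩ := h
  obtain ⟨h1, h2⟩ := clSub_sigma (PC k n) (pc_zero k n) (pc_iso k n) (pc_ext k n) r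
    (fun j => Twist.twistProjSpace n k (a j)) (fun j => isCoh_O (a j))
  refine ⟨pc_iso k n _ _ e.symm h1, ?_⟩
  rw [clSub_iso (PC k n) (pc_zero k n) (pc_iso k n) e, h2]
  exact AddSubgroup.sum_mem _ (fun j _ => tcl_mem k n (a j))

/-- `Φ` is surjective -/
theorem Φ_range : (Φ k n).range = ⊤ := by
  refine K0sub_induction (PC k n) _ (fun F hF => ?_)
  obtain ⟨R, hR⟩ := exists_res_coh (k := k) F hF
  exact clSub_mem_of_res (PC k n) (pc_zero k n) R hF (pc_iso k n) (pc_ker k n)
    (fun i => (splits_mem k n (R.hL i)).1) n hR _ (fun i => (splits_mem k n (R.hL i)).2)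

end Surj

section Inj

open Groth.Agent.Lib.helper20.Horrocks Groth.Agent.Lib.helper20.Syzygy
  Groth.Agent.Lib.helper20.LinRes Groth.Agent.Lib.helper20.CMGG
  Groth.Agent.Lib.Helper20.TwistEquivPn

variable (k : Type u) [Field k] (n : ℕ)

/-- `χ(O(e))` for `-n ≤ e ≤ 0` -/
lemma euler_O_small (e : ℤ) (h1 : -(n : ℤ) ≤ e) (h2 : e ≤ 0) :
    Curv2.euler k (CohB1.ProjSpace n k) (Twist.twistProjSpace n k e) = if e = 0 then 1 else 0 := by
  rw [Groth.Agent.Lib.Helper18.HH.euler_eq_sum k _ 0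
    (fun i hi => Groth.Agent.S0844.result k n e i (by omega) (by omega))]
  simp only [zero_add, Finset.range_one, Finset.sum_singleton, pow_zero, one_mul]
  split_ifs with he
  · rw [finrank_H0_O e he]; rfl
  · have : Subsingleton (Coh.HH (CohB1.ProjSpace n k) (Twist.twistProjSpace n k e) 0) :=
      Groth.Agent.S0844.result k n e 0 (by omega) (by omega)
    rw [Module.finrank_zero_of_subsingleton]; rfl

/-- additivity of `χ(·(d))` -/
lemma euler_twist_additive (d : ℤ) (S : ShortComplex (CohB1.ProjSpace n k).Modules)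
    (hS : S.ShortExact) (h₁ : Coh.IsCoh S.X₁) (h₃ : Coh.IsCoh S.X₃) :
    Curv2.euler k (CohB1.ProjSpace n k) (CohB1.tensorMod S.X₂ (Twist.twistProjSpace n k d)) =
      Curv2.euler k (CohB1.ProjSpace n k) (CohB1.tensorMod S.X₁ (Twist.twistProjSpace n k d)) +
      Curv2.euler k (CohB1.ProjSpace n k) (CohB1.tensorMod S.X₃ (Twist.twistProjSpace n k d)) := by
  have hT := shortExact_twistSC n k d hS
  have h1 : Coh.IsCoh (CohB1.tensorMod S.X₁ (Twist.twistProjSpace n k d)) := isCoh_twist h₁ d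
  have h3 : Coh.IsCoh (CohB1.tensorMod S.X₃ (Twist.twistProjSpace n k d)) := isCoh_twist h₃ d
  have h := Groth.Agent.Lib.Helper20.MumfordUnif.euler_additive' hT
    ((twistSC_X₁ n k d S).symm ▸ h1) ((twistSC_X₃ n k d S).symm ▸ h3)
  rw [twistSC_X₁, twistSC_X₂, twistSC_X₃] at h
  exact h

/-- the functional `[F] ↦ χ(F(d))` on `K₀` -/
lemma exists_chi (d : ℤ) : ∃ φ : K0sub (PC k n) →+ ℤ, ∀ M, PC k n M →
    φ (clSub (PC k n) M) = Curv2.euler k (CohB1.ProjSpace n k)
      (CohB1.tensorMod M (Twist.twistProjSpace n k d)) := by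
  refine Groth.Agent.Lib.helper7.K0API.exists_lift_K0sub (PC k n)
    (fun M => Curv2.euler k (CohB1.ProjSpace n k)
      (CohB1.tensorMod M (Twist.twistProjSpace n k d))) ?_
  intro S hS h₁ _ h₃
  exact euler_twist_additive k n d S hS h₁ h₃

/-- `Φ` is injective -/
theorem Φ_injective : Function.Injective (Φ k n) := by
  rw [injective_iff_map_eq_zero]
  intro a ha
  have key : ∀ (d : ℕ) (hd : d < n + 1), a ⟨d, hd⟩ = 0 := by
    intro d
    induction d using Nat.strong_induction_on with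
    | _ d ih =>
      intro hd
      obtain ⟨φ, hφ⟩ := exists_chi k n (d : ℤ)
      have h0 : φ (Φ k n a) = 0 := by rw [ha, map_zero]
      have h1 : φ (Φ k n a) = ∑ i : Fin (n + 1), a i *
          Curv2.euler k (CohB1.ProjSpace n k) (Twist.twistProjSpace n k (-((i : ℕ) : ℤ) + d)) := by
        show φ (∑ i : Fin (n + 1), a i • tcl k n (-((i : ℕ) : ℤ))) = _
        rw [_root_.map_sum]
        refine Finset.sum_congr rfl (fun i _ => ?_)
        rw [_root_.map_zsmul, smul_eq_mul]
        congr 1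
        unfold tcl
        rw [hφ _ (isCoh_O _)]
        exact Groth.Agent.Lib.Helper20.MumfordUnif.euler_of_iso
          (Groth.Agent.Lib.helper28.TwistPn.tensorIso n k _ _)
      rw [h1, Finset.sum_eq_single (⟨d, hd⟩ : Fin (n + 1))] at h0
      · rw [euler_O_small k n _ (by simp) (by simp), if_pos (by simp), mul_one] at h0
        exact h0
      · intro i _ hi
        have hne : (i : ℕ) ≠ d := fun h => hi (Fin.ext h)
        rcases lt_or_gt_of_ne hne with hlt | hgt
        · have := ih i hlt i.2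
          rw [Fin.eta] at this
          rw [this, zero_mul]
        · have hi2 := i.2
          rw [euler_O_small k n _ (by omega) (by omega), if_neg (by omega), mul_zero]
      · intro h
        exact absurd (Finset.mem_univ _) h
  funext i
  exact key i i.2

/-- **`K₀(Coh P^n_k)` is free on `[O], [O(-1)], …, [O(-n)]`.** -/
theorem Φ_bijective : Function.Bijective (Φ k n) :=
  ⟨Φ_injective k n, AddMonoidHom.range_eq_top.1 (Φ_range k n)⟩

end Inj

end

end Groth.Agent.Lib.helper20.K0Pn
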