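import Mathlib
import Groth.Agent.Lib.Helper20.K0Reg
import Groth.Agent.Lib.Helper17.RegSmoothSch
import Groth.Agent.Lib.Helper12.PullAmple
import Groth.Agent.Lib.Helper11.AmpleInv
import Groth.Agent.Lib.Lead.HilbPos30

/-!
# `K⁰(X) ≅ K₀(X)` for smooth quasi-projective `X` over an algebraically closed field (helper20)
-/

set_option autoImplicit false
universe u

open CategoryTheory CategoryTheory.Limits AlgebraicGeometry Opposite TopologicalSpace

namespace Groth.Agent.Lib.Helper20.K0Smooth

open Groth.Agent.Lib.Helper20.K0Reg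

theorem main (k : Type u) [Field k] [IsAlgClosed k] (N : ℕ)
    (X : Scheme.{u}) [X.Over (Spec (CommRingCat.of k))] [Smooth (X ↘ Spec (CommRingCat.of k))]
    (ι : X ⟶ CohB1.ProjSpace N k) [IsImmersion ι]
    (hι : ι ≫ CohB1.ProjSpace.toSpec N k = X ↘ Spec (CommRingCat.of k)) :
    ∃ α : KZero.K0sub (fun M : X.Modules => FlatMod.IsFinLocFree M) →+
        KZero.K0sub (fun M : X.Modules => Coh.IsCoh M),
      (∀ E : X.Modules, FlatMod.IsFinLocFree E →
        α (KZero.clSub (fun M : X.Modules => FlatMod.IsFinLocFree M) E) =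
          KZero.clSub (fun M : X.Modules => Coh.IsCoh M) E) ∧
      Function.Bijective α := by
  haveI : IsLocallyNoetherian X :=
    LocallyOfFiniteType.isLocallyNoetherian (X ↘ Spec (CommRingCat.of k))
  haveI : IsLocallyNoetherian (CohB1.ProjSpace N k) :=
    Groth.Agent.Lib.Lead.SerreFin.isLocallyNoetherian_projSpace N k
  have hamp := Groth.Agent.Lib.Lead.HilbPos.isAmple_O1 N k
  haveI : CompactSpace (CohB1.ProjSpace N k) := hamp.2.1
  haveI : IsNoetherian (CohB1.ProjSpace N k) := {}
  haveI : NoetherianSpace X := (Scheme.Hom.isEmbedding ι).isInducing.noetherianSpace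
  haveI : CompactSpace X := inferInstance
  have hL : CohB1.IsAmple ((Scheme.Modules.pullback ι).obj (Twist.twistProjSpace N k 1)) :=
    Groth.Agent.Lib.helper12.PullAmple.isAmple_pullback_of_isEmbedding ι
      (Scheme.Hom.isEmbedding ι) hamp
  have hres := Groth.Agent.Lib.helper11.AmpleInv.hasResolutionProperty_of_isAmple hL
  have hX : KRR.HasEnoughLocFree X := fun F hF => hres F hF.1 hF.2
  have hreg : ∀ x : X, IsRegularLocalRing (X.presheaf.stalk x) := by
    intro x
    refine (Groth.Agent.Lib.helper17.RegSmooth.mem_smoothLocus_iff_isRegularLocalRing_of_perfectField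
      (X ↘ Spec (CommRingCat.of k)) x).mp ?_
    rw [Scheme.Hom.smoothLocus_eq_top]
    trivial
  have h : ∀ M : X.Modules, FlatMod.IsFinLocFree M → Coh.IsCoh M := fun M hM => isCoh_of_vb hM
  refine ⟨SGA6.mapSub (𝟭 X.Modules) (KRR.vbP X) (fun M : X.Modules => Coh.IsCoh M) h,
    fun E hE => ?_, bijective hreg hX h⟩
  have h1 : KZero.clSub (fun M : X.Modules => FlatMod.IsFinLocFree M) E =
      Groth.Agent.Lib.helper13.K0Res.cls (KRR.vbP X) E hE := by
    unfold KZero.clSub Groth.Agent.Lib.helper13.K0Res.cls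
    rw [dif_pos hE]
  have h2 : KZero.clSub (fun M : X.Modules => Coh.IsCoh M) E =
      Groth.Agent.Lib.helper13.K0Res.cls (fun M : X.Modules => Coh.IsCoh M) E (h E hE) := by
    unfold KZero.clSub Groth.Agent.Lib.helper13.K0Res.cls
    rw [dif_pos (h E hE)]
  rw [h1, h2]
  exact Groth.Agent.Lib.helper13.K0Res.mapSub_cls _ _ h E hE

end Groth.Agent.Lib.Helper20.K0Smooth
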