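import Groth.Agent.Lib.Helper20.KosPY1
import Groth.Agent.Lib.Helper18.ProjChart
import Groth.Agent.Lib.Helper5.CMQF3
import Groth.Agent.Lib.Helper19.ProjSpaceProper

/-!
# A section of `p : P^n_Y ⟶ Y` is a regular closed immersion (helper20)

* `exists_isRegular_ker`: for a ring homomorphism `σ : R[X_i, i ∈ ι] → R'` (`ι` finite, `R` nontrivial) with
  `σ ∘ C` bijective, `ker σ` is generated by a regular sequence (the `X_i - a_i`).
* `chart n V hV l`: the open immersion `Spec R[x_j / x_l] ⟶ P^n_Y` (`R = Γ(Y, V)`, `V` affine open) with image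
  `D_+(x_l) ∩ p⁻¹ V`.
* `isRegularClosedImmersion_section`: a section `s` of `p` is a regular closed immersion.
-/

set_option autoImplicit false
universe u

open CategoryTheory CategoryTheory.Limits AlgebraicGeometry Opposite TopologicalSpace

namespace Groth.Agent.Lib.Helper20.SectionReg

section Alg

open MvPolynomial RingTheory.Sequence

variable {R : Type*} [CommRing R] {ι : Type*}

/-- the translation automorphism `X_i ↦ X_i - a_i` -/
noncomputable def transl (a : ι → R) : MvPolynomial ι R ≃ₐ[R] MvPolynomial ι R :=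
  AlgEquiv.ofAlgHom (aeval fun i => X i - C (a i)) (aeval fun i => X i + C (a i))
    (by ext i; simp) (by ext i; simp)

@[simp] lemma transl_X (a : ι → R) (i : ι) : transl a (X i) = X i - C (a i) := by
  simp [transl]

@[simp] lemma transl_C (a : ι → R) (r : R) : transl a (C r) = C r := by
  simp [transl]

lemma ker_eq_span_X (σ : MvPolynomial ι R →+* R) (hC : ∀ r, σ (C r) = r) (hX : ∀ i, σ (X i) = 0) :
    RingHom.ker σ = Ideal.span (Set.range (X : ι → MvPolynomial ι R)) := by
  have hσ : σ = constantCoeff := by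
    apply MvPolynomial.ringHom_ext
    · intro r; rw [hC, constantCoeff_C]
    · intro i; rw [hX, constantCoeff_X]
  subst hσ
  apply le_antisymm
  · intro p hp
    rw [RingHom.mem_ker] at hp
    rw [← Set.image_univ, mem_ideal_span_X_image]
    intro m hm
    have hm0 : m ≠ 0 := by
      rintro rfl
      rw [mem_support_iff] at hm
      exact hm hp
    obtain ⟨i, hi⟩ := Finsupp.ne_iff.1 hm0
    exact ⟨i, trivial, by simpa using hi⟩
  · rw [Ideal.span_le]
    rintro _ ⟨i, rfl⟩
    exact (RingHom.mem_ker).2 (by simp)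

/-- the kernel of a retraction of `R → R[X_i]` is generated by a regular sequence -/
theorem exists_isRegular_ker [Nontrivial R] [Finite ι] {R' : Type*} [CommRing R']
    (σ : MvPolynomial ι R →+* R')
    (hσ : Function.Bijective (σ.comp (C : R →+* MvPolynomial ι R))) :
    ∃ rs : List (MvPolynomial ι R), IsRegular (MvPolynomial ι R) rs ∧
      RingHom.ker σ = Ideal.ofList rs := by
  classical
  let γ : R ≃+* R' := RingEquiv.ofBijective _ hσ
  let σ' : MvPolynomial ι R →+* R := (γ.symm : R' →+* R).comp σ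
  have hσ'C : ∀ r, σ' (C r) = r := fun r => γ.symm_apply_apply r
  have hker : RingHom.ker σ = RingHom.ker σ' := (RingHom.ker_equiv_comp σ γ.symm).symm
  let a : ι → R := fun i => σ' (X i)
  let τ : MvPolynomial ι R ≃+* MvPolynomial ι R := (transl a).toRingEquiv
  have hτX : ∀ i, τ (X i) = X i - C (a i) := fun i => transl_X a i
  have hτC : ∀ r, τ (C r) = C r := fun r => transl_C a r
  have h1 : RingHom.ker (σ'.comp (τ : MvPolynomial ι R →+* MvPolynomial ι R)) =
      Ideal.span (Set.range X) := by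
    refine ker_eq_span_X _ (fun r => ?_) (fun i => ?_)
    · show σ' (τ (C r)) = r
      rw [hτC, hσ'C]
    · show σ' (τ (X i)) = 0
      rw [hτX, map_sub, hσ'C, sub_self]
  obtain ⟨d, ⟨e⟩⟩ := Finite.exists_equiv_fin ι
  let g : Fin d → MvPolynomial ι R := fun j => X (e.symm j)
  have hw : IsWeaklyRegular (MvPolynomial ι R) (List.ofFn g) :=
    Groth.Agent.Lib.helper5.CMQF.isWeaklyRegular_X_comp (fun j => e.symm j) e.symm.injective
  have hspan : Ideal.ofList (List.ofFn g) = Ideal.span (Set.range X) := by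
    show Ideal.span {r | r ∈ List.ofFn g} = _
    congr 1
    ext p
    simp only [Set.mem_setOf_eq, List.mem_ofFn, Set.mem_range, g]
    constructor
    · rintro ⟨j, rfl⟩; exact ⟨_, rfl⟩
    · rintro ⟨i, rfl⟩; exact ⟨e i, by simp⟩
  have hreg : IsRegular (MvPolynomial ι R) (List.ofFn g) := by
    refine ⟨hw, ?_⟩
    rw [smul_eq_mul, Ideal.mul_top, hspan, ← h1]
    intro h
    have h2 : (1 : MvPolynomial ι R) ∈ RingHom.ker (σ'.comp (τ : _ →+* MvPolynomial ι R)) := by
      rw [← h]; trivial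
    rw [RingHom.mem_ker, map_one] at h2
    exact one_ne_zero h2
  refine ⟨(List.ofFn g).map (τ : MvPolynomial ι R →+* MvPolynomial ι R), ?_, ?_⟩
  · refine (AddEquiv.isRegular_congr (e := τ.toAddEquiv) ?_).1 hreg
    exact List.forall₂_map_right_iff.mpr (List.forall₂_same.mpr fun r _ x => map_mul τ r x)
  · have h5 : RingHom.ker σ' = Ideal.map (τ : MvPolynomial ι R →+* MvPolynomial ι R)
        (RingHom.ker (σ'.comp (τ : MvPolynomial ι R →+* MvPolynomial ι R))) := by
      rw [← RingHom.comap_ker σ' (τ : MvPolynomial ι R →+* MvPolynomial ι R),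
        Ideal.map_comap_of_surjective (τ : MvPolynomial ι R →+* MvPolynomial ι R) τ.surjective]
    rw [hker, ← Ideal.map_ofList (τ : MvPolynomial ι R →+* MvPolynomial ι R), hspan, ← h1]
    exact h5

/-- transport along a ring isomorphism -/
theorem exists_isRegular_ker_of_equiv [Nontrivial R] [Finite ι] {B R' : Type*} [CommRing B]
    [CommRing R'] (Φ : MvPolynomial ι R ≃+* B) (σ : B →+* R')
    (hσ : Function.Bijective fun r : R => σ (Φ (C r))) :
    ∃ rs : List B, IsRegular B rs ∧ RingHom.ker σ = Ideal.ofList rs := by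
  obtain ⟨rs, hrs, hk⟩ := exists_isRegular_ker (σ.comp (Φ : MvPolynomial ι R →+* B)) hσ
  refine ⟨rs.map (Φ : MvPolynomial ι R →+* B), ?_, ?_⟩
  · refine (AddEquiv.isRegular_congr (e := Φ.toAddEquiv) ?_).1 hrs
    exact List.forall₂_map_right_iff.mpr (List.forall₂_same.mpr fun r _ x => map_mul Φ r x)
  · rw [← Ideal.map_ofList (Φ : MvPolynomial ι R →+* B), ← hk,
      ← RingHom.comap_ker σ (Φ : MvPolynomial ι R →+* B),
      Ideal.map_comap_of_surjective (Φ : MvPolynomial ι R →+* B) Φ.surjective]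

end Alg

section Geom

open Groth.Agent.Lib.helper12.PnLocal Groth.Agent.Lib.Helper20.KosPY
  Groth.Agent.Lib.Helper18.ProjChart Groth.Agent.Lib.helper20.KosPn

variable (n : ℕ) {Y : Scheme.{u}} (V : Y.Opens) (hV : IsAffineOpen V) (l : Fin (n + 1))

/-- the `l`-th standard chart of `P^n_Y` over the affine open `V` -/
noncomputable def chart :
    Spec (CommRingCat.of (HomogeneousLocalization.Away (CohB1.polyGrading n Γ(Y, V))
      (MvPolynomial.X l : MvPolynomial (Fin (n + 1)) Γ(Y, V)))) ⟶ KRR.PY n Y :=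
  Proj.awayι (CohB1.polyGrading n Γ(Y, V)) (MvPolynomial.X l) (X_mem n Γ(Y, V) l) one_pos ≫
    (theta n V hV).inv ≫ (KRR.pr n Y ⁻¹ᵁ V).ι

instance : IsOpenImmersion (chart n V hV l) := by
  unfold chart
  infer_instance

lemma chart_pr : chart n V hV l ≫ KRR.pr n Y =
    Spec.map (CommRingCat.ofHom (cHom n Γ(Y, V) l)) ≫ hV.fromSpec := by
  have h1 : (theta n V hV).inv ≫ (KRR.pr n Y ⁻¹ᵁ V).ι ≫ KRR.pr n Y =
      toSpecP n Γ(Y, V) ≫ hV.fromSpec := by
    rw [Iso.inv_comp_eq]
    have h := theta_hom_toSpec n V hV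
    have h1 : (KRR.pr n Y ⁻¹ᵁ V).ι ≫ KRR.pr n Y = (KRR.pr n Y ∣_ V) ≫ V.ι :=
      (morphismRestrict_ι _ _).symm
    rw [h1, ← hV.isoSpec_hom_fromSpec, ← Category.assoc]
    exact (congrArg (· ≫ hV.fromSpec) h.symm).trans (Category.assoc _ _ _)
  have h2 : Proj.awayι (CohB1.polyGrading n Γ(Y, V)) (MvPolynomial.X l) (X_mem n Γ(Y, V) l) one_pos ≫
      toSpecP n Γ(Y, V) = Spec.map (CommRingCat.ofHom (cHom n Γ(Y, V) l)) := by
    rw [toSpecP_eq, ← Category.assoc, Proj.awayι_toSpecZero, ← Spec.map_comp]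
    rfl
  unfold chart
  rw [Category.assoc, Category.assoc, h1, ← Category.assoc, h2]

lemma mem_range_chart (x : KRR.PY n Y) (hx1 : x ∈ KRR.pr n Y ⁻¹ᵁ V) (hx2 : x ∈ UbY n Y l) :
    x ∈ Set.range (chart n V hV l) := by
  let x' : (↑(KRR.pr n Y ⁻¹ᵁ V) : Scheme.{u}) := ⟨x, hx1⟩
  let z := (theta n V hV).hom x'
  have h2 : (Proj.map (polyMap n (zHom Γ(Y, V))) (irrelevant_le_polyMap n _)) z = q1 n Y x := by
    have h := theta_hom_map n V hV
    have h' := congrArg (fun f : (↑(KRR.pr n Y ⁻¹ᵁ V) : Scheme.{u}) ⟶ _ => f x') h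
    simp only [Scheme.Hom.comp_apply] at h'
    exact h'
  have hz : z ∈ Proj.basicOpen (CohB1.polyGrading n Γ(Y, V))
      (MvPolynomial.X l : MvPolynomial (Fin (n + 1)) Γ(Y, V)) := by
    have h3' : (Proj.map (polyMap n (zHom Γ(Y, V))) (irrelevant_le_polyMap n _)) z ∈
        (Proj.basicOpen (CohB1.polyGrading n (ULift.{u} ℤ))
          (MvPolynomial.X l : MvPolynomial (Fin (n + 1)) (ULift.{u} ℤ))) := by
      rw [h2]
      exact hx2
    have h3 : z ∈ (Proj.map (polyMap n (zHom Γ(Y, V))) (irrelevant_le_polyMap n _)) ⁻¹ᵁ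
        (Proj.basicOpen (CohB1.polyGrading n (ULift.{u} ℤ))
          (MvPolynomial.X l : MvPolynomial (Fin (n + 1)) (ULift.{u} ℤ))) := h3'
    rw [Proj.map_preimage_basicOpen, polyMap_apply, MvPolynomial.map_X] at h3
    exact h3
  rw [← Proj.opensRange_awayι _ _ (X_mem n Γ(Y, V) l) one_pos] at hz
  obtain ⟨w, hw⟩ := hz
  refine ⟨w, ?_⟩
  have h4 : (theta n V hV).inv z = x' := by
    have h := congrArg (fun f : (↑(KRR.pr n Y ⁻¹ᵁ V) : Scheme.{u}) ⟶ _ => f x')
      (theta n V hV).hom_inv_id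
    simp only [Scheme.Hom.comp_apply] at h
    exact h
  show (KRR.pr n Y ⁻¹ᵁ V).ι ((theta n V hV).inv
    (Proj.awayι (CohB1.polyGrading n Γ(Y, V)) (MvPolynomial.X l) (X_mem n Γ(Y, V) l) one_pos w)) = x
  rw [hw, h4]
  rfl

lemma range_chart_le : (chart n V hV l).opensRange ≤ KRR.pr n Y ⁻¹ᵁ V := by
  rintro _ ⟨w, rfl⟩
  exact ((theta n V hV).inv
    (Proj.awayι (CohB1.polyGrading n Γ(Y, V)) (MvPolynomial.X l) (X_mem n Γ(Y, V) l) one_pos w)).2

variable {n}

/-- **a section of `P^n_Y ⟶ Y` is a regular closed immersion** -/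
theorem isRegularClosedImmersion_section (s : Y ⟶ KRR.PY n Y) (hs : s ≫ KRR.pr n Y = 𝟙 Y) :
    Mor2.IsRegularClosedImmersion s := by
  haveI : IsProper (KRR.pr n Y) := Groth.Agent.Lib.helper19.ProjSpaceProper.proper_toBase n Y
  have hcl : IsClosedImmersion s := by
    haveI : IsClosedImmersion (s ≫ KRR.pr n Y) := by rw [hs]; infer_instance
    exact IsClosedImmersion.of_comp s (KRR.pr n Y)
  refine ⟨hcl, fun y => ?_⟩
  obtain ⟨l, hl⟩ : ∃ l, s y ∈ UbY n Y l := by
    have h : s y ∈ (⨆ l, UbY n Y l) := by rw [iSup_UbY]; trivial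
    exact Opens.mem_iSup.1 h
  obtain ⟨V, hV, hyV, hVW⟩ := (Opens.isBasis_iff_nbhd.1 Y.isBasis_affineOpens)
    (show y ∈ s ⁻¹ᵁ UbY n Y l from hl)
  have hsp : ∀ v : Y, (KRR.pr n Y) (s v) = v := fun v => by
    have h := congrArg (fun f : Y ⟶ Y => f v) hs
    simp only [Scheme.Hom.comp_apply] at h
    exact h
  let j := chart n V hV l
  let U : (KRR.PY n Y).Opens := j.opensRange
  have hU : IsAffineOpen U := isAffineOpen_opensRange j
  have hVU : V ≤ s ⁻¹ᵁ U := by
    intro v hv
    show s v ∈ Set.range j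
    refine mem_range_chart n V hV l (s v) ?_ (hVW hv)
    show (KRR.pr n Y) (s v) ∈ V
    rw [hsp]
    exact hv
  have hUV : U ≤ KRR.pr n Y ⁻¹ᵁ V := range_chart_le n V hV l
  have hsU : s ⁻¹ᵁ U ≤ V := by
    intro v hv
    have h : (KRR.pr n Y) (s v) ∈ V := hUV hv
    rwa [hsp] at h
  let ρ := (KRR.pr n Y).appLE V U hUV
  let σ := s.appLE U V hVU
  have hρσ : ρ ≫ σ = 𝟙 _ := by
    apply Spec.map_injective
    rw [Spec.map_comp, Spec.map_id, ← cancel_mono hV.fromSpec, Category.assoc, Category.id_comp]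
    show Spec.map (s.appLE U V hVU) ≫ Spec.map ((KRR.pr n Y).appLE V U hUV) ≫ hV.fromSpec = _
    rw [IsAffineOpen.SpecMap_appLE_fromSpec (KRR.pr n Y) hV hU hUV,
      IsAffineOpen.SpecMap_appLE_fromSpec_assoc s hU hV hVU, hs, Category.comp_id]
  have hrange : Set.range j = Set.range hU.fromSpec := by
    rw [hU.range_fromSpec]
    rfl
  let κ := IsOpenImmersion.isoOfRangeEq j hU.fromSpec hrange
  have hκ : κ.hom ≫ hU.fromSpec = j := IsOpenImmersion.isoOfRangeEq_hom_fac _ _ _
  let εh := Spec.preimage κ.hom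
  let εi := Spec.preimage κ.inv
  have hε1 : εh ≫ εi = 𝟙 _ := by
    apply Spec.map_injective
    rw [Spec.map_comp, Spec.map_preimage, Spec.map_preimage, κ.inv_hom_id, Spec.map_id]
  have hρε : ρ ≫ εh = CommRingCat.ofHom (cHom n Γ(Y, V) l) := by
    apply Spec.map_injective
    rw [Spec.map_comp, Spec.map_preimage, ← cancel_mono hV.fromSpec, Category.assoc]
    show κ.hom ≫ Spec.map ((KRR.pr n Y).appLE V U hUV) ≫ hV.fromSpec = _
    rw [IsAffineOpen.SpecMap_appLE_fromSpec (KRR.pr n Y) hV hU hUV, ← Category.assoc, hκ]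
    exact chart_pr n V hV l
  let ε : Γ(KRR.PY n Y, U) ≅ CommRingCat.of (HomogeneousLocalization.Away
      (CohB1.polyGrading n Γ(Y, V)) (MvPolynomial.X l : MvPolynomial (Fin (n + 1)) Γ(Y, V))) :=
    ⟨εh, εi, hε1, by
      apply Spec.map_injective
      rw [Spec.map_comp, Spec.map_preimage, Spec.map_preimage, κ.hom_inv_id, Spec.map_id]⟩
  let Φ : MvPolynomial (Idx n l) Γ(Y, V) ≃+* Γ(KRR.PY n Y, U) :=
    (chartEquiv n Γ(Y, V) l).trans ε.symm.commRingCatIsoToRingEquiv
  have hΦC : ∀ r : Γ(Y, V), Φ (MvPolynomial.C r) = ρ.hom r := by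
    intro r
    have h1 : chartEquiv n Γ(Y, V) l (MvPolynomial.C r) = cHom n Γ(Y, V) l r := by
      simp [chartEquiv, Groth.Agent.Lib.Helper18.ProjChart.Φ]
    have h2 : εh.hom (ρ.hom r) = cHom n Γ(Y, V) l r := by
      have h := congrArg (fun f => f.hom r) hρε
      exact h
    show εi.hom (chartEquiv n Γ(Y, V) l (MvPolynomial.C r)) = ρ.hom r
    rw [h1, ← h2]
    have h := congrArg (fun f => f.hom (ρ.hom r)) hε1
    exact h
  haveI : Nonempty V := ⟨⟨y, hyV⟩⟩
  haveI : Nontrivial Γ(Y, V) := Scheme.component_nontrivial Y V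
  obtain ⟨rs, hrs, hker⟩ := exists_isRegular_ker_of_equiv Φ σ.hom (by
    have h : (fun r : Γ(Y, V) => σ.hom (Φ (MvPolynomial.C r))) = id := by
      funext r
      rw [hΦC]
      exact congrArg (fun f => f.hom r) hρσ
    rw [h]
    exact Function.bijective_id)
  refine ⟨U, hU, hVU hyV, rs, hrs, ?_⟩
  rw [Scheme.Hom.ker_apply, ← hker]
  have hEq : s ⁻¹ᵁ U = V := le_antisymm hsU hVU
  have hinj : Function.Injective (Y.presheaf.map (homOfLE hVU).op).hom := by
    have key : ∀ (W : Y.Opens) (h : V ≤ W) (_ : W = V),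
        Function.Injective (Y.presheaf.map (homOfLE h).op).hom := by
      rintro W h rfl
      have h0 : homOfLE h = 𝟙 _ := Subsingleton.elim _ _
      rw [h0, op_id, Y.presheaf.map_id]
      exact Function.injective_id
    exact key _ hVU hEq
  ext x
  rw [RingHom.mem_ker, RingHom.mem_ker]
  have h : σ.hom x = (Y.presheaf.map (homOfLE hVU).op).hom ((s.app U).hom x) := rfl
  rw [h, map_eq_zero_iff _ hinj]

end Geom

end Groth.Agent.Lib.Helper20.SectionReg
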