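import Groth.Agent.Lib.Helper20.Fubini
import Groth.Agent.Lib.Helper20.ELFClosed
import Groth.Agent.Lib.Helper20.SectionReg
import Groth.Agent.Lib.Lead.RpushCoh
import Groth.Agent.Lib.Helper7.CohKer

/-!
# Independence of the factorization, on `Kvb` (helper20)

* `pushK_comp`: `(f ≫ g)_! = g_! ∘ f_!` on `Kvb`.
* `pushK_iso`: `σ_! = sigK σ` for an isomorphism `σ`.
* `hasEnoughLocFree_PY`: `P^a_B` has enough locally free modules if the Noetherian scheme `B` has.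
* `stepA_K`: `p_! ∘ (ι̃)_! ∘ s_! = ι_!` for `X →s P^n_X →ι̃ P^n_B`.
* `indep_K`: `p_! ∘ (i₁)_! = p'_! ∘ (i₂)_!` for two factorizations through `P^n_B`, `P^m_B`.
-/

set_option autoImplicit false
universe v u

open CategoryTheory CategoryTheory.Limits AlgebraicGeometry Opposite TopologicalSpace

namespace Groth.Agent.Lib.Helper20.KIndep

open Groth.Agent.Lib.Helper20.KosPY Groth.Agent.Lib.Helper20.RegK0 Groth.Agent.Lib.helper8.Dev
  Groth.Agent.Lib.helper7.K0API KZero Groth.Agent.Lib.Helper20.KModelMaps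
  Groth.Agent.Lib.Lead.ModTensor Groth.Agent.Lib.Helper20.PushRes Groth.Agent.Lib.Helper20.KosNum
  Groth.Agent.Lib.Helper20.FibreReg Groth.Agent.Lib.Helper20.KPr
  Groth.Agent.Lib.Helper20.QuillenGen Groth.Agent.Lib.Helper20.SwapPP
  Groth.Agent.Lib.Helper20.PushClK Groth.Agent.Lib.Helper20.PushClPr
  Groth.Agent.Lib.Helper20.EulerRes Groth.Agent.Lib.Helper20.K0Reg
  Groth.Agent.Lib.Helper20.Fubini Groth.Agent.Lib.Helper20.KPushCl

noncomputable section

section Comp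

variable {X Y Z : Scheme.{u}} {f : X ⟶ Y} {g : Y ⟶ Z} [IsClosedImmersion f] [IsClosedImmersion g]
  [IsLocallyNoetherian Y] [IsLocallyNoetherian Z] (cf : Ctx f) (cg : Ctx g) (cfg : Ctx (f ≫ g))
  (hYe : KRR.HasEnoughLocFree Y) (hZe : KRR.HasEnoughLocFree Z)

/-- `(f ≫ g)_! = g_! ∘ f_!` -/
theorem pushK_comp (x : SGA6.Kvb X) :
    cfg.pushK hZe x = cg.pushK hZe (cf.pushK hYe x) := by
  have := hom_ext_vb (cfg.pushK hZe) ((cg.pushK hZe).comp (cf.pushK hYe)) (fun F hF => by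
    show cfg.pushK hZe (KRR.cl X F) = cg.pushK hZe (cf.pushK hYe (KRR.cl X F))
    obtain ⟨hQ, hcl⟩ := eQ_pushK_pushK cf cg hYe hZe F hF
    let e : (Scheme.Modules.pushforward g).obj ((Scheme.Modules.pushforward f).obj F) ≅
        (Scheme.Modules.pushforward (f ≫ g)).obj F :=
      (Scheme.Modules.pushforwardComp f g).app F
    have hQ' : cg.Q ((Scheme.Modules.pushforward (f ≫ g)).obj F) := P1_of_iso cg.t e hQ
    obtain ⟨m, M, ρ, hM⟩ := cg.hasLFRes hZe hQ'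
    rw [cfg.pushK_eq_of_isLFRes hZe F hF hM]
    have h3 := cg.clSub_eq_of_isLFRes hZe hQ' hM
    have h4 : KZero.clSub cg.Q ((Scheme.Modules.pushforward g).obj
        ((Scheme.Modules.pushforward f).obj F)) =
        KZero.clSub cg.Q ((Scheme.Modules.pushforward (f ≫ g)).obj F) :=
      clSub_iso cg.Q cg.Q_zero (fun _ _ e h => P1_of_iso cg.t e h) e
    symm
    apply (cg.eQ hZe).injective
    rw [hcl, h4, h3])
  exact DFunLike.congr_fun this x

end Comp

section Iso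

variable {A B : Scheme.{u}} (σ : A ⟶ B) [IsIso σ] [IsLocallyNoetherian B] (c : Ctx σ)
  (hBe : KRR.HasEnoughLocFree B)

/-- `σ_! = sigK σ` for an isomorphism -/
theorem pushK_iso (x : SGA6.Kvb A) : c.pushK hBe x = sigK σ x := by
  have := hom_ext_vb (c.pushK hBe) (sigK σ) (fun G hG => by
    apply (c.eQ hBe).injective
    rw [c.pushK_cl hBe G hG, sigK_cl σ hG, c.eQ_cl hBe _ (isFinLocFree_push_iso σ hG)])
  exact DFunLike.congr_fun this x

end Iso

section ELF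

variable (a : ℕ) (B : Scheme.{u}) [IsNoetherian B]

/-- `P^a_B` has enough locally free modules if `B` has -/
theorem hasEnoughLocFree_PY (hB : KRR.HasEnoughLocFree B) : KRR.HasEnoughLocFree (KRR.PY a B) := by
  intro G hG
  obtain ⟨k, hk⟩ := exists_isRegSheaf_twF a B G hG
  have hreg := hk k le_rfl
  set Gk := KRR.twF a B (k : ℤ) G with hGk
  have hGkcoh : Coh.IsCoh Gk :=
    Groth.Agent.Lib.Helper18.DegCalc.isCoh_tensorMod
      (isCoh_of_vb (isFinLocFree_twistOver a B (k : ℤ))) hG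
  obtain ⟨hepi, -⟩ := Groth.Agent.S3755.result a B Gk hGkcoh hreg
  haveI := hepi
  haveI : IsProper (KRR.pr a B) := Groth.Agent.Lib.helper19.ProjSpaceProper.proper_toBase a B
  have hpush : Coh.IsCoh ((Scheme.Modules.pushforward (KRR.pr a B)).obj Gk) :=
    Groth.Agent.Lib.helper7.CohKer.isCoh_of_iso
      ((Scheme.Modules.pushforward (KRR.pr a B)).rightDerivedZeroIsoSelf.app Gk)
      (Groth.Agent.Lib.Lead.RpushCoh.isCoh_rpush (KRR.pr a B) Gk hGkcoh 0)
  obtain ⟨E, π, hE, hπ⟩ := hB _ hpush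
  haveI := hπ
  have hpE : FlatMod.IsFinLocFree ((Scheme.Modules.pullback (KRR.pr a B)).obj E) :=
    Groth.Agent.Lib.helper16.FLF.isFinLocFree_pullback _ hE
  let φ : (Scheme.Modules.pullback (KRR.pr a B)).obj E ⟶ Gk :=
    (Scheme.Modules.pullback (KRR.pr a B)).map π ≫
      (Scheme.Modules.pullbackPushforwardAdjunction (KRR.pr a B)).counit.app Gk
  haveI : Epi ((Scheme.Modules.pullback (KRR.pr a B)).map π) := inferInstance
  haveI : Epi φ := epi_comp _ _
  haveI : Epi ((TwF a B (-(k : ℤ))).map φ) := by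
    let S : ShortComplex (KRR.PY a B).Modules :=
      ShortComplex.mk (kernel.ι φ) φ (kernel.condition φ)
    have hS : S.ShortExact :=
      { exact := ShortComplex.exact_kernel φ
        mono_f := inferInstanceAs (Mono (kernel.ι φ))
        epi_g := inferInstanceAs (Epi φ) }
    exact (shortExact_map_TwF a B (-(k : ℤ)) S hS).epi_g
  let e : KRR.twF a B (-(k : ℤ)) Gk ≅ G :=
    twFAddIso a B (-(k : ℤ)) (k : ℤ) G ≪≫ twFCongr a B (by simp) G ≪≫ twFZeroIso a B G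
  have hfin : Epi ((TwF a B (-(k : ℤ))).map φ ≫ e.hom) := epi_comp _ _
  exact ⟨KRR.twF a B (-(k : ℤ)) ((Scheme.Modules.pullback (KRR.pr a B)).obj E),
    (TwF a B (-(k : ℤ))).map φ ≫ e.hom, isFinLocFree_twF a B hpE _, hfin⟩

end ELF

section StepA

variable {n : ℕ} {X B : Scheme.{u}} [IsNoetherian X] [IsNoetherian B]
  (ι : X ⟶ B) [IsClosedImmersion ι] (g : X ⟶ CohB1.ProjSpace n (ULift.{u} ℤ))
  [IsClosedImmersion (sec n g)] [IsClosedImmersion (KRR.projSpaceMap n ι)]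
  (cι : Ctx ι) (cs : Ctx (sec n g)) (ct : Ctx (KRR.projSpaceMap n ι))
  (hBe : KRR.HasEnoughLocFree B) (hPB : KRR.HasEnoughLocFree (KRR.PY n B))
  (hPX : KRR.HasEnoughLocFree (KRR.PY n X))
  {KX : Type v} [CommRing KX] [LambdaRing.LambdaOps KX] {PX : LambdaRing.PosStructure KX}
  {φX : SGA6.Kvb X →+ KX} (hKX : KRR.IsModel X KX PX φX)

include hKX in
/-- `p_! ∘ (ι̃)_! ∘ s_! = ι_!` -/
theorem stepA_K (x : SGA6.Kvb X) :
    prK n B (ct.pushK hPB (cs.pushK hPX x)) = cι.pushK hBe x := by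
  rw [← pushCl_pushPr_K ι cι ct hBe hPB, section_K _ (sec_pr n g) cs hPX hKX]

end StepA

section Indep

variable {n m : ℕ} {X B : Scheme.{u}} [IsNoetherian X] [IsNoetherian B]
  (i₁ : X ⟶ KRR.PY n B) (i₂ : X ⟶ KRR.PY m B)
  (h₁ : Mor2.IsRegularClosedImmersion i₁) (h₂ : Mor2.IsRegularClosedImmersion i₂)
  [IsClosedImmersion i₁] [IsClosedImmersion i₂]
  (hcomm : i₁ ≫ KRR.pr n B = i₂ ≫ KRR.pr m B)
  (hP1 : KRR.HasEnoughLocFree (KRR.PY n B)) (hP2 : KRR.HasEnoughLocFree (KRR.PY m B))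
  (hW : KRR.HasEnoughLocFree (KRR.PY n (KRR.PY m B)))
  (hW' : KRR.HasEnoughLocFree (KRR.PY m (KRR.PY n B)))
  {KX : Type v} [CommRing KX] [LambdaRing.LambdaOps KX] {PX : LambdaRing.PosStructure KX}
  {φX : SGA6.Kvb X →+ KX} (hKX : KRR.IsModel X KX PX φX)
  (c₁ : Ctx i₁) (c₂ : Ctx i₂)

include h₁ h₂ hcomm hW hW' hKX in
/-- **independence of the factorization** on `Kvb` -/
theorem indep_K (x : SGA6.Kvb X) :
    prK n B (c₁.pushK hP1 x) = prK m B (c₂.pushK hP2 x) := by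
  have hs := sec_pr n (i₁ ≫ q1 n B)
  have hs' := sec_pr m (i₂ ≫ q1 m B)
  have hsreg := Groth.Agent.Lib.Helper20.SectionReg.isRegularClosedImmersion_section _ hs
  have hsreg' := Groth.Agent.Lib.Helper20.SectionReg.isRegularClosedImmersion_section _ hs'
  have hj₂ := Groth.Agent.Lib.Helper20.RegImmFlatBC.isRegularClosedImmersion_projSpaceMap n i₂ h₂
  have hj₁ := Groth.Agent.Lib.Helper20.RegImmFlatBC.isRegularClosedImmersion_projSpaceMap m i₁ h₁
  haveI := hsreg.1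
  haveI := hsreg'.1
  haveI := hj₂.1
  haveI := hj₁.1
  have hPX := Groth.Agent.Lib.Helper20.ELFClosed.hasEnoughLocFree_of_isClosedImmersion
    (KRR.projSpaceMap n i₂) hW
  have hPX' := Groth.Agent.Lib.Helper20.ELFClosed.hasEnoughLocFree_of_isClosedImmersion
    (KRR.projSpaceMap m i₁) hW'
  obtain ⟨cs⟩ := nonempty_ctx _ hsreg
  obtain ⟨cs'⟩ := nonempty_ctx _ hsreg'
  obtain ⟨c2t⟩ := nonempty_ctx _ hj₂
  obtain ⟨c1t⟩ := nonempty_ctx _ hj₁
  rw [← stepA_K i₂ (i₁ ≫ q1 n B) c₂ cs c2t hP2 hW hPX hKX x,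
    ← stepA_K i₁ (i₂ ≫ q1 m B) c₁ cs' c1t hP1 hW' hPX' hKX x,
    fubini n m B, sigK_emb i₁ i₂ hcomm cs c2t cs' c1t hPX hW hPX' hW']

end Indep

end

end Groth.Agent.Lib.Helper20.KIndep
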