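import Mathlib
import Groth.Prelude.Def_CohB1
import Groth.Agent.Lib.Helper28.TwistPn
import Groth.Agent.Lib.Helper26.ProjDim1

/-!
# Linear forms through a non-closed point of `P^n_k` (helper20)

For a point `y` of `P^n_k`, `B y` is the space of linear forms vanishing at `y`.
* `aeval_smul_homog`: `f (c • t) = f(c) • t^d` for `f` homogeneous of degree `d`.
* `codim_two`: if `y` is not a closed point and `h₁ ∉ B y`, then `B y ⊔ k h₁ ≠ ⊤`.
* `exists_pencil`: for a finite set of non-closed points, a pencil `h₂ - λ h₁` (and `h₁`) of linear forms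
  none of which vanishes at any of the points.
-/

set_option autoImplicit false
universe u

open MvPolynomial

namespace Groth.Agent.Lib.helper20.KleimanAlg

variable (n : ℕ) (k : Type u) [Field k]

lemma aeval_smul_homog {Q : Type*} [CommRing Q] [Algebra k Q] (c : Fin (n + 1) → k) (t : Q)
    {f : MvPolynomial (Fin (n + 1)) k} {d : ℕ} (hf : f.IsHomogeneous d) :
    MvPolynomial.aeval (fun i => c i • t) f = (MvPolynomial.eval c f) • t ^ d := by
  rw [MvPolynomial.aeval_def, MvPolynomial.eval₂_eq, MvPolynomial.eval_eq, Finset.sum_smul]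
  refine Finset.sum_congr rfl fun m hm => ?_
  have hdeg : d = ∑ i ∈ m.support, m i := hf.degree_eq_sum_deg_support hm
  rw [Algebra.smul_def, map_mul, map_prod, mul_assoc]
  congr 1
  rw [hdeg, ← Finset.prod_pow_eq_pow_sum, ← Finset.prod_mul_distrib]
  refine Finset.prod_congr rfl fun i _ => ?_
  rw [Algebra.smul_def, mul_pow, map_pow]

/-- the space of linear forms vanishing at `y` -/
noncomputable def B (y : ProjectiveSpectrum (CohB1.polyGrading n k)) : Submodule k (CohB1.polyGrading n k 1) :=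
  Submodule.comap (CohB1.polyGrading n k 1).subtype
    (y.asHomogeneousIdeal.toIdeal.restrictScalars k)

lemma mem_B (y : ProjectiveSpectrum (CohB1.polyGrading n k)) (h : CohB1.polyGrading n k 1) :
    h ∈ B n k y ↔ h.1 ∈ y.asHomogeneousIdeal := Iff.rfl

lemma B_ne_top (y : ProjectiveSpectrum (CohB1.polyGrading n k)) : B n k y ≠ ⊤ := by
  intro hx
  obtain ⟨l, hl⟩ := Groth.Agent.Lib.helper28.TwistPn.exists_X_notMem n k y
  have hmem : (⟨MvPolynomial.X l, Groth.Agent.Lib.helper28.TwistPn.X_mem n k l⟩ :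
      CohB1.polyGrading n k 1) ∈ B n k y := by rw [hx]; trivial
  exact hl hmem

theorem codim_two (y : ProjectiveSpectrum (CohB1.polyGrading n k))
    (hy : ¬ IsClosed ({y} : Set (ProjectiveSpectrum (CohB1.polyGrading n k))))
    (h₁ : CohB1.polyGrading n k 1) :
    B n k y ⊔ Submodule.span k {h₁} ≠ ⊤ := by
  intro htop
  apply hy
  rw [← closure_eq_iff_isClosed, Groth.Agent.Lib.helper26.ProjDim.closure_singleton]
  ext z
  rw [Set.mem_Ici, Set.mem_singleton_iff]
  refine ⟨fun hyz => ?_, fun h => h ▸ le_refl _⟩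
  have hyz' : y.asHomogeneousIdeal ≤ z.asHomogeneousIdeal :=
    (ProjectiveSpectrum.as_ideal_le_as_ideal (𝒜 := CohB1.polyGrading n k) y z).2 hyz
  -- decompose the variables
  have hdec : ∀ i : Fin (n + 1), ∃ (c : k), (X i : MvPolynomial (Fin (n + 1)) k) - c • h₁.1 ∈
      y.asHomogeneousIdeal := by
    intro i
    have hmem : (⟨MvPolynomial.X i, Groth.Agent.Lib.helper28.TwistPn.X_mem n k i⟩ :
        CohB1.polyGrading n k 1) ∈ B n k y ⊔ Submodule.span k {h₁} := by rw [htop]; trivial
    obtain ⟨b, hb, w, hw, hsum⟩ := Submodule.mem_sup.1 hmem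
    obtain ⟨c, rfl⟩ := Submodule.mem_span_singleton.1 hw
    refine ⟨c, ?_⟩
    have hb' : b.1 ∈ y.asHomogeneousIdeal := hb
    have e : (X i : MvPolynomial (Fin (n + 1)) k) = b.1 + c • h₁.1 := by
      have := congrArg Subtype.val hsum
      exact this.symm
    rw [e, add_sub_cancel_right]
    exact hb'
  choose c hc using hdec
  -- h₁ is not in z
  have hh1z : h₁.1 ∉ z.asHomogeneousIdeal := by
    intro hmem
    obtain ⟨l, hl⟩ := Groth.Agent.Lib.helper28.TwistPn.exists_X_notMem n k z
    apply hl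
    have h1 : (X l : MvPolynomial (Fin (n + 1)) k) - c l • h₁.1 ∈ z.asHomogeneousIdeal :=
      hyz' (hc l)
    have h2 : c l • h₁.1 ∈ z.asHomogeneousIdeal.toIdeal :=
      Submodule.smul_of_tower_mem _ (c l) hmem
    have := z.asHomogeneousIdeal.toIdeal.add_mem h1 h2
    rwa [sub_add_cancel] at this
  -- the quotient map
  let P : Ideal (MvPolynomial (Fin (n + 1)) k) := y.asHomogeneousIdeal.toIdeal
  let π : MvPolynomial (Fin (n + 1)) k →ₐ[k] (MvPolynomial (Fin (n + 1)) k ⧸ P) :=
    Ideal.Quotient.mkₐ k P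
  set t := π h₁.1 with ht
  have hπX : ∀ i, π (X i) = c i • t := by
    intro i
    have : π ((X i : MvPolynomial (Fin (n + 1)) k) - c i • h₁.1) = 0 :=
      (Ideal.Quotient.eq_zero_iff_mem).2 (hc i)
    rw [map_sub, map_smul, sub_eq_zero] at this
    exact this
  have hπ : π = MvPolynomial.aeval (fun i => c i • t) := by
    apply MvPolynomial.algHom_ext
    intro i
    rw [hπX, MvPolynomial.aeval_X]
  -- homogeneous elements of z lie in y
  have key : ∀ (d : ℕ) (f : MvPolynomial (Fin (n + 1)) k), f.IsHomogeneous d →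
      f ∈ z.asHomogeneousIdeal → f ∈ y.asHomogeneousIdeal := by
    intro d f hf hfz
    have e1 : π f = (MvPolynomial.eval c f) • t ^ d := by
      rw [hπ]; exact aeval_smul_homog n k c t hf
    by_cases ha : MvPolynomial.eval c f = 0
    · rw [ha, zero_smul] at e1
      exact (Ideal.Quotient.eq_zero_iff_mem).1 e1
    · exfalso
      apply hh1z
      have e2 : π (f - (MvPolynomial.eval c f) • h₁.1 ^ d) = 0 := by
        rw [map_sub, map_smul, map_pow, e1, sub_self]
      have h3 : f - (MvPolynomial.eval c f) • h₁.1 ^ d ∈ z.asHomogeneousIdeal :=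
        hyz' ((Ideal.Quotient.eq_zero_iff_mem).1 e2)
      have h4 : (MvPolynomial.eval c f) • h₁.1 ^ d ∈ z.asHomogeneousIdeal.toIdeal := by
        have := z.asHomogeneousIdeal.toIdeal.sub_mem hfz h3
        rwa [sub_sub_cancel] at this
      have h5 : h₁.1 ^ d ∈ z.asHomogeneousIdeal.toIdeal := by
        have := Submodule.smul_of_tower_mem z.asHomogeneousIdeal.toIdeal
          (MvPolynomial.eval c f)⁻¹ h4
        rwa [smul_smul, inv_mul_cancel₀ ha, one_smul] at this
      exact z.isPrime.mem_of_pow_mem d h5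
  -- conclude
  have hle : z.asHomogeneousIdeal ≤ y.asHomogeneousIdeal := by
    classical
    intro g hg
    have hhom := z.asHomogeneousIdeal.isHomogeneous
    rw [← DirectSum.sum_support_decompose (CohB1.polyGrading n k) g]
    refine Ideal.sum_mem _ fun d _ => ?_
    exact key d _ ((MvPolynomial.mem_homogeneousSubmodule d _).1
      (SetLike.coe_mem (DirectSum.decompose (CohB1.polyGrading n k) g d))) (hhom d hg)
  exact le_antisymm ((ProjectiveSpectrum.as_ideal_le_as_ideal (𝒜 := CohB1.polyGrading n k) z y).1 hle) hyz |>.symm ▸ rfl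

theorem exists_pencil [Infinite k] (A : Set (ProjectiveSpectrum (CohB1.polyGrading n k)))
    (hA : A.Finite)
    (hcl : ∀ y ∈ A, ¬ IsClosed ({y} : Set (ProjectiveSpectrum (CohB1.polyGrading n k)))) :
    ∃ h₁ h₂ : CohB1.polyGrading n k 1, (∀ y ∈ A, h₁ ∉ B n k y) ∧
      ∀ y ∈ A, ∀ a : k, h₂ - a • h₁ ∉ B n k y := by
  classical
  let s₁ : Finset (Submodule k (CohB1.polyGrading n k 1)) := hA.toFinset.image (B n k)
  have hs₁ : ⊤ ∉ s₁ := by
    intro h
    obtain ⟨x, -, hx⟩ := Finset.mem_image.1 h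
    exact B_ne_top n k x hx
  have hne₁ := Subspace.biUnion_ne_univ_of_top_notMem hs₁
  obtain ⟨h₁, hh₁⟩ : ∃ h, h ∉ ⋃ p ∈ s₁, (p : Set (CohB1.polyGrading n k 1)) := by
    by_contra hcon
    push_neg at hcon
    exact hne₁ (Set.eq_univ_of_forall hcon)
  let s₂ : Finset (Submodule k (CohB1.polyGrading n k 1)) :=
    hA.toFinset.image (fun y => B n k y ⊔ Submodule.span k {h₁})
  have hs₂ : ⊤ ∉ s₂ := by
    intro h
    obtain ⟨x, hxA, hx⟩ := Finset.mem_image.1 h
    exact codim_two n k x (hcl x (hA.mem_toFinset.1 hxA)) h₁ hx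
  have hne₂ := Subspace.biUnion_ne_univ_of_top_notMem hs₂
  obtain ⟨h₂, hh₂⟩ : ∃ h, h ∉ ⋃ p ∈ s₂, (p : Set (CohB1.polyGrading n k 1)) := by
    by_contra hcon
    push_neg at hcon
    exact hne₂ (Set.eq_univ_of_forall hcon)
  refine ⟨h₁, h₂, fun y hy hmem => ?_, fun y hy a hmem => ?_⟩
  · exact hh₁ (Set.mem_biUnion (Finset.mem_image_of_mem (B n k) (hA.mem_toFinset.2 hy)) hmem)
  · apply hh₂
    refine Set.mem_biUnion (Finset.mem_image_of_mem _ (hA.mem_toFinset.2 hy)) ?_
    have : h₂ = (h₂ - a • h₁) + a • h₁ := by rw [sub_add_cancel]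
    rw [SetLike.mem_coe, this]
    exact Submodule.add_mem_sup hmem (Submodule.smul_mem _ a (Submodule.mem_span_singleton_self h₁))

end Groth.Agent.Lib.helper20.KleimanAlg
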