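import Mathlib
import Groth.Agent.Lib.Helper20.MumfordUnif1
import Groth.Agent.Lib.Helper20.ProjH0
import Groth.Agent.Lib.Helper11.ProjFormulaA
import Groth.Agent.Lib.Helper11.TensorEpi
import Groth.Prelude.Def_Formal
import Groth.Prelude.Def_KLin

/-!
# Linearity of `h ↦ (h : F(-1) ⟶ F)` in the linear form `h` (helper20)

* `mulL_add`, `mulL_smul`, `hF_add`, `hF_smul`.
-/

set_option autoImplicit false
universe u

open CategoryTheory CategoryTheory.Limits AlgebraicGeometry Opposite TopologicalSpace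

namespace Groth.Agent.Lib.helper20.KleimanH0

open Groth.Agent.Lib.Helper20.ProjMulHom Groth.Agent.Lib.Helper20.MumfordUnif
  Groth.Agent.Lib.Lead.ModTensor Groth.Agent.Lib.Helper20.TensorEquiv
  Groth.Agent.Lib.Helper20.TwistEquivPn
  Groth.Agent.Lib.helper28.TwistFree

noncomputable section

variable (n : ℕ) (k : Type u) [Field k]

lemma mkOne_add {R A : Type u} [CommRing R] [CommRing A] [Algebra R A] (𝒜 : ℕ → Submodule R A)
    [GradedAlgebra 𝒜] (f g : A) (x : ProjectiveSpectrum 𝒜) :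
    mkOne 𝒜 (f + g) x = mkOne 𝒜 f x + mkOne 𝒜 g x := by
  unfold mkOne
  rw [Localization.add_mk_self]

lemma mulHom_add {R A : Type u} [CommRing R] [CommRing A] [Algebra R A] (𝒜 : ℕ → Submodule R A)
    [GradedAlgebra 𝒜] {a b : ℤ} {d : ℕ} (e : a + (d : ℤ) = b) (f g : 𝒜 d) :
    mulHom 𝒜 e (f + g) = mulHom 𝒜 e f + mulHom 𝒜 e g := by
  apply SheafOfModules.hom_ext
  apply PresheafOfModules.hom_ext
  intro W
  apply ModuleCat.hom_ext
  apply LinearMap.ext
  intro σ
  change mulSec 𝒜 e (f + g) W.unop σ = mulSec 𝒜 e f W.unop σ + mulSec 𝒜 e g W.unop σ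
  refine sectN_ext' 𝒜 _ _ fun x => ?_
  have e' : ∀ (u v : Twist.sectN (𝒜 := 𝒜) b (op W.unop)),
      (((u + v).1 x : Twist.twistAt 𝒜 b x.1) : Twist.Loc 𝒜 x.1) =
        ((u.1 x : Twist.twistAt 𝒜 b x.1) : Twist.Loc 𝒜 x.1) +
          ((v.1 x : Twist.twistAt 𝒜 b x.1) : Twist.Loc 𝒜 x.1) := fun _ _ => rfl
  rw [e', mulSec_val, mulSec_val, mulSec_val]
  change _ * mkOne 𝒜 (f.1 + g.1) x.1 = _
  rw [mkOne_add, mul_add]

lemma mulL_add (h h' : CohB1.polyGrading n k 1) :
    mulL n k (h + h') = mulL n k h + mulL n k h' :=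
  mulHom_add (CohB1.polyGrading n k) _ h h'

/-- the global function attached to a scalar -/
abbrev cst (c : k) : Coh.Γtop (CohB1.ProjSpace n k) :=
  Coh.toGlobal (X := CohB1.ProjSpace n k) (CohB1.ProjSpace.toSpec n k) c

lemma mulL_smul (c : k) (h : CohB1.polyGrading n k 1) :
    mulL n k (c • h) = mulL n k h ≫ Formal.smulModΓ (Twist.twistProjSpace n k 0) (cst n k c) := by
  apply SheafOfModules.hom_ext
  apply PresheafOfModules.hom_ext
  intro W
  apply ModuleCat.hom_ext
  apply LinearMap.ext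
  intro σ
  have e0 : (-1 : ℤ) + ((1 : ℕ) : ℤ) = 0 := by norm_num
  change (mulSec (CohB1.polyGrading n k) e0 (c • h) W.unop σ :
      (Twist.twistProjSpace n k 0).val.obj W) =
    (Coh.resTop (CohB1.ProjSpace n k) W (cst n k c)) •
      (show (Twist.twistProjSpace n k 0).val.obj W from
        mulSec (CohB1.polyGrading n k) e0 h W.unop σ)
  refine sectN_ext' (CohB1.polyGrading n k) _ _ fun x => ?_
  have h1 := Twist.coe_smul_val (𝒜 := CohB1.polyGrading n k) 0 x.1
    ((Groth.Agent.Lib.Helper20.ProjH0.gl n k c).1 ⟨x.1, trivial⟩)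
    ((mulSec (CohB1.polyGrading n k) e0 h W.unop σ).1 x)
  refine Eq.trans ?_ h1.symm
  rw [Groth.Agent.Lib.Helper20.ProjH0.gl_val, mulSec_val, mulSec_val]
  have h2 : mkOne (CohB1.polyGrading n k) ((c • h : CohB1.polyGrading n k 1) : MvPolynomial _ k) x.1 =
      Localization.mk (MvPolynomial.C c) 1 * mkOne (CohB1.polyGrading n k) h.1 x.1 := by
    unfold mkOne
    rw [Localization.mk_mul]
    congr 1
    · rw [Submodule.coe_smul, MvPolynomial.smul_eq_C_mul]
    · exact Subtype.ext (one_mul _).symm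
  rw [h2]
  ring

lemma tensorMap_id_smulModΓ {X : Scheme.{u}} (M N : X.Modules) (r : Coh.Γtop X) :
    tensorMap (𝟙 M) (Formal.smulModΓ N r) = Formal.smulModΓ (CohB1.tensorMod M N) r := by
  apply Groth.Agent.Lib.helper12.PullTensor.tensorMod_hom_ext
  intro U a b
  rw [Groth.Agent.Lib.helper12.PullTensor.tensorMap_tmul]
  have h1 : ((Formal.smulModΓ N r).val.app (op U)).hom b = Coh.resTop X (op U) r • b := rfl
  have h2 : ((Formal.smulModΓ (CohB1.tensorMod M N) r).val.app (op U)).hom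
      (SecTwist.tmul M N U a b) = Coh.resTop X (op U) r • SecTwist.tmul M N U a b := rfl
  rw [h1, h2, Groth.Agent.Lib.helper11.TensorEpi.tmul_smul_right]
  rfl

lemma hF_add (F : (CohB1.ProjSpace n k).Modules) (h h' : CohB1.polyGrading n k 1) :
    hF n k F (h + h') = hF n k F h + hF n k F h' := by
  unfold hF
  rw [mulL_add, Groth.Agent.Lib.helper11.ProjFormula.tensorMap_add_right, Preadditive.add_comp]

lemma hF_smul (F : (CohB1.ProjSpace n k).Modules) (c : k) (h : CohB1.polyGrading n k 1) :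
    hF n k F (c • h) = hF n k F h ≫ Formal.smulModΓ F (cst n k c) := by
  unfold hF
  rw [mulL_smul]
  have e : tensorMap (𝟙 F) (mulL n k h ≫ Formal.smulModΓ (Twist.twistProjSpace n k 0) (cst n k c)) =
      tensorMap (𝟙 F) (mulL n k h) ≫
        tensorMap (𝟙 F) (Formal.smulModΓ (Twist.twistProjSpace n k 0) (cst n k c)) := by
    have := tensorMap_comp (𝟙 F) (𝟙 F) (mulL n k h)
      (Formal.smulModΓ (Twist.twistProjSpace n k 0) (cst n k c))
    rwa [Category.comp_id] at this
  rw [e, tensorMap_id_smulModΓ, Category.assoc, Category.assoc, KLin.comp_smulModΓ]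

end

end Groth.Agent.Lib.helper20.KleimanH0
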