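import Mathlib
import Groth.Agent.Lib.Helper20.KleimanH0a
import Groth.Agent.Lib.Helper20.KleimanAlg
import Groth.Agent.Lib.Helper2.ZPt8
import Groth.Agent.Lib.Helper12.DualSupp
import Groth.Agent.Lib.Helper18.HHZero

/-!
# Kleiman's lemma: `h⁰(F(-1)) ≤ h⁰(F) - 1` for `F` without closed associated points (helper20)
-/

set_option autoImplicit false
universe u

open CategoryTheory CategoryTheory.Limits AlgebraicGeometry Opposite TopologicalSpace

namespace Groth.Agent.Lib.helper20.KleimanH0

open Groth.Agent.Lib.Helper20.ProjMulHom Groth.Agent.Lib.Helper20.MumfordUnif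
  Groth.Agent.Lib.Lead.ModTensor Groth.Agent.Lib.Helper20.TensorEquiv
  Groth.Agent.Lib.Helper20.TwistEquivPn Groth.Agent.Lib.helper20.KleimanAlg

noncomputable section

/-- a morphism which is injective on sections over all small opens around `x` is injective on the
stalk at `x` -/
lemma stalkLin_injective {X : Scheme.{u}} {M N : X.Modules} (φ : M ⟶ N) (U : X.Opens)
    (h : ∀ V : X.Opens, V ≤ U → Function.Injective (φ.app V)) (x : X) (hx : x ∈ U) :
    Function.Injective (Groth.Agent.Lib.helper2.ZPt.stalkLin φ x) := by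
  rw [injective_iff_map_eq_zero]
  intro m hm
  obtain ⟨V, hxV, s, rfl⟩ := TopCat.Presheaf.exists_germ_eq M.presheaf m
  have hm' : (TopCat.Presheaf.stalkFunctor Ab x).map φ.mapPresheaf
      (M.presheaf.germ V x hxV s) = 0 := hm
  rw [TopCat.Presheaf.stalkFunctor_map_germ_apply V x hxV φ.mapPresheaf s] at hm'
  have hz : N.presheaf.germ V x hxV (φ.mapPresheaf.app (op V) s) =
      N.presheaf.germ V x hxV 0 := by rw [hm']; exact (map_zero _).symm
  obtain ⟨W, hxW, iU, iV, hW⟩ := TopCat.Presheaf.germ_eq N.presheaf x hxV hxV _ _ hz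
  rw [map_zero] at hW
  -- shrink into U
  let W' : X.Opens := W ⊓ U
  have hxW' : x ∈ W' := ⟨hxW, hx⟩
  let j : W' ⟶ V := homOfLE inf_le_left ≫ iU
  have h0 : φ.app W' (M.presheaf.map j.op s) = 0 := by
    have nat := congrArg (fun f => f.hom s) (φ.mapPresheaf.naturality j.op)
    simp only [Scheme.Modules.mapPresheaf_app] at nat
    refine nat.trans ?_
    change (N.presheaf.map j.op).hom ((φ.app V).hom s) = 0
    have : N.presheaf.map j.op = N.presheaf.map iU.op ≫ N.presheaf.map (homOfLE inf_le_left : W' ⟶ W).op := by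
      rw [← Functor.map_comp]; rfl
    rw [this]
    change (N.presheaf.map (homOfLE inf_le_left : W' ⟶ W).op).hom
      ((N.presheaf.map iU.op).hom ((φ.app V).hom s)) = 0
    have hW' : (N.presheaf.map iU.op).hom ((φ.app V).hom s) = 0 := hW
    rw [hW', map_zero]
  have h1 : M.presheaf.map j.op s = 0 := by
    apply h W' inf_le_right
    rw [h0, map_zero]
  have := TopCat.Presheaf.germ_res_apply M.presheaf j x hxW' s
  rw [← this, h1, map_zero]

variable (n : ℕ) (k : Type u) [Field k]

open Groth.Agent.Lib.helper11.IsoLocus in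
/-- associated points of `F(-1)` are associated points of `F` -/
lemma isAssPoint_of_twist (F : (CohB1.ProjSpace n k).Modules) (x : CohB1.ProjSpace n k)
    (hx : Curv2.IsAssPoint (CohB1.tensorMod F (Twist.twistProjSpace n k (-1))) x) :
    Curv2.IsAssPoint F x := by
  obtain ⟨l, hl⟩ := Groth.Agent.Lib.helper28.TwistPn.exists_X_notMem n k x
  let h : CohB1.polyGrading n k 1 :=
    ⟨MvPolynomial.X l, Groth.Agent.Lib.helper28.TwistPn.X_mem n k l⟩
  have hxU : x ∈ Dh n k h :=
    (ProjectiveSpectrum.mem_basicOpen (CohB1.polyGrading n k) h.1 x).2 hl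
  have hiso := (isIso_restrict_iff_app (hF n k F h) (Dh n k h)).1 (isIso_restrict_hF n k F h)
  have hinj := stalkLin_injective (hF n k F h) (Dh n k h)
    (fun V hV => by
      haveI := hiso V hV
      exact ((ConcreteCategory.isIso_iff_bijective ((hF n k F h).app V)).1 inferInstance).1) x hxU
  exact IsAssociatedPrime.map_of_injective
    (f := Groth.Agent.Lib.helper2.ZPt.stalkLin (hF n k F h) x)
    (show IsAssociatedPrime _ ((CohB1.tensorMod F (Twist.twistProjSpace n k (-1))).presheaf.stalk x)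
      from hx) hinj

/-- the map on `H⁰` induced by the linear form `h` -/
def μ (F : (CohB1.ProjSpace n k).Modules) (h : CohB1.polyGrading n k 1) :
    Coh.HH (CohB1.ProjSpace n k) (CohB1.tensorMod F (Twist.twistProjSpace n k (-1))) 0 →ₗ[k]
      Coh.HH (CohB1.ProjSpace n k) F 0 :=
  Groth.Agent.Lib.Helper18.HH.mapOver k (hF n k F h) 0

lemma μ_apply (F : (CohB1.ProjSpace n k).Modules) (h : CohB1.polyGrading n k 1)
    (v : Coh.HH (CohB1.ProjSpace n k) (CohB1.tensorMod F (Twist.twistProjSpace n k (-1))) 0) :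
    μ n k F h v = Groth.Agent.Lib.Helper18.HH.map (hF n k F h) 0 v := rfl

lemma map_smulModΓ {X : Scheme.{u}} (M : X.Modules) (r : Coh.Γtop X) (i : ℕ) (v : Coh.HH X M i) :
    Groth.Agent.Lib.Helper18.HH.map (Formal.smulModΓ M r) i v = r • v := rfl

lemma μ_sub_smul (F : (CohB1.ProjSpace n k).Modules) (h₁ h₂ : CohB1.polyGrading n k 1) (a : k)
    (v : Coh.HH (CohB1.ProjSpace n k) (CohB1.tensorMod F (Twist.twistProjSpace n k (-1))) 0) :
    μ n k F (h₂ - a • h₁) v = μ n k F h₂ v - a • μ n k F h₁ v := by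
  have e : h₂ - a • h₁ = h₂ + (-a) • h₁ := by module
  rw [μ_apply, e, hF_add, hF_smul, Groth.Agent.Lib.Helper18.HH.map_add, LinearMap.add_apply,
    Groth.Agent.Lib.Helper18.HH.map_comp_apply, map_smulModΓ, ← μ_apply, ← μ_apply]
  have : cst n k (-a) • μ n k F h₁ v = (-a) • μ n k F h₁ v := rfl
  rw [this, neg_smul, sub_eq_add_neg]

lemma μ_injective_of_mono (F : (CohB1.ProjSpace n k).Modules) (h : CohB1.polyGrading n k 1)
    [Mono (hF n k F h)] : Function.Injective (μ n k F h) := by
  rw [injective_iff_map_eq_zero]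
  intro v hv
  have h1 := Groth.Agent.Lib.Helper18.HH.equiv₀_naturality (hF n k F h) v
  rw [← μ_apply, hv, map_zero] at h1
  have h2 := Groth.Agent.Lib.Helper12.DualSupp.app_injective_of_mono (hF n k F h) ⊤
  have h3 : Groth.Agent.Lib.Helper18.HH.equiv₀ _ v = 0 := by
    apply h2
    refine Eq.trans h1.symm ?_
    exact (map_zero ((hF n k F h).app ⊤).hom).symm
  exact (LinearEquiv.map_eq_zero_iff _).1 h3

/-- **Kleiman's lemma.** -/
theorem finrank_H0_twist_neg_one [IsAlgClosed k] (F : (CohB1.ProjSpace n k).Modules)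
    (hFc : Coh.IsCoh F)
    (hass : ∀ x : CohB1.ProjSpace n k, Curv2.IsAssPoint F x →
      ¬ IsClosed ({x} : Set (CohB1.ProjSpace n k)))
    (h0 : 1 ≤ Module.finrank k (Coh.HH (CohB1.ProjSpace n k) F 0)) :
    Module.finrank k (Coh.HH (CohB1.ProjSpace n k)
        (CohB1.tensorMod F (Twist.twistProjSpace n k (-1))) 0) + 1 ≤
      Module.finrank k (Coh.HH (CohB1.ProjSpace n k) F 0) := by
  haveI : F.IsQuasicoherent := hFc.1
  haveI : IsLocallyNoetherian (CohB1.ProjSpace n k) :=
    Groth.Agent.Lib.Lead.SerreFin.isLocallyNoetherian_projSpace n k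
  set F1 := CohB1.tensorMod F (Twist.twistProjSpace n k (-1)) with hF1def
  have hF1 : Coh.IsCoh F1 := Groth.Agent.Lib.helper20.CMGG.isCoh_twist hFc (-1)
  haveI fin0 : Module.Finite k (Coh.HH (CohB1.ProjSpace n k) F 0) :=
    Groth.Agent.S0038.result n k F hFc 0
  haveI fin1 : Module.Finite k (Coh.HH (CohB1.ProjSpace n k) F1 0) :=
    Groth.Agent.S0038.result n k F1 hF1 0
  have hcomp : IsCompact ((⊤ : (CohB1.ProjSpace n k).Opens) : Set (CohB1.ProjSpace n k)) := by
    simpa using isCompact_univ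
  have finA := Groth.Agent.S1576.result _ F1 hF1 ⊤ hcomp
  set A : Set (ProjectiveSpectrum (CohB1.polyGrading n k)) :=
    {x | Curv2.IsAssPoint F1 (x : CohB1.ProjSpace n k)} with hAdef
  have hA : A.Finite := finA.subset (fun x hx => ⟨trivial, hx⟩)
  have hcl : ∀ y ∈ A, ¬ IsClosed ({y} : Set (ProjectiveSpectrum (CohB1.polyGrading n k))) :=
    fun y hy => hass y (isAssPoint_of_twist n k F y hy)
  obtain ⟨h₁, h₂, hg1, hg2⟩ := exists_pencil n k A hA hcl
  -- good forms give monomorphisms
  have hgood : ∀ h : CohB1.polyGrading n k 1, (∀ y ∈ A, h ∉ B n k y) → Mono (hF n k F h) := by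
    intro h hh
    apply mono_hF n k F h
    intro x hx
    exact (ProjectiveSpectrum.mem_basicOpen (CohB1.polyGrading n k) h.1 x).2 (hh x hx)
  haveI m1 : Mono (hF n k F h₁) := hgood h₁ hg1
  have inj1 := μ_injective_of_mono n k F h₁
  by_contra hlt
  push_neg at hlt
  have hle : Module.finrank k (Coh.HH (CohB1.ProjSpace n k) F 0) ≤
      Module.finrank k (Coh.HH (CohB1.ProjSpace n k) F1 0) := by omega
  have hle' := LinearMap.finrank_le_finrank_of_injective inj1
  have heq : Module.finrank k (Coh.HH (CohB1.ProjSpace n k) F1 0) =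
      Module.finrank k (Coh.HH (CohB1.ProjSpace n k) F 0) := le_antisymm hle' hle
  have surj1 : Function.Surjective (μ n k F h₁) :=
    (LinearMap.injective_iff_surjective_of_finrank_eq_finrank heq).1 inj1
  let e := LinearEquiv.ofBijective (μ n k F h₁) ⟨inj1, surj1⟩
  let T : Module.End k (Coh.HH (CohB1.ProjSpace n k) F1 0) :=
    e.symm.toLinearMap ∘ₗ μ n k F h₂
  haveI : Nontrivial (Coh.HH (CohB1.ProjSpace n k) F1 0) :=
    Module.nontrivial_of_finrank_pos (R := k) (by omega)
  obtain ⟨a, ha⟩ := Module.End.exists_eigenvalue T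
  obtain ⟨v, hv⟩ := ha.exists_hasEigenvector
  have hTv : T v = a • v := hv.apply_eq_smul
  have h2v : μ n k F h₂ v = a • μ n k F h₁ v := by
    have : e (T v) = μ n k F h₂ v := by
      change e (e.symm (μ n k F h₂ v)) = _
      rw [LinearEquiv.apply_symm_apply]
    rw [← this, hTv, map_smul]
    rfl
  haveI m2 : Mono (hF n k F (h₂ - a • h₁)) := hgood _ (fun y hy => hg2 y hy a)
  have inj2 := μ_injective_of_mono n k F (h₂ - a • h₁)
  have hz : μ n k F (h₂ - a • h₁) v = 0 := by
    rw [μ_sub_smul, h2v, sub_self]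
  exact hv.2 (inj2 (hz.trans (map_zero _).symm))

end

end Groth.Agent.Lib.helper20.KleimanH0
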