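import Mathlib
import Groth.Agent.Lib.Helper20.KleimanH0b
import Groth.Agent.Lib.Helper18.HHSum

/-!
# `H⁰(F(-n)) = 0` for `n ≥ h⁰(F)` when `F` has no closed associated points (helper20)
-/

set_option autoImplicit false
universe u

open CategoryTheory CategoryTheory.Limits AlgebraicGeometry Opposite TopologicalSpace

namespace Groth.Agent.Lib.helper20.KleimanH0

open Groth.Agent.Lib.Helper20.ProjMulHom Groth.Agent.Lib.Helper20.MumfordUnif
  Groth.Agent.Lib.Lead.ModTensor Groth.Agent.Lib.Helper20.TensorEquiv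
  Groth.Agent.Lib.Helper20.TwistEquivPn Groth.Agent.Lib.helper20.KleimanAlg

noncomputable section

lemma isAssPoint_of_iso {X : Scheme.{u}} {M N : X.Modules} (e : M ≅ N) (x : X)
    (h : Curv2.IsAssPoint M x) : Curv2.IsAssPoint N x := by
  refine IsAssociatedPrime.map_of_injective
    (f := Groth.Agent.Lib.helper2.ZPt.stalkLin e.hom x)
    (show IsAssociatedPrime _ (M.presheaf.stalk x) from h)
    (stalkLin_injective e.hom ⊤ (fun V _ => ?_) x trivial)
  have hl : Function.LeftInverse (e.inv.app V) (e.hom.app V) := by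
    intro s
    have := congrArg (fun f => (Scheme.Modules.Hom.app f V) s) e.hom_inv_id
    exact this
  exact hl.injective

variable (n : ℕ) (k : Type u) [Field k]

lemma isAssPoint_of_twist_neg (F : (CohB1.ProjSpace n k).Modules) (j : ℕ)
    (x : CohB1.ProjSpace n k)
    (h : Curv2.IsAssPoint (CohB1.tensorMod F (Twist.twistProjSpace n k (-(j : ℤ)))) x) :
    Curv2.IsAssPoint F x := by
  induction j with
  | zero =>
    have e0 : (-((0 : ℕ) : ℤ)) = 0 := by norm_num
    rw [e0] at h
    exact isAssPoint_of_iso (twistZeroIso n k F) x h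
  | succ j ih =>
    have e1 : (-((j + 1 : ℕ) : ℤ)) = -(j : ℤ) + -1 := by push_cast; ring
    rw [e1] at h
    exact ih (isAssPoint_of_twist n k _ x
      (isAssPoint_of_iso (twistTwistIso n k F (-(j : ℤ)) (-1)).symm x h))

/-- weak form: `h⁰(F(-1)) ≤ h⁰(F)` -/
theorem finrank_H0_twist_neg_one_le [Infinite k] (F : (CohB1.ProjSpace n k).Modules)
    (hFc : Coh.IsCoh F)
    (hass : ∀ x : CohB1.ProjSpace n k, Curv2.IsAssPoint F x →
      ¬ IsClosed ({x} : Set (CohB1.ProjSpace n k))) :
    Module.finrank k (Coh.HH (CohB1.ProjSpace n k)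
        (CohB1.tensorMod F (Twist.twistProjSpace n k (-1))) 0) ≤
      Module.finrank k (Coh.HH (CohB1.ProjSpace n k) F 0) := by
  haveI : F.IsQuasicoherent := hFc.1
  haveI : IsLocallyNoetherian (CohB1.ProjSpace n k) :=
    Groth.Agent.Lib.Lead.SerreFin.isLocallyNoetherian_projSpace n k
  set F1 := CohB1.tensorMod F (Twist.twistProjSpace n k (-1)) with hF1def
  have hF1 : Coh.IsCoh F1 := Groth.Agent.Lib.helper20.CMGG.isCoh_twist hFc (-1)
  haveI fin0 : Module.Finite k (Coh.HH (CohB1.ProjSpace n k) F 0) :=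
    Groth.Agent.S0038.result n k F hFc 0
  have hcomp : IsCompact ((⊤ : (CohB1.ProjSpace n k).Opens) : Set (CohB1.ProjSpace n k)) := by
    simpa using isCompact_univ
  have finA := Groth.Agent.S1576.result _ F1 hF1 ⊤ hcomp
  set A : Set (ProjectiveSpectrum (CohB1.polyGrading n k)) :=
    {x | Curv2.IsAssPoint F1 (x : CohB1.ProjSpace n k)} with hAdef
  have hA : A.Finite := finA.subset (fun x hx => ⟨trivial, hx⟩)
  have hcl : ∀ y ∈ A, ¬ IsClosed ({y} : Set (ProjectiveSpectrum (CohB1.polyGrading n k))) :=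
    fun y hy => hass y (isAssPoint_of_twist n k F y hy)
  obtain ⟨h₁, h₂, hg1, hg2⟩ := exists_pencil n k A hA hcl
  haveI m1 : Mono (hF n k F h₁) := by
    apply mono_hF n k F h₁
    intro x hx
    exact (ProjectiveSpectrum.mem_basicOpen (CohB1.polyGrading n k) h₁.1 x).2 (hg1 x hx)
  exact LinearMap.finrank_le_finrank_of_injective (μ_injective_of_mono n k F h₁)

theorem finrank_H0_twist_neg_le [IsAlgClosed k] (F : (CohB1.ProjSpace n k).Modules)
    (hFc : Coh.IsCoh F)
    (hass : ∀ x : CohB1.ProjSpace n k, Curv2.IsAssPoint F x →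
      ¬ IsClosed ({x} : Set (CohB1.ProjSpace n k))) (j : ℕ) :
    Module.finrank k (Coh.HH (CohB1.ProjSpace n k)
        (CohB1.tensorMod F (Twist.twistProjSpace n k (-(j : ℤ)))) 0) ≤
      Module.finrank k (Coh.HH (CohB1.ProjSpace n k) F 0) - j := by
  induction j with
  | zero =>
    have e0 : (-((0 : ℕ) : ℤ)) = 0 := by norm_num
    rw [e0, Nat.sub_zero]
    exact le_of_eq (LinearEquiv.finrank_eq
      (Groth.Agent.Lib.Helper18.HH.isoEquivOver k (twistZeroIso n k F) 0))
  | succ j ih =>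
    set G := CohB1.tensorMod F (Twist.twistProjSpace n k (-(j : ℤ))) with hG
    have hGc : Coh.IsCoh G := Groth.Agent.Lib.helper20.CMGG.isCoh_twist hFc _
    have hassG : ∀ x : CohB1.ProjSpace n k, Curv2.IsAssPoint G x →
        ¬ IsClosed ({x} : Set (CohB1.ProjSpace n k)) :=
      fun x hx => hass x (isAssPoint_of_twist_neg n k F j x hx)
    have e1 : (-((j + 1 : ℕ) : ℤ)) = -(j : ℤ) + -1 := by push_cast; ring
    rw [e1]
    have heq := LinearEquiv.finrank_eq
      (Groth.Agent.Lib.Helper18.HH.isoEquivOver k (twistTwistIso n k F (-(j : ℤ)) (-1)) 0)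
    rw [← heq]
    change Module.finrank k (Coh.HH (CohB1.ProjSpace n k)
      (CohB1.tensorMod G (Twist.twistProjSpace n k (-1))) 0) ≤ _
    by_cases hpos : 1 ≤ Module.finrank k (Coh.HH (CohB1.ProjSpace n k) G 0)
    · have := finrank_H0_twist_neg_one n k G hGc hassG hpos
      omega
    · have := finrank_H0_twist_neg_one_le n k G hGc hassG
      omega

theorem subsingleton_H0_twist_neg [IsAlgClosed k] (F : (CohB1.ProjSpace n k).Modules)
    (hFc : Coh.IsCoh F)
    (hass : ∀ x : CohB1.ProjSpace n k, Curv2.IsAssPoint F x →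
      ¬ IsClosed ({x} : Set (CohB1.ProjSpace n k))) (j : ℕ)
    (hj : Module.finrank k (Coh.HH (CohB1.ProjSpace n k) F 0) ≤ j) :
    Subsingleton (Coh.HH (CohB1.ProjSpace n k)
      (CohB1.tensorMod F (Twist.twistProjSpace n k (-(j : ℤ)))) 0) := by
  have h1 := finrank_H0_twist_neg_le n k F hFc hass j
  have h2 : Module.finrank k (Coh.HH (CohB1.ProjSpace n k)
      (CohB1.tensorMod F (Twist.twistProjSpace n k (-(j : ℤ)))) 0) = 0 := by omega
  haveI : Module.Finite k (Coh.HH (CohB1.ProjSpace n k)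
      (CohB1.tensorMod F (Twist.twistProjSpace n k (-(j : ℤ)))) 0) :=
    Groth.Agent.S0038.result n k _ (Groth.Agent.Lib.helper20.CMGG.isCoh_twist hFc _) 0
  exact Module.finrank_zero_iff.1 h2

end

end Groth.Agent.Lib.helper20.KleimanH0
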