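import Mathlib

/-!
# The binomial identity behind `χ(O(m))` on `P^n` (helper20)

`cc n d = (n + d).choose n` for `d ≥ 0` and `0` for `d < 0`.
`sum_cc`: `∑_{j ≤ n+1} (-1)^j (n+1).choose j * cc n (m - j) = 0` for `m ≥ 1`.
`sum_cc'`: the same sum reindexed, `∑_{j ≤ n+1} (-1)^j (n+1).choose j * cc n (m - (n+1) + j) = 0`.
-/

set_option autoImplicit false

namespace Groth.Agent.Lib.Helper20.KosNum

open Finset

/-- `(n + d).choose n` for `d ≥ 0`, zero for `d < 0` -/
def cc (n : ℕ) (d : ℤ) : ℤ := if 0 ≤ d then ((n + d.toNat).choose n : ℤ) else 0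

lemma cc_of_nonneg (n : ℕ) (d : ℕ) : cc n (d : ℤ) = ((n + d).choose n : ℤ) := by
  unfold cc
  rw [if_pos (Int.natCast_nonneg d), Int.toNat_natCast]

lemma cc_of_neg (n : ℕ) (d : ℤ) (hd : d < 0) : cc n d = 0 := by
  unfold cc
  rw [if_neg (by omega)]

lemma cc_zero (n : ℕ) : cc n 0 = 1 := by
  have := cc_of_nonneg n 0
  simpa using this

lemma coeff_one_sub_X_pow (N k : ℕ) :
    ((1 - Polynomial.X : Polynomial ℤ) ^ N).coeff k = (-1) ^ k * (N.choose k : ℤ) := by
  have h1 : (1 - Polynomial.X : Polynomial ℤ) = Polynomial.C (-1) * (Polynomial.X + Polynomial.C (-1)) := by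
    simp only [map_neg, map_one]; ring
  rw [h1, mul_pow, ← Polynomial.C_pow, Polynomial.coeff_C_mul, Polynomial.coeff_X_add_C_pow]
  by_cases hk : k ≤ N
  · have h2 : ((-1 : ℤ)) ^ N * ((-1) ^ (N - k) * (N.choose k : ℤ)) =
        ((-1) ^ N * (-1) ^ (N - k)) * (N.choose k : ℤ) := by ring
    rw [h2, ← pow_add]
    congr 1
    have h3 : N + (N - k) = k + 2 * (N - k) := by omega
    rw [h3, pow_add, pow_mul]
    simp
  · rw [Nat.choose_eq_zero_of_lt (by omega)]
    simp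

theorem sum_range_eq_zero (n m : ℕ) (hm : 1 ≤ m) :
    ∑ j ∈ range (m + 1), (-1 : ℤ) ^ j * ((n + 1).choose j : ℤ) * ((n + (m - j)).choose n : ℤ) = 0 := by
  have key := PowerSeries.mk_add_choose_mul_one_sub_pow_eq_one ℤ n
  have h1 : ((1 - PowerSeries.X : PowerSeries ℤ)) ^ (n + 1) =
      (((1 - Polynomial.X : Polynomial ℤ) ^ (n + 1) : Polynomial ℤ) : PowerSeries ℤ) := by
    rw [Polynomial.coe_pow, Polynomial.coe_sub, Polynomial.coe_one, Polynomial.coe_X]
  rw [h1] at key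
  have h2 := congrArg (PowerSeries.coeff m) key
  rw [PowerSeries.coeff_mul, PowerSeries.coeff_one, if_neg (by omega)] at h2
  rw [Finset.Nat.sum_antidiagonal_eq_sum_range_succ
    (fun i j => PowerSeries.coeff i (PowerSeries.mk fun k => ((n + k).choose n : ℤ)) *
      PowerSeries.coeff j (((1 - Polynomial.X : Polynomial ℤ) ^ (n + 1) : Polynomial ℤ) :
        PowerSeries ℤ))] at h2
  rw [← Finset.sum_range_reflect] at h2
  rw [← h2]
  refine Finset.sum_congr rfl fun j hj => ?_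
  have hj' : j ≤ m := by
    have := Finset.mem_range.mp hj; omega
  have e1 : m + 1 - 1 - j = m - j := by omega
  have e2 : m - (m - j) = j := by omega
  rw [e1, e2, PowerSeries.coeff_mk, Polynomial.coeff_coe, coeff_one_sub_X_pow]
  ring

/-- the identity in the form `∑_{j ≤ n+1} (-1)^j (n+1).choose j * cc n (m - j) = 0` -/
theorem sum_cc (n m : ℕ) (hm : 1 ≤ m) :
    ∑ j ∈ range (n + 2), (-1 : ℤ) ^ j * ((n + 1).choose j : ℤ) * cc n ((m : ℤ) - j) = 0 := by
  have h0 := sum_range_eq_zero n m hm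
  -- both sums equal the sum over `range (max (m + 1) (n + 2))`
  have hA : ∑ j ∈ range (m + 1), (-1 : ℤ) ^ j * ((n + 1).choose j : ℤ) *
      ((n + (m - j)).choose n : ℤ) =
      ∑ j ∈ range (max (m + 1) (n + 2)), (-1 : ℤ) ^ j * ((n + 1).choose j : ℤ) *
        cc n ((m : ℤ) - j) := by
    rw [← Finset.sum_subset (s₁ := range (m + 1)) (s₂ := range (max (m + 1) (n + 2)))]
    · refine Finset.sum_congr rfl fun j hj => ?_
      have hj' : j ≤ m := by have := Finset.mem_range.mp hj; omega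
      have e : (m : ℤ) - j = ((m - j : ℕ) : ℤ) := by omega
      rw [e, cc_of_nonneg]
    · intro j hj
      rw [Finset.mem_range] at hj ⊢
      exact lt_of_lt_of_le hj (le_max_left _ _)
    · intro j _ hj
      rw [Finset.mem_range, not_lt] at hj
      rw [cc_of_neg n _ (by omega), mul_zero]
  have hB : ∑ j ∈ range (n + 2), (-1 : ℤ) ^ j * ((n + 1).choose j : ℤ) * cc n ((m : ℤ) - j) =
      ∑ j ∈ range (max (m + 1) (n + 2)), (-1 : ℤ) ^ j * ((n + 1).choose j : ℤ) *
        cc n ((m : ℤ) - j) := by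
    refine Finset.sum_subset ?_ ?_
    · intro j hj
      rw [Finset.mem_range] at hj ⊢
      exact lt_of_lt_of_le hj (le_max_right _ _)
    · intro j _ hj
      rw [Finset.mem_range, not_lt] at hj
      rw [Nat.choose_eq_zero_of_lt (by omega)]
      simp
  rw [hB, ← hA, h0]

/-- reindexed form -/
theorem sum_cc' (n m : ℕ) (hm : 1 ≤ m) :
    ∑ j ∈ range (n + 2), (-1 : ℤ) ^ j * ((n + 1).choose j : ℤ) *
      cc n ((m : ℤ) - ((n + 1 : ℕ) : ℤ) + j) = 0 := by
  have h := sum_cc n m hm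
  rw [← Finset.sum_range_reflect] at h
  have hs : (-1 : ℤ) ^ (n + 1) * ∑ j ∈ range (n + 2), (-1 : ℤ) ^ j * ((n + 1).choose j : ℤ) *
      cc n ((m : ℤ) - ((n + 1 : ℕ) : ℤ) + j) = 0 := by
    rw [Finset.mul_sum, ← h]
    refine Finset.sum_congr rfl fun j hj => ?_
    have hj' : j ≤ n + 1 := by have := Finset.mem_range.mp hj; omega
    have e1 : n + 2 - 1 - j = n + 1 - j := by omega
    have e2 : ((n + 1 - j : ℕ) : ℤ) = ((n + 1 : ℕ) : ℤ) - j := by omega
    rw [e1, Nat.choose_symm hj', e2]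
    have e3 : (m : ℤ) - (((n + 1 : ℕ) : ℤ) - j) = (m : ℤ) - ((n + 1 : ℕ) : ℤ) + j := by ring
    rw [e3]
    have e4 : (-1 : ℤ) ^ (n + 1) * ((-1) ^ j * ((n + 1).choose j : ℤ) *
        cc n ((m : ℤ) - ((n + 1 : ℕ) : ℤ) + j)) =
        ((-1) ^ (n + 1) * (-1) ^ j) * ((n + 1).choose j : ℤ) *
          cc n ((m : ℤ) - ((n + 1 : ℕ) : ℤ) + j) := by ring
    rw [e4]
    congr 2
    have e5 : n + 1 = (n + 1 - j) + j := by omega
    calc (-1 : ℤ) ^ (n + 1) * (-1) ^ j = (-1) ^ ((n + 1 - j) + j) * (-1) ^ j := by rw [← e5]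
      _ = (-1) ^ (n + 1 - j) * ((-1) ^ j * (-1) ^ j) := by rw [pow_add]; ring
      _ = (-1) ^ (n + 1 - j) := by rw [← pow_add, ← two_mul, pow_mul]; simp
  rcases mul_eq_zero.mp hs with h1 | h1
  · exact absurd h1 (pow_ne_zero _ (by norm_num))
  · exact h1

end Groth.Agent.Lib.Helper20.KosNum
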