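import Groth.Prelude.Def_KRR
import Groth.Agent.Lib.Helper20.KosPn
import Groth.Agent.Lib.Helper20.KosCount
import Groth.Agent.Lib.Helper12.PnLocal1
import Groth.Agent.Lib.Helper12.PullTensor

/-!
# The Koszul complex on `P^n_Y` (helper20)

For any scheme `Y` and any `O`-module `F` on `P = P^n_Y`:
* `mulXY n Y j d : O_P(d) ⟶ O_P(d+1)`: multiplication by the coordinate `x_j` (pulled back from `P^n_ℤ`);
* `grOpY n Y F`: the twists `F(d) = KRR.twF n Y d F` with the coordinate multiplications;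
* `kosY_exactAt`: the Koszul complex `0 → F(a) → F(a+1)^{n+1} → ⋯ → F(a+n+1) → 0` is exact;
* `kosY_X_iso`: its terms are coproducts of `(n+1).choose j` copies of `F(a + j)`.
-/

set_option autoImplicit false
universe u

open CategoryTheory CategoryTheory.Limits AlgebraicGeometry Opposite TopologicalSpace

namespace Groth.Agent.Lib.Helper20.KosPY

open Groth.Agent.Lib.helper20.KosCone Groth.Agent.Lib.helper20.KosPn
open Groth.Agent.Lib.Lead.ModTensor Groth.Agent.Lib.helper12.PnLocal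
open Groth.Agent.Lib.helper11.IsoLocus Groth.Agent.Lib.helper12.PullTensor

noncomputable section

variable (n : ℕ) (Y : Scheme.{u})

/-- the projection `P^n_Y ⟶ P^n_ℤ` -/
def q1 : KRR.PY n Y ⟶ CohB1.ProjSpace n (ULift.{u} ℤ) :=
  pullback.fst (CohB1.ProjSpace.toSpec n (ULift.{u} ℤ)) (specULiftZIsTerminal.from Y)

lemma twistOver_eq (d : ℤ) : Twist.twistOver n Y d =
    (Scheme.Modules.pullback (q1 n Y)).obj (Twist.twistProjSpace n (ULift.{u} ℤ) d) := rfl

/-- multiplication by the coordinate `x_j` on `P^n_Y` -/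
def mulXY (j : ℕ) (d : ℤ) : Twist.twistOver n Y d ⟶ Twist.twistOver n Y (d + 1) :=
  (Scheme.Modules.pullback (q1 n Y)).map (mulX n (ULift.{u} ℤ) j d)

lemma mulXY_comm (i j : ℕ) (d : ℤ) :
    mulXY n Y i d ≫ mulXY n Y j (d + 1) = mulXY n Y j d ≫ mulXY n Y i (d + 1) := by
  have h := congrArg (Scheme.Modules.pullback (q1 n Y)).map (mulX_comm n (ULift.{u} ℤ) i j d)
  rw [Functor.map_comp, Functor.map_comp] at h
  exact h

/-- the twists of `F` with the coordinate multiplications -/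
def grOpY (F : (KRR.PY n Y).Modules) : GrOp (KRR.PY n Y).Modules where
  M d := KRR.twF n Y d F
  x j d := tensorMap (mulXY n Y j d) (𝟙 F)
  comm i j d := by
    have h : (𝟙 F : F ⟶ F) = 𝟙 F ≫ 𝟙 F := (Category.comp_id _).symm
    calc tensorMap (mulXY n Y i d) (𝟙 F) ≫ tensorMap (mulXY n Y j (d + 1)) (𝟙 F)
        = tensorMap (mulXY n Y i d ≫ mulXY n Y j (d + 1)) (𝟙 F ≫ 𝟙 F) :=
          (tensorMap_comp _ _ _ _).symm
      _ = tensorMap (mulXY n Y j d ≫ mulXY n Y i (d + 1)) (𝟙 F ≫ 𝟙 F) := by rw [mulXY_comm]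
      _ = _ := tensorMap_comp _ _ _ _

/-- the preimage of the standard open `D_+(x_l)` -/
def UbY (l : Fin (n + 1)) : (KRR.PY n Y).Opens := q1 n Y ⁻¹ᵁ Ub n (ULift.{u} ℤ) l

lemma iSup_UbY : ⨆ l, UbY n Y l = ⊤ := by
  unfold UbY
  rw [← Scheme.Hom.preimage_iSup, iSup_Ub]
  rfl

lemma UbY_le_isoLocus (l : Fin (n + 1)) (d : ℤ) : UbY n Y l ≤ isoLocus (mulXY n Y l.1 d) := by
  refine le_trans ?_ (preimage_isoLocus_le (q1 n Y) (mulX n (ULift.{u} ℤ) l.1 d))
  apply Scheme.Hom.preimage_mono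
  rw [le_isoLocus_iff]
  exact isIso_restrict_mulX n (ULift.{u} ℤ) l d

lemma isIso_restrict_grOpY_x (F : (KRR.PY n Y).Modules) (l : Fin (n + 1)) (d : ℤ) :
    IsIso ((Scheme.Modules.restrictFunctor (UbY n Y l).ι).map ((grOpY n Y F).x l.1 d)) := by
  rw [← le_isoLocus_iff]
  refine le_trans ?_ (isoLocus_inf_le_tensorMap (mulXY n Y l.1 d) (𝟙 F))
  rw [isoLocus_id, inf_top_eq]
  exact UbY_le_isoLocus n Y l d

/-- **The Koszul complex of `F` on `P^n_Y` is exact.** -/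
theorem kosY_exactAt (F : (KRR.PY n Y).Modules) (a i : ℤ) :
    ((kos (grOpY n Y F) (n + 1)).M a).ExactAt i := by
  refine kos_exactAt_of_family (grOpY n Y F) (n + 1)
    (ℬ := fun l => (UbY n Y l).toScheme.Modules)
    (fun l => Scheme.Modules.restrictFunctor (UbY n Y l).ι) ?_ ?_ a i
  · intro Z hZ
    exact isZero_of_cover (UbY n Y) (iSup_UbY n Y) Z hZ
  · intro l d
    exact isIso_restrict_grOpY_x n Y F l d

/-- the terms of the Koszul complex -/
theorem kosY_X_iso (F : (KRR.PY n Y).Modules) (a i : ℤ) (j : ℕ) (hij : i + ((n + 1 : ℕ) : ℤ) = j) :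
    Nonempty (((kos (grOpY n Y F) (n + 1)).M a).X i ≅
      ∐ fun _ : Fin ((n + 1).choose j) => KRR.twF n Y (a + j) F) :=
  kos_X_iso_coprod (grOpY n Y F) (n + 1) a i j hij (a + j) rfl

theorem kosY_isZero (F : (KRR.PY n Y).Modules) (a i : ℤ) (hi : 0 < i ∨ i + ((n + 1 : ℕ) : ℤ) < 0) :
    IsZero (((kos (grOpY n Y F) (n + 1)).M a).X i) :=
  kos_isZero (grOpY n Y F) (n + 1) a i hi

end

end Groth.Agent.Lib.Helper20.KosPY
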