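import Groth.Agent.Lib.Helper20.KosPY1
import Groth.Agent.Lib.Helper20.K0Pn
import Groth.Agent.Lib.Helper20.K0Reg
import Groth.Agent.Lib.Helper20.FibreReg
import Groth.Agent.Lib.Helper16.FLFTensor

/-!
# The Koszul relation in `K₀` of vector bundles on `P^n_Y` (helper20)

* `alt_sum_clSub_eq_zero`: for an exact complex `K` concentrated in degrees `[-m, 0]`, with terms and cycles
  in `Q`: `∑_{j ≤ m} (-1)^j [K^{j-m}] = 0` in `K0sub Q`.
* `isFinLocFree_cycles`: the cycles of an exact bounded-above complex of vector bundles are vector bundles.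
* `isFinLocFree_twF`: `F(d)` is finite locally free when `F` is.
* `koszul_relation`: `∑_{j ≤ n+1} (-1)^j (n+1).choose j • [F(a + j)] = 0` in `Kvb (P^n_Y)`, `Y` locally Noetherian.
-/

set_option autoImplicit false
universe v u

open CategoryTheory CategoryTheory.Limits AlgebraicGeometry Opposite TopologicalSpace

namespace Groth.Agent.Lib.Helper20.KosPY

open Groth.Agent.Lib.helper20.KosCone Groth.Agent.Lib.helper20.KosChase
open Groth.Agent.Lib.helper8.Dev KZero Groth.Agent.Lib.helper20.K0Pn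

noncomputable section

section Abstract

variable {A : Type u} [Category.{v} A] [Abelian A] (Q : ObjectProperty A)
  (hQ0 : ∀ N : A, IsZero N → Q N)

include hQ0 in
theorem alt_sum_clSub_eq_zero (K : CochainComplex A ℤ) (hex : ∀ q, K.ExactAt q)
    (hQX : ∀ q, Q (K.X q)) (hQZ : ∀ q, Q (K.cycles q))
    (m : ℕ) (hlo : ∀ q : ℤ, q + m < 0 → IsZero (K.X q)) (hhi : ∀ q : ℤ, 0 < q → IsZero (K.X q)) :
    ∑ j ∈ Finset.range (m + 1), (-1 : ℤ) ^ j • clSub Q (K.X ((j : ℤ) - m)) = 0 := by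
  have rel : ∀ q, clSub Q (K.X q) = clSub Q (K.cycles q) + clSub Q (K.cycles (q + 1)) := fun q =>
    clSub_rel Q (cyclesSC K q) (cyclesSC_shortExact K q (hex (q + 1))) (hQZ q) (hQX q)
      (hQZ (q + 1))
  let z : ℕ → K0sub Q := fun j => clSub Q (K.cycles ((j : ℤ) - m))
  have hz : ∀ j : ℕ, clSub Q (K.X ((j : ℤ) - m)) = z j + z (j + 1) := by
    intro j
    have h := rel ((j : ℤ) - m)
    have e : ((j : ℤ) - m) + 1 = ((j + 1 : ℕ) : ℤ) - m := by push_cast; ring
    rw [e] at h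
    exact h
  have tel : ∀ N : ℕ, ∑ j ∈ Finset.range N, (-1 : ℤ) ^ j • (z j + z (j + 1)) =
      z 0 - (-1 : ℤ) ^ N • z N := by
    intro N
    induction N with
    | zero => simp
    | succ N ih =>
      rw [Finset.sum_range_succ, ih, pow_succ]
      simp only [smul_add, mul_neg, mul_one, neg_smul]
      abel
  have hz0 : z 0 = 0 := by
    have h := rel (-(m : ℤ) - 1)
    have hX : IsZero (K.X (-(m : ℤ) - 1)) := hlo _ (by omega)
    rw [clSub_zero Q hQ0 _ hX, clSub_zero Q hQ0 _ (isZero_cycles K _ hX), zero_add] at h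
    have e : (-(m : ℤ) - 1) + 1 = ((0 : ℕ) : ℤ) - m := by push_cast; ring
    rw [e] at h
    exact h.symm
  have hzm : z (m + 1) = 0 := by
    have e : (((m + 1 : ℕ) : ℤ) - m) = 1 := by push_cast; ring
    show clSub Q (K.cycles (((m + 1 : ℕ) : ℤ) - m)) = 0
    rw [e]
    exact clSub_zero Q hQ0 _ (isZero_cycles K 1 (hhi 1 one_pos))
  calc ∑ j ∈ Finset.range (m + 1), (-1 : ℤ) ^ j • clSub Q (K.X ((j : ℤ) - m))
      = ∑ j ∈ Finset.range (m + 1), (-1 : ℤ) ^ j • (z j + z (j + 1)) :=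
        Finset.sum_congr rfl fun j _ => by rw [hz j]
    _ = z 0 - (-1 : ℤ) ^ (m + 1) • z (m + 1) := tel (m + 1)
    _ = 0 := by rw [hz0, hzm, smul_zero, sub_zero]

end Abstract

section VB

variable {X : Scheme.{u}} [IsLocallyNoetherian X]

open Groth.Agent.Lib.Helper20.K0Reg

/-- cycles of an exact bounded-above complex of vector bundles are vector bundles -/
theorem isFinLocFree_cycles (K : CochainComplex X.Modules ℤ) (hex : ∀ q, K.ExactAt q)
    (hX : ∀ q, FlatMod.IsFinLocFree (K.X q)) (hi : ℤ) (hhi : ∀ q : ℤ, hi < q → IsZero (K.X q)) :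
    ∀ q, FlatMod.IsFinLocFree (K.cycles q) := by
  have down : ∀ (D : ℕ) (q : ℤ), hi < q + D → FlatMod.IsFinLocFree (K.cycles q) := by
    intro D
    induction D with
    | zero =>
      intro q hq
      exact Groth.Agent.Lib.helper25.FLFKernel.isFinLocFree_of_isZero
        (isZero_cycles K q (hhi q (by simpa using hq)))
    | succ D ih =>
      intro q hq
      exact vb_ker (cyclesSC K q) (cyclesSC_shortExact K q (hex (q + 1))) (hX q)
        (ih (q + 1) (by push_cast at hq; omega))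
  intro q
  exact down (hi - q + 1).toNat q (by omega)

end VB

section Pn

variable (n : ℕ) (Y : Scheme.{u})

theorem isFinLocFree_twistOver (d : ℤ) : FlatMod.IsFinLocFree (Twist.twistOver n Y d) :=
  Groth.Agent.Lib.helper16.FLF.isFinLocFree_of_isInvertible
    (Groth.Agent.Lib.Helper20.FibreReg.isInvertible_twistOver n d)

theorem isFinLocFree_twF {F : (KRR.PY n Y).Modules} (hF : FlatMod.IsFinLocFree F) (d : ℤ) :
    FlatMod.IsFinLocFree (KRR.twF n Y d F) :=
  Groth.Agent.Lib.helper16.FLFTensor.isFinLocFree_tensor (isFinLocFree_twistOver n Y d) hF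

variable [IsLocallyNoetherian Y]

instance : IsLocallyNoetherian (KRR.PY n Y) := by
  haveI : LocallyOfFiniteType (KRR.pr n Y) := by
    haveI : IsProper (KRR.pr n Y) := Groth.Agent.Lib.helper19.ProjSpaceProper.proper_toBase n Y
    infer_instance
  exact LocallyOfFiniteType.isLocallyNoetherian (KRR.pr n Y)

/-- **The Koszul relation** in `K₀` of vector bundles on `P^n_Y` -/
theorem koszul_relation {F : (KRR.PY n Y).Modules} (hF : FlatMod.IsFinLocFree F) (a : ℤ) :
    ∑ j ∈ Finset.range (n + 2), (-1 : ℤ) ^ j •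
      ((n + 1).choose j • KRR.cl (KRR.PY n Y) (KRR.twF n Y (a + j) F)) = 0 := by
  set K := (kos (grOpY n Y F) (n + 1)).M a with hK
  have hQ0 : ∀ N : (KRR.PY n Y).Modules, IsZero N → KRR.vbP (KRR.PY n Y) N :=
    fun N hN => Groth.Agent.Lib.helper25.FLFKernel.isFinLocFree_of_isZero hN
  have hQiso : ∀ M N : (KRR.PY n Y).Modules, (M ≅ N) → KRR.vbP (KRR.PY n Y) M →
      KRR.vbP (KRR.PY n Y) N :=
    fun M N e h => Groth.Agent.Lib.helper16.FLF.isFinLocFree_of_iso e h
  have hQext : ∀ S : ShortComplex (KRR.PY n Y).Modules, S.ShortExact →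
      KRR.vbP (KRR.PY n Y) S.X₁ → KRR.vbP (KRR.PY n Y) S.X₃ → KRR.vbP (KRR.PY n Y) S.X₂ :=
    fun S hS h1 h3 => Groth.Agent.Lib.Helper20.K0Reg.vb_ext S hS h1 h3
  have hex : ∀ q, K.ExactAt q := fun q => kosY_exactAt n Y F a q
  have hterm : ∀ (i : ℤ) (j : ℕ), i + ((n + 1 : ℕ) : ℤ) = j →
      KRR.vbP (KRR.PY n Y) (K.X i) ∧ KRR.cl (KRR.PY n Y) (K.X i) =
        (n + 1).choose j • KRR.cl (KRR.PY n Y) (KRR.twF n Y (a + j) F) := by
    intro i j hij
    obtain ⟨e⟩ := kosY_X_iso n Y F a i j hij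
    obtain ⟨h1, h2⟩ := clSub_sigma (KRR.vbP (KRR.PY n Y)) hQ0 hQiso hQext ((n + 1).choose j)
      (fun _ => KRR.twF n Y (a + j) F) (fun _ => isFinLocFree_twF n Y hF _)
    refine ⟨hQiso _ _ e.symm h1, ?_⟩
    rw [KRR.cl, clSub_iso (KRR.vbP (KRR.PY n Y)) hQ0 hQiso e, h2, Finset.sum_const,
      Finset.card_univ, Fintype.card_fin]
  have hX : ∀ q, FlatMod.IsFinLocFree (K.X q) := by
    intro q
    by_cases h1 : 0 < q ∨ q + ((n + 1 : ℕ) : ℤ) < 0
    · exact hQ0 _ (kosY_isZero n Y F a q h1)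
    · push_neg at h1
      exact (hterm q (q + ((n + 1 : ℕ) : ℤ)).toNat (by omega)).1
  have hZ := isFinLocFree_cycles K hex hX 0 (fun q hq => kosY_isZero n Y F a q (Or.inl hq))
  have main := alt_sum_clSub_eq_zero (KRR.vbP (KRR.PY n Y)) hQ0 K hex hX hZ (n + 1)
    (fun q hq => kosY_isZero n Y F a q (Or.inr (by exact_mod_cast hq)))
    (fun q hq => kosY_isZero n Y F a q (Or.inl hq))
  rw [← main]
  refine Finset.sum_congr rfl fun j _ => ?_
  congr 1
  exact ((hterm ((j : ℤ) - ((n + 1 : ℕ) : ℤ)) j (by ring)).2).symm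

end Pn

end

end Groth.Agent.Lib.Helper20.KosPY
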