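import Groth.Agent.Lib.Helper20.KosPY2
import Groth.Agent.Lib.Helper27.Horseshoe7
import Groth.Agent.Lib.Helper18.HHLES

/-!
# Pushing forward exact complexes with acyclic terms (helper20)

`f : X ⟶ Y` a morphism of schemes.
* `Acyc f M`: `R^i f_* M = 0` for all `i > 0` (abelian sheaves); `acyc_of_isZero`, `acyc_of_iso`, `acyc_X₂`,
  `acyc_X₃` (with short exactness of the pushed forward sequence), `acyc_sigma`.
* `acyc_cycles`: the cycles of an exact bounded below complex with acyclic terms are acyclic.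
* `push_alt_sum`: for such a complex `K` in degrees `[-m, 0]` whose terms have finite locally free
  direct images: `∑_j (-1)^j [f_* K^{j-m}] = 0` in `Kvb Y`.
-/

set_option autoImplicit false
universe v u

open CategoryTheory CategoryTheory.Limits AlgebraicGeometry Opposite TopologicalSpace

namespace Groth.Agent.Lib.Helper20.KosPY

open Groth.Agent.Lib.helper20.KosCone Groth.Agent.Lib.helper20.KosChase
open Groth.Agent.Lib.helper8.Dev KZero Groth.Agent.Lib.helper20.K0Pn
open Groth.Agent.Lib.Helper18.HH Groth.Agent.Lib.helper27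

noncomputable section

section Tel

theorem alt_sum_eq_zero_of_rel {G : Type*} [AddCommGroup G] (x z : ℤ → G)
    (rel : ∀ q, x q = z q + z (q + 1)) (m : ℕ) (h0 : z (-(m : ℤ)) = 0) (h1 : z 1 = 0) :
    ∑ j ∈ Finset.range (m + 1), (-1 : ℤ) ^ j • x ((j : ℤ) - m) = 0 := by
  let w : ℕ → G := fun j => z ((j : ℤ) - m)
  have hz : ∀ j : ℕ, x ((j : ℤ) - m) = w j + w (j + 1) := by
    intro j
    have h := rel ((j : ℤ) - m)
    have e : ((j : ℤ) - m) + 1 = ((j + 1 : ℕ) : ℤ) - m := by push_cast; ring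
    rw [e] at h
    exact h
  have tel : ∀ N : ℕ, ∑ j ∈ Finset.range N, (-1 : ℤ) ^ j • (w j + w (j + 1)) =
      w 0 - (-1 : ℤ) ^ N • w N := by
    intro N
    induction N with
    | zero => simp
    | succ N ih =>
      rw [Finset.sum_range_succ, ih, pow_succ]
      simp only [smul_add, mul_neg, mul_one, neg_smul]
      abel
  have hw0 : w 0 = 0 := by
    show z (((0 : ℕ) : ℤ) - m) = 0
    have e : (((0 : ℕ) : ℤ) - m) = -(m : ℤ) := by push_cast; ring
    rw [e]; exact h0
  have hwm : w (m + 1) = 0 := by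
    show z (((m + 1 : ℕ) : ℤ) - m) = 0
    have e : (((m + 1 : ℕ) : ℤ) - m) = 1 := by push_cast; ring
    rw [e]; exact h1
  calc ∑ j ∈ Finset.range (m + 1), (-1 : ℤ) ^ j • x ((j : ℤ) - m)
      = ∑ j ∈ Finset.range (m + 1), (-1 : ℤ) ^ j • (w j + w (j + 1)) :=
        Finset.sum_congr rfl fun j _ => by rw [hz j]
    _ = w 0 - (-1 : ℤ) ^ (m + 1) • w (m + 1) := tel (m + 1)
    _ = 0 := by rw [hw0, hwm, smul_zero, sub_zero]

end Tel

section Sigma

variable {A : Type u} [Category.{v} A] [Abelian A]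

/-- a property closed under isomorphisms, zero objects and extensions is closed under finite coproducts -/
theorem prop_sigma (P : A → Prop) (hP0 : ∀ N : A, IsZero N → P N)
    (hPiso : ∀ M N : A, (M ≅ N) → P M → P N)
    (hPext : ∀ S : ShortComplex A, S.ShortExact → P S.X₁ → P S.X₃ → P S.X₂) :
    ∀ (r : ℕ) (f : Fin r → A), (∀ j, P (f j)) → P (∐ f) := by
  intro r
  induction r with
  | zero =>
    intro f _
    have hI : IsInitial (∐ f) := by
      refine IsInitial.ofUniqueHom (fun Z => Sigma.desc fun i => i.elim0) ?_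
      intro Z m
      apply Sigma.hom_ext
      intro i
      exact i.elim0
    have hz : IsZero (∐ f) := by
      rw [IsZero.iff_id_eq_zero]
      exact hI.hom_ext _ _
    exact hP0 _ hz
  | succ r ih =>
    intro f hf
    let g : Fin r → A := fun i => f i.succ
    have hg := ih g (fun j => hf j.succ)
    let c₁ : Cofan g := Cofan.mk (∐ g) (Sigma.ι g)
    have hc₁ : IsColimit c₁ := coproductIsCoproduct g
    let c₂ : BinaryCofan (f 0) c₁.pt := (BinaryBiproduct.bicone (f 0) (∐ g)).toCocone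
    have hc₂ : IsColimit c₂ := BinaryBiproduct.isColimit (f 0) (∐ g)
    have hcol := CategoryTheory.extendCofanIsColimit f hc₁ hc₂
    let e : ∐ f ≅ f 0 ⊞ ∐ g :=
      IsColimit.coconePointUniqueUpToIso (coproductIsCoproduct f) hcol
    have hS := (ShortComplex.Splitting.ofHasBinaryBiproduct (f 0) (∐ g)).shortExact
    have hB : P (f 0 ⊞ ∐ g) := hPext _ hS (hf 0) hg
    exact hPiso _ _ e.symm hB

end Sigma

section Acyc

variable {X Y : Scheme.{u}} (f : X ⟶ Y)

/-- `M` is acyclic for `f_*` -/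
def Acyc (M : X.Modules) : Prop :=
  ∀ i : ℕ, 0 < i → IsZero ((Coh.RpushAb f i).obj (Coh.toAb M))

variable {f}

lemma acyc_of_isZero {M : X.Modules} (h : IsZero M) : Acyc f M := fun i _ =>
  (Coh.RpushAb f i).map_isZero ((toAbF X).map_isZero h)

lemma acyc_of_iso {M N : X.Modules} (e : M ≅ N) (h : Acyc f M) : Acyc f N := fun i hi =>
  (h i hi).of_iso ((Coh.RpushAb f i).mapIso ((toAbF X).mapIso e)).symm

lemma shortExact_of_toAb {T : ShortComplex Y.Modules}
    (h3 : (T.map (toAbF Y)).ShortExact) : T.ShortExact := by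
  have hex : T.Exact := (T.exact_map_iff_of_faithful (toAbF Y)).1 h3.exact
  have hm : Mono T.f := (toAbF Y).mono_of_mono_map h3.mono_f
  have he : Epi T.g := (toAbF Y).epi_of_epi_map h3.epi_g
  exact ShortComplex.ShortExact.mk' hex hm he

theorem acyc_X₃ {S : ShortComplex X.Modules} (hS : S.ShortExact) (h1 : Acyc f S.X₁)
    (h2 : Acyc f S.X₂) :
    Acyc f S.X₃ ∧ (S.map (Scheme.Modules.pushforward f)).ShortExact := by
  have h := (Horseshoe.rightAcyclic_shortExact (Coh.pushAb f) (toAb_shortExact hS)).2.1 h1 h2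
  refine ⟨h.1, ?_⟩
  have h3 : ((S.map (Scheme.Modules.pushforward f)).map (toAbF Y)).ShortExact := h.2
  exact shortExact_of_toAb h3

theorem acyc_X₂ {S : ShortComplex X.Modules} (hS : S.ShortExact) (h1 : Acyc f S.X₁)
    (h3 : Acyc f S.X₃) : Acyc f S.X₂ :=
  ((Horseshoe.rightAcyclic_shortExact (Coh.pushAb f) (toAb_shortExact hS)).1 h1 h3).1

theorem acyc_sigma (r : ℕ) (g : Fin r → X.Modules) (h : ∀ j, Acyc f (g j)) : Acyc f (∐ g) :=
  prop_sigma (Acyc f) (fun _ hN => acyc_of_isZero hN) (fun _ _ e hM => acyc_of_iso e hM)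
    (fun _ hS h1 h3 => acyc_X₂ hS h1 h3) r g h

variable (K : CochainComplex X.Modules ℤ)

/-- cycles of an exact bounded below complex with acyclic terms are acyclic -/
theorem acyc_cycles (hex : ∀ q, K.ExactAt q) (lo : ℤ) (hlo : ∀ q, q < lo → IsZero (K.X q))
    (hK : ∀ q, Acyc f (K.X q)) : ∀ q, Acyc f (K.cycles q) := by
  have up : ∀ (D : ℕ) (q : ℤ), q - D < lo → Acyc f (K.cycles q) := by
    intro D
    induction D with
    | zero =>
      intro q hq
      exact acyc_of_isZero (isZero_cycles K q (hlo q (by simpa using hq)))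
    | succ D ih =>
      intro q hq
      have e : q - 1 + 1 = q := by ring
      have h := (acyc_X₃ (cyclesSC_shortExact K (q - 1) (hex _))
        (ih (q - 1) (by push_cast at hq; omega)) (hK (q - 1))).1
      have h' : Acyc f (K.cycles (q - 1 + 1)) := h
      rw [e] at h'
      exact h'
  intro q
  exact up (q - lo + 1).toNat q (by omega)

theorem push_cyclesSC_shortExact (hex : ∀ q, K.ExactAt q) (lo : ℤ)
    (hlo : ∀ q, q < lo → IsZero (K.X q)) (hK : ∀ q, Acyc f (K.X q)) (q : ℤ) :
    ((cyclesSC K q).map (Scheme.Modules.pushforward f)).ShortExact :=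
  (acyc_X₃ (cyclesSC_shortExact K q (hex _)) (acyc_cycles K hex lo hlo hK q) (hK q)).2

variable [IsLocallyNoetherian Y]

/-- the alternating sum of the classes of the direct images of the terms vanishes -/
theorem push_alt_sum (hex : ∀ q, K.ExactAt q) (m : ℕ)
    (hlo : ∀ q : ℤ, q + m < 0 → IsZero (K.X q)) (hhi : ∀ q : ℤ, 0 < q → IsZero (K.X q))
    (hK : ∀ q, Acyc f (K.X q))
    (hV : ∀ q, FlatMod.IsFinLocFree ((Scheme.Modules.pushforward f).obj (K.X q))) :
    ∑ j ∈ Finset.range (m + 1), (-1 : ℤ) ^ j •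
      KRR.cl Y ((Scheme.Modules.pushforward f).obj (K.X ((j : ℤ) - m))) = 0 := by
  have hQ0 : ∀ N : Y.Modules, IsZero N → KRR.vbP Y N :=
    fun N hN => Groth.Agent.Lib.helper25.FLFKernel.isFinLocFree_of_isZero hN
  have hlo' : ∀ q : ℤ, q < -(m : ℤ) → IsZero (K.X q) := fun q hq => hlo q (by omega)
  have hSE := push_cyclesSC_shortExact (f := f) K hex (-(m : ℤ)) hlo' hK
  have hpz : ∀ q, IsZero (K.cycles q) → IsZero ((Scheme.Modules.pushforward f).obj (K.cycles q)) :=
    fun q h => (Scheme.Modules.pushforward f).map_isZero h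
  -- the direct images of the cycles are vector bundles
  have hZ : ∀ q, FlatMod.IsFinLocFree ((Scheme.Modules.pushforward f).obj (K.cycles q)) := by
    have down : ∀ (D : ℕ) (q : ℤ), 0 < q + D →
        FlatMod.IsFinLocFree ((Scheme.Modules.pushforward f).obj (K.cycles q)) := by
      intro D
      induction D with
      | zero =>
        intro q hq
        exact hQ0 _ (hpz q (isZero_cycles K q (hhi q (by simpa using hq))))
      | succ D ih =>
        intro q hq
        exact Groth.Agent.Lib.Helper20.K0Reg.vb_ker _ (hSE q) (hV q)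
          (ih (q + 1) (by push_cast at hq; omega))
    intro q
    exact down (1 - q).toNat q (by omega)
  refine alt_sum_eq_zero_of_rel
    (fun q => KRR.cl Y ((Scheme.Modules.pushforward f).obj (K.X q)))
    (fun q => KRR.cl Y ((Scheme.Modules.pushforward f).obj (K.cycles q))) ?_ m ?_ ?_
  · intro q
    exact clSub_rel (KRR.vbP Y) _ (hSE q) (hZ q) (hV q) (hZ (q + 1))
  · -- `Z^{-m} = 0`
    have hX : IsZero (K.X (-(m : ℤ) - 1)) := hlo _ (by omega)
    have h := clSub_rel (KRR.vbP Y) _ (hSE (-(m : ℤ) - 1)) (hZ _) (hV _) (hZ _)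
    have e : (-(m : ℤ) - 1) + 1 = -(m : ℤ) := by ring
    simp only [ShortComplex.map_X₁, ShortComplex.map_X₂, ShortComplex.map_X₃] at h
    have h1 : KRR.cl Y ((Scheme.Modules.pushforward f).obj (K.X (-(m : ℤ) - 1))) = 0 :=
      clSub_zero (KRR.vbP Y) hQ0 _ ((Scheme.Modules.pushforward f).map_isZero hX)
    have h2 : KRR.cl Y ((Scheme.Modules.pushforward f).obj (K.cycles (-(m : ℤ) - 1))) = 0 :=
      clSub_zero (KRR.vbP Y) hQ0 _ (hpz _ (isZero_cycles K _ hX))
    have h' : KRR.cl Y ((Scheme.Modules.pushforward f).obj (K.X (-(m : ℤ) - 1))) =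
        KRR.cl Y ((Scheme.Modules.pushforward f).obj (K.cycles (-(m : ℤ) - 1))) +
          KRR.cl Y ((Scheme.Modules.pushforward f).obj (K.cycles (-(m : ℤ) - 1 + 1))) := h
    rw [h1, h2, zero_add, e] at h'
    exact h'.symm
  · exact clSub_zero (KRR.vbP Y) hQ0 _ (hpz 1 (isZero_cycles K 1 (hhi 1 one_pos)))

end Acyc

end

end Groth.Agent.Lib.Helper20.KosPY
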