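import Groth.Agent.Lib.Helper20.KosPY3
import Groth.Agent.Lib.Helper20.KosNum
import Groth.Agent.Lib.Helper20.PushOPn
import Groth.Agent.S3756
import Groth.Agent.S19428

/-!
# `[p_* O_P(m)] = (n+m).choose n · [O_Y]` in `Kvb Y` (helper20)

`Y` Noetherian, `p : P = P^n_Y ⟶ Y`.
* `acyc_twF_unit`: `R^i p_* O_P(d) = 0` for `i ≥ 1`, `d ≥ -n`.
* `isZero_push_twF_unit`: `p_* O_P(d) = 0` for `-n ≤ d < 0`.
* `cl_push_twF_unit`: `[p_* O_P(d)] = cc n d • [O_Y]` for `d ≥ -n`.
-/

set_option autoImplicit false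
universe u

open CategoryTheory CategoryTheory.Limits AlgebraicGeometry Opposite TopologicalSpace

namespace Groth.Agent.Lib.Helper20.KosPY

open Groth.Agent.Lib.helper20.KosCone Groth.Agent.Lib.helper20.KosChase
open Groth.Agent.Lib.helper8.Dev KZero Groth.Agent.Lib.helper20.K0Pn
open Groth.Agent.Lib.Helper18.HH Groth.Agent.Lib.Helper20.RelReg
open Groth.Agent.Lib.helper12.PnLocal Groth.Agent.Lib.Lead.ModTensor
open Groth.Agent.Lib.Helper20.TwistEquivPn Groth.Agent.Lib.Helper20.KosNum

noncomputable section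

variable (n : ℕ) (Y : Scheme.{u})

/-- `G_V O_P ≅ O` -/
def gvUnitIso (V : Y.Opens) (hV : IsAffineOpen V) :
    GV n V hV (Coh.structureModule (KRR.PY n Y)) ≅
      Coh.structureModule (CohB1.ProjSpace n Γ(Y, V)) :=
  haveI : IsIso (Groth.Agent.Lib.helper11.InvPullback.unitToPush (theta n V hV).hom) :=
    Groth.Agent.Lib.helper11.PullUnit.isIso_unitToPush (theta n V hV).hom (fun U => by
      haveI : IsIso ((theta n V hV).hom.app U) := inferInstance
      exact (ConcreteCategory.isIso_iff_bijective ((theta n V hV).hom.app U)).mp inferInstance)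
  (Scheme.Modules.pushforward (theta n V hV).hom).mapIso
      (Scheme.Modules.restrictUnitIso (KRR.pr n Y ⁻¹ᵁ V).ι) ≪≫
    (asIso (Groth.Agent.Lib.helper11.InvPullback.unitToPush (theta n V hV).hom)).symm

/-- the cohomology of `G_V (O_P(d))` is that of `O(d)` -/
theorem subsingleton_HH_GV_twF_unit (V : Y.Opens) (hV : IsAffineOpen V) (d : ℤ) (q : ℕ)
    (h₀ : ¬ (q = 0 ∧ 0 ≤ d)) (hn : ¬ (q = n ∧ d ≤ -((n : ℤ) + 1))) :
    Subsingleton (Coh.HH (CohB1.ProjSpace n Γ(Y, V))
      (GV n V hV (KRR.twF n Y d (Coh.structureModule (KRR.PY n Y)))) q) := by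
  obtain ⟨e⟩ := nonempty_GV_twF_iso n V hV (Coh.structureModule (KRR.PY n Y)) d
  have h1 := Groth.Agent.S0844.result Γ(Y, V) n d q h₀ hn
  exact subsingleton_of_iso
    ((leftUnitor _).symm ≪≫ tensorIso (gvUnitIso n Y V hV).symm (Iso.refl _) ≪≫ e.symm) q h1

/-- `R^i p_* O_P(d) = 0` for `i ≥ 1`, `d ≥ -n` -/
theorem acyc_twF_unit (d : ℤ) (hd : -(n : ℤ) ≤ d) :
    Acyc (KRR.pr n Y) (KRR.twF n Y d (Coh.structureModule (KRR.PY n Y))) := by
  intro i hi
  haveI := isQuasicoherent_twF n Y (Coh.structureModule (KRR.PY n Y)) d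
  refine (isZero_rpushAb_iff n Y _ i hi).2 fun V hV => ?_
  exact subsingleton_HH_GV_twF_unit n Y V hV d i (by omega) (by omega)

lemma subsingleton_sections_congr {X : Scheme.{u}} (M : X.Modules) {U U' : X.Opens} (h : U = U')
    (hs : Subsingleton (M.val.obj (op U))) : Subsingleton (M.val.obj (op U')) := by
  subst h; exact hs

/-- `p_* O_P(d) = 0` for `-n ≤ d < 0` -/
theorem isZero_push_twF_unit (d : ℤ) (hd : -(n : ℤ) ≤ d) (hd' : d < 0) :
    IsZero ((Scheme.Modules.pushforward (KRR.pr n Y)).obj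
      (KRR.twF n Y d (Coh.structureModule (KRR.PY n Y)))) := by
  set M := KRR.twF n Y d (Coh.structureModule (KRR.PY n Y)) with hM
  rw [IsZero.iff_id_eq_zero]
  refine Groth.Agent.Lib.helper16.QCohEpi.hom_ext_of_basis _ _ {V : Y.Opens | IsAffineOpen V}
    Y.isBasis_affineOpens (fun V hV s => ?_)
  have h1 := subsingleton_HH_GV_twF_unit n Y V hV d 0 (by omega) (by omega)
  have h2 : Subsingleton ((GV n V hV M).val.obj (op ⊤)) := (equiv₀ _).symm.toEquiv.subsingleton
  have hU : (KRR.pr n Y ⁻¹ᵁ V).ι ''ᵁ ((theta n V hV).hom ⁻¹ᵁ ⊤) = KRR.pr n Y ⁻¹ᵁ V := by simp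
  have h3 : Subsingleton (M.val.obj (op (KRR.pr n Y ⁻¹ᵁ V))) :=
    subsingleton_sections_congr M hU h2
  exact h3.elim _ _

variable [IsNoetherian Y]

theorem isFinLocFree_push_twF_unit (d : ℤ) (hd : -(n : ℤ) ≤ d) :
    FlatMod.IsFinLocFree ((Scheme.Modules.pushforward (KRR.pr n Y)).obj
      (KRR.twF n Y d (Coh.structureModule (KRR.PY n Y)))) := by
  by_cases hd' : d < 0
  · exact Groth.Agent.Lib.helper25.FLFKernel.isFinLocFree_of_isZero
      (isZero_push_twF_unit n Y d hd hd')
  · obtain ⟨m, rfl⟩ := Int.eq_ofNat_of_zero_le (show 0 ≤ d by omega)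
    exact Groth.Agent.S3756.result n Y _
      (isFinLocFree_twF n Y (Groth.Agent.Lib.helper16.FLF.isFinLocFree_structureModule _) _)
      (Groth.Agent.S19428.result n Y _ inferInstance
        (Groth.Agent.Lib.Helper20.PushOPn.isRegSheaf_structureModule n Y) m)

/-- direct image of a finite coproduct of copies of `M` -/
theorem push_sigma (r : ℕ) (M : (KRR.PY n Y).Modules)
    {X : (KRR.PY n Y).Modules} (e : X ≅ ∐ fun _ : Fin r => M)
    (hM : FlatMod.IsFinLocFree ((Scheme.Modules.pushforward (KRR.pr n Y)).obj M)) :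
    FlatMod.IsFinLocFree ((Scheme.Modules.pushforward (KRR.pr n Y)).obj X) ∧
      KRR.cl Y ((Scheme.Modules.pushforward (KRR.pr n Y)).obj X) =
        r • KRR.cl Y ((Scheme.Modules.pushforward (KRR.pr n Y)).obj M) := by
  have hQ0 : ∀ N : Y.Modules, IsZero N → KRR.vbP Y N :=
    fun N hN => Groth.Agent.Lib.helper25.FLFKernel.isFinLocFree_of_isZero hN
  have hQiso : ∀ M N : Y.Modules, (M ≅ N) → KRR.vbP Y M → KRR.vbP Y N :=
    fun M N e h => Groth.Agent.Lib.helper16.FLF.isFinLocFree_of_iso e h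
  have hQext : ∀ S : ShortComplex Y.Modules, S.ShortExact →
      KRR.vbP Y S.X₁ → KRR.vbP Y S.X₃ → KRR.vbP Y S.X₂ :=
    fun S hS h1 h3 => Groth.Agent.Lib.Helper20.K0Reg.vb_ext S hS h1 h3
  let e' : (Scheme.Modules.pushforward (KRR.pr n Y)).obj X ≅
      ∐ fun _ : Fin r => (Scheme.Modules.pushforward (KRR.pr n Y)).obj M :=
    (Scheme.Modules.pushforward (KRR.pr n Y)).mapIso e ≪≫
      PreservesCoproduct.iso (Scheme.Modules.pushforward (KRR.pr n Y)) (fun _ : Fin r => M)
  obtain ⟨h1, h2⟩ := clSub_sigma (KRR.vbP Y) hQ0 hQiso hQext r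
    (fun _ => (Scheme.Modules.pushforward (KRR.pr n Y)).obj M) (fun _ => hM)
  refine ⟨hQiso _ _ e'.symm h1, ?_⟩
  rw [KRR.cl, clSub_iso (KRR.vbP Y) hQ0 hQiso e', h2, Finset.sum_const, Finset.card_univ,
    Fintype.card_fin]

/-- **`[p_* O_P(d)] = cc n d • [O_Y]`** for `d ≥ -n` -/
theorem cl_push_twF_unit (d : ℤ) (hd : -(n : ℤ) ≤ d) :
    KRR.cl Y ((Scheme.Modules.pushforward (KRR.pr n Y)).obj
      (KRR.twF n Y d (Coh.structureModule (KRR.PY n Y)))) =
      cc n d • KRR.cl Y (Coh.structureModule Y) := by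
  have hQ0 : ∀ N : Y.Modules, IsZero N → KRR.vbP Y N :=
    fun N hN => Groth.Agent.Lib.helper25.FLFKernel.isFinLocFree_of_isZero hN
  have hQiso : ∀ M N : Y.Modules, (M ≅ N) → KRR.vbP Y M → KRR.vbP Y N :=
    fun M N e h => Groth.Agent.Lib.helper16.FLF.isFinLocFree_of_iso e h
  set OP := Coh.structureModule (KRR.PY n Y) with hOP
  set u := KRR.cl Y (Coh.structureModule Y) with hu
  have key : ∀ (N : ℕ) (d : ℤ), -(n : ℤ) ≤ d → d < N →
      KRR.cl Y ((Scheme.Modules.pushforward (KRR.pr n Y)).obj (KRR.twF n Y d OP)) = cc n d • u := by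
    intro N
    induction N with
    | zero =>
      intro d hd hdN
      rw [cc_of_neg n d (by simpa using hdN), zero_smul]
      exact clSub_zero (KRR.vbP Y) hQ0 _ (isZero_push_twF_unit n Y d hd (by simpa using hdN))
    | succ N ih =>
      intro d hd hdN
      by_cases hlt : d < N
      · exact ih d hd hlt
      have hdN' : d = N := by push_cast at hdN; omega
      subst hdN'
      rcases Nat.eq_zero_or_pos N with rfl | hNpos
      · -- `d = 0`
        rw [Nat.cast_zero, cc_zero, one_smul]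
        obtain ⟨e⟩ := Groth.Agent.Lib.Helper20.PushOPn.nonempty_push_structureModule_iso n Y
        let e0 : KRR.twF n Y 0 OP ≅ OP :=
          rightUnitor _ ≪≫ (Scheme.Modules.pullback (q1 n Y)).mapIso
            (Groth.Agent.Lib.helper28.TwistPn.zeroIso n (ULift.{u} ℤ)).symm ≪≫
            Groth.Agent.Lib.helper11.InvMod.pullbackUnitIso (q1 n Y)
        exact clSub_iso (KRR.vbP Y) hQ0 hQiso
          ((Scheme.Modules.pushforward (KRR.pr n Y)).mapIso e0 ≪≫ e)
      · -- `d = N ≥ 1`: the Koszul relation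
        set a : ℤ := (N : ℤ) - ((n + 1 : ℕ) : ℤ) with ha
        set K := (kos (grOpY n Y OP) (n + 1)).M a with hK
        have hterm : ∀ (i : ℤ) (j : ℕ), i + ((n + 1 : ℕ) : ℤ) = j →
            Acyc (KRR.pr n Y) (K.X i) ∧
            FlatMod.IsFinLocFree ((Scheme.Modules.pushforward (KRR.pr n Y)).obj (K.X i)) ∧
            KRR.cl Y ((Scheme.Modules.pushforward (KRR.pr n Y)).obj (K.X i)) =
              (n + 1).choose j • KRR.cl Y ((Scheme.Modules.pushforward (KRR.pr n Y)).obj
                (KRR.twF n Y (a + j) OP)) := by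
          intro i j hij
          obtain ⟨e⟩ := kosY_X_iso n Y OP a i j hij
          have hge : -(n : ℤ) ≤ a + j := by rw [ha]; push_cast; omega
          have h1 := push_sigma n Y ((n + 1).choose j) (KRR.twF n Y (a + j) OP) e
            (isFinLocFree_push_twF_unit n Y (a + j) hge)
          exact ⟨acyc_of_iso e.symm (acyc_sigma _ _ (fun _ => acyc_twF_unit n Y (a + j) hge)),
            h1.1, h1.2⟩
        have hzero : ∀ i : ℤ, (0 < i ∨ i + ((n + 1 : ℕ) : ℤ) < 0) → IsZero (K.X i) :=
          fun i hi => kosY_isZero n Y OP a i hi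
        have hAc : ∀ q, Acyc (KRR.pr n Y) (K.X q) := by
          intro q
          by_cases h1 : 0 < q ∨ q + ((n + 1 : ℕ) : ℤ) < 0
          · exact acyc_of_isZero (hzero q h1)
          · push_neg at h1
            exact (hterm q (q + ((n + 1 : ℕ) : ℤ)).toNat (by omega)).1
        have hV : ∀ q, FlatMod.IsFinLocFree
            ((Scheme.Modules.pushforward (KRR.pr n Y)).obj (K.X q)) := by
          intro q
          by_cases h1 : 0 < q ∨ q + ((n + 1 : ℕ) : ℤ) < 0
          · exact hQ0 _ ((Scheme.Modules.pushforward (KRR.pr n Y)).map_isZero (hzero q h1))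
          · push_neg at h1
            exact (hterm q (q + ((n + 1 : ℕ) : ℤ)).toNat (by omega)).2.1
        have main := push_alt_sum (f := KRR.pr n Y) K (fun q => kosY_exactAt n Y OP a q) (n + 1)
          (fun q hq => hzero q (Or.inr (by exact_mod_cast hq))) (fun q hq => hzero q (Or.inl hq))
          hAc hV
        -- rewrite the terms
        have main2 : ∑ j ∈ Finset.range (n + 1 + 1), (-1 : ℤ) ^ j •
            ((n + 1).choose j • KRR.cl Y ((Scheme.Modules.pushforward (KRR.pr n Y)).obj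
              (KRR.twF n Y (a + j) OP))) = 0 := by
          rw [← main]
          refine Finset.sum_congr rfl fun j _ => ?_
          congr 1
          exact ((hterm ((j : ℤ) - ((n + 1 : ℕ) : ℤ)) j (by ring)).2.2).symm
        rw [Finset.sum_range_succ] at main2
        have hlast : a + ((n + 1 : ℕ) : ℤ) = (N : ℤ) := by rw [ha]; ring
        rw [hlast, Nat.choose_self, one_smul] at main2
        have hih : ∀ j ∈ Finset.range (n + 1), (-1 : ℤ) ^ j •
            ((n + 1).choose j • KRR.cl Y ((Scheme.Modules.pushforward (KRR.pr n Y)).obj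
              (KRR.twF n Y (a + j) OP))) =
            ((-1 : ℤ) ^ j * ((n + 1).choose j : ℤ) * cc n (a + j)) • u := by
          intro j hj
          have hj' : j < n + 1 := Finset.mem_range.mp hj
          rw [ih (a + j) (by rw [ha]; push_cast; omega) (by rw [ha]; push_cast; omega)]
          rw [← natCast_zsmul, smul_smul, smul_smul]
        rw [Finset.sum_congr rfl hih, ← Finset.sum_smul] at main2
        have hnum := sum_cc' n N hNpos
        rw [Finset.sum_range_succ, Nat.choose_self] at hnum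
        have hlast' : (N : ℤ) - ((n + 1 : ℕ) : ℤ) + ((n + 1 : ℕ) : ℤ) = (N : ℤ) := by ring
        rw [hlast'] at hnum
        have hsum : ∑ j ∈ Finset.range (n + 1), (-1 : ℤ) ^ j * ((n + 1).choose j : ℤ) *
            cc n (a + j) = -((-1 : ℤ) ^ (n + 1) * cc n (N : ℤ)) := by
          have : ∑ j ∈ Finset.range (n + 1), (-1 : ℤ) ^ j * ((n + 1).choose j : ℤ) *
              cc n ((N : ℤ) - ((n + 1 : ℕ) : ℤ) + j) = -((-1 : ℤ) ^ (n + 1) * cc n (N : ℤ)) := by
            have h := hnum
            simp only [Nat.cast_one, mul_one] at h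
            linarith
          exact this
        rw [hsum] at main2
        -- `(-1)^(n+1) • (X - cc • u) = 0`
        have h3 : (-1 : ℤ) ^ (n + 1) •
            (KRR.cl Y ((Scheme.Modules.pushforward (KRR.pr n Y)).obj (KRR.twF n Y (N : ℤ) OP)) -
              cc n (N : ℤ) • u) = 0 := by
          rw [smul_sub, smul_smul, sub_eq_add_neg, ← neg_smul, add_comm]
          exact main2
        have h4 := congrArg (fun t => (-1 : ℤ) ^ (n + 1) • t) h3
        simp only [smul_smul, smul_zero] at h4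
        rw [← pow_add, ← two_mul, pow_mul] at h4
        simp only [neg_one_sq, one_pow, one_smul] at h4
        exact sub_eq_zero.mp h4
  exact key (d + 1).toNat d hd (by omega)

end

end Groth.Agent.Lib.Helper20.KosPY
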