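import Groth.Agent.Lib.Helper20.KosPY4

/-!
# `p_K [O_P(d)]` for `d ≥ -n` (helper20)

`pushPr_twist`: for models of `K(P^n_Y)`, `K(Y)` and `g = p_K`: `g [O_P(d)] = cc n d` for all `d ≥ -n`
(`= (n+d).choose n` for `d ≥ 0` and `0` for `-n ≤ d < 0`).
-/

set_option autoImplicit false
universe v u

open CategoryTheory CategoryTheory.Limits AlgebraicGeometry

namespace Groth.Agent.Lib.Helper20.KosPY

open Groth.Agent.Lib.Helper20.KosNum

variable (n : ℕ) (Y : Scheme.{u}) [IsNoetherian Y]
  {KP : Type v} [CommRing KP] (φP : SGA6.Kvb (KRR.PY n Y) →+ KP)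
  {KY : Type v} [CommRing KY] [LambdaRing.LambdaOps KY] (PY : LambdaRing.PosStructure KY)
  (φY : SGA6.Kvb Y →+ KY) (hKY : KRR.IsModel Y KY PY φY)
  (g : KP →+ KY) (hg : KRR.IsPushPr n Y φP φY g)

include hKY hg in
theorem pushPr_twist_nonneg (m : ℕ) :
    g (φP (KRR.cl (KRR.PY n Y) (KRR.twF n Y (m : ℤ) (Coh.structureModule (KRR.PY n Y))))) =
      ((cc n (m : ℤ) : ℤ) : KY) := by
  have hF : FlatMod.IsFinLocFree (KRR.twF n Y (m : ℤ) (Coh.structureModule (KRR.PY n Y))) :=
    isFinLocFree_twF n Y (Groth.Agent.Lib.helper16.FLF.isFinLocFree_structureModule _) _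
  have hreg := Groth.Agent.S19428.result n Y (Coh.structureModule (KRR.PY n Y)) inferInstance
    (Groth.Agent.Lib.Helper20.PushOPn.isRegSheaf_structureModule n Y) m
  rw [hg _ hF hreg, cl_push_twF_unit n Y (m : ℤ) (by omega), map_zsmul, hKY.map_one, zsmul_one]

include hKY hg in
theorem pushPr_twist (d : ℤ) (hd : -(n : ℤ) ≤ d) :
    g (φP (KRR.cl (KRR.PY n Y) (KRR.twF n Y d (Coh.structureModule (KRR.PY n Y))))) =
      ((cc n d : ℤ) : KY) := by
  set OP := Coh.structureModule (KRR.PY n Y) with hOP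
  have key : ∀ (N i : ℕ), i < N → i ≤ n →
      g (φP (KRR.cl (KRR.PY n Y) (KRR.twF n Y (-(i : ℤ)) OP))) = ((cc n (-(i : ℤ)) : ℤ) : KY) := by
    intro N
    induction N with
    | zero => intro i hi; omega
    | succ N ih =>
      intro i hiN hin
      rcases Nat.eq_zero_or_pos i with rfl | hipos
      · have := pushPr_twist_nonneg n Y φP PY φY hKY g hg 0
        simpa using this
      have hall : ∀ j : ℕ, 1 ≤ j →
          g (φP (KRR.cl (KRR.PY n Y) (KRR.twF n Y (-(i : ℤ) + j) OP))) =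
            ((cc n (-(i : ℤ) + j) : ℤ) : KY) := by
        intro j hj
        by_cases hji : j < i
        · have e : -(i : ℤ) + j = -((i - j : ℕ) : ℤ) := by omega
          rw [e]
          exact ih (i - j) (by omega) (by omega)
        · have e : -(i : ℤ) + j = ((j - i : ℕ) : ℤ) := by omega
          rw [e]
          exact pushPr_twist_nonneg n Y φP PY φY hKY g hg (j - i)
      have hrel := koszul_relation n Y
        (Groth.Agent.Lib.helper16.FLF.isFinLocFree_structureModule (KRR.PY n Y)) (-(i : ℤ))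
      have hrel2 := congrArg (fun t => g (φP t)) hrel
      simp only [map_sum, map_zsmul, map_nsmul, map_zero] at hrel2
      rw [Finset.sum_range_succ'] at hrel2
      simp only [pow_zero, Nat.choose_zero_right, one_smul, Nat.cast_zero, add_zero] at hrel2
      have hnum := sum_cc' n (n + 1 - i) (by omega)
      have e0 : ((n + 1 - i : ℕ) : ℤ) - ((n + 1 : ℕ) : ℤ) = -(i : ℤ) := by omega
      rw [e0, Finset.sum_range_succ'] at hnum
      simp only [pow_zero, Nat.choose_zero_right, Nat.cast_one, one_mul, Nat.cast_zero,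
        add_zero] at hnum
      have hsum : ∑ j ∈ Finset.range (n + 1), (-1 : ℤ) ^ (j + 1) •
          ((n + 1).choose (j + 1) • g (φP (KRR.cl (KRR.PY n Y)
            (KRR.twF n Y (-(i : ℤ) + ((j + 1 : ℕ) : ℤ)) OP)))) =
          ((∑ j ∈ Finset.range (n + 1), (-1 : ℤ) ^ (j + 1) * ((n + 1).choose (j + 1) : ℤ) *
            cc n (-(i : ℤ) + ((j + 1 : ℕ) : ℤ)) : ℤ) : KY) := by
        rw [Int.cast_sum]
        refine Finset.sum_congr rfl fun j _ => ?_
        rw [hall (j + 1) (by omega)]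
        push_cast
        rw [zsmul_eq_mul, nsmul_eq_mul]
        push_cast
        ring
      rw [hsum] at hrel2
      have h1 : (∑ j ∈ Finset.range (n + 1), (-1 : ℤ) ^ (j + 1) * ((n + 1).choose (j + 1) : ℤ) *
          cc n (-(i : ℤ) + ((j + 1 : ℕ) : ℤ))) = -cc n (-(i : ℤ)) := by linarith
      rw [h1] at hrel2
      push_cast at hrel2
      have h2 : g (φP (KRR.cl (KRR.PY n Y) (KRR.twF n Y (-(i : ℤ)) OP))) =
          ((cc n (-(i : ℤ)) : ℤ) : KY) := by
        have := hrel2
        rw [add_comm] at this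
        exact eq_of_sub_eq_zero (by rw [sub_eq_add_neg]; exact this)
      exact h2
  by_cases hd0 : 0 ≤ d
  · obtain ⟨m, rfl⟩ := Int.eq_ofNat_of_zero_le hd0
    exact pushPr_twist_nonneg n Y φP PY φY hKY g hg m
  · obtain ⟨i, hi⟩ : ∃ i : ℕ, d = -(i : ℤ) := ⟨(-d).toNat, by omega⟩
    subst hi
    exact key (i + 1) i (by omega) (by omega)

end Groth.Agent.Lib.Helper20.KosPY
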