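import Mathlib

/-!
# Abstract algebra for pre-λ-structures (helper20)

* `commRingOfMul`: a commutative ring structure on an additive commutative group from a biadditive,
  commutative, associative multiplication with a unit.
* `ser`, `mkU`: power series with constant coefficient `1` as elements of `Additive R⟦X⟧ˣ`.
* `coeff_props`: if `Λ : R →+ Additive R⟦X⟧ˣ` has `coeff 0 = 1` and `coeff 1 = id` on an additively
  generating set then it has these properties everywhere, and the coefficients of `Λ (x + y)` are
  given by the Cauchy product.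
-/

set_option autoImplicit false

namespace Groth.Agent.Lib.Helper20.LamAlg

/-- a commutative ring structure from a biadditive commutative associative unital multiplication -/
@[reducible] def commRingOfMul {A : Type*} [inst : AddCommGroup A] (mul : A →+ A →+ A) (one : A)
    (hcomm : ∀ x y, mul x y = mul y x) (hassoc : ∀ x y z, mul (mul x y) z = mul x (mul y z))
    (hone : ∀ x, mul one x = x) : CommRing A :=
  { inst with
    mul := fun x y => mul x y
    one := one
    left_distrib := fun a b c => map_add (mul a) b c
    right_distrib := fun a b c => by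
      show mul (a + b) c = mul a c + mul b c
      rw [map_add]; rfl
    zero_mul := fun a => by
      show mul 0 a = 0
      rw [map_zero]; rfl
    mul_zero := fun a => map_zero (mul a)
    mul_assoc := hassoc
    one_mul := hone
    mul_one := fun a => by
      show mul a one = a
      rw [hcomm]; exact hone a
    mul_comm := hcomm }

variable {R : Type*} [CommRing R]

open PowerSeries

/-- the power series underlying an element of `Additive R⟦X⟧ˣ` -/
def ser (u : Additive (PowerSeries R)ˣ) : PowerSeries R :=
  ((Additive.toMul u : (PowerSeries R)ˣ) : PowerSeries R)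

lemma ser_add (u v : Additive (PowerSeries R)ˣ) : ser (u + v) = ser u * ser v := rfl

lemma ser_zero : ser (0 : Additive (PowerSeries R)ˣ) = 1 := rfl

lemma ser_mul_neg (u : Additive (PowerSeries R)ˣ) : ser u * ser (-u) = 1 :=
  Units.mul_inv _

lemma ser_injective : Function.Injective (ser (R := R)) := fun u v h => by
  have : (Additive.toMul u : (PowerSeries R)ˣ) = Additive.toMul v := Units.ext h
  exact Additive.toMul.injective this

/-- the unit with given coefficients, the constant one being `1` -/
noncomputable def mkU (f : ℕ → R) (h : f 0 = 1) : Additive (PowerSeries R)ˣ :=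
  Additive.ofMul (IsUnit.unit (a := PowerSeries.mk f) (by
    rw [PowerSeries.isUnit_iff_constantCoeff, ← PowerSeries.coeff_zero_eq_constantCoeff_apply,
      PowerSeries.coeff_mk, h]
    exact isUnit_one))

lemma ser_mkU (f : ℕ → R) (h : f 0 = 1) : ser (mkU f h) = PowerSeries.mk f := rfl

lemma coeff_ser_mkU (f : ℕ → R) (h : f 0 = 1) (n : ℕ) : coeff n (ser (mkU f h)) = f n := by
  rw [ser_mkU, PowerSeries.coeff_mk]

lemma coeff_zero_mul' (a b : PowerSeries R) : coeff 0 (a * b) = coeff 0 a * coeff 0 b := by
  rw [PowerSeries.coeff_mul, Finset.Nat.antidiagonal_zero, Finset.sum_singleton]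

lemma coeff_one_mul' (a b : PowerSeries R) :
    coeff 1 (a * b) = coeff 0 a * coeff 1 b + coeff 1 a * coeff 0 b := by
  rw [PowerSeries.coeff_mul, Finset.Nat.sum_antidiagonal_eq_sum_range_succ
    (fun i j => coeff i a * coeff j b), Finset.sum_range_succ, Finset.sum_range_succ,
    Finset.sum_range_zero, zero_add]

theorem coeff_props (Λ : R →+ Additive (PowerSeries R)ˣ) (S : Set R)
    (hS : AddSubgroup.closure S = ⊤)
    (h0 : ∀ s ∈ S, coeff 0 (ser (Λ s)) = 1) (h1 : ∀ s ∈ S, coeff 1 (ser (Λ s)) = s) :
    (∀ x, coeff 0 (ser (Λ x)) = 1) ∧ (∀ x, coeff 1 (ser (Λ x)) = x) ∧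
    ∀ (k : ℕ) (x y : R), coeff k (ser (Λ (x + y))) =
      ∑ i ∈ Finset.range (k + 1), coeff i (ser (Λ x)) * coeff (k - i) (ser (Λ y)) := by
  have hneg : ∀ x, ser (Λ x) * ser (Λ (-x)) = 1 := fun x => by
    rw [map_neg]; exact ser_mul_neg _
  have A : ∀ x, coeff 0 (ser (Λ x)) = 1 := by
    intro x
    have hx : x ∈ AddSubgroup.closure S := by rw [hS]; trivial
    induction hx using AddSubgroup.closure_induction with
    | mem s hs => exact h0 s hs
    | zero => rw [map_zero, ser_zero, PowerSeries.coeff_zero_one]
    | add a b _ _ ha hb => rw [map_add, ser_add, coeff_zero_mul', ha, hb, mul_one]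
    | neg a _ ha =>
      have := congrArg (coeff 0) (hneg a)
      rw [coeff_zero_mul', ha, one_mul, PowerSeries.coeff_zero_one] at this
      exact this
  refine ⟨A, ?_, ?_⟩
  · intro x
    have hx : x ∈ AddSubgroup.closure S := by rw [hS]; trivial
    induction hx using AddSubgroup.closure_induction with
    | mem s hs => exact h1 s hs
    | zero =>
      rw [map_zero, ser_zero, PowerSeries.coeff_one, if_neg one_ne_zero]
    | add a b _ _ ha hb =>
      rw [map_add, ser_add, coeff_one_mul', A, A, ha, hb, one_mul, mul_one, add_comm]
    | neg a _ ha =>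
      have := congrArg (coeff 1) (hneg a)
      rw [coeff_one_mul', A, A, ha, one_mul, mul_one, PowerSeries.coeff_one,
        if_neg one_ne_zero] at this
      exact eq_neg_of_add_eq_zero_left this
  · intro k x y
    rw [map_add, ser_add, PowerSeries.coeff_mul]
    exact Finset.Nat.sum_antidiagonal_eq_sum_range_succ
      (fun i j => coeff i (ser (Λ x)) * coeff j (ser (Λ y))) k

end Groth.Agent.Lib.Helper20.LamAlg
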