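import Groth.Agent.Lib.Helper20.KvbMul
import Groth.Agent.Lib.Helper20.ExtSh5
import Groth.Agent.Lib.Helper20.ExtPowUniq
import Groth.Agent.Lib.Helper20.LamAlg

/-!
# The pre-λ-structure on `K₀` of vector bundles (helper20)
-/

set_option autoImplicit false
universe u

open CategoryTheory CategoryTheory.Limits AlgebraicGeometry Opposite TopologicalSpace
open Groth.Agent.Lib.Helper20.KPr Groth.Agent.Lib.helper7.K0API Groth.Agent.Lib.helper8.Dev KZero
  Groth.Agent.Lib.Lead.ModTensor Groth.Agent.Lib.Helper20.KvbMul Groth.Agent.Lib.Helper20.LamAlg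
  Groth.Agent.Lib.Helper20.ExtSh

namespace Groth.Agent.Lib.Helper20.KvbLam

noncomputable section

variable {X : Scheme.{u}}

/-- the ring structure of `Kvb X` -/
@[reducible] def ringK (X : Scheme.{u}) : CommRing (SGA6.Kvb X) :=
  commRingOfMul mulK (KRR.cl X (Coh.structureModule X)) mulK_comm mulK_assoc mulK_one

attribute [local instance] ringK

theorem mul_def (x y : SGA6.Kvb X) : x * y = mulK x y := rfl

theorem one_def : (1 : SGA6.Kvb X) = KRR.cl X (Coh.structureModule X) := rfl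

variable (hext : ∀ (i : ℕ) (E : X.Modules), FlatMod.IsFinLocFree E →
  ∃ L : X.Modules, FlatMod.IsFinLocFree L ∧ ExtPow.IsExtPow i E L)

/-- a chosen `i`-th exterior power -/
def lamObj (i : ℕ) (E : X.Modules) (hE : FlatMod.IsFinLocFree E) : X.Modules :=
  (hext i E hE).choose

theorem lamObj_vb (i : ℕ) (E : X.Modules) (hE : FlatMod.IsFinLocFree E) :
    FlatMod.IsFinLocFree (lamObj hext i E hE) := (hext i E hE).choose_spec.1

theorem lamObj_ext (i : ℕ) (E : X.Modules) (hE : FlatMod.IsFinLocFree E) :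
    ExtPow.IsExtPow i E (lamObj hext i E hE) := (hext i E hE).choose_spec.2

theorem cl_of_isExtPow {i : ℕ} {E L : X.Modules} (hE : FlatMod.IsFinLocFree E)
    (hL : ExtPow.IsExtPow i E L) : KRR.cl X L = KRR.cl X (lamObj hext i E hE) := by
  obtain ⟨e⟩ := nonempty_iso_of_isExtPow hL (lamObj_ext hext i E hE)
  exact cl_iso e

theorem cl_lamObj_zero (E : X.Modules) (hE : FlatMod.IsFinLocFree E) :
    KRR.cl X (lamObj hext 0 E hE) = 1 :=
  (cl_of_isExtPow hext hE (isExtPow_zero E)).symm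

theorem cl_lamObj_one (E : X.Modules) (hE : FlatMod.IsFinLocFree E) :
    KRR.cl X (lamObj hext 1 E hE) = KRR.cl X E :=
  (cl_of_isExtPow hext hE (isExtPow_one E)).symm

open Classical in
/-- `λ_t` on bundles -/
def lamT (E : X.Modules) : Additive (PowerSeries (SGA6.Kvb X))ˣ :=
  if hE : FlatMod.IsFinLocFree E then
    mkU (fun i => KRR.cl X (lamObj hext i E hE)) (cl_lamObj_zero hext E hE)
  else 0

theorem lamT_additive (S : ShortComplex X.Modules) (hS : S.ShortExact)
    (h1 : FlatMod.IsFinLocFree S.X₁) (h2 : FlatMod.IsFinLocFree S.X₂)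
    (h3 : FlatMod.IsFinLocFree S.X₃) : lamT hext S.X₂ = lamT hext S.X₁ + lamT hext S.X₃ := by
  rw [lamT, lamT, lamT, dif_pos h1, dif_pos h2, dif_pos h3]
  apply ser_injective
  rw [ser_add]
  refine PowerSeries.ext (fun n => ?_)
  rw [PowerSeries.coeff_mul, coeff_ser_mkU]
  simp only [coeff_ser_mkU]
  rw [Finset.Nat.sum_antidiagonal_eq_sum_range_succ
    (fun i j => KRR.cl X (lamObj hext i S.X₁ h1) * KRR.cl X (lamObj hext j S.X₃ h3)) n]
  have key := cl_extPow_eq_sum S hS h1 h3 (fun i => lamObj hext i S.X₁ h1)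
    (fun i => lamObj hext i S.X₂ h2) (fun i => lamObj hext i S.X₃ h3)
    (fun i => lamObj_vb hext i _ h1) (fun i => lamObj_vb hext i _ h2)
    (fun i => lamObj_vb hext i _ h3)
    (fun i => Classical.choice (nonempty_data (lamObj_ext hext i _ h1)))
    (fun i => Classical.choice (nonempty_data (lamObj_ext hext i _ h2)))
    (fun i => Classical.choice (nonempty_data (lamObj_ext hext i _ h3))) n
  refine key.trans (Finset.sum_congr rfl (fun i _ => ?_))
  rw [mul_def, mulK_cl (lamObj_vb hext i _ h1) (lamObj_vb hext _ _ h3)]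

theorem exists_lamHom : ∃ Λ : SGA6.Kvb X →+ Additive (PowerSeries (SGA6.Kvb X))ˣ,
    ∀ E : X.Modules, FlatMod.IsFinLocFree E → Λ (KRR.cl X E) = lamT hext E :=
  exists_lift_K0sub (KRR.vbP X) (lamT hext) (fun S hS h1 h2 h3 => lamT_additive hext S hS h1 h2 h3)

/-- `λ_t : Kvb X → 1 + t Kvb X[[t]]` -/
def lamHom : SGA6.Kvb X →+ Additive (PowerSeries (SGA6.Kvb X))ˣ := (exists_lamHom hext).choose

theorem lamHom_cl (E : X.Modules) (hE : FlatMod.IsFinLocFree E) :
    lamHom hext (KRR.cl X E) = lamT hext E := (exists_lamHom hext).choose_spec E hE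

/-- the λ-operations -/
def lamK (k : ℕ) (x : SGA6.Kvb X) : SGA6.Kvb X := PowerSeries.coeff k (ser (lamHom hext x))

theorem lamK_cl (k : ℕ) (E : X.Modules) (hE : FlatMod.IsFinLocFree E) :
    lamK hext k (KRR.cl X E) = KRR.cl X (lamObj hext k E hE) := by
  rw [lamK, lamHom_cl hext E hE, lamT, dif_pos hE, coeff_ser_mkU]

theorem lamK_props :
    (∀ x : SGA6.Kvb X, lamK hext 0 x = KRR.cl X (Coh.structureModule X)) ∧
    (∀ x : SGA6.Kvb X, lamK hext 1 x = x) ∧
    ∀ (k : ℕ) (x y : SGA6.Kvb X), lamK hext k (x + y) =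
      ∑ i ∈ Finset.range (k + 1), mulK (lamK hext i x) (lamK hext (k - i) y) := by
  have h := coeff_props (lamHom hext)
    {x : SGA6.Kvb X | ∃ F : X.Modules, KRR.vbP X F ∧ x = clSub (KRR.vbP X) F}
    (closure_clSub (KRR.vbP X))
    (by
      rintro _ ⟨F, hF, rfl⟩
      exact (lamK_cl hext 0 F hF).trans (cl_lamObj_zero hext F hF))
    (by
      rintro _ ⟨F, hF, rfl⟩
      exact (lamK_cl hext 1 F hF).trans (cl_lamObj_one hext F hF))
  exact ⟨h.1, h.2.1, h.2.2⟩

end

end Groth.Agent.Lib.Helper20.KvbLam
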