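import Groth.Agent.Lib.Helper20.KPr
import Groth.Agent.Lib.Lead.ModTensor
import Groth.Agent.Lib.Helper16.FLF5

/-!
# The multiplication on `K₀` of vector bundles (helper20)

* `mulK : Kvb X →+ Kvb X →+ Kvb X` with `mulK [E] [F] = [E ⊗ F]`, commutative, associative,
  with unit `[O_X]`.
* `Kvb_induction`.
-/

set_option autoImplicit false
universe u

open CategoryTheory CategoryTheory.Limits AlgebraicGeometry Opposite TopologicalSpace
open Groth.Agent.Lib.Helper20.KPr Groth.Agent.Lib.helper7.K0API Groth.Agent.Lib.helper8.Dev KZero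
  Groth.Agent.Lib.Lead.ModTensor

namespace Groth.Agent.Lib.Helper20.KvbMul

noncomputable section

variable {X : Scheme.{u}}

theorem Kvb_induction {p : SGA6.Kvb X → Prop}
    (hcl : ∀ E : X.Modules, FlatMod.IsFinLocFree E → p (KRR.cl X E))
    (h0 : p 0) (hadd : ∀ x y, p x → p y → p (x + y)) (hneg : ∀ x, p x → p (-x)) : ∀ x, p x := by
  intro x
  have hx : x ∈ (⊤ : AddSubgroup (SGA6.Kvb X)) := trivial
  rw [← closure_clSub (KRR.vbP X)] at hx
  induction hx using AddSubgroup.closure_induction with
  | mem s hs =>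
    obtain ⟨F, hF, rfl⟩ := hs
    exact hcl F hF
  | zero => exact h0
  | add a b _ _ ha hb => exact hadd a b ha hb
  | neg a _ ha => exact hneg a ha

/-- `tensK` is additive in the bundle -/
theorem tensK_additive (S : ShortComplex X.Modules) (hS : S.ShortExact)
    (h1 : FlatMod.IsFinLocFree S.X₁) (h2 : FlatMod.IsFinLocFree S.X₂)
    (h3 : FlatMod.IsFinLocFree S.X₃) : tensK h2 = tensK h1 + tensK h3 := by
  refine hom_ext_vb _ _ (fun M hM => ?_)
  rw [AddMonoidHom.add_apply, tensK_cl h2 hM, tensK_cl h1 hM, tensK_cl h3 hM,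
    cl_iso (braid M S.X₂), cl_iso (braid M S.X₁), cl_iso (braid M S.X₃),
    ← tensK_cl hM h2, ← tensK_cl hM h1, ← tensK_cl hM h3, ← map_add]
  exact congrArg _ (clSub_rel (KRR.vbP X) S hS h1 h2 h3)

open Classical in
theorem exists_mulR : ∃ ψ : SGA6.Kvb X →+ SGA6.Kvb X →+ SGA6.Kvb X,
    ∀ (F : X.Modules) (hF : FlatMod.IsFinLocFree F), ψ (KRR.cl X F) = tensK hF := by
  obtain ⟨ψ, hψ⟩ := exists_lift_K0sub (KRR.vbP X)
    (fun F => if hF : FlatMod.IsFinLocFree F then tensK hF else 0) (by
      intro S hS h1 h2 h3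
      have e1 : FlatMod.IsFinLocFree S.X₁ := h1
      have e2 : FlatMod.IsFinLocFree S.X₂ := h2
      have e3 : FlatMod.IsFinLocFree S.X₃ := h3
      simp only [dif_pos e1, dif_pos e2, dif_pos e3]
      exact tensK_additive S hS h1 h2 h3)
  exact ⟨ψ, fun F hF => by rw [hψ F hF, dif_pos hF]⟩

/-- the multiplication of `Kvb X` -/
def mulK : SGA6.Kvb X →+ SGA6.Kvb X →+ SGA6.Kvb X := (exists_mulR (X := X)).choose.flip

theorem mulK_cl {E F : X.Modules} (hE : FlatMod.IsFinLocFree E) (hF : FlatMod.IsFinLocFree F) :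
    mulK (KRR.cl X E) (KRR.cl X F) = KRR.cl X (CohB1.tensorMod E F) := by
  show (exists_mulR (X := X)).choose (KRR.cl X F) (KRR.cl X E) = _
  rw [(exists_mulR (X := X)).choose_spec F hF, tensK_cl hF hE]

theorem mulK_comm (x y : SGA6.Kvb X) : mulK x y = mulK y x := by
  revert y
  refine Kvb_induction (p := fun x => ∀ y, mulK x y = mulK y x) (fun E hE => ?_) ?_ ?_ ?_ x
  · refine Kvb_induction (fun F hF => ?_) ?_ ?_ ?_
    · rw [mulK_cl hE hF, mulK_cl hF hE]
      exact cl_iso (braid E F)
    · simp only [map_zero, AddMonoidHom.zero_apply]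
    · intro a b ha hb
      simp only [map_add, AddMonoidHom.add_apply, ha, hb]
    · intro a ha
      simp only [map_neg, AddMonoidHom.neg_apply, ha]
  · intro y
    simp only [map_zero, AddMonoidHom.zero_apply]
  · intro a b ha hb y
    simp only [map_add, AddMonoidHom.add_apply, ha, hb]
  · intro a ha y
    simp only [map_neg, AddMonoidHom.neg_apply, ha]

theorem mulK_assoc (x y z : SGA6.Kvb X) : mulK (mulK x y) z = mulK x (mulK y z) := by
  revert y z
  refine Kvb_induction (p := fun x => ∀ y z, mulK (mulK x y) z = mulK x (mulK y z))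
    (fun E hE => ?_) ?_ ?_ ?_ x
  · refine Kvb_induction (p := fun y => ∀ z, mulK (mulK (KRR.cl X E) y) z =
      mulK (KRR.cl X E) (mulK y z)) (fun F hF => ?_) ?_ ?_ ?_
    · refine Kvb_induction (fun G hG => ?_) ?_ ?_ ?_
      · rw [mulK_cl hE hF, mulK_cl hF hG,
          mulK_cl (Groth.Agent.Lib.helper16.FLFTensor.isFinLocFree_tensor hE hF) hG,
          mulK_cl hE (Groth.Agent.Lib.helper16.FLFTensor.isFinLocFree_tensor hF hG)]
        exact cl_iso (assoc E F G)
      · simp only [map_zero, AddMonoidHom.zero_apply]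
      · intro a b ha hb
        simp only [map_add, AddMonoidHom.add_apply, ha, hb]
      · intro a ha
        simp only [map_neg, AddMonoidHom.neg_apply, ha]
    · intro z
      simp only [map_zero, AddMonoidHom.zero_apply]
    · intro a b ha hb z
      simp only [map_add, AddMonoidHom.add_apply, ha, hb]
    · intro a ha z
      simp only [map_neg, AddMonoidHom.neg_apply, ha]
  · intro y z
    simp only [map_zero, AddMonoidHom.zero_apply]
  · intro a b ha hb y z
    simp only [map_add, AddMonoidHom.add_apply, ha, hb]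
  · intro a ha y z
    simp only [map_neg, AddMonoidHom.neg_apply, ha]

theorem vb_unit : FlatMod.IsFinLocFree (Coh.structureModule X) :=
  Groth.Agent.Lib.helper16.FLF.isFinLocFree_structureModule X

theorem mulK_one (x : SGA6.Kvb X) : mulK (KRR.cl X (Coh.structureModule X)) x = x := by
  refine Kvb_induction (p := fun x => mulK (KRR.cl X (Coh.structureModule X)) x = x)
    (fun E hE => ?_) ?_ ?_ ?_ x
  · rw [mulK_cl vb_unit hE]
    exact cl_iso (leftUnitor E)
  · simp only [map_zero]
  · intro a b ha hb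
    simp only [map_add, ha, hb]
  · intro a ha
    simp only [map_neg, ha]

end

end Groth.Agent.Lib.Helper20.KvbMul
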