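import Mathlib
import Groth.Agent.Lib.Helper3.LamRing

/-!
# Nilpotence of the augmentation ideal of a λ-ring with an ample line element (helper20)

* `isNilpotent_of_add_eq_natCast`: if `m = e + e'` with `e, e'` positive, then `e - ε(e)` is nilpotent.
* `isNilpotent_pos_sub_aug`: with an ample line element, `e - ε(e)` is nilpotent for every positive `e`.
* `isNilpotent_of_aug_eq_zero`: with an ample line element, every element of augmentation `0` is nilpotent.
-/

set_option autoImplicit false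
universe v

namespace Groth.Agent.Lib.Helper20.LamNil

open LambdaRing Groth.Agent.Lib.helper3.LamRing Polynomial

section Poly

variable {K : Type v} [CommRing K]

theorem coeff_zero_one_sub_X_pow (l : ℕ) : ((1 - X : K[X]) ^ l).coeff 0 = 1 := by
  rw [coeff_zero_eq_eval_zero]
  simp

theorem coeff_one_one_sub_X_pow (l : ℕ) : ((1 - X : K[X]) ^ l).coeff 1 = -(l : K) := by
  induction l with
  | zero => simp [coeff_one]
  | succ l ih =>
    rw [pow_succ, mul_coeff_one, ih, coeff_zero_one_sub_X_pow]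
    simp only [coeff_sub, coeff_one, coeff_X]
    simp

/-- evaluation of bivariate polynomials at `(X, 1 - X)` -/
noncomputable def hEval : MvPolynomial (Fin 2) K →ₐ[K] K[X] :=
  MvPolynomial.aeval ![X, 1 - X]

theorem hEval_homogenize (p : K[X]) (n : ℕ) :
    hEval (p.homogenize n) =
      ∑ k ∈ Finset.range (n + 1), C (p.coeff k) * (X ^ k * (1 - X) ^ (n - k)) := by
  rw [← Finset.Nat.sum_antidiagonal_eq_sum_range_succ
    (fun k l => C (p.coeff k) * (X ^ k * (1 - X : K[X]) ^ l)) n]
  unfold hEval Polynomial.homogenize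
  rw [map_sum]
  refine Finset.sum_congr rfl (fun kl _ => ?_)
  rw [MvPolynomial.aeval_monomial]
  simp [Finsupp.prod_fintype, Fin.prod_univ_two]

theorem coeff_one_hEval_homogenize (p : K[X]) (n : ℕ) :
    (hEval (p.homogenize (n + 1))).coeff 1 = p.coeff 1 - ((n + 1 : ℕ) : K) * p.coeff 0 := by
  rw [hEval_homogenize, Finset.sum_range_succ', Finset.sum_range_succ']
  rw [coeff_add, coeff_add, finset_sum_coeff]
  have h2 : ∀ k ∈ Finset.range n,
      (C (p.coeff (k + 1 + 1)) * (X ^ (k + 1 + 1) * (1 - X : K[X]) ^ (n + 1 - (k + 1 + 1)))).coeff 1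
        = 0 := by
    intro k _
    rw [coeff_C_mul, coeff_X_pow_mul', if_neg (by omega), mul_zero]
  rw [Finset.sum_eq_zero h2, zero_add]
  rw [coeff_C_mul, coeff_C_mul, coeff_X_pow_mul', coeff_X_pow_mul', if_pos (by omega),
    if_pos (by omega)]
  simp only [Nat.sub_zero, zero_add, Nat.sub_self]
  rw [coeff_zero_one_sub_X_pow, coeff_one_one_sub_X_pow]
  ring

theorem homogenize_one_add_X_pow (m : ℕ) :
    ((1 + X : K[X]) ^ m).homogenize m = (MvPolynomial.X 0 + MvPolynomial.X 1) ^ m := by
  induction m with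
  | zero => simp [homogenize_one]
  | succ m ih =>
    have h1 : ((1 + X : K[X]) ^ m).natDegree ≤ m := by
      refine (natDegree_pow_le).trans ?_
      have : (1 + X : K[X]).natDegree ≤ 1 := by
        refine (natDegree_add_le _ _).trans ?_
        simp [natDegree_X_le]
      calc m * (1 + X : K[X]).natDegree ≤ m * 1 := Nat.mul_le_mul_left _ this
        _ = m := mul_one _
    have h2 : (1 + X : K[X]).natDegree ≤ 1 := by
      refine (natDegree_add_le _ _).trans ?_
      simp [natDegree_X_le]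
    rw [pow_succ, homogenize_mul _ _ h1 h2, ih, pow_succ, homogenize_add, homogenize_one,
      homogenize_X one_ne_zero]
    simp
    ring

theorem hEval_homogenize_one_add_X_pow (m : ℕ) :
    hEval (((1 + X : K[X]) ^ m).homogenize m) = 1 := by
  rw [homogenize_one_add_X_pow, map_pow, map_add]
  unfold hEval
  rw [MvPolynomial.aeval_X, MvPolynomial.aeval_X]
  simp

/-- if `(1+X)^(r+s) = p q` with `deg p ≤ r`, `deg q ≤ s`, `r ≥ 1`, then `p₁ - r p₀` is nilpotent -/
theorem isNilpotent_of_mul_eq (p q : K[X]) (r s : ℕ) (hp : p.natDegree ≤ r + 1)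
    (hq : q.natDegree ≤ s) (h : (1 + X : K[X]) ^ (r + 1 + s) = p * q) :
    IsNilpotent (p.coeff 1 - ((r + 1 : ℕ) : K) * p.coeff 0) := by
  have h1 := hEval_homogenize_one_add_X_pow (K := K) (r + 1 + s)
  rw [h, homogenize_mul _ _ hp hq, map_mul] at h1
  have hu : IsUnit (hEval (p.homogenize (r + 1))) := IsUnit.of_mul_eq_one _ h1
  have h2 := (isUnit_iff_coeff_isUnit_isNilpotent.mp hu).2 1 one_ne_zero
  rwa [coeff_one_hEval_homogenize] at h2

end Poly

section Lam

variable {K : Type v} [CommRing K] [LambdaOps K]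

/-- the polynomial `λ_t(e)` of a positive element -/
theorem exists_poly_lamSeries (P : PosStructure K) {e : K} (he : e ∈ P.pos) :
    ∃ (r : ℕ) (p : K[X]), P.aug e = ((r + 1 : ℕ) : ℤ) ∧ p.natDegree ≤ r + 1 ∧
      (p : PowerSeries K) = lamSeries e ∧ p.coeff 0 = 1 ∧ p.coeff 1 = e := by
  have hpos := P.aug_pos e he
  obtain ⟨r, hr⟩ : ∃ r : ℕ, P.aug e = ((r + 1 : ℕ) : ℤ) :=
    ⟨(P.aug e).toNat - 1, by omega⟩
  refine ⟨r, PowerSeries.trunc (r + 1 + 1) (lamSeries e), hr, ?_, ?_, ?_, ?_⟩
  · exact Nat.lt_succ_iff.mp (PowerSeries.natDegree_trunc_lt _ _)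
  · ext n
    rw [Polynomial.coeff_coe, PowerSeries.coeff_trunc]
    split_ifs with hn
    · rfl
    · rw [coeff_lamSeries, P.lam_eq_zero e he n (by rw [hr]; push_cast; omega)]
  · rw [PowerSeries.coeff_trunc, if_pos (by omega), coeff_lamSeries, LambdaOps.lam_zero]
  · rw [PowerSeries.coeff_trunc, if_pos (by omega), coeff_lamSeries, LambdaOps.lam_one]

/-- if `m = e + e'` with `e, e'` positive and `m` a natural number, then `e - ε(e)` is nilpotent -/
theorem isNilpotent_of_add_eq_natCast (P : PosStructure K) {e e' : K} (he : e ∈ P.pos)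
    (he' : e' ∈ P.pos) (m : ℕ) (hm : (m : K) = e + e') :
    IsNilpotent (e - ((P.aug e : ℤ) : K)) := by
  obtain ⟨r, p, hr, hp, hpc, hp0, hp1⟩ := exists_poly_lamSeries P he
  obtain ⟨s, q, hs, hq, hqc, -, -⟩ := exists_poly_lamSeries P he'
  have haug : m = r + 1 + (s + 1) := by
    have h := congrArg P.aug hm
    rw [map_natCast, map_add, hr, hs] at h
    exact_mod_cast h
  have hpoly : (1 + X : K[X]) ^ (r + 1 + (s + 1)) = p * q := by
    apply Polynomial.coe_injective
    rw [Polynomial.coe_pow, Polynomial.coe_add, Polynomial.coe_one, Polynomial.coe_X,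
      Polynomial.coe_mul, hpc, hqc, ← lamSeries_add, ← hm, haug, lamSeries_natCast P]
  have h := isNilpotent_of_mul_eq p q r (s + 1) hp hq hpoly
  rw [hp0, hp1, mul_one] at h
  rw [hr]
  exact_mod_cast h

/-- with an ample line element, `e - ε(e)` is nilpotent for every positive element `e` -/
theorem isNilpotent_pos_sub_aug (P : PosStructure K) {u : K} (hu : KRR.IsAmpleElt P u)
    (hline : ∀ w : K, P.IsLine w → IsNilpotent (w - 1)) {e : K} (he : e ∈ P.pos) :
    IsNilpotent (e - ((P.aug e : ℤ) : K)) := by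
  obtain ⟨hul, hamp⟩ := hu
  obtain ⟨n₀, h₀⟩ := hamp (-e)
  obtain ⟨e', m, he', hm⟩ := h₀ n₀ le_rfl
  have hl : P.IsLine (u ^ n₀) := isLine_pow P hul n₀
  have hpos : u ^ n₀ * e ∈ P.pos := P.mul_mem _ _ hl.1 he
  have hm' : (m : K) = u ^ n₀ * e + e' := by
    have : (m : K) = e' - u ^ n₀ * (-e) := by rw [hm]; ring
    rw [this]; ring
  have h1 := isNilpotent_of_add_eq_natCast P hpos he' m hm'
  rw [map_mul, hl.2, one_mul] at h1
  have h2 : IsNilpotent (u ^ n₀ - 1) := hline _ hl
  have h3 : IsNilpotent (u ^ n₀ * (e - ((P.aug e : ℤ) : K))) := by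
    have h4 : u ^ n₀ * (e - ((P.aug e : ℤ) : K)) =
        (u ^ n₀ * e - ((P.aug e : ℤ) : K)) - ((P.aug e : ℤ) : K) * (u ^ n₀ - 1) := by ring
    rw [h4]
    exact (Commute.all _ _).isNilpotent_sub h1 ((Commute.all _ _).isNilpotent_mul_left h2)
  obtain ⟨uu, huu⟩ := isUnit_of_isLine P hl
  rw [← huu] at h3
  exact (IsUnit.isNilpotent_mul_unit_of_commute_iff uu.isUnit (Commute.all _ _)).mp
    (by rwa [mul_comm] at h3)

/-- with an ample line element, every element of augmentation zero is nilpotent -/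
theorem isNilpotent_of_aug_eq_zero (P : PosStructure K) {u : K} (hu : KRR.IsAmpleElt P u)
    (hline : ∀ w : K, P.IsLine w → IsNilpotent (w - 1)) (x : K) (hx : P.aug x = 0) :
    IsNilpotent x := by
  obtain ⟨e, f, he, hf, rfl⟩ := P.exists_sub x
  have h1 := isNilpotent_pos_sub_aug P hu hline he
  have h2 := isNilpotent_pos_sub_aug P hu hline hf
  have haug : P.aug e = P.aug f := by
    rw [map_sub] at hx
    exact sub_eq_zero.mp hx
  have h3 : e - f = (e - ((P.aug e : ℤ) : K)) - (f - ((P.aug f : ℤ) : K)) := by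
    rw [haug]; ring
  rw [h3]
  exact (Commute.all _ _).isNilpotent_sub h1 h2

end Lam

end Groth.Agent.Lib.Helper20.LamNil
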