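import Mathlib

/-!
# Units of a base change along an augmentation with nil kernel (helper20)
-/

set_option autoImplicit false
universe v

open scoped TensorProduct

namespace Groth.Agent.Lib.Helper20.LamNil2

variable {K : Type v} [CommRing K] (ε : K →+* ℤ) (A : Type v) [CommRing A]

/-- the augmentation base changed to `A` -/
noncomputable abbrev fA : A ⊗[ℤ] K →ₐ[ℤ] A ⊗[ℤ] ℤ :=
  Algebra.TensorProduct.map (AlgHom.id ℤ A) ε.toIntAlgHom

/-- the section of `fA` -/
noncomputable abbrev gA : A ⊗[ℤ] ℤ →ₐ[ℤ] A ⊗[ℤ] K :=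
  Algebra.TensorProduct.map (AlgHom.id ℤ A) (Algebra.ofId ℤ K)

theorem fA_gA (c : A ⊗[ℤ] ℤ) : fA ε A (gA (K := K) A c) = c := by
  have h : (fA ε A).comp (gA (K := K) A) = AlgHom.id ℤ _ := by
    unfold fA gA
    rw [← Algebra.TensorProduct.map_comp]
    have h1 : ε.toIntAlgHom.comp (Algebra.ofId ℤ K) = AlgHom.id ℤ ℤ := Subsingleton.elim _ _
    rw [h1, AlgHom.comp_id, Algebra.TensorProduct.map_id]
  exact congrArg (fun φ => φ c) h

theorem isNilpotent_sub (hε : ∀ x : K, ε x = 0 → IsNilpotent x) (y : A ⊗[ℤ] K) :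
    IsNilpotent (y - gA (K := K) A (fA ε A y)) := by
  induction y using TensorProduct.induction_on with
  | zero => simp
  | tmul a x =>
    have h1 : a ⊗ₜ[ℤ] x - gA (K := K) A (fA ε A (a ⊗ₜ[ℤ] x)) =
        a ⊗ₜ[ℤ] (x - algebraMap ℤ K (ε x)) := by
      rw [TensorProduct.tmul_sub]
      congr 1
    rw [h1]
    obtain ⟨n, hn⟩ := hε (x - algebraMap ℤ K (ε x)) (by
      rw [map_sub, sub_eq_zero]
      simp)
    refine ⟨n, ?_⟩
    rw [Algebra.TensorProduct.tmul_pow, hn, TensorProduct.tmul_zero]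
  | add y₁ y₂ h₁ h₂ =>
    have h : y₁ + y₂ - gA (K := K) A (fA ε A (y₁ + y₂)) =
        (y₁ - gA (K := K) A (fA ε A y₁)) + (y₂ - gA (K := K) A (fA ε A y₂)) := by
      rw [map_add, map_add]; ring
    rw [h]
    exact (Commute.all _ _).isNilpotent_add h₁ h₂

/-- **units are detected by the augmentation** -/
theorem isUnit_iff (hε : ∀ x : K, ε x = 0 → IsNilpotent x) (y : A ⊗[ℤ] K) :
    IsUnit y ↔ IsUnit (Algebra.TensorProduct.map (AlgHom.id ℤ A) ε.toIntAlgHom y) := by
  refine ⟨fun h => h.map (fA ε A), fun h => ?_⟩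
  obtain ⟨c, hc⟩ := h.exists_right_inv
  have h1 : gA (K := K) A (fA ε A y) * gA (K := K) A c = 1 := by
    rw [← map_mul]
    have : fA ε A y * c = 1 := hc
    rw [this, map_one]
  have h2 : y * gA (K := K) A c = 1 + (y - gA (K := K) A (fA ε A y)) * gA (K := K) A c := by
    rw [sub_mul, h1]; ring
  have h3 : IsUnit (y * gA (K := K) A c) := by
    rw [h2]
    exact IsNilpotent.isUnit_one_add
      ((Commute.all _ _).isNilpotent_mul_right (isNilpotent_sub ε A hε y))
  exact isUnit_of_mul_isUnit_left h3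

end Groth.Agent.Lib.Helper20.LamNil2
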