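import Mathlib
import Groth.Agent.Lib.Helper20.AmpleElt2
import Groth.Agent.Lib.Helper20.LamNil

/-!
# Finitely generated sub-λ-rings of a λ-ring with nil augmentation ideal (helper20)
-/

set_option autoImplicit false
universe v u

open CategoryTheory CategoryTheory.Limits AlgebraicGeometry

namespace Groth.Agent.Lib.Helper20.LamNil3

section Alg

variable {K : Type v} [CommRing K] (ε : K →+* ℤ)

theorem isIntegral_of_nil (hε : ∀ x : K, ε x = 0 → IsNilpotent x) (y : K) : IsIntegral ℤ y := by
  obtain ⟨n, hn⟩ := hε (y - ((ε y : ℤ) : K)) (by rw [map_sub, map_intCast]; simp)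
  refine ⟨(Polynomial.X - Polynomial.C (ε y)) ^ n,
    (Polynomial.monic_X_sub_C _).pow n, ?_⟩
  rw [Polynomial.eval₂_pow, Polynomial.eval₂_sub, Polynomial.eval₂_X, Polynomial.eval₂_C]
  simpa using hn

/-- the subring generated by finitely many elements is a finitely generated group and its
augmentation ideal is nilpotent -/
theorem nilpotent_and_fg (hε : ∀ x : K, ε x = 0 → IsNilpotent x) (S : Set K) (hS : S.Finite) :
    (∃ n : ℕ, ∀ f : Fin n → K, (∀ t : Fin n, f t ∈ Subring.closure S ∧ ε (f t) = 0) →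
        ∏ t, f t = 0) ∧
    (Subring.closure S).toAddSubgroup.FG := by
  constructor
  · let T : Set K := (fun y => y - ((ε y : ℤ) : K)) '' S
    have hT : T.Finite := hS.image _
    let J : Ideal K := Ideal.span T
    have hJfg : J.FG := ⟨hT.toFinset, by simp [J]⟩
    have hJnil : J ≤ nilradical K := by
      refine Ideal.span_le.mpr ?_
      rintro _ ⟨y, _, rfl⟩
      exact hε _ (by rw [map_sub, map_intCast]; simp)
    obtain ⟨n, hn⟩ := hJfg.isNilpotent_iff_le_nilradical.mpr hJnil
    have hmem : ∀ x ∈ Subring.closure S, x - ((ε x : ℤ) : K) ∈ J := by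
      intro x hx
      induction hx using Subring.closure_induction with
      | mem y hy => exact Ideal.subset_span ⟨y, hy, rfl⟩
      | zero => simp
      | one => simp
      | add x y _ _ hx hy =>
        have : x + y - ((ε (x + y) : ℤ) : K) = (x - ((ε x : ℤ) : K)) + (y - ((ε y : ℤ) : K)) := by
          rw [map_add]; push_cast; ring
        rw [this]
        exact J.add_mem hx hy
      | neg x _ hx =>
        have : -x - ((ε (-x) : ℤ) : K) = -(x - ((ε x : ℤ) : K)) := by
          rw [map_neg]; push_cast; ring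
        rw [this]
        exact J.neg_mem hx
      | mul x y _ _ hx hy =>
        have : x * y - ((ε (x * y) : ℤ) : K) =
            (x - ((ε x : ℤ) : K)) * y + ((ε x : ℤ) : K) * (y - ((ε y : ℤ) : K)) := by
          rw [map_mul]; push_cast; ring
        rw [this]
        exact J.add_mem (J.mul_mem_right _ hx) (J.mul_mem_left _ hy)
    refine ⟨n, fun f hf => ?_⟩
    have h1 : ∏ t, f t ∈ ∏ _t : Fin n, J := by
      refine Ideal.prod_mem_prod (fun t _ => ?_)
      have := hmem (f t) (hf t).1
      rwa [(hf t).2, Int.cast_zero, sub_zero] at this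
    rw [Finset.prod_const, Finset.card_univ, Fintype.card_fin, hn] at h1
    exact h1
  · have h1 : (Algebra.adjoin ℤ S).toSubmodule.FG :=
      fg_adjoin_of_finite hS (fun x _ => isIntegral_of_nil ε hε x)
    rw [Submodule.fg_iff_addSubgroup_fg] at h1
    have h2 : (Algebra.adjoin ℤ S).toSubmodule.toAddSubgroup = (Subring.closure S).toAddSubgroup := by
      rw [Algebra.adjoin_int]
      rfl
    rwa [h2] at h1

end Alg

section Model

open Groth.Agent.Lib.helper3.LamRing Groth.Agent.Lib.helper8.Dev

variable {X : Scheme.{u}} {K : Type v} [CommRing K] [LambdaRing.LambdaOps K]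
  {P : LambdaRing.PosStructure K} {φ : SGA6.Kvb X →+ K}

/-- `λ^j` of the class of a bundle vanishes for large `j` -/
theorem exists_lam_eq_zero [ConnectedSpace X] (hK : KRR.IsModel X K P φ) (E : X.Modules)
    (hE : FlatMod.IsFinLocFree E) :
    ∃ r : ℕ, ∀ j, r < j → LambdaRing.LambdaOps.lam j (φ (KRR.cl X E)) = 0 := by
  obtain ⟨r, hr⟩ := AmpleElt.exists_rank E hE
  refine ⟨r, fun j hj => ?_⟩
  rcases Nat.eq_zero_or_pos r with h0 | hpos
  · subst h0
    have hz : KRR.cl X E = 0 :=
      clSub_zero (KRR.vbP X) AmpleElt.vb_zero _ (AmpleElt.isZero_of_rank_zero _ hr)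
    rw [hz, map_zero]
    have h := lamSeries_natCast P 0
    rw [Nat.cast_zero, pow_zero] at h
    have h2 := congrArg (PowerSeries.coeff j) h
    rw [coeff_lamSeries, PowerSeries.coeff_one, if_neg (by omega)] at h2
    exact h2
  · have hpos' : φ (KRR.cl X E) ∈ P.pos := (hK.mem_pos_iff _).mpr ⟨r, E, hpos, hr, rfl⟩
    exact P.lam_eq_zero _ hpos' j (by rw [hK.aug_cl r E hr]; exact_mod_cast hj)

/-- the set of all `λ^j [E_i]` is finite -/
theorem finite_lam_set [ConnectedSpace X] (hK : KRR.IsModel X K P φ) (k : ℕ)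
    (E : Fin k → X.Modules) (hE : ∀ i : Fin k, FlatMod.IsFinLocFree (E i)) :
    {y : K | ∃ (i : Fin k) (j : ℕ),
      y = LambdaRing.LambdaOps.lam j (φ (KRR.cl X (E i)))}.Finite := by
  choose r hr using fun i => exists_lam_eq_zero hK (E i) (hE i)
  have hfin : ((⋃ i : Fin k, (fun j => LambdaRing.LambdaOps.lam j (φ (KRR.cl X (E i)))) ''
      (Set.Iic (r i))) ∪ {(0 : K)}).Finite :=
    (Set.finite_iUnion (fun i => (Set.finite_Iic (r i)).image _)).union (Set.finite_singleton _)
  refine hfin.subset ?_
  rintro y ⟨i, j, rfl⟩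
  by_cases hj : j ≤ r i
  · exact Or.inl (Set.mem_iUnion.mpr ⟨i, j, hj, rfl⟩)
  · exact Or.inr (hr i j (by omega))

end Model

end Groth.Agent.Lib.Helper20.LamNil3
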