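import Mathlib
import Groth.Agent.Lib.Helper20.LinRes

/-!
# Coherence and regularity of `∐ O(c j)` on `P^n_k` (helper20)
-/

set_option autoImplicit false
universe u

open CategoryTheory CategoryTheory.Limits AlgebraicGeometry Opposite TopologicalSpace

namespace Groth.Agent.Lib.helper20.SumTwReg

open Groth.Agent.Lib.Helper20.TwistEquivPn Groth.Agent.Lib.Helper20.TensorEquiv
  Groth.Agent.Lib.Lead.ModTensor Groth.Agent.Lib.helper28 Groth.Agent.Lib.helper20.CMReg
  Groth.Agent.Lib.helper20.CMGG Groth.Agent.Lib.Helper18.HH Groth.Agent.Lib.helper20.LinRes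

variable {k : Type u} [Field k] {n : ℕ}

/-- `(∐ O(c j)) ⊗ O(d) ≅ ∐ O(c j + d)` -/
noncomputable def sigmaTwistIso' (b : ℕ) (c : Fin b → ℤ) (d : ℤ) :
    CohB1.tensorMod (∐ fun j : Fin b => Twist.twistProjSpace n k (c j))
      (Twist.twistProjSpace n k d) ≅
      ∐ fun j : Fin b => Twist.twistProjSpace n k (c j + d) := by
  have := isEquivalence_tensorRight (invIso n k d)
  exact (PreservesCoproduct.iso (tensorRight (Twist.twistProjSpace n k d))
    (fun j : Fin b => Twist.twistProjSpace n k (c j))) ≪≫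
      Sigma.mapIso (fun j => TwistPn.tensorIso n k (c j) d)

lemma subsingleton_HH_sigma_twist' (b : ℕ) (c : Fin b → ℤ) (d : ℤ) (q : ℕ)
    (h : ∀ j, Subsingleton (Coh.HH (CohB1.ProjSpace n k) (Twist.twistProjSpace n k (c j + d)) q)) :
    Subsingleton (Coh.HH (CohB1.ProjSpace n k)
      (CohB1.tensorMod (∐ fun j : Fin b => Twist.twistProjSpace n k (c j))
        (Twist.twistProjSpace n k d)) q) := by
  refine subsingleton_of_iso (sigmaTwistIso' b c d).symm q ?_
  exact (sigmaEquiv (fun j : Fin b => Twist.twistProjSpace n k (c j + d)) q).toEquiv.subsingleton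

lemma isCoh_sigma' (b : ℕ) (c : Fin b → ℤ) :
    Coh.IsCoh (∐ fun j : Fin b => Twist.twistProjSpace n k (c j)) :=
  Groth.Agent.Lib.Lead.SerreFin.isCoh_of_isFinLocFree
    (Groth.Agent.Lib.Lead.SerreFin.isFinLocFree_sigma _ fun j =>
      Groth.Agent.Lib.helper16.FLF.isFinLocFree_of_isInvertible
        (TwistPn.isInvertible n k (c j)))

/-- `∐ O(c j)` is `m`-regular when `-c j ≤ m` for all `j` -/
theorem regular_sigma (b : ℕ) (c : Fin b → ℤ) (m : ℤ) (h : ∀ j, -c j ≤ m) :
    Curv2.IsMRegular k n (∐ fun j : Fin b => Twist.twistProjSpace n k (c j)) m := by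
  intro i hi1 hin
  refine subsingleton_HH_sigma_twist' b c (m - i) i fun j => ?_
  have := h j
  exact Groth.Agent.S0844.result k n (c j + (m - i)) i (by omega) (by omega)

end Groth.Agent.Lib.helper20.SumTwReg
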