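import Mathlib
import Groth.Agent.Lib.Helper20.Gaeta
import Groth.Agent.Lib.Helper20.H0Vanish
import Groth.Agent.Lib.Lead.SerreVan
import Groth.Agent.Lib.Helper20.SumTwReg

/-!
# Resolutions by negative twists on the projective plane (helper20)

A finite locally free module `G` on `P²_k` with `H^0(G) = 0` has a resolution
`0 → ⊕ O(k_i) → ⊕ O(m_j) → G → 0` with all `k_i, m_j < 0`: generate `⊕_e H^0(G(e))` and apply
Horrocks' criterion to the kernel.
-/

set_option autoImplicit false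
universe u

open CategoryTheory CategoryTheory.Limits AlgebraicGeometry Opposite TopologicalSpace

namespace Groth.Agent.Lib.helper20.NegRes

open Groth.Agent.Lib.Helper20.SplitH1 Groth.Agent.Lib.helper20.GGDescent
  Groth.Agent.Lib.Helper18.HH Groth.Agent.Lib.helper20.LinRes Groth.Agent.Lib.helper20.Horrocks
  Groth.Agent.Lib.Helper20.TwistEquivPn Groth.Agent.Lib.Helper20.TensorEquiv
  Groth.Agent.Lib.Lead.ModTensor Groth.Agent.Lib.helper28 Groth.Agent.Lib.helper20.CMReg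
  Groth.Agent.Lib.helper20.CMGG Groth.Agent.Lib.helper20.Syzygy
  Groth.Agent.Lib.helper20.GaetaHom Groth.Agent.Lib.helper20.GaetaLin
  Groth.Agent.Lib.helper20.Gaeta

noncomputable section

variable {k : Type u} [Field k] {n : ℕ}

/-- a finite direct sum of twisting sheaves of negative degrees -/
def NegSplits (F : (CohB1.ProjSpace n k).Modules) : Prop :=
  ∃ (r : ℕ) (a : Fin r → ℤ), (∀ j, a j < 0) ∧
    Nonempty (F ≅ ∐ fun j => Twist.twistProjSpace n k (a j))

lemma negSplits_of_isZero {F : (CohB1.ProjSpace n k).Modules} (hz : IsZero F) :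
    NegSplits (k := k) F := by
  refine ⟨0, Fin.elim0, fun j => j.elim0, ⟨hz.iso ?_⟩⟩
  rw [IsZero.iff_id_eq_zero]
  exact Sigma.hom_ext _ _ (fun j => j.elim0)

lemma negSplits_of_biprod {F F' : (CohB1.ProjSpace n k).Modules} (c : ℤ) (hc : c < 0)
    (e : F ≅ F' ⊞ Twist.twistProjSpace n k c) (h : NegSplits (k := k) F') :
    NegSplits (k := k) F := by
  obtain ⟨r, a, ha, ⟨e'⟩⟩ := h
  let f₁ : Fin r → (CohB1.ProjSpace n k).Modules := fun j => Twist.twistProjSpace n k (a j)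
  let f₂ : Fin 1 → (CohB1.ProjSpace n k).Modules := fun _ => Twist.twistProjSpace n k c
  let c₁ : Cofan f₁ := Cofan.mk F' (fun j => Sigma.ι f₁ j ≫ e'.inv)
  have h₁ : IsColimit c₁ :=
    IsColimit.ofIsoColimit (coproductIsCoproduct f₁) (Cofan.ext e'.symm (fun j => rfl))
  let c₂ : Cofan f₂ := Cofan.mk (Twist.twistProjSpace n k c) (fun _ => 𝟙 _)
  have h₂ : IsColimit c₂ :=
    Cofan.IsColimit.mk c₂ (fun s => s.inj 0)
      (by
        intro s j
        obtain rfl : j = 0 := Subsingleton.elim _ _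
        exact Category.id_comp _)
      (by
        intro s m hm
        exact (Category.id_comp m).symm.trans (hm 0))
  let bc : BinaryCofan c₁.pt c₂.pt :=
    (BinaryBiproduct.bicone F' (Twist.twistProjSpace n k c)).toCocone
  have hbc : IsColimit bc := BinaryBiproduct.isColimit F' (Twist.twistProjSpace n k c)
  have hcomb := Cofan.combPairIsColimit h₁ h₂ hbc
  let e₃ : F' ⊞ Twist.twistProjSpace n k c ≅ ∐ (Sum.elim f₁ f₂) :=
    IsColimit.coconePointUniqueUpToIso hcomb (coproductIsCoproduct (Sum.elim f₁ f₂))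
  let a' : Fin (r + 1) → ℤ := fun j => Sum.elim a (fun _ : Fin 1 => c) (finSumFinEquiv.symm j)
  let e₄ : ∐ (Sum.elim f₁ f₂) ≅ ∐ fun j => Twist.twistProjSpace n k (a' j) :=
    Sigma.whiskerEquiv finSumFinEquiv (fun s => eqToIso (by
      simp only [a', Equiv.symm_apply_apply]
      cases s <;> rfl))
  refine ⟨r + 1, a', fun j => ?_, ⟨e ≪≫ e₃ ≪≫ e₄⟩⟩
  change Sum.elim a (fun _ : Fin 1 => c) (finSumFinEquiv.symm j) < 0
  rcases finSumFinEquiv.symm j with i | i
  · exact ha i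
  · exact hc

section Lifts

variable {G : (CohB1.ProjSpace n k).Modules}

/-- adding finitely many generators of degree `c` -/
lemma exists_extend_fin (c : ℤ) (hc : c < 0) :
    ∀ (r : ℕ) (ts : Fin r → (Twist.twistProjSpace n k c ⟶ G))
      (L : (CohB1.ProjSpace n k).Modules) (φ : L ⟶ G), NegSplits (k := k) L →
      ∃ (L' : (CohB1.ProjSpace n k).Modules) (φ' : L' ⟶ G) (ι : L ⟶ L'), ι ≫ φ' = φ ∧
        NegSplits (k := k) L' ∧ ∀ i, ∃ t' : Twist.twistProjSpace n k c ⟶ L', t' ≫ φ' = ts i := by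
  intro r
  induction r with
  | zero =>
    intro ts L φ hL
    exact ⟨L, φ, 𝟙 L, Category.id_comp _, hL, fun i => i.elim0⟩
  | succ r ih =>
    intro ts L φ hL
    obtain ⟨L', φ', ι, hι, hL', hlift⟩ := ih (fun i => ts i.castSucc) L φ hL
    refine ⟨L' ⊞ Twist.twistProjSpace n k c, biprod.desc φ' (ts (Fin.last r)), ι ≫ biprod.inl,
      by rw [Category.assoc, biprod.inl_desc, hι],
      negSplits_of_biprod c hc (Iso.refl _) hL', ?_⟩
    intro i
    refine Fin.lastCases ?_ (fun i => ?_) i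
    · exact ⟨biprod.inr, biprod.inr_desc _ _⟩
    · obtain ⟨t', ht'⟩ := hlift i
      exact ⟨t' ≫ biprod.inl, by rw [Category.assoc, biprod.inl_desc, ht']⟩

/-- adding all generators of degree `c` -/
lemma exists_extend (c : ℤ) (hc : c < 0) [Module.Finite k (Twist.twistProjSpace n k c ⟶ G)]
    (L : (CohB1.ProjSpace n k).Modules) (φ : L ⟶ G) (hL : NegSplits (k := k) L) :
    ∃ (L' : (CohB1.ProjSpace n k).Modules) (φ' : L' ⟶ G) (ι : L ⟶ L'), ι ≫ φ' = φ ∧
      NegSplits (k := k) L' ∧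
      ∀ t : Twist.twistProjSpace n k c ⟶ G, ∃ t' : Twist.twistProjSpace n k c ⟶ L', t' ≫ φ' = t := by
  let b := Module.finBasis k (Twist.twistProjSpace n k c ⟶ G)
  obtain ⟨L', φ', ι, hι, hL', hlift⟩ := exists_extend_fin c hc _ (fun i => b i) L φ hL
  refine ⟨L', φ', ι, hι, hL', fun t => ?_⟩
  choose t' ht' using hlift
  refine ⟨∑ i, (b.repr t i) • t' i, ?_⟩
  rw [Preadditive.sum_comp]
  conv_rhs => rw [← b.sum_repr t]
  refine Finset.sum_congr rfl (fun i _ => ?_)
  rw [Linear.smul_comp, ht']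

end Lifts

section P2

open Groth.Agent.Lib.helper20.H0Vanish ZeroObject

variable {k : Type u} [Field k]

/-- generators in all degrees `1, …, m` -/
lemma exists_gen {G : (CohB1.ProjSpace 2 k).Modules} (hG : Coh.IsCoh G) :
    ∀ m : ℕ, ∃ (L : (CohB1.ProjSpace 2 k).Modules) (φ : L ⟶ G), NegSplits (k := k) L ∧
      ∀ e : ℕ, 1 ≤ e → e ≤ m → ∀ t : Twist.twistProjSpace 2 k (-(e : ℤ)) ⟶ G,
        ∃ t' : Twist.twistProjSpace 2 k (-(e : ℤ)) ⟶ L, t' ≫ φ = t := by
  intro m
  induction m with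
  | zero =>
    refine ⟨0, 0, negSplits_of_isZero (isZero_zero _), fun e h1 h2 => ?_⟩
    omega
  | succ m ih =>
    obtain ⟨L, φ, hL, hlift⟩ := ih
    haveI : IsProper (CohB1.ProjSpace 2 k ↘ Spec (CommRingCat.of k)) :=
      Groth.Agent.Lib.helper19.ProjSpaceProper.proper_toSpec 2 k
    haveI : Module.Finite k (Twist.twistProjSpace 2 k (-((m + 1 : ℕ) : ℤ)) ⟶ G) :=
      Groth.Agent.Lib.Lead.KS.finite_hom k (CohB1.ProjSpace 2 k) (isCoh_O _) hG
    obtain ⟨L', φ', ι, hι, hL', hnew⟩ :=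
      exists_extend (-((m + 1 : ℕ) : ℤ)) (by push_cast; omega) L φ hL
    refine ⟨L', φ', hL', fun e h1 h2 t => ?_⟩
    rcases Nat.lt_or_ge e (m + 1) with h | h
    · obtain ⟨t', ht'⟩ := hlift e h1 (by omega) t
      exact ⟨t' ≫ ι, by rw [Category.assoc, hι, ht']⟩
    · obtain rfl : e = m + 1 := by omega
      exact hnew t

/-- a finite locally free module on `P²` without global sections has a resolution by negative
twists -/
theorem exists_negRes {G : (CohB1.ProjSpace 2 k).Modules} (hG : FlatMod.IsFinLocFree G)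
    (h0 : Subsingleton (Coh.HH (CohB1.ProjSpace 2 k) G 0)) :
    ∃ (r s : ℕ) (kk : Fin r → ℤ) (mm : Fin s → ℤ)
      (S : ShortComplex (CohB1.ProjSpace 2 k).Modules),
      S.ShortExact ∧ (∀ i, kk i < 0) ∧ (∀ j, mm j < 0) ∧
      Nonempty (S.X₁ ≅ ∐ fun i : Fin r => Twist.twistProjSpace 2 k (kk i)) ∧
      Nonempty (S.X₂ ≅ ∐ fun j : Fin s => Twist.twistProjSpace 2 k (mm j)) ∧
      Nonempty (S.X₃ ≅ G) := by
  have hGcoh : Coh.IsCoh G := Groth.Agent.Lib.Lead.RankAdd.isCoh_of_isFinLocFree hG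
  have : IsLocallyNoetherian (CohB1.ProjSpace 2 k) :=
    Groth.Agent.Lib.Lead.SerreFin.isLocallyNoetherian_projSpace 2 k
  -- `H^0(G(e)) = 0` for `e ≤ 0`
  have hG0 : ∀ e : ℤ, e ≤ 0 → Subsingleton (Coh.HH (CohB1.ProjSpace 2 k)
      (CohB1.tensorMod G (Twist.twistProjSpace 2 k e)) 0) := by
    intro e he
    by_contra hns
    rw [not_subsingleton_iff_nontrivial] at hns
    have h1 := finrank_le_of_nontrivial hG e (-e) 0 (by ring) hns
    have h2 : Module.finrank k (Coh.HH (CohB1.ProjSpace 2 k)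
        (CohB1.tensorMod G (Twist.twistProjSpace 2 k 0)) 0) = 0 := by
      haveI := subsingleton_of_iso (twistZeroIso 2 k G).symm 0 h0
      exact Module.finrank_zero_of_subsingleton
    obtain ⟨e', he'⟩ : ∃ e' : ℕ, (e' : ℤ) = -e := ⟨(-e).toNat, by omega⟩
    have h3 := finrank_H0_O_ge (k := k) (n := 2) (by norm_num) e'
    rw [he'] at h3
    have h1' : Module.finrank k (Coh.HH (CohB1.ProjSpace 2 k)
        (Twist.twistProjSpace 2 k (-e)) 0) ≤
        Module.finrank k (Coh.HH (CohB1.ProjSpace 2 k)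
          (CohB1.tensorMod G (Twist.twistProjSpace 2 k 0)) 0) := h1
    omega
  -- regularity
  obtain ⟨d₀, hd₀⟩ := Groth.Agent.Lib.Lead.SerreVan.serre_vanishing 2 k G hGcoh
  obtain ⟨m, hm1, hmd⟩ : ∃ m : ℕ, 1 ≤ m ∧ d₀ + 2 ≤ (m : ℤ) :=
    ⟨(max (d₀ + 2) 1).toNat, by omega, by omega⟩
  have hreg : Curv2.IsMRegular k 2 G (m : ℤ) := fun i hi hin => hd₀ ((m : ℤ) - i) (by omega) i hi
  obtain ⟨b, φm, hφm, hKm, -⟩ := exists_res_min hGcoh (m : ℤ) hreg
  obtain ⟨L, φ, hL, hlift⟩ := exists_gen hGcoh m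
  obtain ⟨lam, hlam⟩ : ∃ lam : (∐ fun _ : Fin b => Twist.twistProjSpace 2 k (-(m : ℤ))) ⟶ L,
      lam ≫ φ = φm := by
    choose t' ht' using fun j : Fin b => hlift m hm1 le_rfl
      (Sigma.ι (fun _ : Fin b => Twist.twistProjSpace 2 k (-(m : ℤ))) j ≫ φm)
    refine ⟨Sigma.desc t', Sigma.hom_ext _ _ (fun j => ?_)⟩
    rw [← Category.assoc, Sigma.ι_desc, ht']
  haveI hepi : Epi φ := by
    haveI : Epi (lam ≫ φ) := by rw [hlam]; exact hφm
    exact epi_of_epi lam φ
  -- surjectivity on `H^0` of all twists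
  have hsurj : ∀ e : ℤ, Function.Surjective
      (map (tensorMap φ (𝟙 (Twist.twistProjSpace 2 k e))) 0) := by
    intro e
    rcases le_or_gt e 0 with he | he
    · haveI := hG0 e he
      exact fun y => ⟨0, Subsingleton.elim _ _⟩
    rcases le_or_gt e (m : ℤ) with hem | hem
    · obtain ⟨e', rfl⟩ : ∃ e' : ℕ, (e' : ℤ) = e := ⟨e.toNat, by omega⟩
      exact surjective_of_lift (eTw (n := 2) (k := k) (-(e' : ℤ)) (e' : ℤ) (by ring)) φ
        (hlift e' (by omega) (by omega))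
    · have h1 : Function.Surjective
          (map (tensorMap φm (𝟙 (Twist.twistProjSpace 2 k e))) 0) := by
        refine surjective_map_g (shortExact_twistSC 2 k e (shortExact_kernel φm)) 0 ?_
        have hv := vanish_of_regular (isCoh_kernel hGcoh φm) hKm (e + 1) (by omega) 1 le_rfl
        have e1 : e + 1 - ((1 : ℕ) : ℤ) = e := by push_cast; ring
        rw [e1] at hv
        exact hv
      have h2 : tensorMap φm (𝟙 (Twist.twistProjSpace 2 k e)) =
          tensorMap lam (𝟙 (Twist.twistProjSpace 2 k e)) ≫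
            tensorMap φ (𝟙 (Twist.twistProjSpace 2 k e)) := by
        rw [← hlam]
        have := tensorMap_comp lam φ (𝟙 (Twist.twistProjSpace 2 k e))
          (𝟙 (Twist.twistProjSpace 2 k e))
        rw [Category.comp_id] at this
        exact this
      intro y
      obtain ⟨x, hx⟩ := h1 y
      exact ⟨map (tensorMap lam (𝟙 (Twist.twistProjSpace 2 k e))) 0 x, by
        rw [← map_comp_apply, ← h2, hx]⟩
  -- the kernel
  obtain ⟨r₀, a, ha, ⟨eL⟩⟩ := hL
  have hLcoh : Coh.IsCoh L :=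
    Groth.Agent.Lib.helper7.CohKer.isCoh_of_iso eL.symm (Groth.Agent.Lib.helper20.SumTwReg.isCoh_sigma' r₀ a)
  have hKcoh : Coh.IsCoh (kernel φ) :=
    Groth.Agent.Lib.helper7.CohKer.isCoh_kernel hLcoh hGcoh φ
  have hT : ∀ d : ℤ, (twistSC 2 k d
      (ShortComplex.mk (kernel.ι φ) φ (kernel.condition φ))).ShortExact := fun d =>
    shortExact_twistSC 2 k d (shortExact_kernel φ)
  have hLvan : ∀ (d : ℤ) (q : ℕ), (q = 0 → d ≤ 0) → q ≠ 2 →
      Subsingleton (Coh.HH (CohB1.ProjSpace 2 k)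
        (CohB1.tensorMod L (Twist.twistProjSpace 2 k d)) q) := by
    intro d q h1 h2
    refine subsingleton_of_iso (tensorIso eL (Iso.refl _)).symm q
      (Groth.Agent.Lib.helper20.SumTwReg.subsingleton_HH_sigma_twist' r₀ a d q (fun j =>
        Groth.Agent.S0844.result k 2 (a j + d) q ?_ ?_))
    · rintro ⟨rfl, h⟩
      have := ha j
      have := h1 rfl
      omega
    · rintro ⟨rfl, -⟩
      exact h2 rfl
  have hK0 : ∀ d : ℤ, d ≤ 0 → Subsingleton (Coh.HH (CohB1.ProjSpace 2 k)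
      (CohB1.tensorMod (kernel φ) (Twist.twistProjSpace 2 k d)) 0) := fun d hd =>
    subsingleton_X₁_zero (hT d) (hLvan d 0 (fun _ => hd) (by norm_num))
  have hK1 : ∀ d : ℤ, Subsingleton (Coh.HH (CohB1.ProjSpace 2 k)
      (CohB1.tensorMod (kernel φ) (Twist.twistProjSpace 2 k d)) 1) := fun d =>
    subsingleton_X₁_one_of_surj (hT d) (hsurj d) (hLvan d 1 (by simp) (by norm_num))
  have hHyp : Hyp (kernel φ) := ⟨hKcoh, ⟨0, hK0⟩, fun d i hi hi2 => by
    obtain rfl : i = 1 := by omega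
    exact hK1 d⟩
  obtain ⟨r, kk, ⟨eK⟩⟩ := splits_of_hyp (by norm_num) hHyp
  have hkk : ∀ i, kk i < 0 := by
    intro i
    by_contra hge
    push_neg at hge
    have h1 := hK0 (-(kk i)) (by omega)
    have h2 : Subsingleton (Coh.HH (CohB1.ProjSpace 2 k)
        (CohB1.tensorMod (∐ fun j : Fin r => Twist.twistProjSpace 2 k (kk j))
          (Twist.twistProjSpace 2 k (-(kk i)))) 0) :=
      subsingleton_of_iso (tensorIso eK (Iso.refl _)) 0 h1
    have h3 : Subsingleton (Coh.HH (CohB1.ProjSpace 2 k)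
        (∐ fun j : Fin r => Twist.twistProjSpace 2 k (kk j + -(kk i))) 0) :=
      subsingleton_of_iso (Groth.Agent.Lib.helper20.SumTwReg.sigmaTwistIso' r kk (-(kk i))) 0 h2
    have h4 : Subsingleton (∀ j : Fin r, Coh.HH (CohB1.ProjSpace 2 k)
        (Twist.twistProjSpace 2 k (kk j + -(kk i))) 0) :=
      (sigmaEquiv (fun j : Fin r => Twist.twistProjSpace 2 k (kk j + -(kk i))) 0).symm.toEquiv.subsingleton
    have h5 : Subsingleton (Coh.HH (CohB1.ProjSpace 2 k)
        (Twist.twistProjSpace 2 k (kk i + -(kk i))) 0) := ⟨fun x y => by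
      have := congrFun (Subsingleton.elim (Pi.single (M := fun j : Fin r =>
        Coh.HH (CohB1.ProjSpace 2 k) (Twist.twistProjSpace 2 k (kk j + -(kk i))) 0) i x)
        (Pi.single i y)) i
      simpa using this⟩
    have h6 := finrank_H0_O (k := k) (n := 2) (kk i + -(kk i)) (by ring)
    have h7 := Module.finrank_zero_of_subsingleton (R := k)
      (M := Coh.HH (CohB1.ProjSpace 2 k) (Twist.twistProjSpace 2 k (kk i + -(kk i))) 0)
    omega
  exact ⟨r, r₀, kk, a, ShortComplex.mk (kernel.ι φ) φ (kernel.condition φ), shortExact_kernel φ,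
    hkk, ha, ⟨eK⟩, ⟨eL⟩, ⟨Iso.refl _⟩⟩

end P2

end

end Groth.Agent.Lib.helper20.NegRes
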