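import Mathlib

open CategoryTheory CategoryTheory.Limits

namespace Groth.Agent.Lib.Helper20.NoethObj

universe v u
variable {C : Type u} [Category.{v} C] [Abelian C]

/-- A quotient of a noetherian object is noetherian. -/
theorem isNoetherianObject_of_epi {X Y : C} (p : X ⟶ Y) [Epi p] [IsNoetherianObject X] :
    IsNoetherianObject Y := by
  rw [isNoetherianObject_iff_monotone_chain_condition]
  intro f
  obtain ⟨n, hn⟩ := monotone_chain_condition_of_isNoetherianObject
    ⟨_, (Subobject.pullback p).monotone.comp f.2⟩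
  refine ⟨n, fun m hm => ?_⟩
  have h1 : (Subobject.pullback p).obj (f n) = (Subobject.pullback p).obj (f m) := hn m hm
  apply le_antisymm (f.2 hm)
  -- `f m ≤ f n`
  have hpb := Subobject.isPullback p (f m)
  have : Epi (Subobject.pullbackπ p (f m)) :=
    Abelian.epi_fst_of_isLimit (f := (f m).arrow) (g := p) hpb.isLimit
  have := strongEpi_of_epi (Subobject.pullbackπ p (f m))
  have hpb' := Subobject.isPullback p (f n)
  let u : ((Subobject.pullback p).obj (f m) : C) ⟶ (f n : C) :=
    Subobject.ofLE _ _ h1.symm.le ≫ Subobject.pullbackπ p (f n)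
  have hsq : CommSq u (Subobject.pullbackπ p (f m)) (f n).arrow (f m).arrow := ⟨by
    simp only [u, Category.assoc]
    rw [hpb'.w, hpb.w, Subobject.ofLE_arrow_assoc]⟩
  exact Subobject.le_of_comm hsq.lift hsq.fac_right


open Preadditive in
/-- Noetherian objects are closed under extensions. -/
theorem isNoetherianObject_of_shortExact (S : ShortComplex C) (hS : S.ShortExact)
    [IsNoetherianObject S.X₁] [IsNoetherianObject S.X₃] : IsNoetherianObject S.X₂ := by
  have := hS.mono_f
  have := hS.epi_g
  rw [isNoetherianObject_iff_monotone_chain_condition]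
  intro N
  -- the two auxiliary chains
  have hA : Monotone fun n => (Subobject.pullback S.f).obj (N n) :=
    (Subobject.pullback S.f).monotone.comp N.2
  have hB : Monotone fun n => imageSubobject ((N n).arrow ≫ S.g) := by
    intro n m hnm
    have : (N n).arrow ≫ S.g = Subobject.ofLE _ _ (N.monotone hnm) ≫ (N m).arrow ≫ S.g := by
      rw [Subobject.ofLE_arrow_assoc]
    show imageSubobject ((N n).arrow ≫ S.g) ≤ imageSubobject ((N m).arrow ≫ S.g)
    rw [this]
    exact imageSubobject_comp_le _ _
  obtain ⟨n₁, h₁⟩ := monotone_chain_condition_of_isNoetherianObject ⟨_, hA⟩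
  obtain ⟨n₃, h₃⟩ := monotone_chain_condition_of_isNoetherianObject ⟨_, hB⟩
  refine ⟨max n₁ n₃, fun m hm => ?_⟩
  set n := max n₁ n₃ with hn
  have hA' : (Subobject.pullback S.f).obj (N n) = (Subobject.pullback S.f).obj (N m) :=
    (h₁ n (le_max_left _ _)).symm.trans (h₁ m ((le_max_left _ _).trans hm))
  have hB' : imageSubobject ((N n).arrow ≫ S.g) = imageSubobject ((N m).arrow ≫ S.g) :=
    (h₃ n (le_max_right _ _)).symm.trans (h₃ m ((le_max_right _ _).trans hm))
  apply le_antisymm (N.monotone hm)
  -- show the inclusion `j : N n ⟶ N m` is an epimorphism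
  let j : (N n : C) ⟶ (N m : C) := Subobject.ofLE _ _ (N.monotone hm)
  have hj : j ≫ (N m).arrow = (N n).arrow := Subobject.ofLE_arrow _
  suffices Epi j by
    have : IsIso j := isIso_of_mono_of_epi j
    exact Subobject.le_of_comm (inv j) (by rw [IsIso.inv_comp_eq, hj])
  rw [epi_iff_surjective_up_to_refinements]
  intro T y
  -- step 1: use the images
  have hfac : (imageSubobject ((N n).arrow ≫ S.g)).Factors (y ≫ (N m).arrow ≫ S.g) := by
    rw [hB']
    have : y ≫ (N m).arrow ≫ S.g =
        (y ≫ factorThruImageSubobject ((N m).arrow ≫ S.g)) ≫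
          (imageSubobject ((N m).arrow ≫ S.g)).arrow := by simp
    rw [this]
    exact Subobject.factors_comp_arrow _
  obtain ⟨T₁, π₁, hπ₁, x₁, hx₁⟩ := surjective_up_to_refinements_of_epi
    (factorThruImageSubobject ((N n).arrow ≫ S.g))
    ((imageSubobject ((N n).arrow ≫ S.g)).factorThru _ hfac)
  have e1 : π₁ ≫ y ≫ (N m).arrow ≫ S.g = x₁ ≫ (N n).arrow ≫ S.g := by
    have := congrArg (fun k => k ≫ (imageSubobject ((N n).arrow ≫ S.g)).arrow) hx₁
    simpa using this
  -- step 2: exactness
  have hd : (π₁ ≫ y ≫ (N m).arrow - x₁ ≫ (N n).arrow) ≫ S.g = 0 := by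
    rw [sub_comp, Category.assoc, Category.assoc, Category.assoc, e1, sub_self]
  obtain ⟨T₂, π₂, hπ₂, x', hx'⟩ := hS.exact.exact_up_to_refinements _ hd
  -- step 3: use the pullbacks
  have hNm : (N m).Factors (x' ≫ S.f) := by
    have : x' ≫ S.f = (π₂ ≫ π₁ ≫ y - π₂ ≫ x₁ ≫ j) ≫ (N m).arrow := by
      rw [← hx', comp_sub, sub_comp]
      simp only [Category.assoc, hj]
    rw [this]
    exact Subobject.factors_comp_arrow _
  have hpbm := Subobject.isPullback S.f (N m)
  have hpbn := Subobject.isPullback S.f (N n)
  have hPm : ((Subobject.pullback S.f).obj (N m)).Factors x' := by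
    have : x' = hpbm.lift ((N m).factorThru _ hNm) x' (by simp) ≫
        ((Subobject.pullback S.f).obj (N m)).arrow := by simp
    rw [this]
    exact Subobject.factors_comp_arrow _
  rw [← hA'] at hPm
  obtain ⟨l', hl'⟩ : ∃ l', l' ≫ ((Subobject.pullback S.f).obj (N n)).arrow = x' :=
    ⟨_, Subobject.factorThru_arrow _ _ hPm⟩
  have hx'' : (l' ≫ Subobject.pullbackπ S.f (N n)) ≫ (N n).arrow = x' ≫ S.f := by
    rw [Category.assoc, hpbn.w, ← Category.assoc, hl']
  -- step 4
  refine ⟨T₂, π₂ ≫ π₁, epi_comp _ _, π₂ ≫ x₁ + l' ≫ Subobject.pullbackπ S.f (N n), ?_⟩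
  rw [← cancel_mono (N m).arrow]
  simp only [Category.assoc, add_comp, hj]
  rw [← Category.assoc l', hx'', ← hx', comp_sub]
  simp


/-- An object receiving a jointly epimorphic finite family of maps from noetherian objects is
noetherian. -/
theorem isNoetherianObject_of_jointly_epi {τ : Type*} [DecidableEq τ] (J : Finset τ) :
    ∀ (X : C) (Z : τ → C) (h : ∀ t, Z t ⟶ X), (∀ t ∈ J, IsNoetherianObject (Z t)) →
      (∀ {W : C} (f g : X ⟶ W), (∀ t ∈ J, h t ≫ f = h t ≫ g) → f = g) →
      IsNoetherianObject X := by
  induction J using Finset.induction_on with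
  | empty =>
    intro X Z h _ hje
    have : 𝟙 X = 0 := hje _ _ (by simp)
    exact isNoetherianObject_of_isZero ((IsZero.iff_id_eq_zero X).mpr this)
  | insert t₀ J₁ ht₀ ih =>
    intro X Z h hZ hje
    -- the quotient by the image of `h t₀`
    have hX'' : IsNoetherianObject (cokernel (h t₀)) := by
      refine ih (cokernel (h t₀)) Z (fun t => h t ≫ cokernel.π (h t₀))
        (fun t ht => hZ t (Finset.mem_insert_of_mem ht)) ?_
      intro W f g hfg
      rw [← cancel_epi (cokernel.π (h t₀))]
      apply hje
      intro t ht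
      rcases Finset.mem_insert.mp ht with rfl | ht
      · simp
      · simpa using hfg t ht
    have hZ₀ : IsNoetherianObject (Z t₀) := hZ t₀ (Finset.mem_insert_self _ _)
    have hI : IsNoetherianObject (Abelian.image (h t₀)) :=
      isNoetherianObject_of_epi (Abelian.factorThruImage (h t₀))
    let S : ShortComplex C := ShortComplex.mk (Abelian.image.ι (h t₀)) (cokernel.π (h t₀))
      (kernel.condition _)
    have hS : S.ShortExact :=
      { exact := S.exact_of_f_is_kernel (kernelIsKernel _)
        mono_f := inferInstanceAs (Mono (Abelian.image.ι (h t₀)))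
        epi_g := inferInstanceAs (Epi (cokernel.π (h t₀))) }
    exact isNoetherianObject_of_shortExact S hS

section reflect
universe w w' u₁ u₂
variable {A : Type u₁} [Category.{w} A] [Abelian A] {B : Type u₂} [Category.{w'} B] [Abelian B]
  (F : A ⥤ B) [F.Faithful] [PreservesFiniteLimits F]

/-- A faithful left exact functor between abelian categories reflects noetherian objects. -/
theorem isNoetherianObject_of_map (a : A) [IsNoetherianObject (F.obj a)] :
    IsNoetherianObject a := by
  rw [isNoetherianObject_iff_monotone_chain_condition]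
  intro f
  have hmono : Monotone fun n => Subobject.mk (F.map (f n).arrow) := by
    intro n m hnm
    exact Subobject.mk_le_mk_of_comm (F.map (Subobject.ofLE _ _ (f.monotone hnm)))
      (by rw [← F.map_comp, Subobject.ofLE_arrow])
  obtain ⟨n, hn⟩ := monotone_chain_condition_of_isNoetherianObject ⟨_, hmono⟩
  refine ⟨n, fun m hm => ?_⟩
  have h1 : Subobject.mk (F.map (f n).arrow) = Subobject.mk (F.map (f m).arrow) := hn m hm
  apply le_antisymm (f.monotone hm)
  let j : (f n : A) ⟶ (f m : A) := Subobject.ofLE _ _ (f.monotone hm)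
  have hj : j ≫ (f m).arrow = (f n).arrow := Subobject.ofLE_arrow _
  have hFj : F.map j = (Subobject.isoOfMkEqMk _ _ h1).hom := by
    rw [← cancel_mono (F.map (f m).arrow), ← F.map_comp, hj]
    simp
  have : IsIso (F.map j) := by rw [hFj]; infer_instance
  have : Epi j := F.epi_of_epi_map inferInstance
  have : IsIso j := isIso_of_mono_of_epi j
  exact Subobject.le_of_comm (inv j) (by rw [IsIso.inv_comp_eq, hj])


end reflect

end Groth.Agent.Lib.Helper20.NoethObj
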