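import Mathlib
import Groth.Agent.Lib.Helper20.NoethObjBase

open CategoryTheory CategoryTheory.Limits

namespace Groth.Agent.Lib.Helper20.NoethObj

universe w u₂
section fg
variable {B : Type u₂} [Category.{w} B] [Abelian B] [HasColimitsOfSize.{w, w} B]
  {ι : Type w} (s : ι → B) (X : B)

/-- The index type: all maps from the generators to `X`. -/
abbrev Tt : Type w := Σ i : ι, (s i ⟶ X)

/-- The map from the finite coproduct. -/
noncomputable def sig (J : Finset (Tt s X)) : (∐ fun t : J => s t.1.1) ⟶ X :=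
  Sigma.desc fun t => t.1.2

/-- The subobject generated by a finite set of maps. -/
noncomputable abbrev Msub (J : Finset (Tt s X)) : Subobject X := imageSubobject (sig s X J)

theorem Msub_mono : Monotone (Msub s X) := by
  intro J J' hJ
  have : sig s X J = (Sigma.desc fun t : J => Sigma.ι (fun t' : J' => s t'.1.1) ⟨t.1, hJ t.2⟩) ≫
      sig s X J' := by
    apply Sigma.hom_ext
    intro t
    simp [sig]
  refine imageSubobject_le _ ((Sigma.desc fun t : J =>
    Sigma.ι (fun t' : J' => s t'.1.1) ⟨t.1, hJ t.2⟩) ≫ factorThruImageSubobject (sig s X J')) ?_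
  rw [Category.assoc, imageSubobject_arrow_comp, ← this]

/-- The canonical map from a generator to `Msub`. -/
noncomputable def toMsub (J : Finset (Tt s X)) (t : Tt s X) (ht : t ∈ J) :
    s t.1 ⟶ (Msub s X J : B) :=
  Sigma.ι (fun t' : J => s t'.1.1) ⟨t, ht⟩ ≫ factorThruImageSubobject (sig s X J)

@[reassoc (attr := simp)]
theorem toMsub_arrow (J : Finset (Tt s X)) (t : Tt s X) (ht : t ∈ J) :
    toMsub s X J t ht ≫ (Msub s X J).arrow = t.2 := by
  rw [toMsub, Category.assoc, imageSubobject_arrow_comp]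
  simp [sig]

theorem isNoetherianObject_Msub (hsN : ∀ i, IsNoetherianObject (s i)) (J : Finset (Tt s X)) :
    IsNoetherianObject (Msub s X J : B) := by
  classical
  refine isNoetherianObject_of_jointly_epi J (Msub s X J : B) (fun t => s t.1)
    (fun t => if ht : t ∈ J then toMsub s X J t ht else 0) (fun t _ => hsN t.1) ?_
  intro W f g hfg
  rw [← cancel_epi (factorThruImageSubobject (sig s X J))]
  apply Sigma.hom_ext
  intro t
  have := hfg t.1 t.2
  simp only [dif_pos t.2, toMsub, Category.assoc] at this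
  exact this

end fg


section cokerFunctor
universe v₁ v₂ u₁ u₃
variable {J : Type u₁} [Category.{v₁} J] {E : Type u₃} [Category.{v₂} E] [HasZeroMorphisms E]
  [HasCokernels E]

/-- The pointwise cokernel of a natural transformation. -/
@[simps]
noncomputable def cokerFunctor {P Q : J ⥤ E} (β : P ⟶ Q) : J ⥤ E where
  obj j := cokernel (β.app j)
  map {j j'} f := cokernel.map (β.app j) (β.app j') (P.map f) (Q.map f) (β.naturality f).symm
  map_id j := by
    apply coequalizer.hom_ext
    simp
  map_comp f g := by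
    apply coequalizer.hom_ext
    simp

/-- The projection to the pointwise cokernel. -/
noncomputable def cokerFunctorπ {P Q : J ⥤ E} (β : P ⟶ Q) : Q ⟶ cokerFunctor β where
  app j := cokernel.π (β.app j)
  naturality j j' f := by simp [cokerFunctor]

instance {P Q : J ⥤ E} (β : P ⟶ Q) (j : J) : Epi ((cokerFunctorπ β).app j) :=
  inferInstanceAs (Epi (cokernel.π (β.app j)))

@[reassoc (attr := simp)]
theorem app_cokerFunctorπ {P Q : J ⥤ E} (β : P ⟶ Q) (j : J) :
    β.app j ≫ (cokerFunctorπ β).app j = 0 := cokernel.condition _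

/-- Descent from the pointwise cokernel. -/
noncomputable def cokerFunctorDesc {P Q : J ⥤ E} (β : P ⟶ Q) (j : J) {Z : E} (g : Q.obj j ⟶ Z)
    (hg : β.app j ≫ g = 0) : (cokerFunctor β).obj j ⟶ Z :=
  cokernel.desc (β.app j) g hg

@[reassoc (attr := simp)]
theorem cokerFunctorπ_desc {P Q : J ⥤ E} (β : P ⟶ Q) (j : J) {Z : E} (g : Q.obj j ⟶ Z)
    (hg : β.app j ≫ g = 0) : (cokerFunctorπ β).app j ≫ cokerFunctorDesc β j g hg = g :=
  cokernel.π_desc _ _ _

end cokerFunctor

section vanish
universe t₁ t₂ t₃ r₁ r₂ r₃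
variable {J : Type r₁} [Category.{t₁} J] [IsFiltered J]
  {A : Type r₂} [Category.{t₂} A] [Abelian A] {B : Type r₃} [Category.{t₃} B] [Abelian B]
  {D : J ⥤ B} {X : B} (α : D ⟶ (Functor.const J).obj X) (G : B ⥤ A) (F : A ⥤ B)
  [F.PreservesZeroMorphisms] [F.PreservesEpimorphisms]

theorem cocone_ι_eq_zero (hFG : IsColimit (F.mapCocone (G.mapCocone (Cocone.mk X α))))
    (T : Cocone (cokerFunctor (Functor.whiskerRight α G) ⋙ F)) (j : J) : T.ι.app j = 0 := by
  have key : F.map ((cokerFunctorπ (Functor.whiskerRight α G)).app j) ≫ T.ι.app j = 0 := by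
    apply hFG.hom_ext
    intro j'
    refine Eq.trans ?_ comp_zero.symm
    have e1 : T.ι.app j = F.map ((cokerFunctor (Functor.whiskerRight α G)).map
        (IsFiltered.leftToMax j j')) ≫ T.ι.app (IsFiltered.max j j') :=
      (T.w (IsFiltered.leftToMax j j')).symm
    have e2 : (cokerFunctorπ (Functor.whiskerRight α G)).app j ≫
        (cokerFunctor (Functor.whiskerRight α G)).map (IsFiltered.leftToMax j j') =
        (cokerFunctorπ (Functor.whiskerRight α G)).app (IsFiltered.max j j') := by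
      have := (cokerFunctorπ (Functor.whiskerRight α G)).naturality (IsFiltered.leftToMax j j')
      rw [← this]
      simp
    have e3 : G.map (α.app j') ≫
        (cokerFunctorπ (Functor.whiskerRight α G)).app (IsFiltered.max j j') = 0 := by
      have h1 : α.app j' = D.map (IsFiltered.rightToMax j j') ≫ α.app (IsFiltered.max j j') := by
        simpa using (α.naturality (IsFiltered.rightToMax j j')).symm
      rw [h1, G.map_comp, Category.assoc]
      have := app_cokerFunctorπ (Functor.whiskerRight α G) (IsFiltered.max j j')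
      rw [Functor.whiskerRight_app] at this
      rw [this, comp_zero]
    rw [e1]
    show F.map (G.map (α.app j')) ≫ F.map ((cokerFunctorπ (Functor.whiskerRight α G)).app j) ≫
      F.map ((cokerFunctor (Functor.whiskerRight α G)).map (IsFiltered.leftToMax j j')) ≫
      T.ι.app (IsFiltered.max j j') = 0
    rw [← F.map_comp_assoc ((cokerFunctorπ (Functor.whiskerRight α G)).app j), e2,
      ← F.map_comp_assoc, e3, F.map_zero, zero_comp]
  exact (cancel_epi (F.map ((cokerFunctorπ (Functor.whiskerRight α G)).app j))).mp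
    (key.trans comp_zero.symm)

end vanish


section zero
attribute [local instance] IsFiltered.isConnected
universe v u u'
variable {J : Type u'} [SmallCategory J] [IsFiltered J] {B : Type u} [Category.{v} B] [Abelian B]
  [HasColimitsOfShape J B] [(colim : (J ⥤ B) ⥤ B).PreservesMonomorphisms]

theorem id_eq_zero_of_colimit_ι_eq_zero (Cf : J ⥤ B) (Y : B)
    (φ : (Functor.const J).obj Y ⟶ Cf) [∀ j, Mono (φ.app j)]
    (h : ∀ j, colimit.ι Cf j = 0) : 𝟙 Y = 0 := by
  have : Mono φ := NatTrans.mono_of_mono_app _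
  have hm : Mono (0 : Y ⟶ colimit Cf) :=
    colim.map_mono' φ (isColimitConstCocone J Y) (colimit.isColimit Cf) 0 (fun j => by
      show _ ≫ 0 = φ.app j ≫ colimit.ι Cf j
      rw [h j, comp_zero, comp_zero])
  rw [← cancel_mono (0 : Y ⟶ colimit Cf), comp_zero, zero_comp]

end zero

section diag
attribute [local instance] IsFiltered.isConnected

variable {B : Type u₂} [Category.{w} B] [Abelian B] [HasColimitsOfSize.{w, w} B]
  {ι : Type w} (s : ι → B) (X : B) [DecidableEq (Tt s X)] (J₀ : Finset (Tt s X))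

theorem Msub_union_mono : Monotone fun J : Finset (Tt s X) => Msub s X (J ∪ J₀) :=
  fun _ _ hJ => Msub_mono s X (Finset.union_subset_union_left hJ)

/-- The filtered diagram `J ↦ M (J ∪ J₀)`. -/
noncomputable def Ddiag : Finset (Tt s X) ⥤ B where
  obj J := (Msub s X (J ∪ J₀) : B)
  map {J J'} f := Subobject.ofLE _ _ (Msub_union_mono s X J₀ (leOfHom f))
  map_id _ := Subobject.ofLE_refl _
  map_comp _ _ := (Subobject.ofLE_comp_ofLE _ _ _ _ _).symm

/-- The inclusions into `X`. -/
noncomputable def αnat : Ddiag s X J₀ ⟶ (Functor.const _).obj X where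
  app J := (Msub s X (J ∪ J₀)).arrow
  naturality J J' f := by
    show Subobject.ofLE _ _ (Msub_union_mono s X J₀ (leOfHom f)) ≫
      (Msub s X (J' ∪ J₀)).arrow = (Msub s X (J ∪ J₀)).arrow ≫ 𝟙 X
    rw [Category.comp_id, Subobject.ofLE_arrow]

instance (J : Finset (Tt s X)) : Mono ((αnat s X J₀).app J) :=
  inferInstanceAs (Mono (Msub s X (J ∪ J₀)).arrow)

/-- The cocone with point `X`. -/
noncomputable def cX : Cocone (Ddiag s X J₀) := ⟨X, αnat s X J₀⟩

@[simp] theorem cX_ι_app (J : Finset (Tt s X)) :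
    (cX s X J₀).ι.app J = (Msub s X (J ∪ J₀)).arrow := rfl

theorem exists_factor (i : ι) (h : s i ⟶ X) :
    ∃ (J : Finset (Tt s X)) (l : s i ⟶ (Ddiag s X J₀).obj J), l ≫ (αnat s X J₀).app J = h := by
  let t : Tt s X := ⟨i, h⟩
  have hmem : t ∈ ({t} ∪ J₀ : Finset (Tt s X)) :=
    Finset.mem_union_left _ (Finset.mem_singleton_self _)
  refine ⟨{t}, ?_, ?_⟩
  · exact toMsub s X ({t} ∪ J₀) t hmem
  · exact toMsub_arrow s X ({t} ∪ J₀) t hmem

variable [AB5OfSize.{w, w} B]
  (hsep : ∀ ⦃X Y : B⦄ (f g : X ⟶ Y), (∀ (i : ι) (h : s i ⟶ X), h ≫ f = h ≫ g) → f = g)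

include hsep in
/-- `X` is the filtered colimit of the `M (J ∪ J₀)`. -/
theorem isColimit_cX : Nonempty (IsColimit (cX s X J₀)) := by
  have : Mono (αnat s X J₀) := NatTrans.mono_of_mono_app _
  have hmono : Mono (colimit.desc (Ddiag s X J₀) (cX s X J₀)) :=
    colim.map_mono' (αnat s X J₀) (colimit.isColimit _) (isColimitConstCocone _ X) _
      (fun j => by
        show colimit.ι (Ddiag s X J₀) j ≫ colimit.desc (Ddiag s X J₀) (cX s X J₀) =
          (αnat s X J₀).app j ≫ 𝟙 X
        rw [colimit.ι_desc]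
        exact (Category.comp_id _).symm)
  have hepi : Epi (colimit.desc (Ddiag s X J₀) (cX s X J₀)) := by
    constructor
    intro W f g hfg
    apply hsep
    intro i h
    obtain ⟨J, l, hl⟩ := exists_factor s X J₀ i h
    have h1 : h = (l ≫ colimit.ι (Ddiag s X J₀) J) ≫
        colimit.desc (Ddiag s X J₀) (cX s X J₀) := by
      rw [Category.assoc, colimit.ι_desc]
      exact hl.symm
    rw [h1]
    simp only [Category.assoc, hfg]
  have : IsIso (colimit.desc (Ddiag s X J₀) (cX s X J₀)) := isIso_of_mono_of_epi _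
  have : IsIso ((colimit.isColimit (Ddiag s X J₀)).desc (cX s X J₀)) := this
  exact ⟨IsColimit.ofPointIso (colimit.isColimit (Ddiag s X J₀))⟩

end diag


section main
universe u₁
attribute [local instance] IsFiltered.isConnected

variable {A : Type u₁} [Category.{w} A] [Abelian A] [HasColimitsOfSize.{w, w} A]
    {B : Type u₂} [Category.{w} B] [Abelian B] [HasColimitsOfSize.{w, w} B] [AB5OfSize.{w, w} B]
    {ι : Type w} (s : ι → B) (hsN : ∀ i, IsNoetherianObject (s i))
    (hsep : ∀ ⦃X Y : B⦄ (f g : X ⟶ Y), (∀ (i : ι) (h : s i ⟶ X), h ≫ f = h ≫ g) → f = g)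
    (F : A ⥤ B) (G : B ⥤ A) (adj : F ⊣ G) [F.Additive] [F.Faithful]
    [PreservesFiniteLimits F] [PreservesFiniteColimits F] [PreservesFilteredColimitsOfSize.{w, w} G]

/-- The map `a ⟶ G F a ⟶ coker (G M_J ⟶ G F a)`. -/
noncomputable def psi (a : A) (J : Finset (Tt s (F.obj a))) :
    a ⟶ cokernel (G.map (Msub s (F.obj a) J).arrow) :=
  adj.unit.app a ≫ cokernel.π (G.map (Msub s (F.obj a) J).arrow)

theorem psi_mono (a : A) : Monotone fun J => kernelSubobject (psi s F G adj a J) := by
  intro J J' hJ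
  have hle := Msub_mono s (F.obj a) hJ
  have : psi s F G adj a J' = psi s F G adj a J ≫
      cokernel.map (G.map (Msub s (F.obj a) J).arrow) (G.map (Msub s (F.obj a) J').arrow)
        (G.map (Subobject.ofLE _ _ hle)) (𝟙 _)
        (by rw [← G.map_comp, Subobject.ofLE_arrow, Category.comp_id]) := by
    simp [psi]
  show kernelSubobject (psi s F G adj a J) ≤ kernelSubobject (psi s F G adj a J')
  rw [this]
  exact kernelSubobject_comp_le _ _

theorem exists_max (a : A) [IsNoetherianObject a] :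
    ∃ J₀, ∀ J, J₀ ≤ J →
      kernelSubobject (psi s F G adj a J) = kernelSubobject (psi s F G adj a J₀) := by
  have hwf : WellFounded ((· > ·) : Subobject a → Subobject a → Prop) := wellFounded_gt
  obtain ⟨_, ⟨J₀, rfl⟩, hmin⟩ := hwf.has_min
    (Set.range fun J => kernelSubobject (psi s F G adj a J)) ⟨_, ∅, rfl⟩
  refine ⟨J₀, fun J hJ => ?_⟩
  have h1 := psi_mono s F G adj a hJ
  have h2 := hmin _ ⟨J, rfl⟩
  exact (eq_of_le_of_not_lt h1 h2).symm

include hsN hsep adj in
theorem isNoetherianObject_map (a : A) [IsNoetherianObject a] :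
    IsNoetherianObject (F.obj a) := by
  classical
  obtain ⟨J₀, hJ₀⟩ := exists_max s F G adj a
  obtain ⟨hcX⟩ := isColimit_cX s (F.obj a) J₀ hsep
  have hG : IsColimit (G.mapCocone (cX s (F.obj a) J₀)) := isColimitOfPreserves G hcX
  have : PreservesColimitsOfSize.{w, w} F := adj.leftAdjoint_preservesColimits
  have hFG : IsColimit (F.mapCocone (G.mapCocone (cX s (F.obj a) J₀))) :=
    isColimitOfPreserves F hG
  -- the pointwise cokernels
  let β : Ddiag s (F.obj a) J₀ ⋙ G ⟶ (Functor.const _).obj (F.obj a) ⋙ G :=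
    Functor.whiskerRight (αnat s (F.obj a) J₀) G
  let C' : Finset (Tt s (F.obj a)) ⥤ A := cokerFunctor β
  let P : (Functor.const _).obj (F.obj a) ⋙ G ⟶ C' := cokerFunctorπ β
  have ht : ∀ J, colimit.ι (C' ⋙ F) J = 0 := fun J =>
    cocone_ι_eq_zero (αnat s (F.obj a) J₀) G F hFG (colimit.cocone (C' ⋙ F)) J
  -- `ψ' J = psi (J ∪ J₀)`
  let ψ' : ∀ J, a ⟶ C'.obj J := fun J => adj.unit.app a ≫ P.app J
  have hψ' : ∀ J, ψ' J = psi s F G adj a (J ∪ J₀) := fun J => rfl
  have hker0 : ∀ J, kernel.ι (psi s F G adj a J₀) ≫ psi s F G adj a (J ∪ J₀) = 0 := by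
    intro J
    have h1 := hJ₀ (J ∪ J₀) Finset.subset_union_right
    have h2 : (kernelSubobject (psi s F G adj a J₀)).arrow =
        Subobject.ofLE _ _ h1.symm.le ≫ (kernelSubobject (psi s F G adj a (J ∪ J₀))).arrow :=
      (Subobject.ofLE_arrow _).symm
    rw [← kernelSubobject_arrow', h2]
    simp only [Category.assoc, kernelSubobject_arrow_comp, comp_zero]
  have hker : ∀ J, kernel.ι (psi s F G adj a J₀) ≫ ψ' J = 0 := fun J => hker0 J
  -- the quotient `K = a / ker ψ₀` and its embeddings
  let π := cokernel.π (kernel.ι (psi s F G adj a J₀))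
  let κ : ∀ J, cokernel (kernel.ι (psi s F G adj a J₀)) ⟶ C'.obj J := fun J =>
    cokernel.desc (kernel.ι (psi s F G adj a J₀)) (ψ' J) (hker J)
  have hπκ : ∀ J, π ≫ κ J = ψ' J := fun J => cokernel.π_desc _ _ _
  have hκmono : ∀ J, Mono (κ J) := by
    intro J
    apply Preadditive.mono_of_cancel_zero
    intro Z z hz
    obtain ⟨Z', π', hπ', z', hz'⟩ := surjective_up_to_refinements_of_epi π z
    have h0 : z' ≫ psi s F G adj a (J ∪ J₀) = 0 := by
      rw [← hψ']
      calc z' ≫ ψ' J = z' ≫ (π ≫ κ J) := by rw [hπκ J]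
        _ = (z' ≫ π) ≫ κ J := (Category.assoc _ _ _).symm
        _ = (π' ≫ z) ≫ κ J := by rw [hz']
        _ = 0 := by rw [Category.assoc, hz, comp_zero]
    have h1 := hJ₀ (J ∪ J₀) Finset.subset_union_right
    have hfac : (kernelSubobject (psi s F G adj a J₀)).Factors z' := by
      rw [← h1]
      exact (kernelSubobject_factors_iff _ _).mpr h0
    have h3 : z' ≫ π = 0 := by
      rw [← Subobject.factorThru_arrow _ _ hfac, Category.assoc, ← kernelSubobject_arrow,
        Category.assoc]
      simp [π]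
    rw [← cancel_epi π', hz', h3, comp_zero]
  have hψ'nat : ∀ {J J' : Finset (Tt s (F.obj a))} (f : J ⟶ J'), ψ' J ≫ C'.map f = ψ' J' := by
    intro J J' f
    have := P.naturality f
    simp only [ψ', Category.assoc, ← this]
    simp
  have hκnat : ∀ {J J' : Finset (Tt s (F.obj a))} (f : J ⟶ J'), κ J ≫ C'.map f = κ J' := by
    intro J J' f
    rw [← cancel_epi π, ← Category.assoc, hπκ, hπκ, hψ'nat]
  -- the constant diagram `F K` embeds into `C' ⋙ F`
  let φ : (Functor.const (Finset (Tt s (F.obj a)))).obj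
      (F.obj (cokernel (kernel.ι (psi s F G adj a J₀)))) ⟶ C' ⋙ F :=
    { app := fun J => F.map (κ J)
      naturality := fun J J' f => by
        show 𝟙 _ ≫ F.map (κ J') = F.map (κ J) ≫ F.map (C'.map f)
        rw [Category.id_comp, ← F.map_comp, hκnat] }
  have hφmono : ∀ J, Mono (φ.app J) := fun J => by
    have := hκmono J
    exact inferInstanceAs (Mono (F.map (κ J)))
  have hid : 𝟙 (F.obj (cokernel (kernel.ι (psi s F G adj a J₀)))) = 0 :=
    id_eq_zero_of_colimit_ι_eq_zero (C' ⋙ F) _ φ ht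
  have hidK : 𝟙 (cokernel (kernel.ι (psi s F G adj a J₀))) = 0 := by
    apply F.map_injective
    rw [F.map_id, hid, F.map_zero]
  have hπ0 : π = 0 := by
    rw [← Category.comp_id π, hidK, comp_zero]
  have hψ0 : psi s F G adj a (∅ ∪ J₀) = 0 := by
    have h1 : ψ' ∅ = 0 := by rw [← hπκ, hπ0, zero_comp]
    exact h1
  -- hence the unit factors through `G (M J₀)`
  have hGm : Mono (G.map (Msub s (F.obj a) (∅ ∪ J₀)).arrow) := by
    have : G.PreservesMonomorphisms := G.preservesMonomorphisms_of_adjunction adj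
    infer_instance
  let η' := Abelian.monoLift (G.map (Msub s (F.obj a) (∅ ∪ J₀)).arrow) (adj.unit.app a) hψ0
  have hη' : η' ≫ G.map (Msub s (F.obj a) (∅ ∪ J₀)).arrow = adj.unit.app a :=
    Abelian.monoLift_comp _ _ _
  have hfac : (F.map η' ≫ adj.counit.app _) ≫ (Msub s (F.obj a) (∅ ∪ J₀)).arrow =
      𝟙 (F.obj a) := by
    have h1 := adj.counit_naturality (Msub s (F.obj a) (∅ ∪ J₀)).arrow
    calc (F.map η' ≫ adj.counit.app _) ≫ (Msub s (F.obj a) (∅ ∪ J₀)).arrow
        = F.map η' ≫ (adj.counit.app _ ≫ (Msub s (F.obj a) (∅ ∪ J₀)).arrow) :=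
          Category.assoc _ _ _
      _ = F.map η' ≫ (F.map (G.map (Msub s (F.obj a) (∅ ∪ J₀)).arrow) ≫
            adj.counit.app (F.obj a)) := by rw [h1]
      _ = F.map (η' ≫ G.map (Msub s (F.obj a) (∅ ∪ J₀)).arrow) ≫ adj.counit.app (F.obj a) := by
          rw [F.map_comp, Category.assoc]
      _ = 𝟙 _ := by rw [hη']; exact adj.left_triangle_components a
  have hepi : Epi (Msub s (F.obj a) (∅ ∪ J₀)).arrow := by
    have hone : Epi (𝟙 (F.obj a)) := inferInstance
    exact epi_of_epi_fac hfac
  have := isNoetherianObject_Msub s (F.obj a) hsN (∅ ∪ J₀)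
  exact isNoetherianObject_of_epi (Msub s (F.obj a) (∅ ∪ J₀)).arrow

end main

end Groth.Agent.Lib.Helper20.NoethObj
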