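import Mathlib
import Groth.Agent.Lib.Helper20.NoethObjMain

open CategoryTheory CategoryTheory.Limits

namespace Groth.Agent.Lib.Helper20.NoethObj

universe w u₁ u₂

section ab5
variable {A : Type u₁} [Category.{w} A] [Abelian A] [HasColimitsOfSize.{w, w} A]
    {B : Type u₂} [Category.{w} B] [HasColimitsOfSize.{w, w} B] [AB5OfSize.{w, w} B]
    (F : A ⥤ B) (G : B ⥤ A) (adj : F ⊣ G) [F.Faithful] [PreservesFiniteLimits F]

include adj in
theorem ab5_of_faithful_exact_leftAdjoint : AB5OfSize.{w, w} A := by
  have : PreservesColimitsOfSize.{w, w} F := adj.leftAdjoint_preservesColimits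
  have : ReflectsFiniteLimits F := ⟨fun J _ _ => reflectsLimitsOfShape_of_reflectsIsomorphisms⟩
  exact ⟨fun J _ _ => HasExactColimitsOfShape.domain_of_functor J F⟩

end ab5

section gen
attribute [local instance] IsFiltered.isConnected

variable {A : Type u₁} [Category.{w} A] [Abelian A] [HasColimitsOfSize.{w, w} A]
    {B : Type u₂} [Category.{w} B] [Abelian B] [HasColimitsOfSize.{w, w} B] [AB5OfSize.{w, w} B]
    {ι : Type w} (s : ι → B) (hsN : ∀ i, IsNoetherianObject (s i))
    (hsep : ∀ ⦃X Y : B⦄ (f g : X ⟶ Y), (∀ (i : ι) (h : s i ⟶ X), h ≫ f = h ≫ g) → f = g)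
    (F : A ⥤ B) (G : B ⥤ A) (adj : F ⊣ G) [F.Additive] [F.Faithful]
    [PreservesFiniteLimits F] [PreservesFiniteColimits F] [PreservesFilteredColimitsOfSize.{w, w} G]

/-- `h ≫ F ψ_J` -/
noncomputable def hpsi {z : B} (X : A) (h : z ⟶ F.obj X) (J : Finset (Tt s (F.obj X))) :
    z ⟶ F.obj (cokernel (G.map (Msub s (F.obj X) J).arrow)) :=
  h ≫ F.map (psi s F G adj X J)

theorem hpsi_mono {z : B} (X : A) (h : z ⟶ F.obj X) :
    Monotone fun J => kernelSubobject (hpsi s F G adj X h J) := by
  intro J J' hJ
  have hle := Msub_mono s (F.obj X) hJ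
  have h1 : psi s F G adj X J' = psi s F G adj X J ≫
      cokernel.map (G.map (Msub s (F.obj X) J).arrow) (G.map (Msub s (F.obj X) J').arrow)
        (G.map (Subobject.ofLE _ _ hle)) (𝟙 _)
        (by rw [← G.map_comp, Subobject.ofLE_arrow, Category.comp_id]) := by
    simp [psi]
  have : hpsi s F G adj X h J' = hpsi s F G adj X h J ≫ F.map
      (cokernel.map (G.map (Msub s (F.obj X) J).arrow) (G.map (Msub s (F.obj X) J').arrow)
        (G.map (Subobject.ofLE _ _ hle)) (𝟙 _)
        (by rw [← G.map_comp, Subobject.ofLE_arrow, Category.comp_id])) := by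
    rw [hpsi, hpsi, h1, F.map_comp, Category.assoc]
  show kernelSubobject (hpsi s F G adj X h J) ≤ kernelSubobject (hpsi s F G adj X h J')
  rw [this]
  exact kernelSubobject_comp_le _ _

theorem exists_max_hpsi {z : B} [IsNoetherianObject z] (X : A) (h : z ⟶ F.obj X) :
    ∃ J₀, ∀ J, J₀ ≤ J →
      kernelSubobject (hpsi s F G adj X h J) = kernelSubobject (hpsi s F G adj X h J₀) := by
  have hwf : WellFounded ((· > ·) : Subobject z → Subobject z → Prop) := wellFounded_gt
  obtain ⟨_, ⟨J₀, rfl⟩, hmin⟩ := hwf.has_min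
    (Set.range fun J => kernelSubobject (hpsi s F G adj X h J)) ⟨_, ∅, rfl⟩
  refine ⟨J₀, fun J hJ => ?_⟩
  have h1 := hpsi_mono s F G adj X h hJ
  have h2 := hmin _ ⟨J, rfl⟩
  exact (eq_of_le_of_not_lt h1 h2).symm

include hsep in
/-- A map from a noetherian object into `F X` is killed by some `F ψ_J`. -/
theorem exists_hpsi_eq_zero {z : B} [IsNoetherianObject z] (X : A) (h : z ⟶ F.obj X) :
    ∃ J, hpsi s F G adj X h J = 0 := by
  classical
  obtain ⟨J₀, hJ₀⟩ := exists_max_hpsi s F G adj X h
  obtain ⟨hcX⟩ := isColimit_cX s (F.obj X) J₀ hsep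
  have hG : IsColimit (G.mapCocone (cX s (F.obj X) J₀)) := isColimitOfPreserves G hcX
  have : PreservesColimitsOfSize.{w, w} F := adj.leftAdjoint_preservesColimits
  have hFG : IsColimit (F.mapCocone (G.mapCocone (cX s (F.obj X) J₀))) :=
    isColimitOfPreserves F hG
  let β : Ddiag s (F.obj X) J₀ ⋙ G ⟶ (Functor.const _).obj (F.obj X) ⋙ G :=
    Functor.whiskerRight (αnat s (F.obj X) J₀) G
  let C' : Finset (Tt s (F.obj X)) ⥤ A := cokerFunctor β
  let P : (Functor.const _).obj (F.obj X) ⋙ G ⟶ C' := cokerFunctorπ β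
  have ht : ∀ J, colimit.ι (C' ⋙ F) J = 0 := fun J =>
    cocone_ι_eq_zero (αnat s (F.obj X) J₀) G F hFG (colimit.cocone (C' ⋙ F)) J
  let ψ' : ∀ J, X ⟶ C'.obj J := fun J => adj.unit.app X ≫ P.app J
  have hψ' : ∀ J, ψ' J = psi s F G adj X (J ∪ J₀) := fun J => rfl
  let h' : ∀ J, z ⟶ (C' ⋙ F).obj J := fun J => h ≫ F.map (ψ' J)
  have hh' : ∀ J, h' J = hpsi s F G adj X h (J ∪ J₀) := fun J => rfl
  have hker0 : ∀ J, kernel.ι (hpsi s F G adj X h J₀) ≫ hpsi s F G adj X h (J ∪ J₀) = 0 := by
    intro J
    have h1 := hJ₀ (J ∪ J₀) Finset.subset_union_right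
    have h2 : (kernelSubobject (hpsi s F G adj X h J₀)).arrow =
        Subobject.ofLE _ _ h1.symm.le ≫ (kernelSubobject (hpsi s F G adj X h (J ∪ J₀))).arrow :=
      (Subobject.ofLE_arrow _).symm
    rw [← kernelSubobject_arrow', h2]
    simp only [Category.assoc, kernelSubobject_arrow_comp, comp_zero]
  have hker : ∀ J, kernel.ι (hpsi s F G adj X h J₀) ≫ h' J = 0 := fun J => hker0 J
  let π := cokernel.π (kernel.ι (hpsi s F G adj X h J₀))
  let κ : ∀ J, cokernel (kernel.ι (hpsi s F G adj X h J₀)) ⟶ (C' ⋙ F).obj J := fun J =>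
    cokernel.desc (kernel.ι (hpsi s F G adj X h J₀)) (h' J) (hker J)
  have hπκ : ∀ J, π ≫ κ J = h' J := fun J => cokernel.π_desc _ _ _
  have hκmono : ∀ J, Mono (κ J) := by
    intro J
    apply Preadditive.mono_of_cancel_zero
    intro Z y hy
    obtain ⟨Z', π', hπ', y', hy'⟩ := surjective_up_to_refinements_of_epi π y
    have h0 : y' ≫ hpsi s F G adj X h (J ∪ J₀) = 0 := by
      rw [← hh']
      calc y' ≫ h' J = y' ≫ (π ≫ κ J) := by rw [hπκ J]
        _ = (y' ≫ π) ≫ κ J := (Category.assoc _ _ _).symm
        _ = (π' ≫ y) ≫ κ J := by rw [hy']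
        _ = 0 := by rw [Category.assoc, hy, comp_zero]
    have h1 := hJ₀ (J ∪ J₀) Finset.subset_union_right
    have hfac : (kernelSubobject (hpsi s F G adj X h J₀)).Factors y' := by
      rw [← h1]
      exact (kernelSubobject_factors_iff _ _).mpr h0
    have h3 : y' ≫ π = 0 := by
      rw [← Subobject.factorThru_arrow _ _ hfac, Category.assoc, ← kernelSubobject_arrow,
        Category.assoc]
      simp [π]
    rw [← cancel_epi π', hy', h3, comp_zero]
  have hψ'nat : ∀ {J J' : Finset (Tt s (F.obj X))} (f : J ⟶ J'), ψ' J ≫ C'.map f = ψ' J' := by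
    intro J J' f
    have := P.naturality f
    simp only [ψ', Category.assoc, ← this]
    simp
  have hh'nat : ∀ {J J' : Finset (Tt s (F.obj X))} (f : J ⟶ J'),
      h' J ≫ (C' ⋙ F).map f = h' J' := by
    intro J J' f
    show (h ≫ F.map (ψ' J)) ≫ F.map (C'.map f) = h ≫ F.map (ψ' J')
    rw [Category.assoc, ← F.map_comp, hψ'nat]
  have hκnat : ∀ {J J' : Finset (Tt s (F.obj X))} (f : J ⟶ J'),
      κ J ≫ (C' ⋙ F).map f = κ J' := by
    intro J J' f
    rw [← cancel_epi π, ← Category.assoc, hπκ, hπκ, hh'nat]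
  let φ : (Functor.const (Finset (Tt s (F.obj X)))).obj
      (cokernel (kernel.ι (hpsi s F G adj X h J₀))) ⟶ C' ⋙ F :=
    { app := fun J => κ J
      naturality := fun J J' f => by
        show 𝟙 _ ≫ κ J' = κ J ≫ (C' ⋙ F).map f
        rw [Category.id_comp, hκnat] }
  have hφmono : ∀ J, Mono (φ.app J) := fun J => hκmono J
  have hid : 𝟙 (cokernel (kernel.ι (hpsi s F G adj X h J₀))) = 0 :=
    id_eq_zero_of_colimit_ι_eq_zero (C' ⋙ F) _ φ ht
  have hπ0 : π = 0 := by
    rw [← Category.comp_id π, hid, comp_zero]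
  refine ⟨∅ ∪ J₀, ?_⟩
  have h1 : h' ∅ = 0 := by rw [← hπκ, hπ0, zero_comp]
  exact h1

include hsN hsep in
/-- The kernels of the `ψ_J` jointly cover `X`. -/
theorem eq_zero_of_kernel_psi {X Y : A} (e : X ⟶ Y)
    (he : ∀ J, kernel.ι (psi s F G adj X J) ≫ e = 0) : e = 0 := by
  apply F.map_injective
  rw [F.map_zero]
  apply hsep
  intro i h
  rw [comp_zero]
  have := hsN i
  obtain ⟨J, hJ'⟩ := exists_hpsi_eq_zero s hsep F G adj X h
  have hJ : h ≫ F.map (psi s F G adj X J) = 0 := hJ'
  have h1 : h = (kernel.lift (F.map (psi s F G adj X J)) h hJ ≫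
      (PreservesKernel.iso F (psi s F G adj X J)).inv) ≫
        F.map (kernel.ι (psi s F G adj X J)) := by
    rw [Category.assoc, PreservesKernel.iso_inv_ι, kernel.lift_ι]
  rw [h1, Category.assoc, ← F.map_comp, he J, F.map_zero, comp_zero]

/-- The map from the kernel of `ψ_J` to `G M_J`. -/
noncomputable def kerToG (X : A) (J : Finset (Tt s (F.obj X))) :
    kernel (psi s F G adj X J) ⟶ G.obj (Msub s (F.obj X) J : B) :=
  have : Mono (G.map (Msub s (F.obj X) J).arrow) := by
    have : G.PreservesMonomorphisms := G.preservesMonomorphisms_of_adjunction adj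
    infer_instance
  Abelian.monoLift (G.map (Msub s (F.obj X) J).arrow)
    (kernel.ι (psi s F G adj X J) ≫ adj.unit.app X) (by
      rw [Category.assoc]
      exact kernel.condition (psi s F G adj X J))

theorem kerToG_map (X : A) (J : Finset (Tt s (F.obj X))) :
    kerToG s F G adj X J ≫ G.map (Msub s (F.obj X) J).arrow =
      kernel.ι (psi s F G adj X J) ≫ adj.unit.app X := by
  have : Mono (G.map (Msub s (F.obj X) J).arrow) := by
    have : G.PreservesMonomorphisms := G.preservesMonomorphisms_of_adjunction adj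
    infer_instance
  exact Abelian.monoLift_comp _ _ _

instance mono_kerToG (X : A) (J : Finset (Tt s (F.obj X))) : Mono (kerToG s F G adj X J) := by
  have : Mono (kerToG s F G adj X J ≫ G.map (Msub s (F.obj X) J).arrow) := by
    rw [kerToG_map]
    infer_instance
  exact mono_of_mono _ (G.map (Msub s (F.obj X) J).arrow)

include hsN in
theorem isNoetherianObject_kernel_psi (X : A) (J : Finset (Tt s (F.obj X))) :
    IsNoetherianObject (kernel (psi s F G adj X J)) := by
  -- the adjunct `F (ker) ⟶ M_J` is a monomorphism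
  let l : F.obj (kernel (psi s F G adj X J)) ⟶ (Msub s (F.obj X) J : B) :=
    F.map (kerToG s F G adj X J) ≫ adj.counit.app _
  have hl : l ≫ (Msub s (F.obj X) J).arrow = F.map (kernel.ι (psi s F G adj X J)) := by
    have h1 := adj.counit_naturality (Msub s (F.obj X) J).arrow
    calc l ≫ (Msub s (F.obj X) J).arrow
        = F.map (kerToG s F G adj X J) ≫ (adj.counit.app _ ≫ (Msub s (F.obj X) J).arrow) :=
          Category.assoc _ _ _
      _ = F.map (kerToG s F G adj X J) ≫ (F.map (G.map (Msub s (F.obj X) J).arrow) ≫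
            adj.counit.app (F.obj X)) := by rw [h1]
      _ = F.map (kerToG s F G adj X J ≫ G.map (Msub s (F.obj X) J).arrow) ≫
            adj.counit.app (F.obj X) := by rw [F.map_comp, Category.assoc]
      _ = F.map (kernel.ι (psi s F G adj X J)) := by
          rw [kerToG_map, F.map_comp, Category.assoc]
          have := adj.left_triangle_components X
          rw [this]
          exact Category.comp_id _
  have hmono : Mono l := by
    have : Mono (l ≫ (Msub s (F.obj X) J).arrow) := by
      rw [hl]
      infer_instance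
    exact mono_of_mono _ (Msub s (F.obj X) J).arrow
  have := isNoetherianObject_Msub s (F.obj X) hsN J
  have : IsNoetherianObject (F.obj (kernel (psi s F G adj X J))) := isNoetherianObject_of_mono l
  exact isNoetherianObject_of_map F _

include hsep in
theorem wellPowered_of_separating : WellPowered.{w} B := by
  have h : (ObjectProperty.ofObj s).IsSeparating := by
    intro X Y f g hfg
    apply hsep
    intro i h
    exact hfg _ (ObjectProperty.ofObj_apply s i) h
  exact wellPowered_of_isDetecting h.isDetecting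

include F in
/-- A faithful left exact functor to a well-powered category has well-powered source. -/
theorem wellPowered_of_faithful [WellPowered.{w} B] : WellPowered.{w} A where
  subobject_small a := by
    have hF : F.PreservesMonomorphisms := inferInstance
    refine small_of_injective (f := fun T : Subobject a => Subobject.mk (F.map T.arrow)) ?_
    have key : ∀ T T' : Subobject a,
        Subobject.mk (F.map T.arrow) ≤ Subobject.mk (F.map T'.arrow) → T ≤ T' := by
      intro T T' hle
      have h1 : F.map T.arrow ≫ F.map (cokernel.π T'.arrow) = 0 := by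
        have := Subobject.ofMkLEMk_comp hle
        rw [← this, Category.assoc, ← F.map_comp, cokernel.condition, F.map_zero, comp_zero]
      have h2 : T.arrow ≫ cokernel.π T'.arrow = 0 := by
        apply F.map_injective
        rw [F.map_comp, h1, F.map_zero]
      exact Subobject.le_of_comm (Abelian.monoLift T'.arrow T.arrow h2)
        (Abelian.monoLift_comp _ _ _)
    intro T T' h
    exact le_antisymm (key T T' (le_of_eq h)) (key T' T (le_of_eq h.symm))

/-- `M_J` is a quotient of a standard finite coproduct. -/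
theorem exists_presentation (Y : B) (J : Finset (Tt s Y)) :
    ∃ (n : ℕ) (v : Fin n → ι) (K : Subobject (∐ fun k => s (v k))),
      Nonempty (cokernel K.arrow ≅ (Msub s Y J : B)) := by
  classical
  let e := J.equivFin
  let v : Fin J.card → ι := fun k => (e.symm k).1.1
  let r : (∐ fun k => s (v k)) ≅ ∐ fun t : J => s t.1.1 :=
    Sigma.reindex e.symm (fun t : J => s t.1.1)
  let p : (∐ fun k => s (v k)) ⟶ (Msub s Y J : B) :=
    r.hom ≫ factorThruImageSubobject (sig s Y J)
  have hp : Epi p := epi_comp _ _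
  refine ⟨J.card, v, kernelSubobject p, ⟨?_⟩⟩
  let d : cokernel (kernelSubobject p).arrow ⟶ (Msub s Y J : B) :=
    cokernel.desc _ p (kernelSubobject_arrow_comp p)
  have hd : cokernel.π (kernelSubobject p).arrow ≫ d = p := cokernel.π_desc _ _ _
  have hepi : Epi d := epi_of_epi_fac hd
  have hmono : Mono d := by
    apply Preadditive.mono_of_cancel_zero
    intro Z y hy
    obtain ⟨Z', π', hπ', y', hy'⟩ := surjective_up_to_refinements_of_epi
      (cokernel.π (kernelSubobject p).arrow) y
    have h0 : y' ≫ p = 0 := by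
      rw [← hd, ← Category.assoc, ← hy', Category.assoc, hy, comp_zero]
    have hfac : (kernelSubobject p).Factors y' := (kernelSubobject_factors_iff _ _).mpr h0
    have h3 : y' ≫ cokernel.π (kernelSubobject p).arrow = 0 := by
      rw [← Subobject.factorThru_arrow _ _ hfac, Category.assoc, cokernel.condition, comp_zero]
    rw [← cancel_epi π', hy', h3, comp_zero]
  have : IsIso d := isIso_of_mono_of_epi d
  exact asIso d

end gen

end Groth.Agent.Lib.Helper20.NoethObj
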