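import Mathlib
import Groth.Agent.Lib.Helper20.NoethObjGen

open CategoryTheory CategoryTheory.Limits

namespace Groth.Agent.Lib.Helper20.NoethObj

universe w u₁ u₂

section shrink
variable {A : Type u₁} [Category.{w} A] [Abelian A]

theorem separating_shrink {κ₁ : Type*} [Small.{w} κ₁] (t₁ : κ₁ → A)
    (hN : ∀ k₁, IsNoetherianObject (t₁ k₁))
    (hsep₁ : ∀ ⦃X Y : A⦄ (f g : X ⟶ Y), (∀ (k : κ₁) (h : t₁ k ⟶ X), h ≫ f = h ≫ g) → f = g) :
    ∃ (κ : Type w) (t : κ → A), (∀ k, IsNoetherianObject (t k)) ∧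
      ∀ ⦃X Y : A⦄ (f g : X ⟶ Y), (∀ (k : κ) (h : t k ⟶ X), h ≫ f = h ≫ g) → f = g :=
  ⟨Shrink.{w} κ₁, fun k => t₁ ((equivShrink κ₁).symm k), fun k => hN _,
    fun X Y f g hfg => hsep₁ f g (fun k₁ h => by
      obtain ⟨k, rfl⟩ := (equivShrink κ₁).symm.surjective k₁
      exact hfg k h)⟩

end shrink

section gen2
variable {A : Type u₁} [Category.{w} A] [Abelian A] [HasColimitsOfSize.{w, w} A]
    {B : Type u₂} [Category.{w} B] [Abelian B] [HasColimitsOfSize.{w, w} B] [AB5OfSize.{w, w} B]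
    {ι : Type w} (s : ι → B) (hsN : ∀ i, IsNoetherianObject (s i))
    (hsep : ∀ ⦃X Y : B⦄ (f g : X ⟶ Y), (∀ (i : ι) (h : s i ⟶ X), h ≫ f = h ≫ g) → f = g)
    (F : A ⥤ B) (G : B ⥤ A) (adj : F ⊣ G) [F.Additive] [F.Faithful]
    [PreservesFiniteLimits F] [PreservesFiniteColimits F] [PreservesFilteredColimitsOfSize.{w, w} G]

/-- Index type of the generating family. -/
structure GenIdx where
  n : ℕ
  v : Fin n → ι
  K : Subobject (∐ fun k => s (v k))
  T : Subobject (G.obj (cokernel K.arrow))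
  hT : IsNoetherianObject (T : A)

theorem small_genIdx [WellPowered.{w} A] [WellPowered.{w} B] : Small.{w} (GenIdx s G) := by
  let f : GenIdx s G → Σ (n : ℕ) (v : Fin n → ι) (K : Subobject (∐ fun k => s (v k))),
      Subobject (G.obj (cokernel K.arrow)) := fun x => ⟨x.n, x.v, x.K, x.T⟩
  refine small_of_injective (f := f) ?_
  rintro ⟨n, v, K, T, hT⟩ ⟨n', v', K', T', hT'⟩ h
  simp only [f, Sigma.mk.injEq] at h
  obtain ⟨rfl, h⟩ := h
  simp only [heq_eq_eq, Sigma.mk.injEq] at h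
  obtain ⟨rfl, h⟩ := h
  simp only [heq_eq_eq, Sigma.mk.injEq] at h
  obtain ⟨rfl, h⟩ := h
  simp only [heq_eq_eq] at h
  subst h
  rfl

include hsN hsep adj in
theorem exists_noetherian_generators :
    ∃ (κ : Type w) (t : κ → A), (∀ k, IsNoetherianObject (t k)) ∧
      ∀ ⦃X Y : A⦄ (f g : X ⟶ Y), (∀ (k : κ) (h : t k ⟶ X), h ≫ f = h ≫ g) → f = g := by
  have hB : WellPowered.{w} B := wellPowered_of_separating s hsep
  have hA : WellPowered.{w} A := wellPowered_of_faithful F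
  have hsmall : Small.{w} (GenIdx s G) := small_genIdx s G
  refine separating_shrink (fun x : GenIdx s G => (x.T : A)) (fun x => x.hT) ?_
  intro X Y f g hfg
  rw [← sub_eq_zero]
  apply eq_zero_of_kernel_psi s hsN hsep F G adj
  intro J
  rw [Preadditive.comp_sub, sub_eq_zero]
  obtain ⟨n, v, K, ⟨θ⟩⟩ := exists_presentation s (F.obj X) J
  have hN := isNoetherianObject_kernel_psi s hsN F G adj X J
  let m : kernel (psi s F G adj X J) ⟶ G.obj (cokernel K.arrow) :=
    kerToG s F G adj X J ≫ G.map θ.inv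
  have hm : Mono m := mono_comp _ _
  have hT : IsNoetherianObject (Subobject.mk m : A) :=
    isNoetherianObject_of_epi (Subobject.underlyingIso m).inv
  have h1 := hfg ⟨n, v, K, Subobject.mk m, hT⟩ ((Subobject.underlyingIso m).hom ≫ kernel.ι _)
  simp only [Category.assoc] at h1
  exact (cancel_epi (Subobject.underlyingIso m).hom).mp h1

end gen2

end Groth.Agent.Lib.Helper20.NoethObj
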