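import Mathlib
import Groth.Agent.Lib.Helper20.NoethObjGen2

open CategoryTheory CategoryTheory.Limits

namespace Groth.Agent.Lib.Helper20.NoethObj

universe w u₁ u₂

section vanish'
universe t₁ t₂ t₃ r₁ r₂ r₃
variable {J : Type r₁} [Category.{t₁} J] [IsFiltered J]
  {A : Type r₂} [Category.{t₂} A] [Abelian A] {B : Type r₃} [Category.{t₃} B]
  {D : J ⥤ B} {X : B} (α : D ⟶ (Functor.const J).obj X) (G : B ⥤ A)

theorem cocone_ι_eq_zero' (hG : IsColimit (G.mapCocone (Cocone.mk X α)))
    (T : Cocone (cokerFunctor (Functor.whiskerRight α G))) (j : J) : T.ι.app j = 0 := by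
  have key : (cokerFunctorπ (Functor.whiskerRight α G)).app j ≫ T.ι.app j = 0 := by
    apply hG.hom_ext
    intro j'
    refine Eq.trans ?_ comp_zero.symm
    have e1 : T.ι.app j = (cokerFunctor (Functor.whiskerRight α G)).map
        (IsFiltered.leftToMax j j') ≫ T.ι.app (IsFiltered.max j j') :=
      (T.w (IsFiltered.leftToMax j j')).symm
    have e2 : (cokerFunctorπ (Functor.whiskerRight α G)).app j ≫
        (cokerFunctor (Functor.whiskerRight α G)).map (IsFiltered.leftToMax j j') =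
        (cokerFunctorπ (Functor.whiskerRight α G)).app (IsFiltered.max j j') := by
      have := (cokerFunctorπ (Functor.whiskerRight α G)).naturality (IsFiltered.leftToMax j j')
      rw [← this]
      simp
    have e3 : G.map (α.app j') ≫
        (cokerFunctorπ (Functor.whiskerRight α G)).app (IsFiltered.max j j') = 0 := by
      have h1 : α.app j' = D.map (IsFiltered.rightToMax j j') ≫ α.app (IsFiltered.max j j') := by
        simpa using (α.naturality (IsFiltered.rightToMax j j')).symm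
      rw [h1, G.map_comp, Category.assoc]
      have := app_cokerFunctorπ (Functor.whiskerRight α G) (IsFiltered.max j j')
      rw [Functor.whiskerRight_app] at this
      rw [this, comp_zero]
    rw [e1]
    show G.map (α.app j') ≫ (cokerFunctorπ (Functor.whiskerRight α G)).app j ≫
      (cokerFunctor (Functor.whiskerRight α G)).map (IsFiltered.leftToMax j j') ≫
      T.ι.app (IsFiltered.max j j') = 0
    rw [reassoc_of% e2, reassoc_of% e3, zero_comp]
  exact (cancel_epi ((cokerFunctorπ (Functor.whiskerRight α G)).app j)).mp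
    (key.trans comp_zero.symm)

end vanish'

section cover
attribute [local instance] IsFiltered.isConnected

variable {A : Type u₁} [Category.{w} A] [Abelian A] [HasColimitsOfSize.{w, w} A]
    {B : Type u₂} [Category.{w} B] [Abelian B] [HasColimitsOfSize.{w, w} B] [AB5OfSize.{w, w} B]
    {ι : Type w} (s : ι → B)
    (hsep : ∀ ⦃X Y : B⦄ (f g : X ⟶ Y), (∀ (i : ι) (h : s i ⟶ X), h ≫ f = h ≫ g) → f = g)
    (F : A ⥤ B) (G : B ⥤ A) (adj : F ⊣ G) [F.Additive] [F.Faithful]
    [PreservesFiniteLimits F] [PreservesFiniteColimits F] [PreservesFilteredColimitsOfSize.{w, w} G]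

include hsep in
/-- The kernels of the `ψ_J` jointly cover `X` (no noetherian hypothesis). -/
theorem eq_zero_of_kernel_psi' {X Y : A} (e : X ⟶ Y)
    (he : ∀ J, kernel.ι (psi s F G adj X J) ≫ e = 0) : e = 0 := by
  classical
  have hab5 : AB5OfSize.{w, w} A := ab5_of_faithful_exact_leftAdjoint F G adj
  obtain ⟨hcX⟩ := isColimit_cX s (F.obj X) ∅ hsep
  have hG : IsColimit (G.mapCocone (cX s (F.obj X) ∅)) := isColimitOfPreserves G hcX
  let β : Ddiag s (F.obj X) ∅ ⋙ G ⟶ (Functor.const _).obj (F.obj X) ⋙ G :=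
    Functor.whiskerRight (αnat s (F.obj X) ∅) G
  let C' : Finset (Tt s (F.obj X)) ⥤ A := cokerFunctor β
  let P : (Functor.const _).obj (F.obj X) ⋙ G ⟶ C' := cokerFunctorπ β
  have ht : ∀ J, colimit.ι C' J = 0 := fun J =>
    cocone_ι_eq_zero' (αnat s (F.obj X) ∅) G hG (colimit.cocone C') J
  let ψ : (Functor.const (Finset (Tt s (F.obj X)))).obj X ⟶ C' :=
    { app := fun J => adj.unit.app X ≫ P.app J
      naturality := fun J J' f => by
        have := P.naturality f
        show 𝟙 X ≫ adj.unit.app X ≫ P.app J' = (adj.unit.app X ≫ P.app J) ≫ C'.map f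
        rw [Category.id_comp, Category.assoc, ← this]
        simp }
  have hψ : ∀ J, ψ.app J = psi s F G adj X (J ∪ ∅) := fun J => rfl
  have hzero : colimMap ψ = 0 := by
    apply colimit.hom_ext
    intro J
    rw [ι_colimMap, ht J, comp_zero, comp_zero]
  let S : ShortComplex (Finset (Tt s (F.obj X)) ⥤ A) :=
    ShortComplex.mk (kernel.ι ψ) ψ (kernel.condition ψ)
  have hS : S.Exact := S.exact_of_f_is_kernel (kernelIsKernel ψ)
  have hS' : (S.map colim).Exact := hS.map colim
  have hepi : Epi (colimMap (kernel.ι ψ)) := hS'.epi_f hzero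
  let c : colimit ((Functor.const (Finset (Tt s (F.obj X)))).obj X) ⟶ X :=
    colimit.desc _ ⟨X, 𝟙 _⟩
  have hc : colimit.ι ((Functor.const (Finset (Tt s (F.obj X)))).obj X) ∅ ≫ c = 𝟙 X :=
    colimit.ι_desc _ _
  have hcsplit : IsSplitEpi c :=
    ⟨⟨⟨colimit.ι ((Functor.const (Finset (Tt s (F.obj X)))).obj X) ∅, hc⟩⟩⟩
  have hcepi : Epi c := inferInstance
  have key0 : ∀ J, (kernel.ι ψ).app J ≫ e = 0 := by
    intro J
    have h2 : (kernel.ι ψ).app J ≫ ψ.app J = 0 := by
      rw [← NatTrans.comp_app, kernel.condition]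
      rfl
    have h3 : (kernel.ι ψ).app J = kernel.lift (ψ.app J) ((kernel.ι ψ).app J) h2 ≫
        kernel.ι (ψ.app J) := (kernel.lift_ι _ _ _).symm
    have h4 : kernel.ι (ψ.app J) ≫ e = 0 := he (J ∪ ∅)
    rw [h3, Category.assoc, h4, comp_zero]
  have key : colimMap (kernel.ι ψ) ≫ c ≫ e = 0 := by
    apply colimit.hom_ext
    intro J
    have h1 : colimit.ι ((Functor.const (Finset (Tt s (F.obj X)))).obj X) J ≫ c = 𝟙 X :=
      colimit.ι_desc _ _
    calc colimit.ι (kernel ψ) J ≫ colimMap (kernel.ι ψ) ≫ c ≫ e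
        = (kernel.ι ψ).app J ≫
            (colimit.ι ((Functor.const (Finset (Tt s (F.obj X)))).obj X) J ≫ c) ≫ e := by
          rw [ι_colimMap_assoc, Category.assoc]
      _ = (kernel.ι ψ).app J ≫ e := by
          rw [h1]
          exact congrArg (fun t => (kernel.ι ψ).app J ≫ t) (Category.id_comp e)
      _ = 0 := key0 J
      _ = colimit.ι (kernel ψ) J ≫ 0 := comp_zero.symm
  have : Epi (colimMap (kernel.ι ψ) ≫ c) := epi_comp _ _
  rw [← cancel_epi (colimMap (kernel.ι ψ) ≫ c), Category.assoc, key, comp_zero]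

end cover

section gen3
variable {A : Type u₁} [Category.{w} A] [Abelian A] [HasColimitsOfSize.{w, w} A]
    {B : Type u₂} [Category.{w} B] [Abelian B] [HasColimitsOfSize.{w, w} B] [AB5OfSize.{w, w} B]
    {ι : Type w} (s : ι → B)
    (hsep : ∀ ⦃X Y : B⦄ (f g : X ⟶ Y), (∀ (i : ι) (h : s i ⟶ X), h ≫ f = h ≫ g) → f = g)
    (F : A ⥤ B) (G : B ⥤ A) (adj : F ⊣ G) [F.Additive] [F.Faithful]
    [PreservesFiniteLimits F] [PreservesFiniteColimits F] [PreservesFilteredColimitsOfSize.{w, w} G]

/-- Index type of the generating family (no noetherian condition). -/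
structure GenIdx' where
  n : ℕ
  v : Fin n → ι
  K : Subobject (∐ fun k => s (v k))
  T : Subobject (G.obj (cokernel K.arrow))

theorem small_genIdx' [WellPowered.{w} A] [WellPowered.{w} B] : Small.{w} (GenIdx' s G) := by
  let f : GenIdx' s G → Σ (n : ℕ) (v : Fin n → ι) (K : Subobject (∐ fun k => s (v k))),
      Subobject (G.obj (cokernel K.arrow)) := fun x => ⟨x.n, x.v, x.K, x.T⟩
  refine small_of_injective (f := f) ?_
  rintro ⟨n, v, K, T⟩ ⟨n', v', K', T'⟩ h
  simp only [f, Sigma.mk.injEq] at h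
  obtain ⟨rfl, h⟩ := h
  simp only [heq_eq_eq, Sigma.mk.injEq] at h
  obtain ⟨rfl, h⟩ := h
  simp only [heq_eq_eq, Sigma.mk.injEq] at h
  obtain ⟨rfl, h⟩ := h
  simp only [heq_eq_eq] at h
  subst h
  rfl

theorem separating_shrink' {κ₁ : Type*} [Small.{w} κ₁] (t₁ : κ₁ → A)
    (hsep₁ : ∀ ⦃X Y : A⦄ (f g : X ⟶ Y), (∀ (k : κ₁) (h : t₁ k ⟶ X), h ≫ f = h ≫ g) → f = g) :
    ∃ (κ : Type w) (t : κ → A),
      ∀ ⦃X Y : A⦄ (f g : X ⟶ Y), (∀ (k : κ) (h : t k ⟶ X), h ≫ f = h ≫ g) → f = g :=
  ⟨Shrink.{w} κ₁, fun k => t₁ ((equivShrink κ₁).symm k),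
    fun X Y f g hfg => hsep₁ f g (fun k₁ h => by
      obtain ⟨k, rfl⟩ := (equivShrink κ₁).symm.surjective k₁
      exact hfg k h)⟩

include hsep adj in
theorem exists_generators :
    ∃ (κ : Type w) (t : κ → A),
      ∀ ⦃X Y : A⦄ (f g : X ⟶ Y), (∀ (k : κ) (h : t k ⟶ X), h ≫ f = h ≫ g) → f = g := by
  have hB : WellPowered.{w} B := wellPowered_of_separating s hsep
  have hA : WellPowered.{w} A := wellPowered_of_faithful F
  have hsmall : Small.{w} (GenIdx' s G) := small_genIdx' s G
  refine separating_shrink' (fun x : GenIdx' s G => (x.T : A)) ?_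
  intro X Y f g hfg
  rw [← sub_eq_zero]
  apply eq_zero_of_kernel_psi' s hsep F G adj
  intro J
  rw [Preadditive.comp_sub, sub_eq_zero]
  obtain ⟨n, v, K, ⟨θ⟩⟩ := exists_presentation s (F.obj X) J
  let m : kernel (psi s F G adj X J) ⟶ G.obj (cokernel K.arrow) :=
    kerToG s F G adj X J ≫ G.map θ.inv
  have hm : Mono m := mono_comp _ _
  have h1 := hfg ⟨n, v, K, Subobject.mk m⟩ ((Subobject.underlyingIso m).hom ≫ kernel.ι _)
  simp only [Category.assoc] at h1
  exact (cancel_epi (Subobject.underlyingIso m).hom).mp h1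

include hsep adj in
theorem hasSeparator_of_faithful_exact_leftAdjoint : HasSeparator A := by
  obtain ⟨κ, t, ht⟩ := exists_generators s hsep F G adj
  have hS : ObjectProperty.IsSeparating (ObjectProperty.ofObj t) := by
    intro X Y f g hfg
    apply ht
    intro k h
    exact hfg _ (ObjectProperty.ofObj_apply t k) h
  exact ⟨⟨∐ t, hS.isSeparator_coproduct⟩⟩

end gen3

end Groth.Agent.Lib.Helper20.NoethObj
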