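import Mathlib
import Groth.Agent.Lib.Helper20.H0Vanish
import Groth.Agent.Lib.Helper20.PushReg
import Groth.Agent.Lib.Helper18.Clifford
import Groth.Agent.Lib.Lead.CurveSec
import Groth.Agent.Lib.Helper11.InvMod
import Groth.Prelude.Def_Omega3
import Groth.Prelude.Def_LinSer

/-!
# Nondegenerate curves in `P^r` have degree `≥ r` (helper20)

* `finrank_linear_ge`: the space of linear forms in `n + 1` variables has dimension `≥ n + 1`;
* `finrank_H0_O1_ge`: `n + 1 ≤ h^0(P^n_k, O(1))`;
* `deg_ge_of_nondegenerate`.
-/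

set_option autoImplicit false
universe u

open CategoryTheory CategoryTheory.Limits AlgebraicGeometry Opposite TopologicalSpace Module

namespace Groth.Agent.Lib.helper20.NondegCurve

lemma finrank_linear_ge (k : Type*) [Field k] (n : ℕ)
    [Module.Finite k ↥(MvPolynomial.homogeneousSubmodule (Fin (n + 1)) k 1)] :
    n + 1 ≤ Module.finrank k ↥(MvPolynomial.homogeneousSubmodule (Fin (n + 1)) k 1) := by
  let v : Fin (n + 1) → ↥(MvPolynomial.homogeneousSubmodule (Fin (n + 1)) k 1) := fun i =>
    ⟨MvPolynomial.X i, MvPolynomial.isHomogeneous_X k i⟩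
  have hli : LinearIndependent k v := by
    refine LinearIndependent.of_comp (MvPolynomial.homogeneousSubmodule (Fin (n + 1)) k 1).subtype ?_
    have h1 : LinearIndependent k (fun s : (Fin (n + 1) →₀ ℕ) =>
        (MvPolynomial.monomial s (1 : k))) := (MvPolynomial.basisMonomials (Fin (n + 1)) k).linearIndependent
    have hinj : Function.Injective (fun i : Fin (n + 1) => Finsupp.single i 1) := by
      intro a b hab
      exact Finsupp.single_left_injective (by norm_num) hab
    exact h1.comp _ hinj
  have := hli.fintype_card_le_finrank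
  simpa using this

section

variable {k : Type u} [Field k] {n : ℕ}

lemma finrank_H0_O1_ge :
    n + 1 ≤ Module.finrank k (Coh.HH (CohB1.ProjSpace n k) (Twist.twistProjSpace n k 1) 0) := by
  obtain ⟨E⟩ := Groth.Agent.S0843.result k n 1
  have e1 : Twist.twistProjSpace n k ((1 : ℕ) : ℤ) = Twist.twistProjSpace n k 1 := by norm_num
  rw [e1] at E
  rw [E.finrank_eq]
  have hfin : Module.Finite k ↥(MvPolynomial.homogeneousSubmodule (Fin (n + 1)) k 1) := by
    have h1 : Module.Finite k (Coh.HH (CohB1.ProjSpace n k)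
        (Twist.twistProjSpace n k 1) 0) :=
      Groth.Agent.S0038.result n k _ (Groth.Agent.Lib.helper20.Horrocks.isCoh_O 1) 0
    exact Module.Finite.equiv E
  exact finrank_linear_ge k n

end

section curve

open Groth.Agent.Lib.Helper18.HH

variable (k : Type u) [Field k] [IsAlgClosed k] (r : ℕ)
  (X : Scheme.{u}) [X.Over (Spec (CommRingCat.of k))] [IsIntegral X]
  [IsProper (X ↘ (Spec (CommRingCat.of k)))]

theorem deg_ge_of_nondegenerate (hdim : topologicalKrullDim X = 1)
    (i : X ⟶ CohB1.ProjSpace r k) [IsClosedImmersion i]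
    (hi : i ≫ CohB1.ProjSpace.toSpec r k = (X ↘ (Spec (CommRingCat.of k))))
    (hplane : ∀ s : LinSer.Sect (CohB1.ProjSpace r k) (Twist.twistProjSpace r k 1), s ≠ 0 →
      OmegaSh.pullSect i (Twist.twistProjSpace r k 1) ⊤ s ≠ 0) :
    (r : ℤ) ≤ Curv2.deg k X ((Scheme.Modules.pullback i).obj (Twist.twistProjSpace r k 1)) 1 := by
  have hdim' : topologicalKrullDim X ≤ 1 := hdim.le
  set L := (Scheme.Modules.pullback i).obj (Twist.twistProjSpace r k 1) with hLdef
  have hL : PicF.IsInvertible L :=
    Groth.Agent.Lib.helper11.InvMod.isInvertible_pullback i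
      (Groth.Agent.Lib.helper28.TwistPn.isInvertible r k 1)
  have hLc : Coh.IsCoh L := Groth.Agent.Lib.Lead.CurveInv.isCoh_of_isInvertible X hL
  have hLq : L.IsQuasicoherent := hLc.1
  have hover := Groth.Agent.Lib.Lead.ProjectiveCoh.isOver i hi
  have hfinX : Module.Finite k (Coh.HH X L 0) :=
    Groth.Agent.Lib.Lead.ProperEuler.finite_HH k X _ hLc 0
  have hfinP : Module.Finite k (Coh.HH (CohB1.ProjSpace r k) ((Coh.push i).obj L) 0) :=
    (finite_iff_push i L k 0).1 hfinX
  -- the unit of the adjunction
  let η : Twist.twistProjSpace r k 1 ⟶ (Coh.push i).obj L :=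
    (Scheme.Modules.pullbackPushforwardAdjunction i).unit.app (Twist.twistProjSpace r k 1)
  have hinj : Function.Injective (mapOver k η 0) := by
    rw [← LinearMap.ker_eq_bot, LinearMap.ker_eq_bot']
    intro x hx
    by_contra hne
    have h1 : equiv₀ (Twist.twistProjSpace r k 1) x ≠ 0 := by
      intro h0
      apply hne
      apply (equiv₀ (Twist.twistProjSpace r k 1)).injective
      rw [h0, _root_.map_zero]
    have h2 := hplane _ h1
    apply h2
    have h3 := equiv₀_naturality η x
    rw [mapOver_apply] at hx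
    rw [hx, _root_.map_zero] at h3
    exact h3.symm
  have hle : r + 1 ≤ Module.finrank k (Coh.HH X L 0) := by
    have h1 := LinearMap.finrank_le_finrank_of_injective hinj
    have h2 := finrank_push i L k 0
    have h3 := finrank_H0_O1_ge (k := k) (n := r)
    omega
  obtain ⟨s, hs⟩ := Groth.Agent.Lib.Lead.CurveSec.exists_hom_ne_zero_of_finrank_pos k X L (by omega)
  have h4 := Groth.Agent.Lib.Lead.CurveSec.finrank_H0_le k X hdim' hL s hs
  have h5 := Groth.Agent.Lib.helper9.CurveVanish.finrank_H0_structureModule_eq_one k X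
  rw [h5] at h4
  have hle' : ((r + 1 : ℕ) : ℤ) ≤ (Module.finrank k (Coh.HH X L 0) : ℤ) := by exact_mod_cast hle
  push_cast at hle' h4
  linarith

end curve

end Groth.Agent.Lib.helper20.NondegCurve
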