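import Mathlib
import Groth.Agent.Lib.Helper20.TensorEquiv
import Groth.Agent.Lib.Helper20.SmulHom

/-!
# Scalar multiplication and tensor products; Ext-lifting lemmas (helper20)

* `tensorMap_smulHom : tensorMap (smulHom r M) (𝟙 N) = smulHom r (M ⊗ N)`.
* `toSheaf_map_smulHom`, `eq_smulHom_of_toSheaf`.
* `ext_lift`, `ext_one_subsingleton` in an abelian category with `Ext`.
-/

set_option backward.isDefEq.respectTransparency false
set_option autoImplicit false

universe w v u

open CategoryTheory MonoidalCategory AlgebraicGeometry Opposite Limits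

namespace Groth.Agent.Lib.Helper20.NullCorr1

open Groth.Agent.Lib.Lead.ModTensor Groth.Agent.Lib.Helper20.TensorEquiv
  Groth.Agent.Lib.Helper20.SmulHom

section Smul

variable {X : Scheme.{u}}

/-- multiplication by a global function on a presheaf of modules -/
noncomputable def smulHomP (r : Coh.Γtop X) (P : CohB1.PMod X) : P ⟶ P :=
  PresheafOfModules.homMk
    { app := fun U => AddCommGrpCat.ofHom
        (DistribSMul.toAddMonoidHom (P.obj U) (Coh.resTop X U r))
      naturality := by
        intro U V f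
        ext m
        change Coh.resTop X V r • (P.map f).hom m =
          (P.map f).hom (@HSMul.hSMul (X.ringCatSheaf.obj.obj U) (P.obj U) (P.obj U) _
            (Coh.resTop X U r) m)
        rw [← Coh.resTop_comp U V f r]
        exact (P.map_smul f (Coh.resTop X U r) m).symm }
    (fun U s m => by
      change Coh.resTop X U r • (s • m) = s • (Coh.resTop X U r • m)
      rw [smul_smul, smul_smul, mul_comm_sec])

lemma smulHomP_app (r : Coh.Γtop X) (P : CohB1.PMod X) (U : (TopologicalSpace.Opens X)ᵒᵖ)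
    (m : P.obj U) : ((smulHomP r P).app U).hom m = Coh.resTop X U r • m := rfl

lemma smulHomP_naturality (r : Coh.Γtop X) {P Q : CohB1.PMod X} (f : P ⟶ Q) :
    smulHomP r P ≫ f = f ≫ smulHomP r Q := by
  ext U m
  change (f.app U).hom (Coh.resTop X U r • m) = Coh.resTop X U r • (f.app U).hom m
  exact (f.app U).hom.map_smul _ _

lemma V_map_smulHom (r : Coh.Γtop X) (M : X.Modules) :
    (V X).map (smulHom r M) = smulHomP r (CohB1.toPMod M) := by
  ext U m
  rfl

/-- `(r • -) ⊗ Q = r • -` on the presheaf tensor product -/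
lemma smulHomP_whiskerRight (r : Coh.Γtop X) (P Q : CohB1.PMod X) :
    smulHomP r P ▷ Q = smulHomP r (P ⊗ Q) := by
  ext U : 1
  refine ModuleCat.MonoidalCategory.tensor_ext (fun m q => ?_)
  rfl

/-- sheafification is compatible with multiplication by a global function -/
lemma L_map_smulHomP (r : Coh.Γtop X) (P : CohB1.PMod X) :
    (L X).map (smulHomP r P) = smulHom r ((L X).obj P) := by
  apply ((adj X).homEquiv P ((L X).obj P)).injective
  rw [Adjunction.homEquiv_unit, Adjunction.homEquiv_unit]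
  have h1 : (adj X).unit.app P ≫ (V X).map ((L X).map (smulHomP r P)) =
      smulHomP r P ≫ (adj X).unit.app P := ((adj X).unit.naturality (smulHomP r P)).symm
  have h2 : (V X).map (smulHom r ((L X).obj P)) = smulHomP r (CohB1.toPMod ((L X).obj P)) :=
    V_map_smulHom r _
  exact h1.trans ((smulHomP_naturality r ((adj X).unit.app P)).trans
    (congrArg (fun t => (adj X).unit.app P ≫ t) h2.symm))

/-- `(r • -) ⊗ N = r • -` on `M ⊗ N` -/
theorem tensorMap_smulHom (r : Coh.Γtop X) (M N : X.Modules) :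
    tensorMap (smulHom r M) (𝟙 N) = smulHom r (CohB1.tensorMod M N) := by
  rw [tensorMap_eq_whiskerRight, V_map_smulHom]
  exact (congrArg (fun t => (L X).map t) (smulHomP_whiskerRight r _ _)).trans (L_map_smulHomP r _)

lemma toSheaf_map_smulHom (r : Coh.Γtop X) (M : X.Modules) :
    (SheafOfModules.toSheaf X.ringCatSheaf).map (smulHom r M) = Coh.smulAb M r := rfl

lemma eq_smulHom_of_toSheaf (r : Coh.Γtop X) {M : X.Modules} (φ : M ⟶ M)
    (h : (SheafOfModules.toSheaf X.ringCatSheaf).map φ = Coh.smulAb M r) : φ = smulHom r M :=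
  (SheafOfModules.toSheaf X.ringCatSheaf).map_injective (h.trans (toSheaf_map_smulHom r M).symm)

end Smul

section ExtLemmas

open Abelian

variable {C : Type u} [Category.{v} C] [Abelian C] [HasExt.{w} C]

/-- lifting along an epi when `Ext¹` vanishes -/
lemma ext_lift {S : ShortComplex C} (hS : S.ShortExact) {X : C} (y : X ⟶ S.X₃)
    (h : Subsingleton (Ext.{w} X S.X₁ 1)) : ∃ x : X ⟶ S.X₂, x ≫ S.g = y := by
  obtain ⟨x₂, hx₂⟩ := Ext.covariant_sequence_exact₃ X hS (Ext.mk₀ y) (n₁ := 1) (by simp)
    (Subsingleton.elim _ _)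
  obtain ⟨x, rfl⟩ := (Ext.mk₀_bijective _ _).2 x₂
  refine ⟨x, ?_⟩
  rw [Ext.mk₀_comp_mk₀] at hx₂
  exact (Ext.mk₀_bijective _ _).1 hx₂

/-- `Ext¹(X₁, Y) = 0` when `Ext¹(X₂, Y) = 0` and `Ext²(X₃, Y) = 0` -/
lemma ext_one_subsingleton {S : ShortComplex C} (hS : S.ShortExact) (Y : C)
    (h₁ : Subsingleton (Ext.{w} S.X₂ Y 1)) (h₂ : Subsingleton (Ext.{w} S.X₃ Y 2)) :
    Subsingleton (Ext.{w} S.X₁ Y 1) := by
  constructor
  intro a b
  have key : ∀ x : Ext.{w} S.X₁ Y 1, x = 0 := by
    intro x
    obtain ⟨x₂, hx₂⟩ := Ext.contravariant_sequence_exact₁ hS Y x (n₁ := 2) (by simp)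
      (Subsingleton.elim _ _)
    rw [← hx₂, Subsingleton.elim x₂ 0, Ext.comp_zero]
  rw [key a, key b]

/-- `Ext` out of a finite coproduct vanishes when it does on each summand -/
lemma subsingleton_ext_sigma' {J : Type} [Fintype J] (L : J → C) (Y : C) (n : ℕ)
    (h : ∀ i, Subsingleton (Ext.{w} (L i) Y n)) : Subsingleton (Ext.{w} (∐ L) Y n) := by
  have hc := biconeIsBilimitOfColimitCoconeOfIsColimit (colimit.isColimit (Discrete.functor L))
  exact (Ext.biproductAddEquiv hc Y n).toEquiv.subsingleton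

end ExtLemmas

end Groth.Agent.Lib.Helper20.NullCorr1
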