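import Mathlib
import Groth.Agent.Lib.Helper20.NullCorr1
import Groth.Agent.Lib.Helper20.Euler5b
import Groth.Agent.Lib.Helper20.ExtDual
import Groth.Agent.Lib.Helper20.OmegaSimple
import Groth.Agent.Lib.Helper20.LargeTwist2

/-!
# Quotients of `Ω(1)` by `O(-1)` on projective space are simple (helper20)

`Ext¹(Ω(1), O(-1)) = 0` on `P^n_R`, and for a domain `R`, every endomorphism of the cokernel of a
monomorphism `O(-1) → Ω(1)` is multiplication by a constant.
-/

set_option autoImplicit false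
universe u

open CategoryTheory CategoryTheory.Limits AlgebraicGeometry Opposite TopologicalSpace Abelian

namespace Groth.Agent.Lib.Helper20.NullCorr2

open Groth.Agent.Lib.Helper20.NullCorr1 Groth.Agent.Lib.Helper20.ExtDim
  Groth.Agent.Lib.Helper20.ExtDual
  Groth.Agent.Lib.Helper20.TensorEquiv Groth.Agent.Lib.Helper20.TwistEquivPn
  Groth.Agent.Lib.Lead.ModTensor Groth.Agent.Lib.helper28
  Groth.Agent.Lib.helper20.Euler3 Groth.Agent.Lib.helper20.Euler4f
  Groth.Agent.Lib.helper20.Euler5b Groth.Agent.Lib.Helper20.SmulHom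

noncomputable section

section Ext

variable (n : ℕ) (R : Type u) [CommRing R] [HasExt.{u} (CohB1.ProjSpace n R).Modules]

/-- `Ext^i(O(a), O(b)) = 0` when `H^i(O(b - a)) = 0` -/
lemma ext_twist_subsingleton (a b c : ℤ) (hc : b + -a = c) (i : ℕ)
    (h : Subsingleton (Coh.HH (CohB1.ProjSpace n R) (Twist.twistProjSpace n R c) i)) :
    Subsingleton (Ext.{u} (Twist.twistProjSpace n R a) (Twist.twistProjSpace n R b) i) := by
  have : EnoughInjectives (CohB1.ProjSpace n R).Modules :=
    Groth.Agent.Lib.Helper21.ModGroth.enoughInjectives_mod (CohB1.ProjSpace n R).ringCatSheaf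
  have hE : (tensorRight (Twist.twistProjSpace n R (-a))).IsEquivalence :=
    isEquivalence_tensorRight
      (TwistPn.tensorIso n R (-a) a ≪≫ twistCongr n R (neg_add_cancel a) ≪≫
        (TwistPn.zeroIso n R).symm)
  let e1 : (tensorRight (Twist.twistProjSpace n R (-a))).obj (Twist.twistProjSpace n R a) ≅
      Coh.structureModule (CohB1.ProjSpace n R) := invIso n R a
  let e2 : (tensorRight (Twist.twistProjSpace n R (-a))).obj (Twist.twistProjSpace n R b) ≅
      Twist.twistProjSpace n R c :=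
    TwistPn.tensorIso n R b (-a) ≪≫ twistCongr n R hc
  exact subsingleton_ext_of_equivalence _ e1 e2 i (subsingleton_ext_unit _ i h)

/-- `Ext^i(K_p, O(b)) = 0` when `H^i(O(b + p)) = 0` -/
lemma ext_KK_subsingleton (p : ℕ) (b c : ℤ) (hc : b + (p : ℤ) = c) (i : ℕ)
    (h : Subsingleton (Coh.HH (CohB1.ProjSpace n R) (Twist.twistProjSpace n R c) i)) :
    Subsingleton (Ext.{u} (KK n R p) (Twist.twistProjSpace n R b) i) :=
  subsingleton_ext_sigma' (fun _ : Idx n p => Twist.twistProjSpace n R (-(p : ℤ))) _ i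
    (fun _ => ext_twist_subsingleton n R (-(p : ℤ)) b c (by rw [neg_neg]; exact hc) i h)

/-- `Ext¹(Z_1, O(-2)) = 0` -/
lemma ext_Z1_subsingleton :
    Subsingleton (Ext.{u} (ZZ n R 1) (Twist.twistProjSpace n R (-2)) 1) := by
  refine ext_one_subsingleton (shortExact_sesZ' n R 0) (Twist.twistProjSpace n R (-2)) ?_ ?_
  · refine ext_KK_subsingleton n R (0 + 1) (-2) (-1) (by norm_num) 1 (hO n R (-1) 1 ?_ ?_)
    · rintro ⟨h0, -⟩
      exact absurd h0 (by norm_num)
    · rintro ⟨h1, h2⟩
      omega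
  · let e0 : ZZ n R 0 ≅ Coh.structureModule (CohB1.ProjSpace n R) :=
      Groth.Agent.Lib.helper20.OmegaSimple.isoZ0 (n := n) (A := R)
    refine subsingleton_ext_of_iso e0.symm (Iso.refl (Twist.twistProjSpace n R (-2))) 2
      (subsingleton_ext_unit _ 2 (hO n R (-2) 2 ?_ ?_))
    · rintro ⟨h0, -⟩
      exact absurd h0 (by norm_num)
    · rintro ⟨h1, h2⟩
      omega

/-- `Ext¹(F ⊗ O(1), O(-1)) = 0` for `F ≅ Z_1` -/
lemma ext_twist_one_subsingleton (F : (CohB1.ProjSpace n R).Modules) (e : F ≅ ZZ n R 1) :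
    Subsingleton (Ext.{u} (CohB1.tensorMod F (Twist.twistProjSpace n R 1))
      (Twist.twistProjSpace n R (-1)) 1) := by
  have : EnoughInjectives (CohB1.ProjSpace n R).Modules :=
    Groth.Agent.Lib.Helper21.ModGroth.enoughInjectives_mod (CohB1.ProjSpace n R).ringCatSheaf
  have hE : (tensorRight (Twist.twistProjSpace n R (-1))).IsEquivalence :=
    isEquivalence_tensorRight
      (TwistPn.tensorIso n R (-1) 1 ≪≫ twistCongr n R (neg_add_cancel 1) ≪≫
        (TwistPn.zeroIso n R).symm)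
  let e1 : (tensorRight (Twist.twistProjSpace n R (-1))).obj
      (CohB1.tensorMod F (Twist.twistProjSpace n R 1)) ≅ ZZ n R 1 :=
    twistTwistIso n R F 1 (-1) ≪≫ tensorIso (Iso.refl F) (twistCongr n R (add_neg_cancel 1)) ≪≫
      twistZeroIso n R F ≪≫ e
  let e2 : (tensorRight (Twist.twistProjSpace n R (-1))).obj (Twist.twistProjSpace n R (-1)) ≅
      Twist.twistProjSpace n R (-2) :=
    TwistPn.tensorIso n R (-1) (-1) ≪≫ twistCongr n R (by norm_num)
  exact subsingleton_ext_of_equivalence _ e1 e2 1 (ext_Z1_subsingleton n R)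

end Ext

section Main

open Groth.Agent.Lib.helper20.OmegaSimple Groth.Agent.Lib.helper20.Euler2

variable (n : ℕ) (R : Type u) [CommRing R] [IsDomain R]
  [QuasiSeparated (CohB1.ProjSpace.toSpec n R)]

/-- Every endomorphism of the cokernel of a monomorphism `O(-1) → Ω(1)` on `P^n_R` (`R` a domain)
is multiplication by a constant. -/
theorem end_cokernel
    (u : Twist.twistProjSpace n R (-1) ⟶
      CohB1.tensorMod (Omega.sheaf (CohB1.ProjSpace.toSpec n R)) (Twist.twistProjSpace n R 1))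
    [Mono u] (φ : cokernel u ⟶ cokernel u) :
    ∃ c : R, (SheafOfModules.toSheaf (CohB1.ProjSpace n R).ringCatSheaf).map φ =
      Coh.smulAb (cokernel u) (Coh.toGlobal (CohB1.ProjSpace.toSpec n R) c) := by
  haveI : QuasiSeparated (fP n R) := ‹QuasiSeparated (CohB1.ProjSpace.toSpec n R)›
  have hExt : HasExt.{u} (CohB1.ProjSpace n R).Modules :=
    Groth.Agent.Lib.Helper20.LargeTwist.hasExt_modules _
  obtain ⟨e⟩ : Nonempty (Omega.sheaf (CohB1.ProjSpace.toSpec n R) ≅ ZZ n R 1) :=
    nonempty_iso_Z (n := n) (A := R) (p := 1) (L := Omega.sheaf (fP n R))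
      extDataOne extCompat_one
  -- the short exact sequence
  let S : ShortComplex (CohB1.ProjSpace n R).Modules :=
    ShortComplex.mk u (cokernel.π u) (cokernel.condition u)
  have hS : S.ShortExact :=
    { exact := ShortComplex.exact_cokernel u
      mono_f := ‹Mono u›
      epi_g := inferInstanceAs (Epi (cokernel.π u)) }
  obtain ⟨ψ, hψ⟩ : ∃ ψ : CohB1.tensorMod (Omega.sheaf (CohB1.ProjSpace.toSpec n R))
      (Twist.twistProjSpace n R 1) ⟶ CohB1.tensorMod (Omega.sheaf (CohB1.ProjSpace.toSpec n R))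
      (Twist.twistProjSpace n R 1), ψ ≫ cokernel.π u = cokernel.π u ≫ φ :=
    ext_lift hS (cokernel.π u ≫ φ) (ext_twist_one_subsingleton n R _ e)
  -- `ψ` comes from an endomorphism of `Ω`
  have hE : (tensorRight (Twist.twistProjSpace n R 1)).IsEquivalence :=
    isEquivalence_tensorRight (invIso n R 1)
  obtain ⟨ψ₀, hψ₀⟩ := (tensorRight (Twist.twistProjSpace n R 1)).map_surjective ψ
  obtain ⟨c, hc⟩ := end_Omega (n := n) (A := R) ψ₀
  refine ⟨c, ?_⟩
  have h1 : ψ₀ = smulHom (Coh.toGlobal (CohB1.ProjSpace.toSpec n R) c) _ :=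
    eq_smulHom_of_toSheaf _ ψ₀ hc
  have h2 : ψ = smulHom (Coh.toGlobal (CohB1.ProjSpace.toSpec n R) c) _ := by
    rw [← hψ₀, h1]
    exact tensorMap_smulHom _ _ _
  have h3 : cokernel.π u ≫ φ =
      cokernel.π u ≫ smulHom (Coh.toGlobal (CohB1.ProjSpace.toSpec n R) c) (cokernel u) := by
    rw [← hψ, h2]
    exact smulHom_naturality _ _
  have h4 : φ = smulHom (Coh.toGlobal (CohB1.ProjSpace.toSpec n R) c) (cokernel u) :=
    (cancel_epi (cokernel.π u)).mp h3
  rw [h4]
  exact toSheaf_map_smulHom _ _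

end Main

end

end Groth.Agent.Lib.Helper20.NullCorr2
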