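import Mathlib
import Groth.Agent.Lib.Helper20.NullCorr2
import Groth.Agent.Lib.Helper20.Euler6b

/-!
# `H⁰` of a quotient of `Ω(1)` by `O(-1)` on projective space vanishes (helper20)
-/

set_option autoImplicit false
universe u

open CategoryTheory CategoryTheory.Limits AlgebraicGeometry Opposite TopologicalSpace

namespace Groth.Agent.Lib.Helper20.NullCorr3

open Groth.Agent.Lib.Helper20.NullCorr1
  Groth.Agent.Lib.Helper20.TensorEquiv Groth.Agent.Lib.Helper20.TwistEquivPn
  Groth.Agent.Lib.Lead.ModTensor Groth.Agent.Lib.helper28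
  Groth.Agent.Lib.helper20.Euler3 Groth.Agent.Lib.helper20.Euler4f
  Groth.Agent.Lib.helper20.Euler5b
  Groth.Agent.Lib.helper20.OmegaSimple Groth.Agent.Lib.helper20.Euler2

noncomputable section

variable (n : ℕ) (R : Type u) [CommRing R] [IsDomain R] [QuasiSeparated (CohB1.ProjSpace.toSpec n R)]

/-- `H⁰(Ω(1)) = 0` on `P^n_R`, `n ≥ 1` -/
theorem subsingleton_H0_Omega_one (hn : 1 ≤ n) :
    Subsingleton (Coh.HH (CohB1.ProjSpace n R)
      (CohB1.tensorMod (Omega.sheaf (CohB1.ProjSpace.toSpec n R)) (Twist.twistProjSpace n R 1)) 0) := by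
  haveI : QuasiSeparated (fP n R) := ‹QuasiSeparated (CohB1.ProjSpace.toSpec n R)›
  obtain ⟨e⟩ : Nonempty (Omega.sheaf (CohB1.ProjSpace.toSpec n R) ≅ ZZ n R 1) :=
    nonempty_iso_Z (n := n) (A := R) (p := 1) (L := Omega.sheaf (fP n R))
      extDataOne extCompat_one
  have hb : Subsingleton (Coh.HH (CohB1.ProjSpace n R) (Zk n R 1 1) 0) := by
    refine bott n R 1 1 0 hn ?_ ?_ ?_
    · rintro ⟨-, h⟩
      exact absurd h (by norm_num)
    · rintro ⟨h1, h2⟩
      omega
    · rintro ⟨h, -⟩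
      exact absurd h (by norm_num)
  exact TwistEquivPn.subsingleton_of_iso
    (tensorIso e (Iso.refl (Twist.twistProjSpace n R 1))).symm 0 hb

/-- `H⁰` of the cokernel of a monomorphism `O(-1) → Ω(1)` on `P^n_R`, `n ≥ 1`, vanishes -/
theorem subsingleton_H0_cokernel (hn : 1 ≤ n)
    (u : Twist.twistProjSpace n R (-1) ⟶
      CohB1.tensorMod (Omega.sheaf (CohB1.ProjSpace.toSpec n R)) (Twist.twistProjSpace n R 1))
    [Mono u] : Subsingleton (Coh.HH (CohB1.ProjSpace n R) (cokernel u) 0) := by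
  let S : ShortComplex (CohB1.ProjSpace n R).Modules :=
    ShortComplex.mk u (cokernel.π u) (cokernel.condition u)
  have hS : S.ShortExact :=
    { exact := ShortComplex.exact_cokernel u
      mono_f := ‹Mono u›
      epi_g := inferInstanceAs (Epi (cokernel.π u)) }
  have h1 : Subsingleton (Coh.HH (CohB1.ProjSpace n R) S.X₁ (0 + 1)) := by
    refine hO n R (-1) 1 ?_ ?_
    · rintro ⟨h, -⟩
      exact absurd h (by norm_num)
    · rintro ⟨h1, h2⟩
      omega
  have hsurj := Groth.Agent.Lib.helper20.Euler6b.surjective_g hS 0 h1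
  have := subsingleton_H0_Omega_one n R hn
  exact hsurj.subsingleton

end

end Groth.Agent.Lib.Helper20.NullCorr3
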