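import Mathlib
import Groth.Agent.Lib.Helper20.NullCorr2
import Groth.Agent.Lib.Helper16.FLF5
import Groth.Agent.Lib.Helper28.TwistPn

/-!
# Quotients of `Ω(1)` by `O(-1)`: isomorphic iff the maps are proportional (helper20)
-/

set_option autoImplicit false
universe u

open CategoryTheory CategoryTheory.Limits AlgebraicGeometry Opposite TopologicalSpace Abelian

namespace Groth.Agent.Lib.Helper20.NullCorr4

open Groth.Agent.Lib.Helper20.NullCorr1 Groth.Agent.Lib.Helper20.NullCorr2
  Groth.Agent.Lib.Helper20.TensorEquiv Groth.Agent.Lib.Helper20.TwistEquivPn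
  Groth.Agent.Lib.Lead.ModTensor Groth.Agent.Lib.helper28
  Groth.Agent.Lib.helper20.Euler3 Groth.Agent.Lib.helper20.Euler4f
  Groth.Agent.Lib.helper20.Euler5b Groth.Agent.Lib.Helper20.SmulHom
  Groth.Agent.Lib.helper20.OmegaSimple Groth.Agent.Lib.helper20.Euler2
  Groth.Agent.Lib.helper20.TwistVal Groth.Agent.Lib.helper20.Euler4a

noncomputable section

section General

variable {X : Scheme.{u}}

/-- a module which is finite locally free of positive rank on a nonempty scheme is not zero -/
lemma not_isZero_of_isFinLocFreeOfRank [Nonempty X] {r : ℕ} (hr : 0 < r) {M : X.Modules}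
    (hM : FlatMod.IsFinLocFreeOfRank r M) : ¬ IsZero M := by
  intro hz
  have h0 : IsZero (FlatMod.freeMod X 0) := by
    haveI : IsEmpty (Fin 0) := Fin.isEmpty
    rw [IsZero.iff_id_eq_zero]
    apply Sigma.hom_ext
    intro j
    exact (IsEmpty.false j).elim
  have h1 : FlatMod.IsFinLocFreeOfRank 0 M :=
    Groth.Agent.Lib.helper16.FLF.isFinLocFreeOfRank_of_iso (h0.iso hz)
      (Groth.Agent.Lib.helper16.FLF.isFinLocFreeOfRank_freeMod X 0)
  have := Groth.Agent.Lib.helper16.FLF.rank_unique_of_isFinLocFreeOfRank M h1 hM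
  omega

end General

section Pn

variable (n : ℕ) (R : Type u) [CommRing R] [IsDomain R]
  [QuasiSeparated (CohB1.ProjSpace.toSpec n R)]

local notation "𝒜ₙ" => CohB1.polyGrading n R

/-- endomorphisms of `O(-1)` are multiplications by constants -/
theorem end_twist_eq_smulHom
    (θ : Twist.twistProjSpace n R (-1) ⟶ Twist.twistProjSpace n R (-1)) :
    ∃ c : R, θ = smulHom (Coh.toGlobal (CohB1.ProjSpace.toSpec n R) c) _ := by
  haveI : QuasiSeparated (fP n R) := ‹QuasiSeparated (CohB1.ProjSpace.toSpec n R)›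
  obtain ⟨c, hc⟩ := exists_scalar_of_end (n := n) (A := R) θ
  refine ⟨c, ?_⟩
  apply SheafOfModules.hom_ext
  ext U m0
  obtain ⟨m, hm⟩ : ∃ m : Γ(Twist.twist 𝒜ₙ (-1), U.unop), m = m0 := ⟨m0, rfl⟩
  rw [← hm]
  change (θ.app U.unop).hom m =
    (show Γ(Proj 𝒜ₙ, U.unop) from
      Coh.resTop (Proj 𝒜ₙ) U (Coh.toGlobal (X := Proj 𝒜ₙ) (fP n R) c)) • m
  apply valO_ext
  intro x
  refine (hc U.unop m x).trans ?_
  rw [valO_smul, mul_comm]
  congr 1
  exact (val_resTop_toGlobal c U.unop x).symm

/-- every morphism `Ω(1) → coker u` is a constant multiple of the projection -/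
theorem hom_to_cokernel
    (u : Twist.twistProjSpace n R (-1) ⟶
      CohB1.tensorMod (Omega.sheaf (CohB1.ProjSpace.toSpec n R)) (Twist.twistProjSpace n R 1))
    [Mono u]
    (g : CohB1.tensorMod (Omega.sheaf (CohB1.ProjSpace.toSpec n R)) (Twist.twistProjSpace n R 1) ⟶
      cokernel u) :
    ∃ c : R, g = smulHom (Coh.toGlobal (CohB1.ProjSpace.toSpec n R) c) _ ≫ cokernel.π u := by
  haveI : QuasiSeparated (fP n R) := ‹QuasiSeparated (CohB1.ProjSpace.toSpec n R)›
  have hExt : HasExt.{u} (CohB1.ProjSpace n R).Modules :=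
    Groth.Agent.Lib.Helper20.LargeTwist.hasExt_modules _
  obtain ⟨e⟩ : Nonempty (Omega.sheaf (CohB1.ProjSpace.toSpec n R) ≅ ZZ n R 1) :=
    nonempty_iso_Z (n := n) (A := R) (p := 1) (L := Omega.sheaf (fP n R))
      extDataOne extCompat_one
  let S : ShortComplex (CohB1.ProjSpace n R).Modules :=
    ShortComplex.mk u (cokernel.π u) (cokernel.condition u)
  have hS : S.ShortExact :=
    { exact := ShortComplex.exact_cokernel u
      mono_f := ‹Mono u›
      epi_g := inferInstanceAs (Epi (cokernel.π u)) }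
  obtain ⟨ψ, hψ⟩ : ∃ ψ : CohB1.tensorMod (Omega.sheaf (CohB1.ProjSpace.toSpec n R))
      (Twist.twistProjSpace n R 1) ⟶ CohB1.tensorMod (Omega.sheaf (CohB1.ProjSpace.toSpec n R))
      (Twist.twistProjSpace n R 1), ψ ≫ cokernel.π u = g :=
    ext_lift hS g (ext_twist_one_subsingleton n R _ e)
  have hE : (tensorRight (Twist.twistProjSpace n R 1)).IsEquivalence :=
    isEquivalence_tensorRight (invIso n R 1)
  obtain ⟨ψ₀, hψ₀⟩ := (tensorRight (Twist.twistProjSpace n R 1)).map_surjective ψ
  obtain ⟨c, hc⟩ := end_Omega (n := n) (A := R) ψ₀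
  refine ⟨c, ?_⟩
  have h1 : ψ₀ = smulHom (Coh.toGlobal (CohB1.ProjSpace.toSpec n R) c) _ :=
    eq_smulHom_of_toSheaf _ ψ₀ hc
  have h2 : ψ = smulHom (Coh.toGlobal (CohB1.ProjSpace.toSpec n R) c) _ := by
    rw [← hψ₀, h1]
    exact tensorMap_smulHom _ _ _
  rw [← hψ, h2]

end Pn

section Field

variable (n : ℕ) (K : Type u) [Field K] [QuasiSeparated (CohB1.ProjSpace.toSpec n K)]

/-- multiplication by a nonzero constant is an isomorphism -/
def smulIso (c : K) (hc : c ≠ 0) (M : (CohB1.ProjSpace n K).Modules) : M ≅ M where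
  hom := smulHom (Coh.toGlobal (CohB1.ProjSpace.toSpec n K) c) M
  inv := smulHom (Coh.toGlobal (CohB1.ProjSpace.toSpec n K) c⁻¹) M
  hom_inv_id := by
    rw [← smulHom_mul, ← map_mul, inv_mul_cancel₀ hc, map_one, smulHom_one]
  inv_hom_id := by
    rw [← smulHom_mul, ← map_mul, mul_inv_cancel₀ hc, map_one, smulHom_one]

/-- two quotients of `Ω(1)` by `O(-1)` are isomorphic iff the two maps are proportional -/
theorem cokernel_iso_iff
    (a a' : Twist.twistProjSpace n K (-1) ⟶
      CohB1.tensorMod (Omega.sheaf (CohB1.ProjSpace.toSpec n K)) (Twist.twistProjSpace n K 1))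
    [Mono a] [Mono a'] (hne : ¬ IsZero (cokernel a))
    (hO : ¬ IsZero (Twist.twistProjSpace n K (-1))) :
    Nonempty (cokernel a ≅ cokernel a') ↔
      ∃ c : K, c ≠ 0 ∧ (SheafOfModules.toSheaf (CohB1.ProjSpace n K).ringCatSheaf).map a' =
        (SheafOfModules.toSheaf (CohB1.ProjSpace n K).ringCatSheaf).map a ≫
          Coh.smulAb (CohB1.tensorMod (Omega.sheaf (CohB1.ProjSpace.toSpec n K))
            (Twist.twistProjSpace n K 1)) (Coh.toGlobal (CohB1.ProjSpace.toSpec n K) c) := by
  let F : (CohB1.ProjSpace n K).Modules ⥤ _ :=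
    SheafOfModules.toSheaf (CohB1.ProjSpace n K).ringCatSheaf
  constructor
  · rintro ⟨θ⟩
    obtain ⟨c, hc⟩ := hom_to_cokernel n K a' (cokernel.π a ≫ θ.hom)
    have hc0 : c ≠ 0 := by
      rintro rfl
      rw [map_zero, smulHom_zero, zero_comp] at hc
      have h1 : cokernel.π a = 0 := by
        rw [← cancel_mono θ.hom, hc, zero_comp]
      exact hne (IsZero.of_epi_eq_zero (cokernel.π a) h1)
    let S' : ShortComplex (CohB1.ProjSpace n K).Modules :=
      ShortComplex.mk a' (cokernel.π a') (cokernel.condition a')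
    have hS' : S'.Exact := ShortComplex.exact_cokernel a'
    haveI : Mono S'.f := ‹Mono a'›
    have h0 : (a ≫ smulHom (Coh.toGlobal (CohB1.ProjSpace.toSpec n K) c) _) ≫ S'.g = 0 := by
      change (a ≫ smulHom (Coh.toGlobal (CohB1.ProjSpace.toSpec n K) c) _) ≫ cokernel.π a' = 0
      rw [Category.assoc, ← hc, ← Category.assoc, cokernel.condition, zero_comp]
    obtain ⟨d, hd⟩ := end_twist_eq_smulHom n K (hS'.lift _ h0)
    have h1 : smulHom (Coh.toGlobal (CohB1.ProjSpace.toSpec n K) d) _ ≫ a' =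
        a ≫ smulHom (Coh.toGlobal (CohB1.ProjSpace.toSpec n K) c) _ := by
      rw [← hd]
      exact hS'.lift_f _ h0
    rw [smulHom_naturality] at h1
    have hd0 : d ≠ 0 := by
      rintro rfl
      rw [map_zero, smulHom_zero, comp_zero] at h1
      have h2 : a = 0 := by
        have := congrArg (fun t => t ≫ (smulIso n K c hc0 _).inv) h1
        simp only [zero_comp, Category.assoc] at this
        have h3 := (smulIso n K c hc0 (CohB1.tensorMod (Omega.sheaf (CohB1.ProjSpace.toSpec n K))
          (Twist.twistProjSpace n K 1))).hom_inv_id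
        change smulHom _ _ ≫ (smulIso n K c hc0 _).inv = 𝟙 _ at h3
        rw [h3, Category.comp_id] at this
        exact this.symm
      exact hO (IsZero.of_mono_eq_zero a h2)
    refine ⟨d⁻¹ * c, mul_ne_zero (inv_ne_zero hd0) hc0, ?_⟩
    have h2 : a' = a ≫ smulHom (Coh.toGlobal (CohB1.ProjSpace.toSpec n K) (d⁻¹ * c)) _ := by
      have := congrArg (fun t => t ≫ (smulIso n K d hd0 _).inv) h1
      simp only [Category.assoc] at this
      have h3 := (smulIso n K d hd0 (CohB1.tensorMod (Omega.sheaf (CohB1.ProjSpace.toSpec n K))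
        (Twist.twistProjSpace n K 1))).hom_inv_id
      change smulHom _ _ ≫ (smulIso n K d hd0 _).inv = 𝟙 _ at h3
      rw [h3, Category.comp_id] at this
      rw [this, map_mul, smulHom_mul]
      rfl
    change F.map a' = F.map a ≫ _
    rw [h2, F.map_comp]
    rfl
  · rintro ⟨c, hc0, hc⟩
    have h1 : a' = a ≫ smulHom (Coh.toGlobal (CohB1.ProjSpace.toSpec n K) c) _ := by
      apply F.map_injective
      rw [F.map_comp]
      exact hc
    exact ⟨cokernel.mapIso a a' (Iso.refl _) (smulIso n K c hc0 _) (by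
      rw [Iso.refl_hom, Category.id_comp, h1]
      rfl)⟩

end Field

end

end Groth.Agent.Lib.Helper20.NullCorr4
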