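import Mathlib
import Groth.Agent.Lib.Helper20.NullCorr6
import Groth.Agent.Lib.Helper20.TwistEquivPn
import Groth.Agent.Lib.Helper18.EffCartierCurve

/-!
# Existence of the null-correlation presentation `O(-1) ↪ Ω¹(1)` on odd-dimensional `P^n` (helper20)
-/

set_option autoImplicit false
set_option linter.style.haveILetI false
universe u

open CategoryTheory CategoryTheory.Limits AlgebraicGeometry Opposite TopologicalSpace

namespace Groth.Agent.Lib.Helper20.NullCorr7

open Groth.Agent.Lib.Helper20.TensorEquiv Groth.Agent.Lib.Helper20.TwistEquivPn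
  Groth.Agent.Lib.Lead.ModTensor Groth.Agent.Lib.helper28
  Groth.Agent.Lib.helper20.Euler3 Groth.Agent.Lib.helper20.Euler4f
  Groth.Agent.Lib.helper20.Euler4c
  Groth.Agent.Lib.helper20.OmegaSimple Groth.Agent.Lib.helper20.Euler2
  Groth.Agent.Lib.Helper20.NullCorr6 Groth.Agent.Lib.helper16.FLF

noncomputable section

variable (n : ℕ) (R : Type u) [CommRing R] [IsDomain R]
  [QuasiSeparated (CohB1.ProjSpace.toSpec n R)]

theorem exists_nullCorrelation (hn : Odd n) :
    ∃ u : Twist.twistProjSpace n R (-1) ⟶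
        CohB1.tensorMod (Omega.sheaf (CohB1.ProjSpace.toSpec n R)) (Twist.twistProjSpace n R 1),
      Mono u ∧ FlatMod.IsFinLocFreeOfRank (n - 1) (cokernel u) := by
  haveI : QuasiSeparated (fP n R) := ‹QuasiSeparated (CohB1.ProjSpace.toSpec n R)›
  obtain ⟨e⟩ : Nonempty (Omega.sheaf (CohB1.ProjSpace.toSpec n R) ≅ Z n R 1) :=
    nonempty_iso_Z (n := n) (A := R) (p := 1) (L := Omega.sheaf (fP n R))
      extDataOne extCompat_one
  -- the map `w : O(-2) ⟶ Ω`
  let O2 : (CohB1.ProjSpace n R).Modules := Twist.twistProjSpace n R (-((2 : ℕ) : ℤ))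
  let L : (CohB1.ProjSpace n R).Modules := Twist.twistProjSpace n R 1
  let v' : O2 ⟶ Z n R 1 := v hn R
  haveI : Mono v' := mono_v hn R
  let w : O2 ⟶ Omega.sheaf (CohB1.ProjSpace.toSpec n R) := v' ≫ e.inv
  haveI : Mono w := mono_comp _ _
  have hw : FlatMod.IsFinLocFreeOfRank (n - 1) (cokernel w) :=
    isFinLocFreeOfRank_of_iso (cokernelCompIsIso v' e.inv).symm (rank_cokernel_v hn R)
  -- twist by `O(1)`
  haveI := isEquivalence_tensorRight (invIso n R 1)
  haveI := preservesZeroMorphisms_tensorRight (invIso n R 1)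
  let e1 : Twist.twistProjSpace n R (-1) ≅ CohB1.tensorMod O2 L :=
    (TwistPn.tensorIso n R (-((2 : ℕ) : ℤ)) 1 ≪≫ twistCongr n R (by norm_num)).symm
  haveI : Mono (tensorMap w (𝟙 L)) := mono_tensorMap (invIso n R 1) w
  refine ⟨e1.hom ≫ tensorMap w (𝟙 L), mono_comp _ _, ?_⟩
  have h1 : FlatMod.IsFinLocFreeOfRank ((n - 1) * 1) (CohB1.tensorMod (cokernel w) L) :=
    Groth.Agent.Lib.Helper18.EffCartierCurve.isFinLocFreeOfRank_tensor hw
      ((isInvertible_iff_isFinLocFreeOfRank_one _).mp (TwistPn.isInvertible n R 1))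
  rw [Nat.mul_one] at h1
  have i1 : cokernel (e1.hom ≫ tensorMap w (𝟙 L)) ≅ cokernel (tensorMap w (𝟙 L)) :=
    cokernelEpiComp e1.hom (tensorMap w (𝟙 L))
  have i2 : (tensorRight L).obj (cokernel w) ≅ cokernel ((tensorRight L).map w) :=
    PreservesCokernel.iso (tensorRight L) w
  exact isFinLocFreeOfRank_of_iso (i1 ≪≫ i2.symm).symm h1

end

end Groth.Agent.Lib.Helper20.NullCorr7
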