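import Mathlib
import Groth.Prelude.Def_Models

/-!
# Permuting the indices of a numerical type; connected orderings (helper20)
-/

set_option autoImplicit false
open Finset

namespace Groth.Agent.Lib.helper20

open Models Models.NumericalType

variable {n : ℕ}

/-- the numerical type with indices relabelled by a permutation -/
def permType (T : NumericalType n) (σ : Equiv.Perm (Fin n)) : NumericalType n where
  m i := T.m (σ i)
  a := Matrix.of fun i j => T.a (σ i) (σ j)
  w i := T.w (σ i)
  g i := T.g (σ i)
  pos := T.pos
  m_pos i := T.m_pos _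
  w_pos i := T.w_pos _
  g_nonneg i := T.g_nonneg _
  symm := by
    ext i j
    simp only [Matrix.transpose_apply, Matrix.of_apply]
    exact (T.symm.apply (σ i) (σ j))
  offDiag_nonneg i j hij := T.offDiag_nonneg _ _ (fun e => hij (σ.injective e))
  connected I hI hI' := by
    classical
    have h1 : (I.map σ.toEmbedding).Nonempty := by
      obtain ⟨i, hi⟩ := hI
      exact ⟨σ i, Finset.mem_map_of_mem _ hi⟩
    have h2 : I.map σ.toEmbedding ≠ univ := by
      intro e
      apply hI'
      rw [Finset.eq_univ_iff_forall] at e ⊢
      intro x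
      have := e (σ x)
      rw [Finset.mem_map] at this
      obtain ⟨y, hy, hxy⟩ := this
      have : y = x := σ.injective hxy
      rwa [← this]
    obtain ⟨i', hi', j', hj', hij⟩ := T.connected _ h1 h2
    rw [Finset.mem_map] at hi'
    obtain ⟨i, hi, rfl⟩ := hi'
    refine ⟨i, hi, σ.symm j', ?_, ?_⟩
    · intro hj
      apply hj'
      rw [Finset.mem_map]
      exact ⟨σ.symm j', hj, by simp⟩
    · simpa using hij
  mulVec_m := by
    funext i
    have h := congrFun T.mulVec_m (σ i)
    simp only [Matrix.mulVec, dotProduct, Pi.zero_apply, Matrix.of_apply] at h ⊢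
    rw [← h]
    exact Equiv.sum_comp σ (fun k => T.a (σ i) k * T.m k)
  w_dvd i j := T.w_dvd _ _

@[simp] theorem permType_m (T : NumericalType n) (σ : Equiv.Perm (Fin n)) (i : Fin n) :
    (permType T σ).m i = T.m (σ i) := rfl

@[simp] theorem permType_w (T : NumericalType n) (σ : Equiv.Perm (Fin n)) (i : Fin n) :
    (permType T σ).w i = T.w (σ i) := rfl

@[simp] theorem permType_g (T : NumericalType n) (σ : Equiv.Perm (Fin n)) (i : Fin n) :
    (permType T σ).g i = T.g (σ i) := rfl

@[simp] theorem permType_a (T : NumericalType n) (σ : Equiv.Perm (Fin n)) (i j : Fin n) :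
    (permType T σ).a i j = T.a (σ i) (σ j) := rfl

theorem permType_isMinusTwo (T : NumericalType n) (σ : Equiv.Perm (Fin n)) (i : Fin n) :
    (permType T σ).IsMinusTwo i ↔ T.IsMinusTwo (σ i) := Iff.rfl

/-- a connected ordering starting at a prescribed index: every later index is adjacent to an
earlier one -/
theorem exists_connected_ordering (T : NumericalType n) (i0 : Fin n) :
    ∃ σ : Equiv.Perm (Fin n), σ ⟨0, T.pos⟩ = i0 ∧
      ∀ j : Fin n, 0 < j.val → ∃ i : Fin n, i.val < j.val ∧ T.a (σ i) (σ j) ≠ 0 := by
  classical
  -- grow a list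
  have key : ∀ k : ℕ, 1 ≤ k → k ≤ n → ∃ l : List (Fin n), l.length = k ∧ l.Nodup ∧
      l[0]? = some i0 ∧ ∀ p (hp : p < l.length), 0 < p → ∃ q, ∃ hq : q < p,
        T.a (l[q]'(hq.trans hp)) (l[p]) ≠ 0 := by
    intro k hk
    induction k, hk using Nat.le_induction with
    | base =>
      intro _
      refine ⟨[i0], rfl, List.nodup_singleton _, rfl, ?_⟩
      intro p hp hp0
      simp at hp
      omega
    | succ k hk ih =>
      intro hkn
      obtain ⟨l, hlen, hnd, h0, hl⟩ := ih (by omega)
      have hne : l.toFinset.Nonempty := by
        refine ⟨i0, ?_⟩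
        rw [List.mem_toFinset]
        exact List.mem_of_getElem? h0
      have hnu : l.toFinset ≠ univ := by
        intro e
        have h1 : l.toFinset.card = n := by rw [e]; simp
        have h2 : l.toFinset.card ≤ l.length := List.toFinset_card_le l
        omega
      obtain ⟨i, hi, j, hj, hij⟩ := T.connected _ hne hnu
      rw [List.mem_toFinset] at hi hj
      obtain ⟨q, hq, rfl⟩ := List.mem_iff_getElem.1 hi
      refine ⟨l ++ [j], by simp [hlen], ?_, ?_, ?_⟩
      · rw [List.nodup_append]
        refine ⟨hnd, List.nodup_singleton _, ?_⟩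
        intro a ha b hb
        rw [List.mem_singleton] at hb
        rintro rfl
        exact hj (hb ▸ ha)
      · rw [List.getElem?_append_left (by omega)]
        exact h0
      · intro p hp hp0
        by_cases hpl : p < l.length
        · obtain ⟨q', hq', h⟩ := hl p hpl hp0
          refine ⟨q', hq', ?_⟩
          rw [List.getElem_append_left (hq'.trans hpl), List.getElem_append_left hpl]
          exact h
        · have hpe : p = l.length := by
            simp at hp
            omega
          subst hpe
          refine ⟨q, hq, ?_⟩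
          rw [List.getElem_append_left hq, List.getElem_append_right (le_refl _)]
          simpa using hij
  obtain ⟨l, hlen, hnd, h0, hl⟩ := key n T.pos le_rfl
  let f : Fin n → Fin n := fun i => l[i.val]'(by rw [hlen]; exact i.isLt)
  have hinj : Function.Injective f := by
    intro x y hxy
    exact Fin.ext ((List.Nodup.getElem_inj_iff hnd).1 hxy)
  have hbij : Function.Bijective f := Finite.injective_iff_bijective.1 hinj
  refine ⟨Equiv.ofBijective f hbij, ?_, ?_⟩
  · show l[0]'_ = i0
    have := List.getElem?_eq_some_iff.1 h0
    exact this.2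
  · intro j hj
    obtain ⟨q, hq, h⟩ := hl j.val (by rw [hlen]; exact j.isLt) hj
    exact ⟨⟨q, hq.trans j.isLt⟩, hq, h⟩

end Groth.Agent.Lib.helper20
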