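import Mathlib
import Groth.Prelude.Def_ParBun
import Groth.Agent.Lib.Lead.HilbPos7

/-!
# Parabolic extensions: additivity of the parabolic Hilbert function (helper20)
-/

set_option autoImplicit false
universe v u

open CategoryTheory CategoryTheory.Limits AlgebraicGeometry

namespace Groth.Agent.Lib.Helper20.ParExt

section Abstract

variable {C : Type u} [Category.{v} C] [Abelian C] {F E G : C} (i : F ⟶ E) (p : E ⟶ G)

theorem pullbackπ_factorThru_zero (w : i ≫ p = 0) (S : Subobject E) :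
    Subobject.pullbackπ i S ≫ factorThruImageSubobject (S.arrow ≫ p) = 0 := by
  rw [← cancel_mono (imageSubobject (S.arrow ≫ p)).arrow, Category.assoc,
    imageSubobject_arrow_comp, zero_comp, ← Category.assoc, (Subobject.isPullback i S).w,
    Category.assoc, w, comp_zero]

/-- `0 → F ∩ S → S → p(S) → 0` -/
theorem shortExact_pullback_image (w : i ≫ p = 0) (hS : (ShortComplex.mk i p w).ShortExact)
    (S : Subobject E) :
    (ShortComplex.mk (Subobject.pullbackπ i S) (factorThruImageSubobject (S.arrow ≫ p))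
      (pullbackπ_factorThru_zero i p w S)).ShortExact := by
  haveI : Mono i := hS.mono_f
  have hpb := Subobject.isPullback i S
  haveI : Mono (Subobject.pullbackπ i S) := by
    refine ⟨fun a b hab => ?_⟩
    apply hpb.hom_ext hab
    rw [← cancel_mono i, Category.assoc, Category.assoc, ← hpb.w, ← Category.assoc,
      ← Category.assoc, hab]
  have hk : IsLimit (KernelFork.ofι (Subobject.pullbackπ i S)
      (pullbackπ_factorThru_zero i p w S)) := by
    refine KernelFork.IsLimit.ofι' _ _ (fun {A} t ht => ?_)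
    have h1 : (t ≫ S.arrow) ≫ p = 0 := by
      have := congrArg (fun z => z ≫ (imageSubobject (S.arrow ≫ p)).arrow) ht
      simpa using this
    let a : A ⟶ F := hS.exact.lift (t ≫ S.arrow) h1
    have ha : a ≫ i = t ≫ S.arrow := hS.exact.lift_f _ _
    exact ⟨hpb.lift t a ha.symm, hpb.lift_fst _ _ _⟩
  exact
    { exact := ShortComplex.exact_of_f_is_kernel _ hk
      mono_f := inferInstanceAs (Mono (Subobject.pullbackπ i S))
      epi_g := inferInstanceAs (Epi (factorThruImageSubobject (S.arrow ≫ p))) }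

end Abstract

section Str

variable {C : Type u} [Category.{v} C] [Abelian C] {F E G : C}

theorem induced_pieceX (𝓔 : ParSh.Str E) (i : F ⟶ E) (j : Fin (𝓔.l + 2)) :
    (𝓔.induced i).pieceX j = (Subobject.pullback i).obj (𝓔.pieceX j) := by
  induction j using Fin.lastCases with
  | last =>
    rw [𝓔.pieceX_last]
    exact (𝓔.induced i).pieceX_last
  | cast j =>
    rw [𝓔.pieceX_castSucc]
    exact (𝓔.induced i).pieceX_castSucc j

theorem coinduced_pieceX (𝓔 : ParSh.Str E) (p : E ⟶ G) [Epi p] (j : Fin (𝓔.l + 2)) :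
    (𝓔.coinduced p).pieceX j = imageSubobject ((𝓔.pieceX j).arrow ≫ p) := by
  induction j using Fin.lastCases with
  | last =>
    rw [𝓔.pieceX_last]
    exact (𝓔.coinduced p).pieceX_last
  | cast j =>
    rw [𝓔.pieceX_castSucc]
    exact (𝓔.coinduced p).pieceX_castSucc j

/-- additivity of `parSum` for an invariant additive on the sequences `0 → F ∩ S → S → p(S) → 0` -/
theorem parSum_add (𝓔 : ParSh.Str E) (i : F ⟶ E) (p : E ⟶ G) [Epi p] (f : C → ℝ)
    (hf : ∀ j : Fin (𝓔.l + 2), f ((Subobject.pullback i).obj (𝓔.pieceX j) : C) +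
      f (imageSubobject ((𝓔.pieceX j).arrow ≫ p) : C) = f (𝓔.pieceX j : C)) :
    (𝓔.induced i).parSum f + (𝓔.coinduced p).parSum f = 𝓔.parSum f := by
  have hpc : ∀ j : Fin (𝓔.l + 1), f ((Subobject.pullback i).obj (𝓔.piece j) : C) +
      f (imageSubobject ((𝓔.piece j).arrow ≫ p) : C) = f (𝓔.piece j : C) := by
    intro j
    have := hf j.castSucc
    rwa [𝓔.pieceX_castSucc] at this
  have hb : f ((Subobject.pullback i).obj 𝓔.bot : C) +
      f (imageSubobject (𝓔.bot.arrow ≫ p) : C) = f (𝓔.bot : C) := by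
    have := hf (Fin.last _)
    rwa [𝓔.pieceX_last] at this
  unfold ParSh.Str.parSum
  change (f ((Subobject.pullback i).obj 𝓔.bot : C) + ∑ j : Fin (𝓔.l + 1), 𝓔.wt j *
      (f ((Subobject.pullback i).obj (𝓔.piece j) : C) - f ((𝓔.induced i).pieceX j.succ : C))) +
    (f (imageSubobject (𝓔.bot.arrow ≫ p) : C) + ∑ j : Fin (𝓔.l + 1), 𝓔.wt j *
      (f (imageSubobject ((𝓔.piece j).arrow ≫ p) : C) - f ((𝓔.coinduced p).pieceX j.succ : C))) = _
  rw [← hb]
  have hsum : ∑ j : Fin (𝓔.l + 1), 𝓔.wt j * (f (𝓔.piece j : C) - f (𝓔.pieceX j.succ : C)) =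
      (∑ j : Fin (𝓔.l + 1), 𝓔.wt j *
        (f ((Subobject.pullback i).obj (𝓔.piece j) : C) - f ((𝓔.induced i).pieceX j.succ : C))) +
      ∑ j : Fin (𝓔.l + 1), 𝓔.wt j *
        (f (imageSubobject ((𝓔.piece j).arrow ≫ p) : C) - f ((𝓔.coinduced p).pieceX j.succ : C)) := by
    rw [← Finset.sum_add_distrib]
    refine Finset.sum_congr rfl (fun j _ => ?_)
    rw [induced_pieceX, coinduced_pieceX, ← hpc j, ← hf j.succ]
    ring
  rw [hsum]
  ring

end Str

section Sch

open Groth.Agent.Lib.Lead.HilbPos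

variable (k : Type u) [Field k] (X : Scheme.{u}) [X.Over (Spec (CommRingCat.of k))]
  [IsProper (X ↘ Spec (CommRingCat.of k))]

/-- additivity of the twisted Euler characteristic on `0 → F ∩ S → S → p(S) → 0` -/
theorem euler_pullback_image {L : X.Modules} (hL : PicF.IsInvertible L) {F E G : X.Modules}
    (hG : Coh.IsCoh G) (i : F ⟶ E) (p : E ⟶ G) (w : i ≫ p = 0)
    (hS : (ShortComplex.mk i p w).ShortExact) (S : Subobject E)
    (hSc : Coh.IsCoh (S : X.Modules)) (m : ℕ) :
    (Curv2.euler k X (ShStab.twist X L ((Subobject.pullback i).obj S : X.Modules) m) : ℝ) +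
      (Curv2.euler k X (ShStab.twist X L (imageSubobject (S.arrow ≫ p) : X.Modules) m) : ℝ) =
      (Curv2.euler k X (ShStab.twist X L (S : X.Modules) m) : ℝ) := by
  haveI := Groth.Agent.Lib.Lead.CurveEuler.isNoetherian k X
  have hT := shortExact_pullback_image i p w hS S
  have h3 : Coh.IsCoh (imageSubobject (S.arrow ≫ p) : X.Modules) :=
    Groth.Agent.Lib.helper7.CohKer.isCoh_of_iso
      ((Abelian.imageIsoImage (S.arrow ≫ p)).trans (imageSubobjectIso (S.arrow ≫ p)).symm)
      (isCoh_image k X hSc hG (S.arrow ≫ p))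
  have h1 : Coh.IsCoh ((Subobject.pullback i).obj S : X.Modules) := by
    have hk := hT.fIsKernel
    let e : ((Subobject.pullback i).obj S : X.Modules) ≅
        kernel (factorThruImageSubobject (S.arrow ≫ p)) :=
      IsLimit.conePointUniqueUpToIso hk (limit.isLimit _)
    exact Groth.Agent.Lib.helper7.CohKer.isCoh_of_iso e.symm (isCoh_kernel k X hSc h3 _)
  have h := hilb_add k X hL _ hT h1 h3 m
  have h' : ((hilb k X L (S : X.Modules) m : ℤ) : ℝ) =
      ((hilb k X L ((Subobject.pullback i).obj S : X.Modules) m : ℤ) : ℝ) +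
      ((hilb k X L (imageSubobject (S.arrow ≫ p) : X.Modules) m : ℤ) : ℝ) := by
    have := congrArg (fun z : ℤ => (z : ℝ)) h
    simpa using this
  exact h'.symm

/-- **additivity of the parabolic Hilbert function over a parabolic extension** -/
theorem parHilb_add (L : X.Modules) (hL : CohB1.IsAmple L) {F E G : X.Modules}
    (hG : Coh.IsCoh G)
    (i : F ⟶ E) (p : E ⟶ G) [Epi p] (𝓕 : ParSh.Str F) (𝓔 : ParSh.Str E) (𝓖 : ParSh.Str G)
    (hext : ParSh.IsParExt i p 𝓕 𝓔 𝓖)
    (hcoh : ∀ j, Coh.IsCoh ((𝓔.piece j : Subobject E) : X.Modules))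
    (hbot : Coh.IsCoh ((𝓔.bot : Subobject E) : X.Modules)) (m : ℕ) :
    𝓕.parHilb k X L m + 𝓖.parHilb k X L m = 𝓔.parHilb k X L m := by
  obtain ⟨w, hS, rfl, rfl⟩ := hext
  unfold ParSh.Str.parHilb
  refine parSum_add 𝓔 i p _ (fun j => ?_)
  refine euler_pullback_image k X hL.1 hG i p w hS _ ?_ m
  induction j using Fin.lastCases with
  | last => rw [𝓔.pieceX_last]; exact hbot
  | cast j => rw [𝓔.pieceX_castSucc]; exact hcoh j

end Sch

end Groth.Agent.Lib.Helper20.ParExt
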