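import Mathlib
import Groth.Prelude.Def_ParBun
import Groth.Agent.Lib.Lead.HilbPos11

/-!
# The parabolic Hilbert function through the Hilbert polynomials of the quotients `E / E_j` (helper20)
-/

set_option autoImplicit false
universe v u

open CategoryTheory CategoryTheory.Limits AlgebraicGeometry Polynomial

namespace Groth.Agent.Lib.Helper20.ParHilbQuot

section Alg

/-- telescoping identity behind the formula -/
theorem tele (n : ℕ) (a h : Fin (n + 2) → ℝ) (P : ℝ) (h0 : h 0 = 0) (ha : a (Fin.last _) = 1) :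
    (P - h (Fin.last _)) + ∑ j : Fin (n + 1), a j.castSucc *
        ((P - h j.castSucc) - (P - h j.succ)) =
      P - ∑ j : Fin (n + 1), (a j.succ - a j.castSucc) * h j.succ := by
  have h1 := Fin.sum_univ_succ (fun i : Fin (n + 2) => a i * h i)
  have h2 := Fin.sum_univ_castSucc (fun i : Fin (n + 2) => a i * h i)
  have h3 : ∑ j : Fin (n + 1), a j.succ * h j.succ - ∑ j : Fin (n + 1), a j.castSucc * h j.castSucc
      = h (Fin.last _) := by
    have : a 0 * h 0 + ∑ j : Fin (n + 1), a j.succ * h j.succ =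
        ∑ j : Fin (n + 1), a j.castSucc * h j.castSucc + a (Fin.last _) * h (Fin.last _) := by
      rw [← h1, ← h2]
    rw [h0, ha] at this
    linarith
  have h4 : ∑ j : Fin (n + 1), a j.castSucc * ((P - h j.castSucc) - (P - h j.succ)) =
      ∑ j : Fin (n + 1), a j.castSucc * h j.succ -
        ∑ j : Fin (n + 1), a j.castSucc * h j.castSucc := by
    rw [← Finset.sum_sub_distrib]
    exact Finset.sum_congr rfl (fun j _ => by ring)
  have h5 : ∑ j : Fin (n + 1), (a j.succ - a j.castSucc) * h j.succ =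
      ∑ j : Fin (n + 1), a j.succ * h j.succ - ∑ j : Fin (n + 1), a j.castSucc * h j.succ := by
    rw [← Finset.sum_sub_distrib]
    exact Finset.sum_congr rfl (fun j _ => by ring)
  rw [h4, h5]
  linarith

end Alg

section Sch

open Groth.Agent.Lib.Lead.HilbPos

variable (k : Type u) [Field k] (X : Scheme.{u}) [X.Over (Spec (CommRingCat.of k))]
  [IsProper (X ↘ Spec (CommRingCat.of k))]

/-- `χ(S(m)) = P(m) - H(m)` for a coherent subobject `S ⊆ E` -/
theorem euler_sub {L : X.Modules} (hL : PicF.IsInvertible L) {E : X.Modules} (hE : Coh.IsCoh E)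
    (S : Subobject E) (hS : Coh.IsCoh (S : X.Modules)) {P H : ℚ[X]}
    (hP : ShStab.IsHilbPoly k X L E P)
    (hH : ShStab.IsHilbPoly k X L (cokernel S.arrow) H) (m : ℕ) :
    (Curv2.euler k X (ShStab.twist X L (S : X.Modules) m) : ℝ) =
      ((P.eval (m : ℚ) : ℚ) : ℝ) - ((H.eval (m : ℚ) : ℚ) : ℝ) := by
  have hT : (ShortComplex.mk S.arrow (cokernel.π S.arrow) (cokernel.condition _)).ShortExact :=
    { exact := ShortComplex.exact_cokernel S.arrow
      mono_f := inferInstanceAs (Mono S.arrow)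
      epi_g := inferInstanceAs (Epi (cokernel.π S.arrow)) }
  have h3 : Coh.IsCoh (cokernel S.arrow) :=
    Groth.Agent.Lib.helper7.CohKer.isCoh_cokernel hS hE S.arrow
  have h := hilb_add k X hL _ hT hS h3 m
  have hP' := hP m
  have hH' := hH m
  have h' : ((hilb k X L E m : ℤ) : ℚ) = ((hilb k X L (S : X.Modules) m : ℤ) : ℚ) +
      ((hilb k X L (cokernel S.arrow) m : ℤ) : ℚ) := by
    have := congrArg (fun z : ℤ => (z : ℚ)) h
    simpa using this
  have h6 : ((hilb k X L (S : X.Modules) m : ℤ) : ℚ) = P.eval (m : ℚ) - H.eval (m : ℚ) := by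
    rw [← hP', ← hH']
    change _ = ((hilb k X L E m : ℤ) : ℚ) - ((hilb k X L (cokernel S.arrow) m : ℤ) : ℚ)
    rw [h']; ring
  have h7 := congrArg (fun z : ℚ => (z : ℝ)) h6
  change ((hilb k X L (S : X.Modules) m : ℤ) : ℝ) = _
  simpa using h7

/-- **the parabolic Hilbert function through the quotients** -/
theorem parHilb_eq (L : X.Modules) (hL : CohB1.IsAmple L) (E : X.Modules) (hE : Coh.IsCoh E)
    (𝓔 : ParSh.Str E)
    (hcoh : ∀ j, Coh.IsCoh ((𝓔.pieceX j : Subobject E) : X.Modules))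
    (P : ℚ[X]) (hP : ShStab.IsHilbPoly k X L E P) (H : Fin (𝓔.l + 2) → ℚ[X])
    (hH : ∀ j, ShStab.IsHilbPoly k X L (cokernel (𝓔.pieceX j).arrow) (H j)) (m : ℕ) :
    𝓔.parHilb k X L m =
      ((P.eval (m : ℚ) : ℚ) : ℝ) -
        ∑ j : Fin (𝓔.l + 1), (𝓔.wtX j.succ - 𝓔.wtX j.castSucc) *
          (((H j.succ).eval (m : ℚ) : ℚ) : ℝ) := by
  have hc : ∀ j : Fin (𝓔.l + 2),
      (Curv2.euler k X (ShStab.twist X L (𝓔.pieceX j : X.Modules) m) : ℝ) =
        ((P.eval (m : ℚ) : ℚ) : ℝ) - (((H j).eval (m : ℚ) : ℚ) : ℝ) :=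
    fun j => euler_sub k X hL.1 hE _ (hcoh j) hP (hH j) m
  have h0 : (((H 0).eval (m : ℚ) : ℚ) : ℝ) = 0 := by
    have htop : 𝓔.pieceX 0 = ⊤ := by
      have : (0 : Fin (𝓔.l + 2)) = (0 : Fin (𝓔.l + 1)).castSucc := rfl
      rw [this, 𝓔.pieceX_castSucc, 𝓔.piece_zero]
    have hz : IsZero (cokernel (𝓔.pieceX 0).arrow) := by
      haveI : IsIso (𝓔.pieceX 0).arrow := by
        rw [htop]; infer_instance
      exact isZero_cokernel_of_epi _
    have := isHilbPoly_unique k X (hH 0) (isHilbPoly_zero_of_isZero k X hz)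
    rw [this]; simp
  have key := tele 𝓔.l 𝓔.wtX (fun j => (((H j).eval (m : ℚ) : ℚ) : ℝ))
    ((P.eval (m : ℚ) : ℚ) : ℝ) h0 𝓔.wtX_last
  rw [← key]
  unfold ParSh.Str.parHilb ParSh.Str.parSum
  beta_reduce
  have hb := hc (Fin.last _)
  rw [𝓔.pieceX_last] at hb
  rw [hb]
  congr 1
  refine Finset.sum_congr rfl (fun j _ => ?_)
  have h1 := hc j.castSucc
  rw [𝓔.pieceX_castSucc] at h1
  rw [h1, hc j.succ, 𝓔.wtX_castSucc]

end Sch

end Groth.Agent.Lib.Helper20.ParHilbQuot
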