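import Mathlib
import Groth.Prelude.Def_ParBun
import Groth.Prelude.Def_FGA
import Groth.Prelude.Def_W4swparbununimodPar
import Groth.Agent.Lib.Lead.HilbPos13
import Groth.Agent.Lib.Helper11.TwistH1
import Groth.Agent.Lib.Helper12.PullTensor
import Groth.Agent.Lib.Helper8.DevSupp
import Groth.Agent.Lib.Helper8.DimLt
import Groth.Agent.Lib.Helper20.ParHilbQuot

/-!
# Coefficients of the parabolic Hilbert polynomial (helper20)

For a weighted filtration `𝓔` of a coherent `E` along the ideal `I` (bottom `I·E`), every quotient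
`E / E_j` is supported in `Supp E ∩ V(I)`; hence, if that set has dimension `< d`, the Hilbert
polynomials of all pieces agree with that of `E` in degrees `≥ d`, and the differences
`P_j - P_{j+1}` have degree `≤ d - 1` with nonnegative coefficient of degree `d - 1`.
-/

set_option autoImplicit false
universe u

open CategoryTheory CategoryTheory.Limits AlgebraicGeometry Polynomial Opposite TopologicalSpace

namespace Groth.Agent.Lib.Helper20.ParHilbPoly

open Groth.Agent.Lib.helper11.IsoLocus Groth.Agent.Lib.Lead.HilbPos Scheme.Modules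

section Supp

variable {X : Scheme.{u}}

theorem app_injective_of_mono {M M' : X.Modules} (φ : M ⟶ M') [Mono φ] (U : X.Opens) :
    Function.Injective (φ.app U).hom := by
  have h1 : Mono ((Scheme.Modules.toPresheaf X).map φ) := inferInstance
  have h2 : Mono (((Scheme.Modules.toPresheaf X).map φ).app (op U)) := inferInstance
  exact (AddCommGrpCat.mono_iff_injective _).1 h2

/-- if `f` factors through the monomorphism `g`, then `g` is an isomorphism wherever `f` is -/
theorem isoLocus_le_of_factor {A B G : X.Modules} (f : A ⟶ B) (a : A ⟶ G) (g : G ⟶ B) [Mono g]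
    (h : a ≫ g = f) : isoLocus f ≤ isoLocus g := by
  rw [le_isoLocus_iff, isIso_restrict_iff_app]
  intro V hV
  have h1 : IsIso (f.app V) := isIso_app_of_le_isoLocus f hV
  rw [ConcreteCategory.isIso_iff_bijective] at h1 ⊢
  refine ⟨app_injective_of_mono g V, fun s => ?_⟩
  obtain ⟨t, ht⟩ := h1.2 s
  refine ⟨a.app V t, ?_⟩
  rw [← ht, ← h]
  rfl

lemma koszTw_tensorMap_eq {M M' N N' : X.Modules} (f : M ⟶ M') (g : N ⟶ N') :
    KoszTw.tensorMap f g = Groth.Agent.Lib.Lead.ModTensor.tensorMap f g := by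
  unfold KoszTw.tensorMap Groth.Agent.Lib.Lead.ModTensor.tensorMap
  refine Eq.trans ?_ (congrArg _ (MonoidalCategory.tensorHom_def _ _).symm)
  refine Eq.trans ?_ (Functor.map_comp _ _ _).symm
  rfl

/-- the inclusion of the ideal sheaf is an isomorphism off the closed set `V(I)` -/
theorem compl_support_le_isoLocus_idealModι (I : X.IdealSheafData) (U : X.Opens)
    (hU : Disjoint (U : Set X) (I.support : Set X)) : U ≤ isoLocus (ClSub.idealModι I) := by
  refine Groth.Agent.Lib.helper11.TwistH1.le_isoLocus_kernel_ι (ClSub.toSubscheme I) U ?_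
  intro V hV
  exact Groth.Agent.Lib.helper11.TwistH1.subsingleton_quotMod_of_disjoint I V
    (Set.disjoint_of_subset_left (fun x hx => hV hx) hU)

/-- the multiplication map `E ⊗ I ⟶ E` is an isomorphism off `V(I)` -/
theorem compl_support_le_isoLocus_twistMap (I : X.IdealSheafData) (E : X.Modules) (U : X.Opens)
    (hU : Disjoint (U : Set X) (I.support : Set X)) : U ≤ isoLocus (ParSh.twistMap I E) := by
  unfold ParSh.twistMap
  rw [isoLocus_comp_of_isIso_right, koszTw_tensorMap_eq]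
  refine le_trans ?_ (Groth.Agent.Lib.helper12.PullTensor.isoLocus_inf_le_tensorMap _ _)
  rw [Groth.Agent.Lib.helper12.PullTensor.isoLocus_id, top_inf_eq]
  exact compl_support_le_isoLocus_idealModι I U hU

/-- for a subobject `G` of `E` containing `I·E`, the quotient `E / G` is supported in `V(I)` -/
theorem support_cokernel_arrow_subset (I : X.IdealSheafData) (E : X.Modules) (G : Subobject E)
    (hG : ParSh.twistSub I E ≤ G) :
    CohB1.support (cokernel G.arrow) ⊆ (I.support : Set X) := by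
  intro x hx
  by_contra hxI
  let U : X.Opens := ⟨(I.support : Set X)ᶜ, I.support.isClosed.isOpen_compl⟩
  have hU : Disjoint (U : Set X) (I.support : Set X) := disjoint_compl_left
  have h1 : U ≤ isoLocus (ParSh.twistMap I E) := compl_support_le_isoLocus_twistMap I E U hU
  have h2 : isoLocus (ParSh.twistMap I E) ≤ isoLocus G.arrow := by
    refine isoLocus_le_of_factor (ParSh.twistMap I E)
      (factorThruImageSubobject (ParSh.twistMap I E) ≫ Subobject.ofLE _ G hG) G.arrow ?_
    rw [Category.assoc, Subobject.ofLE_arrow]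
    exact imageSubobject_arrow_comp _
  exact Groth.Agent.Lib.helper7.SnapperMain.support_cokernel_subset G.arrow hx (h2 (h1 hxI))

end Supp

section Alg

universe v w

variable {𝒞 : Type w} [Category.{v} 𝒞] {E : 𝒞}

/-- the coefficients of the parabolic polynomial -/
theorem parPoly_coeff (𝓔 : ParSh.Str E) (PX : Fin (𝓔.l + 2) → ℚ[X]) (n : ℕ) :
    (W4swparbununimod.parPoly 𝓔 PX).coeff n =
      (((PX (Fin.last (𝓔.l + 1))).coeff n : ℚ) : ℝ) +
        ∑ j : Fin (𝓔.l + 1), 𝓔.wt j *
          ((((PX j.castSucc).coeff n : ℚ) : ℝ) - (((PX j.succ).coeff n : ℚ) : ℝ)) := by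
  unfold W4swparbununimod.parPoly W4swparbununimod.rpoly
  rw [coeff_add, finset_sum_coeff, coeff_map]
  congr 1
  refine Finset.sum_congr rfl (fun j _ => ?_)
  rw [coeff_C_mul, coeff_sub, coeff_map, coeff_map]
  rfl

theorem wt_nonneg' (𝓔 : ParSh.Str E) (j : Fin (𝓔.l + 1)) : 0 ≤ 𝓔.wt j :=
  𝓔.wt_nonneg.trans (𝓔.wt_strictMono.monotone (Fin.zero_le j))

theorem wt_lt_one' (𝓔 : ParSh.Str E) (j : Fin (𝓔.l + 1)) : 𝓔.wt j < 1 :=
  (𝓔.wt_strictMono.monotone (Fin.le_last j)).trans_lt 𝓔.wt_lt_one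

theorem pieceX_succ_le (𝓔 : ParSh.Str E) (j : Fin (𝓔.l + 1)) :
    𝓔.pieceX j.succ ≤ 𝓔.pieceX j.castSucc := by
  induction j using Fin.lastCases with
  | last =>
    rw [𝓔.pieceX_succ_last, 𝓔.pieceX_castSucc]
    exact 𝓔.bot_le _
  | cast j =>
    rw [𝓔.pieceX_succ_castSucc, 𝓔.pieceX_castSucc]
    exact 𝓔.piece_anti (Fin.castSucc_lt_succ).le

theorem pieceX_zero (𝓔 : ParSh.Str E) : 𝓔.pieceX 0 = ⊤ := by
  have : (0 : Fin (𝓔.l + 2)) = (0 : Fin (𝓔.l + 1)).castSucc := rfl
  rw [this, 𝓔.pieceX_castSucc, 𝓔.piece_zero]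

/-- telescoping over `Fin (n + 1)` -/
theorem sum_castSucc_sub_succ (n : ℕ) (c : Fin (n + 2) → ℝ) :
    ∑ j : Fin (n + 1), (c j.castSucc - c j.succ) = c 0 - c (Fin.last _) := by
  have h1 := Fin.sum_univ_succ c
  have h2 := Fin.sum_univ_castSucc c
  rw [Finset.sum_sub_distrib]
  linarith

/-- the two bounds for a weighted telescoping sum with weights in `[0, 1)` -/
theorem weighted_bounds (n : ℕ) (w : Fin (n + 1) → ℝ) (c : Fin (n + 2) → ℝ)
    (hw0 : ∀ j, 0 ≤ w j) (hw1 : ∀ j, w j ≤ 1) (hc : ∀ j : Fin (n + 1), c j.succ ≤ c j.castSucc) :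
    c (Fin.last _) ≤ c (Fin.last _) + ∑ j : Fin (n + 1), w j * (c j.castSucc - c j.succ) ∧
      c (Fin.last _) + ∑ j : Fin (n + 1), w j * (c j.castSucc - c j.succ) ≤ c 0 := by
  constructor
  · have : 0 ≤ ∑ j : Fin (n + 1), w j * (c j.castSucc - c j.succ) :=
      Finset.sum_nonneg (fun j _ => mul_nonneg (hw0 j) (sub_nonneg.mpr (hc j)))
    linarith
  · have h1 : ∑ j : Fin (n + 1), w j * (c j.castSucc - c j.succ) ≤
        ∑ j : Fin (n + 1), (c j.castSucc - c j.succ) :=
      Finset.sum_le_sum (fun j _ => by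
        have := sub_nonneg.mpr (hc j)
        nlinarith [hw1 j])
    rw [sum_castSucc_sub_succ] at h1
    linarith

end Alg

section Hilb

variable (k : Type u) [Field k] (X : Scheme.{u}) [X.Over (Spec (CommRingCat.of k))]
  [IsProper (X ↘ Spec (CommRingCat.of k))]

include k in
/-- the quotient by a coherent subobject containing `I·E` has small support -/
theorem dim_support_cokernel_lt {I : X.IdealSheafData} {E : X.Modules} (hE : Coh.IsCoh E)
    (G : Subobject E) (hGc : Coh.IsCoh ((G : Subobject E) : X.Modules))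
    (hG : ParSh.twistSub I E ≤ G) (d : ℕ)
    (hsupp : topologicalKrullDim ↥(CohB1.support E ∩ (I.support : Set X)) < (d : WithBot ℕ∞)) :
    topologicalKrullDim ↥(CohB1.support (cokernel G.arrow)) < (d : WithBot ℕ∞) := by
  have := Groth.Agent.Lib.Lead.CurveEuler.isNoetherian k X
  have hc : Coh.IsCoh (cokernel G.arrow) :=
    Groth.Agent.Lib.helper7.CohKer.isCoh_cokernel hGc hE G.arrow
  have h1 : CohB1.support (cokernel G.arrow) ⊆ CohB1.support E :=
    Groth.Agent.Lib.helper8.Dev.support_subset_of_epi (cokernel.π G.arrow) hE hc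
  have h2 := support_cokernel_arrow_subset I E G hG
  exact lt_of_le_of_lt (Groth.Agent.Lib.helper8.DimLt.topologicalKrullDim_le_of_subset
    (Set.subset_inter h1 h2)) hsupp

/-- the Hilbert polynomial of the quotient `E / G` -/
theorem isHilbPoly_cokernel_arrow {L : X.Modules} (hL : PicF.IsInvertible L) {E : X.Modules}
    (hE : Coh.IsCoh E) (G : Subobject E) (hGc : Coh.IsCoh ((G : Subobject E) : X.Modules))
    {P PG : ℚ[X]} (hP : ShStab.IsHilbPoly k X L E P)
    (hPG : ShStab.IsHilbPoly k X L ((G : Subobject E) : X.Modules) PG) :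
    ShStab.IsHilbPoly k X L (cokernel G.arrow) (P - PG) := by
  have := Groth.Agent.Lib.Lead.CurveEuler.isNoetherian k X
  have hc : Coh.IsCoh (cokernel G.arrow) :=
    Groth.Agent.Lib.helper7.CohKer.isCoh_cokernel hGc hE G.arrow
  exact isHilbPoly_sub₃ k X hL _ (Groth.Agent.Lib.helper8.Dev.shortExact_cokernel G.arrow) hGc hc
    hPG hP

/-- a Hilbert polynomial of a coherent module with support of dimension `< d` has no
coefficients in degrees `≥ d` -/
theorem coeff_eq_zero_of_dim_lt {L : X.Modules} (hL : PicF.IsInvertible L) {F : X.Modules}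
    (hF : Coh.IsCoh F) (d : ℕ)
    (hd : topologicalKrullDim ↥(CohB1.support F) < (d : WithBot ℕ∞))
    {Q : ℚ[X]} (hQ : ShStab.IsHilbPoly k X L F Q) (n : ℕ) (hn : d ≤ n) : Q.coeff n = 0 := by
  have hdn : ((d : ℕ) : WithBot ℕ∞) ≤ ((n : ℕ) : WithBot ℕ∞) := by exact_mod_cast hn
  obtain ⟨Q', hQ', h0⟩ := exists_isHilbPoly_lt k X hL hF n (lt_of_lt_of_le hd hdn)
  rw [isHilbPoly_unique k X hQ hQ']
  exact h0

/-- in degrees `≥ d` the Hilbert polynomial of a coherent subobject containing `I·E` agrees with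
that of `E` -/
theorem coeff_eq_of_le {L : X.Modules} (hL : PicF.IsInvertible L) {I : X.IdealSheafData}
    {E : X.Modules} (hE : Coh.IsCoh E)
    (G : Subobject E) (hGc : Coh.IsCoh ((G : Subobject E) : X.Modules))
    (hG : ParSh.twistSub I E ≤ G) (d : ℕ)
    (hsupp : topologicalKrullDim ↥(CohB1.support E ∩ (I.support : Set X)) < (d : WithBot ℕ∞))
    {P PG : ℚ[X]} (hP : ShStab.IsHilbPoly k X L E P)
    (hPG : ShStab.IsHilbPoly k X L ((G : Subobject E) : X.Modules) PG) (n : ℕ) (hn : d ≤ n) :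
    PG.coeff n = P.coeff n := by
  have := Groth.Agent.Lib.Lead.CurveEuler.isNoetherian k X
  have hc : Coh.IsCoh (cokernel G.arrow) :=
    Groth.Agent.Lib.helper7.CohKer.isCoh_cokernel hGc hE G.arrow
  have h := coeff_eq_zero_of_dim_lt k X hL hc d (dim_support_cokernel_lt k X hE G hGc hG d hsupp)
    (isHilbPoly_cokernel_arrow k X hL hE G hGc hP hPG) n hn
  rw [coeff_sub] at h
  linarith

variable {L : X.Modules} (hL : CohB1.IsAmple L) {I : X.IdealSheafData}
  {E : X.Modules} (hE : Coh.IsCoh E) (𝓔 : ParSh.Str E) (h𝓔 : 𝓔.Along I)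
  (hcoh : ∀ j, Coh.IsCoh ((𝓔.pieceX j : Subobject E) : X.Modules)) (d : ℕ)
  (hsupp : topologicalKrullDim ↥(CohB1.support E ∩ (I.support : Set X)) < (d : WithBot ℕ∞))
  {P : ℚ[X]} (hP : ShStab.IsHilbPoly k X L E P) {PX : Fin (𝓔.l + 2) → ℚ[X]}
  (hPX : ∀ j, ShStab.IsHilbPoly k X L ((𝓔.pieceX j : Subobject E) : X.Modules) (PX j))

include hL hE h𝓔 hcoh hsupp hP hPX in
theorem pieceX_coeff_eq (j : Fin (𝓔.l + 2)) (n : ℕ) (hn : d ≤ n) :
    (PX j).coeff n = P.coeff n :=
  coeff_eq_of_le k X hL.1 hE (𝓔.pieceX j) (hcoh j) (h𝓔 ▸ 𝓔.bot_le_pieceX j) d hsupp hP (hPX j) n hn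

include hL hE h𝓔 hcoh hsupp hP hPX in
/-- **S18525** -/
theorem parPoly_coeff_eq (n : ℕ) (hn : d ≤ n) :
    (W4swparbununimod.parPoly 𝓔 PX).coeff n = (W4swparbununimod.rpoly P).coeff n := by
  rw [parPoly_coeff]
  have h := fun j => pieceX_coeff_eq k X hL hE 𝓔 h𝓔 hcoh d hsupp hP hPX j n hn
  simp only [h, sub_self, mul_zero, Finset.sum_const_zero, add_zero]
  unfold W4swparbununimod.rpoly
  rw [coeff_map]
  rfl

omit [IsProper (X ↘ Spec (CommRingCat.of k))] in
include hP hPX in
theorem PX_zero_eq : PX 0 = P := by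
  haveI : IsIso (𝓔.pieceX 0).arrow := by
    rw [pieceX_zero]; infer_instance
  exact isHilbPoly_unique k X (hPX 0) (isHilbPoly_of_iso k X (asIso (𝓔.pieceX 0).arrow).symm hP)

include hL hE h𝓔 hcoh hsupp hP hPX in
/-- the step differences have degree `≤ d - 1` and nonnegative coefficient of degree `d - 1` -/
theorem step_coeff_le (hd : 1 ≤ d) (j : Fin (𝓔.l + 1)) :
    (PX j.succ).coeff (d - 1) ≤ (PX j.castSucc).coeff (d - 1) := by
  have := Groth.Agent.Lib.Lead.CurveEuler.isNoetherian k X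
  have hle := pieceX_succ_le 𝓔 j
  have hc : Coh.IsCoh (cokernel (Subobject.ofLE _ _ hle)) :=
    Groth.Agent.Lib.helper7.CohKer.isCoh_cokernel (hcoh j.succ) (hcoh j.castSucc) _
  have hQ : ShStab.IsHilbPoly k X L (cokernel (Subobject.ofLE _ _ hle))
      (PX j.castSucc - PX j.succ) :=
    isHilbPoly_sub₃ k X hL.1 _
      (Groth.Agent.Lib.helper8.Dev.shortExact_cokernel (Subobject.ofLE _ _ hle))
      (hcoh j.succ) hc (hPX j.succ) (hPX j.castSucc)
  have hdeg : (PX j.castSucc - PX j.succ).natDegree ≤ d - 1 := by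
    rw [natDegree_le_iff_coeff_eq_zero]
    intro N hN
    have hN' : d ≤ N := by omega
    rw [coeff_sub, pieceX_coeff_eq k X hL hE 𝓔 h𝓔 hcoh d hsupp hP hPX _ N hN',
      pieceX_coeff_eq k X hL hE 𝓔 h𝓔 hcoh d hsupp hP hPX _ N hN', sub_self]
  have h := coeff_nonneg_of_evNonneg _ (d - 1) hdeg (evNonneg_of_isHilbPoly k X hL hc hQ)
  rw [coeff_sub] at h
  linarith

include hL hE h𝓔 hcoh hsupp hP hPX in
/-- **S18527** -/
theorem parPoly_coeff_pred_bounds (hd : 1 ≤ d) :
    (W4swparbununimod.rpoly (PX (Fin.last (𝓔.l + 1)))).coeff (d - 1) ≤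
        (W4swparbununimod.parPoly 𝓔 PX).coeff (d - 1) ∧
      (W4swparbununimod.parPoly 𝓔 PX).coeff (d - 1) ≤
        (W4swparbununimod.rpoly P).coeff (d - 1) := by
  rw [parPoly_coeff]
  have key := weighted_bounds 𝓔.l 𝓔.wt (fun j => (((PX j).coeff (d - 1) : ℚ) : ℝ))
    (wt_nonneg' 𝓔) (fun j => (wt_lt_one' 𝓔 j).le)
    (fun j => by
      have := step_coeff_le k X hL hE 𝓔 h𝓔 hcoh d hsupp hP hPX hd j
      exact_mod_cast this)
  have h0 : (W4swparbununimod.rpoly P).coeff (d - 1) = (((PX 0).coeff (d - 1) : ℚ) : ℝ) := by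
    rw [PX_zero_eq k X 𝓔 hP hPX]
    unfold W4swparbununimod.rpoly
    rw [coeff_map]; rfl
  have h1 : (W4swparbununimod.rpoly (PX (Fin.last (𝓔.l + 1)))).coeff (d - 1) =
      (((PX (Fin.last (𝓔.l + 1))).coeff (d - 1) : ℚ) : ℝ) := by
    unfold W4swparbununimod.rpoly
    rw [coeff_map]; rfl
  rw [h0, h1]
  exact key

end Hilb

end Groth.Agent.Lib.Helper20.ParHilbPoly
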