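import Mathlib
import Groth.Agent.Lib.Helper20.ParHilbPoly
import Groth.Agent.Lib.Helper20.ParExt

/-!
# The induced filtration on a submodule and the modified parabolic polynomials (helper20)
-/

set_option autoImplicit false
universe u

open CategoryTheory CategoryTheory.Limits AlgebraicGeometry Polynomial Opposite TopologicalSpace

namespace Groth.Agent.Lib.Helper20.ParHilbPoly

open Groth.Agent.Lib.helper11.IsoLocus Groth.Agent.Lib.Lead.HilbPos Scheme.Modules

section Abstract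

universe v w

variable {C : Type w} [Category.{v} C] [Abelian C] {W E : C} (ι : W ⟶ E) (S : Subobject E)

theorem pullback_arrow_comp :
    ((Subobject.pullback ι).obj S).arrow ≫ ι ≫ cokernel.π S.arrow = 0 := by
  rw [← Category.assoc, ← (Subobject.isPullback ι S).w, Category.assoc, cokernel.condition,
    Limits.comp_zero]

/-- `W ∩ S` is the kernel of `W ⟶ E ⟶ E / S` -/
noncomputable def isLimitPullbackKernel :
    IsLimit (KernelFork.ofι ((Subobject.pullback ι).obj S).arrow (pullback_arrow_comp ι S)) :=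
  KernelFork.IsLimit.ofι _ _
    (fun g' eq' => (Subobject.isPullback ι S).lift
      (Abelian.monoLift S.arrow (g' ≫ ι) (by rw [Category.assoc]; exact eq')) g'
      (Abelian.monoLift_comp _ _ _))
    (fun g' eq' => (Subobject.isPullback ι S).lift_snd _ _ _)
    (fun g' eq' m hm => by
      rw [← cancel_mono ((Subobject.pullback ι).obj S).arrow, hm]
      exact ((Subobject.isPullback ι S).lift_snd _ _ _).symm)

noncomputable def pullbackIsoKernel :
    (((Subobject.pullback ι).obj S : Subobject W) : C) ≅ kernel (ι ≫ cokernel.π S.arrow) :=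
  IsLimit.conePointUniqueUpToIso (isLimitPullbackKernel ι S) (limit.isLimit _)

theorem mono_cokernelDesc_pullback :
    Mono (cokernel.desc ((Subobject.pullback ι).obj S).arrow (ι ≫ cokernel.π S.arrow)
      (pullback_arrow_comp ι S)) :=
  (ShortComplex.exact_iff_mono_cokernel_desc
    (ShortComplex.mk _ _ (pullback_arrow_comp ι S))).mp
    (ShortComplex.exact_of_f_is_kernel _ (isLimitPullbackKernel ι S))

end Abstract

section Sch

variable (k : Type u) [Field k] (X : Scheme.{u}) [X.Over (Spec (CommRingCat.of k))]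
  [IsProper (X ↘ Spec (CommRingCat.of k))]

include k in
theorem isCoh_pullback {W E : X.Modules} (ι : W ⟶ E) (hW : Coh.IsCoh W) (hE : Coh.IsCoh E)
    (S : Subobject E) (hS : Coh.IsCoh ((S : Subobject E) : X.Modules))
    (T : Subobject W) (hT : T = (Subobject.pullback ι).obj S) :
    Coh.IsCoh ((T : Subobject W) : X.Modules) := by
  subst hT
  have := Groth.Agent.Lib.Lead.CurveEuler.isNoetherian k X
  have hc : Coh.IsCoh (cokernel S.arrow) :=
    Groth.Agent.Lib.helper7.CohKer.isCoh_cokernel hS hE S.arrow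
  have hk : Coh.IsCoh (kernel (ι ≫ cokernel.π S.arrow)) :=
    Groth.Agent.Lib.helper7.CohKer.isCoh_kernel hW hc _
  exact Groth.Agent.Lib.helper7.CohKer.isCoh_of_iso (pullbackIsoKernel ι S).symm hk

include k in
theorem dim_support_cokernel_pullback_lt {W E : X.Modules} (ι : W ⟶ E) (hW : Coh.IsCoh W)
    (hE : Coh.IsCoh E) (S : Subobject E) (hS : Coh.IsCoh ((S : Subobject E) : X.Modules))
    (T : Subobject W) (hT : T = (Subobject.pullback ι).obj S) (d : ℕ)
    (hdim : topologicalKrullDim ↥(CohB1.support (cokernel S.arrow)) < (d : WithBot ℕ∞)) :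
    topologicalKrullDim ↥(CohB1.support (cokernel T.arrow)) < (d : WithBot ℕ∞) := by
  have hTc := isCoh_pullback k X ι hW hE S hS T hT
  subst hT
  have := Groth.Agent.Lib.Lead.CurveEuler.isNoetherian k X
  have hc : Coh.IsCoh (cokernel S.arrow) :=
    Groth.Agent.Lib.helper7.CohKer.isCoh_cokernel hS hE S.arrow
  have hc' : Coh.IsCoh (cokernel ((Subobject.pullback ι).obj S).arrow) :=
    Groth.Agent.Lib.helper7.CohKer.isCoh_cokernel hTc hW _
  have := mono_cokernelDesc_pullback ι S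
  exact lt_of_le_of_lt (Groth.Agent.Lib.helper8.DimLt.topologicalKrullDim_le_of_subset
    (Groth.Agent.Lib.helper8.Dev.support_subset_of_mono
      (cokernel.desc ((Subobject.pullback ι).obj S).arrow (ι ≫ cokernel.π S.arrow)
        (pullback_arrow_comp ι S)) hc' hc)) hdim

variable {L : X.Modules} (hL : CohB1.IsAmple L) {I : X.IdealSheafData}
  {E : X.Modules} (hE : Coh.IsCoh E) (𝓔 : ParSh.Str E) (h𝓔 : 𝓔.Along I)
  (hcoh : ∀ j, Coh.IsCoh ((𝓔.pieceX j : Subobject E) : X.Modules)) (d : ℕ)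
  (hsupp : topologicalKrullDim ↥(CohB1.support E ∩ (I.support : Set X)) < (d : WithBot ℕ∞))
  {W : X.Modules} (ι : W ⟶ E) (hW : Coh.IsCoh W)
  {Q : ℚ[X]} (hQ : ShStab.IsHilbPoly k X L W Q)

include k hE hcoh hW in
theorem induced_coh (j : Fin (𝓔.l + 2)) :
    Coh.IsCoh (((𝓔.induced ι).pieceX j : Subobject W) : X.Modules) :=
  isCoh_pullback k X ι hW hE (𝓔.pieceX j) (hcoh j) _
    (Groth.Agent.Lib.Helper20.ParExt.induced_pieceX 𝓔 ι j)

include k hE h𝓔 hcoh hsupp hW in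
theorem dim_support_cokernel_induced_lt (j : Fin (𝓔.l + 2)) :
    topologicalKrullDim ↥(CohB1.support (cokernel ((𝓔.induced ι).pieceX j).arrow)) <
      (d : WithBot ℕ∞) :=
  dim_support_cokernel_pullback_lt k X ι hW hE (𝓔.pieceX j) (hcoh j) _
    (Groth.Agent.Lib.Helper20.ParExt.induced_pieceX 𝓔 ι j) d
    (dim_support_cokernel_lt k X hE (𝓔.pieceX j) (hcoh j) (h𝓔 ▸ 𝓔.bot_le_pieceX j) d hsupp)

include hL hE hcoh hW hQ in
/-- `K_j = Q - Q_j` -/
theorem induced_QH_eq {QX QH : Fin (𝓔.l + 2) → ℚ[X]}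
    (hQX : ∀ j, ShStab.IsHilbPoly k X L (((𝓔.induced ι).pieceX j : Subobject W) : X.Modules) (QX j))
    (hQH : ∀ j, ShStab.IsHilbPoly k X L (cokernel ((𝓔.induced ι).pieceX j).arrow) (QH j))
    (j : Fin (𝓔.l + 2)) : QH j = Q - QX j :=
  isHilbPoly_unique k X (hQH j)
    (isHilbPoly_cokernel_arrow k X hL.1 hW _ (induced_coh k X hE 𝓔 hcoh ι hW j) hQ (hQX j))

include hL hE h𝓔 hcoh hsupp hW hQ in
theorem induced_coeff_eq {QX : Fin (𝓔.l + 2) → ℚ[X]}
    (hQX : ∀ j, ShStab.IsHilbPoly k X L (((𝓔.induced ι).pieceX j : Subobject W) : X.Modules) (QX j))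
    (j : Fin (𝓔.l + 2)) (n : ℕ) (hn : d ≤ n) : (QX j).coeff n = Q.coeff n := by
  have := Groth.Agent.Lib.Lead.CurveEuler.isNoetherian k X
  have hTc := induced_coh k X hE 𝓔 hcoh ι hW j
  have hc : Coh.IsCoh (cokernel ((𝓔.induced ι).pieceX j).arrow) :=
    Groth.Agent.Lib.helper7.CohKer.isCoh_cokernel hTc hW _
  have h := coeff_eq_zero_of_dim_lt k X hL.1 hc d
    (dim_support_cokernel_induced_lt k X hE 𝓔 h𝓔 hcoh d hsupp ι hW j)
    (isHilbPoly_cokernel_arrow k X hL.1 hW _ hTc hQ (hQX j)) n hn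
  rw [coeff_sub] at h
  linarith

include hL hE h𝓔 hcoh hsupp in
theorem H_coeff_eq_zero {H : Fin (𝓔.l + 2) → ℚ[X]}
    (hH : ∀ j, ShStab.IsHilbPoly k X L (cokernel (𝓔.pieceX j).arrow) (H j))
    (j : Fin (𝓔.l + 2)) (n : ℕ) (hn : d ≤ n) : (H j).coeff n = 0 := by
  have := Groth.Agent.Lib.Lead.CurveEuler.isNoetherian k X
  have hc : Coh.IsCoh (cokernel (𝓔.pieceX j).arrow) :=
    Groth.Agent.Lib.helper7.CohKer.isCoh_cokernel (hcoh j) hE _
  exact coeff_eq_zero_of_dim_lt k X hL.1 hc d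
    (dim_support_cokernel_lt k X hE (𝓔.pieceX j) (hcoh j) (h𝓔 ▸ 𝓔.bot_le_pieceX j) d hsupp)
    (hH j) n hn

/-- the Hilbert polynomial of `W / W₀ = 0` -/
theorem QH_zero_eq {G : X.Modules} (𝓖 : ParSh.Str G) {QH : Fin (𝓖.l + 2) → ℚ[X]}
    (hQH : ∀ j, ShStab.IsHilbPoly k X L (cokernel (𝓖.pieceX j).arrow) (QH j)) : QH 0 = 0 := by
  have hz : IsZero (cokernel (𝓖.pieceX 0).arrow) := by
    haveI : IsIso (𝓖.pieceX 0).arrow := by
      rw [pieceX_zero]; infer_instance
    exact isZero_cokernel_of_epi _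
  exact isHilbPoly_unique k X (hQH 0) (isHilbPoly_zero_of_isZero k X hz)

omit [IsProper (X ↘ Spec (CommRingCat.of k))] [X.Over (Spec (CommRingCat.of k))] in
theorem parPolyOne_coeff (d : ℕ) (Q : ℚ[X]) (QH H : Fin (𝓔.l + 2) → ℚ[X]) (n : ℕ) :
    (W4swparbununimod.parPolyOne 𝓔 d Q QH H).coeff n =
      ((Q.coeff n : ℚ) : ℝ) -
        ∑ j : Fin (𝓔.l + 1), ((𝓔.wtX j.succ - 𝓔.wtX j.castSucc) *
          ((StabCat.alpha (d - 1) (QH j.succ) / StabCat.alpha (d - 1) (H j.succ) : ℚ) : ℝ)) *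
            (((H j.succ).coeff n : ℚ) : ℝ) := by
  unfold W4swparbununimod.parPolyOne W4swparbununimod.rpoly
  rw [coeff_sub, finset_sum_coeff, coeff_map]
  congr 1
  refine Finset.sum_congr rfl (fun j _ => ?_)
  rw [coeff_C_mul, coeff_map]
  rfl

omit [IsProper (X ↘ Spec (CommRingCat.of k))] [X.Over (Spec (CommRingCat.of k))] in
theorem parPoly_induced_coeff (QX : Fin (𝓔.l + 2) → ℚ[X]) (n : ℕ) :
    (W4swparbununimod.parPoly (𝓔.induced ι) QX).coeff n =
      (((QX (Fin.last (𝓔.l + 1))).coeff n : ℚ) : ℝ) +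
        ∑ j : Fin (𝓔.l + 1), 𝓔.wt j *
          ((((QX j.castSucc).coeff n : ℚ) : ℝ) - (((QX j.succ).coeff n : ℚ) : ℝ)) :=
  parPoly_coeff (𝓔.induced ι) QX n

include hL hE h𝓔 hcoh hsupp hW hQ in
/-- **S18530** -/
theorem parPolyOne_coeff_eq (hd : 1 ≤ d) {H : Fin (𝓔.l + 2) → ℚ[X]}
    (hH : ∀ j, ShStab.IsHilbPoly k X L (cokernel (𝓔.pieceX j).arrow) (H j))
    (hHa : ∀ j : Fin (𝓔.l + 1), StabCat.alpha (d - 1) (H j.succ) ≠ 0)
    {QX QH : Fin (𝓔.l + 2) → ℚ[X]}
    (hQX : ∀ j, ShStab.IsHilbPoly k X L (((𝓔.induced ι).pieceX j : Subobject W) : X.Modules) (QX j))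
    (hQH : ∀ j, ShStab.IsHilbPoly k X L (cokernel ((𝓔.induced ι).pieceX j).arrow) (QH j)) :
    (W4swparbununimod.parPolyOne 𝓔 d Q QH H).coeff d =
        (W4swparbununimod.parPoly (𝓔.induced ι) QX).coeff d ∧
      (W4swparbununimod.parPolyOne 𝓔 d Q QH H).coeff (d - 1) =
        (W4swparbununimod.parPoly (𝓔.induced ι) QX).coeff (d - 1) := by
  constructor
  · rw [parPolyOne_coeff, parPoly_induced_coeff]
    have h1 := fun j => induced_coeff_eq k X hL hE 𝓔 h𝓔 hcoh d hsupp ι hW hQ hQX j d le_rfl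
    have h2 := fun j => H_coeff_eq_zero k X hL hE 𝓔 h𝓔 hcoh d hsupp hH j d le_rfl
    simp only [h1, h2, sub_self, mul_zero, Finset.sum_const_zero, add_zero, sub_zero,
      Rat.cast_zero]
  · rw [parPolyOne_coeff, parPoly_induced_coeff]
    have hq : ∀ j, (((QX j).coeff (d - 1) : ℚ) : ℝ) =
        ((Q.coeff (d - 1) : ℚ) : ℝ) - (((QH j).coeff (d - 1) : ℚ) : ℝ) := by
      intro j
      rw [induced_QH_eq k X hL hE 𝓔 hcoh ι hW hQ hQX hQH j, coeff_sub]
      push_cast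
      ring
    have h00 : QH 0 = 0 := QH_zero_eq k X (𝓔.induced ι) hQH
    have h0 : (((QH 0).coeff (d - 1) : ℚ) : ℝ) = 0 := by
      rw [h00]; simp
    have key := Groth.Agent.Lib.Helper20.ParHilbQuot.tele 𝓔.l 𝓔.wtX
      (fun j => (((QH j).coeff (d - 1) : ℚ) : ℝ)) ((Q.coeff (d - 1) : ℚ) : ℝ) h0 𝓔.wtX_last
    have hrat : ∀ j : Fin (𝓔.l + 1),
        ((𝓔.wtX j.succ - 𝓔.wtX j.castSucc) *
          ((StabCat.alpha (d - 1) (QH j.succ) / StabCat.alpha (d - 1) (H j.succ) : ℚ) : ℝ)) *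
            (((H j.succ).coeff (d - 1) : ℚ) : ℝ) =
        (𝓔.wtX j.succ - 𝓔.wtX j.castSucc) * (((QH j.succ).coeff (d - 1) : ℚ) : ℝ) := by
      intro j
      have hne := hHa j
      unfold StabCat.alpha at hne ⊢
      have hf : ((d - 1).factorial : ℚ) ≠ 0 := Nat.cast_ne_zero.mpr (Nat.factorial_ne_zero _)
      have hy : (H j.succ).coeff (d - 1) ≠ 0 := fun h => hne (by rw [h, mul_zero])
      have : (((d - 1).factorial : ℚ) * (QH j.succ).coeff (d - 1) /
          (((d - 1).factorial : ℚ) * (H j.succ).coeff (d - 1))) * (H j.succ).coeff (d - 1) =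
          (QH j.succ).coeff (d - 1) := by
        field_simp
      rw [mul_assoc, ← Rat.cast_mul, this]
    simp only [hrat]
    rw [← key]
    rw [hq (Fin.last _)]
    congr 1
    refine Finset.sum_congr rfl (fun j _ => ?_)
    rw [hq j.castSucc, hq j.succ, 𝓔.wtX_castSucc]

end Sch

section RealPoly

open Filter

theorem real_eventually_pos_of_leadingCoeff_pos (P : ℝ[X]) (h : 0 < P.leadingCoeff) :
    ∃ N : ℕ, ∀ m : ℕ, N ≤ m → 0 < P.eval (m : ℝ) := by
  by_cases hdeg : 0 < P.degree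
  · have h1 := Polynomial.tendsto_atTop_of_leadingCoeff_nonneg P hdeg h.le
    have h2 : Tendsto (fun m : ℕ => P.eval (m : ℝ)) atTop atTop :=
      h1.comp tendsto_natCast_atTop_atTop
    have h3 := h2.eventually (eventually_gt_atTop (0 : ℝ))
    obtain ⟨N, hN⟩ := eventually_atTop.mp h3
    exact ⟨N, hN⟩
  · have h0 : P.degree ≤ 0 := not_lt.mp hdeg
    rw [Polynomial.eq_C_of_degree_le_zero h0] at h ⊢
    simp only [leadingCoeff_C] at h
    exact ⟨0, fun m _ => by simpa using h⟩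

theorem real_eventually_pos_of_coeff_pos (P : ℝ[X]) (e : ℕ) (he : P.natDegree ≤ e)
    (h : 0 < P.coeff e) : ∃ N : ℕ, ∀ m : ℕ, N ≤ m → 0 < P.eval (m : ℝ) := by
  have h1 : P.natDegree = e := le_antisymm he (le_natDegree_of_ne_zero h.ne')
  apply real_eventually_pos_of_leadingCoeff_pos
  rw [leadingCoeff, h1]
  exact h

theorem real_coeff_nonneg_of_evNonneg (P : ℝ[X]) (e : ℕ) (he : P.natDegree ≤ e)
    (h : ∃ N : ℕ, ∀ m : ℕ, N ≤ m → 0 ≤ P.eval (m : ℝ)) : 0 ≤ P.coeff e := by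
  by_contra hn
  have hneg : 0 < (-P).coeff e := by
    rw [coeff_neg]; linarith [not_le.mp hn]
  obtain ⟨N', hN'⟩ := real_eventually_pos_of_coeff_pos (-P) e (by rwa [natDegree_neg]) hneg
  obtain ⟨N, hN⟩ := h
  have h1 := hN (max N N') (le_max_left _ _)
  have h2 := hN' (max N N') (le_max_right _ _)
  rw [eval_neg] at h2
  linarith

/-- comparison of two real polynomials of degree `≤ d` with proportional top coefficients
through their coefficients of degree `d - 1` -/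
theorem real_compare (A B : ℝ[X]) (a b : ℝ) (d : ℕ) (hd : 1 ≤ d) (hA : A.natDegree ≤ d)
    (hB : B.natDegree ≤ d) (hab : A.coeff d * a = B.coeff d * b) :
    ((∃ M : ℕ, ∀ m : ℕ, M ≤ m → A.eval (m : ℝ) * a ≤ B.eval (m : ℝ) * b) →
        A.coeff (d - 1) * a ≤ B.coeff (d - 1) * b) ∧
      (A.coeff (d - 1) * a < B.coeff (d - 1) * b →
        ∃ M : ℕ, ∀ m : ℕ, M ≤ m → A.eval (m : ℝ) * a < B.eval (m : ℝ) * b) := by
  set R : ℝ[X] := B * C b - A * C a with hR
  have hev : ∀ x : ℝ, R.eval x = B.eval x * b - A.eval x * a := by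
    intro x; rw [hR, eval_sub, eval_mul, eval_mul, eval_C, eval_C]
  have hco : ∀ n, R.coeff n = B.coeff n * b - A.coeff n * a := by
    intro n; rw [hR, coeff_sub, coeff_mul_C, coeff_mul_C]
  have hdeg : R.natDegree ≤ d - 1 := by
    rw [natDegree_le_iff_coeff_eq_zero]
    intro N hN
    rw [hco]
    rcases Nat.lt_or_ge d N with h | h
    · rw [coeff_eq_zero_of_natDegree_lt (lt_of_le_of_lt hA h),
        coeff_eq_zero_of_natDegree_lt (lt_of_le_of_lt hB h)]
      ring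
    · have : N = d := by omega
      subst this
      linarith
  constructor
  · rintro ⟨M, hM⟩
    have h := real_coeff_nonneg_of_evNonneg R (d - 1) hdeg
      ⟨M, fun m hm => by rw [hev]; linarith [hM m hm]⟩
    rw [hco] at h
    linarith
  · intro hlt
    obtain ⟨M, hM⟩ := real_eventually_pos_of_coeff_pos R (d - 1) hdeg
      (by rw [hco]; linarith)
    exact ⟨M, fun m hm => by have := hM m hm; rw [hev] at this; linarith⟩

end RealPoly

section Sch2

variable (k : Type u) [Field k] (X : Scheme.{u}) [X.Over (Spec (CommRingCat.of k))]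
  [IsProper (X ↘ Spec (CommRingCat.of k))]

variable {L : X.Modules} (hL : CohB1.IsAmple L) {I : X.IdealSheafData}
  {E : X.Modules} (hE : Coh.IsCoh E) (𝓔 : ParSh.Str E) (h𝓔 : 𝓔.Along I)
  (hcoh : ∀ j, Coh.IsCoh ((𝓔.pieceX j : Subobject E) : X.Modules)) (d : ℕ)
  (hsupp : topologicalKrullDim ↥(CohB1.support E ∩ (I.support : Set X)) < (d : WithBot ℕ∞))
  {W : X.Modules} (ι : W ⟶ E) (hW : Coh.IsCoh W)
  {Q : ℚ[X]} (hQ : ShStab.IsHilbPoly k X L W Q)

theorem rpoly_coeff (P : ℚ[X]) (n : ℕ) :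
    (W4swparbununimod.rpoly P).coeff n = ((P.coeff n : ℚ) : ℝ) := by
  unfold W4swparbununimod.rpoly
  rw [coeff_map]; rfl

include hL hE h𝓔 hcoh hsupp hW hQ in
theorem parPoly_induced_coeff_eq {QX : Fin (𝓔.l + 2) → ℚ[X]}
    (hQX : ∀ j, ShStab.IsHilbPoly k X L (((𝓔.induced ι).pieceX j : Subobject W) : X.Modules) (QX j))
    (n : ℕ) (hn : d ≤ n) :
    (W4swparbununimod.parPoly (𝓔.induced ι) QX).coeff n = (W4swparbununimod.rpoly Q).coeff n := by
  rw [parPoly_induced_coeff, rpoly_coeff]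
  have h1 := fun j => induced_coeff_eq k X hL hE 𝓔 h𝓔 hcoh d hsupp ι hW hQ hQX j n hn
  simp only [h1, sub_self, mul_zero, Finset.sum_const_zero, add_zero]

include hL hE h𝓔 hcoh hsupp hW hQ in
/-- **S18528** -/
theorem redParPoly_compare [Mono ι] (hd : 1 ≤ d) (h0 : ¬ IsZero E) (hpure : ShStab.IsPure X E d)
    {P : ℚ[X]} (hP : ShStab.IsHilbPoly k X L E P) {PX : Fin (𝓔.l + 2) → ℚ[X]}
    (hPX : ∀ j, ShStab.IsHilbPoly k X L ((𝓔.pieceX j : Subobject E) : X.Modules) (PX j))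
    {QX : Fin (𝓔.l + 2) → ℚ[X]}
    (hQX : ∀ j, ShStab.IsHilbPoly k X L (((𝓔.induced ι).pieceX j : Subobject W) : X.Modules)
      (QX j)) :
    ((∃ M : ℕ, ∀ m : ℕ, M ≤ m →
        (W4swparbununimod.parPoly (𝓔.induced ι) QX).eval (m : ℝ) * (StabCat.alpha d P : ℝ) ≤
          (W4swparbununimod.parPoly 𝓔 PX).eval (m : ℝ) * (StabCat.alpha d Q : ℝ)) →
      (W4swparbununimod.parPoly (𝓔.induced ι) QX).coeff (d - 1) * (StabCat.alpha d P : ℝ) ≤
        (W4swparbununimod.parPoly 𝓔 PX).coeff (d - 1) * (StabCat.alpha d Q : ℝ)) ∧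
    ((W4swparbununimod.parPoly (𝓔.induced ι) QX).coeff (d - 1) * (StabCat.alpha d P : ℝ) <
        (W4swparbununimod.parPoly 𝓔 PX).coeff (d - 1) * (StabCat.alpha d Q : ℝ) →
      ∃ M : ℕ, ∀ m : ℕ, M ≤ m →
        (W4swparbununimod.parPoly (𝓔.induced ι) QX).eval (m : ℝ) * (StabCat.alpha d P : ℝ) <
          (W4swparbununimod.parPoly 𝓔 PX).eval (m : ℝ) * (StabCat.alpha d Q : ℝ)) := by
  have := Groth.Agent.Lib.Lead.CurveEuler.isNoetherian k X
  have hdimE : topologicalKrullDim ↥(CohB1.support E) ≤ ((d : ℕ) : WithBot ℕ∞) :=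
    (hpure E (𝟙 E) inferInstance hE h0).le
  have hdimW : topologicalKrullDim ↥(CohB1.support W) ≤ ((d : ℕ) : WithBot ℕ∞) :=
    (Groth.Agent.Lib.helper8.DimLt.topologicalKrullDim_le_of_subset
      (Groth.Agent.Lib.helper8.Dev.support_subset_of_mono ι hW hE)).trans hdimE
  have hPdeg : P.natDegree ≤ d := natDegree_le k X hL.1 hE d hdimE hP
  have hQdeg : Q.natDegree ≤ d := natDegree_le k X hL.1 hW d hdimW hQ
  have hA : ∀ n, d ≤ n → (W4swparbununimod.parPoly (𝓔.induced ι) QX).coeff n =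
      ((Q.coeff n : ℚ) : ℝ) := fun n hn => by
    rw [parPoly_induced_coeff_eq k X hL hE 𝓔 h𝓔 hcoh d hsupp ι hW hQ hQX n hn, rpoly_coeff]
  have hB : ∀ n, d ≤ n → (W4swparbununimod.parPoly 𝓔 PX).coeff n =
      ((P.coeff n : ℚ) : ℝ) := fun n hn => by
    rw [parPoly_coeff_eq k X hL hE 𝓔 h𝓔 hcoh d hsupp hP hPX n hn, rpoly_coeff]
  refine real_compare _ _ _ _ d hd ?_ ?_ ?_
  · rw [natDegree_le_iff_coeff_eq_zero]
    intro N hN
    rw [hA N hN.le, coeff_eq_zero_of_natDegree_lt (lt_of_le_of_lt hQdeg hN)]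
    simp
  · rw [natDegree_le_iff_coeff_eq_zero]
    intro N hN
    rw [hB N hN.le, coeff_eq_zero_of_natDegree_lt (lt_of_le_of_lt hPdeg hN)]
    simp
  · rw [hA d le_rfl, hB d le_rfl]
    unfold StabCat.alpha
    push_cast
    ring

end Sch2

end Groth.Agent.Lib.Helper20.ParHilbPoly
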