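import Mathlib
import Groth.Agent.Lib.Helper20.ParHilbPoly2

/-!
# The second modified parabolic Hilbert polynomial versus the first (helper20)
-/

set_option autoImplicit false
universe u

open CategoryTheory CategoryTheory.Limits AlgebraicGeometry Polynomial Opposite TopologicalSpace

namespace Groth.Agent.Lib.Helper20.ParHilbPoly

open Groth.Agent.Lib.helper11.IsoLocus Groth.Agent.Lib.Lead.HilbPos Scheme.Modules

section Analysis

open Filter Topology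

theorem tendsto_eval_div_pow (p : ℚ[X]) (e : ℕ) (he : p.natDegree ≤ e) :
    Tendsto (fun n : ℕ => ((p.eval (n : ℚ) : ℚ) : ℝ) / (n : ℝ) ^ e) atTop
      (𝓝 ((p.coeff e : ℚ) : ℝ)) := by
  set p' : ℝ[X] := p.map (Rat.castHom ℝ) with hp'
  have hev : ∀ n : ℕ, ((p.eval (n : ℚ) : ℚ) : ℝ) / (n : ℝ) ^ e =
      p'.eval (n : ℝ) / (X ^ e : ℝ[X]).eval (n : ℝ) := by
    intro n
    rw [hp', eval_natCast_map, eval_pow, eval_X]; rfl
  have key : Tendsto (fun x : ℝ => p'.eval x / (X ^ e : ℝ[X]).eval x) atTop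
      (𝓝 ((p.coeff e : ℚ) : ℝ)) := by
    rcases lt_or_eq_of_le he with h | h
    · rw [coeff_eq_zero_of_natDegree_lt h, Rat.cast_zero]
      apply div_tendsto_atTop_zero_of_degree_lt
      rw [degree_X_pow]
      calc p'.degree ≤ p.degree := degree_map_le
        _ ≤ p.natDegree := degree_le_natDegree
        _ < e := by exact_mod_cast h
    · by_cases h0 : p = 0
      · subst h0
        simp [hp']
      · have hd : p'.degree = (X ^ e : ℝ[X]).degree := by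
          rw [degree_X_pow, hp', degree_map, degree_eq_natDegree h0, h]
        have := div_tendsto_atTop_leadingCoeff_div_of_degree_eq p' (X ^ e) hd
        rw [leadingCoeff_X_pow, div_one, hp', leadingCoeff_map, leadingCoeff, h] at this
        exact this
  have := key.comp tendsto_natCast_atTop_atTop
  exact this.congr (fun n => (hev n).symm)

theorem tendsto_ratio (K Hh : ℚ[X]) (e : ℕ) (hK : K.natDegree ≤ e) (hH : Hh.natDegree ≤ e)
    (hne : Hh.coeff e ≠ 0) :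
    Tendsto (fun n : ℕ => ((K.eval (n : ℚ) / Hh.eval (n : ℚ) : ℚ) : ℝ)) atTop
      (𝓝 ((K.coeff e / Hh.coeff e : ℚ) : ℝ)) := by
  have h1 := tendsto_eval_div_pow K e hK
  have h2 := tendsto_eval_div_pow Hh e hH
  have hne' : ((Hh.coeff e : ℚ) : ℝ) ≠ 0 := by exact_mod_cast hne
  have h3 := h1.div h2 hne'
  rw [Rat.cast_div]
  refine h3.congr' ?_
  filter_upwards [eventually_ge_atTop 1] with n hn
  have hn0 : ((n : ℝ) ^ e) ≠ 0 := pow_ne_zero _ (by positivity)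
  change ((K.eval (n : ℚ) : ℚ) : ℝ) / (n : ℝ) ^ e / (((Hh.eval (n : ℚ) : ℚ) : ℝ) / (n : ℝ) ^ e) = _
  rw [div_div_div_cancel_right₀ hn0, Rat.cast_div]

theorem asymp_compare (d : ℕ) (P Q : ℚ[X]) (hP : P.natDegree ≤ d)
    (hQ : Q.natDegree ≤ d) {ι : Type*} [Fintype ι] (δ : ι → ℝ) (K Hh : ι → ℚ[X])
    (hK : ∀ j, (K j).natDegree ≤ d - 1) (hH : ∀ j, (Hh j).natDegree ≤ d - 1)
    (hHne : ∀ j, (Hh j).coeff (d - 1) ≠ 0) (qm Bm : ℝ) (hm : ι → ℝ) :
    Tendsto (fun n : ℕ =>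
      ((qm - ∑ j, δ j * ((((K j).eval (n : ℚ) / (Hh j).eval (n : ℚ) : ℚ) : ℝ) * hm j)) *
          ((P.eval (n : ℚ) : ℚ) : ℝ) - Bm * ((Q.eval (n : ℚ) : ℚ) : ℝ)) / (n : ℝ) ^ d) atTop
      (𝓝 ((qm - ∑ j, δ j * ((((K j).coeff (d - 1) / (Hh j).coeff (d - 1) : ℚ) : ℝ) * hm j)) *
          ((P.coeff d : ℚ) : ℝ) - Bm * ((Q.coeff d : ℚ) : ℝ))) := by
  have h1 : Tendsto (fun n : ℕ =>
      (qm - ∑ j, δ j * ((((K j).eval (n : ℚ) / (Hh j).eval (n : ℚ) : ℚ) : ℝ) * hm j))) atTop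
      (𝓝 (qm - ∑ j, δ j * ((((K j).coeff (d - 1) / (Hh j).coeff (d - 1) : ℚ) : ℝ) * hm j))) :=
    tendsto_const_nhds.sub (tendsto_finset_sum _ (fun j _ =>
      tendsto_const_nhds.mul ((tendsto_ratio (K j) (Hh j) (d - 1) (hK j) (hH j) (hHne j)).mul
        tendsto_const_nhds)))
  have h2 := (h1.mul (tendsto_eval_div_pow P d hP)).sub
    ((tendsto_const_nhds (x := Bm)).mul (tendsto_eval_div_pow Q d hQ))
  refine h2.congr (fun n => ?_)
  rw [sub_div, mul_div_assoc, mul_div_assoc]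

end Analysis

section Sch3

open Filter Topology

variable (k : Type u) [Field k] (X : Scheme.{u}) [X.Over (Spec (CommRingCat.of k))]
  [IsProper (X ↘ Spec (CommRingCat.of k))]

variable {L : X.Modules} (hL : CohB1.IsAmple L) {I : X.IdealSheafData}
  {E : X.Modules} (hE : Coh.IsCoh E) (𝓔 : ParSh.Str E) (h𝓔 : 𝓔.Along I)
  (hcoh : ∀ j, Coh.IsCoh ((𝓔.pieceX j : Subobject E) : X.Modules)) (d : ℕ)
  (hsupp : topologicalKrullDim ↥(CohB1.support E ∩ (I.support : Set X)) < (d : WithBot ℕ∞))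
  {W : X.Modules} (ι : W ⟶ E) (hW : Coh.IsCoh W)
  {Q : ℚ[X]} (hQ : ShStab.IsHilbPoly k X L W Q)

omit [IsProper (X ↘ Spec (CommRingCat.of k))] [X.Over (Spec (CommRingCat.of k))] in
theorem parPolyOne_eval (Q : ℚ[X]) (QH H : Fin (𝓔.l + 2) → ℚ[X]) (m : ℕ) :
    (W4swparbununimod.parPolyOne 𝓔 d Q QH H).eval (m : ℝ) =
      ((Q.eval (m : ℚ) : ℚ) : ℝ) -
        ∑ j : Fin (𝓔.l + 1), ((𝓔.wtX j.succ - 𝓔.wtX j.castSucc) *
          ((StabCat.alpha (d - 1) (QH j.succ) / StabCat.alpha (d - 1) (H j.succ) : ℚ) : ℝ)) *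
            (((H j.succ).eval (m : ℚ) : ℚ) : ℝ) := by
  unfold W4swparbununimod.parPolyOne W4swparbununimod.rpoly
  rw [eval_sub, eval_finset_sum, eval_natCast_map]
  congr 1
  refine Finset.sum_congr rfl (fun j _ => ?_)
  rw [eval_mul, eval_C, eval_natCast_map]
  rfl

include hL hE h𝓔 hcoh hsupp hW in
theorem QH_coeff_eq_zero {QH : Fin (𝓔.l + 2) → ℚ[X]}
    (hQH : ∀ j, ShStab.IsHilbPoly k X L (cokernel ((𝓔.induced ι).pieceX j).arrow) (QH j))
    (j : Fin (𝓔.l + 2)) (n : ℕ) (hn : d ≤ n) : (QH j).coeff n = 0 := by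
  have := Groth.Agent.Lib.Lead.CurveEuler.isNoetherian k X
  have hTc := induced_coh k X hE 𝓔 hcoh ι hW j
  have hc : Coh.IsCoh (cokernel ((𝓔.induced ι).pieceX j).arrow) :=
    Groth.Agent.Lib.helper7.CohKer.isCoh_cokernel hTc hW _
  exact coeff_eq_zero_of_dim_lt k X hL.1 hc d
    (dim_support_cokernel_induced_lt k X hE 𝓔 h𝓔 hcoh d hsupp ι hW j) (hQH j) n hn

include hL hE h𝓔 hcoh hsupp hW hQ in
/-- **S18532** -/
theorem p2_versus_p1 [Mono ι] (hd : 1 ≤ d) (h0 : ¬ IsZero E) (hpure : ShStab.IsPure X E d)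
    {P : ℚ[X]} (hP : ShStab.IsHilbPoly k X L E P) (PX : Fin (𝓔.l + 2) → ℚ[X])
    {H : Fin (𝓔.l + 2) → ℚ[X]}
    (hH : ∀ j, ShStab.IsHilbPoly k X L (cokernel (𝓔.pieceX j).arrow) (H j))
    (hHa : ∀ j : Fin (𝓔.l + 1), StabCat.alpha (d - 1) (H j.succ) ≠ 0)
    {QH : Fin (𝓔.l + 2) → ℚ[X]}
    (hQH : ∀ j, ShStab.IsHilbPoly k X L (cokernel ((𝓔.induced ι).pieceX j).arrow) (QH j)) :
    ((∃ M : ℕ, ∀ m : ℕ, M ≤ m → ∃ N : ℕ, ∀ n : ℕ, N ≤ n →
        (((Q.eval (m : ℚ) : ℚ) : ℝ) -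
            ∑ j : Fin (𝓔.l + 1), (𝓔.wtX j.succ - 𝓔.wtX j.castSucc) *
              ((((QH j.succ).eval (n : ℚ) / (H j.succ).eval (n : ℚ) : ℚ) : ℝ) * (((H j.succ).eval (m : ℚ) : ℚ) : ℝ))) *
          ((P.eval (n : ℚ) : ℚ) : ℝ) ≤
        (W4swparbununimod.parPoly 𝓔 PX).eval (m : ℝ) * ((Q.eval (n : ℚ) : ℚ) : ℝ)) →
      ∃ M : ℕ, ∀ m : ℕ, M ≤ m →
        (W4swparbununimod.parPolyOne 𝓔 d Q QH H).eval (m : ℝ) * (StabCat.alpha d P : ℝ) ≤
          (W4swparbununimod.parPoly 𝓔 PX).eval (m : ℝ) * (StabCat.alpha d Q : ℝ)) ∧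
    ((∃ M : ℕ, ∀ m : ℕ, M ≤ m →
        (W4swparbununimod.parPolyOne 𝓔 d Q QH H).eval (m : ℝ) * (StabCat.alpha d P : ℝ) <
          (W4swparbununimod.parPoly 𝓔 PX).eval (m : ℝ) * (StabCat.alpha d Q : ℝ)) →
      ∃ M : ℕ, ∀ m : ℕ, M ≤ m → ∃ N : ℕ, ∀ n : ℕ, N ≤ n →
        (((Q.eval (m : ℚ) : ℚ) : ℝ) -
            ∑ j : Fin (𝓔.l + 1), (𝓔.wtX j.succ - 𝓔.wtX j.castSucc) *
              ((((QH j.succ).eval (n : ℚ) / (H j.succ).eval (n : ℚ) : ℚ) : ℝ) * (((H j.succ).eval (m : ℚ) : ℚ) : ℝ))) *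
          ((P.eval (n : ℚ) : ℚ) : ℝ) <
        (W4swparbununimod.parPoly 𝓔 PX).eval (m : ℝ) * ((Q.eval (n : ℚ) : ℚ) : ℝ)) := by
  have := Groth.Agent.Lib.Lead.CurveEuler.isNoetherian k X
  have hdimE : topologicalKrullDim ↥(CohB1.support E) ≤ ((d : ℕ) : WithBot ℕ∞) :=
    (hpure E (𝟙 E) inferInstance hE h0).le
  have hdimW : topologicalKrullDim ↥(CohB1.support W) ≤ ((d : ℕ) : WithBot ℕ∞) :=
    (Groth.Agent.Lib.helper8.DimLt.topologicalKrullDim_le_of_subset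
      (Groth.Agent.Lib.helper8.Dev.support_subset_of_mono ι hW hE)).trans hdimE
  have hPdeg : P.natDegree ≤ d := natDegree_le k X hL.1 hE d hdimE hP
  have hQdeg : Q.natDegree ≤ d := natDegree_le k X hL.1 hW d hdimW hQ
  have hK : ∀ j : Fin (𝓔.l + 1), (QH j.succ).natDegree ≤ d - 1 := fun j => by
    rw [natDegree_le_iff_coeff_eq_zero]
    intro N hN
    exact QH_coeff_eq_zero k X hL hE 𝓔 h𝓔 hcoh d hsupp ι hW hQH j.succ N (by omega)
  have hHd : ∀ j : Fin (𝓔.l + 1), (H j.succ).natDegree ≤ d - 1 := fun j => by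
    rw [natDegree_le_iff_coeff_eq_zero]
    intro N hN
    exact H_coeff_eq_zero k X hL hE 𝓔 h𝓔 hcoh d hsupp hH j.succ N (by omega)
  have hf : ((d - 1).factorial : ℚ) ≠ 0 := Nat.cast_ne_zero.mpr (Nat.factorial_ne_zero _)
  have hHne : ∀ j : Fin (𝓔.l + 1), (H j.succ).coeff (d - 1) ≠ 0 := fun j h => by
    apply hHa j
    unfold StabCat.alpha
    rw [h, mul_zero]
  have hρ : ∀ j : Fin (𝓔.l + 1),
      StabCat.alpha (d - 1) (QH j.succ) / StabCat.alpha (d - 1) (H j.succ) =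
        (QH j.succ).coeff (d - 1) / (H j.succ).coeff (d - 1) := fun j => by
    unfold StabCat.alpha
    exact mul_div_mul_left _ _ hf
  have hdf : (0 : ℝ) < (d.factorial : ℝ) := by exact_mod_cast Nat.factorial_pos d
  -- the limit statement, for every `m`
  have T := fun m : ℕ => asymp_compare d P Q hPdeg hQdeg
    (fun j : Fin (𝓔.l + 1) => 𝓔.wtX j.succ - 𝓔.wtX j.castSucc)
    (fun j => QH j.succ) (fun j => H j.succ) hK hHd hHne
    ((Q.eval (m : ℚ) : ℚ) : ℝ) ((W4swparbununimod.parPoly 𝓔 PX).eval (m : ℝ))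
    (fun j => (((H j.succ).eval (m : ℚ) : ℚ) : ℝ))
  -- the identity between the limit and the `p₁` comparison
  have hid : ∀ m : ℕ,
      (W4swparbununimod.parPolyOne 𝓔 d Q QH H).eval (m : ℝ) * (StabCat.alpha d P : ℝ) -
          (W4swparbununimod.parPoly 𝓔 PX).eval (m : ℝ) * (StabCat.alpha d Q : ℝ) =
        (d.factorial : ℝ) *
          ((((Q.eval (m : ℚ) : ℚ) : ℝ) -
              ∑ j : Fin (𝓔.l + 1), (𝓔.wtX j.succ - 𝓔.wtX j.castSucc) *
                ((((QH j.succ).coeff (d - 1) / (H j.succ).coeff (d - 1) : ℚ) : ℝ) *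
                  (((H j.succ).eval (m : ℚ) : ℚ) : ℝ))) * ((P.coeff d : ℚ) : ℝ) -
            (W4swparbununimod.parPoly 𝓔 PX).eval (m : ℝ) * ((Q.coeff d : ℚ) : ℝ)) := by
    intro m
    rw [parPolyOne_eval]
    simp only [hρ]
    unfold StabCat.alpha
    push_cast
    have : ∀ j : Fin (𝓔.l + 1),
        (𝓔.wtX j.succ - 𝓔.wtX j.castSucc) *
            (((QH j.succ).coeff (d - 1) : ℝ) / ((H j.succ).coeff (d - 1) : ℝ)) *
          (((H j.succ).eval (m : ℚ) : ℚ) : ℝ) =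
        (𝓔.wtX j.succ - 𝓔.wtX j.castSucc) *
          ((((QH j.succ).coeff (d - 1) : ℝ) / ((H j.succ).coeff (d - 1) : ℝ)) *
            (((H j.succ).eval (m : ℚ) : ℚ) : ℝ)) := fun j => mul_assoc _ _ _
    simp only [this]
    ring
  constructor
  · rintro ⟨M, hM⟩
    refine ⟨M, fun m hm => ?_⟩
    obtain ⟨N, hN⟩ := hM m hm
    have hg := le_of_tendsto (T m) (by
      filter_upwards [eventually_ge_atTop N] with n hn
      exact div_nonpos_of_nonpos_of_nonneg (by linarith [hN n hn]) (by positivity))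
    have := hid m
    have h2 := mul_nonpos_of_nonneg_of_nonpos hdf.le hg
    linarith
  · rintro ⟨M, hM⟩
    refine ⟨M, fun m hm => ?_⟩
    have h1 := hM m hm
    have h2 := hid m
    have hg : (((Q.eval (m : ℚ) : ℚ) : ℝ) -
              ∑ j : Fin (𝓔.l + 1), (𝓔.wtX j.succ - 𝓔.wtX j.castSucc) *
                ((((QH j.succ).coeff (d - 1) / (H j.succ).coeff (d - 1) : ℚ) : ℝ) *
                  (((H j.succ).eval (m : ℚ) : ℚ) : ℝ))) * ((P.coeff d : ℚ) : ℝ) -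
            (W4swparbununimod.parPoly 𝓔 PX).eval (m : ℝ) * ((Q.coeff d : ℚ) : ℝ) < 0 := by
      by_contra hcon
      have := mul_nonneg hdf.le (not_lt.mp hcon)
      linarith
    have hev := (T m).eventually (Iio_mem_nhds hg)
    obtain ⟨N, hN⟩ := eventually_atTop.mp hev
    refine ⟨N, fun n hn => ?_⟩
    have h3 : _ / (n : ℝ) ^ d < 0 := hN n hn
    by_contra hcon
    have h4 := div_nonneg (sub_nonneg.mpr (not_lt.mp hcon))
      (show (0 : ℝ) ≤ (n : ℝ) ^ d by positivity)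
    linarith

end Sch3

end Groth.Agent.Lib.Helper20.ParHilbPoly
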