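import Mathlib
import Groth.Agent.Lib.Helper20.ParHilbPoly3
import Groth.Agent.Lib.Lead.HilbPos16

/-!
# `p₁`-(semi)stability from `p₀`-(semi)stability and (semi)stable flag quotients (helper20)
-/

set_option autoImplicit false
universe u

open CategoryTheory CategoryTheory.Limits AlgebraicGeometry Polynomial Opposite TopologicalSpace

namespace Groth.Agent.Lib.Helper20.ParHilbPoly

open Groth.Agent.Lib.helper11.IsoLocus Groth.Agent.Lib.Lead.HilbPos Scheme.Modules StabCat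

section Alg

universe v w

variable {𝒞 : Type w} [Category.{v} 𝒞] {E : 𝒞}

theorem wtX_castSucc_lt_succ (𝓔 : ParSh.Str E) (j : Fin (𝓔.l + 1)) :
    𝓔.wtX j.castSucc < 𝓔.wtX j.succ := by
  induction j using Fin.lastCases with
  | last =>
    rw [𝓔.wtX_castSucc, Fin.succ_last, 𝓔.wtX_last]
    exact 𝓔.wt_lt_one
  | cast i =>
    rw [𝓔.wtX_castSucc, Fin.succ_castSucc, 𝓔.wtX_castSucc]
    exact 𝓔.wt_strictMono (Fin.castSucc_lt_succ)

/-- the values of the parabolic polynomial -/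
theorem parPoly_eval (𝓔 : ParSh.Str E) (PX : Fin (𝓔.l + 2) → ℚ[X]) (m : ℕ) :
    (W4swparbununimod.parPoly 𝓔 PX).eval (m : ℝ) =
      (((PX (Fin.last (𝓔.l + 1))).eval (m : ℚ) : ℚ) : ℝ) +
        ∑ j : Fin (𝓔.l + 1), 𝓔.wt j *
          ((((PX j.castSucc).eval (m : ℚ) : ℚ) : ℝ) - (((PX j.succ).eval (m : ℚ) : ℚ) : ℝ)) := by
  unfold W4swparbununimod.parPoly W4swparbununimod.rpoly
  rw [eval_add, eval_finset_sum, eval_natCast_map]
  congr 1
  refine Finset.sum_congr rfl (fun j _ => ?_)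
  rw [eval_mul, eval_C, eval_sub, eval_natCast_map, eval_natCast_map]
  rfl

/-- Abel summation: the weighted combination of nonnegative numbers is nonnegative -/
theorem weighted_nonneg (𝓔 : ParSh.Str E) (D : Fin (𝓔.l + 2) → ℝ) (hD : ∀ j, 0 ≤ D j) :
    0 ≤ D (Fin.last _) + ∑ j : Fin (𝓔.l + 1), 𝓔.wt j * (D j.castSucc - D j.succ) := by
  have key := Groth.Agent.Lib.Helper20.ParHilbQuot.tele 𝓔.l 𝓔.wtX (fun j => D 0 - D j) (D 0)
    (sub_self _) 𝓔.wtX_last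
  have h1 : (D 0 - (D 0 - D (Fin.last _))) + ∑ j : Fin (𝓔.l + 1), 𝓔.wtX j.castSucc *
        ((D 0 - (D 0 - D j.castSucc)) - (D 0 - (D 0 - D j.succ))) =
      D (Fin.last _) + ∑ j : Fin (𝓔.l + 1), 𝓔.wt j * (D j.castSucc - D j.succ) := by
    congr 1
    · ring
    · refine Finset.sum_congr rfl (fun j _ => ?_)
      rw [𝓔.wtX_castSucc]; ring
  rw [← h1, key]
  have h2 : ∑ j : Fin (𝓔.l + 1), (𝓔.wtX j.succ - 𝓔.wtX j.castSucc) * (D 0 - D j.succ) =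
      (∑ j : Fin (𝓔.l + 1), (𝓔.wtX j.succ - 𝓔.wtX j.castSucc)) * D 0 -
        ∑ j : Fin (𝓔.l + 1), (𝓔.wtX j.succ - 𝓔.wtX j.castSucc) * D j.succ := by
    rw [Finset.sum_mul, ← Finset.sum_sub_distrib]
    exact Finset.sum_congr rfl (fun j _ => by ring)
  have h3 : ∑ j : Fin (𝓔.l + 1), (𝓔.wtX j.succ - 𝓔.wtX j.castSucc) = 1 - 𝓔.wt 0 := by
    have := sum_castSucc_sub_succ 𝓔.l 𝓔.wtX
    have h0 : 𝓔.wtX 0 = 𝓔.wt 0 := by
      have : (0 : Fin (𝓔.l + 2)) = (0 : Fin (𝓔.l + 1)).castSucc := rfl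
      rw [this, 𝓔.wtX_castSucc]
    rw [𝓔.wtX_last, h0] at this
    have h4 : ∑ j : Fin (𝓔.l + 1), (𝓔.wtX j.succ - 𝓔.wtX j.castSucc) =
        - ∑ j : Fin (𝓔.l + 1), (𝓔.wtX j.castSucc - 𝓔.wtX j.succ) := by
      rw [← Finset.sum_neg_distrib]
      exact Finset.sum_congr rfl (fun j _ => by ring)
    rw [h4, this]; ring
  rw [h2, h3]
  have h5 : 0 ≤ ∑ j : Fin (𝓔.l + 1), (𝓔.wtX j.succ - 𝓔.wtX j.castSucc) * D j.succ :=
    Finset.sum_nonneg (fun j _ => mul_nonneg (sub_nonneg.mpr (wtX_castSucc_lt_succ 𝓔 j).le)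
      (hD _))
  have h6 := mul_nonneg 𝓔.wt_nonneg (hD 0)
  linarith

end Alg

section Sch4

open Filter

variable (k : Type u) [Field k] (X : Scheme.{u}) [X.Over (Spec (CommRingCat.of k))]
  [IsProper (X ↘ Spec (CommRingCat.of k))]

/-- `W / (W ∩ S) ⊆ E / S` with `E / S` semistable: the comparison of Hilbert polynomials -/
theorem quot_redLE {L : X.Modules} {W E : X.Modules} (ι : W ⟶ E) (hW : Coh.IsCoh W)
    (hE : Coh.IsCoh E) (S : Subobject E) (hS : Coh.IsCoh ((S : Subobject E) : X.Modules))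
    (T : Subobject W) (hT : T = (Subobject.pullback ι).obj S) {e : ℕ}
    (hq : ShStab.IsSemistable k X L (cokernel S.arrow) e) (hL : CohB1.IsAmple L) {K Hh : ℚ[X]}
    (hK : ShStab.IsHilbPoly k X L (cokernel T.arrow) K)
    (hHh : ShStab.IsHilbPoly k X L (cokernel S.arrow) Hh) :
    ∃ N : ℕ, ∀ m : ℕ, N ≤ m →
      K.eval (m : ℚ) ≤ (alpha e K / alpha e Hh) * Hh.eval (m : ℚ) := by
  have hTc := isCoh_pullback k X ι hW hE S hS T hT
  subst hT
  have := Groth.Agent.Lib.Lead.CurveEuler.isNoetherian k X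
  have hc' : Coh.IsCoh (cokernel ((Subobject.pullback ι).obj S).arrow) :=
    Groth.Agent.Lib.helper7.CohKer.isCoh_cokernel hTc hW _
  have aH : 0 < alpha e Hh := alpha_pos_of_isSemistable k X hL hq hHh
  by_cases hz : IsZero (cokernel ((Subobject.pullback ι).obj S).arrow)
  · have hK0 : K = 0 := isHilbPoly_unique k X hK (isHilbPoly_zero_of_isZero k X hz)
    subst hK0
    refine ⟨0, fun m _ => ?_⟩
    simp [alpha]
  · have := mono_cokernelDesc_pullback ι S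
    obtain ⟨N, hN⟩ := redLE_of_mono_of_isSemistable k X hq
      (cokernel.desc ((Subobject.pullback ι).obj S).arrow (ι ≫ cokernel.π S.arrow)
        (pullback_arrow_comp ι S)) hc' hz hK hHh
    refine ⟨N, fun m hm => ?_⟩
    have h := hN m hm
    rw [eval_smul, eval_smul, smul_eq_mul, smul_eq_mul] at h
    rw [div_mul_eq_mul_div, le_div_iff₀ aH]
    linarith

variable {L : X.Modules} (hL : CohB1.IsAmple L) {I : X.IdealSheafData}
  {E : X.Modules} (hE : Coh.IsCoh E) (𝓔 : ParSh.Str E) (h𝓔 : 𝓔.Along I)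
  (hcoh : ∀ j, Coh.IsCoh ((𝓔.pieceX j : Subobject E) : X.Modules)) (d : ℕ)
  (hsupp : topologicalKrullDim ↥(CohB1.support E ∩ (I.support : Set X)) < (d : WithBot ℕ∞))
  {W : X.Modules} (ι : W ⟶ E) (hW : Coh.IsCoh W)
  {Q : ℚ[X]} (hQ : ShStab.IsHilbPoly k X L W Q)

include hL hE hcoh hW hQ in
/-- `par-P₁(W ⊂ E) ≤ Par_W` eventually, when the flag quotients are semistable -/
theorem parPolyOne_le_parPoly_induced
    {H : Fin (𝓔.l + 2) → ℚ[X]}
    (hH : ∀ j, ShStab.IsHilbPoly k X L (cokernel (𝓔.pieceX j).arrow) (H j))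
    (hq : ∀ j : Fin (𝓔.l + 1),
      ShStab.IsSemistable k X L (cokernel (𝓔.pieceX j.succ).arrow) (d - 1))
    {QX QH : Fin (𝓔.l + 2) → ℚ[X]}
    (hQX : ∀ j, ShStab.IsHilbPoly k X L (((𝓔.induced ι).pieceX j : Subobject W) : X.Modules) (QX j))
    (hQH : ∀ j, ShStab.IsHilbPoly k X L (cokernel ((𝓔.induced ι).pieceX j).arrow) (QH j)) :
    ∃ N : ℕ, ∀ m : ℕ, N ≤ m →
      (W4swparbununimod.parPolyOne 𝓔 d Q QH H).eval (m : ℝ) ≤
        (W4swparbununimod.parPoly (𝓔.induced ι) QX).eval (m : ℝ) := by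
  have hA : ∀ j : Fin (𝓔.l + 1), ∃ N : ℕ, ∀ m : ℕ, N ≤ m →
      (QH j.succ).eval (m : ℚ) ≤
        (alpha (d - 1) (QH j.succ) / alpha (d - 1) (H j.succ)) * (H j.succ).eval (m : ℚ) :=
    fun j => quot_redLE k X ι hW hE (𝓔.pieceX j.succ) (hcoh j.succ) _
      (Groth.Agent.Lib.Helper20.ParExt.induced_pieceX 𝓔 ι j.succ) (hq j) hL (hQH j.succ)
      (hH j.succ)
  have hev : ∀ᶠ m : ℕ in atTop, ∀ j : Fin (𝓔.l + 1),
      (QH j.succ).eval (m : ℚ) ≤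
        (alpha (d - 1) (QH j.succ) / alpha (d - 1) (H j.succ)) * (H j.succ).eval (m : ℚ) := by
    rw [Filter.eventually_all]
    intro j
    obtain ⟨N, hN⟩ := hA j
    exact eventually_atTop.mpr ⟨N, hN⟩
  obtain ⟨N, hN⟩ := eventually_atTop.mp hev
  refine ⟨N, fun m hm => ?_⟩
  have hm' := hN m hm
  rw [parPolyOne_eval]
  have hpar : (W4swparbununimod.parPoly (𝓔.induced ι) QX).eval (m : ℝ) =
      (((QX (Fin.last (𝓔.l + 1))).eval (m : ℚ) : ℚ) : ℝ) +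
        ∑ j : Fin (𝓔.l + 1), 𝓔.wt j *
          ((((QX j.castSucc).eval (m : ℚ) : ℚ) : ℝ) - (((QX j.succ).eval (m : ℚ) : ℚ) : ℝ)) :=
    parPoly_eval (𝓔.induced ι) QX m
  rw [hpar]
  have hq' : ∀ j, (((QX j).eval (m : ℚ) : ℚ) : ℝ) =
      ((Q.eval (m : ℚ) : ℚ) : ℝ) - (((QH j).eval (m : ℚ) : ℚ) : ℝ) := by
    intro j
    rw [induced_QH_eq k X hL hE 𝓔 hcoh ι hW hQ hQX hQH j, eval_sub]
    push_cast
    ring
  have h00 : QH 0 = 0 := QH_zero_eq k X (𝓔.induced ι) hQH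
  have h0 : (((QH 0).eval (m : ℚ) : ℚ) : ℝ) = 0 := by
    rw [h00]; simp
  have key := Groth.Agent.Lib.Helper20.ParHilbQuot.tele 𝓔.l 𝓔.wtX
    (fun j => (((QH j).eval (m : ℚ) : ℚ) : ℝ)) ((Q.eval (m : ℚ) : ℚ) : ℝ) h0 𝓔.wtX_last
  have h1 : (((QX (Fin.last (𝓔.l + 1))).eval (m : ℚ) : ℚ) : ℝ) +
        ∑ j : Fin (𝓔.l + 1), 𝓔.wt j *
          ((((QX j.castSucc).eval (m : ℚ) : ℚ) : ℝ) - (((QX j.succ).eval (m : ℚ) : ℚ) : ℝ)) =
      ((Q.eval (m : ℚ) : ℚ) : ℝ) - ∑ j : Fin (𝓔.l + 1),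
        (𝓔.wtX j.succ - 𝓔.wtX j.castSucc) * (((QH j.succ).eval (m : ℚ) : ℚ) : ℝ) := by
    rw [← key, hq' (Fin.last _)]
    congr 1
    refine Finset.sum_congr rfl (fun j _ => ?_)
    rw [hq' j.castSucc, hq' j.succ, 𝓔.wtX_castSucc]
  rw [h1]
  apply sub_le_sub_left
  refine Finset.sum_le_sum (fun j _ => ?_)
  rw [mul_assoc]
  refine mul_le_mul_of_nonneg_left ?_ (sub_nonneg.mpr (wtX_castSucc_lt_succ 𝓔 j).le)
  have := hm' j
  have h2 : (((QH j.succ).eval (m : ℚ) : ℚ) : ℝ) ≤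
      (((alpha (d - 1) (QH j.succ) / alpha (d - 1) (H j.succ)) * (H j.succ).eval (m : ℚ) : ℚ) : ℝ) := by
    exact_mod_cast this
  rw [Rat.cast_mul] at h2
  exact h2

include hL hE h𝓔 hcoh hsupp hW hQ in
/-- **S18533** -/
theorem p1Stable [Mono ι] (hd : 1 ≤ d) (h0 : ¬ IsZero E) (hpure : ShStab.IsPure X E d)
    {P : ℚ[X]} (hP : ShStab.IsHilbPoly k X L E P) {PX : Fin (𝓔.l + 2) → ℚ[X]}
    {H : Fin (𝓔.l + 2) → ℚ[X]}
    (hH : ∀ j, ShStab.IsHilbPoly k X L (cokernel (𝓔.pieceX j).arrow) (H j))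
    (hst : (∀ (W : X.Modules) (ι : W ⟶ E), Mono ι → Coh.IsCoh W → ¬ IsZero W → ¬ IsIso ι →
        ShStab.IsPure X (cokernel ι) d →
        ∀ (Q : ℚ[X]) (QX : Fin (𝓔.l + 2) → ℚ[X]), ShStab.IsHilbPoly k X L W Q →
          (∀ j, ShStab.IsHilbPoly k X L (((𝓔.induced ι).pieceX j : Subobject W) : X.Modules) (QX j)) →
          ∃ M : ℕ, ∀ m : ℕ, M ≤ m →
            (W4swparbununimod.parPoly (𝓔.induced ι) QX).eval (m : ℝ) * (StabCat.alpha d P : ℝ) <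
              (W4swparbununimod.parPoly 𝓔 PX).eval (m : ℝ) * (StabCat.alpha d Q : ℝ)))
    (hq : ∀ j : Fin (𝓔.l + 1),
      ShStab.IsStable k X L (cokernel (𝓔.pieceX j.succ).arrow) (d - 1))
    {QH : Fin (𝓔.l + 2) → ℚ[X]}
    (hQH : ∀ j, ShStab.IsHilbPoly k X L (cokernel ((𝓔.induced ι).pieceX j).arrow) (QH j))
    (hW0 : ¬ IsZero W) (hWp : ¬ IsIso ι) (hWsat : ShStab.IsPure X (cokernel ι) d) :
    ∃ M : ℕ, ∀ m : ℕ, M ≤ m →
      (W4swparbununimod.parPolyOne 𝓔 d Q QH H).eval (m : ℝ) * (StabCat.alpha d P : ℝ) <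
        (W4swparbununimod.parPoly 𝓔 PX).eval (m : ℝ) * (StabCat.alpha d Q : ℝ) := by
  have := Groth.Agent.Lib.Lead.CurveEuler.isNoetherian k X
  have hTc := fun j => induced_coh k X hE 𝓔 hcoh ι hW j
  have hQX : ∀ j, ShStab.IsHilbPoly k X L (((𝓔.induced ι).pieceX j : Subobject W) : X.Modules)
      (Q - QH j) := fun j =>
    isHilbPoly_sub₁ k X hL.1 _
      (Groth.Agent.Lib.helper8.Dev.shortExact_cokernel ((𝓔.induced ι).pieceX j).arrow) (hTc j)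
      (Groth.Agent.Lib.helper7.CohKer.isCoh_cokernel (hTc j) hW _) hQ (hQH j)
  obtain ⟨M₁, hM₁⟩ := hst W ι inferInstance hW hW0 hWp hWsat Q (fun j => Q - QH j) hQ hQX
  obtain ⟨N, hN⟩ := parPolyOne_le_parPoly_induced k X hL hE 𝓔 hcoh d ι hW hQ hH
    (fun j => isSemistable_of_isStable k X (hq j)) hQX hQH
  have aP : 0 < alpha d P := alpha_pos_of_mono_pure k X hL hpure (𝟙 E) hE h0 hP
  have aP' : (0 : ℝ) ≤ ((alpha d P : ℚ) : ℝ) := by exact_mod_cast aP.le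
  refine ⟨max M₁ N, fun m hm => ?_⟩
  have h1 := hM₁ m ((le_max_left _ _).trans hm)
  have h2 := hN m ((le_max_right _ _).trans hm)
  exact lt_of_le_of_lt (mul_le_mul_of_nonneg_right h2 aP') h1

end Sch4

section Abstract2

universe v w

variable {C : Type w} [Category.{v} C] [Abelian C] {W W' E : C} (ι : W ⟶ E) (ι' : W' ⟶ E)
  (jj : W ⟶ W') (hj : jj ≫ ι' = ι) (S : Subobject E)

/-- `W ∩ S ⟶ W' ∩ S` for `W ⊆ W'` -/
noncomputable def pullbackMap :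
    (((Subobject.pullback ι).obj S : Subobject W) : C) ⟶
      (((Subobject.pullback ι').obj S : Subobject W') : C) :=
  (Subobject.isPullback ι' S).lift (Subobject.pullbackπ ι S)
    (((Subobject.pullback ι).obj S).arrow ≫ jj)
    (by rw [Category.assoc, hj]; exact (Subobject.isPullback ι S).w)

theorem pullbackMap_arrow :
    pullbackMap ι ι' jj hj S ≫ ((Subobject.pullback ι').obj S).arrow =
      ((Subobject.pullback ι).obj S).arrow ≫ jj :=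
  (Subobject.isPullback ι' S).lift_snd _ _ _

theorem mono_pullbackMap [Mono jj] : Mono (pullbackMap ι ι' jj hj S) :=
  mono_of_mono_fac (pullbackMap_arrow ι ι' jj hj S)

end Abstract2

section Sch5

open Filter

variable (k : Type u) [Field k] (X : Scheme.{u}) [X.Over (Spec (CommRingCat.of k))]
  [IsProper (X ↘ Spec (CommRingCat.of k))]

/-- a coherent submodule has an eventually smaller Hilbert polynomial -/
theorem eval_le_of_mono {L : X.Modules} (hL : CohB1.IsAmple L) {A B : X.Modules} (φ : A ⟶ B)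
    [Mono φ] (hA : Coh.IsCoh A) (hB : Coh.IsCoh B) {PA PB : ℚ[X]}
    (hPA : ShStab.IsHilbPoly k X L A PA) (hPB : ShStab.IsHilbPoly k X L B PB) :
    ∃ N : ℕ, ∀ m : ℕ, N ≤ m → PA.eval (m : ℚ) ≤ PB.eval (m : ℚ) := by
  have := Groth.Agent.Lib.Lead.CurveEuler.isNoetherian k X
  have hc : Coh.IsCoh (cokernel φ) := Groth.Agent.Lib.helper7.CohKer.isCoh_cokernel hA hB φ
  have h3 := isHilbPoly_sub₃ k X hL.1 _ (Groth.Agent.Lib.helper8.Dev.shortExact_cokernel φ)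
    hA hc hPA hPB
  obtain ⟨N, hN⟩ := evNonneg_of_isHilbPoly k X hL hc h3
  refine ⟨N, fun m hm => ?_⟩
  have := hN m hm
  rw [eval_sub] at this
  linarith

theorem eval_le_pullback {L : X.Modules} (hL : CohB1.IsAmple L) {W W' E : X.Modules}
    (ι : W ⟶ E) (ι' : W' ⟶ E) (jj : W ⟶ W') [Mono jj] (hj : jj ≫ ι' = ι)
    (hW : Coh.IsCoh W) (hW' : Coh.IsCoh W') (hE : Coh.IsCoh E)
    (S : Subobject E) (hS : Coh.IsCoh ((S : Subobject E) : X.Modules))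
    (T : Subobject W) (hT : T = (Subobject.pullback ι).obj S)
    (T' : Subobject W') (hT' : T' = (Subobject.pullback ι').obj S) {PA PB : ℚ[X]}
    (hPA : ShStab.IsHilbPoly k X L ((T : Subobject W) : X.Modules) PA)
    (hPB : ShStab.IsHilbPoly k X L ((T' : Subobject W') : X.Modules) PB) :
    ∃ N : ℕ, ∀ m : ℕ, N ≤ m → PA.eval (m : ℚ) ≤ PB.eval (m : ℚ) := by
  have hTc := isCoh_pullback k X ι hW hE S hS T hT
  have hTc' := isCoh_pullback k X ι' hW' hE S hS T' hT'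
  subst hT hT'
  have := mono_pullbackMap ι ι' jj hj S
  exact eval_le_of_mono k X hL (pullbackMap ι ι' jj hj S) hTc hTc' hPA hPB

variable {L : X.Modules} (hL : CohB1.IsAmple L) {I : X.IdealSheafData}
  {E : X.Modules} (hE : Coh.IsCoh E) (𝓔 : ParSh.Str E) (h𝓔 : 𝓔.Along I)
  (hcoh : ∀ j, Coh.IsCoh ((𝓔.pieceX j : Subobject E) : X.Modules)) (d : ℕ)
  (hsupp : topologicalKrullDim ↥(CohB1.support E ∩ (I.support : Set X)) < (d : WithBot ℕ∞))
  {W : X.Modules} (ι : W ⟶ E) (hW : Coh.IsCoh W)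
  {Q : ℚ[X]} (hQ : ShStab.IsHilbPoly k X L W Q)

include hL hE h𝓔 hcoh hsupp hW hQ in
/-- **S18531** -/
theorem p1Semistable [Mono ι] (hd : 1 ≤ d) (h0 : ¬ IsZero E) (hpure : ShStab.IsPure X E d)
    {P : ℚ[X]} (hP : ShStab.IsHilbPoly k X L E P) {PX : Fin (𝓔.l + 2) → ℚ[X]}
    {H : Fin (𝓔.l + 2) → ℚ[X]}
    (hH : ∀ j, ShStab.IsHilbPoly k X L (cokernel (𝓔.pieceX j).arrow) (H j))
    (hss : (∀ (W : X.Modules) (ι : W ⟶ E), Mono ι → Coh.IsCoh W → ¬ IsZero W →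
        ShStab.IsPure X (cokernel ι) d →
        ∀ (Q : ℚ[X]) (QX : Fin (𝓔.l + 2) → ℚ[X]), ShStab.IsHilbPoly k X L W Q →
          (∀ j, ShStab.IsHilbPoly k X L (((𝓔.induced ι).pieceX j : Subobject W) : X.Modules) (QX j)) →
          ∃ M : ℕ, ∀ m : ℕ, M ≤ m →
            (W4swparbununimod.parPoly (𝓔.induced ι) QX).eval (m : ℝ) * (StabCat.alpha d P : ℝ) ≤
              (W4swparbununimod.parPoly 𝓔 PX).eval (m : ℝ) * (StabCat.alpha d Q : ℝ)))
    (hq : ∀ j : Fin (𝓔.l + 1),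
      ShStab.IsSemistable k X L (cokernel (𝓔.pieceX j.succ).arrow) (d - 1))
    {QH : Fin (𝓔.l + 2) → ℚ[X]}
    (hQH : ∀ j, ShStab.IsHilbPoly k X L (cokernel ((𝓔.induced ι).pieceX j).arrow) (QH j))
    (hW0 : ¬ IsZero W) :
    ∃ M : ℕ, ∀ m : ℕ, M ≤ m →
      (W4swparbununimod.parPolyOne 𝓔 d Q QH H).eval (m : ℝ) * (StabCat.alpha d P : ℝ) ≤
        (W4swparbununimod.parPoly 𝓔 PX).eval (m : ℝ) * (StabCat.alpha d Q : ℝ) := by
  have := Groth.Agent.Lib.Lead.CurveEuler.isNoetherian k X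
  obtain ⟨W', ι', jj, T, q, w, hι', hW'c, hjι, hTc, hTd, hSE, hsat⟩ :=
    exists_saturation k X hE h0 hpure ι hW
  haveI := hι'
  haveI : Mono jj := hSE.mono_f
  have hW'0 : ¬ IsZero W' := fun hz => hW0 (isZero_of_mono_of_isZero jj hz)
  obtain ⟨Q', hQ'⟩ := exists_isHilbPoly_of_mono_pure k X hL.1 hpure ι' hW'c
  have hTcW := fun j => induced_coh k X hE 𝓔 hcoh ι hW j
  have hTcW' := fun j => induced_coh k X hE 𝓔 hcoh ι' hW'c j
  have hQX : ∀ j, ShStab.IsHilbPoly k X L (((𝓔.induced ι).pieceX j : Subobject W) : X.Modules)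
      (Q - QH j) := fun j =>
    isHilbPoly_sub₁ k X hL.1 _
      (Groth.Agent.Lib.helper8.Dev.shortExact_cokernel ((𝓔.induced ι).pieceX j).arrow) (hTcW j)
      (Groth.Agent.Lib.helper7.CohKer.isCoh_cokernel (hTcW j) hW _) hQ (hQH j)
  have hex : ∀ j, ∃ R : ℚ[X], ShStab.IsHilbPoly k X L
      (((𝓔.induced ι').pieceX j : Subobject W') : X.Modules) R := fun j =>
    exists_isHilbPoly_of_mono_pure k X hL.1 hpure (((𝓔.induced ι').pieceX j).arrow ≫ ι')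
      (hTcW' j)
  choose QX' hQX' using hex
  obtain ⟨M₁, hM₁⟩ := hss W' ι' inferInstance hW'c hW'0 hsat Q' QX' hQ' hQX'
  obtain ⟨N, hN⟩ := parPolyOne_le_parPoly_induced k X hL hE 𝓔 hcoh d ι hW hQ hH hq hQX hQH
  have aQ : 0 < alpha d Q := alpha_pos_of_mono_pure k X hL hpure ι hW hW0 hQ
  have aP : 0 < alpha d P := alpha_pos_of_mono_pure k X hL hpure (𝟙 E) hE h0 hP
  have aP' : (0 : ℝ) ≤ ((alpha d P : ℚ) : ℝ) := by exact_mod_cast aP.le
  have halpha : alpha d Q' = alpha d Q :=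
    (redLE_of_small_quotient k hL (ShortComplex.mk jj q w) hSE hW hTc hTd hQ hQ' aQ.le).2.1
  have hD : ∀ j : Fin (𝓔.l + 2), ∃ N : ℕ, ∀ m : ℕ, N ≤ m →
      (Q - QH j).eval (m : ℚ) ≤ (QX' j).eval (m : ℚ) := fun j =>
    eval_le_pullback k X hL ι ι' jj hjι hW hW'c hE (𝓔.pieceX j) (hcoh j) _
      (Groth.Agent.Lib.Helper20.ParExt.induced_pieceX 𝓔 ι j) _
      (Groth.Agent.Lib.Helper20.ParExt.induced_pieceX 𝓔 ι' j) (hQX j) (hQX' j)
  have hev : ∀ᶠ m : ℕ in atTop, ∀ j : Fin (𝓔.l + 2),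
      (Q - QH j).eval (m : ℚ) ≤ (QX' j).eval (m : ℚ) := by
    rw [Filter.eventually_all]
    intro j
    obtain ⟨N, hN⟩ := hD j
    exact eventually_atTop.mpr ⟨N, hN⟩
  obtain ⟨N₂, hN₂⟩ := eventually_atTop.mp hev
  refine ⟨max M₁ (max N N₂), fun m hm => ?_⟩
  have h1 := hM₁ m ((le_max_left _ _).trans hm)
  have h2 := hN m (((le_max_left _ _).trans (le_max_right _ _)).trans hm)
  have h3 := hN₂ m (((le_max_right _ _).trans (le_max_right _ _)).trans hm)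
  have hpar : (W4swparbununimod.parPoly (𝓔.induced ι) (fun j => Q - QH j)).eval (m : ℝ) =
      ((((Q - QH (Fin.last (𝓔.l + 1)))).eval (m : ℚ) : ℚ) : ℝ) +
        ∑ j : Fin (𝓔.l + 1), 𝓔.wt j *
          (((((Q - QH j.castSucc)).eval (m : ℚ) : ℚ) : ℝ) -
            ((((Q - QH j.succ)).eval (m : ℚ) : ℚ) : ℝ)) :=
    parPoly_eval (𝓔.induced ι) (fun j => Q - QH j) m
  have hpar' : (W4swparbununimod.parPoly (𝓔.induced ι') QX').eval (m : ℝ) =
      (((QX' (Fin.last (𝓔.l + 1))).eval (m : ℚ) : ℚ) : ℝ) +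
        ∑ j : Fin (𝓔.l + 1), 𝓔.wt j *
          ((((QX' j.castSucc).eval (m : ℚ) : ℚ) : ℝ) - (((QX' j.succ).eval (m : ℚ) : ℚ) : ℝ)) :=
    parPoly_eval (𝓔.induced ι') QX' m
  have hDnn := weighted_nonneg 𝓔
    (fun j => (((QX' j).eval (m : ℚ) : ℚ) : ℝ) - ((((Q - QH j)).eval (m : ℚ) : ℚ) : ℝ))
    (fun j => by
      have := h3 j
      have h4 : ((((Q - QH j)).eval (m : ℚ) : ℚ) : ℝ) ≤ (((QX' j).eval (m : ℚ) : ℚ) : ℝ) := by
        exact_mod_cast this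
      linarith)
  have hle : (W4swparbununimod.parPoly (𝓔.induced ι) (fun j => Q - QH j)).eval (m : ℝ) ≤
      (W4swparbununimod.parPoly (𝓔.induced ι') QX').eval (m : ℝ) := by
    rw [hpar, hpar']
    have hsum : ∑ j : Fin (𝓔.l + 1), 𝓔.wt j *
          ((((QX' j.castSucc).eval (m : ℚ) : ℚ) : ℝ) - (((QX' j.succ).eval (m : ℚ) : ℚ) : ℝ)) -
        ∑ j : Fin (𝓔.l + 1), 𝓔.wt j *
          (((((Q - QH j.castSucc)).eval (m : ℚ) : ℚ) : ℝ) -
            ((((Q - QH j.succ)).eval (m : ℚ) : ℚ) : ℝ)) =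
        ∑ j : Fin (𝓔.l + 1), 𝓔.wt j *
          (((((QX' j.castSucc).eval (m : ℚ) : ℚ) : ℝ) -
              ((((Q - QH j.castSucc)).eval (m : ℚ) : ℚ) : ℝ)) -
            ((((QX' j.succ).eval (m : ℚ) : ℚ) : ℝ) -
              ((((Q - QH j.succ)).eval (m : ℚ) : ℚ) : ℝ))) := by
      rw [← Finset.sum_sub_distrib]
      exact Finset.sum_congr rfl (fun j _ => by ring)
    linarith
  have hQ'cast : ((alpha d Q' : ℚ) : ℝ) = ((alpha d Q : ℚ) : ℝ) := by rw [halpha]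
  calc (W4swparbununimod.parPolyOne 𝓔 d Q QH H).eval (m : ℝ) * ((alpha d P : ℚ) : ℝ)
      ≤ (W4swparbununimod.parPoly (𝓔.induced ι') QX').eval (m : ℝ) * ((alpha d P : ℚ) : ℝ) :=
        mul_le_mul_of_nonneg_right (h2.trans hle) aP'
    _ ≤ (W4swparbununimod.parPoly 𝓔 PX).eval (m : ℝ) * ((alpha d Q' : ℚ) : ℝ) := h1
    _ = _ := by rw [hQ'cast]

end Sch5

end Groth.Agent.Lib.Helper20.ParHilbPoly
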