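import Mathlib
import Groth.Agent.Lib.Helper20.ParHilbPoly4
import Groth.Agent.Lib.Lead.HilbPos23

/-!
# Kernel and image of a parabolic homomorphism between `p₀`-semistable parabolic sheaves (helper20)
-/

set_option autoImplicit false
universe u

open CategoryTheory CategoryTheory.Limits AlgebraicGeometry Polynomial Opposite TopologicalSpace

namespace Groth.Agent.Lib.Helper20.ParHilbPoly

open Groth.Agent.Lib.helper11.IsoLocus Groth.Agent.Lib.Lead.HilbPos Scheme.Modules StabCat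

section Alg

universe v w

variable {𝒞 : Type w} [Category.{v} 𝒞] {E F : 𝒞}

/-- Abel summation, as an identity -/
theorem weighted_eq (𝓔 : ParSh.Str E) (D : Fin (𝓔.l + 2) → ℝ) :
    D (Fin.last _) + ∑ j : Fin (𝓔.l + 1), 𝓔.wt j * (D j.castSucc - D j.succ) =
      𝓔.wt 0 * D 0 + ∑ j : Fin (𝓔.l + 1), (𝓔.wtX j.succ - 𝓔.wtX j.castSucc) * D j.succ := by
  have key := Groth.Agent.Lib.Helper20.ParHilbQuot.tele 𝓔.l 𝓔.wtX (fun j => D 0 - D j) (D 0)
    (sub_self _) 𝓔.wtX_last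
  have h1 : (D 0 - (D 0 - D (Fin.last _))) + ∑ j : Fin (𝓔.l + 1), 𝓔.wtX j.castSucc *
        ((D 0 - (D 0 - D j.castSucc)) - (D 0 - (D 0 - D j.succ))) =
      D (Fin.last _) + ∑ j : Fin (𝓔.l + 1), 𝓔.wt j * (D j.castSucc - D j.succ) := by
    congr 1
    · ring
    · refine Finset.sum_congr rfl (fun j _ => ?_)
      rw [𝓔.wtX_castSucc]; ring
  rw [← h1, key]
  have h2 : ∑ j : Fin (𝓔.l + 1), (𝓔.wtX j.succ - 𝓔.wtX j.castSucc) * (D 0 - D j.succ) =
      (∑ j : Fin (𝓔.l + 1), (𝓔.wtX j.succ - 𝓔.wtX j.castSucc)) * D 0 -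
        ∑ j : Fin (𝓔.l + 1), (𝓔.wtX j.succ - 𝓔.wtX j.castSucc) * D j.succ := by
    rw [Finset.sum_mul, ← Finset.sum_sub_distrib]
    exact Finset.sum_congr rfl (fun j _ => by ring)
  have h3 : ∑ j : Fin (𝓔.l + 1), (𝓔.wtX j.succ - 𝓔.wtX j.castSucc) = 1 - 𝓔.wt 0 := by
    have := sum_castSucc_sub_succ 𝓔.l 𝓔.wtX
    have h0 : 𝓔.wtX 0 = 𝓔.wt 0 := by
      have : (0 : Fin (𝓔.l + 2)) = (0 : Fin (𝓔.l + 1)).castSucc := rfl
      rw [this, 𝓔.wtX_castSucc]
    rw [𝓔.wtX_last, h0] at this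
    have h4 : ∑ j : Fin (𝓔.l + 1), (𝓔.wtX j.succ - 𝓔.wtX j.castSucc) =
        - ∑ j : Fin (𝓔.l + 1), (𝓔.wtX j.castSucc - 𝓔.wtX j.succ) := by
      rw [← Finset.sum_neg_distrib]
      exact Finset.sum_congr rfl (fun j _ => by ring)
    rw [h4, this]; ring
  rw [h2, h3]
  ring

/-- if the weighted combination of nonnegative numbers vanishes, so do all the terms of positive
index (and the term of index `0` when the smallest weight is positive) -/
theorem eq_zero_of_weighted_eq_zero (𝓔 : ParSh.Str E) (D : Fin (𝓔.l + 2) → ℝ)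
    (hD : ∀ j, 0 ≤ D j)
    (h : D (Fin.last _) + ∑ j : Fin (𝓔.l + 1), 𝓔.wt j * (D j.castSucc - D j.succ) = 0) :
    (∀ j : Fin (𝓔.l + 1), D j.succ = 0) ∧ (0 < 𝓔.wt 0 → D 0 = 0) := by
  rw [weighted_eq] at h
  have h5 : 0 ≤ ∑ j : Fin (𝓔.l + 1), (𝓔.wtX j.succ - 𝓔.wtX j.castSucc) * D j.succ :=
    Finset.sum_nonneg (fun j _ => mul_nonneg (sub_nonneg.mpr (wtX_castSucc_lt_succ 𝓔 j).le)
      (hD _))
  have h6 := mul_nonneg 𝓔.wt_nonneg (hD 0)
  have h7 : ∑ j : Fin (𝓔.l + 1), (𝓔.wtX j.succ - 𝓔.wtX j.castSucc) * D j.succ = 0 := by linarith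
  have h8 : 𝓔.wt 0 * D 0 = 0 := by linarith
  constructor
  · intro j
    have := (Finset.sum_eq_zero_iff_of_nonneg (fun j _ => mul_nonneg
      (sub_nonneg.mpr (wtX_castSucc_lt_succ 𝓔 j).le) (hD _))).mp h7 j (Finset.mem_univ _)
    rcases mul_eq_zero.mp this with h9 | h9
    · have := wtX_castSucc_lt_succ 𝓔 j
      linarith
    · exact h9
  · intro hw
    rcases mul_eq_zero.mp h8 with h9 | h9
    · linarith
    · exact h9

/-- equal sets of weights: equal lengths and equal weights -/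
theorem str_index_eq (𝓔 : ParSh.Str E) (𝓕 : ParSh.Str F)
    (hw : Set.range 𝓕.wt = Set.range 𝓔.wt) :
    ∃ h : 𝓕.l = 𝓔.l, ∀ i : Fin (𝓕.l + 1), 𝓕.wt i = 𝓔.wt (Fin.cast (congrArg (· + 1) h) i) := by
  have h1 : Nat.card (Set.range 𝓕.wt) = 𝓕.l + 1 := by
    rw [Nat.card_congr (Equiv.ofInjective _ 𝓕.wt_strictMono.injective).symm, Nat.card_fin]
  have h2 : Nat.card (Set.range 𝓔.wt) = 𝓔.l + 1 := by
    rw [Nat.card_congr (Equiv.ofInjective _ 𝓔.wt_strictMono.injective).symm, Nat.card_fin]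
  have hl : 𝓕.l = 𝓔.l := by
    rw [hw, h2] at h1
    omega
  refine ⟨hl, ?_⟩
  have hg : StrictMono (fun i : Fin (𝓕.l + 1) => 𝓔.wt (Fin.cast (congrArg (· + 1) hl) i)) :=
    𝓔.wt_strictMono.comp (Fin.cast_strictMono _)
  have hr : Set.range 𝓕.wt =
      Set.range (fun i : Fin (𝓕.l + 1) => 𝓔.wt (Fin.cast (congrArg (· + 1) hl) i)) := by
    rw [hw]
    ext x
    constructor
    · rintro ⟨i, rfl⟩
      exact ⟨Fin.cast (congrArg (· + 1) hl.symm) i, by simp⟩
    · rintro ⟨i, rfl⟩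
      exact ⟨_, rfl⟩
  exact fun i => congrFun ((𝓕.wt_strictMono.range_inj hg).mp hr) i

/-- real polynomials agreeing at all large natural numbers are equal -/
theorem poly_eq_of_eval_eq_atTop (A B : ℝ[X]) (N : ℕ)
    (h : ∀ m : ℕ, N ≤ m → A.eval (m : ℝ) = B.eval (m : ℝ)) : A = B := by
  apply Polynomial.eq_of_infinite_eval_eq
  have hinf : (Set.range (fun m : ℕ => ((m + N : ℕ) : ℝ))).Infinite :=
    Set.infinite_range_of_injective (fun a b hab => by
      have : (a + N : ℕ) = b + N := by exact_mod_cast hab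
      omega)
  refine hinf.mono ?_
  rintro _ ⟨m, rfl⟩
  exact h (m + N) (Nat.le_add_left _ _)

end Alg

section Abstract3

universe v w

variable {C : Type w} [Category.{v} C] [Abelian C] {K E V F : C}

/-- `q(S) ⊆ u⁻¹(S')` as soon as `u ∘ q` maps `S` into `S'` -/
theorem image_le_pullback (q : E ⟶ V) (u : V ⟶ F) (S : Subobject E) (S' : Subobject F)
    (h : S'.Factors (S.arrow ≫ q ≫ u)) :
    imageSubobject (S.arrow ≫ q) ≤ (Subobject.pullback u).obj S' :=
  imageSubobject_le _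
    ((Subobject.isPullback u S').lift (S'.factorThru _ h) (S.arrow ≫ q)
      (by rw [Subobject.factorThru_arrow, Category.assoc]))
    ((Subobject.isPullback u S').lift_snd _ _ _)

/-- `0 → K → E → V → 0` from `0 → K → E → F` and the epi-mono factorisation of `E → F` -/
theorem shortExact_of_exact_of_fac (j : K ⟶ E) [Mono j] (f : E ⟶ F) (w : j ≫ f = 0)
    (hex : (ShortComplex.mk j f w).Exact) (q : E ⟶ V) [Epi q] (u : V ⟶ F) [Mono u]
    (hqu : q ≫ u = f) :
    ∃ w' : j ≫ q = 0, (ShortComplex.mk j q w').ShortExact := by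
  have w' : j ≫ q = 0 := by
    rw [← cancel_mono u, Category.assoc, hqu, w, Limits.zero_comp]
  refine ⟨w', ?_⟩
  have hk : IsLimit (KernelFork.ofι j w) := hex.fIsKernel
  have hk' : IsLimit (KernelFork.ofι j w') := isKernelOfComp u f hk w' hqu
  exact
    { exact := ShortComplex.exact_of_f_is_kernel _ hk'
      mono_f := inferInstanceAs (Mono j)
      epi_g := inferInstanceAs (Epi q) }

end Abstract3

section Str2

variable {X : Scheme.{u}} {E F V : X.Modules}

/-- a structure on `F` with the length and the weights of `𝓔` -/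
noncomputable def mkStr (𝓔 : ParSh.Str E) (pieceF : Fin (𝓔.l + 1) → Subobject F)
    (botF : Subobject F) (pz : pieceF 0 = ⊤) (pa : Antitone pieceF)
    (bl : ∀ j, botF ≤ pieceF j) : ParSh.Str F where
  l := 𝓔.l
  piece := pieceF
  bot := botF
  wt := 𝓔.wt
  piece_zero := pz
  piece_anti := pa
  bot_le := bl
  wt_strictMono := 𝓔.wt_strictMono
  wt_nonneg := 𝓔.wt_nonneg
  wt_lt_one := 𝓔.wt_lt_one

variable (𝓔 : ParSh.Str E) (pieceF : Fin (𝓔.l + 1) → Subobject F) (botF : Subobject F)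
  (pz : pieceF 0 = ⊤) (pa : Antitone pieceF) (bl : ∀ j, botF ≤ pieceF j)

/-- a parabolic homomorphism between structures with the same weights maps pieces to pieces -/
theorem factors_pieceX_of_isParHom (f : E ⟶ F)
    (hf : ParSh.IsParHom 𝓔 (mkStr 𝓔 pieceF botF pz pa bl) f) (j : Fin (𝓔.l + 2)) :
    ((mkStr 𝓔 pieceF botF pz pa bl).pieceX j).Factors ((𝓔.pieceX j).arrow ≫ f) := by
  induction j using Fin.lastCases with
  | last =>
    have h := hf 1 zero_le_one le_rfl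
    rw [𝓔.at_eq_bot (fun j => wt_lt_one' 𝓔 j),
      (mkStr 𝓔 pieceF botF pz pa bl).at_eq_bot (fun j => wt_lt_one' 𝓔 j)] at h
    rw [𝓔.pieceX_last]
    exact ((mkStr 𝓔 pieceF botF pz pa bl).pieceX_last).symm ▸ h
  | cast i =>
    have h := hf (𝓔.wt i) (wt_nonneg' 𝓔 i) (wt_lt_one' 𝓔 i).le
    rw [𝓔.at_eq_piece i le_rfl (fun j' hj' => 𝓔.wt_strictMono hj'),
      (mkStr 𝓔 pieceF botF pz pa bl).at_eq_piece (a := 𝓔.wt i) i le_rfl
        (fun j' hj' => 𝓔.wt_strictMono hj')] at h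
    rw [𝓔.pieceX_castSucc]
    exact ((mkStr 𝓔 pieceF botF pz pa bl).pieceX_castSucc i).symm ▸ h

theorem coinduced_le_induced (f : E ⟶ F)
    (hf : ParSh.IsParHom 𝓔 (mkStr 𝓔 pieceF botF pz pa bl) f) (q : E ⟶ V) [Epi q] (u : V ⟶ F)
    (hqu : q ≫ u = f) (j : Fin (𝓔.l + 2)) :
    (𝓔.coinduced q).pieceX j ≤ ((mkStr 𝓔 pieceF botF pz pa bl).induced u).pieceX j := by
  rw [Groth.Agent.Lib.Helper20.ParExt.coinduced_pieceX]
  have h2 : ((mkStr 𝓔 pieceF botF pz pa bl).induced u).pieceX j =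
      (Subobject.pullback u).obj ((mkStr 𝓔 pieceF botF pz pa bl).pieceX j) :=
    Groth.Agent.Lib.Helper20.ParExt.induced_pieceX (mkStr 𝓔 pieceF botF pz pa bl) u j
  rw [h2]
  refine image_le_pullback q u _ _ ?_
  rw [hqu]
  exact factors_pieceX_of_isParHom 𝓔 pieceF botF pz pa bl f hf j

end Str2

section Ev

universe v w

variable {𝒞 : Type w} [Category.{v} 𝒞] {E : 𝒞}

/-- the weighted combination attached to the weights of `𝓔` -/
noncomputable def ev (𝓔 : ParSh.Str E) (x : Fin (𝓔.l + 2) → ℝ) : ℝ :=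
  x (Fin.last _) + ∑ j : Fin (𝓔.l + 1), 𝓔.wt j * (x j.castSucc - x j.succ)

theorem ev_sub (𝓔 : ParSh.Str E) (x y : Fin (𝓔.l + 2) → ℝ) :
    ev 𝓔 (fun j => x j - y j) = ev 𝓔 x - ev 𝓔 y := by
  unfold ev
  rw [add_sub_add_comm, ← Finset.sum_sub_distrib]
  congr 1
  exact Finset.sum_congr rfl (fun j _ => by ring)

theorem ev_nonneg (𝓔 : ParSh.Str E) (x : Fin (𝓔.l + 2) → ℝ) (hx : ∀ j, 0 ≤ x j) :
    0 ≤ ev 𝓔 x := weighted_nonneg 𝓔 x hx

theorem ev_eq_zero (𝓔 : ParSh.Str E) (x : Fin (𝓔.l + 2) → ℝ) (hx : ∀ j, 0 ≤ x j)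
    (h : ev 𝓔 x = 0) : (∀ j : Fin (𝓔.l + 1), x j.succ = 0) ∧ (0 < 𝓔.wt 0 → x 0 = 0) :=
  eq_zero_of_weighted_eq_zero 𝓔 x hx h

theorem parPoly_eval_ev (𝓔 : ParSh.Str E) (PX : Fin (𝓔.l + 2) → ℚ[X]) (m : ℕ) :
    (W4swparbununimod.parPoly 𝓔 PX).eval (m : ℝ) =
      ev 𝓔 (fun j => (((PX j).eval (m : ℚ) : ℚ) : ℝ)) := parPoly_eval 𝓔 PX m

/-- rational polynomials agreeing at all large natural numbers are equal -/
theorem ratPoly_eq_of_eval_eq_atTop (A B : ℚ[X]) (N : ℕ)
    (h : ∀ m : ℕ, N ≤ m → A.eval (m : ℚ) = B.eval (m : ℚ)) : A = B := by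
  apply Polynomial.eq_of_infinite_eval_eq
  have hinf : (Set.range (fun m : ℕ => ((m + N : ℕ) : ℚ))).Infinite :=
    Set.infinite_range_of_injective (fun a b hab => by
      have : (a + N : ℕ) = b + N := by exact_mod_cast hab
      omega)
  refine hinf.mono ?_
  rintro _ ⟨m, rfl⟩
  exact h (m + N) (Nat.le_add_left _ _)

end Ev

section Sch6

variable (k : Type u) [Field k] (X : Scheme.{u}) [X.Over (Spec (CommRingCat.of k))]
  [IsProper (X ↘ Spec (CommRingCat.of k))]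

include k in
theorem isCoh_imageSubobject {E V : X.Modules} (q : E ⟶ V) (hV : Coh.IsCoh V)
    (S : Subobject E) (hS : Coh.IsCoh ((S : Subobject E) : X.Modules))
    (T : Subobject V) (hT : T = imageSubobject (S.arrow ≫ q)) :
    Coh.IsCoh ((T : Subobject V) : X.Modules) := by
  subst hT
  have := Groth.Agent.Lib.Lead.CurveEuler.isNoetherian k X
  exact Groth.Agent.Lib.helper7.CohKer.isCoh_of_iso
    ((Abelian.imageIsoImage (S.arrow ≫ q)).trans (imageSubobjectIso (S.arrow ≫ q)).symm)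
    (isCoh_image k X hS hV (S.arrow ≫ q))

/-- the Hilbert polynomial of `q(S)` in `0 → K → E → V → 0` -/
theorem isHilbPoly_imageSubobject {L : X.Modules} (hL : PicF.IsInvertible L)
    {K E V : X.Modules} (j : K ⟶ E) (q : E ⟶ V) (w' : j ≫ q = 0)
    (hSE : (ShortComplex.mk j q w').ShortExact) (hK : Coh.IsCoh K) (hE : Coh.IsCoh E)
    (hV : Coh.IsCoh V)
    (S : Subobject E) (hS : Coh.IsCoh ((S : Subobject E) : X.Modules))
    (T : Subobject K) (hT : T = (Subobject.pullback j).obj S)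
    (T' : Subobject V) (hT' : T' = imageSubobject (S.arrow ≫ q)) {PS PT : ℚ[X]}
    (hPS : ShStab.IsHilbPoly k X L ((S : Subobject E) : X.Modules) PS)
    (hPT : ShStab.IsHilbPoly k X L ((T : Subobject K) : X.Modules) PT) :
    ShStab.IsHilbPoly k X L ((T' : Subobject V) : X.Modules) (PS - PT) := by
  have hTc := isCoh_pullback k X j hK hE S hS T hT
  have hTc' := isCoh_imageSubobject k X q hV S hS T' hT'
  subst hT hT'
  exact isHilbPoly_sub₃ k X hL _
    (Groth.Agent.Lib.Helper20.ParExt.shortExact_pullback_image j q w' hSE S) hTc hTc' hPT hPS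

end Sch6

section Core

open Filter

variable (k : Type u) [Field k] (X : Scheme.{u}) [X.Over (Spec (CommRingCat.of k))]
  [IsProper (X ↘ Spec (CommRingCat.of k))]

/-- subobjects of a zero object are equal -/
theorem subobject_eq_of_isZero {V : X.Modules} (hz : IsZero V) (A B : Subobject V) : A = B :=
  le_antisymm (Subobject.le_of_comm (hz.of_mono A.arrow |>.to_ _) (hz.eq_of_tgt _ _))
    (Subobject.le_of_comm (hz.of_mono B.arrow |>.to_ _) (hz.eq_of_tgt _ _))

set_option maxHeartbeats 1600000 in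
theorem core {L : X.Modules} (hL : CohB1.IsAmple L) (d : ℕ)
    {E F : X.Modules} (hE : Coh.IsCoh E) (hF : Coh.IsCoh F) (hE0 : ¬ IsZero E)
    (hF0 : ¬ IsZero F)
    (hEp : ShStab.IsPure X E d) (hFp : ShStab.IsPure X F d)
    (𝓔 : ParSh.Str E) (pieceF : Fin (𝓔.l + 1) → Subobject F) (botF : Subobject F)
    (pz : pieceF 0 = ⊤) (pa : Antitone pieceF) (bl : ∀ j, botF ≤ pieceF j)
    (hcE : ∀ j, Coh.IsCoh ((𝓔.pieceX j : Subobject E) : X.Modules))
    (hcF : ∀ j, Coh.IsCoh (((mkStr 𝓔 pieceF botF pz pa bl).pieceX j : Subobject F) : X.Modules))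
    (hw0 : 0 < 𝓔.wt 0)
    (P R : ℚ[X]) (hP : ShStab.IsHilbPoly k X L E P) (hR : ShStab.IsHilbPoly k X L F R)
    (PX : Fin (𝓔.l + 2) → ℚ[X])
    (hPX : ∀ j, ShStab.IsHilbPoly k X L ((𝓔.pieceX j : Subobject E) : X.Modules) (PX j))
    (RX : Fin (𝓔.l + 2) → ℚ[X])
    (hRX : ∀ j, ShStab.IsHilbPoly k X L (((mkStr 𝓔 pieceF botF pz pa bl).pieceX j : Subobject F) : X.Modules) (RX j))
    (hssE : (∀ (W : X.Modules) (ι : W ⟶ E), Mono ι → Coh.IsCoh W → ¬ IsZero W →
        ShStab.IsPure X (cokernel ι) d →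
        ∀ (Q : ℚ[X]) (QX : Fin (𝓔.l + 2) → ℚ[X]), ShStab.IsHilbPoly k X L W Q →
          (∀ j, ShStab.IsHilbPoly k X L (((𝓔.induced ι).pieceX j : Subobject W) : X.Modules) (QX j)) →
          ∃ M : ℕ, ∀ m : ℕ, M ≤ m →
            (W4swparbununimod.parPoly (𝓔.induced ι) QX).eval (m : ℝ) * (StabCat.alpha d P : ℝ) ≤
              (W4swparbununimod.parPoly 𝓔 PX).eval (m : ℝ) * (StabCat.alpha d Q : ℝ)))
    (hssF : (∀ (W : X.Modules) (ι : W ⟶ F), Mono ι → Coh.IsCoh W → ¬ IsZero W →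
        ShStab.IsPure X (cokernel ι) d →
        ∀ (Q : ℚ[X]) (QX : Fin (𝓔.l + 2) → ℚ[X]), ShStab.IsHilbPoly k X L W Q →
          (∀ j, ShStab.IsHilbPoly k X L ((((mkStr 𝓔 pieceF botF pz pa bl).induced ι).pieceX j : Subobject W) : X.Modules) (QX j)) →
          ∃ M : ℕ, ∀ m : ℕ, M ≤ m →
            (W4swparbununimod.parPoly ((mkStr 𝓔 pieceF botF pz pa bl).induced ι) QX).eval (m : ℝ) * (StabCat.alpha d R : ℝ) ≤
              (W4swparbununimod.parPoly (mkStr 𝓔 pieceF botF pz pa bl) RX).eval (m : ℝ) * (StabCat.alpha d Q : ℝ)))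
    (hred : W4swparbununimod.parPoly 𝓔 PX * Polynomial.C (StabCat.alpha d R : ℝ) =
      W4swparbununimod.parPoly (mkStr 𝓔 pieceF botF pz pa bl) RX * Polynomial.C (StabCat.alpha d P : ℝ))
    (f : E ⟶ F) (hf : ParSh.IsParHom 𝓔 (mkStr 𝓔 pieceF botF pz pa bl) f)
    {K V : X.Modules} (j : K ⟶ E) [Mono j] (w : j ≫ f = 0)
    (hex : (ShortComplex.mk j f w).Exact)
    (q : E ⟶ V) [Epi q] (u : V ⟶ F) [Mono u] (hqu : q ≫ u = f) :
    (∀ (QK : ℚ[X]) (QKX : Fin (𝓔.l + 2) → ℚ[X]), ShStab.IsHilbPoly k X L K QK →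
        (∀ j', ShStab.IsHilbPoly k X L (((𝓔.induced j).pieceX j' : Subobject K) : X.Modules) (QKX j')) →
        W4swparbununimod.parPoly (𝓔.induced j) QKX * Polynomial.C (StabCat.alpha d P : ℝ) =
          W4swparbununimod.parPoly 𝓔 PX * Polynomial.C (StabCat.alpha d QK : ℝ)) ∧
    ShStab.IsPure X (cokernel u) d ∧
    (∀ a : ℝ, 0 ≤ a → a ≤ 1 → (𝓔.coinduced q).at a = ((mkStr 𝓔 pieceF botF pz pa bl).induced u).at a) := by
  have := Groth.Agent.Lib.Lead.CurveEuler.isNoetherian k X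
  obtain ⟨w', hSE⟩ := shortExact_of_exact_of_fac j f w hex q u hqu
  -- coherence of `K` and `V`
  have hK : Coh.IsCoh K :=
    Groth.Agent.Lib.helper7.CohKer.isCoh_of_iso
      (IsLimit.conePointUniqueUpToIso hex.fIsKernel (limit.isLimit _)).symm
      (isCoh_kernel k X hE hF f)
  have eV : cokernel j ≅ V :=
    IsColimit.coconePointUniqueUpToIso (colimit.isColimit _) hSE.gIsCokernel
  have hV : Coh.IsCoh V :=
    Groth.Agent.Lib.helper7.CohKer.isCoh_of_iso eV
      (Groth.Agent.Lib.helper7.CohKer.isCoh_cokernel hK hE j)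
  have hVp : ShStab.IsPure X V d := isPure_of_mono hFp u
  have hcokj : ShStab.IsPure X (cokernel j) d := isPure_of_iso eV.symm hVp
  by_cases hVz : IsZero V
  · -- the zero image
    refine ⟨?_, ?_, ?_⟩
    · intro QK QKX hQK hQKX
      have hX : ∀ i, PX i = QKX i := by
        intro i
        have h1 := isHilbPoly_imageSubobject k X hL.1 j q w' hSE hK hE hV (𝓔.pieceX i) (hcE i) _
          (Groth.Agent.Lib.Helper20.ParExt.induced_pieceX 𝓔 j i) _
          (Groth.Agent.Lib.Helper20.ParExt.coinduced_pieceX 𝓔 q i) (hPX i) (hQKX i)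
        have hz : IsZero (((𝓔.coinduced q).pieceX i : Subobject V) : X.Modules) :=
          isZero_of_mono_of_isZero ((𝓔.coinduced q).pieceX i).arrow hVz
        exact sub_eq_zero.mp (isHilbPoly_unique k X h1 (isHilbPoly_zero_of_isZero k X hz))
      have hQ : P = QK := by
        have h1 := isHilbPoly_sub₃ k X hL.1 _ hSE hK hV hQK hP
        exact sub_eq_zero.mp (isHilbPoly_unique k X h1 (isHilbPoly_zero_of_isZero k X hVz))
      have hQKX' : QKX = PX := funext (fun i => (hX i).symm)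
      rw [hQKX', hQ]
      rfl
    · have hu : u = 0 := hVz.eq_of_src _ _
      subst hu
      exact isPure_of_iso cokernelZeroIsoTarget.symm hFp
    · intro a _ _
      exact subobject_eq_of_isZero X hVz _ _
  · -- the nonzero image
    obtain ⟨V', ι', jj, T, qT, wT, hι', hV'c, hjι, hTc, hTd, hSE', hsat⟩ :=
      exists_saturation k X hF hF0 hFp u hV
    haveI := hι'
    haveI : Mono jj := hSE'.mono_f
    have hV'0 : ¬ IsZero V' := fun hz => hVz (isZero_of_mono_of_isZero jj hz)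
    -- polynomials
    obtain ⟨QK, hQK⟩ := exists_isHilbPoly_of_mono_pure k X hL.1 hEp j hK
    have hKc := fun i => induced_coh k X hE 𝓔 hcE j hK i
    have hexK : ∀ i, ∃ R' : ℚ[X], ShStab.IsHilbPoly k X L
        (((𝓔.induced j).pieceX i : Subobject K) : X.Modules) R' := fun i =>
      exists_isHilbPoly_of_mono_pure k X hL.1 hEp (((𝓔.induced j).pieceX i).arrow ≫ j) (hKc i)
    choose KX hKX using hexK
    have hQV : ShStab.IsHilbPoly k X L V (P - QK) :=
      isHilbPoly_sub₃ k X hL.1 _ hSE hK hV hQK hP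
    have hVX₁ : ∀ i, ShStab.IsHilbPoly k X L
        (((𝓔.coinduced q).pieceX i : Subobject V) : X.Modules) (PX i - KX i) := fun i =>
      isHilbPoly_imageSubobject k X hL.1 j q w' hSE hK hE hV (𝓔.pieceX i) (hcE i) _
        (Groth.Agent.Lib.Helper20.ParExt.induced_pieceX 𝓔 j i) _
        (Groth.Agent.Lib.Helper20.ParExt.coinduced_pieceX 𝓔 q i) (hPX i) (hKX i)
    have hV₁c : ∀ i, Coh.IsCoh (((𝓔.coinduced q).pieceX i : Subobject V) : X.Modules) :=
      fun i => isCoh_imageSubobject k X q hV (𝓔.pieceX i) (hcE i) _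
        (Groth.Agent.Lib.Helper20.ParExt.coinduced_pieceX 𝓔 q i)
    have hV₂c := fun i => induced_coh k X hF (mkStr 𝓔 pieceF botF pz pa bl) hcF u hV i
    have hexV₂ : ∀ i, ∃ R' : ℚ[X], ShStab.IsHilbPoly k X L
        ((((mkStr 𝓔 pieceF botF pz pa bl).induced u).pieceX i : Subobject V) : X.Modules) R' := fun i =>
      exists_isHilbPoly_of_mono_pure k X hL.1 hFp ((((mkStr 𝓔 pieceF botF pz pa bl).induced u).pieceX i).arrow ≫ u) (hV₂c i)
    choose VX₂ hVX₂ using hexV₂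
    obtain ⟨QV', hQV'⟩ := exists_isHilbPoly_of_mono_pure k X hL.1 hFp ι' hV'c
    have hV'cc := fun i => induced_coh k X hF (mkStr 𝓔 pieceF botF pz pa bl) hcF ι' hV'c i
    have hexV' : ∀ i, ∃ R' : ℚ[X], ShStab.IsHilbPoly k X L
        ((((mkStr 𝓔 pieceF botF pz pa bl).induced ι').pieceX i : Subobject V') : X.Modules) R' := fun i =>
      exists_isHilbPoly_of_mono_pure k X hL.1 hFp ((((mkStr 𝓔 pieceF botF pz pa bl).induced ι').pieceX i).arrow ≫ ι')
        (hV'cc i)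
    choose VX' hVX' using hexV'
    -- the `K`-part
    have hi : ∃ M₁ : ℕ, ∀ m : ℕ, M₁ ≤ m →
        (W4swparbununimod.parPoly (𝓔.induced j) KX).eval (m : ℝ) * (StabCat.alpha d P : ℝ) ≤
          (W4swparbununimod.parPoly 𝓔 PX).eval (m : ℝ) * (StabCat.alpha d QK : ℝ) := by
      by_cases hKz : IsZero K
      · have hQK0 : QK = 0 := isHilbPoly_unique k X hQK (isHilbPoly_zero_of_isZero k X hKz)
        have hKX0 : ∀ i, KX i = 0 := fun i =>
          isHilbPoly_unique k X (hKX i) (isHilbPoly_zero_of_isZero k X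
            (isZero_of_mono_of_isZero ((𝓔.induced j).pieceX i).arrow hKz))
        refine ⟨0, fun m _ => ?_⟩
        rw [parPoly_eval_ev]
        simp [hKX0, hQK0, ev, alpha]
      · exact hssE K j inferInstance hK hKz hcokj QK KX hQK hKX
    obtain ⟨M₁, hM₁⟩ := hi
    obtain ⟨M₂, hM₂⟩ := hssF V' ι' inferInstance hV'c hV'0 hsat QV' VX' hQV' hVX'
    -- monotonicity of the pieces
    have hD₁ : ∀ i, ∃ N : ℕ, ∀ m : ℕ, N ≤ m →
        (PX i - KX i).eval (m : ℚ) ≤ (VX₂ i).eval (m : ℚ) := fun i => by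
      have hle := coinduced_le_induced 𝓔 pieceF botF pz pa bl f hf q u hqu i
      exact eval_le_of_mono k X hL (Subobject.ofLE _ _ hle) (hV₁c i) (hV₂c i) (hVX₁ i) (hVX₂ i)
    have hD₂ : ∀ i, ∃ N : ℕ, ∀ m : ℕ, N ≤ m →
        (VX₂ i).eval (m : ℚ) ≤ (VX' i).eval (m : ℚ) := fun i =>
      eval_le_pullback k X hL u ι' jj hjι hV hV'c hF ((mkStr 𝓔 pieceF botF pz pa bl).pieceX i) (hcF i) _
        (Groth.Agent.Lib.Helper20.ParExt.induced_pieceX (mkStr 𝓔 pieceF botF pz pa bl) u i) _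
        (Groth.Agent.Lib.Helper20.ParExt.induced_pieceX (mkStr 𝓔 pieceF botF pz pa bl) ι' i) (hVX₂ i) (hVX' i)
    have hev₁ : ∀ᶠ m : ℕ in atTop, ∀ i : Fin (𝓔.l + 2),
        (PX i - KX i).eval (m : ℚ) ≤ (VX₂ i).eval (m : ℚ) := by
      rw [Filter.eventually_all]
      intro i
      obtain ⟨N, hN⟩ := hD₁ i
      exact eventually_atTop.mpr ⟨N, hN⟩
    have hev₂ : ∀ᶠ m : ℕ in atTop, ∀ i : Fin (𝓔.l + 2),
        (VX₂ i).eval (m : ℚ) ≤ (VX' i).eval (m : ℚ) := by
      rw [Filter.eventually_all]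
      intro i
      obtain ⟨N, hN⟩ := hD₂ i
      exact eventually_atTop.mpr ⟨N, hN⟩
    obtain ⟨N₁, hN₁⟩ := eventually_atTop.mp hev₁
    obtain ⟨N₂, hN₂⟩ := eventually_atTop.mp hev₂
    -- multiplicities
    have aP : 0 < alpha d P := alpha_pos_of_mono_pure k X hL hEp (𝟙 E) hE hE0 hP
    have aR : 0 < alpha d R := alpha_pos_of_mono_pure k X hL hFp (𝟙 F) hF hF0 hR
    have aV : 0 < alpha d (P - QK) := alpha_pos_of_mono_pure k X hL hFp u hV hVz hQV
    have halpha : alpha d QV' = alpha d (P - QK) :=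
      (redLE_of_small_quotient k hL (ShortComplex.mk jj qT wT) hSE' hV hTc hTd hQV hQV' aV.le).2.1
    have haK : alpha d QK = alpha d P - alpha d (P - QK) := by rw [alpha_sub]; ring
    have aP' : (0 : ℝ) < ((alpha d P : ℚ) : ℝ) := by exact_mod_cast aP
    have aR' : (0 : ℝ) < ((alpha d R : ℚ) : ℝ) := by exact_mod_cast aR
    have haK' : ((alpha d QK : ℚ) : ℝ) = ((alpha d P : ℚ) : ℝ) - ((alpha d (P - QK) : ℚ) : ℝ) := by
      rw [haK]; push_cast; ring
    have halpha' : ((alpha d QV' : ℚ) : ℝ) = ((alpha d (P - QK) : ℚ) : ℝ) := by rw [halpha]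
    -- evaluation of the parabolic polynomials
    have hkk : ∀ m : ℕ, (W4swparbununimod.parPoly (𝓔.induced j) KX).eval (m : ℝ) =
        (W4swparbununimod.parPoly 𝓔 PX).eval (m : ℝ) -
          (W4swparbununimod.parPoly (𝓔.coinduced q) (fun i => PX i - KX i)).eval (m : ℝ) := by
      intro m
      rw [parPoly_eval_ev, parPoly_eval_ev, parPoly_eval_ev]
      have h1 : ev (𝓔.coinduced q) (fun i => ((((PX i - KX i)).eval (m : ℚ) : ℚ) : ℝ)) =
          ev 𝓔 (fun i => (((PX i).eval (m : ℚ) : ℚ) : ℝ) - (((KX i).eval (m : ℚ) : ℚ) : ℝ)) := by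
        have : ∀ i, ((((PX i - KX i)).eval (m : ℚ) : ℚ) : ℝ) =
            (((PX i).eval (m : ℚ) : ℚ) : ℝ) - (((KX i).eval (m : ℚ) : ℚ) : ℝ) := by
          intro i; rw [eval_sub]; push_cast; ring
        simp only [this]
        rfl
      rw [h1, ev_sub]
      have h2 : ev (𝓔.induced j) (fun i => (((KX i).eval (m : ℚ) : ℚ) : ℝ)) =
          ev 𝓔 (fun i => (((KX i).eval (m : ℚ) : ℚ) : ℝ)) := rfl
      rw [h2]
      ring
    have hbc : ∀ m : ℕ, N₁ ≤ m →
        (W4swparbununimod.parPoly ((mkStr 𝓔 pieceF botF pz pa bl).induced u) VX₂).eval (m : ℝ) -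
          (W4swparbununimod.parPoly (𝓔.coinduced q) (fun i => PX i - KX i)).eval (m : ℝ) =
        ev 𝓔 (fun i => (((VX₂ i).eval (m : ℚ) : ℚ) : ℝ) -
          ((((PX i - KX i)).eval (m : ℚ) : ℚ) : ℝ)) := by
      intro m _
      rw [parPoly_eval_ev, parPoly_eval_ev, ev_sub]
      rfl
    have hcc' : ∀ m : ℕ, N₂ ≤ m →
        (W4swparbununimod.parPoly ((mkStr 𝓔 pieceF botF pz pa bl).induced ι') VX').eval (m : ℝ) -
          (W4swparbununimod.parPoly ((mkStr 𝓔 pieceF botF pz pa bl).induced u) VX₂).eval (m : ℝ) =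
        ev 𝓔 (fun i => (((VX' i).eval (m : ℚ) : ℚ) : ℝ) - (((VX₂ i).eval (m : ℚ) : ℚ) : ℝ)) := by
      intro m _
      rw [parPoly_eval_ev, parPoly_eval_ev, ev_sub]
      rfl
    have hx₁ : ∀ m : ℕ, N₁ ≤ m → ∀ i : Fin (𝓔.l + 2),
        0 ≤ (((VX₂ i).eval (m : ℚ) : ℚ) : ℝ) - ((((PX i - KX i)).eval (m : ℚ) : ℚ) : ℝ) := by
      intro m hm i
      have := hN₁ m hm i
      have h4 : ((((PX i - KX i)).eval (m : ℚ) : ℚ) : ℝ) ≤ (((VX₂ i).eval (m : ℚ) : ℚ) : ℝ) := by
        exact_mod_cast this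
      linarith
    have hx₂ : ∀ m : ℕ, N₂ ≤ m → ∀ i : Fin (𝓔.l + 2),
        0 ≤ (((VX' i).eval (m : ℚ) : ℚ) : ℝ) - (((VX₂ i).eval (m : ℚ) : ℚ) : ℝ) := by
      intro m hm i
      have := hN₂ m hm i
      have h4 : (((VX₂ i).eval (m : ℚ) : ℚ) : ℝ) ≤ (((VX' i).eval (m : ℚ) : ℚ) : ℝ) := by
        exact_mod_cast this
      linarith
    -- the key equalities
    have key : ∀ m : ℕ, max (max M₁ M₂) (max N₁ N₂) ≤ m →
        (W4swparbununimod.parPoly 𝓔 PX).eval (m : ℝ) * ((alpha d (P - QK) : ℚ) : ℝ) =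
            (W4swparbununimod.parPoly (𝓔.coinduced q) (fun i => PX i - KX i)).eval (m : ℝ) *
              ((alpha d P : ℚ) : ℝ) ∧
          (W4swparbununimod.parPoly (𝓔.coinduced q) (fun i => PX i - KX i)).eval (m : ℝ) =
            (W4swparbununimod.parPoly ((mkStr 𝓔 pieceF botF pz pa bl).induced u) VX₂).eval (m : ℝ) ∧
          (W4swparbununimod.parPoly ((mkStr 𝓔 pieceF botF pz pa bl).induced u) VX₂).eval (m : ℝ) =
            (W4swparbununimod.parPoly ((mkStr 𝓔 pieceF botF pz pa bl).induced ι') VX').eval (m : ℝ) := by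
      intro m hm
      have hmM₁ : M₁ ≤ m := ((le_max_left _ _).trans (le_max_left _ _)).trans hm
      have hmM₂ : M₂ ≤ m := ((le_max_right _ _).trans (le_max_left _ _)).trans hm
      have hmN₁ : N₁ ≤ m := ((le_max_left _ _).trans (le_max_right _ _)).trans hm
      have hmN₂ : N₂ ≤ m := ((le_max_right _ _).trans (le_max_right _ _)).trans hm
      have h1 := hM₁ m hmM₁
      have h2 := hM₂ m hmM₂
      rw [hkk m, haK'] at h1
      rw [halpha'] at h2
      have h3 : 0 ≤ (W4swparbununimod.parPoly ((mkStr 𝓔 pieceF botF pz pa bl).induced u) VX₂).eval (m : ℝ) -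
          (W4swparbununimod.parPoly (𝓔.coinduced q) (fun i => PX i - KX i)).eval (m : ℝ) := by
        rw [hbc m hmN₁]; exact ev_nonneg 𝓔 _ (hx₁ m hmN₁)
      have h4 : 0 ≤ (W4swparbununimod.parPoly ((mkStr 𝓔 pieceF botF pz pa bl).induced ι') VX').eval (m : ℝ) -
          (W4swparbununimod.parPoly ((mkStr 𝓔 pieceF botF pz pa bl).induced u) VX₂).eval (m : ℝ) := by
        rw [hcc' m hmN₂]; exact ev_nonneg 𝓔 _ (hx₂ m hmN₂)
      have hr : (W4swparbununimod.parPoly 𝓔 PX).eval (m : ℝ) * ((alpha d R : ℚ) : ℝ) =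
          (W4swparbununimod.parPoly (mkStr 𝓔 pieceF botF pz pa bl) RX).eval (m : ℝ) * ((alpha d P : ℚ) : ℝ) := by
        have := congrArg (Polynomial.eval (m : ℝ)) hred
        rwa [eval_mul, eval_mul, eval_C, eval_C] at this
      generalize (W4swparbununimod.parPoly 𝓔 PX).eval (m : ℝ) = a at *
      generalize (W4swparbununimod.parPoly (𝓔.coinduced q) (fun i => PX i - KX i)).eval (m : ℝ)
        = b at *
      generalize (W4swparbununimod.parPoly ((mkStr 𝓔 pieceF botF pz pa bl).induced u) VX₂).eval (m : ℝ) = c at *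
      generalize (W4swparbununimod.parPoly ((mkStr 𝓔 pieceF botF pz pa bl).induced ι') VX').eval (m : ℝ) = c' at *
      generalize (W4swparbununimod.parPoly (mkStr 𝓔 pieceF botF pz pa bl) RX).eval (m : ℝ) = e at *
      generalize ((alpha d P : ℚ) : ℝ) = αP at *
      generalize ((alpha d R : ℚ) : ℝ) = αR at *
      generalize ((alpha d (P - QK) : ℚ) : ℝ) = αV at *
      -- h1 : (a - b) * αP ≤ a * (αP - αV); h2 : c' * αR ≤ e * αV; hr : a * αR = e * αP
      have s1 : a * αV ≤ b * αP := by nlinarith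
      have s2 : b * αR * αP ≤ c * αR * αP :=
        mul_le_mul_of_nonneg_right (mul_le_mul_of_nonneg_right (by linarith) aR'.le) aP'.le
      have s3 : c * αR * αP ≤ c' * αR * αP :=
        mul_le_mul_of_nonneg_right (mul_le_mul_of_nonneg_right (by linarith) aR'.le) aP'.le
      have s4 : c' * αR * αP ≤ e * αV * αP := mul_le_mul_of_nonneg_right h2 aP'.le
      have s5 : e * αV * αP = a * αV * αR := by
        have : e * αV * αP = (e * αP) * αV := by ring
        rw [this, ← hr]; ring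
      have s6 : a * αV * αR ≤ b * αP * αR := mul_le_mul_of_nonneg_right s1 aR'.le
      have s7 : b * αP * αR = b * αR * αP := by ring
      have hpos : 0 < αR * αP := mul_pos aR' aP'
      have e1 : b * αR * αP = c * αR * αP := le_antisymm s2 (by linarith)
      have e2 : c * αR * αP = c' * αR * αP := le_antisymm s3 (by linarith)
      have e3 : a * αV * αR = b * αP * αR := le_antisymm s6 (by linarith)
      refine ⟨?_, ?_, ?_⟩
      · exact mul_right_cancel₀ aR'.ne' e3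
      · have : b * (αR * αP) = c * (αR * αP) := by linarith
        exact mul_right_cancel₀ hpos.ne' this
      · have : c * (αR * αP) = c' * (αR * αP) := by linarith
        exact mul_right_cancel₀ hpos.ne' this
    refine ⟨?_, ?_, ?_⟩
    · -- (1)
      intro QK' QKX' hQK' hQKX'
      have e1 : QK' = QK := isHilbPoly_unique k X hQK' hQK
      have e2 : QKX' = KX := funext (fun i => isHilbPoly_unique k X (hQKX' i) (hKX i))
      rw [e1, e2]
      apply poly_eq_of_eval_eq_atTop _ _ (max (max M₁ M₂) (max N₁ N₂))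
      intro m hm
      obtain ⟨h1, -, -⟩ := key m hm
      rw [eval_mul, eval_mul, eval_C, eval_C, hkk m, haK']
      linear_combination h1
    · -- (2)
      have hz0 : ∀ m : ℕ, max (max M₁ M₂) (max N₁ N₂) ≤ m →
          (((VX' 0).eval (m : ℚ) : ℚ) : ℝ) - (((VX₂ 0).eval (m : ℚ) : ℚ) : ℝ) = 0 := by
        intro m hm
        have hmN₂ : N₂ ≤ m := ((le_max_right _ _).trans (le_max_right _ _)).trans hm
        obtain ⟨-, -, h3⟩ := key m hm
        have h5 : ev 𝓔 (fun i => (((VX' i).eval (m : ℚ) : ℚ) : ℝ) -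
            (((VX₂ i).eval (m : ℚ) : ℚ) : ℝ)) = 0 := by
          rw [← hcc' m hmN₂, h3, sub_self]
        exact (ev_eq_zero 𝓔 _ (hx₂ m hmN₂) h5).2 hw0
      have hpoly : VX' 0 = VX₂ 0 := by
        apply ratPoly_eq_of_eval_eq_atTop _ _ (max (max M₁ M₂) (max N₁ N₂))
        intro m hm
        have := hz0 m hm
        have h6 : (((VX' 0).eval (m : ℚ) : ℚ) : ℝ) = (((VX₂ 0).eval (m : ℚ) : ℚ) : ℝ) := by
          linarith
        exact_mod_cast h6
      have hQ1 : VX' 0 = QV' := PX_zero_eq k X ((mkStr 𝓔 pieceF botF pz pa bl).induced ι') hQV' hVX'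
      have hQ2 : VX₂ 0 = P - QK := PX_zero_eq k X ((mkStr 𝓔 pieceF botF pz pa bl).induced u) hQV hVX₂
      have hQeq : QV' = P - QK := by rw [← hQ1, hpoly, hQ2]
      have hT0 : ShStab.IsHilbPoly k X L T 0 := by
        have := isHilbPoly_sub₃ k X hL.1 _ hSE' hV hTc hQV hQV'
        rwa [hQeq, sub_self] at this
      have hTz : IsZero T := isZero_of_isHilbPoly_zero k X hL hTc hT0
      have hjjiso : IsIso jj := hSE'.isIso_f_iff.mpr hTz
      have e : cokernel u ≅ cokernel ι' := by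
        subst hjι
        exact cokernelEpiComp jj ι'
      exact isPure_of_iso e.symm hsat
    · -- (3)
      have hpieces : ∀ i : Fin (𝓔.l + 2),
          (𝓔.coinduced q).pieceX i = ((mkStr 𝓔 pieceF botF pz pa bl).induced u).pieceX i := by
        intro i
        have hle := coinduced_le_induced 𝓔 pieceF botF pz pa bl f hf q u hqu i
        refine le_antisymm hle ?_
        induction i using Fin.cases with
        | zero =>
          exact le_of_le_of_eq le_top (pieceX_zero (𝓔.coinduced q)).symm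
        | succ i =>
          have hzs : ∀ m : ℕ, max (max M₁ M₂) (max N₁ N₂) ≤ m →
              (((VX₂ i.succ).eval (m : ℚ) : ℚ) : ℝ) -
                ((((PX i.succ - KX i.succ)).eval (m : ℚ) : ℚ) : ℝ) = 0 := by
            intro m hm
            have hmN₁ : N₁ ≤ m := ((le_max_left _ _).trans (le_max_right _ _)).trans hm
            obtain ⟨-, h2, -⟩ := key m hm
            have h5 : ev 𝓔 (fun i => (((VX₂ i).eval (m : ℚ) : ℚ) : ℝ) -
                ((((PX i - KX i)).eval (m : ℚ) : ℚ) : ℝ)) = 0 := by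
              rw [← hbc m hmN₁, h2, sub_self]
            exact (ev_eq_zero 𝓔 _ (hx₁ m hmN₁) h5).1 i
          have hpoly : VX₂ i.succ = PX i.succ - KX i.succ := by
            apply ratPoly_eq_of_eval_eq_atTop _ _ (max (max M₁ M₂) (max N₁ N₂))
            intro m hm
            have := hzs m hm
            have h6 : (((VX₂ i.succ).eval (m : ℚ) : ℚ) : ℝ) =
                ((((PX i.succ - KX i.succ)).eval (m : ℚ) : ℚ) : ℝ) := by linarith
            exact_mod_cast h6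
          have hc : Coh.IsCoh (cokernel (Subobject.ofLE _ _ hle)) :=
            Groth.Agent.Lib.helper7.CohKer.isCoh_cokernel (hV₁c i.succ) (hV₂c i.succ) _
          have h0 : ShStab.IsHilbPoly k X L (cokernel (Subobject.ofLE _ _ hle)) 0 := by
            have := isHilbPoly_sub₃ k X hL.1 _
              (Groth.Agent.Lib.helper8.Dev.shortExact_cokernel (Subobject.ofLE _ _ hle))
              (hV₁c i.succ) hc (hVX₁ i.succ) (hVX₂ i.succ)
            rwa [hpoly, sub_self] at this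
          exact le_of_isZero_cokernel_ofLE hle (isZero_of_isHilbPoly_zero k X hL hc h0)
      intro a _ _
      have hp : (𝓔.coinduced q).piece = ((mkStr 𝓔 pieceF botF pz pa bl).induced u).piece := funext (fun i =>
        ((𝓔.coinduced q).pieceX_castSucc i).symm.trans
          ((hpieces i.castSucc).trans (((mkStr 𝓔 pieceF botF pz pa bl).induced u).pieceX_castSucc i)))
      have hb : (𝓔.coinduced q).bot = ((mkStr 𝓔 pieceF botF pz pa bl).induced u).bot :=
        ((𝓔.coinduced q).pieceX_last).symm.trans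
          ((hpieces (Fin.last _)).trans (((mkStr 𝓔 pieceF botF pz pa bl).induced u).pieceX_last))
      unfold ParSh.Str.at
      rw [hp, hb]
      rfl

/-- **S18529** -/
theorem kerImage {L : X.Modules} (hL : CohB1.IsAmple L) (d : ℕ)
    {E F : X.Modules} (hE : Coh.IsCoh E) (hF : Coh.IsCoh F) (hE0 : ¬ IsZero E)
    (hF0 : ¬ IsZero F)
    (hEp : ShStab.IsPure X E d) (hFp : ShStab.IsPure X F d)
    (𝓔 : ParSh.Str E) (𝓕 : ParSh.Str F)
    (hcE : ∀ j, Coh.IsCoh ((𝓔.pieceX j : Subobject E) : X.Modules))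
    (hcF : ∀ j, Coh.IsCoh ((𝓕.pieceX j : Subobject F) : X.Modules))
    (hw : Set.range 𝓕.wt = Set.range 𝓔.wt) (hw0 : 0 < 𝓔.wt 0)
    (P R : ℚ[X]) (hP : ShStab.IsHilbPoly k X L E P) (hR : ShStab.IsHilbPoly k X L F R)
    (PX : Fin (𝓔.l + 2) → ℚ[X])
    (hPX : ∀ j, ShStab.IsHilbPoly k X L ((𝓔.pieceX j : Subobject E) : X.Modules) (PX j))
    (RX : Fin (𝓕.l + 2) → ℚ[X])
    (hRX : ∀ j, ShStab.IsHilbPoly k X L ((𝓕.pieceX j : Subobject F) : X.Modules) (RX j))
    (hssE : (∀ (W : X.Modules) (ι : W ⟶ E), Mono ι → Coh.IsCoh W → ¬ IsZero W →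
        ShStab.IsPure X (cokernel ι) d →
        ∀ (Q : ℚ[X]) (QX : Fin (𝓔.l + 2) → ℚ[X]), ShStab.IsHilbPoly k X L W Q →
          (∀ j, ShStab.IsHilbPoly k X L (((𝓔.induced ι).pieceX j : Subobject W) : X.Modules) (QX j)) →
          ∃ M : ℕ, ∀ m : ℕ, M ≤ m →
            (W4swparbununimod.parPoly (𝓔.induced ι) QX).eval (m : ℝ) * (StabCat.alpha d P : ℝ) ≤
              (W4swparbununimod.parPoly 𝓔 PX).eval (m : ℝ) * (StabCat.alpha d Q : ℝ)))
    (hssF : (∀ (W : X.Modules) (ι : W ⟶ F), Mono ι → Coh.IsCoh W → ¬ IsZero W →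
        ShStab.IsPure X (cokernel ι) d →
        ∀ (Q : ℚ[X]) (QX : Fin (𝓕.l + 2) → ℚ[X]), ShStab.IsHilbPoly k X L W Q →
          (∀ j, ShStab.IsHilbPoly k X L (((𝓕.induced ι).pieceX j : Subobject W) : X.Modules) (QX j)) →
          ∃ M : ℕ, ∀ m : ℕ, M ≤ m →
            (W4swparbununimod.parPoly (𝓕.induced ι) QX).eval (m : ℝ) * (StabCat.alpha d R : ℝ) ≤
              (W4swparbununimod.parPoly 𝓕 RX).eval (m : ℝ) * (StabCat.alpha d Q : ℝ)))
    (hred : W4swparbununimod.parPoly 𝓔 PX * Polynomial.C (StabCat.alpha d R : ℝ) =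
      W4swparbununimod.parPoly 𝓕 RX * Polynomial.C (StabCat.alpha d P : ℝ))
    (f : E ⟶ F) (hf : ParSh.IsParHom 𝓔 𝓕 f)
    {K V : X.Modules} (j : K ⟶ E) [Mono j] (w : j ≫ f = 0)
    (hex : (ShortComplex.mk j f w).Exact)
    (q : E ⟶ V) [Epi q] (u : V ⟶ F) [Mono u] (hqu : q ≫ u = f) :
    (∀ (QK : ℚ[X]) (QKX : Fin (𝓔.l + 2) → ℚ[X]), ShStab.IsHilbPoly k X L K QK →
        (∀ j', ShStab.IsHilbPoly k X L (((𝓔.induced j).pieceX j' : Subobject K) : X.Modules) (QKX j')) →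
        W4swparbununimod.parPoly (𝓔.induced j) QKX * Polynomial.C (StabCat.alpha d P : ℝ) =
          W4swparbununimod.parPoly 𝓔 PX * Polynomial.C (StabCat.alpha d QK : ℝ)) ∧
    ShStab.IsPure X (cokernel u) d ∧
    (∀ a : ℝ, 0 ≤ a → a ≤ 1 → (𝓔.coinduced q).at a = (𝓕.induced u).at a) := by
  obtain ⟨hl, hwt⟩ := str_index_eq 𝓔 𝓕 hw
  obtain ⟨lF, pieceF, botF, wtF, pz, pa, bl, sm, nn, lt1⟩ := 𝓕
  dsimp only at hl hwt
  subst hl
  have hwt' : wtF = 𝓔.wt := funext (fun i => hwt i)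
  subst hwt'
  exact core k X hL d hE hF hE0 hF0 hEp hFp 𝓔 pieceF botF pz pa bl hcE hcF hw0 P R hP hR PX hPX
    RX hRX hssE hssF hred f hf j w hex q u hqu

end Core

end Groth.Agent.Lib.Helper20.ParHilbPoly
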