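import Mathlib
import Groth.Agent.Lib.Helper20.PicPnGen

/-!
# `O(d) ≅ O(d')` on `P^n_R` (`n ≥ 1`, `R` a domain) forces `d = d'` (helper20)
-/

set_option autoImplicit false
set_option backward.isDefEq.respectTransparency false
set_option backward.isDefEq.respectTransparency.types false
universe u
open AlgebraicGeometry CategoryTheory Opposite TopologicalSpace MvPolynomial

namespace Groth.Agent.Lib.helper20.PicPnUniq

open Groth.Agent.Lib.helper20.PicPnAlg Groth.Agent.Lib.helper20.PicPnGamma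
  Groth.Agent.Lib.helper20.GlueIso Groth.Agent.Lib.helper20.PicPnGen

section Field

variable {σ : Type*} {R : Type u} [CommRing R] [IsDomain R]

theorem exp_eq_of_unit_eq [DecidableEq σ] {i j : σ} (hij : i ≠ j) {c c' : R} (hc : c ≠ 0)
    (hc' : c' ≠ 0) {d d' : ℤ}
    (h : (ξ i / ξ j) ^ d' * κ c = (κ c' * (ξ i / ξ j) ^ d : K σ R)) : d = d' := by
  have key : κ c * ξ i ^ (d' - d) * ξ j ^ (d - d') * ξ j ^ (0 : ℤ) = (κ c' : K σ R) := by
    rw [zpow_zero, mul_one, zpow_sub₀ (ξ_ne_zero i), zpow_sub₀ (ξ_ne_zero j)]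
    rw [div_zpow, div_zpow] at h
    have a1 := zpow_ne_zero d (ξ_ne_zero (R := R) i)
    have a2 := zpow_ne_zero d' (ξ_ne_zero (R := R) i)
    have b1 := zpow_ne_zero d (ξ_ne_zero (R := R) j)
    have b2 := zpow_ne_zero d' (ξ_ne_zero (R := R) j)
    generalize ξ (R := R) i ^ d = A1 at *
    generalize ξ (R := R) i ^ d' = A2 at *
    generalize ξ (R := R) j ^ d = B1 at *
    generalize ξ (R := R) j ^ d' = B2 at *
    field_simp at h ⊢
    linear_combination h
  have := zpow_eq_zero_of_monomial_eq hij hij hc hc' key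
  omega

end Field

variable (n : ℕ) (R : Type u) [CommRing R] [IsDomain R]

theorem eq_of_iso (hn : 1 ≤ n) (d d' : ℤ) (φ : OO n R d ≅ OO n R d') : d = d' := by
  classical
  obtain ⟨u, hu⟩ := exists_units_of_iso (U := UU n R) φ
    (fun i => tSec n R d i (UU n R i) le_rfl) (fun i => tSec n R d' i (UU n R i) le_rfl)
    (isGenOn_tSec n R d) (isGenOn_tSec n R d') (fun i j => ηSec n R d i j)
    (fun i j => ηSec n R d' i j) (tSec_trans n R d) (tSec_trans n R d')
  have hconst : ∀ i, ∃ c : Rˣ, γ' n R (UU n R i) (η₀_mem_UU n R i) (u i : Γ(P n R, UU n R i)) =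
      κ (c : R) := by
    intro i
    obtain ⟨c, e, h⟩ := γ'_unit n R i i (UU n R i)
      (by rw [Proj.basicOpen_mul, inf_idem]) (η₀_mem_UU n R i)
      (u i : Γ(P n R, UU n R i)) (((u i)⁻¹ : (Γ(P n R, UU n R i))ˣ) : Γ(P n R, UU n R i))
      (Units.mul_inv _)
    refine ⟨c, ?_⟩
    rw [h, div_self (ξ_ne_zero i), one_zpow, mul_one]
  choose c hc using hconst
  have hl : (0 : Fin (n + 1)) ≠ Fin.last n := by
    intro h
    have := congrArg Fin.val h
    simp only [Fin.val_zero, Fin.val_last] at this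
    omega
  have h := congrArg (γ' n R _ (η₀_mem_inf n R 0 (Fin.last n))) (hu 0 (Fin.last n))
  rw [map_mul, map_mul, γ'_ηSec, γ'_ηSec] at h
  have h1 : γ' n R (UU n R 0 ⊓ UU n R (Fin.last n)) (η₀_mem_inf n R 0 (Fin.last n))
      (rr inf_le_left (u 0 : Γ(P n R, UU n R 0))) = κ (c 0 : R) := hc 0
  have h2 : γ' n R (UU n R 0 ⊓ UU n R (Fin.last n)) (η₀_mem_inf n R 0 (Fin.last n))
      (rr inf_le_right (u (Fin.last n) : Γ(P n R, UU n R (Fin.last n)))) = κ (c (Fin.last n) : R) :=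
    hc (Fin.last n)
  rw [h1, h2] at h
  exact exp_eq_of_unit_eq hl (c 0).ne_zero (c (Fin.last n)).ne_zero h

end Groth.Agent.Lib.helper20.PicPnUniq
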