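import Mathlib
import Groth.Prelude.Def_CohB1
import Groth.Agent.Lib.Helper12.HypCover
import Groth.Agent.Lib.Helper20.HypConn

/-!
# At most `n` forms of positive degree have a common zero in `P^n_k` (helper20)

* `le_height_irr`: the irrelevant ideal of `k[X_0..X_n]` has height at least `n + 1`.
* `exists_common_zero`: `m + 1 ≤ n` homogeneous polynomials of the same positive degree have a common zero
  in `ProjectiveSpectrum`.
-/

set_option autoImplicit false
universe u
open MvPolynomial

namespace Groth.Agent.Lib.helper20.PnConstAlg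

open Groth.Agent.Lib.helper20.HypConn

variable (n : ℕ) (k : Type u) [Field k]

/-- initial segment of the variables -/
def seg (j : ℕ) : Set (Fin (n + 1)) := {i | i.val < j}

lemma le_height_killIdeal (j : ℕ) (hj : j ≤ n + 1) :
    (j : ℕ∞) ≤ (killIdeal n k (seg n j)).height := by
  induction j with
  | zero => simp
  | succ j ih =>
    have hlt : killIdeal n k (seg n j) < killIdeal n k (seg n (j + 1)) :=
      killIdeal_lt n k (fun i (hi : i.val < j) => (Nat.lt_succ_of_lt hi : i.val < j + 1))
        (i := ⟨j, by omega⟩) (Nat.lt_succ_self j : j < j + 1) (lt_irrefl j : ¬ j < j)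
    have e := Ideal.height_add_one_le_of_lt_of_isPrime hlt
    have h1 := ih (by omega)
    push_cast
    exact (add_le_add h1 le_rfl).trans e

theorem le_height_irr : ((n + 1 : ℕ) : ℕ∞) ≤ (irr n k).height :=
  (le_height_killIdeal n k (n + 1) le_rfl).trans (Ideal.height_mono (killIdeal_le_irr n k _))

theorem exists_common_zero (m : ℕ) (hmn : m < n) (d : ℕ) (hd : 0 < d)
    (p : Fin (m + 1) → CohB1.polyGrading n k d) :
    ∃ x : ProjectiveSpectrum (CohB1.polyGrading n k),
      ∀ i, ((p i : CohB1.polyGrading n k d) : S n k) ∈ x.asHomogeneousIdeal := by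
  classical
  let 𝒜 := CohB1.polyGrading n k
  let s : Finset (S n k) := Finset.univ.image (fun i => ((p i : CohB1.polyGrading n k d) : S n k))
  let I : Ideal (S n k) := Ideal.span (s : Set (S n k))
  have hIhom : I.IsHomogeneous 𝒜 := by
    apply Ideal.homogeneous_span
    intro z hz
    obtain ⟨i, -, rfl⟩ := Finset.mem_image.mp hz
    exact ⟨d, (p i).2⟩
  have hIirr : I ≤ irr n k := by
    rw [Ideal.span_le]
    intro z hz
    obtain ⟨i, -, rfl⟩ := Finset.mem_image.mp hz
    rw [SetLike.mem_coe, mem_irr_iff, constantCoeff_eq]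
    have hh : ((p i : CohB1.polyGrading n k d) : S n k).IsHomogeneous d :=
      (mem_homogeneousSubmodule _ _).mp (p i).2
    apply hh.coeff_eq_zero
    rw [map_zero]
    omega
  obtain ⟨P, hP, hPle⟩ := Ideal.exists_minimalPrimes_le hIirr
  have hPprime : P.IsPrime := hP.1.1
  have hPhom : P.IsHomogeneous 𝒜 :=
    Groth.Agent.Lib.helper12.HypCover.isHomogeneous_of_mem_minimalPrimes 𝒜 hIhom hP
  have hht : P.height ≤ (s.card : ℕ∞) := Ideal.height_le_card_of_mem_minimalPrimes_span_finset hP
  have hcard : s.card ≤ m + 1 := Finset.card_image_le.trans (by simp)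
  have hnot : ¬ irr n k ≤ P := by
    intro h
    have h1 := (le_height_irr n k).trans (Ideal.height_mono h)
    have h2 : ((n + 1 : ℕ) : ℕ∞) ≤ ((m + 1 : ℕ) : ℕ∞) :=
      h1.trans (hht.trans (by exact_mod_cast hcard))
    have : n + 1 ≤ m + 1 := by exact_mod_cast h2
    omega
  refine ⟨⟨⟨P, hPhom⟩, hPprime, hnot⟩, fun i => ?_⟩
  exact hP.1.2 (Ideal.subset_span (Finset.mem_coe.mpr (Finset.mem_image_of_mem _ (Finset.mem_univ i))))

end Groth.Agent.Lib.helper20.PnConstAlg
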