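import Mathlib
import Groth.Prelude.Def_CohB1
import Groth.Agent.Lib.Helper20.PnConstAlg
import Groth.Agent.Lib.Helper20.PicPnMain
import Groth.Agent.Lib.Helper20.PushOPn
import Groth.Agent.Lib.Helper20.H0Vanish
import Groth.Agent.Lib.Helper12.VAmple1
import Groth.Agent.Lib.Helper12.Hyperplane3
import Groth.Agent.Lib.Helper11.FiniteAffine
import Groth.Agent.Lib.Helper14.DescOver
import Groth.Agent.Lib.Helper21.InjAcyc3
import Groth.Agent.Lib.Helper21.ModGroth
import Groth.Agent.S0844

/-!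
# Morphisms `P^n_k ⟶ P^m_k`, `m < n`, are constant (helper20)

* `hom_twist_neg_eq_zero`: `Hom(O, O(e)) = 0` on `P^n_k` for `e < 0`, `n ≥ 1`.
* `exists_preimage_Dp_eq_top`: a morphism `f : P^n_k ⟶ P^m_k`, `m < n`, maps into a standard chart.
* `exists_factor`: such an `f` factors through `P^n_k ⟶ Spec k`.
-/

set_option autoImplicit false
universe u

open CategoryTheory CategoryTheory.Limits AlgebraicGeometry Opposite TopologicalSpace MvPolynomial

namespace Groth.Agent.Lib.helper20.PnConst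

open Groth.Agent.Lib.helper11.IsoLocus Groth.Agent.Lib.helper11.InvMod
open Groth.Agent.Lib.helper11.GenLocus
open Groth.Agent.Lib.helper12.ProjUP5 Groth.Agent.Lib.helper12.ProjUP6
open Groth.Agent.Lib.helper12.VAmple1
open Groth.Agent.Lib.helper28.TwistSecHom
open Groth.Agent.Lib.helper20.PicPnGamma Groth.Agent.Lib.helper20.PicPnGen

variable (n : ℕ) (k : Type u) [Field k]

/-- no nonzero sections of `O(e)`, `e < 0`, on `P^n_k`, `n ≥ 1` -/
theorem hom_twist_neg_eq_zero (hn : 1 ≤ n) (e : ℤ) (he : e < 0)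
    (s : Coh.structureModule (CohB1.ProjSpace n k) ⟶ Twist.twistProjSpace n k e) : s = 0 := by
  have : EnoughInjectives (CohB1.ProjSpace n k).Modules :=
    Groth.Agent.Lib.Helper21.ModGroth.enoughInjectives_mod (CohB1.ProjSpace n k).ringCatSheaf
  have : HasExt.{u} (CohB1.ProjSpace n k).Modules := hasExt_of_enoughInjectives _
  have h : Subsingleton (Coh.HH (CohB1.ProjSpace n k) (Twist.twistProjSpace n k e) 0) :=
    Groth.Agent.S0844.result k n e 0 (fun h => by omega) (fun h => by omega)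
  have h0 : Subsingleton (Abelian.Ext.{u} (Coh.structureModule (CohB1.ProjSpace n k))
      (Twist.twistProjSpace n k e) 0) := by
    have hX : HasExt.{u} (SheafOfModules.{u} (CohB1.ProjSpace n k).ringCatSheaf) :=
      inferInstanceAs (HasExt.{u} (CohB1.ProjSpace n k).Modules)
    obtain ⟨e'⟩ := Groth.Agent.Lib.helper21.InjAcyc.ext_unit_equiv_H
      (CohB1.ProjSpace n k).ringCatSheaf (Twist.twistProjSpace n k e) 0
    exact (EquivLike.injective e').subsingleton
  have h1 : Subsingleton (Coh.structureModule (CohB1.ProjSpace n k) ⟶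
      Twist.twistProjSpace n k e) :=
    Abelian.Ext.homEquiv₀.symm.injective.subsingleton
  exact h1.elim _ _

/-- an endomorphism of `O` on `P^n_k` is zero or an isomorphism, so its `genLocus` is `⊥` or `⊤` -/
theorem genLocus_end_eq_top (s : Coh.structureModule (P n k) ⟶ Coh.structureModule (P n k))
    (x : P n k) (hx : x ∈ CohB1.genLocus _ s) : CohB1.genLocus _ s = ⊤ := by
  rw [genLocus_structureModule] at hx ⊢
  have hb := Groth.Agent.Lib.Helper20.PushOPn.bijective_toGlobal n k
  obtain ⟨c, hc⟩ := hb.2 (fn s ⊤)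
  have hne : fn s ⊤ ≠ 0 := by
    intro h
    have hx' : x ∈ (P n k).basicOpen (0 : Γ(P n k, ⊤)) := h ▸ hx
    rw [Scheme.basicOpen_zero] at hx'
    exact hx'
  have hc0 : c ≠ 0 := by
    intro h0
    apply hne
    rw [← hc, h0]
    exact map_zero _
  have hu : IsUnit (fn s ⊤) := by
    have := (IsUnit.mk0 c hc0).map (Coh.toGlobal (CohB1.ProjSpace.toSpec n k))
    rw [hc] at this
    exact this
  exact Scheme.basicOpen_of_isUnit _ hu

variable {n} {k} in
/-- a morphism `P^n_k ⟶ P^m_k` with `m < n` lands in a standard chart -/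
theorem exists_preimage_Dp_eq_top {m : ℕ} (hmn : m < n) (r : P n k ⟶ P m k) :
    ∃ i : Fin (m + 1), r ⁻¹ᵁ Dp k m i = ⊤ := by
  classical
  have hn : 1 ≤ n := by omega
  let L : (P n k).Modules :=
    (Scheme.Modules.pullback r).obj (Twist.twist (CohB1.polyGrading m k) ((1 : ℕ) : ℤ))
  have hL : PicF.IsInvertible L := isInvertible_pullback r isInvertible_twist_one
  obtain ⟨e, ⟨τ⟩⟩ := Groth.Agent.Lib.helper20.PicPnMain.exists_iso_twist n k L hL
  -- the covering
  have hcov : ∀ x : P n k, ∃ i, x ∈ r ⁻¹ᵁ Dp k m i := by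
    intro x
    obtain ⟨i, hi⟩ := Groth.Agent.Lib.helper28.TwistPn.exists_X_notMem m k (r.base x)
    exact ⟨i, (ProjectiveSpectrum.mem_basicOpen (CohB1.polyGrading m k) _ _).mpr hi⟩
  let σ : Fin (m + 1) → (Coh.structureModule (P n k) ⟶ OO n k e) :=
    fun i => nu r i ≫ τ.hom
  have hgen : ∀ i, CohB1.genLocus (OO n k e) (σ i) = r ⁻¹ᵁ Dp k m i := by
    intro i
    show CohB1.genLocus (OO n k e) (nu r i ≫ τ.hom) = _
    rw [genLocus_comp_iso, genLocus_nu]
  haveI : IsIntegral (P n k) := Groth.Agent.Lib.helper20.H0Vanish.isIntegral_projSpace n k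
  rcases lt_trichotomy e 0 with he | he | he
  · -- negative degree: no sections
    exfalso
    obtain ⟨x⟩ : Nonempty (P n k) := inferInstance
    obtain ⟨i, hi⟩ := hcov x
    have h0 : σ i = 0 := hom_twist_neg_eq_zero n k hn e he (σ i)
    have h1 : CohB1.genLocus (OO n k e) (0 : Coh.structureModule (P n k) ⟶ OO n k e) = ⊥ :=
      Groth.Agent.Lib.helper11.FiniteAffine.genLocus_zero
        (Groth.Agent.Lib.helper28.TwistPn.isInvertible n k e)
    rw [← hgen i, h0, h1] at hi
    exact hi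
  · -- degree zero
    subst he
    obtain ⟨x⟩ : Nonempty (P n k) := inferInstance
    obtain ⟨i, hi⟩ := hcov x
    refine ⟨i, ?_⟩
    let z : Coh.structureModule (P n k) ≅ OO n k 0 := Groth.Agent.Lib.helper28.TwistPn.zeroIso n k
    have h1 : CohB1.genLocus _ (σ i ≫ z.inv) = CohB1.genLocus (OO n k 0) (σ i) :=
      genLocus_comp_iso (σ i) z.symm
    rw [← hgen i] at hi ⊢
    rw [← h1] at hi ⊢
    exact genLocus_end_eq_top n k _ x hi
  · -- positive degree: a common zero
    exfalso
    obtain ⟨d, rfl⟩ := Int.eq_ofNat_of_zero_le he.le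
    have hd : 0 < d := by exact_mod_cast he
    have hp : ∀ i, ∃ p : CohB1.polyGrading n k d, σ i = secHom (CohB1.polyGrading n k) p :=
      fun i => Groth.Agent.Lib.Helper12.Hyperplane.exists_eq_secHom n k d (σ i)
    choose p hp using hp
    obtain ⟨x, hx⟩ := Groth.Agent.Lib.helper20.PnConstAlg.exists_common_zero n k m hmn d hd p
    obtain ⟨i, hi⟩ := hcov x
    rw [← hgen i, hp i] at hi
    obtain ⟨l, hl⟩ := Groth.Agent.Lib.helper28.TwistPn.exists_X_notMem n k x
    have hXd : (X l : MvPolynomial (Fin (n + 1)) k) ^ d ∈ CohB1.polyGrading n k d := by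
      have := (MvPolynomial.isHomogeneous_X k l).pow d
      rw [one_mul] at this
      exact this
    refine notMem_of_mem_genLocus (CohB1.polyGrading n k) (p i) x hi
      (⟨(X l : MvPolynomial (Fin (n + 1)) k) ^ d, hXd⟩ : CohB1.polyGrading n k d)
      (⟨1, SetLike.GradedOne.one_mem⟩ : CohB1.polyGrading n k 0)
      (fun h => hl (x.isPrime.mem_of_pow_mem d h)) (one_notMem (CohB1.polyGrading n k) x) (by simp)
      (hx i)

variable {n} {k} in
/-- a morphism `P^n_k ⟶ P^m_k` with `m < n` factors through `Spec k` -/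
theorem exists_factor {m : ℕ} (hmn : m < n)
    (f : CohB1.ProjSpace n k ⟶ CohB1.ProjSpace m k) :
    ∃ q : Spec (CommRingCat.of k) ⟶ CohB1.ProjSpace m k, f = CohB1.ProjSpace.toSpec n k ≫ q := by
  let r : P n k ⟶ P m k := f
  obtain ⟨i, hi⟩ := exists_preimage_Dp_eq_top hmn r
  have hrange : Set.range r.base ⊆ Set.range (Dp k m i).ι.base := by
    rintro _ ⟨x, rfl⟩
    rw [Scheme.Opens.range_ι]
    have : x ∈ r ⁻¹ᵁ Dp k m i := by rw [hi]; trivial
    exact this
  let g : P n k ⟶ ↑(Dp k m i) := IsOpenImmersion.lift (Dp k m i).ι r hrange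
  have hg : g ≫ (Dp k m i).ι = r := IsOpenImmersion.lift_fac _ _ _
  have haff : IsAffineOpen (Dp k m i) :=
    Proj.isAffineOpen_basicOpen (CohB1.polyGrading m k) _
      (Groth.Agent.Lib.helper28.TwistPn.X_mem m k i) one_pos
  haveI : IsAffine (↑(Dp k m i) : Scheme.{u}) := haff
  haveI : IsIso (CohB1.ProjSpace.toSpec n k).appTop :=
    Groth.Agent.Lib.Helper20.PushOPn.isIso_appTop_toSpec n k
  obtain ⟨h, hh⟩ := Groth.Agent.Lib.Helper14.DescOver.exists_factor_of_isIso_appTop
    (CohB1.ProjSpace.toSpec n k) g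
  refine ⟨h ≫ (Dp k m i).ι, ?_⟩
  have h1 : g ≫ (Dp k m i).ι = (CohB1.ProjSpace.toSpec n k ≫ h) ≫ (Dp k m i).ι :=
    congrArg (fun t => t ≫ (Dp k m i).ι) hh
  exact (hg.symm.trans h1).trans (Category.assoc _ _ _)

end Groth.Agent.Lib.helper20.PnConst
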