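import Groth.Agent.Lib.Helper20.PushTw

/-!
# `δ_Y ∘ f_K = f_! ∘ δ_X` for `f = i ≫ p`, `i : X ⟶ P^n_Y` a regular closed immersion (helper20)
-/

set_option autoImplicit false
universe v u

open CategoryTheory CategoryTheory.Limits AlgebraicGeometry Opposite TopologicalSpace

namespace Groth.Agent.Lib.Helper20.PoincarePush

open Groth.Agent.Lib.helper16.FLF Groth.Agent.Lib.Helper20.K0Reg Groth.Agent.Lib.Helper20.K0LFRes
  Groth.Agent.Lib.helper8.Dev Groth.Agent.Lib.Helper20.KosPY KZero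
  Groth.Agent.Lib.Helper20.EulerRes Groth.Agent.Lib.Helper20.TensorEquiv
  Groth.Agent.Lib.Lead.ModTensor Groth.Agent.Lib.Helper20.PushRes
  Groth.Agent.Lib.Helper20.PushClK Groth.Agent.Lib.Helper20.FibreReg
  Groth.Agent.Lib.Helper20.PushClPr Groth.Agent.Lib.Helper20.PushTw
  Groth.Agent.Lib.helper13.K0Res Groth.Agent.Lib.helper7.K0API

noncomputable section

variable {n : ℕ} {X Y : Scheme.{u}} [IsNoetherian X] [IsNoetherian Y]

theorem coh_coker (S : ShortComplex Y.Modules) (hS : S.ShortExact)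
    (h1 : Coh.IsCoh S.X₁) (h2 : Coh.IsCoh S.X₂) : Coh.IsCoh S.X₃ := by
  let e : S.X₃ ≅ cokernel S.f := IsColimit.coconePointUniqueUpToIso hS.gIsCokernel (colimit.isColimit _)
  exact Groth.Agent.Lib.helper7.CohKer.isCoh_of_iso e.symm
    (Groth.Agent.Lib.helper7.CohKer.isCoh_cokernel h1 h2 S.f)

variable (hPe : KRR.HasEnoughLocFree (KRR.PY n Y)) [HasInjectiveResolutions X.Modules]
  (i : X ⟶ KRR.PY n Y) (hi : Mor2.IsRegularClosedImmersion i)
  (hX : ∀ M : X.Modules, FlatMod.IsFinLocFree M → Coh.IsCoh M)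
  (hY : ∀ M : Y.Modules, FlatMod.IsFinLocFree M → Coh.IsCoh M)
  {KX : Type v} [CommRing KX] [LambdaRing.LambdaOps KX] {PX : LambdaRing.PosStructure KX}
  {φX : SGA6.Kvb X →+ KX} (hKX : KRR.IsModel X KX PX φX)
  {KP : Type v} [CommRing KP] [LambdaRing.LambdaOps KP] {PP : LambdaRing.PosStructure KP}
  {φP : SGA6.Kvb (KRR.PY n Y) →+ KP}
  {KY : Type v} [CommRing KY] [LambdaRing.LambdaOps KY] {PY : LambdaRing.PosStructure KY}
  {φY : SGA6.Kvb Y →+ KY} (hKY : KRR.IsModel Y KY PY φY)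
  {a : KX →+ KP} (ha : KRR.IsPushCl i φX φP a) {b : KP →+ KY} (hb : KRR.IsPushPr n Y φP φY b)
  {N : ℕ} {g : SGA6.Kcoh X →+ SGA6.Kcoh Y} (hg : KRR.IsPushCoh (i ≫ KRR.pr n Y) N g)

include hPe hi hKX hKY ha hb hg in
/-- **`δ_Y ∘ f_K = f_! ∘ δ_X`** -/
theorem poincare_comm_push (x : SGA6.Kvb X) (y : SGA6.Kvb Y) (hxy : φY y = b (a (φX x))) :
    SGA6.mapSub (𝟭 Y.Modules) (KRR.vbP Y) (fun M : Y.Modules => Coh.IsCoh M) hY y =
      g (SGA6.mapSub (𝟭 X.Modules) (KRR.vbP X) (fun M : X.Modules => Coh.IsCoh M) hX x) := by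
  haveI : IsClosedImmersion i := hi.1
  haveI : IsProper (KRR.pr n Y) := Groth.Agent.Lib.helper19.ProjSpaceProper.proper_toBase n Y
  obtain ⟨ci⟩ := nonempty_ctx i hi
  have ha' := (ci.isPushCl_iff hPe hKX a).1 ha
  let eY : SGA6.Kvb Y ≃+ KY := AddEquiv.ofBijective φY hKY.bijective
  let δX := SGA6.mapSub (𝟭 X.Modules) (KRR.vbP X) (fun M : X.Modules => Coh.IsCoh M) hX
  let δY := SGA6.mapSub (𝟭 Y.Modules) (KRR.vbP Y) (fun M : Y.Modules => Coh.IsCoh M) hY
  have hδY : ∀ (M : Y.Modules) (hM : FlatMod.IsFinLocFree M),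
      δY (KRR.cl Y M) = KZero.clSub (fun M : Y.Modules => Coh.IsCoh M) M := by
    intro M hM
    have e1 : KZero.clSub (fun M : Y.Modules => Coh.IsCoh M) M =
        cls (fun M : Y.Modules => Coh.IsCoh M) M (hY M hM) := clSub_of _ _ _
    have e2 : KRR.cl Y M = cls (KRR.vbP Y) M hM := clSub_of _ _ _
    rw [e1, e2]
    exact mapSub_cls _ _ hY M hM
  have hδX : ∀ (M : X.Modules) (hM : FlatMod.IsFinLocFree M),
      δX (KRR.cl X M) = KZero.clSub (fun M : X.Modules => Coh.IsCoh M) M := by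
    intro M hM
    have e1 : KZero.clSub (fun M : X.Modules => Coh.IsCoh M) M =
        cls (fun M : X.Modules => Coh.IsCoh M) M (hX M hM) := clSub_of _ _ _
    have e2 : KRR.cl X M = cls (KRR.vbP X) M hM := clSub_of _ _ _
    rw [e1, e2]
    exact mapSub_cls _ _ hX M hM
  have cohY0 : ∀ N : Y.Modules, IsZero N → Coh.IsCoh N :=
    fun N hN => Groth.Agent.Lib.helper7.CohKer.isCoh_of_isZero hN
  have cohYiso : ∀ M N : Y.Modules, (M ≅ N) → Coh.IsCoh M → Coh.IsCoh N :=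
    fun M N e h => Groth.Agent.Lib.helper7.CohKer.isCoh_of_iso e h
  let h1 : SGA6.Kvb X →+ SGA6.Kcoh Y :=
    δY.comp (eY.symm.toAddMonoidHom.comp (b.comp (a.comp φX)))
  let h2 : SGA6.Kvb X →+ SGA6.Kcoh Y := g.comp δX
  have hT : h1.eqLocus h2 = ⊤ := by
    refine twist_induction_tw i hKX _ (fun E hE => ?_)
    have hB := ci.Q_push E hE
    obtain ⟨N', L, π, hL⟩ := ci.hasLFRes hPe hB
    haveI := hL.quasiIso
    obtain ⟨m₁, hm₁⟩ := exists_twist_bound n Y _ hB.1 hL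
    obtain ⟨m₂, hm₂⟩ := exists_acyc_twF n Y _ hB.1
    refine ⟨max m₁ m₂, fun m hm => ?_⟩
    obtain ⟨hreg, hS0, hS1, hS2⟩ := hm₁ m (by omega)
    have hac := hm₂ m (by omega)
    have hEm : FlatMod.IsFinLocFree (tw i E (m : ℤ)) := isFinLocFree_tw i hE _
    haveI : (tw i E (m : ℤ)).IsQuasicoherent := (hX _ hEm).1
    have hLvb : ∀ k, FlatMod.IsFinLocFree (KRR.twF n Y (m : ℤ) (L.X k)) := fun k =>
      isFinLocFree_twF n Y (hL.finLocFree k) _
    have hpvb : ∀ k, FlatMod.IsFinLocFree ((Scheme.Modules.pushforward (KRR.pr n Y)).obj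
        (KRR.twF n Y (m : ℤ) (L.X k))) := fun k =>
      Groth.Agent.S3756.result n Y _ (hLvb k) (hreg k)
    show δY (eY.symm (b (a (φX (KRR.cl X (tw i E (m : ℤ))))))) =
      g (δX (KRR.cl X (tw i E (m : ℤ))))
    -- the class of `i_*(E ⊗ i^*O(m))`
    have e1 : ci.pushK hPe (KRR.cl X (tw i E (m : ℤ))) =
        ∑ k ∈ Finset.range (N' + 1), (-1 : ℤ) ^ k •
          KRR.cl (KRR.PY n Y) (KRR.twF n Y (m : ℤ) (L.X k)) := by
      apply (ci.eQ hPe).injective
      rw [ci.pushK_cl hPe _ hEm, map_sum]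
      obtain ⟨-, h2⟩ := clSub_map_eq_alt_sum (TwF n Y (m : ℤ))
        (fun S hS => shortExact_map_TwF n Y (m : ℤ) S hS)
        (fun N hN => (TwF n Y (m : ℤ)).map_isZero hN) ci.Q
        (P1_coker ci.t) ci.Q_zero L _ π (fun k => ci.le _ (hLvb k)) N' hL.isZero
      rw [← clSub_iso ci.Q ci.Q_zero (fun _ _ e h => P1_of_iso ci.t e h) (pushTwIso i E (m : ℤ))]
      refine h2.trans (Finset.sum_congr rfl (fun k _ => ?_))
      rw [map_zsmul, ci.eQ_cl hPe _ (hLvb k)]
      rfl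
    -- left-hand side
    have hL1 : δY (eY.symm (b (a (φX (KRR.cl X (tw i E (m : ℤ))))))) =
        ∑ k ∈ Finset.range (N' + 1), (-1 : ℤ) ^ k •
          KZero.clSub (fun M : Y.Modules => Coh.IsCoh M)
            ((Scheme.Modules.pushforward (KRR.pr n Y)).obj (KRR.twF n Y (m : ℤ) (L.X k))) := by
      have h3 : b (a (φX (KRR.cl X (tw i E (m : ℤ))))) =
          eY (∑ k ∈ Finset.range (N' + 1), (-1 : ℤ) ^ k •
            KRR.cl Y ((Scheme.Modules.pushforward (KRR.pr n Y)).obj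
              (KRR.twF n Y (m : ℤ) (L.X k)))) := by
        rw [ha', e1, map_sum, map_sum, map_sum]
        refine Finset.sum_congr rfl (fun k _ => ?_)
        rw [map_zsmul, map_zsmul, map_zsmul, hb _ (hLvb k) (hreg k)]
        rfl
      rw [h3, AddEquiv.symm_apply_apply, map_sum]
      refine Finset.sum_congr rfl (fun k _ => ?_)
      rw [map_zsmul, hδY _ (hpvb k)]
    -- Euler characteristic of the direct images of the twisted resolution
    have e2 : KZero.clSub (fun M : Y.Modules => Coh.IsCoh M)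
        ((Gm n Y (m : ℤ)).obj ((Scheme.Modules.pushforward i).obj E)) =
        ∑ k ∈ Finset.range (N' + 1), (-1 : ℤ) ^ k •
          KZero.clSub (fun M : Y.Modules => Coh.IsCoh M) ((Gm n Y (m : ℤ)).obj (L.X k)) := by
      obtain ⟨-, h3⟩ := clSub_map_eq_alt_sum_of_exact (Gm n Y (m : ℤ))
        (fun N hN => (Gm n Y (m : ℤ)).map_isZero hN) (fun M : Y.Modules => Coh.IsCoh M)
        (fun S hS h1 h2 => coh_coker S hS h1 h2) cohY0 L _ π hS0 hS1 hS2
        (fun k => hY _ (hpvb k)) N' hL.isZero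
      exact h3
    -- right-hand side
    have hvan : ∀ q, 0 < q → IsZero ((Coh.Rpush (i ≫ KRR.pr n Y) q).obj (tw i E (m : ℤ))) :=
      fun q hq => isZero_rpush_comp_of_isZero_rpushAb i (KRR.pr n Y) _ q hq
        (acyc_of_iso (pushTwIso i E (m : ℤ)) hac q hq)
    have hR : g (δX (KRR.cl X (tw i E (m : ℤ)))) =
        KZero.clSub (fun M : Y.Modules => Coh.IsCoh M)
          ((Gm n Y (m : ℤ)).obj ((Scheme.Modules.pushforward i).obj E)) := by
      rw [hδX _ hEm, hg.2 _ (hX _ hEm), Finset.sum_eq_single 0]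
      · rw [pow_zero, one_smul]
        let e : (Coh.Rpush (i ≫ KRR.pr n Y) 0).obj (tw i E (m : ℤ)) ≅
            (Gm n Y (m : ℤ)).obj ((Scheme.Modules.pushforward i).obj E) :=
          (Scheme.Modules.pushforward (i ≫ KRR.pr n Y)).rightDerivedZeroIsoSelf.app _ ≪≫
            ((Scheme.Modules.pushforwardComp i (KRR.pr n Y)).app _).symm ≪≫
            (Scheme.Modules.pushforward (KRR.pr n Y)).mapIso (pushTwIso i E (m : ℤ)).symm
        exact clSub_iso (fun M : Y.Modules => Coh.IsCoh M) cohY0 cohYiso e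
      · intro q _ hq0
        rw [clSub_zero (fun M : Y.Modules => Coh.IsCoh M) cohY0 _
          (hvan q (Nat.pos_of_ne_zero hq0)), smul_zero]
      · intro h
        exact absurd (Finset.mem_range.2 (Nat.succ_pos N)) h
    rw [hL1, hR, e2]
    rfl
  have hy : y = eY.symm (b (a (φX x))) := by
    apply eY.injective
    rw [AddEquiv.apply_symm_apply]
    exact hxy
  have hx : x ∈ h1.eqLocus h2 := by rw [hT]; trivial
  rw [hy]
  exact hx

end

end Groth.Agent.Lib.Helper20.PoincarePush
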