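import Mathlib

/-!
# helper20: the algebra behind "projectively normal ⇒ `S_d = Γ(Proj S, O(d))`"

`core`: `A` a Noetherian integrally closed `ℕ`-graded domain generated in degree one with `A_1 ≠ 0`,
`a₀, t₀ ∈ A`, `t₀ ≠ 0`, such that every point `x` of `Proj` has a homogeneous denominator `t ∉ x`
with `t · (a₀ / t₀)` homogeneous of degree `deg t + d`.  Then `a₀ / t₀ ∈ A_d`.
-/

set_option autoImplicit false
universe u
open DirectSum

namespace Groth.Agent.Lib.helper20.ProjNormal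

variable {R A : Type u} [CommRing R] [CommRing A] [IsDomain A] [Algebra R A]
  (𝒜 : ℕ → Submodule R A) [GradedAlgebra 𝒜]

/-- the ideal of denominators of `a₀ / t₀` in degree `d` -/
def denom (a₀ t₀ : A) (d : ℕ) : Ideal A where
  carrier := {u | ∀ n, ∃ c ∈ 𝒜 (n + d), c * t₀ = (decompose 𝒜 u n : A) * a₀}
  zero_mem' := fun n => ⟨0, Submodule.zero_mem _, by simp⟩
  add_mem' := by
    intro u v hu hv n
    obtain ⟨c, hc, hc'⟩ := hu n
    obtain ⟨c', hc2, hc2'⟩ := hv n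
    refine ⟨c + c', Submodule.add_mem _ hc hc2, ?_⟩
    rw [decompose_add, DirectSum.add_apply, Submodule.coe_add, add_mul, add_mul, hc', hc2']
  smul_mem' := by
    classical
    intro r u hu
    induction r using DirectSum.Decomposition.inductionOn 𝒜 with
    | zero =>
      intro n
      exact ⟨0, Submodule.zero_mem _, by simp⟩
    | homogeneous m =>
      rename_i i
      intro n
      rw [smul_eq_mul, DirectSum.coe_decompose_mul_of_left_mem 𝒜 n m.2]
      by_cases hin : i ≤ n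
      · rw [if_pos hin]
        obtain ⟨c, hc, hc'⟩ := hu (n - i)
        refine ⟨(m : A) * c, ?_, ?_⟩
        · have : n + d = i + (n - i + d) := by omega
          rw [this]
          exact SetLike.mul_mem_graded m.2 hc
        · rw [mul_assoc, hc', mul_assoc]
      · rw [if_neg hin]
        exact ⟨0, Submodule.zero_mem _, by simp⟩
    | add r r' hr hr' =>
      intro n
      obtain ⟨c, hc, hc'⟩ := hr n
      obtain ⟨c', hc2, hc2'⟩ := hr' n
      refine ⟨c + c', Submodule.add_mem _ hc hc2, ?_⟩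
      rw [add_smul, decompose_add, DirectSum.add_apply, Submodule.coe_add, add_mul, add_mul, hc',
        hc2']

lemma mem_denom (a₀ t₀ : A) (d : ℕ) (u : A) :
    u ∈ denom 𝒜 a₀ t₀ d ↔ ∀ n, ∃ c ∈ 𝒜 (n + d), c * t₀ = (decompose 𝒜 u n : A) * a₀ := Iff.rfl

lemma homogeneous_mem_denom (a₀ t₀ : A) (d : ℕ) {j : ℕ} {t : A} (ht : t ∈ 𝒜 j) :
    t ∈ denom 𝒜 a₀ t₀ d ↔ ∃ c ∈ 𝒜 (j + d), c * t₀ = t * a₀ := by
  classical
  rw [mem_denom]
  constructor
  · intro h
    obtain ⟨c, hc, hc'⟩ := h j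
    rw [decompose_of_mem_same 𝒜 ht] at hc'
    exact ⟨c, hc, hc'⟩
  · rintro ⟨c, hc, hc'⟩ n
    by_cases hn : j = n
    · subst hn
      rw [decompose_of_mem_same 𝒜 ht]
      exact ⟨c, hc, hc'⟩
    · rw [decompose_of_mem_ne 𝒜 ht hn]
      exact ⟨0, Submodule.zero_mem _, by simp⟩

lemma denom_isHomogeneous (a₀ t₀ : A) (d : ℕ) : (denom 𝒜 a₀ t₀ d).IsHomogeneous 𝒜 := by
  classical
  intro i u hu
  rw [homogeneous_mem_denom 𝒜 a₀ t₀ d (decompose 𝒜 u i).2]
  exact hu i

theorem core [IsNoetherianRing A] (hgen : ∀ i : ℕ, 𝒜 1 * 𝒜 i = 𝒜 (i + 1)) (h1 : 𝒜 1 ≠ ⊥)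
    (hint : IsIntegrallyClosed A) (d : ℕ) (a₀ t₀ : A) (ht₀ : t₀ ≠ 0)
    (H : ∀ x : ProjectiveSpectrum 𝒜, ∃ (j : ℕ) (t : A), t ∈ 𝒜 j ∧ t ∉ x.asHomogeneousIdeal ∧
      ∃ c ∈ 𝒜 (j + d), c * t₀ = t * a₀) :
    ∃ b ∈ 𝒜 d, b * t₀ = a₀ := by
  classical
  -- Step 2/3: `𝒜 1 ⊆ rad (denom)`
  have hhom := denom_isHomogeneous 𝒜 a₀ t₀ d
  have hrad : Ideal.span (𝒜 1 : Set A) ≤ (denom 𝒜 a₀ t₀ d).radical := by
    rw [Ideal.span_le]
    intro f hf
    rw [SetLike.mem_coe, hhom.radical_eq, Ideal.mem_sInf]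
    rintro J ⟨hJhom, hIJ, hJprime⟩
    by_contra hfJ
    have hirr : ¬ HomogeneousIdeal.irrelevant 𝒜 ≤ (⟨J, hJhom⟩ : HomogeneousIdeal 𝒜) := by
      intro hle
      apply hfJ
      have : f ∈ HomogeneousIdeal.irrelevant 𝒜 := by
        rw [HomogeneousIdeal.mem_irrelevant_iff, GradedRing.proj_apply,
          decompose_of_mem_ne 𝒜 hf one_ne_zero]
      exact hle this
    obtain ⟨j, t, htj, htx, c, hc, hc'⟩ := H ⟨⟨J, hJhom⟩, hJprime, hirr⟩
    exact htx (hIJ ((homogeneous_mem_denom 𝒜 a₀ t₀ d htj).mpr ⟨c, hc, hc'⟩))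
  obtain ⟨m, hm⟩ := Ideal.exists_pow_le_of_le_radical_of_fg hrad
    (IsNoetherian.noetherian _)
  -- `𝒜 n ⊆ J₁ ^ n`
  have hpow : ∀ n : ℕ, ∀ u ∈ 𝒜 n, u ∈ Ideal.span (𝒜 1 : Set A) ^ n := by
    intro n
    induction n with
    | zero =>
      intro u _
      rw [pow_zero, Ideal.one_eq_top]
      exact Submodule.mem_top
    | succ n ih =>
      intro u hu
      rw [← hgen n] at hu
      refine Submodule.mul_induction_on hu ?_ ?_
      · intro f hf g hg
        rw [pow_succ']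
        exact Ideal.mul_mem_mul (Ideal.subset_span hf) (ih g hg)
      · intro x y hx hy
        exact Ideal.add_mem _ hx hy
  -- Step 4: homogeneous elements of large degree are denominators
  have hlarge : ∀ n, m ≤ n → ∀ u ∈ 𝒜 n, ∃ c ∈ 𝒜 (n + d), c * t₀ = u * a₀ := by
    intro n hn u hu
    have h1 : u ∈ denom 𝒜 a₀ t₀ d := hm (Ideal.pow_le_pow_right hn (hpow n u hu))
    exact (homogeneous_mem_denom 𝒜 a₀ t₀ d hu).mp h1
  -- Step 5: powers
  have hpowers : ∀ k : ℕ, ∀ n, m ≤ n → ∀ u ∈ 𝒜 n, ∃ c ∈ 𝒜 (n + k * d), c * t₀ ^ k = u * a₀ ^ k := by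
    intro k
    induction k with
    | zero =>
      intro n _ u hu
      exact ⟨u, by simpa using hu, by simp⟩
    | succ k ih =>
      intro n hn u hu
      obtain ⟨c, hc, hc'⟩ := ih n hn u hu
      obtain ⟨c', hc2, hc2'⟩ := hlarge (n + k * d) (by omega) c hc
      refine ⟨c', ?_, ?_⟩
      · have : n + (k + 1) * d = n + k * d + d := by ring
        rw [this]
        exact hc2
      · rw [pow_succ, pow_succ, ← mul_assoc u, ← hc', mul_comm (t₀ ^ k) t₀, ← mul_assoc c', hc2']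
        ring
  -- Step 6: a nonzero element of degree `m`
  obtain ⟨f, hf, hf0⟩ : ∃ f ∈ 𝒜 1, f ≠ 0 := by
    by_contra hcon
    push Not at hcon
    apply h1
    rw [Submodule.eq_bot_iff]
    exact hcon
  have hw : f ^ m ∈ 𝒜 m := by
    have := SetLike.pow_mem_graded m hf
    simpa using this
  have hw0 : f ^ m ≠ 0 := pow_ne_zero m hf0
  -- almost integrality
  let K := FractionRing A
  let z : K := algebraMap A K a₀ / algebraMap A K t₀
  have ht₀K : algebraMap A K t₀ ≠ 0 := by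
    intro h
    exact ht₀ ((IsFractionRing.injective A K) (h.trans (map_zero _).symm))
  have halm : IsAlmostIntegral A z := by
    refine ⟨f ^ m, mem_nonZeroDivisors_of_ne_zero hw0, fun k => ?_⟩
    obtain ⟨c, -, hc⟩ := hpowers k m le_rfl (f ^ m) hw
    refine ⟨c, ?_⟩
    show algebraMap A K c = f ^ m • z ^ k
    rw [Algebra.smul_def, div_pow, ← mul_div_assoc, eq_div_iff (pow_ne_zero k ht₀K),
      ← map_pow, ← map_pow, ← map_mul, ← map_mul, hc]
  have hintz : IsIntegral A z := halm.isIntegral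
  obtain ⟨b, hb⟩ := IsIntegrallyClosed.algebraMap_eq_of_integral hintz
  have hbt : b * t₀ = a₀ := by
    apply IsFractionRing.injective A K
    rw [map_mul, hb]
    exact div_mul_cancel₀ _ ht₀K
  refine ⟨b, ?_, hbt⟩
  -- Step 7: `b` is homogeneous of degree `d`
  obtain ⟨c, hc, hc'⟩ := hlarge m le_rfl (f ^ m) hw
  have hcb : c = f ^ m * b := by
    apply mul_right_cancel₀ ht₀
    rw [hc', mul_assoc, hbt]
  have hcomp : ∀ k, k ≠ d → (decompose 𝒜 b k : A) = 0 := by
    intro k hk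
    have h2 : (decompose 𝒜 (f ^ m * b) (m + k) : A) = 0 := by
      rw [← hcb]
      exact decompose_of_mem_ne 𝒜 hc (by omega)
    rw [DirectSum.coe_decompose_mul_of_left_mem 𝒜 (m + k) hw, if_pos (Nat.le_add_right m k),
      Nat.add_sub_cancel_left] at h2
    exact (mul_eq_zero.mp h2).resolve_left hw0
  rw [← DirectSum.sum_support_decompose 𝒜 b]
  refine Submodule.sum_mem _ fun i _ => ?_
  by_cases hi : i = d
  · subst hi
    exact (decompose 𝒜 b i).2
  · rw [hcomp i hi]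
    exact Submodule.zero_mem _

end Groth.Agent.Lib.helper20.ProjNormal
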