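import Mathlib
import Groth.Agent.S0843
import Groth.Agent.S0844
import Groth.Agent.S0845
import Groth.Agent.Lib.Helper20.HomogRank

/-!
# All cohomology groups of `O(d)` on `ℙⁿ_R` are finite `R`-modules (helper20; LT21 piece P2)
-/

set_option autoImplicit false

universe u

namespace Groth.Agent.Lib.Helper20.ProjTwistFinite

open MvPolynomial

/-- the module of homogeneous polynomials of given degree in finitely many variables is finite -/
instance finite_homogeneousSubmodule (R : Type u) [CommRing R] (r m : ℕ) :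
    Module.Finite R ↥(homogeneousSubmodule (Fin (r + 1)) R m) := by
  let e : ↥(homogeneousSubmodule (Fin (r + 1)) R m) ≃ₗ[R]
      (↥({s : Fin (r + 1) →₀ ℕ | s.degree = m} : Set (Fin (r + 1) →₀ ℕ)) →₀ R) :=
    (LinearEquiv.ofEq _ _ (homogeneousSubmodule_eq_finsupp_supported (Fin (r + 1)) R m)).trans
      (AddMonoidAlgebra.supportedEquivFinsupp _)
  haveI : Fintype ↥({s : Fin (r + 1) →₀ ℕ | s.degree = m} : Set (Fin (r + 1) →₀ ℕ)) :=
    Groth.Agent.Lib.Helper20.HomogRank.fintypeMon r m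
  exact Module.Finite.equiv e.symm

/-- **Every cohomology group `H^q(ℙⁿ_R, O(d))` is a finite `R`-module** (any ring `R`). -/
theorem finite_HH_twist (n : ℕ) (R : Type u) [CommRing R] (d : ℤ) (q : ℕ) :
    Module.Finite R (Coh.HH (CohB1.ProjSpace n R) (Twist.twistProjSpace n R d) q) := by
  by_cases h₀ : q = 0 ∧ 0 ≤ d
  · obtain ⟨rfl, hd⟩ := h₀
    obtain ⟨d', rfl⟩ := Int.eq_ofNat_of_zero_le hd
    obtain ⟨e⟩ := Groth.Agent.S0843.result R n d'
    exact Module.Finite.equiv e.symm
  · by_cases hn : q = n ∧ d ≤ -((n : ℤ) + 1)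
    · obtain ⟨rfl, hd⟩ := hn
      obtain ⟨k, rfl⟩ : ∃ k : ℕ, d = -((q : ℤ) + 1 + k) := ⟨(-d - q - 1).toNat, by omega⟩
      obtain ⟨e⟩ := Groth.Agent.S0845.result R q k
      exact Module.Finite.equiv e.symm
    · haveI := Groth.Agent.S0844.result R n d q h₀ hn
      infer_instance

end Groth.Agent.Lib.Helper20.ProjTwistFinite
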