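import Mathlib
import Groth.Agent.Lib.Helper3.ValFp4

/-!
# Coherence over Prüfer domains: kernels and restriction of scalars (helper20)

`R` a Prüfer domain (all localizations at primes are valuation rings), `A` a finitely presented
`R`-algebra.

* `flat_of_torsionFree` : torsion-free `R`-modules are flat.
* `fp_of_torsionFree` : a finite `A`-module which is `R`-torsion-free is finitely presented.
* `fp_ker` : if `A` is `R`-torsion-free, the kernel of a surjection of finitely presented
  `A`-modules is finitely presented.
* `fp_of_surjective` : `A → B` surjective with `B` torsion-free over `R`; finitely presented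
  `B`-modules are finitely presented over `A`.
-/

set_option autoImplicit false
universe u

namespace Groth.Agent.Lib.Helper20.PruferCoh

variable {R : Type u} [CommRing R] [IsDomain R]
  (hR : ∀ (p : Ideal R) [p.IsPrime], ValuationRing (Localization.AtPrime p))
include hR

/-- over a Prüfer domain torsion-free modules are flat. -/
theorem flat_of_torsionFree {M : Type*} [AddCommGroup M] [Module R M]
    (h : ∀ r : R, r ≠ 0 → ∀ x : M, r • x = 0 → x = 0) : Module.Flat R M := by
  rw [Module.Flat.flat_iff_torsion_eq_bot_of_valuationRing_localization_isMaximal
    (fun P hP => hR P)]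
  rw [eq_bot_iff]
  rintro x ⟨⟨r, hr⟩, hx⟩
  exact h r (nonZeroDivisors.ne_zero hr) x hx

/-- a finite module over a finitely presented algebra over a Prüfer domain which is torsion-free
over the base is finitely presented. -/
theorem fp_of_torsionFree {A M : Type u} [CommRing A] [Algebra R A]
    [Algebra.FinitePresentation R A] [AddCommGroup M] [Module A M] [Module R M]
    [IsScalarTower R A M] [Module.Finite A M]
    (h : ∀ r : R, r ≠ 0 → ∀ x : M, r • x = 0 → x = 0) : Module.FinitePresentation A M := by
  haveI := flat_of_torsionFree hR h
  exact Groth.Agent.Lib.helper3.ValFp.finitePresentation_of_flat_prufer hR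

/-- kernels of surjections of finitely presented modules over a torsion-free finitely presented
algebra over a Prüfer domain are finitely presented. -/
theorem fp_ker {A : Type u} [CommRing A] [Algebra R A] [Algebra.FinitePresentation R A]
    (hA : ∀ r : R, r ≠ 0 → ∀ a : A, algebraMap R A r * a = 0 → a = 0)
    {M N : Type u} [AddCommGroup M] [Module A M] [AddCommGroup N] [Module A N]
    [Module.FinitePresentation A M] [Module.FinitePresentation A N] (f : M →ₗ[A] N)
    (hf : Function.Surjective f) : Module.FinitePresentation A (LinearMap.ker f) := by
  classical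
  obtain ⟨b, p, hp⟩ := Module.Finite.exists_fin' A M
  set g : (Fin b → A) →ₗ[A] N := f ∘ₗ p with hg
  have hgs : Function.Surjective g := hf.comp hp
  have hK : (LinearMap.ker g).FG := Module.FinitePresentation.fg_ker g hgs
  haveI : Module.Finite A (LinearMap.ker g) := Module.Finite.iff_fg.mpr hK
  have htf : ∀ r : R, r ≠ 0 → ∀ x : LinearMap.ker g, r • x = 0 → x = 0 := by
    intro r hr x hx
    apply Subtype.ext
    funext i
    have h1 : (r • (x : Fin b → A)) i = 0 := by
      have := congrArg (fun y : LinearMap.ker g => (y : Fin b → A) i) hx
      simpa using this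
    have h2 : algebraMap R A r * (x : Fin b → A) i = 0 := by
      rw [← Algebra.smul_def]
      simpa using h1
    simpa using hA r hr _ h2
  haveI : Module.FinitePresentation A (LinearMap.ker g) := fp_of_torsionFree hR htf
  -- the map `ker g → ker f`
  let q : LinearMap.ker g →ₗ[A] LinearMap.ker f :=
    (p.domRestrict (LinearMap.ker g)).codRestrict (LinearMap.ker f) (fun x => by
      have := x.2
      rw [LinearMap.mem_ker] at this ⊢
      exact this)
  have hq : Function.Surjective q := by
    rintro ⟨y, hy⟩
    obtain ⟨x, rfl⟩ := hp y
    exact ⟨⟨x, by rw [LinearMap.mem_ker] at hy ⊢; exact hy⟩, rfl⟩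
  refine Module.finitePresentation_of_surjective q hq ?_
  have hkp : (LinearMap.ker p).FG := Module.FinitePresentation.fg_ker p hp
  have hle : LinearMap.ker p ≤ LinearMap.ker g := by
    intro x hx
    rw [LinearMap.mem_ker] at hx ⊢
    rw [hg, LinearMap.comp_apply, hx, map_zero]
  have h3 : LinearMap.ker q = Submodule.map (Submodule.inclusion hle) ⊤ := by
    ext x
    constructor
    · intro hx
      rw [LinearMap.mem_ker] at hx
      have hx' : p (x : Fin b → A) = 0 := congrArg Subtype.val hx
      exact ⟨⟨x, hx'⟩, trivial, Subtype.ext rfl⟩
    · rintro ⟨y, -, rfl⟩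
      rw [LinearMap.mem_ker]
      apply Subtype.ext
      exact y.2
  rw [h3]
  haveI : Module.Finite A (LinearMap.ker p) := Module.Finite.iff_fg.mpr hkp
  exact Submodule.FG.map _ (Module.Finite.fg_top)

/-- finitely presented modules over a torsion-free quotient `B` of a finitely presented algebra `A`
over a Prüfer domain are finitely presented over `A`. -/
theorem fp_of_surjective {A B : Type u} [CommRing A] [CommRing B] [Algebra R A]
    [Algebra.FinitePresentation R A] [Algebra R B] [Algebra A B] [IsScalarTower R A B]
    (hsurj : Function.Surjective (algebraMap A B))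
    (hB : ∀ r : R, r ≠ 0 → ∀ b : B, algebraMap R B r * b = 0 → b = 0)
    {N : Type u} [AddCommGroup N] [Module B N] [Module A N] [IsScalarTower A B N]
    [Module.FinitePresentation B N] : Module.FinitePresentation A N := by
  haveI : Module.Finite A B := Module.Finite.of_surjective (Algebra.linearMap A B) hsurj
  haveI : Module.FinitePresentation A B := by
    refine fp_of_torsionFree hR (fun r hr b hb => hB r hr b ?_)
    rw [← Algebra.smul_def]
    exact hb
  exact Module.FinitePresentation.trans A N B

end Groth.Agent.Lib.Helper20.PruferCoh
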