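import Mathlib
import Groth.Agent.Lib.Helper20.PruferCoh1
import Groth.Agent.Lib.Helper16.CohFP
import Groth.Agent.Lib.Helper16.CohFinite
import Groth.Agent.Lib.Helper16.QCohEpi
import Groth.Agent.Lib.Helper7.CohKer
import Groth.Agent.Lib.Helper7.KerSections

/-!
# Finitely presented modules on flat l.f.p. schemes over a Prüfer domain (helper20)

`g : Y ⟶ Spec R` flat and locally of finite presentation, `R` a Prüfer domain.

* `secHom g U : R →+* Γ(Y, U)`, flat (`flat_secHom`) and of finite presentation (`fp_secHom`) for `U`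
  affine; `secHom_comp`.
* `isFP_kernel` : the kernel of an epimorphism of finitely presented `O_Y`-modules is finitely
  presented.
-/

set_option autoImplicit false
universe u

open CategoryTheory CategoryTheory.Limits AlgebraicGeometry Opposite TopologicalSpace

namespace Groth.Agent.Lib.Helper20.PruferCoh

section SecHom

variable {R : Type u} [CommRing R] {X Y : Scheme.{u}} (g : Y ⟶ Spec (CommRingCat.of R))

/-- the structure map `R → Γ(Y, U)` -/
noncomputable def secHom (U : Y.Opens) : R →+* Γ(Y, U) :=
  (g.appLE ⊤ U le_top).hom.comp (Scheme.ΓSpecIso (CommRingCat.of R)).inv.hom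

theorem bijective_ΓSpecIso_inv :
    Function.Bijective (Scheme.ΓSpecIso (CommRingCat.of R)).inv.hom :=
  ConcreteCategory.bijective_of_isIso (Scheme.ΓSpecIso (CommRingCat.of R)).inv

theorem flat_secHom [Flat g] {U : Y.Opens} (hU : IsAffineOpen U) : (secHom g U).Flat := by
  have h1 : (g.appLE ⊤ U le_top).hom.Flat :=
    HasRingHomProperty.appLE (P := @Flat) g inferInstance
      ⟨⊤, isAffineOpen_top (Spec (CommRingCat.of R))⟩ ⟨U, hU⟩ le_top
  exact RingHom.Flat.comp (RingHom.Flat.of_bijective bijective_ΓSpecIso_inv) h1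

theorem fp_secHom [LocallyOfFinitePresentation g] {U : Y.Opens} (hU : IsAffineOpen U) :
    (secHom g U).FinitePresentation := by
  have h1 : (g.appLE ⊤ U le_top).hom.FinitePresentation :=
    HasRingHomProperty.appLE (P := @LocallyOfFinitePresentation) g inferInstance
      ⟨⊤, isAffineOpen_top (Spec (CommRingCat.of R))⟩ ⟨U, hU⟩ le_top
  exact RingHom.FinitePresentation.comp h1
    (RingHom.FinitePresentation.of_bijective bijective_ΓSpecIso_inv)

theorem secHom_comp (ι : X ⟶ Y) (U : Y.Opens) :
    secHom (ι ≫ g) (ι ⁻¹ᵁ U) = (ι.app U).hom.comp (secHom g U) := by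
  unfold secHom
  rw [← RingHom.comp_assoc]
  congr 1
  have h := Scheme.Hom.appLE_comp_appLE ι g ⊤ U (ι ⁻¹ᵁ U) le_top le_rfl
  rw [Scheme.Hom.appLE_eq_app] at h
  rw [← CommRingCat.hom_comp, h]

/-- a flat ring map from a domain is torsion-free -/
theorem torsionFree_of_flat [IsDomain R] {A : Type u} [CommRing A] (φ : R →+* A) (hφ : φ.Flat)
    (r : R) (hr : r ≠ 0) (a : A) (h : φ r * a = 0) : a = 0 := by
  letI := φ.toAlgebra
  haveI : Module.Flat R A := hφ
  have h1 : IsSMulRegular A r :=
    Module.Flat.isSMulRegular_of_nonZeroDivisors (mem_nonZeroDivisors_of_ne_zero hr)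
  apply h1
  change r • a = r • (0 : A)
  rw [smul_zero, Algebra.smul_def]
  exact h

end SecHom

section Kernel

variable {R : Type u} [CommRing R] [IsDomain R]
  (hR : ∀ (p : Ideal R) [p.IsPrime], ValuationRing (Localization.AtPrime p))
  {Y : Scheme.{u}} (g : Y ⟶ Spec (CommRingCat.of R)) [Flat g] [LocallyOfFinitePresentation g]

include hR g in
/-- **coherence**: on a flat, locally finitely presented scheme over a Prüfer domain, the kernel of
an epimorphism of finitely presented modules is finitely presented. -/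
theorem isFP_kernel {E F : Y.Modules} (hE : CohB1.IsFP E) (hF : CohB1.IsFP F) (π : E ⟶ F) [Epi π] :
    CohB1.IsFP (kernel π) := by
  haveI : E.IsQuasicoherent := by
    haveI : SheafOfModules.IsFinitePresentation (R := Y.ringCatSheaf) E := hE
    infer_instance
  haveI : F.IsQuasicoherent := by
    haveI : SheafOfModules.IsFinitePresentation (R := Y.ringCatSheaf) F := hF
    infer_instance
  haveI hK : (kernel π).IsQuasicoherent :=
    Groth.Agent.Lib.helper7.CohKer.isQuasicoherent_kernel π
  refine Groth.Agent.Lib.helper16.CohFinite.isFinitePresentation_of_fp_sections (kernel π)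
    (fun U : Y.affineOpens => U.1) (fun U => U.2) (iSup_affineOpens_eq_top Y) (fun U => ?_)
  haveI fpE : Module.FinitePresentation Γ(Y, U.1) Γ(E, U.1) :=
    Groth.Agent.Lib.helper16.CohFP.fp_sections_of_isFinitePresentation E hE U.2
  haveI fpF : Module.FinitePresentation Γ(Y, U.1) Γ(F, U.1) :=
    Groth.Agent.Lib.helper16.CohFP.fp_sections_of_isFinitePresentation F hF U.2
  let P : Γ(E, U.1) →ₗ[Γ(Y, U.1)] Γ(F, U.1) :=
    { toFun := fun m => (π.app U.1).hom m
      map_add' := fun a b => map_add (π.app U.1).hom a b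
      map_smul' := fun r m => Scheme.Modules.Hom.app_smul π r m }
  have hP : Function.Surjective P :=
    Groth.Agent.Lib.helper16.QCohEpi.surjective_app_of_epi π U.2
  let κ : Γ(kernel π, U.1) →ₗ[Γ(Y, U.1)] Γ(E, U.1) :=
    { toFun := fun k => ((kernel.ι π).app U.1).hom k
      map_add' := fun a b => map_add ((kernel.ι π).app U.1).hom a b
      map_smul' := fun r m => Scheme.Modules.Hom.app_smul (kernel.ι π) r m }
  have hκinj : Function.Injective κ :=
    Groth.Agent.Lib.helper7.KerSections.kernel_ι_app_injective π U.1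
  have hκrange : LinearMap.range κ = LinearMap.ker P := by
    ext m
    have := Set.ext_iff.mp (Groth.Agent.Lib.helper7.KerSections.range_kernel_ι_app π U.1) m
    exact this
  let e : Γ(kernel π, U.1) ≃ₗ[Γ(Y, U.1)] LinearMap.ker P :=
    (LinearEquiv.ofInjective κ hκinj).trans (LinearEquiv.ofEq _ _ hκrange)
  letI : Algebra R Γ(Y, U.1) := (secHom g U.1).toAlgebra
  haveI : Algebra.FinitePresentation R Γ(Y, U.1) := fp_secHom g U.2
  haveI : Module.FinitePresentation Γ(Y, U.1) (LinearMap.ker P) :=
    fp_ker hR (fun r hr a h => torsionFree_of_flat (secHom g U.1) (flat_secHom g U.2) r hr a h)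
      P hP
  exact Module.FinitePresentation.of_equiv e.symm

end Kernel

end Groth.Agent.Lib.Helper20.PruferCoh
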