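import Mathlib
import Groth.Agent.Lib.Helper20.PruferCoh2
import Groth.Agent.Lib.Helper20.FlatPn
import Groth.Agent.Lib.Helper16.QCohAffinePush

/-!
# `P^n_R → Spec R` is locally of finite presentation; pushforward of f.p. modules along closed
immersions of flat schemes over Prüfer domains (helper20)

* `lfp_toSpec` : `LocallyOfFinitePresentation (CohB1.ProjSpace.toSpec n R)`.
* `isFP_push` : `ι : X ⟶ Y` a closed immersion, `g : Y ⟶ Spec R` locally of finite presentation,
  `ι ≫ g` flat, `R` Prüfer; then `ι_*` preserves finitely presented modules.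
-/

set_option autoImplicit false
universe u

open CategoryTheory CategoryTheory.Limits AlgebraicGeometry Opposite TopologicalSpace MvPolynomial

namespace Groth.Agent.Lib.Helper20.PruferCoh

section Lfp

variable (n : ℕ) (R : Type u) [CommRing R]

theorem fp_cHom (i : Fin (n + 1)) :
    (Groth.Agent.Lib.Helper18.ProjChart.cHom n R i).FinitePresentation := by
  have h1 : Groth.Agent.Lib.Helper18.ProjChart.cHom n R i =
      ((Groth.Agent.Lib.Helper18.ProjChart.chartEquiv n R i : _ →+* _)).comp
        (C : R →+* MvPolynomial (Groth.Agent.Lib.Helper18.ProjChart.Idx n i) R) := by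
    ext r
    simp [Groth.Agent.Lib.Helper18.ProjChart.chartEquiv, Groth.Agent.Lib.Helper18.ProjChart.Φ]
  rw [h1]
  refine RingHom.FinitePresentation.comp
    (RingHom.FinitePresentation.of_bijective
      (Groth.Agent.Lib.Helper18.ProjChart.chartEquiv n R i).bijective) ?_
  exact (RingHom.finitePresentation_algebraMap (A := R)
    (B := MvPolynomial (Groth.Agent.Lib.Helper18.ProjChart.Idx n i) R)).mpr inferInstance

set_option backward.isDefEq.respectTransparency.types false in
theorem lfp_aux : LocallyOfFinitePresentation (X := Proj (CohB1.polyGrading n R))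
    (Y := Spec (CommRingCat.of R))
    (Proj.toSpecZero (CohB1.polyGrading n R) ≫
      Spec.map (CommRingCat.ofHom (algebraMap R (CohB1.polyGrading n R 0)))) := by
  have hcov : ⨆ i : Fin (n + 1), Proj.basicOpen (CohB1.polyGrading n R)
      (X i : MvPolynomial (Fin (n + 1)) R) = ⊤ := by
    refine top_le_iff.mp (fun x _ => ?_)
    obtain ⟨a, ha⟩ := Groth.Agent.Lib.helper28.TwistPn.exists_X_notMem n R x
    exact TopologicalSpace.Opens.mem_iSup.mpr
      ⟨a, (ProjectiveSpectrum.mem_basicOpen (CohB1.polyGrading n R) _ x).mpr ha⟩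
  rw [IsZariskiLocalAtSource.iff_of_iSup_eq_top (P := @LocallyOfFinitePresentation) _ hcov]
  intro i
  rw [← MorphismProperty.cancel_left_of_respectsIso (P := @LocallyOfFinitePresentation)
    (Proj.basicOpenIsoSpec (CohB1.polyGrading n R) (X i : MvPolynomial (Fin (n + 1)) R)
      (Groth.Agent.Lib.helper28.TwistPn.X_mem n R i) one_pos).inv, ← Category.assoc, ← Category.assoc,
    ← Proj.awayι, Proj.awayι_toSpecZero, ← Spec.map_comp,
    HasRingHomProperty.Spec_iff (P := @LocallyOfFinitePresentation)]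
  exact fp_cHom n R i

instance lfp_toSpec : LocallyOfFinitePresentation (CohB1.ProjSpace.toSpec n R) := lfp_aux n R

end Lfp

section Push

variable {R : Type u} [CommRing R] [IsDomain R]
  (hR : ∀ (p : Ideal R) [p.IsPrime], ValuationRing (Localization.AtPrime p))
  {X Y : Scheme.{u}} (ι : X ⟶ Y) [IsClosedImmersion ι]
  (g : Y ⟶ Spec (CommRingCat.of R)) [LocallyOfFinitePresentation g] [Flat (ι ≫ g)]

open Groth.Agent.Lib.helper16.QCohPush in
include hR g in
/-- sections of the pushforward of a finitely presented module along a closed immersion of a flat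
scheme are finitely presented -/
theorem fp_push_sections (F : X.Modules) {V : Y.Opens} (hV : IsAffineOpen V)
    (h : Module.FinitePresentation Γ(X, ι ⁻¹ᵁ V) Γ(F, ι ⁻¹ᵁ V)) :
    Module.FinitePresentation Γ(Y, V) Γ(push ι F, V) := by
  letI : Algebra R Γ(Y, V) := (secHom g V).toAlgebra
  haveI : Algebra.FinitePresentation R Γ(Y, V) := fp_secHom g hV
  letI : Algebra R Γ(X, ι ⁻¹ᵁ V) := (secHom (ι ≫ g) (ι ⁻¹ᵁ V)).toAlgebra
  letI : Algebra Γ(Y, V) Γ(X, ι ⁻¹ᵁ V) := (ι.app V).hom.toAlgebra
  haveI : IsScalarTower R Γ(Y, V) Γ(X, ι ⁻¹ᵁ V) :=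
    IsScalarTower.of_algebraMap_eq (fun r => by
      change secHom (ι ≫ g) (ι ⁻¹ᵁ V) r = (ι.app V).hom (secHom g V r)
      rw [secHom_comp]
      rfl)
  have hsurj : Function.Surjective (algebraMap Γ(Y, V) Γ(X, ι ⁻¹ᵁ V)) := ι.app_surjective V hV
  have hB : ∀ r : R, r ≠ 0 → ∀ b : Γ(X, ι ⁻¹ᵁ V), algebraMap R Γ(X, ι ⁻¹ᵁ V) r * b = 0 → b = 0 :=
    fun r hr b hb => torsionFree_of_flat (secHom (ι ≫ g) (ι ⁻¹ᵁ V))
      (flat_secHom (ι ≫ g) (hV.preimage ι)) r hr b hb
  letI : Module Γ(X, ι ⁻¹ᵁ V) Γ(push ι F, V) :=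
    inferInstanceAs (Module Γ(X, ι ⁻¹ᵁ V) Γ(F, ι ⁻¹ᵁ V))
  haveI : Module.FinitePresentation Γ(X, ι ⁻¹ᵁ V) Γ(push ι F, V) := h
  haveI : IsScalarTower Γ(Y, V) Γ(X, ι ⁻¹ᵁ V) Γ(push ι F, V) :=
    ⟨fun a b m => by
      change ((ι.app V).hom a * b) • (show Γ(F, ι ⁻¹ᵁ V) from m) =
        (ι.app V).hom a • (b • (show Γ(F, ι ⁻¹ᵁ V) from m))
      rw [mul_smul]⟩
  exact fp_of_surjective hR hsurj hB

open Groth.Agent.Lib.helper16.QCohPush in
include hR g in
/-- `ι_*` preserves finitely presented modules (closed immersion of a flat scheme over a Prüfer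
domain into a locally finitely presented one). -/
theorem isFP_push {F : X.Modules} (hF : CohB1.IsFP F) :
    CohB1.IsFP ((Scheme.Modules.pushforward ι).obj F) := by
  haveI : F.IsQuasicoherent := by
    haveI : SheafOfModules.IsFinitePresentation (R := X.ringCatSheaf) F := hF
    infer_instance
  haveI : (push ι F).IsQuasicoherent :=
    Groth.Agent.Lib.helper16.QCohAffinePush.isQuasicoherent_push ι F
  refine Groth.Agent.Lib.helper16.CohFinite.isFinitePresentation_of_fp_sections (push ι F)
    (fun U : Y.affineOpens => U.1) (fun U => U.2) (iSup_affineOpens_eq_top Y) (fun U => ?_)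
  exact fp_push_sections hR ι g F U.2
    (Groth.Agent.Lib.helper16.CohFP.fp_sections_of_isFinitePresentation F hF (U.2.preimage ι))

end Push

end Groth.Agent.Lib.Helper20.PruferCoh
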