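import Mathlib
import Groth.Agent.Lib.Helper20.PruferCoh3
import Groth.Agent.Lib.Lead.SerreVan
import Groth.Agent.Lib.Lead.ProjectiveVan
import Groth.Agent.Lib.Helper12.PullAmple

/-!
# Serre vanishing for finitely presented modules on flat projective schemes over a Prüfer domain
(helper20)

`R` a Prüfer domain.

* `serre_vanishing_projSpace` : `F` finitely presented on `P^n_R` ⇒ `H^i(F(d)) = 0` for `d ≫ 0`,
  `i ≥ 1`.
* `serre_vanishing` : the same on a closed subscheme `ι : X ⟶ P^n_R` flat over `R`.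
* `serre_vanishing_pow` : the same, twisting by `(ι^*O(1))^{⊗ d}`.
-/

set_option autoImplicit false
universe u

open CategoryTheory CategoryTheory.Limits AlgebraicGeometry Opposite

namespace Groth.Agent.Lib.Helper20.PruferCoh

open Groth.Agent.Lib.helper28 Groth.Agent.Lib.Helper20.TensorEquiv
open Groth.Agent.Lib.Helper20.TwistEquivPn Groth.Agent.Lib.Helper18.HH
open Groth.Agent.Lib.Lead.ModTensor Groth.Agent.Lib.Lead.SerreVan

variable {R : Type u} [CommRing R] [IsDomain R]
  (hR : ∀ (p : Ideal R) [p.IsPrime], ValuationRing (Localization.AtPrime p))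

include hR in
/-- **Serre vanishing on projective space over a Prüfer domain** for finitely presented modules. -/
theorem serre_vanishing_projSpace (n : ℕ) (F : (CohB1.ProjSpace n R).Modules) (hF : CohB1.IsFP F) :
    ∃ d₀ : ℤ, ∀ d : ℤ, d₀ ≤ d → ∀ i : ℕ, 1 ≤ i →
      Subsingleton (Coh.HH (CohB1.ProjSpace n R)
        (CohB1.tensorMod F (Twist.twistProjSpace n R d)) i) := by
  suffices H : ∀ (k : ℕ) (F : (CohB1.ProjSpace n R).Modules), CohB1.IsFP F →
      ∃ d₀ : ℤ, ∀ d : ℤ, d₀ ≤ d → ∀ i : ℕ, 1 ≤ i → n + 1 ≤ i + k →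
        Subsingleton (Coh.HH (CohB1.ProjSpace n R)
          (CohB1.tensorMod F (Twist.twistProjSpace n R d)) i) by
    obtain ⟨d₀, h⟩ := H (n + 1) F hF
    exact ⟨d₀, fun d hd i hi => h d hd i hi (by omega)⟩
  intro k
  induction k with
  | zero =>
    intro F hF
    have hF' : Coh.IsCoh F :=
      Groth.Agent.Lib.helper16.CohFinite.isCoh_of_isFinitePresentation F hF
    refine ⟨0, fun d _ i _ hik => ?_⟩
    have : Coh.IsQCoh (CohB1.tensorMod F (Twist.twistProjSpace n R d)) := (isCoh_twist n R hF' d).1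
    exact Groth.Agent.S0022.result n R _ i (by omega)
  | succ k ih =>
    intro F hF
    have hF' : Coh.IsCoh F :=
      Groth.Agent.Lib.helper16.CohFinite.isCoh_of_isFinitePresentation F hF
    obtain ⟨m, a, π, hπ⟩ := Groth.Agent.Lib.helper11.SerrePn.exists_epi_twist n R F hF'
    have hE : CohB1.IsFP (∐ fun _ : Fin m => Twist.twistProjSpace n R a) :=
      Groth.Agent.Lib.helper16.FLF.isFinitePresentation_of_isFinLocFree _
        (Groth.Agent.Lib.Lead.SerreFin.isFinLocFree_sigma _ fun _ =>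
          Groth.Agent.Lib.helper16.FLF.isFinLocFree_of_isInvertible (TwistPn.isInvertible n R a))
    have hK : CohB1.IsFP (kernel π) := isFP_kernel hR (CohB1.ProjSpace.toSpec n R) hE hF π
    let S : ShortComplex (CohB1.ProjSpace n R).Modules :=
      ShortComplex.mk (kernel.ι π) π (kernel.condition π)
    have hS : S.ShortExact :=
      { exact := ShortComplex.exact_of_f_is_kernel S (kernelIsKernel π)
        mono_f := inferInstanceAs (Mono (kernel.ι π))
        epi_g := hπ }
    obtain ⟨d₁, h₁⟩ := ih (kernel π) hK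
    refine ⟨max d₁ (-(n : ℤ) - a), fun d hd i hi hik => ?_⟩
    have hd₁ : d₁ ≤ d := le_trans (le_max_left _ _) hd
    have hd₂ : -(n : ℤ) ≤ a + d := by
      have := le_trans (le_max_right d₁ (-(n : ℤ) - a)) hd
      omega
    have hS' := shortExact_twistSC n R d hS
    have hE0 : Subsingleton (Coh.HH (CohB1.ProjSpace n R) (twistSC n R d S).X₂ i) :=
      subsingleton_HH_sigma_twist n R m a d i hi hd₂
    have hK0 : Subsingleton (Coh.HH (CohB1.ProjSpace n R) (twistSC n R d S).X₁ (i + 1)) :=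
      h₁ d hd₁ (i + 1) (by omega) (by omega)
    have hex := exact₃ hS' i
    change Subsingleton (Coh.HH (CohB1.ProjSpace n R) (twistSC n R d S).X₃ i)
    refine ⟨fun x y => ?_⟩
    have hx : δ hS' i x = 0 := Subsingleton.elim _ _
    have hy : δ hS' i y = 0 := Subsingleton.elim _ _
    obtain ⟨x', rfl⟩ := (hex x).1 hx
    obtain ⟨y', rfl⟩ := (hex y).1 hy
    rw [Subsingleton.elim x' y']

variable {n : ℕ} {X : Scheme.{u}} (ι : X ⟶ CohB1.ProjSpace n R) [IsClosedImmersion ι]
  [Flat (ι ≫ CohB1.ProjSpace.toSpec n R)]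

include hR in
/-- **Serre vanishing** on a closed subscheme of `P^n_R` flat over the Prüfer domain `R`. -/
theorem serre_vanishing (F : X.Modules) (hF : CohB1.IsFP F) :
    ∃ d₀ : ℤ, ∀ d : ℤ, d₀ ≤ d → ∀ i : ℕ, 1 ≤ i →
      Subsingleton (Coh.HH X
        (CohB1.tensorMod F ((Scheme.Modules.pullback ι).obj (Twist.twistProjSpace n R d))) i) := by
  obtain ⟨d₀, h⟩ := serre_vanishing_projSpace hR n _
    (isFP_push hR ι (CohB1.ProjSpace.toSpec n R) hF)
  refine ⟨d₀, fun d hd i hi => ?_⟩
  haveI : F.IsQuasicoherent := by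
    haveI : SheafOfModules.IsFinitePresentation (R := X.ringCatSheaf) F := hF
    infer_instance
  haveI := Groth.Agent.Lib.Lead.ProjectiveVan.isQuasicoherent_twistOn ι F d
  rw [subsingleton_iff_push ι _ i]
  obtain ⟨e⟩ := Groth.Agent.Lib.Lead.ProjectiveVan.nonempty_pushTwistIso ι F d
  exact Groth.Agent.Lib.Helper20.TwistEquivPn.subsingleton_of_iso e i (h d hd i hi)

/-- `ι^*O(d) ≅ (ι^*O(1))^{⊗ d}` -/
noncomputable def pullPowIso (d : ℕ) :
    (Scheme.Modules.pullback ι).obj (Twist.twistProjSpace n R (d : ℤ)) ≅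
      CohB1.tensorPow ((Scheme.Modules.pullback ι).obj (Twist.twistProjSpace n R 1)) d :=
  (Scheme.Modules.pullback ι).mapIso (TwistPn.powIso n R d) ≪≫
    Groth.Agent.Lib.helper12.PullAmple.pullTensorPowIso ι (TwistPn.isInvertible n R 1) d

include hR in
/-- **Serre vanishing**, twisting by powers of `ι^*O(1)`. -/
theorem serre_vanishing_pow (F : X.Modules) (hF : CohB1.IsFP F) :
    ∃ N : ℕ, ∀ d : ℕ, N ≤ d → ∀ i : ℕ, 1 ≤ i →
      Subsingleton (Coh.HH X (CohB1.tensorMod F (CohB1.tensorPow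
        ((Scheme.Modules.pullback ι).obj (Twist.twistProjSpace n R 1)) d)) i) := by
  obtain ⟨d₀, h⟩ := serre_vanishing hR ι F hF
  refine ⟨d₀.toNat, fun d hd i hi => ?_⟩
  have hd' : d₀ ≤ (d : ℤ) := by omega
  exact Groth.Agent.Lib.Helper20.TwistEquivPn.subsingleton_of_iso
    (tensorIso (Iso.refl F) (pullPowIso ι d)) i (h d hd' i hi)

end Groth.Agent.Lib.Helper20.PruferCoh
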