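import Mathlib
import Groth.Agent.Lib.Helper20.PruferCoh4
import Groth.Agent.Lib.Helper18.HHConseq
import Groth.Agent.Lib.Helper18.HHZero
import Groth.Agent.Lib.Helper12.InvDual2
import Groth.Agent.Lib.Helper12.TensorInv
import Groth.Agent.Lib.Helper11.InvMod

/-!
# Surjectivity of global sections of twists over Prüfer domains (helper20)

* `lfp_comp` : a closed subscheme, flat over a Prüfer domain `R`, of a scheme locally of finite
  presentation over `R` is locally of finite presentation over `R`.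
* `surjective_sections_twist` : `ι : X ⟶ P^n_R` closed immersion, `X` flat over `R`, `φ : F ⟶ G`
  an epimorphism of finitely presented modules; then `Γ(X, F(d)) → Γ(X, G(d))` is surjective for
  `d ≫ 0`.
-/

set_option autoImplicit false
universe u

open CategoryTheory CategoryTheory.Limits AlgebraicGeometry Opposite TopologicalSpace

namespace Groth.Agent.Lib.Helper20.PruferCoh

variable {R : Type u} [CommRing R] [IsDomain R]
  (hR : ∀ (p : Ideal R) [p.IsPrime], ValuationRing (Localization.AtPrime p))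

section Lfp

variable {X Y : Scheme.{u}} (ι : X ⟶ Y) [IsClosedImmersion ι]
  (g : Y ⟶ Spec (CommRingCat.of R)) [LocallyOfFinitePresentation g] [Flat (ι ≫ g)]

include hR g in
/-- the surjection `Γ(Y, V) → Γ(X, ι⁻¹V)` is of finite presentation -/
theorem fp_app {V : Y.Opens} (hV : IsAffineOpen V) : (ι.app V).hom.FinitePresentation := by
  letI : Algebra R Γ(Y, V) := (secHom g V).toAlgebra
  haveI : Algebra.FinitePresentation R Γ(Y, V) := fp_secHom g hV
  letI : Algebra R Γ(X, ι ⁻¹ᵁ V) := (secHom (ι ≫ g) (ι ⁻¹ᵁ V)).toAlgebra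
  letI : Algebra Γ(Y, V) Γ(X, ι ⁻¹ᵁ V) := (ι.app V).hom.toAlgebra
  haveI : IsScalarTower R Γ(Y, V) Γ(X, ι ⁻¹ᵁ V) :=
    IsScalarTower.of_algebraMap_eq (fun r => by
      change secHom (ι ≫ g) (ι ⁻¹ᵁ V) r = (ι.app V).hom (secHom g V r)
      rw [secHom_comp]
      rfl)
  have hsurj : Function.Surjective (algebraMap Γ(Y, V) Γ(X, ι ⁻¹ᵁ V)) := ι.app_surjective V hV
  haveI : Module.Finite Γ(Y, V) Γ(X, ι ⁻¹ᵁ V) :=
    Module.Finite.of_surjective (Algebra.linearMap Γ(Y, V) Γ(X, ι ⁻¹ᵁ V)) hsurj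
  haveI : Module.FinitePresentation Γ(Y, V) Γ(X, ι ⁻¹ᵁ V) := by
    refine fp_of_torsionFree hR (fun r hr b hb => ?_)
    refine torsionFree_of_flat (secHom (ι ≫ g) (ι ⁻¹ᵁ V))
      (flat_secHom (ι ≫ g) (hV.preimage ι)) r hr b ?_
    rw [Algebra.smul_def] at hb
    exact hb
  have hker : (LinearMap.ker (Algebra.linearMap Γ(Y, V) Γ(X, ι ⁻¹ᵁ V))).FG :=
    Module.FinitePresentation.fg_ker _ hsurj
  refine RingHom.FinitePresentation.of_surjective _ (ι.app_surjective V hV) ?_
  obtain ⟨s, hs⟩ := hker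
  refine ⟨s, ?_⟩
  rw [Ideal.span, hs]
  ext x
  rfl

include hR in
/-- a closed subscheme, flat over a Prüfer domain, of a locally finitely presented scheme is
locally finitely presented. -/
theorem lfp_comp : LocallyOfFinitePresentation (ι ≫ g) := by
  have hcov : ⨆ U : Y.affineOpens, ((⟨ι ⁻¹ᵁ U.1, U.2.preimage ι⟩ : X.affineOpens) : X.Opens) = ⊤ := by
    have h1 : (⨆ U : Y.affineOpens, ι ⁻¹ᵁ U.1) = ι ⁻¹ᵁ (⨆ U : Y.affineOpens, U.1) :=
      (Scheme.Hom.preimage_iSup ι _).symm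
    change (⨆ U : Y.affineOpens, ι ⁻¹ᵁ U.1) = ⊤
    rw [h1, iSup_affineOpens_eq_top]
    rfl
  refine (HasRingHomProperty.iff_of_iSup_eq_top (P := @LocallyOfFinitePresentation)
    (fun U : Y.affineOpens => (⟨ι ⁻¹ᵁ U.1, U.2.preimage ι⟩ : X.affineOpens)) hcov).mpr ?_
  intro U
  have h := Scheme.Hom.appLE_comp_appLE ι g ⊤ U.1 (ι ⁻¹ᵁ U.1) le_top le_rfl
  rw [Scheme.Hom.appLE_eq_app] at h
  change ((ι ≫ g).appLE ⊤ (ι ⁻¹ᵁ U.1) le_top).hom.FinitePresentation
  have h2 : ((ι ≫ g).appLE ⊤ (ι ⁻¹ᵁ U.1) le_top).hom =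
      (ι.app U.1).hom.comp (g.appLE ⊤ U.1 le_top).hom := by
    rw [← CommRingCat.hom_comp, h]
  rw [h2]
  refine RingHom.FinitePresentation.comp (fp_app hR ι g U.2) ?_
  exact HasRingHomProperty.appLE (P := @LocallyOfFinitePresentation) g inferInstance
    ⟨⊤, isAffineOpen_top (Spec (CommRingCat.of R))⟩ U le_top

end Lfp

section Surj

open Groth.Agent.Lib.Helper20.TensorEquiv Groth.Agent.Lib.Helper18.HH
open Groth.Agent.Lib.Lead.ModTensor Groth.Agent.Lib.helper28

variable {n : ℕ} {X : Scheme.{u}} (ι : X ⟶ CohB1.ProjSpace n R) [IsClosedImmersion ι]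
  [Flat (ι ≫ CohB1.ProjSpace.toSpec n R)]

/-- vanishing of `H¹` of the kernel gives surjectivity on global sections after tensoring with an
invertible module -/
theorem surjective_tensorMap_top {F G L : X.Modules} (hL : PicF.IsInvertible L) (φ : F ⟶ G) [Epi φ]
    (h : Subsingleton (Coh.HH X (CohB1.tensorMod (kernel φ) L) 1)) :
    Function.Surjective ((tensorMap φ (𝟙 L)).val.app (op ⊤)).hom := by
  obtain ⟨L', -, ⟨e⟩, -⟩ := Groth.Agent.Lib.helper12.InvDual.exists_inverse hL
  let S : ShortComplex X.Modules := ShortComplex.mk (kernel.ι φ) φ (kernel.condition φ)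
  have hS : S.ShortExact :=
    { exact := ShortComplex.exact_of_f_is_kernel S (kernelIsKernel φ)
      mono_f := inferInstanceAs (Mono (kernel.ι φ))
      epi_g := inferInstanceAs (Epi φ) }
  have hS' := shortExact_mapSC e hS
  have hsurj : Function.Surjective (map (mapSC e S).g 0) := surjective_map_g hS' 0 h
  intro s
  obtain ⟨x, hx⟩ := hsurj ((equiv₀ (mapSC e S).X₃).symm s)
  refine ⟨equiv₀ (mapSC e S).X₂ x, ?_⟩
  have h1 := equiv₀_naturality (mapSC e S).g x
  rw [hx, LinearEquiv.apply_symm_apply] at h1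
  exact h1.symm

include hR in
/-- **surjectivity of global sections of large twists** -/
theorem surjective_sections_twist {F G : X.Modules} (hF : CohB1.IsFP F) (hG : CohB1.IsFP G)
    (φ : F ⟶ G) [Epi φ] :
    ∃ N : ℕ, ∀ d : ℕ, N ≤ d → Function.Surjective ((tensorMap φ (𝟙 (CohB1.tensorPow
        ((Scheme.Modules.pullback ι).obj (Twist.twistProjSpace n R 1)) d))).val.app (op ⊤)).hom := by
  haveI : LocallyOfFinitePresentation (ι ≫ CohB1.ProjSpace.toSpec n R) :=
    lfp_comp hR ι (CohB1.ProjSpace.toSpec n R)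
  have hK : CohB1.IsFP (kernel φ) := isFP_kernel hR (ι ≫ CohB1.ProjSpace.toSpec n R) hF hG φ
  obtain ⟨N, hN⟩ := serre_vanishing_pow hR ι (kernel φ) hK
  refine ⟨N, fun d hd => ?_⟩
  have hL : PicF.IsInvertible (CohB1.tensorPow
      ((Scheme.Modules.pullback ι).obj (Twist.twistProjSpace n R 1)) d) :=
    Groth.Agent.Lib.helper12.TensorInv.isInvertible_tensorPow
      (Groth.Agent.Lib.helper11.InvMod.isInvertible_pullback ι (TwistPn.isInvertible n R 1)) d
  exact surjective_tensorMap_top hL φ (hN d hd 1 le_rfl)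

end Surj

end Groth.Agent.Lib.Helper20.PruferCoh
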