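import Mathlib
import Groth.Agent.Lib.Helper11.SqZero3
import Groth.Agent.Lib.Helper11.MonoFlatBC
import Groth.Agent.Lib.Helper18.ResLEDelta

/-!
# Pullback of a short exact sequence with finite locally free cokernel (helper20)

For any morphism of schemes `g : X' ⟶ X` and a short exact sequence `0 → T₁ → T₂ → T₃ → 0` of
quasi-coherent modules on `X` with `T₃` finite locally free, `0 → g^*T₁ → g^*T₂ → g^*T₃ → 0` is short
exact.  (helper11's `SqZero.shortExact_map_pullback` for closed immersions, generalised.)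
-/

set_option autoImplicit false
set_option linter.unusedSectionVars false
set_option linter.style.haveILetI false
universe u

open CategoryTheory CategoryTheory.Limits AlgebraicGeometry Opposite TopologicalSpace TensorProduct
open Scheme.Modules

namespace Groth.Agent.Lib.Helper20.PullSES

open Groth.Agent.Lib.helper8.Dev Groth.Agent.Lib.helper7
  Groth.Agent.Lib.helper16.FLF Groth.Agent.Lib.helper8.PullbackUnit
  Groth.Agent.Lib.helper11.SqZero

variable {X X' : Scheme.{u}} (g : X' ⟶ X)

theorem ρ_naturality {G H : X.Modules} (φ : G ⟶ H) {U : X.Opens} {V : X'.Opens}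
    (e : V ≤ g ⁻¹ᵁ U) (n : Γ(G, U)) :
    (((Scheme.Modules.pullback g).map φ).app V).hom (ρ g e G n) = ρ g e H ((φ.app U).hom n) := by
  rw [ρ_apply, ρ_apply]
  have h1 := Groth.Agent.Lib.Helper18.ResLE.app_naturality ((Scheme.Modules.pullback g).map φ)
    (homOfLE e) ((((pullbackPushforwardAdjunction g).unit.app G).app U).hom n)
  refine h1.trans ?_
  have h := (pullbackPushforwardAdjunction g).unit.naturality φ
  have h2 := congrArg (fun ψ => (Scheme.Modules.Hom.app ψ U).hom n) h
  exact congrArg _ h2.symm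

theorem mono_pullback_map_of_shortExact (T : ShortComplex X.Modules) (hT : T.ShortExact)
    [T.X₁.IsQuasicoherent] [T.X₂.IsQuasicoherent] (h3 : FlatMod.IsFinLocFree T.X₃) :
    Mono ((Scheme.Modules.pullback g).map T.f) := by
  haveI : ((Scheme.Modules.pullback g).obj T.X₁).IsQuasicoherent :=
    Groth.Agent.Lib.helper16.QCohPullback.isQuasicoherent_pullback g T.X₁
  haveI : ((Scheme.Modules.pullback g).obj T.X₂).IsQuasicoherent :=
    Groth.Agent.Lib.helper16.QCohPullback.isQuasicoherent_pullback g T.X₂
  refine Groth.Agent.Lib.helper11.MonoFlatBC.mono_of_injective_cover _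
    (fun p : {p : X.affineOpens × X'.affineOpens // p.2.1 ≤ g ⁻¹ᵁ p.1.1} => p.1.2.1)
    (fun p => p.1.2.2) (fun z => ?_) (fun p => ?_)
  · obtain ⟨U, hU, hzU, -⟩ := (Opens.isBasis_iff_nbhd.1 X.isBasis_affineOpens)
      (show g z ∈ (⊤ : X.Opens) from trivial)
    obtain ⟨V, hV, hzV, hVU⟩ := (Opens.isBasis_iff_nbhd.1 X'.isBasis_affineOpens)
      (show z ∈ g ⁻¹ᵁ U from hzU)
    exact ⟨⟨(⟨U, hU⟩, ⟨V, hV⟩), hVU⟩, hzV⟩
  · obtain ⟨⟨U, V⟩, e⟩ := p
    have hN := isBC_ρ g U.2 V.2 e T.X₁
    have hP := isBC_ρ g U.2 V.2 e T.X₂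
    haveI := hT.mono_f
    obtain ⟨hinj, hex⟩ := KerSections.sections_leftExact T hT.exact U.1
    have hsurj := QCohExt.surjective_app_of_shortExact T hT U.1 U.2
    obtain ⟨_, hproj⟩ := projective_sections_of_isFinLocFree T.X₃ h3 U.2
    let f := sectionsLin T.f U.1
    let g₀ := sectionsLin T.g U.1
    have hexact : Function.Exact f g₀ := by
      intro b
      constructor
      · intro hb
        obtain ⟨a, ha⟩ := hex b hb
        exact ⟨a, ha⟩
      · rintro ⟨a, rfl⟩
        have := congrArg (fun ψ => (Scheme.Modules.Hom.app ψ U.1).hom a) T.zero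
        exact this
    have hg : Function.Surjective g₀ := hsurj
    have hf : Function.Injective f := hinj
    obtain ⟨l, hl⟩ := Module.projective_lifting_property g₀ LinearMap.id hg
    have hl' : ∃ l, g₀ ∘ₗ l = LinearMap.id := ⟨l, hl⟩
    obtain ⟨r, hr⟩ := ((Function.Exact.split_tfae hexact hf hg).out 0 1).mp hl'
    exact injective_of_isBC_of_retraction hN hP f r (fun n => congr($hr n))
      (sectionsLin ((Scheme.Modules.pullback g).map T.f) V.1)
      (fun n => ρ_naturality g T.f e n)

theorem shortExact_map_pullback (T : ShortComplex X.Modules) (hT : T.ShortExact)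
    [T.X₁.IsQuasicoherent] [T.X₂.IsQuasicoherent] (h3 : FlatMod.IsFinLocFree T.X₃) :
    (T.map (Scheme.Modules.pullback g)).ShortExact := by
  haveI := hT.mono_f
  haveI := hT.epi_g
  have hex : (T.map (Scheme.Modules.pullback g)).Exact :=
    hT.exact.map_of_epi_of_preservesCokernel (Scheme.Modules.pullback g) inferInstance inferInstance
  haveI : Mono (T.map (Scheme.Modules.pullback g)).f := mono_pullback_map_of_shortExact g T hT h3
  haveI : Epi (T.map (Scheme.Modules.pullback g)).g :=
    (Scheme.Modules.pullback g).map_epi T.g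
  exact { exact := hex }

end Groth.Agent.Lib.Helper20.PullSES
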