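import Groth.Agent.Lib.Helper20.PushClPd
import Groth.Agent.Lib.Helper20.EulerRes
import Groth.Agent.Lib.Helper20.KosPY6
import Groth.Agent.Lib.Helper8.DevGen
import Groth.Agent.Lib.Helper7.K0API

/-!
# The push-forward `f_K` of a regular closed immersion on models of `K(X)` (helper20)

`Ctx f` packages an adapted finite affine cover `t` of `Y`; `Q = P1 t` (coherent with bounded projective
dimension of the sections over `t`); `K₀(vb Y) ≅ K₀(Q)`; `pushQ : K₀(vb X) → K₀(Q)`, `[F] ↦ [f_*F]`.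

* `existsUnique_isPushCl`.
* `isPushCl_iff`: `h` is a push-forward iff `h (φX x) = φY (eQ⁻¹ (pushQ x))`.
-/

set_option autoImplicit false
universe v u

open CategoryTheory CategoryTheory.Limits AlgebraicGeometry Opposite TopologicalSpace

namespace Groth.Agent.Lib.Helper20.PushClK

open Groth.Agent.Lib.helper16.FLF Groth.Agent.Lib.Helper20.K0Reg Groth.Agent.Lib.Helper20.K0LFRes
  Groth.Agent.Lib.Helper20.PushClPd Groth.Agent.Lib.helper13.K0Res Groth.Agent.Lib.helper8.Dev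
  Groth.Agent.Lib.helper7.K0API Groth.Agent.Lib.Helper20.KosPY KZero

noncomputable section

variable {X Y : Scheme.{u}} (f : X ⟶ Y)

/-- an adapted cover for `f` -/
structure Ctx where
  t : Finset Y.affineOpens
  hcov : ⨆ U : {U // U ∈ t}, U.1.1 = (⊤ : Y.Opens)
  n : ℕ
  hpd : ∀ F : X.Modules, FlatMod.IsFinLocFree F → PdAff t n ((Scheme.Modules.pushforward f).obj F)

theorem nonempty_ctx [IsClosedImmersion f] [CompactSpace Y] (hf : Mor2.IsRegularClosedImmersion f) :
    Nonempty (Ctx f) := by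
  obtain ⟨t, hcov, n, hpd⟩ := exists_cover f hf
  exact ⟨⟨t, hcov, n, hpd⟩⟩

variable {f} (c : Ctx f)

/-- the class of coherent modules of bounded projective dimension on the cover -/
abbrev Ctx.Q : ObjectProperty Y.Modules := P1 c.t

variable [IsLocallyNoetherian Y]

theorem Ctx.le (M : Y.Modules) (hM : FlatMod.IsFinLocFree M) : c.Q M :=
  ⟨isCoh_of_vb hM, 0, pdAff_zero_of_vb c.t hM⟩

theorem Ctx.Q_zero (N : Y.Modules) (hN : IsZero N) : c.Q N :=
  c.le N (Groth.Agent.Lib.helper25.FLFKernel.isFinLocFree_of_isZero hN)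

theorem Ctx.Q_push [IsClosedImmersion f] (F : X.Modules) (hF : FlatMod.IsFinLocFree F) :
    c.Q ((Scheme.Modules.pushforward f).obj F) :=
  ⟨Groth.Agent.Lib.helper16.FinPushCoh.isCoh_push_of_isFinite f F (isCoh_of_vb hF), c.n, c.hpd F hF⟩

variable (hYe : KRR.HasEnoughLocFree Y)

include hYe in
theorem Ctx.bijective : Function.Bijective
    (SGA6.mapSub (𝟭 Y.Modules) (KRR.vbP Y) c.Q c.le) :=
  bijective_of_iff hYe c.t c.hcov c.Q (fun _ => Iff.rfl) c.le

/-- `K₀(vb Y) ≃ K₀(Q)` -/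
def Ctx.eQ : SGA6.Kvb Y ≃+ KZero.K0sub c.Q :=
  AddEquiv.ofBijective (SGA6.mapSub (𝟭 Y.Modules) (KRR.vbP Y) c.Q c.le) (c.bijective hYe)

theorem Ctx.eQ_cl (M : Y.Modules) (hM : FlatMod.IsFinLocFree M) :
    c.eQ hYe (KRR.cl Y M) = KZero.clSub c.Q M := by
  have e1 : KZero.clSub c.Q M = cls c.Q M (c.le M hM) := clSub_of _ _ _
  have e2 : KRR.cl Y M = cls (KRR.vbP Y) M hM := clSub_of _ _ _
  rw [e1, e2]
  exact mapSub_cls _ _ c.le M hM

include hYe in
/-- **Euler characteristic**: `[A] = Σ (-1)^k [L_k]` in `K₀(Q)` for a finite locally free resolution -/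
theorem Ctx.clSub_eq_of_isLFRes {A : Y.Modules} (hA : c.Q A) {n : ℕ} {L : ChainComplex Y.Modules ℕ}
    {π : L ⟶ (ChainComplex.single₀ Y.Modules).obj A} (hL : KRR.IsLFRes A n L π) :
    KZero.clSub c.Q A =
      c.eQ hYe (∑ k ∈ Finset.range (n + 1), (-1 : ℤ) ^ k • KRR.cl Y (L.X k)) := by
  haveI := hL.quasiIso
  rw [map_sum]
  have h1 := Groth.Agent.Lib.Helper20.EulerRes.clSub_eq_alt_sum c.Q (hyp' hYe c.t).ker₁ c.Q_zero
    L A π (fun k => c.le _ (hL.finLocFree k)) hA n hL.isZero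
  rw [h1]
  refine Finset.sum_congr rfl (fun k _ => ?_)
  rw [map_zsmul, c.eQ_cl hYe _ (hL.finLocFree k)]

include hYe in
/-- modules in `Q` have finite locally free resolutions -/
theorem Ctx.hasLFRes {A : Y.Modules} (hA : c.Q A) : KRR.HasLFRes A := by
  obtain ⟨hc, n, hn⟩ := hA
  obtain ⟨R, hR⟩ := exists_res hYe c.t c.hcov n A hc hn
  exact hasLFRes_of_res R n hR

variable [IsClosedImmersion f]

/-- the push-forward `K₀(vb X) → K₀(Q)` -/
theorem Ctx.exists_pushQ : ∃ ψ : SGA6.Kvb X →+ KZero.K0sub c.Q, ∀ F : X.Modules,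
    FlatMod.IsFinLocFree F → ψ (KRR.cl X F) =
      KZero.clSub c.Q ((Scheme.Modules.pushforward f).obj F) := by
  refine exists_lift_K0sub (KRR.vbP X)
    (fun F => KZero.clSub c.Q ((Scheme.Modules.pushforward f).obj F)) ?_
  intro S hS h1 h2 h3
  haveI := isQuasicoherent_of_isFinLocFree _ h2
  haveI := isQuasicoherent_of_isFinLocFree _ h3
  have hS' := shortExact_map_pushforward f S hS
  exact clSub_rel c.Q _ hS' (c.Q_push _ h1) (c.Q_push _ h2) (c.Q_push _ h3)

/-- the push-forward `K₀(vb X) → K₀(Q)` -/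
def Ctx.pushQ : SGA6.Kvb X →+ KZero.K0sub c.Q := c.exists_pushQ.choose

theorem Ctx.pushQ_cl (F : X.Modules) (hF : FlatMod.IsFinLocFree F) :
    c.pushQ (KRR.cl X F) = KZero.clSub c.Q ((Scheme.Modules.pushforward f).obj F) :=
  c.exists_pushQ.choose_spec F hF

/-- the push-forward `K₀(vb X) → K₀(vb Y)` -/
def Ctx.pushK : SGA6.Kvb X →+ SGA6.Kvb Y :=
  (c.eQ hYe).symm.toAddMonoidHom.comp c.pushQ

theorem Ctx.pushK_cl (F : X.Modules) (hF : FlatMod.IsFinLocFree F) :
    c.eQ hYe (c.pushK hYe (KRR.cl X F)) =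
      KZero.clSub c.Q ((Scheme.Modules.pushforward f).obj F) := by
  show c.eQ hYe ((c.eQ hYe).symm (c.pushQ (KRR.cl X F))) = _
  rw [AddEquiv.apply_symm_apply, c.pushQ_cl F hF]

/-- value of `pushK` through a resolution -/
theorem Ctx.pushK_eq_of_isLFRes (F : X.Modules) (hF : FlatMod.IsFinLocFree F) {n : ℕ}
    {L : ChainComplex Y.Modules ℕ}
    {π : L ⟶ (ChainComplex.single₀ Y.Modules).obj ((Scheme.Modules.pushforward f).obj F)}
    (hL : KRR.IsLFRes ((Scheme.Modules.pushforward f).obj F) n L π) :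
    c.pushK hYe (KRR.cl X F) = ∑ k ∈ Finset.range (n + 1), (-1 : ℤ) ^ k • KRR.cl Y (L.X k) := by
  apply (c.eQ hYe).injective
  rw [c.pushK_cl hYe F hF]
  exact c.clSub_eq_of_isLFRes hYe (c.Q_push F hF) hL

variable {KX : Type v} [CommRing KX] [LambdaRing.LambdaOps KX] {PX : LambdaRing.PosStructure KX}
  {φX : SGA6.Kvb X →+ KX} (hKX : KRR.IsModel X KX PX φX)
  {KY : Type v} [CommRing KY] [LambdaRing.LambdaOps KY] {PY : LambdaRing.PosStructure KY}
  {φY : SGA6.Kvb Y →+ KY}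

include hKX in
/-- **characterisation of the push-forward on models** -/
theorem Ctx.isPushCl_iff (h : KX →+ KY) :
    KRR.IsPushCl f φX φY h ↔ ∀ x : SGA6.Kvb X, h (φX x) = φY (c.pushK hYe x) := by
  constructor
  · intro hh x
    have hx : x ∈ (⊤ : AddSubgroup (SGA6.Kvb X)) := trivial
    rw [← closure_clSub (KRR.vbP X)] at hx
    let S : AddSubgroup (SGA6.Kvb X) := (h.comp φX).eqLocus (φY.comp (c.pushK hYe))
    have hle : AddSubgroup.closure {x : SGA6.Kvb X | ∃ F : X.Modules, KRR.vbP X F ∧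
        x = clSub (KRR.vbP X) F} ≤ S := by
      refine (AddSubgroup.closure_le _).2 ?_
      rintro _ ⟨F, hF, rfl⟩
      obtain ⟨n, L, π, hL⟩ := c.hasLFRes hYe (c.Q_push F hF)
      show h (φX (KRR.cl X F)) = φY (c.pushK hYe (KRR.cl X F))
      rw [hh F hF n L π hL, c.pushK_eq_of_isLFRes hYe F hF hL, map_sum]
      refine Finset.sum_congr rfl (fun k _ => ?_)
      rw [map_zsmul]
    exact hle hx
  · intro hh F hF n L π hL
    rw [hh, c.pushK_eq_of_isLFRes hYe F hF hL, map_sum]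
    refine Finset.sum_congr rfl (fun k _ => ?_)
    rw [map_zsmul]

include hKX c hYe in
/-- **`f_K` exists and is unique** -/
theorem Ctx.existsUnique_isPushCl : ∃! h : KX →+ KY, KRR.IsPushCl f φX φY h := by
  let eX : SGA6.Kvb X ≃+ KX := AddEquiv.ofBijective φX hKX.bijective
  refine ⟨(φY.comp (c.pushK hYe)).comp eX.symm.toAddMonoidHom, ?_, ?_⟩
  · show KRR.IsPushCl f φX φY _
    rw [c.isPushCl_iff hYe hKX]
    intro x
    show φY (c.pushK hYe (eX.symm (φX x))) = _
    have h1 : eX.symm (φX x) = x := eX.symm_apply_apply x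
    rw [h1]
  · intro h' hh'
    have hh' : KRR.IsPushCl f φX φY h' := hh'
    rw [c.isPushCl_iff hYe hKX] at hh'
    ext z
    obtain ⟨x, rfl⟩ := hKX.bijective.2 z
    show h' (φX x) = φY (c.pushK hYe (eX.symm (φX x)))
    have h1 : eX.symm (φX x) = x := eX.symm_apply_apply x
    rw [h1, hh' x]

end

end Groth.Agent.Lib.Helper20.PushClK
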