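import Groth.Agent.Lib.Helper20.RegSeqPD
import Groth.Agent.Lib.Helper20.K0LFRes
import Groth.Agent.Lib.Helper16.FinPushCoh
import Groth.Prelude.Def_Mor2

/-!
# Direct images of vector bundles under a regular closed immersion have bounded projective dimension
(helper20)
-/

set_option autoImplicit false
universe u

open CategoryTheory CategoryTheory.Limits AlgebraicGeometry Opposite TopologicalSpace

namespace Groth.Agent.Lib.Helper20.PushClPd

noncomputable section

open Groth.Agent.Lib.helper16.FLF Groth.Agent.Lib.Helper20.K0Reg Groth.Agent.Lib.Helper20.K0LFRes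
  Groth.Agent.Lib.Helper20.RegSeqPD

variable {X Y : Scheme.{u}} (f : X ⟶ Y)

/-- sections over the empty open -/
lemma subsingleton_sections_bot (M : X.Modules) : Subsingleton Γ(M, ⊥) := by
  have hT : IsTerminal ((⟨M.presheaf, M.isSheaf⟩ : TopCat.Sheaf Ab X).obj.obj (op ⊥)) :=
    TopCat.Sheaf.isTerminalOfEmpty _
  have hz : IsZero (M.presheaf.obj (op ⊥)) := by
    have : IsZero ((⟨M.presheaf, M.isSheaf⟩ : TopCat.Sheaf Ab X).obj.obj (op ⊥)) :=
      (isZero_zero Ab).of_iso (hT.uniqueUpToIso (isZero_zero Ab).isTerminal)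
    exact this
  exact AddCommGrpCat.subsingleton_of_isZero hz

/-- an affine open of `Y` missing the image of `f` -/
theorem pd_push_of_disjoint (F : X.Modules) {U : Y.Opens} (hU : f ⁻¹ᵁ U = ⊥) (n : ℕ) :
    HasProjectiveDimensionLT
      (ModuleCat.of Γ(Y, U) Γ((Scheme.Modules.pushforward f).obj F, U)) (n + 1) := by
  haveI : Subsingleton Γ((Scheme.Modules.pushforward f).obj F, U) := by
    have h1 : Subsingleton Γ(F, f ⁻¹ᵁ U) := by rw [hU]; exact subsingleton_sections_bot F
    exact h1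
  have hz : IsZero (ModuleCat.of Γ(Y, U) Γ((Scheme.Modules.pushforward f).obj F, U)) :=
    ModuleCat.isZero_of_subsingleton _
  haveI := hz.hasProjectiveDimensionLT_zero
  exact hasProjectiveDimensionLT_of_ge _ 0 (n + 1) (Nat.zero_le _)

variable [IsClosedImmersion f]

/-- an affine open of `Y` on which the ideal of `f` is generated by a weakly regular sequence -/
theorem pd_push_of_regular (F : X.Modules) (hF : FlatMod.IsFinLocFree F) {U : Y.Opens}
    (hU : IsAffineOpen U) (rs : List Γ(Y, U))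
    (hrs : RingTheory.Sequence.IsWeaklyRegular Γ(Y, U) rs)
    (hker : f.ker.ideal ⟨U, hU⟩ = Ideal.ofList rs) :
    HasProjectiveDimensionLT
      (ModuleCat.of Γ(Y, U) Γ((Scheme.Modules.pushforward f).obj F, U)) (rs.length + 1) := by
  have hV : IsAffineOpen (f ⁻¹ᵁ U) := hU.preimage f
  obtain ⟨hfin, hproj⟩ := projective_sections_of_isFinLocFree F hF hV
  have hk : RingHom.ker (f.app U).hom = Ideal.ofList rs := by
    rw [← hker, Scheme.Hom.ker_apply]
  letI : Module Γ(Y, U) Γ(F, f ⁻¹ᵁ U) :=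
    inferInstanceAs (Module Γ(Y, U) Γ((Scheme.Modules.pushforward f).obj F, U))
  exact pd_of_projective_over_quotient (f.app U).hom (f.app_surjective U hU) rs hrs hk
    Γ(F, f ⁻¹ᵁ U) (fun a n => rfl)

/-- the affine opens adapted to the regular closed immersion `f` -/
def Adapted (U : Y.affineOpens) : Prop :=
  f ⁻¹ᵁ U.1 = ⊥ ∨ ∃ rs : List Γ(Y, U.1), RingTheory.Sequence.IsWeaklyRegular Γ(Y, U.1) rs ∧
    f.ker.ideal U = Ideal.ofList rs

theorem exists_bound_of_adapted {U : Y.affineOpens} (hU : Adapted f U) :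
    ∃ n : ℕ, ∀ F : X.Modules, FlatMod.IsFinLocFree F →
      HasProjectiveDimensionLE
        (ModuleCat.of Γ(Y, U.1) Γ((Scheme.Modules.pushforward f).obj F, U.1)) n := by
  rcases hU with h | ⟨rs, hrs, hker⟩
  · exact ⟨0, fun F _ => pd_push_of_disjoint f F h 0⟩
  · exact ⟨rs.length, fun F hF => pd_push_of_regular f F hF U.2 rs hrs hker⟩

theorem exists_adapted (hf : Mor2.IsRegularClosedImmersion f) (y : Y) :
    ∃ U : Y.affineOpens, Adapted f U ∧ y ∈ U.1 := by
  by_cases hy : y ∈ Set.range f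
  · obtain ⟨z, rfl⟩ := hy
    obtain ⟨U, hU, hzU, rs, hrs, hker⟩ := hf.2 z
    exact ⟨⟨U, hU⟩, Or.inr ⟨rs, hrs.1, hker⟩, hzU⟩
  · have hcl : IsClosed (Set.range f) := f.isClosedEmbedding.isClosed_range
    have hopen : IsOpen (Set.range f)ᶜ := hcl.isOpen_compl
    obtain ⟨_, ⟨U, hUa, rfl⟩, hyU, hUc⟩ :=
      (Y.isBasis_affineOpens).exists_subset_of_mem_open (show y ∈ (Set.range f)ᶜ from hy) hopen
    refine ⟨⟨U, hUa⟩, Or.inl ?_, hyU⟩
    ext x
    simp only [Opens.coe_bot, Set.mem_empty_iff_false, iff_false]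
    intro hx
    exact hUc hx ⟨x, rfl⟩

variable [CompactSpace Y]

/-- **an adapted finite affine cover**, with a uniform bound for the projective dimensions of the sections of
direct images of vector bundles -/
theorem exists_cover (hf : Mor2.IsRegularClosedImmersion f) :
    ∃ t : Finset Y.affineOpens, (⨆ U : {U // U ∈ t}, U.1.1 = (⊤ : Y.Opens)) ∧
      ∃ n : ℕ, ∀ F : X.Modules, FlatMod.IsFinLocFree F →
        PdAff t n ((Scheme.Modules.pushforward f).obj F) := by
  choose V hV hyV using exists_adapted f hf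
  have hc := isCompact_univ (X := Y)
  obtain ⟨s, hs⟩ := hc.elim_finite_subcover (fun y : Y => ((V y).1 : Set Y))
    (fun y => (V y).1.2) (fun y _ => Set.mem_iUnion.mpr ⟨y, hyV y⟩)
  classical
  refine ⟨s.image V, ?_, ?_⟩
  · rw [eq_top_iff]
    intro x _
    obtain ⟨y, hy⟩ := Set.mem_iUnion.mp (hs (Set.mem_univ x))
    obtain ⟨hys, hxy⟩ := Set.mem_iUnion.mp hy
    exact Opens.mem_iSup.mpr ⟨⟨V y, Finset.mem_image_of_mem V hys⟩, hxy⟩
  · have hb : ∀ U : Y.affineOpens, ∃ n : ℕ, Adapted f U → ∀ F : X.Modules,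
        FlatMod.IsFinLocFree F → HasProjectiveDimensionLE
          (ModuleCat.of Γ(Y, U.1) Γ((Scheme.Modules.pushforward f).obj F, U.1)) n := by
      intro U
      by_cases hU : Adapted f U
      · obtain ⟨n, hn⟩ := exists_bound_of_adapted f hU
        exact ⟨n, fun _ => hn⟩
      · exact ⟨0, fun h => absurd h hU⟩
    choose nU hnU using hb
    refine ⟨(s.image V).sup nU, fun F hF U hU => ?_⟩
    obtain ⟨y, -, rfl⟩ := Finset.mem_image.mp hU
    have hle : nU (V y) ≤ (s.image V).sup nU := Finset.le_sup hU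
    haveI := hnU (V y) (hV y) F hF
    exact hasProjectiveDimensionLT_of_ge _ (nU (V y) + 1) ((s.image V).sup nU + 1) (by omega)

end

end Groth.Agent.Lib.Helper20.PushClPd
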