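import Groth.Agent.Lib.Helper5.CMSliceSch4
import Groth.Agent.Lib.Helper20.FibreReg
import Groth.Agent.Lib.Helper20.FlatPn

/-!
# Flat base change of a regular closed immersion (helper20)

* `isRegularClosedImmersion_of_isPullback_flat`.
* `isRegularClosedImmersion_projSpaceMap`: `P^n_X ⟶ P^n_Y` is a regular closed immersion when `X ⟶ Y` is.
-/

set_option autoImplicit false
universe u

open AlgebraicGeometry CategoryTheory CategoryTheory.Limits RingTheory.Sequence

namespace Groth.Agent.Lib.Helper20.RegImmFlatBC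

variable {Z Y Y' Z' : Scheme.{u}}

/-- **flat base change of a regular closed immersion** -/
theorem isRegularClosedImmersion_of_isPullback_flat {i : Z ⟶ Y} {q : Y' ⟶ Y} {j : Z' ⟶ Y'}
    {p : Z' ⟶ Z} (H : IsPullback j p q i) (hi : Mor2.IsRegularClosedImmersion i) [Flat q] :
    Mor2.IsRegularClosedImmersion j := by
  haveI : IsClosedImmersion i := hi.1
  refine Groth.Agent.Lib.helper5.CMSliceSch.isRegularClosedImmersion_of_isPullback H (fun z' => ?_)
  obtain ⟨U₀, hU₀, hzU, rs, hrs, hker⟩ := hi.2 (p z')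
  have hjz : j z' ∈ q ⁻¹ᵁ U₀ := by
    show q (j z') ∈ U₀
    have h1 : q (j z') = i (p z') := by
      have := congrArg (fun k : Z' ⟶ Y => k z') H.w
      exact this
    rw [h1]
    exact hzU
  obtain ⟨_, ⟨U', hU'a, rfl⟩, hzU', hU'le⟩ :=
    (Y'.isBasis_affineOpens).exists_subset_of_mem_open hjz (q ⁻¹ᵁ U₀).2
  have e : U' ≤ q ⁻¹ᵁ U₀ := hU'le
  refine ⟨U₀, hU₀, U', hU'a, e, hzU', rs, ?_, ?_⟩
  · rw [← hker, Scheme.Hom.ker_apply]
  · have hfl : (q.appLE U₀ U' e).hom.Flat := Flat.flat_appLE q hU₀ hU'a e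
    letI : Algebra Γ(Y, U₀) Γ(Y', U') := (q.appLE U₀ U' e).hom.toAlgebra
    haveI : Module.Flat Γ(Y, U₀) Γ(Y', U') := hfl
    exact hrs.1.of_flat

/-- `P^n_X ⟶ P^n_Y` is a regular closed immersion when `X ⟶ Y` is -/
theorem isRegularClosedImmersion_projSpaceMap (n : ℕ) {X Y : Scheme.{u}} (i : X ⟶ Y)
    (hi : Mor2.IsRegularClosedImmersion i) :
    Mor2.IsRegularClosedImmersion (KRR.projSpaceMap n i) := by
  haveI : Flat (KRR.pr n Y) := Groth.Agent.Lib.Helper20.FlatPn.flat_toBase n Y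
  exact isRegularClosedImmersion_of_isPullback_flat
    (Groth.Agent.Lib.Helper20.FibreReg.isPullback_projSpaceMap n i) hi

end Groth.Agent.Lib.Helper20.RegImmFlatBC
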