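import Groth.Agent.Lib.Helper20.PushRes
import Groth.Agent.Lib.Helper20.RegImmFlatBC
import Groth.Agent.S3756

/-!
# `i_K ∘ g_K = f_K ∘ j_K` for `j : P^n_X ⟶ P^n_Y` induced by a regular closed immersion `i : X ⟶ Y`
(helper20)
-/

set_option autoImplicit false
universe v u

open CategoryTheory CategoryTheory.Limits AlgebraicGeometry Opposite TopologicalSpace

namespace Groth.Agent.Lib.Helper20.PushClPr

open Groth.Agent.Lib.helper16.FLF Groth.Agent.Lib.Helper20.K0Reg Groth.Agent.Lib.Helper20.K0LFRes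
  Groth.Agent.Lib.helper8.Dev Groth.Agent.Lib.Helper20.KosPY KZero
  Groth.Agent.Lib.Helper20.EulerRes Groth.Agent.Lib.Helper20.TensorEquiv
  Groth.Agent.Lib.Lead.ModTensor Groth.Agent.Lib.Helper20.PushRes
  Groth.Agent.Lib.Helper20.PushClK Groth.Agent.Lib.Helper20.FibreReg

noncomputable section

variable {n : ℕ} {X Y : Scheme.{u}} (i : X ⟶ Y)

/-- `(ψ_* G)(m) ≅ ψ_*(G(m))` -/
def pushTwFIso (G : (KRR.PY n X).Modules) (m : ℤ) :
    KRR.twF n Y m ((Scheme.Modules.pushforward (KRR.projSpaceMap n i)).obj G) ≅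
      (Scheme.Modules.pushforward (KRR.projSpaceMap n i)).obj (KRR.twF n X m G) :=
  braid (Twist.twistOver n Y m) ((Scheme.Modules.pushforward (KRR.projSpaceMap n i)).obj G) ≪≫
    (Groth.Agent.Lib.helper11.ProjFormula.projIso (KRR.projSpaceMap n i)
      (isFinLocFree_twistOver n Y m)).app G ≪≫
    (Scheme.Modules.pushforward (KRR.projSpaceMap n i)).mapIso
      (tensorIso (Iso.refl G) (pullTwistOverIso n i m) ≪≫ braid G (Twist.twistOver n X m))

/-- `f_* ψ_* ≅ i_* g_*` -/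
def pushSquareIso (M : (KRR.PY n X).Modules) :
    (Scheme.Modules.pushforward (KRR.pr n Y)).obj
        ((Scheme.Modules.pushforward (KRR.projSpaceMap n i)).obj M) ≅
      (Scheme.Modules.pushforward i).obj ((Scheme.Modules.pushforward (KRR.pr n X)).obj M) :=
  (Scheme.Modules.pushforwardComp (KRR.projSpaceMap n i) (KRR.pr n Y)).app M ≪≫
    (Scheme.Modules.pushforwardCongr (projSpaceMap_pr n i)).app M ≪≫
    ((Scheme.Modules.pushforwardComp (KRR.pr n X) i).app M).symm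

variable [IsNoetherian X] [IsNoetherian Y]

instance compactSpace_PY : CompactSpace ↥(KRR.PY n Y) := by
  haveI : IsProper (KRR.pr n Y) := Groth.Agent.Lib.helper19.ProjSpaceProper.proper_toBase n Y
  exact QuasiCompact.compactSpace_of_compactSpace (KRR.pr n Y)

variable (hi : Mor2.IsRegularClosedImmersion i)
  (hYe : KRR.HasEnoughLocFree Y) (hPe : KRR.HasEnoughLocFree (KRR.PY n Y))
  {KX : Type v} [CommRing KX] [LambdaRing.LambdaOps KX] {PX : LambdaRing.PosStructure KX}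
  {φX : SGA6.Kvb X →+ KX} (hKX : KRR.IsModel X KX PX φX)
  {KY : Type v} [CommRing KY] [LambdaRing.LambdaOps KY] {PY : LambdaRing.PosStructure KY}
  {φY : SGA6.Kvb Y →+ KY}
  {KPX : Type v} [CommRing KPX] [LambdaRing.LambdaOps KPX] {PPX : LambdaRing.PosStructure KPX}
  {φPX : SGA6.Kvb (KRR.PY n X) →+ KPX} (hKPX : KRR.IsModel (KRR.PY n X) KPX PPX φPX)
  {KPY : Type v} [CommRing KPY] [LambdaRing.LambdaOps KPY] {PPY : LambdaRing.PosStructure KPY}
  {φPY : SGA6.Kvb (KRR.PY n Y) →+ KPY}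
  {gi : KX →+ KY} (hgi : KRR.IsPushCl i φX φY gi)
  {gj : KPX →+ KPY} (hgj : KRR.IsPushCl (KRR.projSpaceMap n i) φPX φPY gj)
  {gX : KPX →+ KX} (hgX : KRR.IsPushPr n X φPX φX gX)
  {gY : KPY →+ KY} (hgY : KRR.IsPushPr n Y φPY φY gY)

include hi hYe hPe hKX hKPX hgi hgj hgX hgY in
/-- **`i_K ∘ g_K = f_K ∘ j_K`** -/
theorem pushCl_pushPr : gi.comp gX = gY.comp gj := by
  haveI : IsClosedImmersion i := hi.1
  have hj := Groth.Agent.Lib.Helper20.RegImmFlatBC.isRegularClosedImmersion_projSpaceMap n i hi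
  haveI : IsClosedImmersion (KRR.projSpaceMap n i) := hj.1
  obtain ⟨ci⟩ := nonempty_ctx i hi
  obtain ⟨cj⟩ := nonempty_ctx (KRR.projSpaceMap n i) hj
  have hi' := (ci.isPushCl_iff hYe hKX gi).1 hgi
  have hj' := (cj.isPushCl_iff hPe hKPX gj).1 hgj
  let T : AddSubgroup (SGA6.Kvb (KRR.PY n X)) :=
    ((gi.comp gX).comp φPX).eqLocus ((gY.comp gj).comp φPX)
  have hT : T = ⊤ := by
    refine twist_induction n X T (fun G hG => ?_)
    obtain ⟨N, L, π, hL⟩ := cj.hasLFRes hPe (cj.Q_push G hG)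
    haveI := hL.quasiIso
    obtain ⟨m₁, hm₁⟩ := exists_twist_bound n Y _ (cj.Q_push G hG).1 hL
    obtain ⟨m₂, hm₂⟩ := exists_isRegSheaf_twF n X G (isCoh_of_vb hG)
    refine ⟨max m₁ m₂, fun m hm => ?_⟩
    obtain ⟨hreg, hS0, hS1, hS2⟩ := hm₁ m (by omega)
    have hGm := hm₂ m (by omega)
    have hGmvb : FlatMod.IsFinLocFree (KRR.twF n X (m : ℤ) G) := isFinLocFree_twF n X hG _
    have hLvb : ∀ k, FlatMod.IsFinLocFree (KRR.twF n Y (m : ℤ) (L.X k)) := fun k =>
      isFinLocFree_twF n Y (hL.finLocFree k) _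
    have hpvb : ∀ k, FlatMod.IsFinLocFree ((Scheme.Modules.pushforward (KRR.pr n Y)).obj
        (KRR.twF n Y (m : ℤ) (L.X k))) := fun k =>
      Groth.Agent.S3756.result n Y _ (hLvb k) (hreg k)
    have hgvb : FlatMod.IsFinLocFree ((Scheme.Modules.pushforward (KRR.pr n X)).obj
        (KRR.twF n X (m : ℤ) G)) := Groth.Agent.S3756.result n X _ hGmvb hGm
    show gi (gX (φPX (KRR.cl (KRR.PY n X) (KRR.twF n X (m : ℤ) G)))) =
      gY (gj (φPX (KRR.cl (KRR.PY n X) (KRR.twF n X (m : ℤ) G))))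
    -- the class of `j_*(G(m))`
    have e1 : cj.pushK hPe (KRR.cl (KRR.PY n X) (KRR.twF n X (m : ℤ) G)) =
        ∑ k ∈ Finset.range (N + 1), (-1 : ℤ) ^ k •
          KRR.cl (KRR.PY n Y) (KRR.twF n Y (m : ℤ) (L.X k)) := by
      apply (cj.eQ hPe).injective
      rw [cj.pushK_cl hPe _ hGmvb, map_sum]
      obtain ⟨-, h2⟩ := clSub_map_eq_alt_sum (TwF n Y (m : ℤ))
        (fun S hS => shortExact_map_TwF n Y (m : ℤ) S hS)
        (fun N hN => (TwF n Y (m : ℤ)).map_isZero hN) cj.Q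
        (P1_coker cj.t) cj.Q_zero L _ π (fun k => cj.le _ (hLvb k)) N hL.isZero
      rw [← clSub_iso cj.Q cj.Q_zero (fun _ _ e h => P1_of_iso cj.t e h) (pushTwFIso i G (m : ℤ))]
      refine h2.trans (Finset.sum_congr rfl (fun k _ => ?_))
      rw [map_zsmul, cj.eQ_cl hPe _ (hLvb k)]
      rfl
    -- the class of `i_*(g_*(G(m)))`
    have e2 : ci.pushK hYe (KRR.cl X ((Scheme.Modules.pushforward (KRR.pr n X)).obj
        (KRR.twF n X (m : ℤ) G))) =
        ∑ k ∈ Finset.range (N + 1), (-1 : ℤ) ^ k •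
          KRR.cl Y ((Scheme.Modules.pushforward (KRR.pr n Y)).obj
            (KRR.twF n Y (m : ℤ) (L.X k))) := by
      apply (ci.eQ hYe).injective
      rw [ci.pushK_cl hYe _ hgvb, map_sum]
      obtain ⟨-, h3⟩ := clSub_map_eq_alt_sum_of_exact (Gm n Y (m : ℤ))
        (fun N hN => (Gm n Y (m : ℤ)).map_isZero hN) ci.Q
        (P1_coker ci.t) ci.Q_zero L _ π hS0 hS1 hS2 (fun k => ci.le _ (hpvb k)) N hL.isZero
      let e : (Gm n Y (m : ℤ)).obj ((Scheme.Modules.pushforward (KRR.projSpaceMap n i)).obj G) ≅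
          (Scheme.Modules.pushforward i).obj ((Scheme.Modules.pushforward (KRR.pr n X)).obj
            (KRR.twF n X (m : ℤ) G)) :=
        (Scheme.Modules.pushforward (KRR.pr n Y)).mapIso (pushTwFIso i G (m : ℤ)) ≪≫
          pushSquareIso i _
      rw [← clSub_iso ci.Q ci.Q_zero (fun _ _ e h => P1_of_iso ci.t e h) e]
      refine h3.trans (Finset.sum_congr rfl (fun k _ => ?_))
      rw [map_zsmul, ci.eQ_cl hYe _ (hpvb k)]
      rfl
    rw [hgX _ hGmvb hGm, hi', e2, hj', e1, map_sum, map_sum, map_sum]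
    refine Finset.sum_congr rfl (fun k _ => ?_)
    rw [map_zsmul, map_zsmul, map_zsmul, hgY _ (hLvb k) (hreg k)]
  ext z
  obtain ⟨x, rfl⟩ := hKPX.bijective.2 z
  have hx : x ∈ T := by rw [hT]; trivial
  exact hx

end

end Groth.Agent.Lib.Helper20.PushClPr
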