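import Groth.Agent.Lib.Helper20.PushClK
import Groth.Agent.Lib.Helper20.EulerRes2
import Groth.Agent.Lib.Helper20.KosPY7
import Groth.Agent.Lib.Helper11.ProjFormulaC

/-!
# The projection formula for the push-forward of a regular closed immersion on `K` (helper20)

`pushCl_mul_pull`: `f_K (x · f^K y) = f_K x · y`.
-/

set_option autoImplicit false
universe v u

open CategoryTheory CategoryTheory.Limits AlgebraicGeometry Opposite TopologicalSpace

namespace Groth.Agent.Lib.Helper20.PushClK

open Groth.Agent.Lib.helper16.FLF Groth.Agent.Lib.Helper20.K0Reg Groth.Agent.Lib.Helper20.K0LFRes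
  Groth.Agent.Lib.Helper20.PushClPd Groth.Agent.Lib.helper13.K0Res Groth.Agent.Lib.helper8.Dev
  Groth.Agent.Lib.helper7.K0API Groth.Agent.Lib.Helper20.KosPY KZero
  Groth.Agent.Lib.Helper20.EulerRes Groth.Agent.Lib.Helper20.TensorEquiv

noncomputable section

variable {X Y : Scheme.{u}}

/-- `− ⊗ E` is exact for `E` finite locally free -/
theorem shortExact_map_tensorRight {E : Y.Modules} (hE : FlatMod.IsFinLocFree E)
    (S : ShortComplex Y.Modules) (hS : S.ShortExact) : (S.map (tensorRight E)).ShortExact := by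
  haveI := Groth.Agent.Lib.helper11.ProjFormula.preservesFiniteLimits_tensorRight hE
  haveI : PreservesFiniteColimits (tensorRight E) :=
    Groth.Agent.Lib.helper12.TensorCocont.preservesFiniteColimits_tensorRight E
  exact hS.map_of_exact _

variable {f : X ⟶ Y} [IsClosedImmersion f] [IsLocallyNoetherian Y] (c : Ctx f)
  (hYe : KRR.HasEnoughLocFree Y)

include hYe in
theorem pushK_tensor (F : X.Modules) (hF : FlatMod.IsFinLocFree F) {E : Y.Modules}
    (hE : FlatMod.IsFinLocFree E) {n : ℕ} {L : ChainComplex Y.Modules ℕ}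
    {π : L ⟶ (ChainComplex.single₀ Y.Modules).obj ((Scheme.Modules.pushforward f).obj F)}
    (hL : KRR.IsLFRes ((Scheme.Modules.pushforward f).obj F) n L π) :
    c.pushK hYe (KRR.cl X (CohB1.tensorMod F ((Scheme.Modules.pullback f).obj E))) =
      ∑ k ∈ Finset.range (n + 1), (-1 : ℤ) ^ k • KRR.cl Y (CohB1.tensorMod (L.X k) E) := by
  haveI := hL.quasiIso
  have hpE : FlatMod.IsFinLocFree ((Scheme.Modules.pullback f).obj E) :=
    Groth.Agent.Lib.helper16.FLF.isFinLocFree_pullback _ hE
  have hT : FlatMod.IsFinLocFree (CohB1.tensorMod F ((Scheme.Modules.pullback f).obj E)) :=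
    Groth.Agent.Lib.helper16.FLFTensor.isFinLocFree_tensor hF hpE
  have hTk : ∀ k, FlatMod.IsFinLocFree (CohB1.tensorMod (L.X k) E) := fun k =>
    Groth.Agent.Lib.helper16.FLFTensor.isFinLocFree_tensor (hL.finLocFree k) hE
  haveI : (tensorRight E).PreservesZeroMorphisms :=
    Groth.Agent.Lib.helper12.TensorCocont.preservesZeroMorphisms_tensorRight E
  obtain ⟨h1, h2⟩ := clSub_map_eq_alt_sum (tensorRight E)
    (fun S hS => shortExact_map_tensorRight hE S hS)
    (fun N hN => (tensorRight E).map_isZero hN) c.Q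
    (P1_coker c.t) c.Q_zero L _ π (fun k => c.le _ (hTk k)) n hL.isZero
  apply (c.eQ hYe).injective
  rw [c.pushK_cl hYe _ hT, map_sum]
  let e : CohB1.tensorMod ((Scheme.Modules.pushforward f).obj F) E ≅
      (Scheme.Modules.pushforward f).obj
        (CohB1.tensorMod F ((Scheme.Modules.pullback f).obj E)) :=
    (Groth.Agent.Lib.helper11.ProjFormula.projIso f hE).app F
  have h3 : KZero.clSub c.Q (CohB1.tensorMod ((Scheme.Modules.pushforward f).obj F) E) =
      KZero.clSub c.Q ((Scheme.Modules.pushforward f).obj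
        (CohB1.tensorMod F ((Scheme.Modules.pullback f).obj E))) :=
    clSub_iso c.Q c.Q_zero (fun _ _ e h => P1_of_iso c.t e h) e
  rw [← h3]
  refine h2.trans (Finset.sum_congr rfl (fun k _ => ?_))
  rw [map_zsmul, c.eQ_cl hYe _ (hTk k)]
  rfl

variable {KX : Type v} [CommRing KX] [LambdaRing.LambdaOps KX] {PX : LambdaRing.PosStructure KX}
  {φX : SGA6.Kvb X →+ KX} (hKX : KRR.IsModel X KX PX φX)
  {KY : Type v} [CommRing KY] [LambdaRing.LambdaOps KY] {PY : LambdaRing.PosStructure KY}
  {φY : SGA6.Kvb Y →+ KY} (hKY : KRR.IsModel Y KY PY φY)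
  {g : KY →+ KX} (hg : KRR.IsPull f φY φX g) {h : KX →+ KY} (hh : KRR.IsPushCl f φX φY h)

include c hYe hKX hKY hg hh in
theorem pushCl_mul_pull_core {F : X.Modules} (hF : FlatMod.IsFinLocFree F) {E : Y.Modules}
    (hE : FlatMod.IsFinLocFree E) :
    h (φX (KRR.cl X F) * g (φY (KRR.cl Y E))) = h (φX (KRR.cl X F)) * φY (KRR.cl Y E) := by
  have hh' := (c.isPushCl_iff hYe hKX h).1 hh
  have hpE : FlatMod.IsFinLocFree ((Scheme.Modules.pullback f).obj E) :=
    Groth.Agent.Lib.helper16.FLF.isFinLocFree_pullback _ hE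
  obtain ⟨n, L, π, hL⟩ := c.hasLFRes hYe (c.Q_push F hF)
  rw [hg E hE, hKX.map_mul F _ hF hpE]
  have h1 : h (φX (KRR.cl X (((DCoh.tensorBi (X := X)).obj F).obj
      ((Scheme.Modules.pullback f).obj E)))) =
      φY (c.pushK hYe (KRR.cl X (CohB1.tensorMod F ((Scheme.Modules.pullback f).obj E)))) :=
    hh' _
  rw [h1, pushK_tensor c hYe F hF hE hL, hh', c.pushK_eq_of_isLFRes hYe F hF hL, map_sum, map_sum,
    Finset.sum_mul]
  refine Finset.sum_congr rfl (fun k _ => ?_)
  rw [map_zsmul, map_zsmul, smul_mul_assoc, hKY.map_mul _ E (hL.finLocFree k) hE]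
  rfl

include c hYe hKX hKY hg hh in
/-- **the projection formula** `f_K (x · f^K y) = f_K x · y` -/
theorem pushCl_mul_pull (x : KX) (y : KY) : h (x * g y) = h x * y := by
  let Sy : AddSubgroup KX :=
    (h.comp (AddMonoidHom.mulRight (g y))).eqLocus ((AddMonoidHom.mulRight y).comp h)
  have hx : x ∈ Sy := by
    refine model_induction_base hKX Sy (fun F hF => ?_) x
    let T : AddSubgroup KY :=
      ((h.comp (AddMonoidHom.mulLeft (φX (KRR.cl X F)))).comp g).eqLocus
        (AddMonoidHom.mulLeft (h (φX (KRR.cl X F))))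
    have hy : y ∈ T := by
      refine model_induction_base hKY T (fun E hE => ?_) y
      exact pushCl_mul_pull_core c hYe hKX hKY hg hh hF hE
    exact hy
  exact hx

end

end Groth.Agent.Lib.Helper20.PushClK
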