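import Mathlib
import Groth.Agent.Lib.Helper20.PushReg
import Groth.Agent.Lib.Helper20.MumfordLemma

/-!
# Mumford's lemma on a closed subscheme of `P^n_k`, via pushforward (helper20)
-/

set_option autoImplicit false
universe u

open CategoryTheory CategoryTheory.Limits AlgebraicGeometry Opposite TopologicalSpace

namespace Groth.Agent.Lib.helper20.PushMumford

open Groth.Agent.Lib.helper20.PushReg Groth.Agent.Lib.helper20.MumfordLemma
  Groth.Agent.Lib.Lead.ProjectiveVan Groth.Agent.Lib.Lead.ProjectiveCoh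

variable {k : Type u} [Field k] {n : ℕ} {X : Scheme.{u}} (i : X ⟶ CohB1.ProjSpace n k)
  [IsClosedImmersion i]

/-- the data on `P^n` obtained by pushing forward `0 → F(-1) → F → G → 0` -/
theorem exists_push_data {F G : X.Modules} (hF : Coh.IsCoh F) (hG : Coh.IsCoh G)
    (f : Pic13.twistOn k i F (-1) ⟶ F) (g : F ⟶ G) (hfg : f ≫ g = 0)
    (hS : (ShortComplex.mk f g hfg).ShortExact) {m : ℤ} (hGm : Pic13.IsMRegular k i G m) :
    ∃ (ι' : CohB1.tensorMod ((Scheme.Modules.pushforward i).obj F)
        (Twist.twistProjSpace n k (-1)) ⟶ (Scheme.Modules.pushforward i).obj F),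
      Mono ι' ∧ Curv2.IsMRegular k n (cokernel ι') m := by
  have hqF : F.IsQuasicoherent := hF.1
  have hq1 : (ShortComplex.mk f g hfg).X₁.IsQuasicoherent := isQuasicoherent_twistOn i F (-1)
  have hS' := shortExact_push i hS
  obtain ⟨e⟩ := nonempty_pushTwistIso i F (-1)
  let pf := (Scheme.Modules.pushforward i).map f
  let pg := (Scheme.Modules.pushforward i).map g
  have hm : Mono pf := hS'.mono_f
  have he : Epi pg := hS'.epi_g
  refine ⟨e.hom ≫ pf, @mono_comp _ _ _ _ _ e.hom inferInstance pf hm, ?_⟩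
  -- `cokernel (e.hom ≫ pf) ≅ cokernel pf ≅ i_* G`
  have hzero : pf ≫ pg = 0 := ((ShortComplex.mk f g hfg).map (Scheme.Modules.pushforward i)).zero
  have hcok : IsColimit (CokernelCofork.ofπ pg hzero) :=
    @ShortComplex.Exact.gIsCokernel _ _ _ _ _ hS'.exact he
  let e1 : cokernel (e.hom ≫ pf) ≅ cokernel pf := cokernelEpiComp e.hom pf
  let e2 : cokernel pf ≅ (Scheme.Modules.pushforward i).obj G :=
    IsColimit.coconePointUniqueUpToIso (colimit.isColimit _) hcok
  exact regular_of_iso (e1 ≪≫ e2).symm (regular_push i hG hGm)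

end Groth.Agent.Lib.helper20.PushMumford
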