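import Groth.Agent.Lib.Helper20.SectionPush
import Groth.Agent.Lib.Helper11.PullUnit2
import Groth.Agent.Lib.Helper20.ClosedImmHH

/-!
# Twisting along a morphism `i : X ⟶ P^n_Y` (helper20)

* `tw i E m = E ⊗ i^* O(m)`, `pushTwIso : (i_* E)(m) ≅ i_*(E ⊗ i^* O(m))`, `twZeroIso`.
* `koszul_relation_tw`: the Koszul relation `Σ (-1)^j C(n+1,j) [E ⊗ i^*O(k+j)] = 0` in `Kvb X` (given a model).
* `twist_induction_tw`: a subgroup of `Kvb X` containing `[E ⊗ i^*O(m)]` for all bundles `E` and `m ≫ 0` is `⊤`.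
* `isZero_rpush_comp_of_isZero_rpushAb`: `R^q (i ≫ p)_* G = 0` if `R^q p_* (i_* G) = 0` (`i` a closed immersion).
-/

set_option autoImplicit false
universe v u

open CategoryTheory CategoryTheory.Limits AlgebraicGeometry Opposite TopologicalSpace

namespace Groth.Agent.Lib.Helper20.PushTw

open Groth.Agent.Lib.helper16.FLF Groth.Agent.Lib.Helper20.K0Reg Groth.Agent.Lib.Helper20.K0LFRes
  Groth.Agent.Lib.helper8.Dev Groth.Agent.Lib.Helper20.KosPY KZero
  Groth.Agent.Lib.Helper20.EulerRes Groth.Agent.Lib.Helper20.TensorEquiv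
  Groth.Agent.Lib.Lead.ModTensor Groth.Agent.Lib.Helper20.PushRes
  Groth.Agent.Lib.Helper20.PushClK Groth.Agent.Lib.Helper20.FibreReg
  Groth.Agent.Lib.Helper20.PushClPr

noncomputable section

variable {n : ℕ} {X Y : Scheme.{u}} (i : X ⟶ KRR.PY n Y)

/-- `E ⊗ i^* O(m)` -/
abbrev tw (E : X.Modules) (m : ℤ) : X.Modules :=
  ((DCoh.tensorBi (X := X)).obj E).obj ((Scheme.Modules.pullback i).obj (Twist.twistOver n Y m))

theorem isFinLocFree_tw {E : X.Modules} (hE : FlatMod.IsFinLocFree E) (m : ℤ) :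
    FlatMod.IsFinLocFree (tw i E m) :=
  Groth.Agent.Lib.helper16.FLFTensor.isFinLocFree_tensor hE
    (isFinLocFree_pullback i (isFinLocFree_twistOver n Y m))

/-- `(i_* E)(m) ≅ i_*(E ⊗ i^* O(m))` -/
def pushTwIso (E : X.Modules) (m : ℤ) :
    KRR.twF n Y m ((Scheme.Modules.pushforward i).obj E) ≅
      (Scheme.Modules.pushforward i).obj (tw i E m) :=
  braid (Twist.twistOver n Y m) ((Scheme.Modules.pushforward i).obj E) ≪≫
    (Groth.Agent.Lib.helper11.ProjFormula.projIso i (isFinLocFree_twistOver n Y m)).app E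

/-- `E ⊗ i^* O(0) ≅ E` -/
def twZeroIso (E : X.Modules) : tw i E 0 ≅ E :=
  tensorIso (Iso.refl E) ((Scheme.Modules.pullback i).mapIso
      ((Scheme.Modules.pullback (q1 n Y)).mapIso
        (Groth.Agent.Lib.helper28.TwistPn.zeroIso n (ULift.{u} ℤ)).symm ≪≫
      Groth.Agent.Lib.helper11.InvMod.pullbackUnitIso (q1 n Y)) ≪≫
    Groth.Agent.Lib.helper11.InvMod.pullbackUnitIso i) ≪≫ rightUnitor E

variable [IsNoetherian Y]
  {KX : Type v} [CommRing KX] [LambdaRing.LambdaOps KX] {PX : LambdaRing.PosStructure KX}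
  {φX : SGA6.Kvb X →+ KX} (hKX : KRR.IsModel X KX PX φX)

include hKX in
/-- the pulled back Koszul relation -/
theorem koszul_relation_tw {E : X.Modules} (hE : FlatMod.IsFinLocFree E) (k : ℤ) :
    ∑ j ∈ Finset.range (n + 2), (-1 : ℤ) ^ j •
      ((n + 1).choose j • KRR.cl X (tw i E (k + j))) = 0 := by
  have hQ0 : ∀ N : (KRR.PY n Y).Modules, IsZero N → KRR.vbP (KRR.PY n Y) N :=
    fun N hN => Groth.Agent.Lib.helper25.FLFKernel.isFinLocFree_of_isZero hN
  have hQiso : ∀ M N : (KRR.PY n Y).Modules, (M ≅ N) → KRR.vbP (KRR.PY n Y) M →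
      KRR.vbP (KRR.PY n Y) N :=
    fun M N e h => Groth.Agent.Lib.helper16.FLF.isFinLocFree_of_iso e h
  obtain ⟨ψ, hψ⟩ := Groth.Agent.Lib.Helper20.KModelMaps.exists_pullK i
  have hkos := koszul_relation n Y (isFinLocFree_structureModule (KRR.PY n Y)) k
  have hcl : ∀ d : ℤ, KRR.cl (KRR.PY n Y) (KRR.twF n Y d (Coh.structureModule (KRR.PY n Y))) =
      KRR.cl (KRR.PY n Y) (Twist.twistOver n Y d) := fun d =>
    clSub_iso (KRR.vbP (KRR.PY n Y)) hQ0 hQiso (rightUnitor (Twist.twistOver n Y d))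
  have h1 := congrArg (fun z => φX (ψ z)) hkos
  simp only [map_sum, map_zsmul, map_nsmul, map_zero] at h1
  apply hKX.bijective.1
  rw [map_sum, map_zero]
  simp only [map_zsmul, map_nsmul]
  have hterm : ∀ j : ℕ, φX (KRR.cl X (tw i E (k + j))) =
      φX (KRR.cl X E) * φX (ψ (KRR.cl (KRR.PY n Y)
        (KRR.twF n Y (k + j) (Coh.structureModule (KRR.PY n Y))))) := by
    intro j
    rw [hcl, hψ _ (isFinLocFree_twistOver n Y _),
      hKX.map_mul E _ hE (isFinLocFree_pullback i (isFinLocFree_twistOver n Y _))]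
  calc ∑ j ∈ Finset.range (n + 2), (-1 : ℤ) ^ j •
        ((n + 1).choose j • φX (KRR.cl X (tw i E (k + j))))
      = φX (KRR.cl X E) * ∑ j ∈ Finset.range (n + 2), (-1 : ℤ) ^ j •
          ((n + 1).choose j • φX (ψ (KRR.cl (KRR.PY n Y)
            (KRR.twF n Y (k + j) (Coh.structureModule (KRR.PY n Y)))))) := by
        rw [Finset.mul_sum]
        refine Finset.sum_congr rfl fun j _ => ?_
        rw [hterm j, mul_smul_comm, mul_smul_comm]
    _ = 0 := by rw [h1, mul_zero]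

include hKX in
/-- a subgroup of `Kvb X` containing the classes of the high twists of all bundles is everything -/
theorem twist_induction_tw (S : AddSubgroup (SGA6.Kvb X))
    (h : ∀ E : X.Modules, FlatMod.IsFinLocFree E → ∃ m₁ : ℕ, ∀ m : ℕ, m₁ ≤ m →
      KRR.cl X (tw i E (m : ℤ)) ∈ S) : S = ⊤ := by
  have hQ0 : ∀ N : X.Modules, IsZero N → KRR.vbP X N :=
    fun N hN => Groth.Agent.Lib.helper25.FLFKernel.isFinLocFree_of_isZero hN
  have hQiso : ∀ M N : X.Modules, (M ≅ N) → KRR.vbP X M → KRR.vbP X N :=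
    fun M N e h => Groth.Agent.Lib.helper16.FLF.isFinLocFree_of_iso e h
  rw [eq_top_iff, ← Groth.Agent.Lib.helper7.K0API.closure_clSub (KRR.vbP X)]
  refine (AddSubgroup.closure_le _).2 ?_
  rintro x ⟨E, hE, rfl⟩
  obtain ⟨m₁, hm⟩ := h E hE
  have key : ∀ (D : ℕ) (k : ℤ), (m₁ : ℤ) - D ≤ k → KRR.cl X (tw i E k) ∈ S := by
    intro D
    induction D with
    | zero =>
      intro k hk
      obtain ⟨m, rfl⟩ := Int.eq_ofNat_of_zero_le (show 0 ≤ k by simp at hk; omega)
      exact hm m (by simp at hk; omega)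
    | succ D ih =>
      intro k hk
      by_cases hk' : (m₁ : ℤ) - D ≤ k
      · exact ih k hk'
      have hrel := koszul_relation_tw i hKX hE k
      rw [Finset.sum_range_succ'] at hrel
      simp only [pow_zero, Nat.choose_zero_right, one_smul, Nat.cast_zero, add_zero] at hrel
      have h2 : KRR.cl X (tw i E k) =
          -∑ j ∈ Finset.range (n + 1), (-1 : ℤ) ^ (j + 1) • ((n + 1).choose (j + 1) •
            KRR.cl X (tw i E (k + ((j + 1 : ℕ) : ℤ)))) :=
        eq_neg_of_add_eq_zero_right hrel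
      rw [h2]
      refine AddSubgroup.neg_mem _ (AddSubgroup.sum_mem _ fun j _ => ?_)
      refine AddSubgroup.zsmul_mem _ (AddSubgroup.nsmul_mem _ ?_ _) _
      exact ih _ (by push_cast at hk ⊢; omega)
  have h0 := key ((m₁ : ℤ) - 0).toNat 0 (by omega)
  rw [KRR.cl, clSub_iso (KRR.vbP X) hQ0 hQiso (twZeroIso i E)] at h0
  exact h0

end

section Rpush

open Groth.Agent.Lib.Helper20.RelReg

variable {X P Y : Scheme.{u}} (i : X ⟶ P) [IsClosedImmersion i] (p : P ⟶ Y)
  [QuasiCompact p] [IsSeparated p] [HasInjectiveResolutions X.Modules]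

/-- `R^q (i ≫ p)_* G = 0` if `R^q p_* (i_* G) = 0`, for a closed immersion `i` -/
theorem isZero_rpush_comp_of_isZero_rpushAb (G : X.Modules) [G.IsQuasicoherent] (q : ℕ) (hq : 0 < q)
    (h : IsZero ((Coh.RpushAb p q).obj (Coh.toAb ((Scheme.Modules.pushforward i).obj G)))) :
    IsZero ((Coh.Rpush (i ≫ p) q).obj G) := by
  haveI : ((Scheme.Modules.pushforward i).obj G).IsQuasicoherent :=
    Groth.Agent.Lib.helper7.QCohPushQC.isQuasicoherent_pushforward i G
  refine Groth.Agent.Lib.helper11.RpushAbBridge.isZero_rpush_of_isZero_rpushAb (i ≫ p) q G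
    (isZero_rpushAb_of_forall_affine (i ≫ p) G q hq fun V hV => ?_)
  have h1 := subsingleton_HH_restrict_of_isZero_rpushAb p ((Scheme.Modules.pushforward i).obj G) q h hV
  have e := Groth.Agent.Lib.helper11.PullUnit.restrictPushforwardIso i (p ⁻¹ᵁ V) G
  have h2 := Groth.Agent.Lib.Helper20.TwistEquivPn.subsingleton_of_iso e q h1
  exact (Groth.Agent.Lib.Helper20.ClosedImmHH.subsingleton_iff_push_closed (i ∣_ (p ⁻¹ᵁ V))
    (G.restrict (i ⁻¹ᵁ (p ⁻¹ᵁ V)).ι) q).2 h2

end Rpush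

end Groth.Agent.Lib.Helper20.PushTw
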