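import Groth.Agent.Lib.Helper20.KPr
import Groth.Agent.Lib.Helper16.QCohEpi
import Groth.Agent.Lib.Helper16.CohFinite

/-!
# Quillen generation of `Kvb (P^n_Y)`, part 1 (helper20)

* `twFAddIso : F(b)(a) ≅ F(a + b)`, `tauK_tauK`, `tauK_zero`.
* `mono_of_epi_endo`, `isIso_of_epi_endo`: an epimorphic endomorphism of a coherent module is an isomorphism.
* `pushPullIso : T ≅ p_* p^* T` for `T` finite locally free on `Y`.
* `tauK_pullK_mem`: a subgroup containing `[p^*T(d)]`, `0 ≤ d ≤ n`, contains `[p^*T(d)]` for all `d`.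
-/

set_option autoImplicit false
universe v u

open CategoryTheory CategoryTheory.Limits AlgebraicGeometry Opposite TopologicalSpace

namespace Groth.Agent.Lib.Helper20.QuillenGen

open Groth.Agent.Lib.Helper20.KosPY Groth.Agent.Lib.Helper20.RegK0 Groth.Agent.Lib.helper8.Dev
  Groth.Agent.Lib.helper7.K0API KZero Groth.Agent.Lib.Helper20.KModelMaps
  Groth.Agent.Lib.Lead.ModTensor Groth.Agent.Lib.Helper20.PushRes Groth.Agent.Lib.Helper20.KosNum
  Groth.Agent.Lib.Helper20.FibreReg Groth.Agent.Lib.Helper20.KPr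

noncomputable section

section Endo

variable {X : Scheme.{u}}

/-- an epimorphic endomorphism of a coherent module is a monomorphism -/
theorem mono_of_epi_endo {T : X.Modules} (hT : Coh.IsCoh T) (h : T ⟶ T) [Epi h] : Mono h := by
  haveI : T.IsQuasicoherent := hT.1
  refine Groth.Agent.Lib.helper16.QCohEpi.mono_of_injective_on_basis h {V : X.Opens | IsAffineOpen V}
    X.isBasis_affineOpens (fun V hV => ?_)
  haveI : Module.Finite Γ(X, V) Γ(T, V) :=
    Groth.Agent.Lib.helper16.CohFinite.finite_sections_of_isCoh T hT hV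
  have hs : Function.Surjective (h.app V).hom :=
    Groth.Agent.Lib.helper16.QCohEpi.surjective_app_of_epi h hV
  let ℓ : Γ(T, V) →ₗ[Γ(X, V)] Γ(T, V) :=
    { toFun := fun s => (h.app V).hom s
      map_add' := fun a b => map_add _ a b
      map_smul' := fun r s => Scheme.Modules.Hom.app_smul h r s }
  exact OrzechProperty.injective_of_surjective_endomorphism ℓ hs

theorem isIso_of_epi_endo {T : X.Modules} (hT : Coh.IsCoh T) (h : T ⟶ T) [Epi h] : IsIso h := by
  haveI := mono_of_epi_endo hT h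
  exact isIso_of_mono_of_epi h

end Endo

section Tw

variable (n : ℕ) (Y : Scheme.{u})

/-- `F(b)(a) ≅ F(a + b)` -/
def twFAddIso (a b : ℤ) (F : (KRR.PY n Y).Modules) :
    KRR.twF n Y a (KRR.twF n Y b F) ≅ KRR.twF n Y (a + b) F :=
  (assoc (Twist.twistOver n Y a) (Twist.twistOver n Y b) F).symm ≪≫
    tensorIso (twistOverTensorIso n a b) (Iso.refl F)

theorem tauK_tauK (a b : ℤ) (x : SGA6.Kvb (KRR.PY n Y)) :
    tauK n Y a (tauK n Y b x) = tauK n Y (a + b) x := by
  have := hom_ext_vb ((tauK n Y a).comp (tauK n Y b)) (tauK n Y (a + b)) (fun F hF => by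
    show tauK n Y a (tauK n Y b (KRR.cl _ F)) = tauK n Y (a + b) (KRR.cl _ F)
    rw [tauK_cl n Y b hF, tauK_cl n Y a (isFinLocFree_twF n Y hF b), tauK_cl n Y (a + b) hF]
    exact cl_iso (twFAddIso n Y a b F))
  exact DFunLike.congr_fun this x

theorem tauK_zero (x : SGA6.Kvb (KRR.PY n Y)) : tauK n Y 0 x = x := by
  have := hom_ext_vb (tauK n Y 0) (AddMonoidHom.id _) (fun F hF => by
    show tauK n Y 0 (KRR.cl _ F) = KRR.cl _ F
    rw [tauK_cl n Y 0 hF]
    exact cl_iso (twFZeroIso n Y F))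
  exact DFunLike.congr_fun this x

variable [IsLocallyNoetherian Y]

/-- the Koszul relation for `tauK` -/
theorem koszul_tauK (a : ℤ) (x : SGA6.Kvb (KRR.PY n Y)) :
    ∑ j ∈ Finset.range (n + 2), (-1 : ℤ) ^ j • ((n + 1).choose j • tauK n Y (a + j) x) = 0 := by
  let Φ : SGA6.Kvb (KRR.PY n Y) →+ SGA6.Kvb (KRR.PY n Y) :=
    ∑ j ∈ Finset.range (n + 2), (-1 : ℤ) ^ j • ((n + 1).choose j • tauK n Y (a + j))
  have h0 : Φ = 0 := hom_ext_vb Φ 0 (fun F hF => by
    have := koszul_relation n Y hF a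
    simp only [Φ, AddMonoidHom.finset_sum_apply, AddMonoidHom.smul_apply, AddMonoidHom.zero_apply]
    rw [← this]
    refine Finset.sum_congr rfl (fun j _ => ?_)
    rw [tauK_cl n Y _ hF])
  have := DFunLike.congr_fun h0 x
  simpa only [Φ, AddMonoidHom.finset_sum_apply, AddMonoidHom.smul_apply,
    AddMonoidHom.zero_apply] using this

/-- a subgroup containing `τ_d x` for `0 ≤ d ≤ n` contains `τ_d x` for all `d` -/
theorem tauK_mem (S : AddSubgroup (SGA6.Kvb (KRR.PY n Y))) (x : SGA6.Kvb (KRR.PY n Y))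
    (h : ∀ d : ℕ, d ≤ n → tauK n Y (d : ℤ) x ∈ S) (e : ℤ) : tauK n Y e x ∈ S := by
  -- upwards
  have up : ∀ (D : ℕ) (e : ℤ), 0 ≤ e → e ≤ n + D → tauK n Y e x ∈ S := by
    intro D
    induction D with
    | zero =>
      intro e h0 he
      obtain ⟨d, rfl⟩ := Int.eq_ofNat_of_zero_le h0
      exact h d (by simpa using he)
    | succ D ih =>
      intro e h0 he
      by_cases he' : e ≤ n + D
      · exact ih e h0 he'
      -- e = n + D + 1 ; use the relation with a = e - (n+1)
      have hrel := koszul_tauK n Y (e - (n + 1)) x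
      rw [Finset.sum_range_succ] at hrel
      have e1 : e - ((n : ℤ) + 1) + ((n + 1 : ℕ) : ℤ) = e := by push_cast; ring
      rw [e1, Nat.choose_self, one_smul] at hrel
      have h2 : (-1 : ℤ) ^ (n + 1) • tauK n Y e x =
          -∑ j ∈ Finset.range (n + 1), (-1 : ℤ) ^ j • ((n + 1).choose j •
            tauK n Y (e - ((n : ℤ) + 1) + j) x) := eq_neg_of_add_eq_zero_right hrel
      have h3 : (-1 : ℤ) ^ (n + 1) • tauK n Y e x ∈ S := by
        rw [h2]
        refine AddSubgroup.neg_mem _ (AddSubgroup.sum_mem _ fun j hj => ?_)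
        refine AddSubgroup.zsmul_mem _ (AddSubgroup.nsmul_mem _ ?_ _) _
        have hj' := Finset.mem_range.1 hj
        exact ih _ (by push_cast at he' he ⊢; omega) (by push_cast at he' he ⊢; omega)
      have h4 : tauK n Y e x = (-1 : ℤ) ^ (n + 1) • ((-1 : ℤ) ^ (n + 1) • tauK n Y e x) := by
        rw [smul_smul, ← mul_pow]; simp
      rw [h4]
      exact AddSubgroup.zsmul_mem _ h3 _
  -- downwards
  have down : ∀ (D : ℕ) (e : ℤ), -(D : ℤ) ≤ e → tauK n Y e x ∈ S := by
    intro D
    induction D with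
    | zero =>
      intro e he
      exact up (e - n).toNat e (by simpa using he) (by omega)
    | succ D ih =>
      intro e he
      by_cases he' : -(D : ℤ) ≤ e
      · exact ih e he'
      have hrel := koszul_tauK n Y e x
      rw [Finset.sum_range_succ'] at hrel
      simp only [pow_zero, Nat.choose_zero_right, one_smul, Nat.cast_zero, add_zero] at hrel
      have h2 : tauK n Y e x =
          -∑ j ∈ Finset.range (n + 1), (-1 : ℤ) ^ (j + 1) • ((n + 1).choose (j + 1) •
            tauK n Y (e + ((j + 1 : ℕ) : ℤ)) x) := eq_neg_of_add_eq_zero_right hrel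
      rw [h2]
      refine AddSubgroup.neg_mem _ (AddSubgroup.sum_mem _ fun j _ => ?_)
      refine AddSubgroup.zsmul_mem _ (AddSubgroup.nsmul_mem _ ?_ _) _
      exact ih _ (by push_cast at he ⊢; omega)
  exact down (-e).toNat e (by omega)

end Tw

section PushPull

variable (n : ℕ) (Y : Scheme.{u})

/-- `T ≅ p_* p^* T` for `T` finite locally free -/
def pushPullIso {T : Y.Modules} (hT : FlatMod.IsFinLocFree T) :
    T ≅ (Scheme.Modules.pushforward (KRR.pr n Y)).obj ((Scheme.Modules.pullback (KRR.pr n Y)).obj T) :=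
  (leftUnitor T).symm ≪≫
    tensorIso (Groth.Agent.Lib.Helper20.PushOPn.nonempty_push_structureModule_iso n Y).some.symm
      (Iso.refl T) ≪≫
    (Groth.Agent.Lib.helper11.ProjFormula.projIso (KRR.pr n Y) hT).app
      (Coh.structureModule (KRR.PY n Y)) ≪≫
    (Scheme.Modules.pushforward (KRR.pr n Y)).mapIso
      (leftUnitor ((Scheme.Modules.pullback (KRR.pr n Y)).obj T))

end PushPull

end

end Groth.Agent.Lib.Helper20.QuillenGen
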