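import Mathlib

/-!
# Non-scalar elements of finite-dimensional algebras over algebraically closed fields (helper20)

`scalar_or_zero_divisors`: an element `ψ` of a finite-dimensional algebra `A` over an algebraically
closed field `k` is either a scalar or there are nonzero commuting `α β ∈ k[ψ]` with `α β = 0`.
-/

set_option autoImplicit false

open Polynomial

namespace Groth.Agent.Lib.Helper20.Rank2Simple

theorem scalar_or_zero_divisors {k : Type*} [Field k] [IsAlgClosed k] {A : Type*} [Ring A]
    [Algebra k A] [Module.Finite k A] (ψ : A) :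
    (∃ c : k, ψ = algebraMap k A c) ∨
      ∃ α β : A, α ≠ 0 ∧ β ≠ 0 ∧ α * β = 0 ∧ β * α = 0 := by
  by_cases hA : Nontrivial A
  swap
  · rw [not_nontrivial_iff_subsingleton] at hA
    exact Or.inl ⟨0, Subsingleton.elim _ _⟩
  have hint : IsIntegral k ψ := Algebra.IsIntegral.isIntegral ψ
  have hdeg : (minpoly k ψ).degree ≠ 0 := (minpoly.degree_pos hint).ne'
  obtain ⟨c, hc⟩ := IsAlgClosed.exists_root (minpoly k ψ) hdeg
  by_cases h : ψ = algebraMap k A c
  · exact Or.inl ⟨c, h⟩
  · right
    set q := minpoly k ψ /ₘ (X - C c) with hq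
    have hfac : (X - C c) * q = minpoly k ψ := mul_divByMonic_eq_iff_isRoot.mpr hc
    have hqne : q ≠ 0 := by
      intro h0
      rw [h0, mul_zero] at hfac
      exact minpoly.ne_zero hint hfac.symm
    have hαβ : aeval ψ (X - C c) * aeval ψ q = 0 := by
      rw [← map_mul, hfac, minpoly.aeval]
    have hβα : aeval ψ q * aeval ψ (X - C c) = 0 := by
      rw [← map_mul, mul_comm, hfac, minpoly.aeval]
    refine ⟨aeval ψ (X - C c), aeval ψ q, ?_, ?_, hαβ, hβα⟩
    · rw [map_sub, aeval_X, aeval_C]
      exact sub_ne_zero.mpr h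
    · intro h0
      have h1 := minpoly.degree_le_of_ne_zero k ψ hqne h0
      have h2 : (minpoly k ψ).degree = (X - C c).degree + q.degree := by
        rw [← hfac, degree_mul]
      rw [degree_X_sub_C] at h2
      rw [h2] at h1
      rw [degree_eq_natDegree hqne] at h1
      have h3 : 1 + q.natDegree ≤ q.natDegree := by exact_mod_cast h1
      omega

end Groth.Agent.Lib.Helper20.Rank2Simple
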