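import Mathlib
import Groth.Agent.Lib.Helper20.DetTriv3

/-!
# The universal alternating map of an exterior power of an `O_X`-module (helper20)

For `IsExtPow r E L` (data `φ`, `hφ`), every open `U` and sections `e : Fin r → Γ(E, U)` there is a
unique `wedgeSec φ hφ U e : Γ(L, U)` restricting to `(φ V)⁻¹(e_1|_V ∧ … ∧ e_r|_V)` on every affine
open `V ≤ U`.
-/

set_option autoImplicit false
universe u

open CategoryTheory CategoryTheory.Limits AlgebraicGeometry Opposite TopologicalSpace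

namespace Groth.Agent.Lib.Helper20.Wedge

noncomputable section

variable {X : Scheme.{u}} {E L : X.Modules} {r : ℕ}
  (φ : ∀ U : X.affineOpens, (L.val.obj (op U.1)) ≃ₗ[Γ(X, U.1)]
    ↥(⋀[Γ(X, U.1)]^r (E.val.obj (op U.1))))
  (hφ : ∀ (U V : X.affineOpens) (h : V.1 ≤ U.1) (e : Fin r → E.val.obj (op U.1)),
      L.val.map (homOfLE h).op ((φ U).symm (exteriorPower.ιMulti _ r e)) =
        (φ V).symm (exteriorPower.ιMulti _ r (fun j => E.val.map (homOfLE h).op (e j))))

/-- the local wedge on an affine open `V ≤ U` -/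
def wlocU (U : X.Opens) (e : Fin r → Γ(E, U)) (V : X.affineOpens) (h : V.1 ≤ U) : Γ(L, V.1) :=
  (φ V).symm (exteriorPower.ιMulti _ r
    (fun j => (E.presheaf.map (homOfLE h).op (e j) : E.val.obj (op V.1))))

include hφ in
lemma res_wlocU (U : X.Opens) (e : Fin r → Γ(E, U)) (V W : X.affineOpens) (hV : V.1 ≤ U)
    (hWV : W.1 ≤ V.1) :
    L.presheaf.map (homOfLE hWV).op (wlocU φ U e V hV) = wlocU φ U e W (hWV.trans hV) := by
  have h1 := hφ V W hWV
    (fun j => (E.presheaf.map (homOfLE hV).op (e j) : E.val.obj (op V.1)))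
  have h2 : (fun j => E.val.map (homOfLE hWV).op
        (E.presheaf.map (homOfLE hV).op (e j) : E.val.obj (op V.1))) =
      fun j => (E.presheaf.map (homOfLE (hWV.trans hV)).op (e j) : E.val.obj (op W.1)) := by
    funext j
    change E.presheaf.map (homOfLE hWV).op (E.presheaf.map (homOfLE hV).op (e j)) = _
    rw [← ConcreteCategory.comp_apply, ← E.presheaf.map_comp]
    rfl
  rw [h2] at h1
  exact h1

include hφ in
/-- existence of the glued wedge -/
theorem exists_wedgeSec (U : X.Opens) (e : Fin r → Γ(E, U)) :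
    ∃ w : Γ(L, U), ∀ (V : X.affineOpens) (h : V.1 ≤ U),
      L.presheaf.map (homOfLE h).op w = wlocU φ U e V h := by
  let F : TopCat.Sheaf Ab X := ⟨L.presheaf, L.isSheaf⟩
  let ι := {V : X.affineOpens // V.1 ≤ U}
  have hcompat : TopCat.Presheaf.IsCompatible F.1 (fun V : ι => V.1.1)
      (fun V => wlocU φ U e V.1 V.2) := by
    intro V V'
    refine TopCat.Presheaf.IsSheaf.section_ext L.isSheaf (U := op (V.1.1 ⊓ V'.1.1)) ?_
    intro x hx
    obtain ⟨W, hW, hxW, hWVV⟩ := Opens.isBasis_iff_nbhd.mp X.isBasis_affineOpens hx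
    refine ⟨W, hWVV, hxW, ?_⟩
    have e1 : L.presheaf.map (homOfLE hWVV).op
        (L.presheaf.map (Opens.infLELeft V.1.1 V'.1.1).op (wlocU φ U e V.1 V.2)) =
        wlocU φ U e ⟨W, hW⟩ ((hWVV.trans inf_le_left).trans V.2) := by
      rw [← ConcreteCategory.comp_apply, ← L.presheaf.map_comp]
      exact res_wlocU φ hφ U e V.1 ⟨W, hW⟩ V.2 (hWVV.trans inf_le_left)
    have e2 : L.presheaf.map (homOfLE hWVV).op
        (L.presheaf.map (Opens.infLERight V.1.1 V'.1.1).op (wlocU φ U e V'.1 V'.2)) =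
        wlocU φ U e ⟨W, hW⟩ ((hWVV.trans inf_le_left).trans V.2) := by
      rw [← ConcreteCategory.comp_apply, ← L.presheaf.map_comp]
      exact res_wlocU φ hφ U e V'.1 ⟨W, hW⟩ V'.2 (hWVV.trans inf_le_right)
    exact e1.trans e2.symm
  obtain ⟨w, hw, -⟩ := F.existsUnique_gluing' (fun V : ι => V.1.1) U
    (fun V => homOfLE V.2) (by
      intro x hx
      obtain ⟨W, hW, hxW, hWU⟩ := Opens.isBasis_iff_nbhd.mp X.isBasis_affineOpens hx
      exact Opens.mem_iSup.mpr ⟨⟨⟨W, hW⟩, hWU⟩, hxW⟩) (fun V => wlocU φ U e V.1 V.2) hcompat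
  exact ⟨w, fun V h => hw ⟨V, h⟩⟩

/-- the wedge of `r` sections of `E` over an arbitrary open, as a section of `L` -/
def wedgeSec (U : X.Opens) (e : Fin r → Γ(E, U)) : Γ(L, U) :=
  (exists_wedgeSec φ hφ U e).choose

lemma wedgeSec_res_affine (U : X.Opens) (e : Fin r → Γ(E, U)) (V : X.affineOpens) (h : V.1 ≤ U) :
    L.presheaf.map (homOfLE h).op (wedgeSec φ hφ U e) = wlocU φ U e V h :=
  (exists_wedgeSec φ hφ U e).choose_spec V h

/-- uniqueness -/
lemma eq_wedgeSec (U : X.Opens) (e : Fin r → Γ(E, U)) (w : Γ(L, U))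
    (hw : ∀ (V : X.affineOpens) (h : V.1 ≤ U),
      L.presheaf.map (homOfLE h).op w = wlocU φ U e V h) : w = wedgeSec φ hφ U e := by
  refine TopCat.Presheaf.IsSheaf.section_ext L.isSheaf (U := op U) ?_
  intro x hx
  obtain ⟨W, hW, hxW, hWU⟩ := Opens.isBasis_iff_nbhd.mp X.isBasis_affineOpens hx
  exact ⟨W, hWU, hxW, (hw ⟨W, hW⟩ hWU).trans (wedgeSec_res_affine φ hφ U e ⟨W, hW⟩ hWU).symm⟩

/-- on an affine open the wedge is the local one -/
lemma wedgeSec_affine (U : X.affineOpens) (e : Fin r → Γ(E, U.1)) :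
    wedgeSec φ hφ U.1 e = (φ U).symm (exteriorPower.ιMulti _ r
      (fun j => (e j : E.val.obj (op U.1)))) := by
  have h := wedgeSec_res_affine φ hφ U.1 e U le_rfl
  have h1 : L.presheaf.map (homOfLE (le_refl U.1)).op (wedgeSec φ hφ U.1 e) =
      wedgeSec φ hφ U.1 e := by
    have : (homOfLE (le_refl U.1)).op = 𝟙 (op U.1) := rfl
    rw [this, L.presheaf.map_id]
    rfl
  rw [h1] at h
  rw [h]
  unfold wlocU
  congr 2
  funext j
  have : (homOfLE (le_refl U.1)).op = 𝟙 (op U.1) := rfl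
  rw [this, E.presheaf.map_id]
  rfl

/-- naturality -/
lemma wedgeSec_res (U W : X.Opens) (hWU : W ≤ U) (e : Fin r → Γ(E, U)) :
    L.presheaf.map (homOfLE hWU).op (wedgeSec φ hφ U e) =
      wedgeSec φ hφ W (fun j => E.presheaf.map (homOfLE hWU).op (e j)) := by
  apply eq_wedgeSec
  intro V h
  rw [← ConcreteCategory.comp_apply, ← L.presheaf.map_comp]
  have h1 := wedgeSec_res_affine φ hφ U e V (h.trans hWU)
  refine h1.trans ?_
  unfold wlocU
  congr 2
  funext j
  change _ = E.presheaf.map (homOfLE h).op (E.presheaf.map (homOfLE hWU).op (e j))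
  rw [← ConcreteCategory.comp_apply, ← E.presheaf.map_comp]
  rfl

end

end Groth.Agent.Lib.Helper20.Wedge
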