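import Mathlib
import Groth.Agent.Lib.Helper20.Wedge1
import Groth.Agent.Lib.Helper28.HomOfBasis

/-!
# The wedge pairing `E × E → Λ²E` on sections (helper20)
-/

set_option autoImplicit false
universe u v

open CategoryTheory CategoryTheory.Limits AlgebraicGeometry Opposite TopologicalSpace

namespace Groth.Agent.Lib.Helper20.Wedge

section Alg

variable {R : Type u} [CommRing R] {N : Type v} [AddCommGroup N] [Module R N]

/-- `a ∧ b` -/
noncomputable def w2 (a b : N) : ⋀[R]^2 N := exteriorPower.ιMulti R 2 ![a, b]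

lemma w2_add_left (a a' b : N) : w2 (R := R) (a + a') b = w2 a b + w2 a' b := by
  unfold w2
  have h1 : ![a + a', b] = Function.update ![a, b] 0 (a + a') := by
    ext j; fin_cases j <;> simp
  have h2 : ![a, b] = Function.update ![a, b] 0 a := by
    ext j; fin_cases j <;> simp
  have h3 : ![a', b] = Function.update ![a, b] 0 a' := by
    ext j; fin_cases j <;> simp
  rw [h1, AlternatingMap.map_update_add, ← h2, ← h3]

lemma w2_add_right (a b b' : N) : w2 (R := R) a (b + b') = w2 a b + w2 a b' := by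
  unfold w2
  have h1 : ![a, b + b'] = Function.update ![a, b] 1 (b + b') := by
    ext j; fin_cases j <;> simp
  have h2 : ![a, b] = Function.update ![a, b] 1 b := by
    ext j; fin_cases j <;> simp
  have h3 : ![a, b'] = Function.update ![a, b] 1 b' := by
    ext j; fin_cases j <;> simp
  rw [h1, AlternatingMap.map_update_add, ← h2, ← h3]

lemma w2_smul_left (f : R) (a b : N) : w2 (R := R) (f • a) b = f • w2 a b := by
  unfold w2
  have h1 : ![f • a, b] = Function.update ![a, b] 0 (f • a) := by
    ext j; fin_cases j <;> simp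
  have h2 : ![a, b] = Function.update ![a, b] 0 a := by
    ext j; fin_cases j <;> simp
  rw [h1, AlternatingMap.map_update_smul, ← h2]

lemma w2_smul_right (f : R) (a b : N) : w2 (R := R) a (f • b) = f • w2 a b := by
  unfold w2
  have h1 : ![a, f • b] = Function.update ![a, b] 1 (f • b) := by
    ext j; fin_cases j <;> simp
  have h2 : ![a, b] = Function.update ![a, b] 1 b := by
    ext j; fin_cases j <;> simp
  rw [h1, AlternatingMap.map_update_smul, ← h2]

lemma w2_self (a : N) : w2 (R := R) a a = 0 := by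
  unfold w2
  exact AlternatingMap.map_eq_zero_of_eq _ ![a, a] (i := 0) (j := 1) rfl (by decide)

/-- nondegeneracy of the wedge pairing on a free module of rank `2` -/
lemma eq_zero_of_w2_eq_zero (b : Module.Basis (Fin 2) R N) (v : N)
    (h : ∀ e : N, w2 (R := R) v e = 0) : v = 0 := by
  let δ : ⋀[R]^2 N →ₗ[R] R := exteriorPower.alternatingMapLinearEquiv b.det
  have hδ : ∀ a e : N, δ (w2 a e) = b.det ![a, e] := fun a e =>
    exteriorPower.alternatingMapLinearEquiv_apply_ιMulti _ _
  have h0 : b.det ![v, b 1] = 0 := by rw [← hδ, h, map_zero]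
  have h1 : b.det ![v, b 0] = 0 := by rw [← hδ, h, map_zero]
  apply b.ext_elem
  intro i
  rw [map_zero, Finsupp.zero_apply]
  rw [Module.Basis.det_apply, Matrix.det_fin_two] at h0 h1
  simp only [Module.Basis.toMatrix_apply, Matrix.cons_val_zero, Matrix.cons_val_one,
    Module.Basis.repr_self, Finsupp.single_apply] at h0 h1
  fin_cases i
  · simpa using h0
  · simpa using h1

end Alg

end Groth.Agent.Lib.Helper20.Wedge

namespace Groth.Agent.Lib.Helper20.Wedge

noncomputable section

open Groth.Agent.Lib.helper28.HomOfBasis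

variable {X : Scheme.{u}} {E L : X.Modules}
  (φ : ∀ U : X.affineOpens, (L.val.obj (op U.1)) ≃ₗ[Γ(X, U.1)]
    ↥(⋀[Γ(X, U.1)]^2 (E.val.obj (op U.1))))
  (hφ : ∀ (U V : X.affineOpens) (h : V.1 ≤ U.1) (e : Fin 2 → E.val.obj (op U.1)),
      L.val.map (homOfLE h).op ((φ U).symm (exteriorPower.ιMulti _ 2 e)) =
        (φ V).symm (exteriorPower.ιMulti _ 2 (fun j => E.val.map (homOfLE h).op (e j))))

/-- the wedge pairing on sections over an arbitrary open -/
def pair2 (U : X.Opens) (a b : Γ(E, U)) : Γ(L, U) := wedgeSec φ hφ U ![a, b]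

/-- the local model of the pairing on an affine open -/
def pairLoc (V : X.affineOpens) (a b : Γ(E, V.1)) : Γ(L, V.1) :=
  (φ V).symm (w2 (R := Γ(X, V.1)) (a : E.val.obj (op V.1)) (b : E.val.obj (op V.1)))

lemma pair2_res_affine (U : X.Opens) (a b : Γ(E, U)) (V : X.affineOpens) (h : V.1 ≤ U) :
    L.presheaf.map (homOfLE h).op (pair2 φ hφ U a b) =
      pairLoc φ V (E.presheaf.map (homOfLE h).op a) (E.presheaf.map (homOfLE h).op b) := by
  unfold pair2 pairLoc w2
  rw [wedgeSec_res_affine]
  unfold wlocU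
  have h2 : (fun j => (E.presheaf.map (homOfLE h).op (![a, b] j) : E.val.obj (op V.1))) =
      ![(E.presheaf.map (homOfLE h).op a : E.val.obj (op V.1)),
        (E.presheaf.map (homOfLE h).op b : E.val.obj (op V.1))] := by
    funext j
    fin_cases j <;> rfl
  rw [h2]
  rfl

lemma eq_pair2 (U : X.Opens) (a b : Γ(E, U)) (w : Γ(L, U))
    (hw : ∀ (V : X.affineOpens) (h : V.1 ≤ U), L.presheaf.map (homOfLE h).op w =
      pairLoc φ V (E.presheaf.map (homOfLE h).op a) (E.presheaf.map (homOfLE h).op b)) :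
    w = pair2 φ hφ U a b := by
  apply eq_wedgeSec
  intro V h
  rw [hw V h]
  unfold pairLoc w2 wlocU
  have h2 : (fun j => (E.presheaf.map (homOfLE h).op (![a, b] j) : E.val.obj (op V.1))) =
      ![(E.presheaf.map (homOfLE h).op a : E.val.obj (op V.1)),
        (E.presheaf.map (homOfLE h).op b : E.val.obj (op V.1))] := by
    funext j
    fin_cases j <;> rfl
  rw [h2]
  rfl

lemma pairLoc_add_left (V : X.affineOpens) (a a' b : Γ(E, V.1)) :
    pairLoc φ V (a + a') b = pairLoc φ V a b + pairLoc φ V a' b := by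
  unfold pairLoc
  exact (congrArg (φ V).symm (w2_add_left (R := Γ(X, V.1)) (N := E.val.obj (op V.1)) a a' b)).trans
    ((φ V).symm.map_add _ _)

lemma pairLoc_add_right (V : X.affineOpens) (a b b' : Γ(E, V.1)) :
    pairLoc φ V a (b + b') = pairLoc φ V a b + pairLoc φ V a b' := by
  unfold pairLoc
  exact (congrArg (φ V).symm (w2_add_right (R := Γ(X, V.1)) (N := E.val.obj (op V.1)) a b b')).trans
    ((φ V).symm.map_add _ _)

lemma pairLoc_smul_left (V : X.affineOpens) (f : Γ(X, V.1)) (a b : Γ(E, V.1)) :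
    pairLoc φ V (f • a) b = f • pairLoc φ V a b := by
  unfold pairLoc
  exact (congrArg (φ V).symm (w2_smul_left (R := Γ(X, V.1)) (N := E.val.obj (op V.1)) f a b)).trans
    ((φ V).symm.map_smul _ _)

lemma pairLoc_smul_right (V : X.affineOpens) (f : Γ(X, V.1)) (a b : Γ(E, V.1)) :
    pairLoc φ V a (f • b) = f • pairLoc φ V a b := by
  unfold pairLoc
  exact (congrArg (φ V).symm (w2_smul_right (R := Γ(X, V.1)) (N := E.val.obj (op V.1)) f a b)).trans
    ((φ V).symm.map_smul _ _)

lemma pairLoc_self (V : X.affineOpens) (a : Γ(E, V.1)) : pairLoc φ V a a = 0 := by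
  unfold pairLoc
  exact (congrArg (φ V).symm (w2_self (R := Γ(X, V.1)) (N := E.val.obj (op V.1)) a)).trans
    ((φ V).symm.map_zero)

lemma pair2_add_left (U : X.Opens) (a a' b : Γ(E, U)) :
    pair2 φ hφ U (a + a') b = pair2 φ hφ U a b + pair2 φ hφ U a' b := by
  symm
  apply eq_pair2
  intro V h
  rw [map_add, pair2_res_affine, pair2_res_affine, map_add, pairLoc_add_left]

lemma pair2_add_right (U : X.Opens) (a b b' : Γ(E, U)) :
    pair2 φ hφ U a (b + b') = pair2 φ hφ U a b + pair2 φ hφ U a b' := by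
  symm
  apply eq_pair2
  intro V h
  rw [map_add, pair2_res_affine, pair2_res_affine, map_add, pairLoc_add_right]

lemma pair2_smul_left (U : X.Opens) (f : Γ(X, U)) (a b : Γ(E, U)) :
    pair2 φ hφ U (f • a) b = f • pair2 φ hφ U a b := by
  symm
  apply eq_pair2
  intro V h
  rw [map_smul' L, pair2_res_affine, map_smul' E, pairLoc_smul_left]

lemma pair2_smul_right (U : X.Opens) (f : Γ(X, U)) (a b : Γ(E, U)) :
    pair2 φ hφ U a (f • b) = f • pair2 φ hφ U a b := by
  symm
  apply eq_pair2
  intro V h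
  rw [map_smul' L, pair2_res_affine, map_smul' E, pairLoc_smul_right]

lemma pair2_self (U : X.Opens) (a : Γ(E, U)) : pair2 φ hφ U a a = 0 := by
  symm
  apply eq_pair2
  intro V h
  rw [map_zero, pairLoc_self]

lemma pair2_res (U W : X.Opens) (hWU : W ≤ U) (a b : Γ(E, U)) :
    L.presheaf.map (homOfLE hWU).op (pair2 φ hφ U a b) =
      pair2 φ hφ W (E.presheaf.map (homOfLE hWU).op a) (E.presheaf.map (homOfLE hWU).op b) := by
  unfold pair2
  rw [wedgeSec_res]
  congr 1
  funext j
  fin_cases j <;> rfl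

lemma pair2_affine (V : X.affineOpens) (a b : Γ(E, V.1)) :
    pair2 φ hφ V.1 a b = pairLoc φ V a b := by
  unfold pair2 pairLoc w2
  rw [wedgeSec_affine]
  congr 2

end

end Groth.Agent.Lib.Helper20.Wedge
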