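import Mathlib
import Groth.Agent.Lib.Helper20.Wedge2
import Groth.Agent.Lib.Helper20.DetTriv5
import Groth.Agent.Lib.Helper28.TensorDesc

/-!
# The pairing `E ⊗ M ⟶ Λ²E`, `e ⊗ λ ↦ s(λ) ∧ e`, for `s : M ⟶ E` (helper20)
-/

set_option autoImplicit false
universe u

open CategoryTheory CategoryTheory.Limits AlgebraicGeometry Opposite TopologicalSpace

namespace Groth.Agent.Lib.Helper20.Wedge

noncomputable section

open Groth.Agent.Lib.helper28.HomOfBasis Groth.Agent.Lib.helper28.TensorDesc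
  Groth.Agent.Lib.helper16.QCohEpi Groth.Agent.Lib.Helper20.DetTriv
  Groth.Agent.Lib.Lead.ModTensor

variable {X : Scheme.{u}} {E L M : X.Modules}
  (φ : ∀ U : X.affineOpens, (L.val.obj (op U.1)) ≃ₗ[Γ(X, U.1)]
    ↥(⋀[Γ(X, U.1)]^2 (E.val.obj (op U.1))))
  (hφ : ∀ (U V : X.affineOpens) (h : V.1 ≤ U.1) (e : Fin 2 → E.val.obj (op U.1)),
      L.val.map (homOfLE h).op ((φ U).symm (exteriorPower.ιMulti _ 2 e)) =
        (φ V).symm (exteriorPower.ιMulti _ 2 (fun j => E.val.map (homOfLE h).op (e j))))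
  (s : M ⟶ E)

/-- the bilinear pairing `(e, λ) ↦ s(λ) ∧ e` -/
def pairS : BiPair E M L where
  toFun U e l := pair2 φ hφ U ((s.app U).hom l) e
  add_left U e e' l := pair2_add_right φ hφ U _ e e'
  smul_left U r e l := pair2_smul_right φ hφ U r _ e
  add_right U e l l' := by
    rw [map_add]
    exact pair2_add_left φ hφ U _ _ e
  smul_right U r e l := by
    have h : (s.app U).hom (r • l) = r • (s.app U).hom l := Scheme.Modules.Hom.app_smul s r l
    rw [h]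
    exact pair2_smul_left φ hφ U r _ e
  res U V i e l := by
    rw [pair2_res φ hφ U V i]
    congr 1
    exact app_map s i l

/-- the morphism `E ⊗ M ⟶ L`, `e ⊗ λ ↦ s(λ) ∧ e` -/
def wedgeHom : CohB1.tensorMod E M ⟶ L := (pairS φ hφ s).desc

lemma wedgeHom_tmul (U : X.Opens) (e : E.val.obj (op U)) (l : M.val.obj (op U)) :
    ((wedgeHom φ hφ s).val.app (op U)).hom (SecTwist.tmul E M U e l) =
      pair2 φ hφ U ((s.app U).hom l) e :=
  (pairS φ hφ s).desc_tmul U e l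

/-- `s(λ₂) ∧ s(λ₁) = 0` when `M` is locally generated by one section -/
lemma pair2_app_app_eq_zero (hM : FlatMod.IsFinLocFreeOfRank 1 M) (U : X.Opens)
    (l₁ l₂ : Γ(M, U)) : pair2 φ hφ U ((s.app U).hom l₂) ((s.app U).hom l₁) = 0 := by
  refine TopCat.Presheaf.IsSheaf.section_ext L.isSheaf (U := op U) ?_
  intro x hx
  obtain ⟨V, ⟨hV, ⟨b⟩⟩, hxV, hVU⟩ := Opens.isBasis_iff_nbhd.mp (isBasis_free hM) hx
  refine ⟨V, hVU, hxV, ?_⟩
  rw [map_zero, pair2_res φ hφ U V hVU, ← app_map s hVU, ← app_map s hVU]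
  -- write both sections as multiples of the generator
  have hgen : ∀ l : Γ(M, V), ∃ f : Γ(X, V), l = f • b 0 := by
    intro l
    refine ⟨b.repr l 0, ?_⟩
    conv_lhs => rw [← b.sum_repr l]
    simp
  obtain ⟨f₁, h₁⟩ := hgen (M.presheaf.map (homOfLE hVU).op l₁)
  obtain ⟨f₂, h₂⟩ := hgen (M.presheaf.map (homOfLE hVU).op l₂)
  rw [h₁, h₂]
  have hs : ∀ f : Γ(X, V), (s.app V).hom (f • b 0) = f • (s.app V).hom (b 0) := fun f =>
    Scheme.Modules.Hom.app_smul s f (b 0)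
  rw [hs, hs, pair2_smul_left, pair2_smul_right, pair2_self, smul_zero, smul_zero]

/-- `(s ⊗ id) ≫ wedgeHom = 0` -/
theorem tensorMap_comp_wedgeHom (hM : FlatMod.IsFinLocFreeOfRank 1 M) :
    tensorMap s (𝟙 M) ≫ wedgeHom φ hφ s = 0 := by
  apply Groth.Agent.Lib.helper12.PullTensor.tensorMod_hom_ext
  intro U l₁ l₂
  have h0 : (((0 : CohB1.tensorMod M M ⟶ L)).val.app (op U)).hom (SecTwist.tmul M M U l₁ l₂) = 0 :=
    rfl
  rw [h0]
  change ((wedgeHom φ hφ s).val.app (op U)).hom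
    (((tensorMap s (𝟙 M)).val.app (op U)).hom (SecTwist.tmul M M U l₁ l₂)) = 0
  rw [Groth.Agent.Lib.helper12.PullTensor.tensorMap_tmul, wedgeHom_tmul]
  exact pair2_app_app_eq_zero φ hφ s hM U l₁ l₂

/-- nondegeneracy: if the pairing vanishes then `s = 0` (for `E` of rank `2`) -/
theorem eq_zero_of_wedgeHom_eq_zero (hE : FlatMod.IsFinLocFreeOfRank 2 E)
    (h : wedgeHom φ hφ s = 0) : s = 0 := by
  refine hom_ext_of_basis s 0 _ (isBasis_free hE) ?_
  rintro D ⟨hD, ⟨b⟩⟩ l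
  have h0 : ((0 : M ⟶ E).app D).hom l = 0 := rfl
  rw [h0]
  apply eq_zero_of_w2_eq_zero (R := Γ(X, D)) b
  intro e
  have h1 := wedgeHom_tmul φ hφ s D e l
  rw [h] at h1
  have h2 : pair2 φ hφ D ((s.app D).hom l) e = 0 := h1.symm
  rw [pair2_affine φ hφ ⟨D, hD⟩] at h2
  have h3 := congrArg (φ ⟨D, hD⟩) h2
  unfold pairLoc at h3
  rw [LinearEquiv.apply_symm_apply] at h3
  exact h3.trans (φ ⟨D, hD⟩).map_zero

end

end Groth.Agent.Lib.Helper20.Wedge
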