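import Mathlib
import Groth.Agent.Lib.Helper20.Wedge3
import Groth.Agent.Lib.Helper20.DetTriv5
import Groth.Agent.Lib.Helper16.CohFinite
import Groth.Agent.Lib.Helper11.TensorEpi

/-!
# Perfectness of the wedge pairing of a rank two bundle (helper20)

`E` finite locally free of rank `2` with second exterior power `L` (data `φ`, `hφ`).

* algebra: `eq_smul_w2`, `exists_contraction`.
* `exists_wedgeHom_eq`: every morphism `ρ : E ⊗ M ⟶ L` is `wedgeHom s` for some `s : M ⟶ E`.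
-/

set_option autoImplicit false
universe u v

open CategoryTheory CategoryTheory.Limits AlgebraicGeometry Opposite TopologicalSpace

namespace Groth.Agent.Lib.Helper20.Rank2Simple

open Groth.Agent.Lib.Helper20.Wedge

section Alg

variable {R : Type u} [CommRing R] {N : Type v} [AddCommGroup N] [Module R N]

lemma w2_swap (a b : N) : w2 (R := R) a b = - w2 (R := R) b a := by
  have h := w2_self (R := R) (a + b)
  rw [w2_add_left, w2_add_right, w2_add_right, w2_self, w2_self, zero_add, add_zero] at h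
  exact eq_neg_of_add_eq_zero_left h

/-- every element of `⋀²` of a free module of rank `2` is a multiple of `b 0 ∧ b 1` -/
lemma eq_smul_w2 (b : Module.Basis (Fin 2) R N) (ω : ⋀[R]^2 N) :
    ω = (exteriorPower.alternatingMapLinearEquiv b.det ω) • w2 (R := R) (b 0) (b 1) := by
  have key : (LinearMap.id : ⋀[R]^2 N →ₗ[R] ⋀[R]^2 N) =
      (exteriorPower.alternatingMapLinearEquiv b.det).smulRight (w2 (R := R) (b 0) (b 1)) := by
    apply exteriorPower.linearMap_ext
    apply Module.Basis.ext_alternating b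
    intro σ hσ
    simp only [LinearMap.compAlternatingMap_apply, LinearMap.id_apply, LinearMap.smulRight_apply,
      exteriorPower.alternatingMapLinearEquiv_apply_ιMulti]
    have hfun : (fun i => b (σ i)) = ![b (σ 0), b (σ 1)] := by
      funext i; fin_cases i <;> rfl
    rw [hfun]
    change w2 (R := R) (b (σ 0)) (b (σ 1)) = _
    have h01 : σ 0 ≠ σ 1 := fun h => by
      have := hσ h
      exact absurd this (by decide)
    rw [Module.Basis.det_apply, Matrix.det_fin_two]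
    simp only [Module.Basis.toMatrix_apply, Matrix.cons_val_zero, Matrix.cons_val_one,
      Module.Basis.repr_self, Finsupp.single_apply]
    rcases Fin.exists_fin_two.mp ⟨σ 0, rfl⟩ with h0 | h0 <;>
    rcases Fin.exists_fin_two.mp ⟨σ 1, rfl⟩ with h1 | h1
    · exact absurd (h0.trans h1.symm) h01
    · rw [h0, h1]; simp
    · rw [h0, h1, w2_swap]
      simp
    · exact absurd (h0.trans h1.symm) h01
  exact LinearMap.congr_fun key ω

/-- perfectness of the wedge pairing on a free module of rank `2` -/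
lemma exists_contraction (b : Module.Basis (Fin 2) R N) (ρ' : N →ₗ[R] ⋀[R]^2 N) :
    ∃ z : N, ∀ e : N, w2 (R := R) z e = ρ' e := by
  let δ : ⋀[R]^2 N →ₗ[R] R := exteriorPower.alternatingMapLinearEquiv b.det
  have hδ : ∀ a e : N, δ (w2 a e) = b.det ![a, e] := fun a e =>
    exteriorPower.alternatingMapLinearEquiv_apply_ιMulti _ _
  let ℓ : N →ₗ[R] R := δ ∘ₗ ρ'
  refine ⟨ℓ (b 1) • b 0 - ℓ (b 0) • b 1, fun e => ?_⟩
  rw [eq_smul_w2 b (ρ' e), eq_smul_w2 b (w2 _ e)]
  congr 1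
  change δ (w2 _ e) = ℓ e
  rw [hδ]
  have he : e = b.repr e 0 • b 0 + b.repr e 1 • b 1 := by
    conv_lhs => rw [← b.sum_repr e]
    rw [Fin.sum_univ_two]
  have hℓ : ℓ e = b.repr e 0 * ℓ (b 0) + b.repr e 1 * ℓ (b 1) := by
    conv_lhs => rw [he]
    simp [map_add, map_smul]
  rw [hℓ, Module.Basis.det_apply, Matrix.det_fin_two]
  simp only [Module.Basis.toMatrix_apply, Matrix.cons_val_zero, Matrix.cons_val_one, map_sub,
    map_smul, Module.Basis.repr_self, Finsupp.coe_sub, Finsupp.coe_smul, Pi.sub_apply,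
    Pi.smul_apply, Finsupp.single_apply, smul_eq_mul]
  simp
  ring

end Alg

noncomputable section Sheaf

open Groth.Agent.Lib.helper28.HomOfBasis Groth.Agent.Lib.helper28.TensorDesc
  Groth.Agent.Lib.helper16.QCohEpi Groth.Agent.Lib.Helper20.DetTriv
  Groth.Agent.Lib.Lead.ModTensor Groth.Agent.Lib.helper7

variable {X : Scheme.{u}} {E L M : X.Modules}
  (φ : ∀ U : X.affineOpens, (L.val.obj (op U.1)) ≃ₗ[Γ(X, U.1)]
    ↥(⋀[Γ(X, U.1)]^2 (E.val.obj (op U.1))))
  (hφ : ∀ (U V : X.affineOpens) (h : V.1 ≤ U.1) (e : Fin 2 → E.val.obj (op U.1)),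
      L.val.map (homOfLE h).op ((φ U).symm (exteriorPower.ιMulti _ 2 e)) =
        (φ V).symm (exteriorPower.ιMulti _ 2 (fun j => E.val.map (homOfLE h).op (e j))))
  (ρ : CohB1.tensorMod E M ⟶ L)

lemma tmul_add_left' (U : X.Opens) (a a' : E.val.obj (op U)) (b : M.val.obj (op U)) :
    SecTwist.tmul E M U (a + a') b = SecTwist.tmul E M U a b + SecTwist.tmul E M U a' b := by
  unfold SecTwist.tmul
  rw [TensorProduct.add_tmul]
  exact map_add ((SecTwist.toTensor E M).app (op U)).hom _ _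

/-- the value `ρ (e ⊗ l)` -/
def rhoVal (V : X.Opens) (e : Γ(E, V)) (l : Γ(M, V)) : Γ(L, V) :=
  (ρ.val.app (op V)).hom (SecTwist.tmul E M V e l)

lemma rhoVal_add_left (V : X.Opens) (e e' : Γ(E, V)) (l : Γ(M, V)) :
    rhoVal ρ V (e + e') l = rhoVal ρ V e l + rhoVal ρ V e' l :=
  (congrArg (ρ.val.app (op V)).hom (tmul_add_left' (E := E) (M := M) V e e' l)).trans
    (map_add (ρ.val.app (op V)).hom _ _)

lemma rhoVal_add_right (V : X.Opens) (e : Γ(E, V)) (l l' : Γ(M, V)) :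
    rhoVal ρ V e (l + l') = rhoVal ρ V e l + rhoVal ρ V e l' :=
  (congrArg (ρ.val.app (op V)).hom
    (Groth.Agent.Lib.helper11.TensorEpi.tmul_add_right E M V e l l')).trans
    (map_add (ρ.val.app (op V)).hom _ _)

lemma rhoVal_smul_left (V : X.Opens) (r : Γ(X, V)) (e : Γ(E, V)) (l : Γ(M, V)) :
    rhoVal ρ V (r • e) l = r • rhoVal ρ V e l :=
  (congrArg (ρ.val.app (op V)).hom
    (Groth.Agent.Lib.helper12.AmpleBasis.tmul_smul_left E M V r e l)).trans
    ((ρ.val.app (op V)).hom.map_smul r _)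

lemma rhoVal_smul_right (V : X.Opens) (r : Γ(X, V)) (e : Γ(E, V)) (l : Γ(M, V)) :
    rhoVal ρ V e (r • l) = r • rhoVal ρ V e l :=
  (congrArg (ρ.val.app (op V)).hom
    (Groth.Agent.Lib.helper11.TensorEpi.tmul_smul_right E M V r e l)).trans
    ((ρ.val.app (op V)).hom.map_smul r _)

lemma rhoVal_res {V W : X.Opens} (h : W ≤ V) (e : Γ(E, V)) (l : Γ(M, V)) :
    L.presheaf.map (homOfLE h).op (rhoVal ρ V e l) =
      rhoVal ρ W (E.presheaf.map (homOfLE h).op e) (M.presheaf.map (homOfLE h).op l) :=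
  (app_map ρ h (SecTwist.tmul E M V e l)).symm.trans
    (congrArg (ρ.val.app (op W)).hom (SecTwist.map_tmul E M (homOfLE h) e l))

/-- the section `z` over `D` represents `ρ (− ⊗ l)` through the wedge pairing -/
def Good (D : X.Opens) (l : Γ(M, D)) (z : Γ(E, D)) : Prop :=
  ∀ (V : X.Opens) (h : V ≤ D) (e : Γ(E, V)),
    pair2 φ hφ V (E.presheaf.map (homOfLE h).op z) e =
      rhoVal ρ V e (M.presheaf.map (homOfLE h).op l)

lemma good_res {D D' : X.Opens} (hD' : D' ≤ D) {l : Γ(M, D)} {z : Γ(E, D)}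
    (hz : Good φ hφ ρ D l z) :
    Good φ hφ ρ D' (M.presheaf.map (homOfLE hD').op l) (E.presheaf.map (homOfLE hD').op z) := by
  intro V h e
  rw [map_map E hD' h, map_map M hD' h]
  exact hz V (h.trans hD') e

lemma good_add {D : X.Opens} {l l' : Γ(M, D)} {z z' : Γ(E, D)}
    (hz : Good φ hφ ρ D l z) (hz' : Good φ hφ ρ D l' z') : Good φ hφ ρ D (l + l') (z + z') := by
  intro V h e
  rw [map_add, map_add, pair2_add_left, rhoVal_add_right, hz V h e, hz' V h e]

lemma good_smul {D : X.Opens} (r : Γ(X, D)) {l : Γ(M, D)} {z : Γ(E, D)}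
    (hz : Good φ hφ ρ D l z) : Good φ hφ ρ D (r • l) (r • z) := by
  intro V h e
  rw [map_smul' E, map_smul' M, pair2_smul_left, rhoVal_smul_right, hz V h e]

lemma good_unique {D : X.Opens} (hD : IsAffineOpen D)
    (b : Module.Basis (Fin 2) Γ(X, D) Γ(E, D)) {l : Γ(M, D)} {z z' : Γ(E, D)}
    (hz : Good φ hφ ρ D l z) (hz' : Good φ hφ ρ D l z') : z = z' := by
  rw [← sub_eq_zero]
  apply eq_zero_of_w2_eq_zero (R := Γ(X, D)) b
  intro e
  have h1 := hz D le_rfl e
  have h2 := hz' D le_rfl e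
  rw [map_self E] at h1 h2
  have h3 : pair2 φ hφ D (z - z') e = 0 := by
    have : z = (z - z') + z' := by abel
    rw [this, pair2_add_left, h2] at h1
    exact add_eq_right.mp h1
  rw [pair2_affine φ hφ ⟨D, hD⟩] at h3
  have h4 := congrArg (φ ⟨D, hD⟩) h3
  unfold pairLoc at h4
  rw [LinearEquiv.apply_symm_apply] at h4
  exact h4.trans (φ ⟨D, hD⟩).map_zero

lemma exists_good [E.IsQuasicoherent] {D : X.Opens} (hD : IsAffineOpen D)
    (b : Module.Basis (Fin 2) Γ(X, D) Γ(E, D)) (l : Γ(M, D)) :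
    ∃ z : Γ(E, D), Good φ hφ ρ D l z := by
  let ρ' : Γ(E, D) →ₗ[Γ(X, D)] ↥(⋀[Γ(X, D)]^2 (E.val.obj (op D))) :=
    { toFun := fun e => φ ⟨D, hD⟩ (rhoVal ρ D e l)
      map_add' := fun e e' =>
        (congrArg (φ ⟨D, hD⟩) (rhoVal_add_left ρ D e e' l)).trans ((φ ⟨D, hD⟩).map_add _ _)
      map_smul' := fun r e =>
        (congrArg (φ ⟨D, hD⟩) (rhoVal_smul_left ρ D r e l)).trans ((φ ⟨D, hD⟩).map_smul r _) }
  obtain ⟨z, hz⟩ := exists_contraction (R := Γ(X, D)) b ρ'
  have hzD : ∀ e : Γ(E, D), pair2 φ hφ D z e = rhoVal ρ D e l := by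
    intro e
    rw [pair2_affine φ hφ ⟨D, hD⟩]
    unfold pairLoc
    exact (congrArg (φ ⟨D, hD⟩).symm (hz e)).trans ((φ ⟨D, hD⟩).symm_apply_apply _)
  refine ⟨z, fun V h e => ?_⟩
  refine TopCat.Presheaf.IsSheaf.section_ext L.isSheaf (U := op V) ?_
  intro x hx
  obtain ⟨f, hfV, hxf⟩ := hD.exists_basicOpen_le ⟨x, hx⟩ (h hx)
  refine ⟨X.basicOpen f, hfV, hxf, ?_⟩
  have hWD : X.basicOpen f ≤ D := X.basicOpen_le f
  obtain ⟨n, e', he'⟩ := exists_pow_smul_eq_map_of_isAffineOpen hD E f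
    (E.presheaf.map (homOfLE hfV).op e)
  have hunit : IsUnit ((X.presheaf.map (homOfLE hWD).op).hom f) :=
    RingedSpace.isUnit_res_basicOpen X.toRingedSpace f
  obtain ⟨v, hv⟩ := hunit.pow n
  have key : ∀ t t' : Γ(L, X.basicOpen f), (v : Γ(X, X.basicOpen f)) • t = (v : Γ(X, X.basicOpen f)) • t' → t = t' := by
    intro t t' htt
    have := congrArg (fun w => ((v⁻¹ : Units _) : Γ(X, X.basicOpen f)) • w) htt
    simp only [smul_smul, Units.inv_mul, one_smul] at this
    exact this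
  have e1 : L.presheaf.map (homOfLE hfV).op (pair2 φ hφ V (E.presheaf.map (homOfLE h).op z) e)
      = pair2 φ hφ (X.basicOpen f) (E.presheaf.map (homOfLE hWD).op z)
          (E.presheaf.map (homOfLE hfV).op e) := by
    rw [pair2_res φ hφ V (X.basicOpen f) hfV, map_map E h hfV]
  have e2 : L.presheaf.map (homOfLE hfV).op (rhoVal ρ V e (M.presheaf.map (homOfLE h).op l))
      = rhoVal ρ (X.basicOpen f) (E.presheaf.map (homOfLE hfV).op e)
          (M.presheaf.map (homOfLE hWD).op l) := by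
    rw [rhoVal_res ρ hfV, map_map M h hfV]
  refine e1.trans (Eq.trans ?_ e2.symm)
  apply key
  have e3 : (v : Γ(X, X.basicOpen f)) • E.presheaf.map (homOfLE hfV).op e =
      E.presheaf.map (homOfLE hWD).op e' := by
    rw [hv]
    exact he'.symm
  calc (v : Γ(X, X.basicOpen f)) • pair2 φ hφ (X.basicOpen f) (E.presheaf.map (homOfLE hWD).op z)
          (E.presheaf.map (homOfLE hfV).op e)
      = pair2 φ hφ (X.basicOpen f) (E.presheaf.map (homOfLE hWD).op z)
          ((v : Γ(X, X.basicOpen f)) • E.presheaf.map (homOfLE hfV).op e) :=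
        (pair2_smul_right φ hφ (X.basicOpen f) _ _ _).symm
    _ = pair2 φ hφ (X.basicOpen f) (E.presheaf.map (homOfLE hWD).op z)
          (E.presheaf.map (homOfLE hWD).op e') := by rw [e3]
    _ = L.presheaf.map (homOfLE hWD).op (pair2 φ hφ D z e') :=
        (pair2_res φ hφ D (X.basicOpen f) hWD z e').symm
    _ = L.presheaf.map (homOfLE hWD).op (rhoVal ρ D e' l) := by rw [hzD e']
    _ = rhoVal ρ (X.basicOpen f) (E.presheaf.map (homOfLE hWD).op e')
          (M.presheaf.map (homOfLE hWD).op l) := rhoVal_res ρ hWD e' l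
    _ = rhoVal ρ (X.basicOpen f) ((v : Γ(X, X.basicOpen f)) • E.presheaf.map (homOfLE hfV).op e)
          (M.presheaf.map (homOfLE hWD).op l) := by rw [e3]
    _ = (v : Γ(X, X.basicOpen f)) • rhoVal ρ (X.basicOpen f) (E.presheaf.map (homOfLE hfV).op e)
          (M.presheaf.map (homOfLE hWD).op l) := rhoVal_smul_left ρ (X.basicOpen f) _ _ _

/-- **perfectness of the wedge pairing**: every `ρ : E ⊗ M ⟶ Λ²E` is of the form
`e ⊗ λ ↦ s(λ) ∧ e` for a morphism `s : M ⟶ E` (`E` finite locally free of rank `2`) -/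
theorem exists_wedgeHom_eq [E.IsQuasicoherent] (hE : FlatMod.IsFinLocFreeOfRank 2 E) :
    ∃ s : M ⟶ E, wedgeHom φ hφ s = ρ := by
  classical
  let 𝔅 : Set X.Opens := {U | IsAffineOpen U ∧ Nonempty (Module.Basis (Fin 2) Γ(X, U) Γ(E, U))}
  have h𝔅 : Opens.IsBasis 𝔅 := isBasis_free hE
  let B : 𝔅 → X.Opens := Subtype.val
  have hB : Opens.IsBasis (Set.range B) := by
    have : Set.range B = 𝔅 := Subtype.range_val
    rw [this]
    exact h𝔅
  have hex : ∀ (i : 𝔅) (l : Γ(M, B i)), ∃ z : Γ(E, B i), Good φ hφ ρ (B i) l z :=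
    fun i l => exists_good φ hφ ρ i.2.1 i.2.2.some l
  choose sD hsD using hex
  have huniq : ∀ (i : 𝔅) (l : Γ(M, B i)) (z z' : Γ(E, B i)),
      Good φ hφ ρ (B i) l z → Good φ hφ ρ (B i) l z' → z = z' :=
    fun i l z z' => good_unique φ hφ ρ i.2.1 i.2.2.some
  let φD : ∀ i : 𝔅, Γ(M, B i) →+ Γ(E, B i) := fun i =>
    AddMonoidHom.mk' (sD i) (fun l l' =>
      huniq i _ _ _ (hsD i (l + l')) (good_add φ hφ ρ (hsD i l) (hsD i l')))
  obtain ⟨s, hs⟩ := exists_hom_of_basis (F := M) (G := E) B hB φD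
    (fun i j hij l => huniq i _ _ _ (hsD i _) (good_res φ hφ ρ hij (hsD j l)))
    (fun i r l => huniq i _ _ _ (hsD i _) (good_smul φ hφ ρ r (hsD i l)))
  refine ⟨s, ?_⟩
  apply Groth.Agent.Lib.helper12.PullTensor.tensorMod_hom_ext
  intro U e l
  rw [wedgeHom_tmul]
  change _ = rhoVal ρ U e l
  refine TopCat.Presheaf.IsSheaf.section_ext L.isSheaf (U := op U) ?_
  intro x hx
  obtain ⟨D, hD, hxD, hDU⟩ := Opens.isBasis_iff_nbhd.mp h𝔅 hx
  refine ⟨D, hDU, hxD, ?_⟩
  rw [pair2_res φ hφ U D hDU, rhoVal_res ρ hDU, ← app_map s hDU]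
  have h1 : (s.app D).hom (M.presheaf.map (homOfLE hDU).op l) =
      sD ⟨D, hD⟩ (M.presheaf.map (homOfLE hDU).op l) := hs ⟨D, hD⟩ _
  rw [h1]
  have h2 := hsD ⟨D, hD⟩ (M.presheaf.map (homOfLE hDU).op l) D le_rfl
    (E.presheaf.map (homOfLE hDU).op e)
  rw [map_self E, map_self M] at h2
  exact h2

end Sheaf

end Groth.Agent.Lib.Helper20.Rank2Simple
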