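import Mathlib
import Groth.Agent.Lib.Lead.RefRank2
import Groth.Agent.Lib.Lead.TorsPure
import Groth.Agent.Lib.Lead.SerreFin2
import Groth.Agent.Lib.Helper7.KerSections
import Groth.Agent.Lib.Helper7.CohKer
import Groth.Agent.Lib.Helper20.LFMono
import Groth.Agent.Lib.Helper20.DetTriv5
import Groth.Agent.S16489
import Groth.Agent.S16490

/-!
# The kernel of a degenerate endomorphism of a rank two bundle is invertible (helper20)

`X` integral, locally Noetherian with regular stalks, `E` finite locally free of rank `2`,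
`α β : E ⟶ E` nonzero with `β ≫ α = 0`.  Then `kernel α` is an invertible module.
-/

set_option autoImplicit false
set_option linter.style.haveILetI false
universe u

open CategoryTheory CategoryTheory.Limits AlgebraicGeometry Opposite TopologicalSpace

namespace Groth.Agent.Lib.Helper20.Rank2Simple

noncomputable section

open Groth.Agent.Lib.helper16.QCohEpi Groth.Agent.Lib.Helper20.DetTriv
  Groth.Agent.Lib.helper7 Groth.Agent.Lib.helper16.FLF

variable {X : Scheme.{u}}

/-- the map on sections as a linear map -/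
def appLin {F G : X.Modules} (φ : F ⟶ G) (W : X.Opens) : Γ(F, W) →ₗ[Γ(X, W)] Γ(G, W) :=
  { toFun := fun m => (φ.app W).hom m
    map_add' := fun a b => map_add (φ.app W).hom a b
    map_smul' := fun r m => Scheme.Modules.Hom.app_smul φ r m }

lemma appLin_apply {F G : X.Modules} (φ : F ⟶ G) (W : X.Opens) (m : Γ(F, W)) :
    appLin φ W m = (φ.app W).hom m := rfl

/-- sections of the kernel are the kernel of the map on sections -/
def kerEquiv {F G : X.Modules} (φ : F ⟶ G) (W : X.Opens) :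
    Γ(kernel φ, W) ≃ₗ[Γ(X, W)] LinearMap.ker (appLin φ W) :=
  (LinearEquiv.ofInjective (appLin (kernel.ι φ) W)
    (KerSections.kernel_ι_app_injective φ W)).trans
    (LinearEquiv.ofEq _ _ (by
      ext m
      exact Set.ext_iff.mp (KerSections.range_kernel_ι_app φ W) m))

lemma appLin_comp_eq_zero {F G H : X.Modules} (φ : F ⟶ G) (ψ : G ⟶ H) (h : φ ≫ ψ = 0)
    (W : X.Opens) (m : Γ(F, W)) : appLin ψ W (appLin φ W m) = 0 := by
  have h2 := congrArg (fun χ => (Scheme.Modules.Hom.app χ W).hom m) h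
  exact h2

/-- the rank computation on a good affine open -/
theorem finrank_kernel_sections [IsIntegral X] [IsLocallyNoetherian X] {E : X.Modules}
    (α β : E ⟶ E) (h : β ≫ α = 0) {W : X.Opens} (hW : IsAffineOpen W) [Nonempty W]
    (b : Module.Basis (Fin 2) Γ(X, W) Γ(E, W)) (t₁ t₂ : Γ(E, W))
    (h₁ : appLin α W t₁ ≠ 0) (h₂ : appLin β W t₂ ≠ 0) :
    Module.finrank Γ(X, W) Γ(kernel α, W) = 1 := by
  haveI : IsDomain Γ(X, W) := inferInstance
  haveI : IsNoetherianRing Γ(X, W) := IsLocallyNoetherian.component_noetherian ⟨W, hW⟩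
  haveI : Module.Finite Γ(X, W) Γ(E, W) := Module.Finite.of_basis b
  haveI : Module.Free Γ(X, W) Γ(E, W) := Module.Free.of_basis b
  haveI : IsNoetherian Γ(X, W) Γ(E, W) := isNoetherian_of_isNoetherianRing_of_finite _ _
  rw [(kerEquiv α W).finrank_eq]
  set A := appLin α W
  set Bm := appLin β W
  have hE2 : Module.finrank Γ(X, W) Γ(E, W) = 2 := by
    rw [Module.finrank_eq_card_basis b, Fintype.card_fin]
  have hsum : Module.finrank Γ(X, W) (LinearMap.range A) +
      Module.finrank Γ(X, W) (LinearMap.ker A) = 2 := by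
    rw [← hE2, ← Submodule.finrank_quotient_add_finrank (LinearMap.ker A),
      A.quotKerEquivRange.finrank_eq]
  have hrA : 0 < Module.finrank Γ(X, W) (LinearMap.range A) :=
    Module.finrank_pos_iff_exists_ne_zero.mpr
      ⟨⟨A t₁, LinearMap.mem_range_self A t₁⟩, fun h0 => h₁ (congrArg Subtype.val h0)⟩
  have hrB : 0 < Module.finrank Γ(X, W) (LinearMap.range Bm) :=
    Module.finrank_pos_iff_exists_ne_zero.mpr
      ⟨⟨Bm t₂, LinearMap.mem_range_self Bm t₂⟩, fun h0 => h₂ (congrArg Subtype.val h0)⟩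
  have hle : LinearMap.range Bm ≤ LinearMap.ker A := by
    rintro _ ⟨m, rfl⟩
    exact appLin_comp_eq_zero β α h W m
  have hkA : Module.finrank Γ(X, W) (LinearMap.range Bm) ≤
      Module.finrank Γ(X, W) (LinearMap.ker A) := Submodule.finrank_mono hle
  omega

/-- sections over the empty open are trivial -/
lemma eq_of_le_bot (F : X.Modules) {O : X.Opens} (hO : O ≤ ⊥) (s t : Γ(F, O)) : s = t := by
  refine TopCat.Presheaf.IsSheaf.section_ext F.isSheaf (U := op O) ?_
  intro x hx
  exact absurd (hO hx) (by simp)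

/-- a nonzero morphism is nonzero on sections over some basis open -/
lemma exists_section_ne_zero {E : X.Modules} (hE : FlatMod.IsFinLocFreeOfRank 2 E) (α : E ⟶ E)
    (hα : α ≠ 0) : ∃ (D : X.Opens) (s : Γ(E, D)), (D : Set X).Nonempty ∧ appLin α D s ≠ 0 := by
  by_contra hcon
  push_neg at hcon
  apply hα
  refine hom_ext_of_basis α 0 _ (isBasis_free hE) ?_
  rintro D - s
  have h0 : ((0 : E ⟶ E).app D).hom s = 0 := rfl
  rw [h0]
  by_cases hD : (D : Set X).Nonempty
  · exact hcon D s hD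
  · apply eq_of_le_bot E
    intro x hx
    exact absurd ⟨x, hx⟩ hD

/-- restriction of a nonzero section of a locally free module to a nonempty open is nonzero -/
lemma res_ne_zero [IsIntegral X] {E : X.Modules} (hE : FlatMod.IsFinLocFree E) {D W : X.Opens}
    (hWD : W ≤ D) (hW : (W : Set X).Nonempty) (t : Γ(E, D)) (ht : t ≠ 0) :
    E.presheaf.map (homOfLE hWD).op t ≠ 0 := by
  intro h0
  apply ht
  apply Groth.Agent.Lib.helper20.LFMono.res_eq_zero_of_isFinLocFree hE hW t
  have : E.presheaf.map (homOfLE (inf_le_left : D ⊓ W ≤ D)).op t =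
      E.presheaf.map (homOfLE (inf_le_right : D ⊓ W ≤ W)).op
        (E.presheaf.map (homOfLE hWD).op t) := (map_map E hWD inf_le_right t).symm
  rw [this, h0, map_zero]

theorem exists_good_open [IsIntegral X] {E : X.Modules} (hE : FlatMod.IsFinLocFreeOfRank 2 E)
    (α β : E ⟶ E) (hα : α ≠ 0) (hβ : β ≠ 0) :
    ∃ W : X.Opens, IsAffineOpen W ∧ (W : Set X).Nonempty ∧
      Nonempty (Module.Basis (Fin 2) Γ(X, W) Γ(E, W)) ∧
      ∃ t₁ t₂ : Γ(E, W), appLin α W t₁ ≠ 0 ∧ appLin β W t₂ ≠ 0 := by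
  obtain ⟨D₁, s₁, hD₁, hs₁⟩ := exists_section_ne_zero hE α hα
  obtain ⟨D₂, s₂, hD₂, hs₂⟩ := exists_section_ne_zero hE β hβ
  obtain ⟨x, hx₁, hx₂⟩ : ((D₁ : Set X) ∩ D₂).Nonempty :=
    nonempty_preirreducible_inter D₁.2 D₂.2 hD₁ hD₂
  obtain ⟨W, ⟨hW, hb⟩, hxW, hWD⟩ := Opens.isBasis_iff_nbhd.mp (isBasis_free hE)
    (show x ∈ D₁ ⊓ D₂ from ⟨hx₁, hx₂⟩)
  have hflf := isFinLocFree_of_isFinLocFreeOfRank hE
  refine ⟨W, hW, ⟨x, hxW⟩, hb, E.presheaf.map (homOfLE (hWD.trans inf_le_left)).op s₁,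
    E.presheaf.map (homOfLE (hWD.trans inf_le_right)).op s₂, ?_, ?_⟩
  · rw [appLin_apply, app_map α]
    exact res_ne_zero hflf _ ⟨x, hxW⟩ _ hs₁
  · rw [appLin_apply, app_map β]
    exact res_ne_zero hflf _ ⟨x, hxW⟩ _ hs₂

/-- all stalks of the kernel have rank one -/
theorem finrank_stalk_kernel [IsIntegral X] [IsLocallyNoetherian X] {E : X.Modules}
    (hE : FlatMod.IsFinLocFreeOfRank 2 E) (α β : E ⟶ E) (hα : α ≠ 0) (hβ : β ≠ 0)
    (h : β ≫ α = 0) (x : X) :
    Module.finrank (X.presheaf.stalk x) ((kernel α).presheaf.stalk x) = 1 := by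
  have hEc : Coh.IsCoh E :=
    Groth.Agent.Lib.Lead.SerreFin.isCoh_of_isFinLocFree (isFinLocFree_of_isFinLocFreeOfRank hE)
  haveI : E.IsQuasicoherent := hEc.1
  haveI : (kernel α).IsQuasicoherent := CohKer.isQuasicoherent_kernel α
  obtain ⟨W, hW, hWne, ⟨b⟩, t₁, t₂, h₁, h₂⟩ := exists_good_open hE α β hα hβ
  obtain ⟨W', hW', hxW', -⟩ := Opens.isBasis_iff_nbhd.mp X.isBasis_affineOpens (Opens.mem_top x)
  obtain ⟨y, hyW', hyW⟩ : ((W' : Set X) ∩ W).Nonempty :=
    nonempty_preirreducible_inter W'.2 W.2 ⟨x, hxW'⟩ hWne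
  haveI : Nonempty W := ⟨⟨y, hyW⟩⟩
  rw [Groth.Agent.Lib.Lead.RefRank.finrank_stalk_eq_sections (kernel α) hW' x hxW',
    ← Groth.Agent.Lib.Lead.RefRank.finrank_stalk_eq_sections (kernel α) hW' y hyW',
    Groth.Agent.Lib.Lead.RefRank.finrank_stalk_eq_sections (kernel α) hW y hyW]
  exact finrank_kernel_sections α β h hW b t₁ t₂ h₁ h₂

/-- a finite locally free module is reflexive -/
theorem isReflexive_of_isFinLocFree [IsLocallyNoetherian X] {E : X.Modules}
    (hflf : FlatMod.IsFinLocFree E) : RefHull.IsReflexive E := by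
  have hEc : Coh.IsCoh E := Groth.Agent.Lib.Lead.SerreFin.isCoh_of_isFinLocFree hflf
  rw [Groth.Agent.Lib.Lead.RH.isReflexive_iff_forall_isReflexiveAt E hEc]
  intro x
  obtain ⟨h1, h2⟩ := free_stalk_of_isFinLocFree E hflf x
  haveI := h1
  haveI := h2
  exact Groth.Agent.Lib.Lead.RH.isReflexiveAt_of_free E x

/-- **the kernel of a degenerate endomorphism of a rank two bundle is invertible** -/
theorem isInvertible_kernel [IsIntegral X] [IsLocallyNoetherian X]
    (hreg : ∀ x : X, IsRegularLocalRing (X.presheaf.stalk x))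
    {E : X.Modules} (hE : FlatMod.IsFinLocFreeOfRank 2 E) (α β : E ⟶ E) (hα : α ≠ 0) (hβ : β ≠ 0)
    (h : β ≫ α = 0) : PicF.IsInvertible (kernel α) := by
  have hflf := isFinLocFree_of_isFinLocFreeOfRank hE
  have hEc : Coh.IsCoh E := Groth.Agent.Lib.Lead.SerreFin.isCoh_of_isFinLocFree hflf
  have hKc : Coh.IsCoh (kernel α) := CohKer.isCoh_kernel hEc hEc α
  have hErefl : RefHull.IsReflexive E := isReflexive_of_isFinLocFree hflf
  have hEtf : TorSh.IsTorsionFree E :=
    Groth.Agent.Lib.Lead.TorsPure.isTorsionFree_of_isReflexive E hErefl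
  let S : ShortComplex X.Modules :=
    ShortComplex.mk (kernel.ι α) (cokernel.π (kernel.ι α)) (cokernel.condition _)
  have hS : S.ShortExact :=
    { exact := ShortComplex.exact_cokernel (kernel.ι α)
      mono_f := inferInstanceAs (Mono (kernel.ι α))
      epi_g := inferInstanceAs (Epi (cokernel.π (kernel.ι α))) }
  have hQtf : TorSh.IsTorsionFree S.X₃ := by
    let j : cokernel (kernel.ι α) ⟶ E := Abelian.factorThruCoimage α
    haveI : Mono j := inferInstanceAs (Mono (Abelian.factorThruCoimage α))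
    exact Groth.Agent.Lib.Lead.TorsPure.isTorsionFree_of_mono j hEtf
  have hQc : Coh.IsCoh S.X₃ := CohKer.isCoh_cokernel hKc hEc _
  have hnorm := Groth.Agent.S16490.result X hreg S hS hKc hEc hQc hErefl hQtf
  have hKtf : TorSh.IsTorsionFree (kernel α) :=
    Groth.Agent.Lib.Lead.TorsPure.isTorsionFree_of_mono (kernel.ι α) hEtf
  have hKrefl : RefHull.IsReflexive (kernel α) :=
    (Groth.Agent.S16489.result X hreg (kernel α) hKc).2 ⟨hKtf, hnorm⟩
  have hrk := finrank_stalk_kernel hE α β hα hβ h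
  haveI : (kernel α).IsQuasicoherent := hKc.1
  have hfree : ∀ x : X, Module.Free (X.presheaf.stalk x) ((kernel α).presheaf.stalk x) := by
    intro x
    haveI := hreg x
    obtain ⟨hd, hufd⟩ := Groth.Agent.S2821.result (X.presheaf.stalk x)
    haveI := hd
    haveI := hufd
    haveI : Module.IsReflexive (X.presheaf.stalk x) ((kernel α).presheaf.stalk x) :=
      (Groth.Agent.Lib.Lead.RH.isReflexive_iff_forall_isReflexiveAt (kernel α) hKc).1 hKrefl x
    haveI := Groth.Agent.Lib.helper16.CohStalk.finite_stalk_of_isCoh (kernel α) hKc x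
    exact Groth.Agent.Lib.Lead.RefRank.free_of_isReflexive_of_finrank_eq_one
      ((kernel α).presheaf.stalk x) (hrk x)
  rw [isInvertible_iff_isFinLocFreeOfRank_one]
  rw [isFinLocFreeOfRank_iff_finrank_stalk (kernel α)
    (Groth.Agent.Lib.helper21.SyzygyFLF.isFinLocFree_of_free_stalks (kernel α) hKc hfree)]
  exact hrk

end

end Groth.Agent.Lib.Helper20.Rank2Simple
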