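import Mathlib
import Groth.Agent.Lib.Helper20.Wedge3
import Groth.Agent.Lib.Helper20.TwistEquivPn
import Groth.Agent.Lib.Helper20.TwistVal
import Groth.Agent.Lib.Helper20.LFMono
import Groth.Agent.Lib.Helper20.H0Vanish
import Groth.Agent.Lib.Helper20.NullCorr6
import Groth.Agent.Lib.Helper18.EffCartierCurve

/-!
# Simple rank-two bundles on `P^n` have no sections in low twists (helper20)
-/

set_option autoImplicit false
set_option linter.style.haveILetI false
universe u

open CategoryTheory CategoryTheory.Limits AlgebraicGeometry Opposite TopologicalSpace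

namespace Groth.Agent.Lib.Helper20.Wedge

noncomputable section

open Groth.Agent.Lib.Lead.ModTensor Groth.Agent.Lib.Helper20.TensorEquiv
  Groth.Agent.Lib.Helper20.TwistEquivPn Groth.Agent.Lib.helper28
  Groth.Agent.Lib.helper20.TwistVal Groth.Agent.Lib.Helper20.ProjMulHom
  Groth.Agent.Lib.helper16.FLF

section General

variable {X : Scheme.{u}} {k : Type u} [Field k] (p : X ⟶ Spec (CommRingCat.of k))

/-- a square-zero endomorphism which is a homothety vanishes (unless the module is zero) -/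
theorem eq_zero_or_isZero_of_sq_zero {E : X.Modules} (φ : E ⟶ E) (hφ : φ ≫ φ = 0)
    (hs : ∃ c' : k, (SheafOfModules.toSheaf X.ringCatSheaf).map φ =
      Coh.smulAb E (Coh.toGlobal p c')) : φ = 0 ∨ IsZero E := by
  obtain ⟨c', hc'⟩ := hs
  by_cases h0 : c' = 0
  · left
    apply (SheafOfModules.toSheaf X.ringCatSheaf).map_injective
    rw [hc', h0, map_zero, Coh.smulAb_zero]
    rfl
  · right
    have h1 : Coh.smulAb E (Coh.toGlobal p c') ≫ Coh.smulAb E (Coh.toGlobal p c') = 0 := by
      have h := congrArg (fun f => (SheafOfModules.toSheaf X.ringCatSheaf).map f) hφ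
      have h' := ((SheafOfModules.toSheaf X.ringCatSheaf).map_comp φ φ).symm.trans h
      rw [hc'] at h'
      exact h'
    have h2 : Coh.smulAb E (Coh.toGlobal p (c'⁻¹ * c'⁻¹ * (c' * c'))) = 0 := by
      rw [map_mul, Coh.smulAb_mul, map_mul (Coh.toGlobal p) c' c', Coh.smulAb_mul, h1, zero_comp]
    have h3 : c'⁻¹ * c'⁻¹ * (c' * c') = 1 := by field_simp
    rw [h3, map_one, Coh.smulAb_one] at h2
    rw [IsZero.iff_id_eq_zero]
    apply (SheafOfModules.toSheaf X.ringCatSheaf).map_injective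
    have h4 : (SheafOfModules.toSheaf X.ringCatSheaf).map (0 : E ⟶ E) = 0 := rfl
    rw [h4]
    exact ((SheafOfModules.toSheaf X.ringCatSheaf).map_id E).trans h2

end General

section Pn

variable {n : ℕ} {k : Type u} [Field k]

local notation "𝒜ₙ" => CohB1.polyGrading n k

/-- multiplication by a nonzero form is a monomorphism -/
theorem mono_mulHom {a b : ℤ} {l : ℕ} (h : a + (l : ℤ) = b) (f : 𝒜ₙ l) (hf : f.1 ≠ 0) :
    Mono (mulHom 𝒜ₙ h f) := by
  refine Groth.Agent.Lib.Helper20.NullCorr6.mono_of_injective _ fun V => ?_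
  intro τ τ' hτ
  apply valO_ext
  intro x
  have h1 := congrArg (fun t => valO 𝒜ₙ t x) hτ
  simp only [mulHom_valO] at h1
  have h3 : mkOne 𝒜ₙ f.1 x.1 ≠ 0 := by
    rw [Groth.Agent.Lib.Helper20.NullCorr6.mkOne_eq]
    intro h0
    exact hf ((IsLocalization.injective (Twist.Loc 𝒜ₙ x.1)
      (Ideal.primeCompl_le_nonZeroDivisors x.1.asHomogeneousIdeal.toIdeal))
      (h0.trans (map_zero _).symm))
  exact mul_right_cancel₀ h3 h1

/-- there is a monomorphism `O(c) ⟶ O(b)` whenever `c ≤ b` -/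
theorem exists_mono_twist (c b : ℤ) (l : ℕ) (h : c + (l : ℤ) = b) :
    ∃ g : Twist.twistProjSpace n k c ⟶ Twist.twistProjSpace n k b, Mono g := by
  have hmem : (MvPolynomial.X (0 : Fin (n + 1)) : MvPolynomial (Fin (n + 1)) k) ^ l ∈ 𝒜ₙ l := by
    have := (MvPolynomial.isHomogeneous_X k (0 : Fin (n + 1))).pow l
    rwa [one_mul] at this
  have hne : (MvPolynomial.X (0 : Fin (n + 1)) : MvPolynomial (Fin (n + 1)) k) ^ l ≠ 0 :=
    pow_ne_zero _ (MvPolynomial.X_ne_zero _)
  exact ⟨mulHom 𝒜ₙ h ⟨_, hmem⟩, mono_mulHom h ⟨_, hmem⟩ hne⟩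

end Pn

end

end Groth.Agent.Lib.Helper20.Wedge
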