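import Mathlib
import Groth.Agent.Lib.Helper20.Wedge4

/-!
# Simple rank-two bundles on `P^n` have no sections in low twists, II (helper20)
-/

set_option autoImplicit false
set_option linter.style.haveILetI false
universe u

open CategoryTheory CategoryTheory.Limits AlgebraicGeometry Opposite TopologicalSpace

namespace Groth.Agent.Lib.Helper20.Wedge

noncomputable section

open Groth.Agent.Lib.Lead.ModTensor Groth.Agent.Lib.Helper20.TensorEquiv
  Groth.Agent.Lib.Helper20.TwistEquivPn Groth.Agent.Lib.helper28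
  Groth.Agent.Lib.helper16.FLF

variable {n : ℕ} {k : Type u} [Field k]

/-- a nonzero morphism from `O(a)` to a finite locally free module on `P^n_k` is a monomorphism -/
theorem mono_of_ne_zero_twist (a : ℤ) {E : (CohB1.ProjSpace n k).Modules} {r : ℕ}
    (hE : FlatMod.IsFinLocFreeOfRank r E) (s : Twist.twistProjSpace n k a ⟶ E) (hs : s ≠ 0) :
    Mono s := by
  haveI : IsIntegral (CohB1.ProjSpace n k) :=
    Groth.Agent.Lib.helper20.H0Vanish.isIntegral_projSpace n k
  let M := Twist.twistProjSpace n k a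
  let M' := Twist.twistProjSpace n k (-a)
  let e : CohB1.tensorMod M M' ≅ Coh.structureModule (CohB1.ProjSpace n k) := invIso n k a
  let e' : CohB1.tensorMod M' M ≅ Coh.structureModule (CohB1.ProjSpace n k) := braid M' M ≪≫ e
  haveI := isEquivalence_tensorRight e'
  let s' : Coh.structureModule (CohB1.ProjSpace n k) ⟶ CohB1.tensorMod E M' :=
    e.inv ≫ tensorMap s (𝟙 M')
  have hs' : s' ≠ 0 := by
    intro h0
    apply hs
    have h1 : tensorMap s (𝟙 M') = 0 := by
      have : tensorMap s (𝟙 M') = e.hom ≫ s' := by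
        simp only [s', Iso.hom_inv_id_assoc]
      rw [this, h0, Limits.comp_zero]
    apply (tensorRight M').map_injective
    rw [tensorRight_map, h1, tensorRight_map, tensorMap_zero e']
  have hflf : FlatMod.IsFinLocFree (CohB1.tensorMod E M') :=
    isFinLocFree_of_isFinLocFreeOfRank
      (Groth.Agent.Lib.Helper18.EffCartierCurve.isFinLocFreeOfRank_tensor hE
        ((isInvertible_iff_isFinLocFreeOfRank_one _).mp (TwistPn.isInvertible n k (-a))))
  haveI : Mono s' := Groth.Agent.Lib.helper20.LFMono.mono_of_ne_zero hflf s' hs'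
  haveI : Mono (tensorMap s (𝟙 M')) := by
    have : tensorMap s (𝟙 M') = e.hom ≫ s' := by
      simp only [s', Iso.hom_inv_id_assoc]
    rw [this]
    exact mono_comp _ _
  have hm : Mono ((tensorRight M').map s) := ‹Mono (tensorMap s (𝟙 M'))›
  exact (tensorRight M').mono_of_mono_map hm

/-- **a simple rank-two bundle on `P^n_k` with `Λ²E ≅ O(c)` admits no nonzero morphism from `O(a)`
when `c ≤ 2a`** -/
theorem eq_zero_of_simple {E L : (CohB1.ProjSpace n k).Modules}
    (hE : FlatMod.IsFinLocFreeOfRank 2 E) (hL : ExtPow.IsExtPow 2 E L) (c : ℤ)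
    (eL : L ≅ Twist.twistProjSpace n k c) (a : ℤ) (l : ℕ) (hl : c + (l : ℤ) = a + a)
    (hsimple : ∀ φ : E ⟶ E, ∃ c' : k,
      (SheafOfModules.toSheaf (CohB1.ProjSpace n k).ringCatSheaf).map φ =
        Coh.smulAb E (Coh.toGlobal (CohB1.ProjSpace.toSpec n k) c'))
    (s : Twist.twistProjSpace n k a ⟶ E) : s = 0 := by
  by_contra hs
  obtain ⟨φ, hφ⟩ := hL
  let M := Twist.twistProjSpace n k a
  let e : CohB1.tensorMod M (Twist.twistProjSpace n k (-a)) ≅
    Coh.structureModule (CohB1.ProjSpace n k) := invIso n k a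
  haveI := isEquivalence_tensorRight e
  haveI : Mono s := mono_of_ne_zero_twist a hE s hs
  haveI : Mono (tensorMap s (𝟙 M)) := mono_tensorMap e s
  obtain ⟨g, hg⟩ := exists_mono_twist (n := n) (k := k) c (a + a) l hl
  haveI := hg
  let P : CohB1.tensorMod E M ⟶ L := wedgeHom φ hφ s
  let ρ : L ⟶ CohB1.tensorMod E M :=
    eL.hom ≫ g ≫ (TwistPn.tensorIso n k a a).inv ≫ tensorMap s (𝟙 M)
  haveI : Mono ρ := by
    haveI : Mono ((TwistPn.tensorIso n k a a).inv ≫ tensorMap s (𝟙 M)) := mono_comp _ _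
    haveI : Mono (g ≫ (TwistPn.tensorIso n k a a).inv ≫ tensorMap s (𝟙 M)) := mono_comp _ _
    exact mono_comp _ _
  have hM1 : FlatMod.IsFinLocFreeOfRank 1 M :=
    (isInvertible_iff_isFinLocFreeOfRank_one _).mp (TwistPn.isInvertible n k a)
  have hρP : ρ ≫ P = 0 := by
    simp only [ρ, P, Category.assoc]
    rw [tensorMap_comp_wedgeHom φ hφ s hM1]
    simp only [Limits.comp_zero]
  let ψ : CohB1.tensorMod E M ⟶ CohB1.tensorMod E M := P ≫ ρ
  have hψ : ψ ≫ ψ = 0 := by
    simp only [ψ, Category.assoc]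
    rw [← Category.assoc ρ P ρ, hρP, Limits.zero_comp, Limits.comp_zero]
  let φ' : E ⟶ E := (tensorRight M).preimage ψ
  have hφ' : (tensorRight M).map φ' = ψ := (tensorRight M).map_preimage ψ
  have hφ'2 : φ' ≫ φ' = 0 := by
    apply (tensorRight M).map_injective
    have h1 : (tensorRight M).map (φ' ≫ φ') = ψ ≫ ψ := by rw [Functor.map_comp, hφ']; rfl
    have h2 : (tensorRight M).map (0 : E ⟶ E) = 0 := by rw [tensorRight_map, tensorMap_zero e]; rfl
    exact h1.trans (hψ.trans h2.symm)
  rcases eq_zero_or_isZero_of_sq_zero (CohB1.ProjSpace.toSpec n k) φ' hφ'2 (hsimple φ') with h | h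
  · have hψ0 : ψ = 0 := by
      rw [← hφ', h, tensorRight_map, tensorMap_zero e]
    have hP : P = 0 := by
      rw [← cancel_mono ρ, Limits.zero_comp]
      exact hψ0
    exact hs (eq_zero_of_wedgeHom_eq_zero φ hφ s hE hP)
  · exact hs (h.eq_of_tgt _ _)

end

end Groth.Agent.Lib.Helper20.Wedge
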