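import Mathlib
import Groth.Agent.Lib.Helper20.Rank2Simple1
import Groth.Agent.Lib.Helper20.Rank2Simple2
import Groth.Agent.Lib.Helper20.Rank2Simple3
import Groth.Agent.Lib.Helper20.Wedge5
import Groth.Agent.Lib.Helper20.GaetaHom
import Groth.Agent.Lib.Helper20.PnLocalRing
import Groth.Agent.Lib.Helper20.PicPnMain
import Groth.Agent.Lib.Helper7.TwistAmpleIff
import Groth.Agent.Lib.Lead.KrullSchmidt3
import Groth.Agent.Lib.Helper19.ProjSpaceProper

/-!
# Rank two bundles on `P^n_k` with `H⁰` of the normalised twist zero are simple (helper20)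
-/

set_option autoImplicit false
set_option linter.style.haveILetI false
universe u

open CategoryTheory CategoryTheory.Limits AlgebraicGeometry Opposite TopologicalSpace

namespace Groth.Agent.Lib.Helper20.Rank2Simple

noncomputable section

open Groth.Agent.Lib.Lead.ModTensor Groth.Agent.Lib.Helper20.TensorEquiv
  Groth.Agent.Lib.Helper20.TwistEquivPn Groth.Agent.Lib.helper28
  Groth.Agent.Lib.helper16.FLF Groth.Agent.Lib.Helper20.Wedge

variable {n : ℕ} {k : Type u} [Field k]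

/-- the twisting sheaves on `P^n_k` are nonzero -/
theorem not_isZero_twist (a : ℤ) : ¬ IsZero (Twist.twistProjSpace n k a) := by
  intro hz
  have hz2 := Groth.Agent.Lib.Helper18.Punctual.isZero_tensorMod_left hz
    (Twist.twistProjSpace n k (-a))
  exact Groth.Agent.Lib.helper7.TwistAmpleIff.not_isZero_twist_zero n k
    (hz2.of_iso ((TwistPn.tensorIso n k a (-a) ≪≫ twistCongr n k (add_neg_cancel a)).symm))

section WedgeZero

variable {X : Scheme.{u}} {E L M : X.Modules}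
  (φ : ∀ U : X.affineOpens, (L.val.obj (op U.1)) ≃ₗ[Γ(X, U.1)]
    ↥(⋀[Γ(X, U.1)]^2 (E.val.obj (op U.1))))
  (hφ : ∀ (U V : X.affineOpens) (h : V.1 ≤ U.1) (e : Fin 2 → E.val.obj (op U.1)),
      L.val.map (homOfLE h).op ((φ U).symm (exteriorPower.ιMulti _ 2 e)) =
        (φ V).symm (exteriorPower.ιMulti _ 2 (fun j => E.val.map (homOfLE h).op (e j))))

lemma wedgeHom_zero : wedgeHom φ hφ (0 : M ⟶ E) = 0 := by
  apply Groth.Agent.Lib.helper12.PullTensor.tensorMod_hom_ext
  intro U e l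
  rw [wedgeHom_tmul]
  have h0 : (((0 : CohB1.tensorMod E M ⟶ L)).val.app (op U)).hom (SecTwist.tmul E M U e l) = 0 :=
    rfl
  rw [h0]
  have h1 : ((0 : M ⟶ E).app U).hom l = (0 : Γ(X, U)) • (0 : Γ(E, U)) := by
    rw [smul_zero]; rfl
  rw [h1, pair2_smul_left, zero_smul]
  rfl

end WedgeZero

/-- no nonzero morphisms `O(j) ⟶ E` for `j ≥ -k₀` when `H⁰(E(k₀)) = 0` -/
theorem eq_zero_of_h0 {E : (CohB1.ProjSpace n k).Modules} {r : ℕ}
    (hE : FlatMod.IsFinLocFreeOfRank r E) (k₀ : ℤ)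
    (h0 : Subsingleton (Coh.HH (CohB1.ProjSpace n k)
      (CohB1.tensorMod E (Twist.twistProjSpace n k k₀)) 0))
    (j : ℤ) (hj : -k₀ ≤ j) (s : Twist.twistProjSpace n k j ⟶ E) : s = 0 := by
  by_contra hs
  haveI : Mono s := mono_of_ne_zero_twist j hE s hs
  obtain ⟨l, hl⟩ : ∃ l : ℕ, -k₀ + (l : ℤ) = j := ⟨(j + k₀).toNat, by omega⟩
  obtain ⟨g, hg⟩ := exists_mono_twist (n := n) (k := k) (-k₀) j l hl
  haveI := hg
  let e : CohB1.tensorMod (Twist.twistProjSpace n k (-k₀)) (Twist.twistProjSpace n k k₀) ≅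
      Coh.structureModule (CohB1.ProjSpace n k) :=
    braid _ _ ≪≫ invIso n k k₀
  haveI : Subsingleton (Twist.twistProjSpace n k (-k₀) ⟶ E) :=
    (Groth.Agent.Lib.helper20.GaetaHom.twEquiv e E).subsingleton
  have h1 : g ≫ s = 0 ≫ s := Subsingleton.elim _ _
  have h2 : g = 0 := (cancel_mono s).mp h1
  exact not_isZero_twist (-k₀) (IsZero.of_mono_eq_zero g h2)

/-- a rank two bundle with `H⁰` of the normalised twist zero has no degenerate pairs of
endomorphisms -/
theorem false_of_zero_divisors {E L : (CohB1.ProjSpace n k).Modules}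
    (hE : FlatMod.IsFinLocFreeOfRank 2 E) (hL : ExtPow.IsExtPow 2 E L) (c : ℤ)
    (eL : L ≅ Twist.twistProjSpace n k c) (k₀ : ℤ)
    (hk₀ : c + 2 * k₀ = 0 ∨ c + 2 * k₀ = -1)
    (h0 : Subsingleton (Coh.HH (CohB1.ProjSpace n k)
      (CohB1.tensorMod E (Twist.twistProjSpace n k k₀)) 0))
    (α β : E ⟶ E) (hα : α ≠ 0) (hβ : β ≠ 0) (h : β ≫ α = 0) : False := by
  haveI : IsIntegral (CohB1.ProjSpace n k) :=
    Groth.Agent.Lib.helper20.H0Vanish.isIntegral_projSpace n k
  haveI : IsLocallyNoetherian (CohB1.ProjSpace n k) :=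
    Groth.Agent.Lib.Lead.SerreFin.isLocallyNoetherian_projSpace n k
  have hreg := Groth.Agent.Lib.Helper20.PnLocalRing.isRegularLocalRing_stalk n k
  have hK := isInvertible_kernel hreg hE α β hα hβ h
  obtain ⟨a, ⟨eK₀⟩⟩ := Groth.Agent.Lib.helper20.PicPnMain.exists_iso_twist n k (kernel α) hK
  have eK : kernel α ≅ Twist.twistProjSpace n k a := eK₀
  -- the sub line bundle
  let i₁ : Twist.twistProjSpace n k a ⟶ E := eK.inv ≫ kernel.ι α
  haveI : Mono i₁ := mono_comp _ _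
  have ha : a + k₀ ≤ -1 := by
    by_contra hcon
    have h1 : i₁ = 0 := eq_zero_of_h0 hE k₀ h0 a (by omega) i₁
    exact not_isZero_twist a (IsZero.of_mono_eq_zero i₁ h1)
  -- the quotient map
  let r : E ⟶ Twist.twistProjSpace n k a := kernel.lift α β h ≫ eK.hom
  have hr : r ≠ 0 := by
    intro h1
    apply hβ
    have h2 : kernel.lift α β h = 0 := by
      rw [← cancel_mono eK.hom, Limits.zero_comp]
      exact h1
    rw [← kernel.lift_ι α β h, h2, Limits.zero_comp]
  obtain ⟨b, rfl⟩ : ∃ b : ℤ, c = a + b := ⟨c - a, by ring⟩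
  obtain ⟨φ, hφ⟩ := hL
  let Mb := Twist.twistProjSpace n k b
  let ρ : CohB1.tensorMod E Mb ⟶ L :=
    tensorMap r (𝟙 Mb) ≫ (TwistPn.tensorIso n k a b).hom ≫ eL.inv
  have hEc : Coh.IsCoh E :=
    Groth.Agent.Lib.Lead.SerreFin.isCoh_of_isFinLocFree (isFinLocFree_of_isFinLocFreeOfRank hE)
  haveI : E.IsQuasicoherent := hEc.1
  obtain ⟨s, hs⟩ := exists_wedgeHom_eq φ hφ ρ hE
  have hs0 : s ≠ 0 := by
    intro h1
    rw [h1, wedgeHom_zero] at hs
    apply hr
    let e : CohB1.tensorMod Mb (Twist.twistProjSpace n k (-b)) ≅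
      Coh.structureModule (CohB1.ProjSpace n k) := invIso n k b
    haveI := isEquivalence_tensorRight e
    have h2 : tensorMap r (𝟙 Mb) = 0 := by
      rw [← cancel_mono ((TwistPn.tensorIso n k a b).hom ≫ eL.inv), Limits.zero_comp]
      exact hs.symm
    apply (tensorRight Mb).map_injective
    rw [tensorRight_map, h2, tensorRight_map, tensorMap_zero e]
  have hb : b + k₀ ≤ -1 := by
    by_contra hcon
    exact hs0 (eq_zero_of_h0 hE k₀ h0 b (by omega) s)
  omega

/-- `P^n_k` as a scheme over `k` -/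
local instance overK : (CohB1.ProjSpace n k).Over (Spec (CommRingCat.of k)) :=
  ⟨CohB1.ProjSpace.toSpec n k⟩

/-- **rank two bundles on `P^n_k` with `H⁰` of the normalised twist zero are simple** -/
theorem end_scalar_of_h0 [IsAlgClosed k] {E L : (CohB1.ProjSpace n k).Modules}
    (hE : FlatMod.IsFinLocFreeOfRank 2 E) (hL : ExtPow.IsExtPow 2 E L) (c : ℤ)
    (eL : L ≅ Twist.twistProjSpace n k c) (k₀ : ℤ)
    (hk₀ : c + 2 * k₀ = 0 ∨ c + 2 * k₀ = -1)
    (h0 : Subsingleton (Coh.HH (CohB1.ProjSpace n k)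
      (CohB1.tensorMod E (Twist.twistProjSpace n k k₀)) 0))
    (ψ : E ⟶ E) :
    ∃ c' : k, (SheafOfModules.toSheaf (CohB1.ProjSpace n k).ringCatSheaf).map ψ =
      Coh.smulAb E (Coh.toGlobal (CohB1.ProjSpace.toSpec n k) c') := by
  haveI : IsProper (CohB1.ProjSpace n k ↘ Spec (CommRingCat.of k)) :=
    Groth.Agent.Lib.helper19.ProjSpaceProper.proper_toSpec n k
  have hEc : Coh.IsCoh E :=
    Groth.Agent.Lib.Lead.SerreFin.isCoh_of_isFinLocFree (isFinLocFree_of_isFinLocFreeOfRank hE)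
  haveI : Module.Finite k (End E) :=
    Groth.Agent.Lib.Lead.KS.finite_hom k (CohB1.ProjSpace n k) hEc hEc
  rcases scalar_or_zero_divisors (k := k) (A := End E) ψ with ⟨c', hc'⟩ | ⟨α, β, hα, hβ, h1, -⟩
  · refine ⟨c', ?_⟩
    have h2 : ψ = c' • 𝟙 E := by
      rw [Algebra.algebraMap_eq_smul_one] at hc'
      exact hc'
    rw [h2, KLin.smul_id]
    rfl
  · exact (false_of_zero_divisors hE hL c eL k₀ hk₀ h0 α β hα hβ h1).elim

end

end Groth.Agent.Lib.Helper20.Rank2Simple
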