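import Groth.Agent.Lib.Helper20.RegK0
import Groth.Agent.Lib.Helper20.RegKer
import Groth.Agent.Lib.Helper20.PullSES
import Groth.Agent.Lib.Helper20.FibreReg
import Groth.Agent.S3755
import Groth.Agent.S3756

/-!
# Regular sheaves on `P^n_Y` and base change, part 1: `ψ^*F` is regular (helper20)

* `RegFrom j G m`: `H^i(G(m - i)) = 0` for `i ≥ max j 1` (on `P^n_A`); `RegFromAt`: the same on all charts
  of `P^n_Y`.
* `isRegSheaf_pullback_projSpaceMap`: for `φ : Y₁ ⟶ Y` (Noetherian schemes), `ψ : P^n_{Y₁} ⟶ P^n_Y` and `F`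
  finite locally free and regular on `P^n_Y`, `ψ^*F` is regular.
-/

set_option autoImplicit false
universe u

open CategoryTheory CategoryTheory.Limits AlgebraicGeometry Opposite TopologicalSpace

namespace Groth.Agent.Lib.Helper20.RegBC

open Groth.Agent.Lib.Helper20.RegRing Groth.Agent.Lib.Helper20.RelReg
  Groth.Agent.Lib.Helper20.RelRegSES Groth.Agent.Lib.Helper20.KosPY
  Groth.Agent.Lib.helper12.PnLocal Groth.Agent.Lib.Lead.ModTensor
  Groth.Agent.Lib.Helper20.TwistEquivPn Groth.Agent.Lib.Helper18.HH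
  Groth.Agent.Lib.Helper20.RegK0

noncomputable section

section Ring

variable {n : ℕ} {A : Type u} [CommRing A]

/-- `H^i(G(m - i)) = 0` for all `i ≥ max j 1` -/
def RegFrom (j : ℕ) (G : (CohB1.ProjSpace n A).Modules) (m : ℤ) : Prop :=
  ∀ i : ℕ, j ≤ i → 1 ≤ i → Subsingleton (Coh.HH (CohB1.ProjSpace n A)
    (CohB1.tensorMod G (Twist.twistProjSpace n A (m - i))) i)

theorem regFrom_of_isReg {G : (CohB1.ProjSpace n A).Modules} {m : ℤ} (h : IsReg n A G m) (j : ℕ) :
    RegFrom j G m := fun i _ hi => h i hi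

theorem isReg_of_regFrom {G : (CohB1.ProjSpace n A).Modules} {m : ℤ} (h : RegFrom 1 G m) :
    IsReg n A G m := fun i hi => h i hi hi

theorem regFrom_top (G : (CohB1.ProjSpace n A).Modules) [G.IsQuasicoherent] (m : ℤ) :
    RegFrom (n + 1) G m := by
  intro i hi _
  haveI : Coh.IsQCoh (CohB1.tensorMod G (Twist.twistProjSpace n A (m - i))) := by
    haveI := Groth.Agent.Lib.helper28.TwistPn.isQuasicoherent n A (m - i)
    exact Groth.Agent.Lib.helper2.TensorQCoh.isQuasicoherent_tensorMod _ _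
  exact Groth.Agent.S0022.result n A _ i (by omega)

theorem regFrom_of_iso {G G' : (CohB1.ProjSpace n A).Modules} (e : G ≅ G') {j : ℕ} {m : ℤ}
    (h : RegFrom j G m) : RegFrom j G' m :=
  fun i hj hi => subsingleton_of_iso (tensorIso e (Iso.refl _)) i (h i hj hi)

theorem regFrom_twist_iff (G : (CohB1.ProjSpace n A).Modules) (j : ℕ) (d m : ℤ) :
    RegFrom j (CohB1.tensorMod G (Twist.twistProjSpace n A d)) m ↔ RegFrom j G (d + m) := by
  constructor
  · intro h i hj hi
    have := subsingleton_of_iso (twistTwistIso n A G d (m - i)) i (h i hj hi)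
    have e : d + (m - (i : ℤ)) = d + m - i := by ring
    rwa [e] at this
  · intro h i hj hi
    have := h i hj hi
    have e : d + m - (i : ℤ) = d + (m - i) := by ring
    rw [e] at this
    exact subsingleton_of_iso (twistTwistIso n A G d (m - i)).symm i this

theorem regFrom_X₃ {S : ShortComplex (CohB1.ProjSpace n A).Modules} (hS : S.ShortExact) {j : ℕ}
    {m : ℤ} (h₂ : RegFrom j S.X₂ m) (h₁ : RegFrom (j + 1) S.X₁ (m + 1)) : RegFrom j S.X₃ m := by
  intro i hj hi
  have h := h₁ (i + 1) (by omega) (by omega)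
  have e : m + 1 - ((i + 1 : ℕ) : ℤ) = m - i := by push_cast; ring
  rw [e] at h
  exact subsingleton_X₃ (shortExact_twistSC n A (m - i) hS) i (h₂ i hj hi) h

end Ring

section PY

variable (n : ℕ) (Y : Scheme.{u})

/-- the chartwise version of `RegFrom` on `P^n_Y` -/
def RegFromAt (j : ℕ) (m : ℤ) (F : (KRR.PY n Y).Modules) : Prop :=
  ∀ (V : Y.Opens) (hV : IsAffineOpen V), RegFrom j (GV n V hV F) m

variable {n Y}

theorem regFromAt_of_isRegAt {F : (KRR.PY n Y).Modules} {m : ℤ} (h : IsRegAt n Y m F) (j : ℕ) :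
    RegFromAt n Y j m F := fun V hV => regFrom_of_isReg (h V hV) j

theorem isRegAt_of_regFromAt {F : (KRR.PY n Y).Modules} {m : ℤ} (h : RegFromAt n Y 1 m F) :
    IsRegAt n Y m F := fun V hV => isReg_of_regFrom (h V hV)

theorem regFromAt_top (F : (KRR.PY n Y).Modules) [F.IsQuasicoherent] (m : ℤ) :
    RegFromAt n Y (n + 1) m F := fun V hV => by
  haveI := isQuasicoherent_GV n V hV F
  exact regFrom_top _ m

theorem regFromAt_of_iso {F F' : (KRR.PY n Y).Modules} (e : F ≅ F') {j : ℕ} {m : ℤ}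
    (h : RegFromAt n Y j m F) : RegFromAt n Y j m F' :=
  fun V hV => regFrom_of_iso ((Scheme.Modules.pushforward (theta n V hV).hom).mapIso
    ((Scheme.Modules.restrictFunctor (KRR.pr n Y ⁻¹ᵁ V).ι).mapIso e)) (h V hV)

theorem regFromAt_twF_iff (F : (KRR.PY n Y).Modules) (j : ℕ) (d m : ℤ) :
    RegFromAt n Y j m (KRR.twF n Y d F) ↔ RegFromAt n Y j (d + m) F := by
  constructor
  · intro h V hV
    obtain ⟨e⟩ := nonempty_GV_twF_iso n V hV F d
    exact (regFrom_twist_iff (GV n V hV F) j d m).1 (regFrom_of_iso e (h V hV))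
  · intro h V hV
    obtain ⟨e⟩ := nonempty_GV_twF_iso n V hV F d
    exact regFrom_of_iso e.symm ((regFrom_twist_iff (GV n V hV F) j d m).2 (h V hV))

theorem regFromAt_X₃ {S : ShortComplex (KRR.PY n Y).Modules} (hS : S.ShortExact)
    [S.X₁.IsQuasicoherent] {j : ℕ} {m : ℤ} (h₂ : RegFromAt n Y j m S.X₂)
    (h₁ : RegFromAt n Y (j + 1) (m + 1) S.X₁) : RegFromAt n Y j m S.X₃ :=
  fun V hV => regFrom_X₃ (GVSC_shortExact n V hV hS) (h₂ V hV) (h₁ V hV)

end PY

section Pull

open Groth.Agent.Lib.Helper20.FibreReg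

variable {n : ℕ} {Y Y₁ : Scheme.{u}} (φ : Y₁ ⟶ Y)

/-- `ψ^*(F(d)) ≅ (ψ^*F)(d)` -/
def pullTwFIso (F : (KRR.PY n Y).Modules) (d : ℤ) :
    (Scheme.Modules.pullback (KRR.projSpaceMap n φ)).obj (KRR.twF n Y d F) ≅
      KRR.twF n Y₁ d ((Scheme.Modules.pullback (KRR.projSpaceMap n φ)).obj F) :=
  (Scheme.Modules.pullback (KRR.projSpaceMap n φ)).mapIso (braid _ _) ≪≫
    pullTwIso n φ F d ≪≫ braid _ _

variable [IsNoetherian Y] [IsNoetherian Y₁]

theorem regFromAt_pullback_aux :
    ∀ (k j : ℕ), j + k = n + 1 → ∀ F : (KRR.PY n Y).Modules, FlatMod.IsFinLocFree F →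
      KRR.IsRegSheaf n Y F →
      RegFromAt n Y₁ j 0 ((Scheme.Modules.pullback (KRR.projSpaceMap n φ)).obj F)
  | 0, j, hj, F, hF, _ => by
    have hjn : j = n + 1 := by omega
    subst hjn
    haveI : F.IsQuasicoherent := isQC_of_vb hF
    haveI : ((Scheme.Modules.pullback (KRR.projSpaceMap n φ)).obj F).IsQuasicoherent :=
      Groth.Agent.Lib.helper16.QCohPullback.isQuasicoherent_pullback _ _
    exact regFromAt_top _ 0
  | k + 1, j, hj, F, hF, hreg => by
    have IH := regFromAt_pullback_aux k (j + 1) (by omega)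
    have hcoh : Coh.IsCoh F := Groth.Agent.Lib.Lead.RankAdd.isCoh_of_isFinLocFree hF
    obtain ⟨hepi, hZreg⟩ := Groth.Agent.S3755.result n Y F hcoh hreg
    set ε := (Scheme.Modules.pullbackPushforwardAdjunction (KRR.pr n Y)).counit.app F with hε
    haveI : Epi ε := hepi
    have hE : FlatMod.IsFinLocFree ((Scheme.Modules.pushforward (KRR.pr n Y)).obj F) :=
      Groth.Agent.S3756.result n Y F hF hreg
    have hpE : FlatMod.IsFinLocFree ((Scheme.Modules.pullback (KRR.pr n Y)).obj
        ((Scheme.Modules.pushforward (KRR.pr n Y)).obj F)) :=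
      Groth.Agent.Lib.helper16.FLF.isFinLocFree_pullback _ hE
    have hZ : FlatMod.IsFinLocFree (kernel ε) :=
      Groth.Agent.Lib.helper25.FLFKernel.isFinLocFree_kernel_of_epi ε hpE hF
    let S : ShortComplex (KRR.PY n Y).Modules :=
      ShortComplex.mk (kernel.ι ε) ε (kernel.condition ε)
    have hS : S.ShortExact :=
      ShortComplex.ShortExact.mk' (ShortComplex.exact_of_f_is_kernel _ (kernelIsKernel _))
        inferInstance hepi
    haveI : S.X₁.IsQuasicoherent := isQC_of_vb hZ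
    haveI : S.X₂.IsQuasicoherent := isQC_of_vb hpE
    have hS₁ := Groth.Agent.Lib.Helper20.PullSES.shortExact_map_pullback
      (KRR.projSpaceMap n φ) S hS hF
    haveI : (S.map (Scheme.Modules.pullback (KRR.projSpaceMap n φ))).X₁.IsQuasicoherent :=
      Groth.Agent.Lib.helper16.QCohPullback.isQuasicoherent_pullback _ _
    -- the middle term
    have h2 : RegFromAt n Y₁ j 0 (S.map (Scheme.Modules.pullback (KRR.projSpaceMap n φ))).X₂ := by
      have hsq := projSpaceMap_pr n φ
      let e : (Scheme.Modules.pullback (KRR.projSpaceMap n φ)).obj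
          ((Scheme.Modules.pullback (KRR.pr n Y)).obj
            ((Scheme.Modules.pushforward (KRR.pr n Y)).obj F)) ≅
          (Scheme.Modules.pullback (KRR.pr n Y₁)).obj ((Scheme.Modules.pullback φ).obj
            ((Scheme.Modules.pushforward (KRR.pr n Y)).obj F)) :=
        (Scheme.Modules.pullbackComp (KRR.projSpaceMap n φ) (KRR.pr n Y)).app _ ≪≫
          (Scheme.Modules.pullbackCongr hsq).app _ ≪≫
          ((Scheme.Modules.pullbackComp (KRR.pr n Y₁) φ).app _).symm
      have hφE : Coh.IsCoh ((Scheme.Modules.pullback φ).obj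
          ((Scheme.Modules.pushforward (KRR.pr n Y)).obj F)) :=
        Groth.Agent.Lib.Lead.RankAdd.isCoh_of_isFinLocFree
          (Groth.Agent.Lib.helper16.FLF.isFinLocFree_pullback φ hE)
      have hr := Groth.Agent.Lib.Helper20.RegKer.isRegSheaf_pullback n Y₁ hφE
      haveI : ((Scheme.Modules.pullback φ).obj
          ((Scheme.Modules.pushforward (KRR.pr n Y)).obj F)).IsQuasicoherent := hφE.1
      haveI : ((Scheme.Modules.pullback (KRR.pr n Y₁)).obj ((Scheme.Modules.pullback φ).obj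
          ((Scheme.Modules.pushforward (KRR.pr n Y)).obj F))).IsQuasicoherent :=
        Groth.Agent.Lib.helper16.QCohPullback.isQuasicoherent_pullback _ _
      exact regFromAt_of_iso e.symm (regFromAt_of_isRegAt ((isRegSheaf_iff_isRegAt _).1 hr) j)
    -- the kernel
    have h1 : RegFromAt n Y₁ (j + 1) (0 + 1)
        (S.map (Scheme.Modules.pullback (KRR.projSpaceMap n φ))).X₁ := by
      have hZ1 : FlatMod.IsFinLocFree (KRR.twF n Y 1 (kernel ε)) := isFinLocFree_twF n Y hZ 1
      have t1 := IH (KRR.twF n Y 1 (kernel ε)) hZ1 hZreg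
      have t2 := regFromAt_of_iso (pullTwFIso φ (kernel ε) 1) t1
      have t3 := (regFromAt_twF_iff _ (j + 1) 1 0).1 t2
      have e : (1 : ℤ) + 0 = 0 + 1 := by ring
      rw [e] at t3
      exact t3
    exact regFromAt_X₃ hS₁ h2 h1

/-- **`ψ^*F` is regular** for `F` finite locally free and regular -/
theorem isRegSheaf_pullback_projSpaceMap (F : (KRR.PY n Y).Modules) (hF : FlatMod.IsFinLocFree F)
    (hreg : KRR.IsRegSheaf n Y F) :
    KRR.IsRegSheaf n Y₁ ((Scheme.Modules.pullback (KRR.projSpaceMap n φ)).obj F) := by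
  haveI : F.IsQuasicoherent := isQC_of_vb hF
  haveI : ((Scheme.Modules.pullback (KRR.projSpaceMap n φ)).obj F).IsQuasicoherent :=
    Groth.Agent.Lib.helper16.QCohPullback.isQuasicoherent_pullback _ _
  rw [isRegSheaf_iff_isRegAt]
  exact isRegAt_of_regFromAt (regFromAt_pullback_aux φ n 1 (by omega) F hF hreg)

end Pull

end

end Groth.Agent.Lib.Helper20.RegBC
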