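import Mathlib
import Groth.Agent.Lib.Helper20.GLP
import Groth.Agent.S0022

/-!
# Regularity from an (infinite) exact resolution by regular coherent modules on `P^n_k` (helper20)

If `… → X 2 → X 1 → X 0 → F → 0` is exact with `X s` coherent and `(d + s)`-regular, then `F` is `d`-regular.
-/

set_option autoImplicit false
universe u

open CategoryTheory CategoryTheory.Limits AlgebraicGeometry Opposite TopologicalSpace

namespace Groth.Agent.Lib.helper20.RegRes

open Groth.Agent.Lib.Helper20.TwistEquivPn Groth.Agent.Lib.Helper20.TensorEquiv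
  Groth.Agent.Lib.helper20.CMReg Groth.Agent.Lib.helper20.LinRes
  Groth.Agent.Lib.helper27.AffStratVan Groth.Agent.Lib.Helper18.HH Groth.Agent.Lib.helper20.GLP

variable {k : Type u} [Field k] {n : ℕ}

variable (X : ℕ → (CohB1.ProjSpace n k).Modules) (δ : ∀ s : ℕ, X (s + 1) ⟶ X s)
  (w : ∀ s : ℕ, δ (s + 1) ≫ δ s = 0)

/-- the descending induction: the image of `X (i+1) → X i` is `(d + i + 1)`-regular -/
theorem image_vanish_of_exact (hex : ∀ s : ℕ, (ShortComplex.mk (δ (s + 1)) (δ s) (w s)).Exact)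
    (hcoh : ∀ s : ℕ, Coh.IsCoh (X s)) (d : ℤ)
    (hreg : ∀ s : ℕ, Curv2.IsMRegular k n (X s) (d + s)) :
    ∀ (i j : ℕ), 1 ≤ j → ∀ m : ℤ, m = d + i + 1 - j →
      Subsingleton (Coh.HH (CohB1.ProjSpace n k)
        (CohB1.tensorMod (Abelian.image (δ i)) (Twist.twistProjSpace n k m)) j) := by
  suffices H : ∀ (c i : ℕ) (j : ℕ), n + 1 ≤ j + c → 1 ≤ j → ∀ m : ℤ, m = d + i + 1 - j →
      Subsingleton (Coh.HH (CohB1.ProjSpace n k)
        (CohB1.tensorMod (Abelian.image (δ i)) (Twist.twistProjSpace n k m)) j) from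
    fun i j => H (n + 1) i j (by omega)
  intro c
  induction c with
  | zero =>
    intro i j hjc hj m hm
    have hq : Coh.IsQCoh (Abelian.image (δ i)) := (isCoh_image (hcoh _) (hcoh _) _).1
    have : Coh.IsQCoh (CohB1.tensorMod (Abelian.image (δ i)) (Twist.twistProjSpace n k m)) :=
      Groth.Agent.Lib.helper2.TensorQCoh.isQuasicoherent_tensorMod _ _
    exact Groth.Agent.S0022.result n k _ j (by omega)
  | succ c ih =>
    intro i j hjc hj m hm
    have hTa := shortExact_twistSC n k m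
      (Groth.Agent.Lib.Lead.VBCurve.shortExact_kernel_image (δ i))
    refine subsingleton_X₃ hTa j ?_ ?_
    · have h := vanish_of_regular (hcoh (i + 1)) (hreg (i + 1)) (d + ((i + 1 : ℕ) : ℤ)) le_rfl j hj
      have e : d + ((i + 1 : ℕ) : ℤ) - j = m := by rw [hm]; push_cast; ring
      rw [e] at h
      exact h
    · have hTb := shortExact_twistSC n k m
        (shortExact_imgToKer (δ (i + 1)) (δ i) (w i))
      refine subsingleton_X₂ hTb (j + 1) ?_ ?_
      · exact ih (i + 1) (j + 1) (by omega) (by omega) m (by rw [hm]; push_cast; ring)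
      · have hz : IsZero (cokernel (imgToKer (δ (i + 1)) (δ i) (w i))) :=
          IsZero.of_iso ((ShortComplex.exact_iff_isZero_homology _).1 (hex i)) (cokerIso (δ (i + 1)) (δ i) (w i))
        exact Groth.Agent.Lib.helper20.KosChase.subsingleton_HH_of_isZero
          (Groth.Agent.Lib.Helper18.Punctual.isZero_tensorMod_left hz _) (j + 1)

/-- `F` is `d`-regular when it has an exact resolution by coherent `(d + s)`-regular modules -/
theorem regular_of_resolution (hex : ∀ s : ℕ, (ShortComplex.mk (δ (s + 1)) (δ s) (w s)).Exact)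
    (hcoh : ∀ s : ℕ, Coh.IsCoh (X s)) (d : ℤ)
    (hreg : ∀ s : ℕ, Curv2.IsMRegular k n (X s) (d + s))
    {F : (CohB1.ProjSpace n k).Modules} (ε : X 0 ⟶ F) [Epi ε] (w0 : δ 0 ≫ ε = 0)
    (hex0 : (ShortComplex.mk (δ 0) ε w0).Exact) : Curv2.IsMRegular k n F d := by
  intro j hj hjn
  have w1 : Abelian.image.ι (δ 0) ≫ ε = 0 := by
    rw [← cancel_epi (Abelian.factorThruImage (δ 0)), ← Category.assoc, Abelian.image.fac, w0,
      comp_zero]
  let φ : ShortComplex.mk (δ 0) ε w0 ⟶ ShortComplex.mk (Abelian.image.ι (δ 0)) ε w1 :=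
    { τ₁ := Abelian.factorThruImage (δ 0)
      τ₂ := 𝟙 _
      τ₃ := 𝟙 _
      comm₁₂ := by simp
      comm₂₃ := by simp }
  have hφ₁ : Epi φ.τ₁ := inferInstanceAs (Epi (Abelian.factorThruImage (δ 0)))
  have hφ₂ : IsIso φ.τ₂ := inferInstanceAs (IsIso (𝟙 _))
  have hφ₃ : Mono φ.τ₃ := inferInstanceAs (Mono (𝟙 _))
  have hSE : (ShortComplex.mk (Abelian.image.ι (δ 0)) ε w1).ShortExact :=
    { exact := (ShortComplex.exact_iff_of_epi_of_isIso_of_mono φ).1 hex0
      mono_f := inferInstanceAs (Mono (Abelian.image.ι (δ 0)))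
      epi_g := inferInstanceAs (Epi ε) }
  have hT := shortExact_twistSC n k (d - j) hSE
  refine subsingleton_X₃ hT j ?_ ?_
  · have h := vanish_of_regular (hcoh 0) (hreg 0) (d + ((0 : ℕ) : ℤ)) le_rfl j hj
    have e : d + ((0 : ℕ) : ℤ) - j = d - j := by push_cast; ring
    rw [e] at h
    exact h
  · exact image_vanish_of_exact X δ w hex hcoh d hreg 0 (j + 1) (by omega) (d - j)
      (by push_cast; ring)

end Groth.Agent.Lib.helper20.RegRes
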