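import Mathlib

/-!
# Avoiding finitely many proper submodules over a local ring with infinite residue field (helper20)

Mathlib only. `exists_notMem_of_ne_top`: `A` local with infinite residue field, `P` a finite
`A`-module, `M i` finitely many proper submodules: some `a : P` lies in no `M i` (Nakayama + a vector
space over an infinite field is not a finite union of proper subspaces).
-/

set_option autoImplicit false

namespace Groth.Agent.Lib.Helper20.RegSecAvoid

open IsLocalRing

variable {A : Type*} [CommRing A] [IsLocalRing A] {P : Type*} [AddCommGroup P] [Module A P]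

/-- the image of a submodule in `P / m P`, as a subspace over `A / m` -/
def imgSub (M : Submodule A P) :
    Submodule (A ⧸ maximalIdeal A) (P ⧸ (maximalIdeal A • ⊤ : Submodule A P)) where
  carrier := {x | ∃ p ∈ M, Submodule.Quotient.mk p = x}
  add_mem' := by
    rintro _ _ ⟨p, hp, rfl⟩ ⟨q, hq, rfl⟩
    exact ⟨p + q, M.add_mem hp hq, rfl⟩
  zero_mem' := ⟨0, M.zero_mem, rfl⟩
  smul_mem' := by
    rintro c _ ⟨p, hp, rfl⟩
    obtain ⟨r, rfl⟩ := Ideal.Quotient.mk_surjective c
    exact ⟨r • p, M.smul_mem r hp, rfl⟩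

theorem mem_imgSub (M : Submodule A P) (x : P ⧸ (maximalIdeal A • ⊤ : Submodule A P)) :
    x ∈ imgSub M ↔ ∃ p ∈ M, Submodule.Quotient.mk p = x := Iff.rfl

theorem imgSub_ne_top [Module.Finite A P] (M : Submodule A P) (hM : M ≠ ⊤) : imgSub M ≠ ⊤ := by
  intro h
  apply hM
  rw [eq_top_iff]
  apply Submodule.le_of_le_smul_of_le_jacobson_bot (I := maximalIdeal A) Module.Finite.fg_top
    (maximalIdeal_le_jacobson ⊥)
  intro p _
  have hp : (Submodule.Quotient.mk p : P ⧸ (maximalIdeal A • ⊤ : Submodule A P)) ∈ imgSub M := by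
    rw [h]; trivial
  obtain ⟨q, hq, hqp⟩ := hp
  have h2 : q - p ∈ (maximalIdeal A • ⊤ : Submodule A P) := (Submodule.Quotient.eq _).mp hqp
  have h3 : p = q + -(q - p) := by abel
  rw [h3]
  exact Submodule.add_mem_sup hq (Submodule.neg_mem _ h2)

theorem exists_notMem_of_ne_top [hinf : Infinite (ResidueField A)] [Module.Finite A P]
    {ι : Type*} (S : Finset ι) (M : ι → Submodule A P) (hM : ∀ i ∈ S, M i ≠ ⊤) :
    ∃ a : P, ∀ i ∈ S, a ∉ M i := by
  classical
  letI : Field (A ⧸ maximalIdeal A) := Ideal.Quotient.field _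
  haveI : Infinite (A ⧸ maximalIdeal A) := hinf
  have hne := Subspace.biUnion_ne_univ_of_top_notMem (k := A ⧸ maximalIdeal A)
    (E := P ⧸ (maximalIdeal A • ⊤ : Submodule A P))
    (s := S.image (fun i => imgSub (M i))) (by
      intro h
      obtain ⟨i, hi, hi'⟩ := Finset.mem_image.mp h
      exact imgSub_ne_top (M i) (hM i hi) hi')
  obtain ⟨x, hx⟩ := (Set.ne_univ_iff_exists_notMem _).mp hne
  obtain ⟨a, rfl⟩ := Submodule.Quotient.mk_surjective _ x
  refine ⟨a, fun i hi ha => hx ?_⟩
  refine Set.mem_biUnion (Finset.mem_image_of_mem (fun i => imgSub (M i)) hi) ?_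
  exact ⟨a, ha, rfl⟩

end Groth.Agent.Lib.Helper20.RegSecAvoid
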