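import Mathlib
import Groth.Agent.Lib.Helper20.TwistSES2
import Groth.Agent.Lib.Helper21.ZeroConn4
import Groth.Agent.Lib.Helper12.AmpleBasis
import Groth.Agent.Lib.Helper13.RestrKFlat1

/-!
# Linear combinations of sections avoiding associated points (helper20)

`L` invertible on `V`, `σ_0, …, σ_N` sections, `τ` a section with `τ = ∑ c_i σ_i`.
* `LocData σ x`: an affine neighbourhood `W` of `x`, a generator `ℓ` of `L` on `W` and the
  coefficients `h_i` with `σ_i|_W = h_i ℓ`; `nonempty_locData`.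
* `mem_genLocus_iff`: `x ∈ V_τ ↔ (∑ c_i|_W h_i)(x) ≠ 0` in the residue field.
* `mono_tensorMap_of_forall_assPoint_mem_genLocus`: if every associated point of `F` lies in `V_τ`
  then `F ⊗ O ⟶ F ⊗ L` (induced by `τ`) is a monomorphism.
-/

set_option autoImplicit false
set_option linter.unusedSectionVars false
universe u
open CategoryTheory CategoryTheory.Limits AlgebraicGeometry Opposite TopologicalSpace
open Scheme.Modules

namespace Groth.Agent.Lib.Helper20.RegSecAvoid

open Groth.Agent.Lib.Helper18.InvGen Groth.Agent.Lib.Helper18.ZeroSchemeIdeal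
  Groth.Agent.Lib.Helper20.TwistSES Groth.Agent.Lib.helper11.TensorASec

variable {V : Scheme.{u}} {L : V.Modules}

section Mono

theorem mulSec_eq (F : V.Modules) (τ : Coh.structureModule V ⟶ L) :
    mulSec F L τ = (SecTwist.unitorR F).inv ≫
      Groth.Agent.Lib.Lead.ModTensor.tensorMap (𝟙 F) τ := by
  refine Groth.Agent.Lib.helper16.QCohEpi.hom_ext_of_basis _ _ {U | IsAffineOpen U}
    V.isBasis_affineOpens (fun W _ f => ?_)
  rw [mulSec_app]
  show _ = ((Groth.Agent.Lib.Lead.ModTensor.tensorMap (𝟙 F) τ).val.app (op W)).hom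
    (((SecTwist.unitorR F).inv.val.app (op W)).hom f)
  rw [Groth.Agent.Lib.helper12.PullTensor.unitorR_inv_apply,
    Groth.Agent.Lib.helper12.PullTensor.tensorMap_tmul]
  rfl

theorem mono_tensorMap_of_forall_assPoint_mem_genLocus (hL : PicF.IsInvertible L)
    (F : V.Modules) [F.IsQuasicoherent] (τ : Coh.structureModule V ⟶ L)
    (h : ∀ x : V, Curv2.IsAssPoint F x → x ∈ CohB1.genLocus L τ) :
    Mono (((DCoh.tensorBi (X := V)).obj F).map τ) := by
  rw [Groth.Agent.Lib.helper13.RestrKFlat.tensorBi_obj_map]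
  have h1 : Mono (mulSec F L τ) := mono_mulSec hL τ (fun x hx hass => by
    rw [Groth.Agent.Lib.helper21.ZeroConn.mem_support_zeroScheme_iff hL] at hx
    exact hx (h x hass))
  have h2 : Groth.Agent.Lib.Lead.ModTensor.tensorMap (𝟙 F) τ =
      (SecTwist.unitorR F).hom ≫ mulSec F L τ := by
    rw [mulSec_eq, Iso.hom_inv_id_assoc]
  rw [h2]
  exact @mono_comp _ _ _ _ _ (SecTwist.unitorR F).hom inferInstance (mulSec F L τ) h1

end Mono

section Loc

variable {N : ℕ} (σ : Fin (N + 1) → (Coh.structureModule V ⟶ L))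

/-- local data at a point: affine neighbourhood, generator, coefficients of the `σ i` -/
structure LocData (x : V) where
  W : V.Opens
  hW : IsAffineOpen W
  hx : x ∈ W
  ℓ : Γ(L, W)
  hℓ : IsGen L W ℓ
  h : Fin (N + 1) → Γ(V, W)
  hh : ∀ i, h i • ℓ = sv L (σ i) W

theorem nonempty_locData (hL : PicF.IsInvertible L) (x : V) : Nonempty (LocData σ x) := by
  obtain ⟨W, ℓ, hW, hxW, -, hℓ⟩ := exists_isGen hL x ⊤ trivial
  choose h hh using fun i => exists_coeff' (σ i) hℓ
  exact ⟨⟨W, hW, hxW, ℓ, hℓ, h, hh⟩⟩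

variable {σ} {x : V} (D : LocData σ x)

/-- evaluation at `x` in the residue field -/
noncomputable def LocData.ev : Γ(V, D.W) →+* IsLocalRing.ResidueField (V.presheaf.stalk x) :=
  (IsLocalRing.residue (V.presheaf.stalk x)).comp (V.presheaf.germ D.W x D.hx).hom

theorem LocData.mem_basicOpen_iff (g : Γ(V, D.W)) : x ∈ V.basicOpen g ↔ D.ev g ≠ 0 := by
  rw [Scheme.mem_basicOpen V g x D.hx]
  exact (IsLocalRing.residue_ne_zero_iff_isUnit _).symm

/-- restriction of global functions to `D.W` -/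
noncomputable def LocData.rs : Γ(V, ⊤) →+* Γ(V, D.W) :=
  (V.presheaf.map (homOfLE (le_top : D.W ≤ ⊤)).op).hom

theorem LocData.sv_eq (c : Fin (N + 1) → Γ(V, ⊤)) (τ : Coh.structureModule V ⟶ L)
    (hτ : sv L τ ⊤ = ∑ i, c i • sv L (σ i) ⊤) :
    (∑ i, D.rs (c i) * D.h i) • D.ℓ = sv L τ D.W := by
  have h1 : L.presheaf.map (homOfLE (le_top : D.W ≤ ⊤)).op (sv L τ ⊤) = sv L τ D.W :=
    map_sv L τ le_top
  rw [← h1, hτ, map_sum, Finset.sum_smul]
  refine Finset.sum_congr rfl (fun i _ => ?_)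
  rw [Scheme.Modules.map_smul, map_sv L (σ i) le_top, ← D.hh i, mul_smul]
  rfl

theorem LocData.mem_genLocus_iff (c : Fin (N + 1) → Γ(V, ⊤)) (τ : Coh.structureModule V ⟶ L)
    (hτ : sv L τ ⊤ = ∑ i, c i • sv L (σ i) ⊤) :
    x ∈ CohB1.genLocus L τ ↔ ∑ i, D.ev (D.rs (c i)) * D.ev (D.h i) ≠ 0 := by
  rw [Groth.Agent.Lib.helper21.ZeroConn.mem_genLocus_iff_of_isGen τ D.hℓ _ (D.sv_eq c τ hτ) x D.hx,
    D.mem_basicOpen_iff, map_sum]
  simp only [map_mul]

theorem LocData.mem_genLocus_iff_single (i : Fin (N + 1)) :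
    x ∈ CohB1.genLocus L (σ i) ↔ D.ev (D.h i) ≠ 0 := by
  rw [Groth.Agent.Lib.helper21.ZeroConn.mem_genLocus_iff_of_isGen (σ i) D.hℓ _ (D.hh i) x D.hx,
    D.mem_basicOpen_iff]

end Loc

end Groth.Agent.Lib.Helper20.RegSecAvoid
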