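import Mathlib

/-!
# Projective dimension of quotients by regular sequences, without local hypotheses (helper20)

* `pd_quot_ofList`: `pd (M / (rs) M) ≤ pd M + length rs` for an `M`-weakly regular sequence `rs`.
* `pd_of_projective_over_quotient`: for `φ : A → B` surjective with kernel generated by a (weakly) regular
  sequence `rs` and `N` a finite projective `B`-module, `pd_A N ≤ length rs`.
-/

set_option autoImplicit false
universe u

open CategoryTheory CategoryTheory.Limits RingTheory.Sequence

namespace Groth.Agent.Lib.Helper20.RegSeqPD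

variable {A : Type u} [CommRing A]

/-- `pd (M / xM) ≤ pd M + 1` for `x` an `M`-regular element -/
theorem pd_quotSMulTop (M : ModuleCat.{u} A) (x : A) (reg : IsSMulRegular M x) (n : ℕ)
    (h : HasProjectiveDimensionLT M n) :
    HasProjectiveDimensionLT (ModuleCat.of A (QuotSMulTop x M)) (n + 1) := by
  have hS : (M.smulShortComplex x).ShortExact := reg.smulShortComplex_shortExact
  haveI := h
  exact hS.hasProjectiveDimensionLT_X₃ n h (hasProjectiveDimensionLT_of_ge M n (n + 1) (Nat.le_succ _))

/-- `pd (M / (rs) M) ≤ pd M + length rs` for an `M`-weakly regular sequence `rs` -/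
theorem pd_quot_ofList (rs : List A) : ∀ (M : ModuleCat.{u} A) (_ : IsWeaklyRegular M rs) (n : ℕ)
    (_ : HasProjectiveDimensionLT M n),
    HasProjectiveDimensionLT (ModuleCat.of A (M ⧸ Ideal.ofList rs • (⊤ : Submodule A M)))
      (n + rs.length) := by
  induction rs with
  | nil =>
    intro M _ n h
    have e : (M ⧸ Ideal.ofList ([] : List A) • (⊤ : Submodule A M)) ≃ₗ[A] M :=
      Submodule.quotEquivOfEqBot _ (by rw [Ideal.ofList_nil, Submodule.bot_smul])
    exact hasProjectiveDimensionLT_of_iso e.toModuleIso.symm _
  | cons x rs' ih =>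
    intro M reg n h
    rw [isWeaklyRegular_cons_iff] at reg
    have h1 := pd_quotSMulTop M x reg.1 n h
    have h2 := ih (ModuleCat.of A (QuotSMulTop x M)) reg.2 (n + 1) h1
    have e := Submodule.quotOfListConsSMulTopEquivQuotSMulTopInner M x rs'
    have h3 : HasProjectiveDimensionLT
        (ModuleCat.of A (M ⧸ Ideal.ofList (x :: rs') • (⊤ : Submodule A M)))
        (n + 1 + rs'.length) := hasProjectiveDimensionLT_of_iso e.toModuleIso.symm _
    have e2 : n + (x :: rs').length = n + 1 + rs'.length := by
      rw [List.length_cons]; omega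
    rw [e2]
    exact h3

/-- finite powers -/
theorem pd_pi_fin (M : Type u) [AddCommGroup M] [Module A M] (n : ℕ)
    (h : HasProjectiveDimensionLT (ModuleCat.of A M) n) :
    ∀ k : ℕ, HasProjectiveDimensionLT (ModuleCat.of A (Fin k → M)) n := by
  intro k
  induction k with
  | zero =>
    have hz : IsZero (ModuleCat.of A (Fin 0 → M)) := ModuleCat.isZero_of_subsingleton _
    haveI := hz.hasProjectiveDimensionLT_zero
    exact hasProjectiveDimensionLT_of_ge _ 0 n (Nat.zero_le _)
  | succ k ih =>
    have e1 : (M × (Fin k → M)) ≃ₗ[A] (Fin (k + 1) → M) := Fin.consLinearEquiv A (fun _ => M)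
    have e2 := ModuleCat.biprodIsoProd (ModuleCat.of A M) (ModuleCat.of A (Fin k → M))
    haveI := h
    haveI := ih
    have h3 : HasProjectiveDimensionLT
        (ModuleCat.of A M ⊞ ModuleCat.of A (Fin k → M) : ModuleCat.{u} A) n := inferInstance
    exact hasProjectiveDimensionLT_of_iso (e2 ≪≫ e1.toModuleIso) _

variable {B : Type u} [CommRing B] (φ : A →+* B) (hφ : Function.Surjective φ)
  (rs : List A) (hrs : IsWeaklyRegular A rs) (hker : RingHom.ker φ = Ideal.ofList rs)

include hφ hrs hker in
/-- `pd_A B ≤ length rs` -/
theorem pd_quotient_ring [Module A B] (hc : ∀ (a : A) (b : B), a • b = φ a * b) :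
    HasProjectiveDimensionLT (ModuleCat.of A B) (rs.length + 1) := by
  let ψ : A →ₗ[A] B :=
    { toFun := fun a => φ a
      map_add' := fun a b => map_add φ a b
      map_smul' := fun a b => by
        show φ (a * b) = a • φ b
        rw [hc, map_mul] }
  have hψ : Function.Surjective ψ := hφ
  have hk : LinearMap.ker ψ = Ideal.ofList rs • (⊤ : Submodule A A) := by
    rw [smul_eq_mul, Ideal.mul_top, ← hker]
    ext a
    exact Iff.rfl
  have e : (A ⧸ Ideal.ofList rs • (⊤ : Submodule A A)) ≃ₗ[A] B :=
    (Submodule.quotEquivOfEq _ _ hk.symm).trans (ψ.quotKerEquivOfSurjective hψ)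
  have h0 : HasProjectiveDimensionLT (ModuleCat.of A A) 1 :=
    projective_iff_hasProjectiveDimensionLT_one.mp
      ((IsProjective.iff_projective _).mp (inferInstanceAs (Module.Projective A A)))
  have h1 := pd_quot_ofList rs (ModuleCat.of A A) hrs 1 h0
  rw [add_comm] at h1
  exact hasProjectiveDimensionLT_of_iso e.toModuleIso _

include hφ hrs hker in
/-- **a finite projective module over `B = A/(rs)` has projective dimension `≤ length rs` over `A`** -/
theorem pd_of_projective_over_quotient (N : Type u) [AddCommGroup N] [Module A N] [Module B N]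
    (hc : ∀ (a : A) (n : N), a • n = φ a • n) [Module.Finite B N] [Module.Projective B N] :
    HasProjectiveDimensionLT (ModuleCat.of A N) (rs.length + 1) := by
  letI : Module A B := Module.compHom B φ
  have hcB : ∀ (a : A) (b : B), a • b = φ a * b := fun a b => rfl
  have hB := pd_quotient_ring φ hφ rs hrs hker hcB
  obtain ⟨k, f, hf⟩ := Module.Finite.exists_fin' B N
  obtain ⟨s, hs⟩ := Module.projective_lifting_property f LinearMap.id hf
  have hk := pd_pi_fin B (rs.length + 1) hB k
  let fA : (Fin k → B) →ₗ[A] N :=
    { toFun := fun v => f v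
      map_add' := fun v w => map_add f v w
      map_smul' := fun a v => by
        show f (a • v) = a • f v
        rw [hc, ← map_smul]
        rfl }
  let sA : N →ₗ[A] (Fin k → B) :=
    { toFun := fun n => s n
      map_add' := fun v w => map_add s v w
      map_smul' := fun a n => by
        show s (a • n) = a • s n
        rw [hc, map_smul]
        rfl }
  have r : Retract (ModuleCat.of A N) (ModuleCat.of A (Fin k → B)) :=
    { i := ModuleCat.ofHom sA
      r := ModuleCat.ofHom fA
      retract := by
        ext n
        exact congr($hs n) }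
  exact r.hasProjectiveDimensionLT _

end Groth.Agent.Lib.Helper20.RegSeqPD
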