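import Mathlib
import Groth.Agent.Lib.Helper20.GrDecomp
import Groth.Agent.Lib.Helper20.StdGr
import Groth.Prelude.Def_CohB1

/-!
# Homogeneous solutions of homogeneous linear equations over the polynomial ring (helper20)
-/

set_option autoImplicit false
universe u

namespace Groth.Agent.Lib.helper20.ResAlg

open DirectSum Groth.Agent.Lib.helper20.GrDecomp Groth.Agent.Lib.helper20.StdGr

variable {k : Type u} [Field k] {r : ℕ}

local notation "𝒜" => CohB1.polyGrading r k
local notation "Rr" => MvPolynomial (Fin (r + 1)) k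
local notation "Z" => GrSyz.stdGr k (Fin (r + 1))

/-- the homogeneous component of degree `m` for the `ℤ`-grading -/
noncomputable def pr (m : ℤ) (p : Rr) : Rr := (decompose Z p m : Rr)

lemma pr_mem (m : ℤ) (p : Rr) : pr m p ∈ Z m := SetLike.coe_mem _

lemma pr_of_mem {m : ℤ} {p : Rr} (hp : p ∈ Z m) : pr m p = p :=
  DirectSum.decompose_of_mem_same Z hp

lemma pr_mul_left {e : ℤ} {p : Rr} (hp : p ∈ Z e) (q : Rr) (j : ℤ) :
    pr (e + j) (p * q) = p * pr j q :=
  DirectSum.coe_decompose_mul_add_of_left_mem Z hp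

lemma pr_sum {ι : Type*} (s : Finset ι) (f : ι → Rr) (m : ℤ) :
    pr m (∑ i ∈ s, f i) = ∑ i ∈ s, pr m (f i) := by
  unfold pr
  rw [DirectSum.decompose_sum, DFinsupp.finsetSum_apply, AddSubmonoidClass.coe_finsetSum]

/-- a homogeneous vector in the image of a homogeneous matrix has a homogeneous preimage -/
lemma matrix_homog {n₁ n₂ : ℕ} (β : Fin n₁ → ℤ) (γ : Fin n₂ → ℤ)
    (D : Matrix (Fin n₁) (Fin n₂) Rr) (hD : ∀ b e, D b e ∈ Z (γ e - β b)) (t : ℤ)
    (c : Fin n₁ → Rr) (hc : ∀ b, c b ∈ Z (t - β b)) (h : Fin n₂ → Rr) (hh : c = D.mulVec h) :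
    c = D.mulVec (fun e => pr (t - γ e) (h e)) := by
  funext b
  have h1 : c b = pr (t - β b) (c b) := (pr_of_mem (hc b)).symm
  rw [h1, hh]
  simp only [Matrix.mulVec, dotProduct]
  rw [pr_sum]
  refine Finset.sum_congr rfl fun e _ => ?_
  have e1 : t - β b = (γ e - β b) + (t - γ e) := by ring
  rw [e1, pr_mul_left (hD b e)]

section module

variable {M : Type u} [AddCommGroup M] [Module k M] [Module (MvPolynomial (Fin (r + 1)) k) M]
  (ℳ : ℤ → Submodule k M) [DirectSum.Decomposition ℳ]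
  [SetLike.GradedSMul (GrSyz.stdGr k (Fin (r + 1))) ℳ]

/-- the component of `c • a` for homogeneous `a` -/
lemma decompose_smul_right {α : ℤ} {a : M} (ha : a ∈ ℳ α) (c : Rr) (j : ℤ) :
    (decompose ℳ (c • a) (j + α) : M) = pr j c • a := by
  let u : Rr →+ M := AddMonoidHom.mk' (fun c => c • a) (fun _ _ => add_smul _ _ _)
  exact decompose_map_shift Z ℳ (fun l => l + α) (fun _ _ h => by simpa using h) u
    (fun l p hp => SetLike.GradedSMul.smul_mem hp ha) c j

lemma aug_homog {n : ℕ} (α : Fin n → ℤ) (aug : Fin n → M) (haug : ∀ b, aug b ∈ ℳ (α b)) (t : ℤ)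
    (m : M) (hm : m ∈ ℳ t) (c : Fin n → Rr) (hc : m = ∑ b, c b • aug b) :
    m = ∑ b, pr (t - α b) (c b) • aug b := by
  have h1 : m = (decompose ℳ m t : M) := (DirectSum.decompose_of_mem_same ℳ hm).symm
  rw [h1, hc, DirectSum.decompose_sum, DFinsupp.finsetSum_apply, AddSubmonoidClass.coe_finsetSum]
  refine Finset.sum_congr rfl fun b _ => ?_
  have e1 : t = (t - α b) + α b := by ring
  conv_lhs => rw [e1]
  exact decompose_smul_right ℳ (haug b) (c b) (t - α b)

/-- a homogeneous element killed by `u ∉ y` is killed by a homogeneous element outside `y` -/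
lemma exists_homog_annihilator (y : ProjectiveSpectrum 𝒜) {u : Rr}
    (hu : u ∉ y.asHomogeneousIdeal) {t : ℤ} {m : M} (hm : m ∈ ℳ t) (hum : u • m = 0) :
    ∃ (l : ℕ) (v : Rr), v ∈ 𝒜 l ∧ v ∉ y.asHomogeneousIdeal ∧ v • m = 0 := by
  classical
  have hex : ∃ l : ℕ, (decompose 𝒜 u l : Rr) ∉ y.asHomogeneousIdeal := by
    by_contra hcon
    push Not at hcon
    apply hu
    rw [← DirectSum.sum_support_decompose 𝒜 u]
    exact Ideal.sum_mem _ fun l _ => hcon l
  obtain ⟨l, hl⟩ := hex
  refine ⟨l, (decompose 𝒜 u l : Rr), SetLike.coe_mem _, hl, ?_⟩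
  let u' : Rr →+ M := AddMonoidHom.mk' (fun c => c • m) (fun _ _ => add_smul _ _ _)
  have key := decompose_map_shift 𝒜 ℳ (fun l : ℕ => (l : ℤ) + t)
    (fun a b h => by simpa using h) u'
    (fun l p hp => SetLike.GradedSMul.smul_mem (mem_stdGr_natCast_iff.mpr hp) hm) u l
  change (decompose ℳ (u • m) ((l : ℤ) + t) : M) = (decompose 𝒜 u l : Rr) • m at key
  rw [← key, hum, DirectSum.decompose_zero]
  rfl

end module

end Groth.Agent.Lib.helper20.ResAlg
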