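import Mathlib
import Groth.Agent.Lib.Helper20.EpiSpan
import Groth.Agent.Lib.Helper20.TwistEquivPn
import Groth.Agent.Lib.Helper11.SqZero3
import Groth.Agent.Lib.Helper12.PullPic

/-!
# Pulling back the Euler sequence along a closed immersion of projective spaces (helper20)
-/

set_option autoImplicit false
set_option linter.style.haveILetI false
universe u

open CategoryTheory CategoryTheory.Limits AlgebraicGeometry Opposite TopologicalSpace

namespace Groth.Agent.Lib.Helper20.RestrOmega

open Groth.Agent.Lib.helper20.Euler3 Groth.Agent.Lib.helper20.Euler4f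
  Groth.Agent.Lib.helper20.OmegaSimple Groth.Agent.Lib.helper20.Euler3a
  Groth.Agent.Lib.Helper20.NullCorr6 Groth.Agent.Lib.Helper20.EpiSpan
  Groth.Agent.Lib.Helper20.TwistEquivPn Groth.Agent.Lib.Lead.ModTensor
  Groth.Agent.Lib.helper28 Groth.Agent.Lib.helper16.FLF
  Groth.Agent.Lib.helper12.PullPic Groth.Agent.Lib.helper11.InvMod

noncomputable section

variable {k : Type u} [Field k] {n m : ℕ}
  (i : CohB1.ProjSpace m k ⟶ CohB1.ProjSpace n k)

/-- `i^*O(-1) ≅ O(-1)` when `i^*O(1) ≅ O(1)` -/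
theorem nonempty_pullback_twist_neg_one
    (hO : Nonempty ((Scheme.Modules.pullback i).obj (Twist.twistProjSpace n k 1) ≅
      Twist.twistProjSpace m k 1)) :
    Nonempty ((Scheme.Modules.pullback i).obj (Twist.twistProjSpace n k (-1)) ≅
      Twist.twistProjSpace m k (-1)) := by
  obtain ⟨e⟩ := hO
  have h1 : ClSub.IsInverseOf (Twist.twistProjSpace n k (-1)) (Twist.twistProjSpace n k 1) :=
    ⟨tensorIso (Iso.refl _) (twistCongr n k (by norm_num)) ≪≫ invIso n k (-1)⟩
  have h2 := isInverseOf_pullback i (TwistPn.isInvertible n k 1) h1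
  have h3 : ClSub.IsInverseOf (Twist.twistProjSpace m k 1)
      ((Scheme.Modules.pullback i).obj (Twist.twistProjSpace n k (-1))) :=
    isInverseOf_of_iso e (Iso.refl _) (isInverseOf_symm h2)
  have h4 : ClSub.IsInverseOf (Twist.twistProjSpace m k 1) (Twist.twistProjSpace m k (-1)) :=
    ⟨invIso m k 1⟩
  exact isInverseOf_unique h3 h4

/-- the equivalence `Fin (n + 1) ≃ Idx n 1` -/
def idxEquiv (n : ℕ) : Fin (n + 1) ≃ Idx n 1 :=
  Equiv.ofBijective sing ⟨sing_injective, fun I => (exists_sing I).imp fun _ h => h.symm⟩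

/-- `O(-1)^{n+1}` indexed by `Fin (n + 1)` versus the Koszul term `K_1` -/
def sigmaK1Iso (n : ℕ) (k : Type u) [Field k] :
    (∐ fun _ : Fin (n + 1) => tw n k 1) ≅ K n k 1 :=
  Sigma.whiskerEquiv (f := fun _ : Fin (n + 1) => tw n k 1)
    (g := fun _ : Idx n 1 => tw n k 1) (idxEquiv n) (fun _ => Iso.refl _)

lemma ι_sigmaK1Iso (n : ℕ) (k : Type u) [Field k] (t : Fin (n + 1)) :
    Sigma.ι (fun _ : Fin (n + 1) => tw n k 1) t ≫ (sigmaK1Iso n k).hom =
      Sigma.ι (fun _ : Idx n 1 => tw n k 1) (sing t) := by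
  unfold sigmaK1Iso Sigma.whiskerEquiv
  simp only [Sigma.ι_comp_map', Iso.refl_inv, Category.id_comp]
  rfl

instance isIso_π_default (n : ℕ) (k : Type u) [Field k] :
    IsIso (Sigma.π (fun _ : Idx n 0 => tw n k 0) default) := by
  refine ⟨Sigma.ι (fun _ : Idx n 0 => tw n k 0) default, ?_, Sigma.ι_π_eq_id _ _⟩
  apply Sigma.hom_ext
  intro j
  have hj : j = default := Subsingleton.elim _ _
  subst hj
  rw [← Category.assoc, Sigma.ι_π_eq_id, Category.id_comp, Category.comp_id]

lemma dCoef_sing (n : ℕ) (k : Type u) [Field k] (t : Fin (n + 1)) :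
    dCoef n k 0 (sing t) default = xHom n k 0 t := by
  classical
  unfold dCoef
  rw [Finset.sum_eq_single t]
  · rw [if_pos]
    · have h1 : Groth.Agent.Lib.helper20.EulerAlg.sgn t
          ((default : Idx n 0).val) = 1 := by
        unfold Groth.Agent.Lib.helper20.EulerAlg.sgn
        have : (default : Idx n 0).val = ∅ := rfl
        rw [this]
        simp
      rw [h1, one_smul]
    · refine ⟨Finset.notMem_empty t, ?_⟩
      change ({t} : Finset (Fin (n + 1))) = insert t ∅
      simp
  · intro l _ hlt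
    rw [if_neg]
    rintro ⟨-, h⟩
    apply hlt
    have h2 : ({t} : Finset (Fin (n + 1))) = insert l ∅ := h
    have h3 : l ∈ ({t} : Finset (Fin (n + 1))) := by rw [h2]; simp
    exact Finset.mem_singleton.mp h3
  · intro h
    exact absurd (Finset.mem_univ t) h

/-- the Euler map as the first Koszul differential -/
lemma rho0_eq (n : ℕ) (k : Type u) [Field k] :
    rho0 n k = (sigmaK1Iso n k).hom ≫ d n k 0 ≫ Sigma.π (fun _ : Idx n 0 => tw n k 0) default := by
  apply Sigma.hom_ext
  intro t
  unfold rho0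
  rw [Sigma.ι_desc, ← Category.assoc, ι_sigmaK1Iso]
  unfold d
  rw [matDesc_π, Preadditive.comp_sum, Finset.sum_eq_single (sing t)]
  · rw [← Category.assoc, Sigma.ι_π_eq_id, Category.id_comp, dCoef_sing]
  · intro I _ hI
    rw [← Category.assoc, Sigma.ι_π_of_ne _ (Ne.symm hI), zero_comp]
  · intro h
    exact absurd (Finset.mem_univ _) h

/-- the kernel of the Euler map is the module of Koszul `1`-cycles -/
def kernelRho0Iso (n : ℕ) (k : Type u) [Field k] : kernel (rho0 n k) ≅ Z n k 1 :=
  kernelIsoOfEq (rho0_eq n k) ≪≫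
    kernelIsIsoComp (sigmaK1Iso n k).hom
      (d n k 0 ≫ Sigma.π (fun _ : Idx n 0 => tw n k 0) default) ≪≫
    kernelCompMono (d n k 0) (Sigma.π (fun _ : Idx n 0 => tw n k 0) default)

end

end Groth.Agent.Lib.Helper20.RestrOmega
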