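import Mathlib
import Groth.Agent.Lib.Helper20.RestrOmega1

/-!
# The restriction of `Ω¹` of projective space to a linearly embedded projective space (helper20)

For a closed immersion `i : P^m_k ⟶ P^n_k` with `i^*O(1) ≅ O(1)`:
`i^*Ω_{P^n} ≅ Ω_{P^m} ⊞ O(-1)^{n - m}`.
-/

set_option autoImplicit false
set_option linter.style.haveILetI false
universe u

open CategoryTheory CategoryTheory.Limits AlgebraicGeometry Opposite TopologicalSpace

namespace Groth.Agent.Lib.Helper20.RestrOmega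

open Groth.Agent.Lib.helper20.Euler3 Groth.Agent.Lib.helper20.Euler4f
  Groth.Agent.Lib.helper20.Euler4c Groth.Agent.Lib.helper20.Euler2
  Groth.Agent.Lib.helper20.OmegaSimple Groth.Agent.Lib.helper20.Euler3a
  Groth.Agent.Lib.Helper20.NullCorr6 Groth.Agent.Lib.Helper20.EpiSpan
  Groth.Agent.Lib.Helper20.TwistEquivPn Groth.Agent.Lib.Lead.ModTensor
  Groth.Agent.Lib.helper28 Groth.Agent.Lib.helper16.FLF
  Groth.Agent.Lib.helper12.PullPic Groth.Agent.Lib.helper11.InvMod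

noncomputable section

variable {k : Type u} [Field k] {n m : ℕ}
  (i : CohB1.ProjSpace m k ⟶ CohB1.ProjSpace n k) [IsClosedImmersion i]

/-- `i^*Z_1 ≅ Z_1 ⊞ O(-1)^r` -/
theorem nonempty_pullback_Z1_iso
    (hO : Nonempty ((Scheme.Modules.pullback i).obj (Twist.twistProjSpace n k 1) ≅
      Twist.twistProjSpace m k 1)) :
    Nonempty ((Scheme.Modules.pullback i).obj (Z n k 1) ≅
      Z m k 1 ⊞ ∐ fun _ : Fin (n + 1 - (m + 1)) => tw m k 1) := by
  obtain ⟨eTw⟩ : Nonempty ((Scheme.Modules.pullback i).obj (tw n k 1) ≅ tw m k 1) :=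
    nonempty_pullback_twist_neg_one i hO
  haveI : PreservesColimitsOfSize.{0, 0} (Scheme.Modules.pullback i) :=
    (Scheme.Modules.pullbackPushforwardAdjunction i).leftAdjoint_preservesColimits
  -- `i^*K_1 ≅ O(-1)^{n+1}`
  let e₂ : (Scheme.Modules.pullback i).obj (K n k 1) ≅ ∐ fun _ : Fin (n + 1) => tw m k 1 :=
    PreservesCoproduct.iso (Scheme.Modules.pullback i) (fun _ : Idx n 1 => tw n k 1) ≪≫
      Sigma.mapIso (fun _ : Idx n 1 => eTw) ≪≫
      (Sigma.whiskerEquiv (f := fun _ : Fin (n + 1) => tw m k 1)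
        (g := fun _ : Idx n 1 => tw m k 1) (idxEquiv n) (fun _ => Iso.refl _)).symm
  -- `i^*Z_0 ≅ O`
  let e₃ : (Scheme.Modules.pullback i).obj (Z n k 0) ≅ tw m k 0 :=
    (Scheme.Modules.pullback i).mapIso (isoZ0 (n := n) (A := k)) ≪≫ pullbackUnitIso i ≪≫
      Groth.Agent.Lib.helper28.TwistZero.twistZeroIso (CohB1.polyGrading m k)
  -- the pulled back sequence is short exact
  let T : ShortComplex (CohB1.ProjSpace n k).Modules := sesZ n k 0
  have hT : T.ShortExact := shortExact_sesZ (n := n) (A := k) 0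
  haveI : T.X₁.IsQuasicoherent :=
    isQuasicoherent_of_isFinLocFree _ (isFinLocFree_of_isFinLocFreeOfRank (rank_Z1 (n := n) k))
  haveI : T.X₂.IsQuasicoherent :=
    isQuasicoherent_of_isFinLocFree _ (isFinLocFree_of_isFinLocFreeOfRank (rank_K1 (n := n) k))
  have hS' := Groth.Agent.Lib.helper11.SqZero.shortExact_map_pullback i T hT
    (isFinLocFree_of_isFinLocFreeOfRank (rank_Z0 (n := n) k))
  -- the epimorphism `ρ`
  let g' : (Scheme.Modules.pullback i).obj (K n k 1) ⟶ (Scheme.Modules.pullback i).obj (Z n k 0) :=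
    (Scheme.Modules.pullback i).map (πZ n k 0)
  haveI : Epi g' := hS'.epi_g
  let ρ : (∐ fun _ : Fin (n + 1) => tw m k 1) ⟶ tw m k 0 := e₂.inv ≫ g' ≫ e₃.hom
  haveI : Epi (g' ≫ e₃.hom) := epi_comp g' e₃.hom
  haveI : Epi ρ := epi_comp e₂.inv (g' ≫ e₃.hom)
  obtain ⟨e₄⟩ := nonempty_kernel_iso ρ
  have e₅ : kernel g' ≅ kernel ρ :=
    kernel.mapIso g' ρ e₂ e₃ (by simp only [ρ]; exact (e₂.hom_inv_id_assoc _).symm)
  have e₆ : (Scheme.Modules.pullback i).obj (Z n k 1) ≅ kernel g' :=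
    IsLimit.conePointUniqueUpToIso hS'.fIsKernel (limit.isLimit _)
  have e₇ : (kernel (rho0 m k) ⊞ ∐ fun _ : Fin (n + 1 - (m + 1)) => tw m k 1) ≅
      (Z m k 1 ⊞ ∐ fun _ : Fin (n + 1 - (m + 1)) => tw m k 1) :=
    biprod.mapIso (kernelRho0Iso m k) (Iso.refl _)
  exact ⟨e₆ ≪≫ e₅ ≪≫ e₄ ≪≫ e₇⟩

end

end Groth.Agent.Lib.Helper20.RestrOmega
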