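import Mathlib
import Groth.Agent.Lib.Helper20.RestrOmega2
import Groth.Agent.Lib.Helper19.ProjSpaceProper

/-!
# The restriction of `Ω¹` of projective space to a linearly embedded projective space, II (helper20)

`i^*Ω_{P^n} ≅ Ω_{P^m} ⊞ O(-1)^r` for `n = m + r`.
-/

set_option autoImplicit false
set_option linter.style.haveILetI false
universe u

open CategoryTheory CategoryTheory.Limits AlgebraicGeometry Opposite TopologicalSpace

namespace Groth.Agent.Lib.Helper20.RestrOmega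

open Groth.Agent.Lib.helper20.Euler3 Groth.Agent.Lib.helper20.Euler4f
  Groth.Agent.Lib.helper20.Euler4c Groth.Agent.Lib.helper20.Euler2
  Groth.Agent.Lib.helper20.OmegaSimple Groth.Agent.Lib.helper20.Euler3a

noncomputable section

variable {k : Type u} [Field k] {n m : ℕ}
  (i : CohB1.ProjSpace m k ⟶ CohB1.ProjSpace n k) [IsClosedImmersion i]

/-- `Ω_{P^n_k} ≅ Z_1` -/
theorem nonempty_Omega_iso_Z1 (n : ℕ) (k : Type u) [Field k] :
    Nonempty (Omega.sheaf (CohB1.ProjSpace.toSpec n k) ≅ Z n k 1) := by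
  haveI : QuasiSeparated (fP n k) :=
    (inferInstance : QuasiSeparated (CohB1.ProjSpace.toSpec n k))
  exact nonempty_iso_Z (n := n) (A := k) (p := 1) (L := Omega.sheaf (fP n k))
    extDataOne extCompat_one

/-- `i^*Ω_{P^n} ≅ Ω_{P^m} ⊞ O(-1)^r` for `n = m + r` -/
theorem nonempty_pullback_Omega_iso
    (hO : Nonempty ((Scheme.Modules.pullback i).obj (Twist.twistProjSpace n k 1) ≅
      Twist.twistProjSpace m k 1)) (r : ℕ) (hr : n + 1 - (m + 1) = r) :
    Nonempty ((Scheme.Modules.pullback i).obj (Omega.sheaf (CohB1.ProjSpace.toSpec n k)) ≅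
      Omega.sheaf (CohB1.ProjSpace.toSpec m k) ⊞
        ∐ fun _ : Fin r => Twist.twistProjSpace m k (-1)) := by
  subst hr
  obtain ⟨e₁⟩ := nonempty_Omega_iso_Z1 n k
  obtain ⟨e₂⟩ := nonempty_Omega_iso_Z1 m k
  obtain ⟨e₃⟩ := nonempty_pullback_Z1_iso i hO
  have e₄ : (Z m k 1 ⊞ ∐ fun _ : Fin (n + 1 - (m + 1)) => tw m k 1) ≅
      (Omega.sheaf (CohB1.ProjSpace.toSpec m k) ⊞
        ∐ fun _ : Fin (n + 1 - (m + 1)) => Twist.twistProjSpace m k (-1)) :=
    biprod.mapIso e₂.symm (Sigma.mapIso fun _ => eqToIso (by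
      show Twist.twist _ _ = Twist.twist _ _
      congr 1))
  exact ⟨(Scheme.Modules.pullback i).mapIso e₁ ≪≫ e₃ ≪≫ e₄⟩

end

end Groth.Agent.Lib.Helper20.RestrOmega
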