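import Mathlib
import Groth.Agent.Lib.Helper20.RestrOmega3

/-!
# `Ω_{P^1} ≅ O(-2)` and the special cases of the restriction theorem (helper20)
-/

set_option autoImplicit false
set_option linter.style.haveILetI false
universe u

open CategoryTheory CategoryTheory.Limits AlgebraicGeometry Opposite TopologicalSpace

namespace Groth.Agent.Lib.Helper20.RestrOmega

open Groth.Agent.Lib.helper20.Euler3 Groth.Agent.Lib.helper20.Euler4f
  Groth.Agent.Lib.helper20.Euler4c Groth.Agent.Lib.helper20.Euler2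
  Groth.Agent.Lib.helper20.OmegaSimple Groth.Agent.Lib.helper20.Euler3a

noncomputable section

variable {k : Type u} [Field k] {n m : ℕ}

instance uniqueIdx12 : Unique (Idx 1 2) where
  default := ⟨Finset.univ, Set.powersetCard.mem_iff.mpr (by simp)⟩
  uniq I := Subtype.ext (by
    have h := Set.powersetCard.mem_iff.mp I.prop
    exact (Finset.card_eq_iff_eq_univ _).mp (by simpa using h))

/-- `Z_1 ≅ O(-2)` on `P^1` -/
theorem nonempty_Z1_P1_iso (k : Type u) [Field k] :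
    Nonempty (Z 1 k 1 ≅ Twist.twistProjSpace 1 k (-2)) := by
  have hS := shortExact_sesZ (n := 1) (A := k) 1
  have hz : IsZero (Z 1 k 2) := isZero_Z (n := 1) (A := k) 2 (by norm_num)
  haveI : Mono (πZ 1 k 1) := hS.exact.mono_g (hz.eq_of_src _ _)
  haveI : Epi (πZ 1 k 1) := epi_πZ 1
  haveI : IsIso (πZ 1 k 1) := isIso_of_mono_of_epi _
  have e₁ : K 1 k 2 ≅ tw 1 k 2 := coproductUniqueIso (fun _ : Idx 1 2 => tw 1 k 2)
  have e₂ : tw 1 k 2 ≅ Twist.twistProjSpace 1 k (-2) := eqToIso (by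
    show Twist.twist _ _ = Twist.twist _ _
    congr 1)
  exact ⟨(asIso (πZ 1 k 1)).symm ≪≫ e₁ ≪≫ e₂⟩

/-- `Ω_{P^1} ≅ O(-2)` -/
theorem nonempty_Omega_P1_iso (k : Type u) [Field k] :
    Nonempty (Omega.sheaf (CohB1.ProjSpace.toSpec 1 k) ≅ Twist.twistProjSpace 1 k (-2)) := by
  obtain ⟨e₁⟩ := nonempty_Omega_iso_Z1 1 k
  obtain ⟨e₂⟩ := nonempty_Z1_P1_iso k
  exact ⟨e₁ ≪≫ e₂⟩

end

end Groth.Agent.Lib.Helper20.RestrOmega
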