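import Mathlib
import Groth.Agent.Lib.Helper20.RestrOmega4
import Groth.Agent.Lib.Helper20.Euler5c
import Groth.Agent.Lib.Helper12.PullTensor
import Groth.Agent.Lib.Helper18.EffCartierCurve

/-!
# Restriction of a quotient of `Ω(1)` by `O(-1)` to a linear subspace (helper20)

For `u : O(-1) ↪ Ω_{P^n}(1)` with locally free cokernel `M` and a linear embedding `i : P^m ⟶ P^n`
(`2 ≤ m < n`): `H⁰(i^*M(-1)) = 0` and `H⁰(i^*M) ≠ 0`.
-/

set_option autoImplicit false
set_option linter.style.haveILetI false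
universe u

open CategoryTheory CategoryTheory.Limits AlgebraicGeometry Opposite TopologicalSpace

namespace Groth.Agent.Lib.Helper20.RestrOmega

open Groth.Agent.Lib.helper20.Euler3 Groth.Agent.Lib.helper20.Euler4f
  Groth.Agent.Lib.helper20.Euler4c Groth.Agent.Lib.helper20.Euler2
  Groth.Agent.Lib.helper20.OmegaSimple Groth.Agent.Lib.helper20.Euler3a
  Groth.Agent.Lib.helper20.Euler5a Groth.Agent.Lib.helper20.Euler5b
  Groth.Agent.Lib.helper20.Euler5c
  Groth.Agent.Lib.Helper20.NullCorr6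
  Groth.Agent.Lib.Helper20.TwistEquivPn Groth.Agent.Lib.Lead.ModTensor
  Groth.Agent.Lib.Helper20.TensorEquiv
  Groth.Agent.Lib.helper28 Groth.Agent.Lib.helper16.FLF
  Groth.Agent.Lib.Helper18.HH

noncomputable section

variable {k : Type u} [Field k] {n m : ℕ}
  (i : CohB1.ProjSpace m k ⟶ CohB1.ProjSpace n k) [IsClosedImmersion i]

/-- the model `Ω_{P^m} ⊞ O(-1)^r` -/
abbrev model (m : ℕ) (k : Type u) [Field k] (r : ℕ) : (CohB1.ProjSpace m k).Modules :=
  Omega.sheaf (CohB1.ProjSpace.toSpec m k) ⊞ ∐ fun _ : Fin r => Twist.twistProjSpace m k (-1)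

/-- `i^*(Ω_{P^n}(1)) ≅ (Ω_{P^m} ⊞ O(-1)^r)(1)` -/
theorem nonempty_pullback_Omega_one_iso
    (hO : Nonempty ((Scheme.Modules.pullback i).obj (Twist.twistProjSpace n k 1) ≅
      Twist.twistProjSpace m k 1)) (r : ℕ) (hr : n + 1 - (m + 1) = r) :
    Nonempty ((Scheme.Modules.pullback i).obj
        (CohB1.tensorMod (Omega.sheaf (CohB1.ProjSpace.toSpec n k)) (Twist.twistProjSpace n k 1)) ≅
      CohB1.tensorMod (model m k r) (Twist.twistProjSpace m k 1)) := by
  obtain ⟨e⟩ := nonempty_pullback_Omega_iso i hO r hr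
  obtain ⟨e'⟩ := hO
  exact ⟨Groth.Agent.Lib.helper12.PullTensor.pullTensorIso i _ _ (TwistPn.isInvertible n k 1) ≪≫
    tensorIso e e'⟩

/-- `H⁰(O) ≠ 0` -/
theorem nontrivial_H0_twist_zero (m : ℕ) (k : Type u) [Field k] :
    Nontrivial (Coh.HH (CohB1.ProjSpace m k) (Twist.twistProjSpace m k 0) 0) := by
  obtain ⟨e0⟩ := Groth.Agent.S0843.result k m 0
  exact ((e0 ≪≫ₗ (constEquiv m k).symm).toEquiv).nontrivial

/-- `H⁰((Ω ⊞ O(-1)^r)(1)) ≠ 0` for `r ≥ 1` -/
theorem nontrivial_H0_model_one (m : ℕ) (k : Type u) [Field k] (r : ℕ) (hr : 1 ≤ r) :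
    Nontrivial (Coh.HH (CohB1.ProjSpace m k)
      (CohB1.tensorMod (model m k r) (Twist.twistProjSpace m k 1)) 0) := by
  let j : Fin r := ⟨0, hr⟩
  let s : Twist.twistProjSpace m k (-1) ⟶ model m k r :=
    Sigma.ι (fun _ : Fin r => Twist.twistProjSpace m k (-1)) j ≫ biprod.inr
  let t : model m k r ⟶ Twist.twistProjSpace m k (-1) :=
    biprod.snd ≫ Sigma.desc (fun j' : Fin r => if j' = j then 𝟙 _ else 0)
  have hst : s ≫ t = 𝟙 _ := by
    simp only [s, t, Category.assoc, biprod.inr_snd_assoc, colimit.ι_desc, Cofan.mk_ι_app, if_true]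
  let L := Twist.twistProjSpace m k 1
  have hst' : tensorMap s (𝟙 L) ≫ tensorMap t (𝟙 L) = 𝟙 _ := by
    rw [← tensorMap_comp, hst, Category.comp_id, tensorMap_id]
  have hinj : Function.Injective (map (tensorMap s (𝟙 L)) 0) := by
    intro x y hxy
    have h := congrArg (map (tensorMap t (𝟙 L)) 0) hxy
    rw [← LinearMap.comp_apply, ← LinearMap.comp_apply, ← map_comp, hst', map_id] at h
    exact h
  haveI : Nontrivial (Coh.HH (CohB1.ProjSpace m k)
      (CohB1.tensorMod (Twist.twistProjSpace m k (-1)) L) 0) := by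
    haveI := nontrivial_H0_twist_zero m k
    exact (hhEquiv (TwistPn.tensorIso m k (-1) 1 ≪≫ twistCongr m k (show (-1 : ℤ) + 1 = 0 by norm_num)) 0).toEquiv.nontrivial
  exact hinj.nontrivial

/-- `H⁰(Ω_{P^m}) = 0` -/
theorem subsingleton_H0_Omega (m : ℕ) (k : Type u) [Field k] :
    Subsingleton (Coh.HH (CohB1.ProjSpace m k) (Omega.sheaf (CohB1.ProjSpace.toSpec m k)) 0) := by
  obtain ⟨e⟩ := nonempty_Omega_iso_Z1 m k
  have e' : ZZ m k 1 ≅ Omega.sheaf (CohB1.ProjSpace.toSpec m k) := e.symm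
  exact Groth.Agent.Lib.helper20.Euler5a.subsingleton_of_iso e' 0 (subsingleton_ZZ m k 1 0 (Or.inl (by norm_num)))

/-- `H⁰(Ω ⊞ O(-1)^r) = 0` for `m ≥ 1` -/
theorem subsingleton_H0_model (m : ℕ) (k : Type u) [Field k] (r : ℕ) (hm : 1 ≤ m) :
    Subsingleton (Coh.HH (CohB1.ProjSpace m k) (model m k r) 0) := by
  haveI h1 := subsingleton_H0_Omega m k
  haveI h2 : Subsingleton (Coh.HH (CohB1.ProjSpace m k)
      (∐ fun _ : Fin r => Twist.twistProjSpace m k (-1)) 0) :=
    subsingleton_sigma (X := CohB1.ProjSpace m k) _ 0 (fun _ =>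
      hO m k (-1) 0 (by rintro ⟨-, h⟩; exact absurd h (by norm_num)) (by rintro ⟨h, -⟩; omega))
  exact (biprodEquiv (Omega.sheaf (CohB1.ProjSpace.toSpec m k))
    (∐ fun _ : Fin r => Twist.twistProjSpace m k (-1)) 0).toEquiv.subsingleton

/-- `H⁰((Ω ⊞ O(-1)^r)(1)(-1)) = 0` for `m ≥ 1` -/
theorem subsingleton_H0_model_one_neg (m : ℕ) (k : Type u) [Field k] (r : ℕ) (hm : 1 ≤ m) :
    Subsingleton (Coh.HH (CohB1.ProjSpace m k)
      (CohB1.tensorMod (CohB1.tensorMod (model m k r) (Twist.twistProjSpace m k 1))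
        (Twist.twistProjSpace m k (-1))) 0) := by
  have e : CohB1.tensorMod (CohB1.tensorMod (model m k r) (Twist.twistProjSpace m k 1))
      (Twist.twistProjSpace m k (-1)) ≅ model m k r :=
    twistTwistIso m k (model m k r) 1 (-1) ≪≫
      tensorIso (Iso.refl _) (twistCongr m k (show (1 : ℤ) + -1 = 0 by norm_num)) ≪≫
      twistZeroIso m k (model m k r)
  exact Groth.Agent.Lib.helper20.Euler5a.subsingleton_of_iso e.symm 0 (subsingleton_H0_model m k r hm)

/-- restriction of the cokernel of `O(-1) ↪ Ω(1)` to a linear subspace -/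
theorem restrict_quotient
    (u : Twist.twistProjSpace n k (-1) ⟶
      CohB1.tensorMod (Omega.sheaf (CohB1.ProjSpace.toSpec n k)) (Twist.twistProjSpace n k 1))
    [Mono u] (hM : FlatMod.IsFinLocFree (cokernel u))
    (hO' : Nonempty ((Scheme.Modules.pullback i).obj (Twist.twistProjSpace n k 1) ≅
      Twist.twistProjSpace m k 1))
    (hm : 2 ≤ m) (hmn : m < n) :
    Subsingleton (Coh.HH (CohB1.ProjSpace m k)
        (CohB1.tensorMod ((Scheme.Modules.pullback i).obj (cokernel u))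
          (Twist.twistProjSpace m k (-1))) 0) ∧
      Nontrivial (Coh.HH (CohB1.ProjSpace m k) ((Scheme.Modules.pullback i).obj (cokernel u)) 0) := by
  obtain ⟨eΩ⟩ := nonempty_Omega_iso_Z1 n k
  obtain ⟨e₂⟩ := nonempty_pullback_Omega_one_iso i hO' (n + 1 - (m + 1)) rfl
  obtain ⟨e₁⟩ := nonempty_pullback_twist_neg_one i hO'
  let T : ShortComplex (CohB1.ProjSpace n k).Modules :=
    ShortComplex.mk u (cokernel.π u) (cokernel.condition u)
  have hT : T.ShortExact :=
    { exact := ShortComplex.exact_of_g_is_cokernel _ (cokernelIsCokernel u)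
      mono_f := ‹Mono u›
      epi_g := inferInstanceAs (Epi (cokernel.π u)) }
  haveI : T.X₁.IsQuasicoherent :=
    isQuasicoherent_of_isFinLocFree _ (isFinLocFree_of_isFinLocFreeOfRank
      ((isInvertible_iff_isFinLocFreeOfRank_one _).mp (TwistPn.isInvertible n k (-1))))
  haveI : T.X₂.IsQuasicoherent :=
    isQuasicoherent_of_isFinLocFree _ (isFinLocFree_of_isFinLocFreeOfRank
      (Groth.Agent.Lib.Helper18.EffCartierCurve.isFinLocFreeOfRank_tensor
        (isFinLocFreeOfRank_of_iso eΩ.symm (rank_Z1 (n := n) k))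
        ((isInvertible_iff_isFinLocFreeOfRank_one _).mp (TwistPn.isInvertible n k 1))))
  have hS' := Groth.Agent.Lib.helper11.SqZero.shortExact_map_pullback i T hT hM
  constructor
  · have hS'' := shortExact_twistSC m k (-1) hS'
    refine Groth.Agent.Lib.Helper18.HH.subsingleton_X₃ hS'' 0 ?_ ?_
    · show Subsingleton (Coh.HH (CohB1.ProjSpace m k)
        (CohB1.tensorMod ((Scheme.Modules.pullback i).obj
          (CohB1.tensorMod (Omega.sheaf (CohB1.ProjSpace.toSpec n k)) (Twist.twistProjSpace n k 1)))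
          (Twist.twistProjSpace m k (-1))) 0)
      exact Groth.Agent.Lib.helper20.Euler5a.subsingleton_of_iso
        (tensorIso e₂ (Iso.refl (Twist.twistProjSpace m k (-1)))).symm 0
        (subsingleton_H0_model_one_neg m k _ (by omega))
    · show Subsingleton (Coh.HH (CohB1.ProjSpace m k)
        (CohB1.tensorMod ((Scheme.Modules.pullback i).obj (Twist.twistProjSpace n k (-1)))
          (Twist.twistProjSpace m k (-1))) (0 + 1))
      exact Groth.Agent.Lib.helper20.Euler5a.subsingleton_of_iso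
        (tensorIso e₁ (Iso.refl (Twist.twistProjSpace m k (-1))) ≪≫
          TwistPn.tensorIso m k (-1) (-1)).symm (0 + 1)
        (hO m k (-1 + -1) (0 + 1) (by rintro ⟨h, -⟩; exact absurd h (by norm_num))
          (by rintro ⟨h, -⟩; omega))
  · have h₁ : Subsingleton (Coh.HH (CohB1.ProjSpace m k) (T.map (Scheme.Modules.pullback i)).X₁ 0) :=
      Groth.Agent.Lib.helper20.Euler5a.subsingleton_of_iso e₁.symm 0
        (hO m k (-1) 0 (by rintro ⟨-, h⟩; exact absurd h (by norm_num)) (by rintro ⟨h, -⟩; omega))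
    have inj := Groth.Agent.Lib.Helper18.HH.injective_map_g hS' 0 h₁
    haveI : Nontrivial (Coh.HH (CohB1.ProjSpace m k) (T.map (Scheme.Modules.pullback i)).X₂ 0) := by
      haveI := nontrivial_H0_model_one m k (n + 1 - (m + 1)) (by omega)
      exact (hhEquiv e₂ 0).toEquiv.nontrivial
    exact inj.nontrivial

end

end Groth.Agent.Lib.Helper20.RestrOmega
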