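import Groth.Agent.Lib.Helper20.PushClPr

/-!
# `p_K ∘ s_K = id` for a section `s` of `p : P^n_Y ⟶ Y` (helper20)

* `clSub_map_eq_alt_sum_of_ker_exact`: Euler characteristic lemma for a class closed under kernels of
  epimorphisms, with the exactness hypotheses on the three relevant families of short exact sequences only.
* `pushPr_comp_pushCl_section`: for a regular closed immersion `s : Y ⟶ P^n_Y` with `s ≫ p = 𝟙`,
  `p_K ∘ s_K = id` on models.
-/

set_option autoImplicit false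
universe v u v' u'

open CategoryTheory CategoryTheory.Limits AlgebraicGeometry Opposite TopologicalSpace

namespace Groth.Agent.Lib.Helper20.EulerRes

open Groth.Agent.Lib.Helper20.K0LFRes Groth.Agent.Lib.helper8.Dev

variable {C : Type u} [Category.{v} C] [Abelian C] {D : Type u'} [Category.{v'} D] [Abelian D]
  (G : C ⥤ D) [G.PreservesZeroMorphisms]
  (hG0 : ∀ N : C, IsZero N → IsZero (G.obj N))
  (Q : ObjectProperty D)
  (hker : ∀ S : ShortComplex D, S.ShortExact → Q S.X₂ → Q S.X₃ → Q S.X₁)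
  (hQ0 : ∀ N : D, IsZero N → Q N)

include hG0 hker hQ0 in
/-- Euler characteristic of the image of a finite resolution, for a class closed under kernels of
epimorphisms; only the exactness of the images of the relevant short exact sequences is required -/
theorem clSub_map_eq_alt_sum_of_ker_exact (L : ChainComplex C ℕ) (A : C)
    (π : L ⟶ (ChainComplex.single₀ C).obj A) [QuasiIso π]
    (hS0 : ((augSC π).map G).ShortExact) (hS1 : ((firstSC π).map G).ShortExact)
    (hS2 : ∀ k, ((cyclesSC L (k + 1)).map G).ShortExact)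
    (hL : ∀ k, Q (G.obj (L.X k)))
    (hA : Q (G.obj A)) (n : ℕ) (hz : ∀ k, n < k → IsZero (L.X k)) :
    KZero.clSub Q (G.obj A) =
      ∑ k ∈ Finset.range (n + 1), (-1 : ℤ) ^ k • KZero.clSub Q (G.obj (L.X k)) := by
  have hK0 : Q (G.obj (kernel (π.f 0))) := hker _ hS0 (hL 0) hA
  have hZ : ∀ k, Q (G.obj (L.cycles (k + 1))) := by
    intro k
    induction k with
    | zero => exact hker _ hS1 (hL 1) hK0
    | succ k ih => exact hker _ (hS2 k) (hL _) ih
  let l : ℕ → KZero.K0sub Q := fun k => KZero.clSub Q (G.obj (L.X k))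
  let z : ℕ → KZero.K0sub Q := fun k =>
    match k with
    | 0 => KZero.clSub Q (G.obj (kernel (π.f 0)))
    | k + 1 => KZero.clSub Q (G.obj (L.cycles (k + 1)))
  have h0 : l 0 = z 0 + KZero.clSub Q (G.obj A) := clSub_rel Q _ hS0 hK0 (hL 0) hA
  have hs : ∀ k, l (k + 1) = z (k + 1) + z k := by
    intro k
    cases k with
    | zero => exact clSub_rel Q _ hS1 (hZ 0) (hL 1) hK0
    | succ k => exact clSub_rel Q _ (hS2 k) (hZ (k + 1)) (hL _) (hZ k)
  have key := alt_sum_aux l z (KZero.clSub Q (G.obj A)) h0 hs (n + 1)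
  have hz1 : z (n + 1) = 0 :=
    clSub_zero Q hQ0 _ (hG0 _ (isZero_cycles L (n + 1) (hz _ (Nat.lt_succ_self n))))
  have hl1 : l (n + 1) = 0 := clSub_zero Q hQ0 _ (hG0 _ (hz _ (Nat.lt_succ_self n)))
  rw [Finset.sum_range_succ, hz1, hl1, smul_zero, add_zero, add_zero] at key
  exact key.symm

end Groth.Agent.Lib.Helper20.EulerRes

namespace Groth.Agent.Lib.Helper20.SectionPush

open Groth.Agent.Lib.helper16.FLF Groth.Agent.Lib.Helper20.K0Reg Groth.Agent.Lib.Helper20.K0LFRes
  Groth.Agent.Lib.helper8.Dev Groth.Agent.Lib.Helper20.KosPY KZero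
  Groth.Agent.Lib.Helper20.EulerRes Groth.Agent.Lib.Helper20.TensorEquiv
  Groth.Agent.Lib.Lead.ModTensor Groth.Agent.Lib.Helper20.PushRes
  Groth.Agent.Lib.Helper20.PushClK Groth.Agent.Lib.Helper20.FibreReg
  Groth.Agent.Lib.Helper20.PushClPr

noncomputable section

variable {n : ℕ} {Y : Scheme.{u}} (s : Y ⟶ KRR.PY n Y)

/-- `F ⊗ s^* O(m)` -/
abbrev tw (F : Y.Modules) (m : ℤ) : Y.Modules :=
  ((DCoh.tensorBi (X := Y)).obj F).obj ((Scheme.Modules.pullback s).obj (Twist.twistOver n Y m))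

theorem isFinLocFree_tw {F : Y.Modules} (hF : FlatMod.IsFinLocFree F) (m : ℤ) :
    FlatMod.IsFinLocFree (tw s F m) :=
  Groth.Agent.Lib.helper16.FLFTensor.isFinLocFree_tensor hF
    (isFinLocFree_pullback s (isFinLocFree_twistOver n Y m))

/-- `(s_* F)(m) ≅ s_*(F ⊗ s^* O(m))` -/
def pushTwIso (F : Y.Modules) (m : ℤ) :
    KRR.twF n Y m ((Scheme.Modules.pushforward s).obj F) ≅
      (Scheme.Modules.pushforward s).obj (tw s F m) :=
  braid (Twist.twistOver n Y m) ((Scheme.Modules.pushforward s).obj F) ≪≫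
    (Groth.Agent.Lib.helper11.ProjFormula.projIso s (isFinLocFree_twistOver n Y m)).app F

/-- `F ⊗ s^* O(0) ≅ F` -/
def twZeroIso (F : Y.Modules) : tw s F 0 ≅ F :=
  tensorIso (Iso.refl F) ((Scheme.Modules.pullback s).mapIso
      ((Scheme.Modules.pullback (q1 n Y)).mapIso
        (Groth.Agent.Lib.helper28.TwistPn.zeroIso n (ULift.{u} ℤ)).symm ≪≫
      Groth.Agent.Lib.helper11.InvMod.pullbackUnitIso (q1 n Y)) ≪≫
    Groth.Agent.Lib.helper11.InvMod.pullbackUnitIso s) ≪≫ rightUnitor F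

variable (hs : s ≫ KRR.pr n Y = 𝟙 Y)

/-- `p_* s_* M ≅ M` -/
def pushPushIso (M : Y.Modules) :
    (Scheme.Modules.pushforward (KRR.pr n Y)).obj ((Scheme.Modules.pushforward s).obj M) ≅ M :=
  (Scheme.Modules.pushforwardComp s (KRR.pr n Y)).app M ≪≫
    (Scheme.Modules.pushforwardCongr hs).app M ≪≫ (Scheme.Modules.pushforwardId Y).app M

variable [IsNoetherian Y]

variable (hsreg : Mor2.IsRegularClosedImmersion s)
  (hPe : KRR.HasEnoughLocFree (KRR.PY n Y))
  {KP : Type v} [CommRing KP] [LambdaRing.LambdaOps KP] {PP : LambdaRing.PosStructure KP}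
  {φP : SGA6.Kvb (KRR.PY n Y) →+ KP}
  {KY : Type v} [CommRing KY] [LambdaRing.LambdaOps KY] {PY : LambdaRing.PosStructure KY}
  {φY : SGA6.Kvb Y →+ KY} (hKY : KRR.IsModel Y KY PY φY)
  {gs : KY →+ KP} (hgs : KRR.IsPushCl s φY φP gs)
  {gp : KP →+ KY} (hgp : KRR.IsPushPr n Y φP φY gp)

include hKY in
/-- the pulled back Koszul relation -/
theorem koszul_relation_tw {F : Y.Modules} (hF : FlatMod.IsFinLocFree F) (k : ℤ) :
    ∑ j ∈ Finset.range (n + 2), (-1 : ℤ) ^ j •
      ((n + 1).choose j • KRR.cl Y (tw s F (k + j))) = 0 := by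
  have hQ0 : ∀ N : (KRR.PY n Y).Modules, IsZero N → KRR.vbP (KRR.PY n Y) N :=
    fun N hN => Groth.Agent.Lib.helper25.FLFKernel.isFinLocFree_of_isZero hN
  have hQiso : ∀ M N : (KRR.PY n Y).Modules, (M ≅ N) → KRR.vbP (KRR.PY n Y) M →
      KRR.vbP (KRR.PY n Y) N :=
    fun M N e h => Groth.Agent.Lib.helper16.FLF.isFinLocFree_of_iso e h
  obtain ⟨ψ, hψ⟩ := Groth.Agent.Lib.Helper20.KModelMaps.exists_pullK s
  have hkos := koszul_relation n Y (isFinLocFree_structureModule (KRR.PY n Y)) k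
  have hcl : ∀ d : ℤ, KRR.cl (KRR.PY n Y) (KRR.twF n Y d (Coh.structureModule (KRR.PY n Y))) =
      KRR.cl (KRR.PY n Y) (Twist.twistOver n Y d) := fun d =>
    clSub_iso (KRR.vbP (KRR.PY n Y)) hQ0 hQiso (rightUnitor (Twist.twistOver n Y d))
  have h1 := congrArg (fun z => φY (ψ z)) hkos
  simp only [map_sum, map_zsmul, map_nsmul, map_zero] at h1
  apply hKY.bijective.1
  rw [map_sum, map_zero]
  simp only [map_zsmul, map_nsmul]
  have hterm : ∀ j : ℕ, φY (KRR.cl Y (tw s F (k + j))) =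
      φY (KRR.cl Y F) * φY (ψ (KRR.cl (KRR.PY n Y)
        (KRR.twF n Y (k + j) (Coh.structureModule (KRR.PY n Y))))) := by
    intro j
    rw [hcl, hψ _ (isFinLocFree_twistOver n Y _),
      hKY.map_mul F _ hF (isFinLocFree_pullback s (isFinLocFree_twistOver n Y _))]
  calc ∑ j ∈ Finset.range (n + 2), (-1 : ℤ) ^ j •
        ((n + 1).choose j • φY (KRR.cl Y (tw s F (k + j))))
      = φY (KRR.cl Y F) * ∑ j ∈ Finset.range (n + 2), (-1 : ℤ) ^ j •
          ((n + 1).choose j • φY (ψ (KRR.cl (KRR.PY n Y)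
            (KRR.twF n Y (k + j) (Coh.structureModule (KRR.PY n Y)))))) := by
        rw [Finset.mul_sum]
        refine Finset.sum_congr rfl fun j _ => ?_
        rw [hterm j, mul_smul_comm, mul_smul_comm]
    _ = 0 := by rw [h1, mul_zero]

include hs hsreg hPe hKY hgs hgp in
/-- **`p_K ∘ s_K = id`** -/
theorem pushPr_comp_pushCl_section : gp.comp gs = AddMonoidHom.id KY := by
  haveI : IsClosedImmersion s := hsreg.1
  obtain ⟨c⟩ := nonempty_ctx s hsreg
  have hs' := (c.isPushCl_iff hPe hKY gs).1 hgs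
  have hQ0 : ∀ N : Y.Modules, IsZero N → KRR.vbP Y N :=
    fun N hN => Groth.Agent.Lib.helper25.FLFKernel.isFinLocFree_of_isZero hN
  have hQiso : ∀ M N : Y.Modules, (M ≅ N) → KRR.vbP Y M → KRR.vbP Y N :=
    fun M N e h => Groth.Agent.Lib.helper16.FLF.isFinLocFree_of_iso e h
  let T : AddSubgroup (SGA6.Kvb Y) := ((gp.comp gs).comp φY).eqLocus φY
  have hT : T = ⊤ := by
    rw [eq_top_iff, ← Groth.Agent.Lib.helper7.K0API.closure_clSub (KRR.vbP Y)]
    refine (AddSubgroup.closure_le _).2 ?_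
    rintro x ⟨F, hF, rfl⟩
    have hA : ∀ m : ℤ, FlatMod.IsFinLocFree (tw s F m) := fun m => isFinLocFree_tw s hF m
    -- large twists
    have hlarge : ∃ m₁ : ℕ, ∀ m : ℕ, m₁ ≤ m → KRR.cl Y (tw s F (m : ℤ)) ∈ T := by
      have hB := c.Q_push F hF
      obtain ⟨N, L, π, hL⟩ := c.hasLFRes hPe hB
      haveI := hL.quasiIso
      obtain ⟨m₁, hm₁⟩ := exists_twist_bound n Y _ hB.1 hL
      refine ⟨m₁, fun m hm => ?_⟩
      obtain ⟨hreg, hS0, hS1, hS2⟩ := hm₁ m hm
      have hLvb : ∀ k, FlatMod.IsFinLocFree (KRR.twF n Y (m : ℤ) (L.X k)) := fun k =>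
        isFinLocFree_twF n Y (hL.finLocFree k) _
      have hpvb : ∀ k, FlatMod.IsFinLocFree ((Scheme.Modules.pushforward (KRR.pr n Y)).obj
          (KRR.twF n Y (m : ℤ) (L.X k))) := fun k =>
        Groth.Agent.S3756.result n Y _ (hLvb k) (hreg k)
      show gp (gs (φY (KRR.cl Y (tw s F (m : ℤ))))) = φY (KRR.cl Y (tw s F (m : ℤ)))
      -- the class of `s_*(F ⊗ s^*O(m))`
      have e1 : c.pushK hPe (KRR.cl Y (tw s F (m : ℤ))) =
          ∑ k ∈ Finset.range (N + 1), (-1 : ℤ) ^ k •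
            KRR.cl (KRR.PY n Y) (KRR.twF n Y (m : ℤ) (L.X k)) := by
        apply (c.eQ hPe).injective
        rw [c.pushK_cl hPe _ (hA m), map_sum]
        obtain ⟨-, h2⟩ := clSub_map_eq_alt_sum (TwF n Y (m : ℤ))
          (fun S hS => shortExact_map_TwF n Y (m : ℤ) S hS)
          (fun N hN => (TwF n Y (m : ℤ)).map_isZero hN) c.Q
          (P1_coker c.t) c.Q_zero L _ π (fun k => c.le _ (hLvb k)) N hL.isZero
        rw [← clSub_iso c.Q c.Q_zero (fun _ _ e h => P1_of_iso c.t e h) (pushTwIso s F (m : ℤ))]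
        refine h2.trans (Finset.sum_congr rfl (fun k _ => ?_))
        rw [map_zsmul, c.eQ_cl hPe _ (hLvb k)]
        rfl
      -- the class of `F ⊗ s^*O(m)`
      let e : (Gm n Y (m : ℤ)).obj ((Scheme.Modules.pushforward s).obj F) ≅ tw s F (m : ℤ) :=
        (Scheme.Modules.pushforward (KRR.pr n Y)).mapIso (pushTwIso s F (m : ℤ)) ≪≫
          pushPushIso s hs _
      have e2 : KRR.cl Y (tw s F (m : ℤ)) =
          ∑ k ∈ Finset.range (N + 1), (-1 : ℤ) ^ k •
            KRR.cl Y ((Scheme.Modules.pushforward (KRR.pr n Y)).obj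
              (KRR.twF n Y (m : ℤ) (L.X k))) := by
        have h3 := clSub_map_eq_alt_sum_of_ker_exact (Gm n Y (m : ℤ))
          (fun N hN => (Gm n Y (m : ℤ)).map_isZero hN) (KRR.vbP Y)
          (fun S hS h2 h3 => vb_ker S hS h2 h3) hQ0 L _ π hS0 hS1 hS2 hpvb
          (hQiso _ _ e.symm (hA m)) N hL.isZero
        rw [KRR.cl, ← clSub_iso (KRR.vbP Y) hQ0 hQiso e]
        exact h3
      rw [hs', e1, map_sum, map_sum]
      conv_rhs => rw [e2, map_sum]
      refine Finset.sum_congr rfl (fun k _ => ?_)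
      rw [map_zsmul, map_zsmul, map_zsmul, hgp _ (hLvb k) (hreg k)]
    -- downward induction through the Koszul relation
    obtain ⟨m₁, hm⟩ := hlarge
    have key : ∀ (D : ℕ) (k : ℤ), (m₁ : ℤ) - D ≤ k → KRR.cl Y (tw s F k) ∈ T := by
      intro D
      induction D with
      | zero =>
        intro k hk
        obtain ⟨m, rfl⟩ := Int.eq_ofNat_of_zero_le (show 0 ≤ k by simp at hk; omega)
        exact hm m (by simp at hk; omega)
      | succ D ih =>
        intro k hk
        by_cases hk' : (m₁ : ℤ) - D ≤ k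
        · exact ih k hk'
        have hrel := koszul_relation_tw s hKY hF k
        rw [Finset.sum_range_succ'] at hrel
        simp only [pow_zero, Nat.choose_zero_right, one_smul, Nat.cast_zero, add_zero] at hrel
        have h2 : KRR.cl Y (tw s F k) =
            -∑ j ∈ Finset.range (n + 1), (-1 : ℤ) ^ (j + 1) • ((n + 1).choose (j + 1) •
              KRR.cl Y (tw s F (k + ((j + 1 : ℕ) : ℤ)))) :=
          eq_neg_of_add_eq_zero_right hrel
        rw [h2]
        refine AddSubgroup.neg_mem _ (AddSubgroup.sum_mem _ fun j _ => ?_)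
        refine AddSubgroup.zsmul_mem _ (AddSubgroup.nsmul_mem _ ?_ _) _
        exact ih _ (by push_cast at hk ⊢; omega)
    have h0 := key ((m₁ : ℤ) - 0).toNat 0 (by omega)
    rw [KRR.cl, clSub_iso (KRR.vbP Y) hQ0 hQiso (twZeroIso s F)] at h0
    exact h0
  ext z
  obtain ⟨x, rfl⟩ := hKY.bijective.2 z
  have hx : x ∈ T := by rw [hT]; trivial
  exact hx

end

end Groth.Agent.Lib.Helper20.SectionPush
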