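import Mathlib
import Groth.Agent.Lib.Helper20.Rank2Simple4
import Groth.Agent.Lib.Helper18.HHConseq
import Groth.Agent.Lib.Helper20.Euler5a
import Groth.Agent.Lib.Helper20.Horrocks
import Groth.Agent.S0844
import Groth.Prelude.Def_ClSub2

/-!
# `H⁰` of twists of a bundle `0 → O → E → J_Y(c) → 0` on `P^n_k` (helper20)
-/

set_option autoImplicit false
set_option linter.style.haveILetI false
universe u

open CategoryTheory CategoryTheory.Limits AlgebraicGeometry Opposite TopologicalSpace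

namespace Groth.Agent.Lib.Helper20.SerreBundleH0

noncomputable section

open Groth.Agent.Lib.Lead.ModTensor Groth.Agent.Lib.Helper20.TensorEquiv
  Groth.Agent.Lib.Helper20.TwistEquivPn Groth.Agent.Lib.helper28
  Groth.Agent.Lib.helper16.FLF Groth.Agent.Lib.Helper20.Wedge
  Groth.Agent.Lib.Helper18.HH Groth.Agent.Lib.Helper20.Rank2Simple

variable {n : ℕ} {k : Type u} [Field k]

/-- `O(-a) ⊗ O(a) ≅ O` -/
def negIso (a : ℤ) : CohB1.tensorMod (Twist.twistProjSpace n k (-a)) (Twist.twistProjSpace n k a) ≅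
    Coh.structureModule (CohB1.ProjSpace n k) :=
  braid _ _ ≪≫ invIso n k a

/-- for a subsheaf `M` of a vector bundle on `P^n_k`, vanishing of `H⁰(M(d + l))` forces the
vanishing of `H⁰(M(d))` -/
theorem subsingleton_h0_of_add {M E : (CohB1.ProjSpace n k).Modules} {r : ℕ}
    (hE : FlatMod.IsFinLocFreeOfRank r E) (ι : M ⟶ E) [Mono ι] (d : ℤ) (l : ℕ)
    (h : Subsingleton (Coh.HH (CohB1.ProjSpace n k)
      (CohB1.tensorMod M (Twist.twistProjSpace n k (d + (l : ℤ)))) 0)) :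
    Subsingleton (Coh.HH (CohB1.ProjSpace n k)
      (CohB1.tensorMod M (Twist.twistProjSpace n k d)) 0) := by
  have h1 : ∀ t : Twist.twistProjSpace n k (-(d + (l : ℤ))) ⟶ M, t = 0 := fun t =>
    Groth.Agent.Lib.helper20.GaetaHom.hom_eq_zero_of_subsingleton (negIso (d + (l : ℤ))) h t
  have h2 : ∀ s : Twist.twistProjSpace n k (-d) ⟶ M, s = 0 := by
    intro s
    by_contra hs
    have hsι : s ≫ ι ≠ 0 := fun h0 =>
      hs ((cancel_mono ι).1 (h0.trans Limits.zero_comp.symm))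
    haveI : Mono (s ≫ ι) := mono_of_ne_zero_twist (-d) hE (s ≫ ι) hsι
    obtain ⟨g, hg⟩ := exists_mono_twist (n := n) (k := k) (-(d + (l : ℤ))) (-d) l (by ring)
    have h3 : g ≫ s = 0 := h1 _
    have h4 : g = 0 := by
      rw [← cancel_mono (s ≫ ι), ← Category.assoc, h3, Limits.zero_comp, Limits.zero_comp]
    exact not_isZero_twist (-(d + (l : ℤ))) (IsZero.of_mono_eq_zero g h4)
  refine ⟨fun x y => ?_⟩
  obtain ⟨s, rfl⟩ := (Groth.Agent.Lib.helper20.GaetaHom.twEquiv (negIso d) M).surjective x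
  obtain ⟨s', rfl⟩ := (Groth.Agent.Lib.helper20.GaetaHom.twEquiv (negIso d) M).surjective y
  rw [h2 s, h2 s']

/-- antitone version -/
theorem subsingleton_h0_of_le {M E : (CohB1.ProjSpace n k).Modules} {r : ℕ}
    (hE : FlatMod.IsFinLocFreeOfRank r E) (ι : M ⟶ E) [Mono ι] (d d' : ℤ) (hd : d ≤ d')
    (h : Subsingleton (Coh.HH (CohB1.ProjSpace n k)
      (CohB1.tensorMod M (Twist.twistProjSpace n k d')) 0)) :
    Subsingleton (Coh.HH (CohB1.ProjSpace n k)
      (CohB1.tensorMod M (Twist.twistProjSpace n k d)) 0) := by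
  obtain ⟨l, rfl⟩ : ∃ l : ℕ, d' = d + (l : ℤ) := ⟨(d' - d).toNat, by omega⟩
  exact subsingleton_h0_of_add hE ι d l h

/-- `H⁰(O(t)) = 0` iff `t < 0` -/
theorem subsingleton_h0_twist_iff (hn : 1 ≤ n) (t : ℤ) :
    Subsingleton (Coh.HH (CohB1.ProjSpace n k) (Twist.twistProjSpace n k t) 0) ↔ t < 0 := by
  constructor
  · intro h
    by_contra ht
    have h1 := Groth.Agent.Lib.helper20.Horrocks.finrank_H0_twist_pos (n := n) (k := k) t
      (by omega)
    rw [Module.finrank_zero_of_subsingleton] at h1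
    exact lt_irrefl _ h1
  · intro ht
    exact Groth.Agent.S0844.result k n t 0 (by omega) (by omega)

/-- **`H⁰` of the twists of a bundle `0 → O → E → J(c) → 0` on `P^n_k`, `n ≥ 2`** -/
theorem h0_twist_iff (hn : 2 ≤ n) (J : (CohB1.ProjSpace n k).Modules) (c : ℤ)
    (S : ShortComplex (CohB1.ProjSpace n k).Modules) (hS : S.ShortExact)
    (e₁ : S.X₁ ≅ Coh.structureModule (CohB1.ProjSpace n k))
    (e₃ : S.X₃ ≅ CohB1.tensorMod J (Twist.twistProjSpace n k c)) (t : ℤ) :
    Subsingleton (Coh.HH (CohB1.ProjSpace n k)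
        (CohB1.tensorMod S.X₂ (Twist.twistProjSpace n k t)) 0) ↔
      (t < 0 ∧ Subsingleton (Coh.HH (CohB1.ProjSpace n k)
        (CohB1.tensorMod J (Twist.twistProjSpace n k (c + t))) 0)) := by
  have hT := shortExact_mapSC (invIso n k t) hS
  let i₁ : (mapSC (invIso n k t) S).X₁ ≅ Twist.twistProjSpace n k t :=
    tensorIso e₁ (Iso.refl _) ≪≫ leftUnitor _
  let i₃ : (mapSC (invIso n k t) S).X₃ ≅ CohB1.tensorMod J (Twist.twistProjSpace n k (c + t)) :=
    tensorIso e₃ (Iso.refl _) ≪≫ assoc _ _ _ ≪≫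
      tensorIso (Iso.refl J) (TwistPn.tensorIso n k c t)
  have hH1 : Subsingleton (Coh.HH (CohB1.ProjSpace n k) (mapSC (invIso n k t) S).X₁ 1) :=
    Groth.Agent.Lib.helper20.Euler5a.subsingleton_of_iso i₁.symm 1
      (Groth.Agent.S0844.result k n t 1 (by omega) (by omega))
  constructor
  · intro h
    have h2 : Subsingleton (Coh.HH (CohB1.ProjSpace n k) (mapSC (invIso n k t) S).X₂ 0) := h
    refine ⟨?_, ?_⟩
    · exact (subsingleton_h0_twist_iff (by omega) t).1
        (Groth.Agent.Lib.helper20.Euler5a.subsingleton_of_iso i₁ 0 (subsingleton_X₁_zero hT h2))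
    · exact Groth.Agent.Lib.helper20.Euler5a.subsingleton_of_iso i₃ 0
        (subsingleton_X₃ hT 0 h2 hH1)
  · rintro ⟨ht, h3⟩
    exact subsingleton_X₂ hT 0
      (Groth.Agent.Lib.helper20.Euler5a.subsingleton_of_iso i₁.symm 0
        ((subsingleton_h0_twist_iff (by omega) t).2 ht))
      (Groth.Agent.Lib.helper20.Euler5a.subsingleton_of_iso i₃.symm 0 h3)

/-- the ideal version, with the monotonicity built in -/
theorem h0_twist_iff_forall (hn : 2 ≤ n) (I : (CohB1.ProjSpace n k).IdealSheafData) (c : ℤ)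
    (S : ShortComplex (CohB1.ProjSpace n k).Modules) (hS : S.ShortExact)
    (e₁ : S.X₁ ≅ Coh.structureModule (CohB1.ProjSpace n k))
    (e₃ : S.X₃ ≅ CohB1.tensorMod (ClSub.idealMod I) (Twist.twistProjSpace n k c)) (t : ℤ) :
    Subsingleton (Coh.HH (CohB1.ProjSpace n k)
        (CohB1.tensorMod S.X₂ (Twist.twistProjSpace n k t)) 0) ↔
      (t < 0 ∧ ∀ d : ℤ, d ≤ c + t → Subsingleton (Coh.HH (CohB1.ProjSpace n k)
        (CohB1.tensorMod (ClSub.idealMod I) (Twist.twistProjSpace n k d)) 0)) := by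
  rw [h0_twist_iff hn (ClSub.idealMod I) c S hS e₁ e₃ t]
  haveI : Mono (ClSub.idealModι I) := by
    unfold ClSub.idealModι
    exact equalizer.ι_mono
  constructor
  · rintro ⟨ht, h⟩
    exact ⟨ht, fun d hd => subsingleton_h0_of_le
      (isFinLocFreeOfRank_structureModule _) (ClSub.idealModι I) d (c + t) hd h⟩
  · rintro ⟨ht, h⟩
    exact ⟨ht, h (c + t) le_rfl⟩

end

end Groth.Agent.Lib.Helper20.SerreBundleH0
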