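import Mathlib

/-!
# Serre's freeness criterion for extensions `0 → A → M → I → 0` (helper20)

Module-theoretic part: `coprod_surjective`, `kerEquiv`, `exists_section`.
-/

set_option autoImplicit false

universe u

namespace Groth.Agent.Lib.Helper20.SerreFree

section Modules

variable {A : Type*} [CommRing A] {N M I' P : Type*}
  [AddCommGroup N] [Module A N] [AddCommGroup M] [Module A M]
  [AddCommGroup I'] [Module A I'] [AddCommGroup P] [Module A P]
  (j' : N →ₗ[A] M) (g' : M →ₗ[A] I') (φ : P →ₗ[A] I') (lam : P →ₗ[A] M)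

theorem coprod_surjective (hex : ∀ m, g' m = 0 → ∃ a, j' a = m)
    (hlam : ∀ v, g' (lam v) = φ v) (hφ : Function.Surjective φ) :
    Function.Surjective (j'.coprod lam) := by
  intro m
  obtain ⟨v, hv⟩ := hφ (g' m)
  obtain ⟨a, ha⟩ := hex (m - lam v) (by rw [map_sub, hlam, hv, sub_self])
  refine ⟨(a, v), ?_⟩
  rw [LinearMap.coprod_apply, ha, sub_add_cancel]

/-- the kernel of `N × P → M` is the kernel of `P → I'` -/
noncomputable def kerEquiv (hj : Function.Injective j') (hex : ∀ m, g' m = 0 → ∃ a, j' a = m)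
    (hgj : ∀ a, g' (j' a) = 0) (hlam : ∀ v, g' (lam v) = φ v) :
    LinearMap.ker (j'.coprod lam) ≃ₗ[A] LinearMap.ker φ := by
  have hmem : ∀ x ∈ LinearMap.ker (j'.coprod lam), LinearMap.snd A N P x ∈ LinearMap.ker φ := by
    rintro ⟨a, v⟩ hx
    rw [LinearMap.mem_ker, LinearMap.coprod_apply] at hx
    rw [LinearMap.mem_ker, LinearMap.snd_apply, ← hlam]
    have h2 : lam v = - j' a := eq_neg_of_add_eq_zero_right hx
    rw [h2, map_neg, hgj, neg_zero]
  refine LinearEquiv.ofBijective ((LinearMap.snd A N P).restrict hmem) ⟨?_, ?_⟩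
  · rw [injective_iff_map_eq_zero]
    rintro ⟨⟨a, v⟩, hx⟩ h0
    have hv : v = 0 := congrArg Subtype.val h0
    rw [LinearMap.mem_ker, LinearMap.coprod_apply, hv, map_zero, add_zero] at hx
    have ha : a = 0 := hj (hx.trans (map_zero j').symm)
    apply Subtype.ext
    show (a, v) = 0
    rw [ha, hv]
    rfl
  · rintro ⟨v, hv⟩
    rw [LinearMap.mem_ker, ← hlam] at hv
    obtain ⟨a, ha⟩ := hex _ hv
    refine ⟨⟨(-a, v), ?_⟩, rfl⟩
    rw [LinearMap.mem_ker, LinearMap.coprod_apply, map_neg, ha, neg_add_cancel]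

end Modules

section Split

variable {A : Type*} [CommRing A] {M P₀ : Type*}
  [AddCommGroup M] [Module A M] [AddCommGroup P₀] [Module A P₀] (π : P₀ →ₗ[A] M)

/-- if every linear form on the (finite free) kernel of a surjection `π : P₀ → M` extends to `P₀`,
then `π` has a section -/
theorem exists_section (hπ : Function.Surjective π) {p : ℕ}
    (b : Module.Basis (Fin p) A (LinearMap.ker π))
    (hext : ∀ c : LinearMap.ker π →ₗ[A] A, ∃ r : P₀ →ₗ[A] A, ∀ k : LinearMap.ker π, r k = c k) :
    ∃ s : M →ₗ[A] P₀, π.comp s = LinearMap.id := by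
  choose r hr using fun i => hext (b.coord i)
  let ρ : P₀ →ₗ[A] LinearMap.ker π := (b.equivFun.symm : (Fin p → A) →ₗ[A] _).comp (LinearMap.pi r)
  have hρ : ∀ k : LinearMap.ker π, ρ k = k := by
    intro k
    show b.equivFun.symm (fun i => r i k) = k
    have : (fun i => r i k) = b.equivFun k := by
      funext i
      rw [hr, Module.Basis.coord_apply, Module.Basis.equivFun_apply]
    rw [this, LinearEquiv.symm_apply_apply]
  let t : P₀ →ₗ[A] P₀ := LinearMap.id - (LinearMap.ker π).subtype.comp ρ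
  have ht : LinearMap.ker π ≤ LinearMap.ker t := by
    intro k hk
    rw [LinearMap.mem_ker]
    show k - ((ρ k : LinearMap.ker π) : P₀) = 0
    rw [hρ ⟨k, hk⟩, sub_self]
  let s' : (P₀ ⧸ LinearMap.ker π) →ₗ[A] P₀ := (LinearMap.ker π).liftQ t ht
  refine ⟨s'.comp (π.quotKerEquivOfSurjective hπ).symm.toLinearMap, ?_⟩
  ext m
  obtain ⟨x, rfl⟩ := hπ m
  have h1 : (π.quotKerEquivOfSurjective hπ).symm (π x) = Submodule.Quotient.mk x := by
    rw [LinearEquiv.symm_apply_eq]
    rfl
  simp only [LinearMap.comp_apply, LinearEquiv.coe_coe, LinearMap.id_apply, h1]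
  show π (t x) = π x
  show π (x - ((ρ x : LinearMap.ker π) : P₀)) = π x
  rw [map_sub, LinearMap.mem_ker.1 (ρ x).2, sub_zero]

end Split

end Groth.Agent.Lib.Helper20.SerreFree
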