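import Mathlib
import Groth.Agent.Lib.Helper20.TwistVal
import Groth.Agent.Lib.Helper20.ExactLoc
import Groth.Agent.Lib.Helper20.ResAlg

/-!
# Finite sums of twists `∐ O(-β b)` on `P^r_k` and the maps between them given by homogeneous matrices (helper20)
-/

set_option autoImplicit false
universe u

open CategoryTheory CategoryTheory.Limits AlgebraicGeometry Opposite TopologicalSpace

namespace Groth.Agent.Lib.helper20.SumTw

open Groth.Agent.Lib.helper20.TwistVal Groth.Agent.Lib.helper20.ExactLoc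
  Groth.Agent.Lib.helper20.LFMono Groth.Agent.Lib.Helper20.ProjMulHom
  Groth.Agent.Lib.helper20.ResAlg

variable {k : Type u} [Field k] {r : ℕ}

local notation "Ar" => CohB1.polyGrading r k
local notation "Rr" => MvPolynomial (Fin (r + 1)) k
local notation "Z" => GrSyz.stdGr k (Fin (r + 1))

/-- morphisms of modules commute with restriction -/
lemma app_res {X : Scheme.{u}} {A B : X.Modules} (φ : A ⟶ B) {V W : X.Opens} (hW : W ≤ V)
    (s : Γ(A, V)) :
    (φ.app W).hom (A.presheaf.map (homOfLE hW).op s) =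
      B.presheaf.map (homOfLE hW).op ((φ.app V).hom s) := by
  have nat := congrFun (congrArg (fun g => (AddCommGrpCat.Hom.hom g : _ → _))
    (φ.mapPresheaf.naturality (homOfLE hW).op)) s
  exact nat

variable {n₁ n₂ n₃ : ℕ}

/-- the summands -/
noncomputable abbrev tw (β : Fin n₁ → ℤ) (b : Fin n₁) : (Proj Ar).Modules := Twist.twist Ar (-β b)

/-- `∐ O(-β b)` -/
noncomputable abbrev sumTw (β : Fin n₁ → ℤ) : (Proj Ar).Modules := ∐ tw (k := k) (r := r) β

/-- the components of a section -/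
noncomputable def comp (β : Fin n₁ → ℤ) {V : (Proj Ar).Opens} (t : Γ(sumTw (k := k) (r := r) β, V))
    (b : Fin n₁) : Γ(Twist.twist Ar (-β b), V) :=
  ((Sigma.π (tw (k := k) (r := r) β) b).app V).hom t

lemma comp_res (β : Fin n₁ → ℤ) {V W : (Proj Ar).Opens} (hW : W ≤ V)
    (t : Γ(sumTw (k := k) (r := r) β, V)) (b : Fin n₁) :
    comp β ((sumTw (k := k) (r := r) β).presheaf.map (homOfLE hW).op t) b =
      (Twist.twist Ar (-β b)).presheaf.map (homOfLE hW).op (comp β t b) :=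
  app_res _ hW t

lemma comp_ext (β : Fin n₁ → ℤ) {V : (Proj Ar).Opens} (t t' : Γ(sumTw (k := k) (r := r) β, V))
    (h : ∀ b, comp β t b = comp β t' b) : t = t' :=
  sec_ext _ V t t' h

/-- the section with given components -/
noncomputable def ofComp (β : Fin n₁ → ℤ) {V : (Proj Ar).Opens}
    (s : ∀ b, Γ(Twist.twist Ar (-β b), V)) : Γ(sumTw (k := k) (r := r) β, V) :=
  ∑ b, ((Sigma.ι (tw (k := k) (r := r) β) b).app V).hom (s b)

lemma comp_ofComp (β : Fin n₁ → ℤ) {V : (Proj Ar).Opens}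
    (s : ∀ b, Γ(Twist.twist Ar (-β b), V)) (a : Fin n₁) : comp β (ofComp β s) a = s a :=
  π_sum_ι _ V s a

lemma ofComp_comp (β : Fin n₁ → ℤ) {V : (Proj Ar).Opens} (t : Γ(sumTw (k := k) (r := r) β, V)) :
    ofComp β (comp β t) = t :=
  (sec_eq_sum _ V t).symm

/-- the map `∐ O(-γ e) ⟶ ∐ O(-β b)` given by a homogeneous matrix -/
noncomputable def matHom (β : Fin n₁ → ℤ) (γ : Fin n₂ → ℤ) (D : Matrix (Fin n₁) (Fin n₂) Rr)
    (hD : ∀ b e, D b e ∈ Z (γ e - β b)) : sumTw (k := k) (r := r) γ ⟶ sumTw β :=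
  Sigma.desc fun e => ∑ b, mulZ (-γ e) (-β b) (D b e) (by rw [neg_sub_neg]; exact hD b e) ≫
    Sigma.ι (tw (k := k) (r := r) β) b

lemma matHom_π (β : Fin n₁ → ℤ) (γ : Fin n₂ → ℤ) (D : Matrix (Fin n₁) (Fin n₂) Rr)
    (hD : ∀ b e, D b e ∈ Z (γ e - β b)) (b : Fin n₁) :
    matHom β γ D hD ≫ Sigma.π (tw (k := k) (r := r) β) b =
      ∑ e, Sigma.π (tw (k := k) (r := r) γ) e ≫
        mulZ (-γ e) (-β b) (D b e) (by rw [neg_sub_neg]; exact hD b e) := by
  apply Sigma.hom_ext
  intro e'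
  unfold matHom
  rw [← Category.assoc, Sigma.ι_desc, Preadditive.sum_comp, Preadditive.comp_sum]
  rw [Finset.sum_eq_single b]
  · rw [Category.assoc, Sigma.ι_π_eq_id, Category.comp_id]
    rw [Finset.sum_eq_single e']
    · rw [← Category.assoc, Sigma.ι_π_eq_id, Category.id_comp]
    · intro e _ he
      rw [← Category.assoc, Sigma.ι_π_of_ne _ he.symm, zero_comp]
    · intro h
      exact absurd (Finset.mem_univ e') h
  · intro b' _ hb'
    rw [Category.assoc, Sigma.ι_π_of_ne _ hb', comp_zero]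
  · intro h
    exact absurd (Finset.mem_univ b) h

/-- the values of the components of the image of a section under `matHom` -/
lemma valO_comp_matHom (β : Fin n₁ → ℤ) (γ : Fin n₂ → ℤ) (D : Matrix (Fin n₁) (Fin n₂) Rr)
    (hD : ∀ b e, D b e ∈ Z (γ e - β b)) {V : (Proj Ar).Opens}
    (t : Γ(sumTw (k := k) (r := r) γ, V)) (b : Fin n₁) (x : V) :
    valO Ar (comp β (((matHom β γ D hD).app V).hom t) b) x =
      ∑ e, valO Ar (comp γ t e) x * mkOne Ar (D b e) x.1 := by
  have h1 : comp β (((matHom β γ D hD).app V).hom t) b =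
      (appAddHom V (matHom β γ D hD ≫ Sigma.π (tw (k := k) (r := r) β) b)) t := rfl
  rw [h1, matHom_π, map_sum, AddMonoidHom.finsetSum_apply, valO_sum]
  refine Finset.sum_congr rfl fun e _ => ?_
  exact mulZ_val _ _ _ _ (comp γ t e) x


/-- `mkOne` is the canonical map to the localization -/
lemma mkOne_eq_algebraMap (p : Rr) (x : ProjectiveSpectrum Ar) :
    mkOne Ar p x = algebraMap Rr (Twist.Loc Ar x) p := by
  unfold mkOne
  rw [← Localization.mk_one_eq_algebraMap]
  rfl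

lemma mkOne_zero (x : ProjectiveSpectrum Ar) : mkOne Ar (0 : Rr) x = 0 := by
  rw [mkOne_eq_algebraMap, map_zero]

lemma sum_mkOne_mul (D : Matrix (Fin n₁) (Fin n₂) Rr) (D' : Matrix (Fin n₂) (Fin n₃) Rr)
    (b : Fin n₁) (z : Fin n₃) (x : ProjectiveSpectrum Ar) :
    ∑ e, mkOne Ar (D' e z) x * mkOne Ar (D b e) x = mkOne Ar ((D * D') b z) x := by
  rw [Matrix.mul_apply, mkOne_eq_algebraMap, map_sum]
  refine Finset.sum_congr rfl fun e _ => ?_
  rw [mkOne_eq_algebraMap, mkOne_eq_algebraMap, map_mul, mul_comm]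

lemma comp_zero_app (β : Fin n₁ → ℤ) {A : (Proj Ar).Modules} {V : (Proj Ar).Opens} (t : Γ(A, V))
    (b : Fin n₁) :
    comp β ((((0 : A ⟶ sumTw (k := k) (r := r) β)).app V).hom t) b = 0 := by
  have : (((0 : A ⟶ sumTw (k := k) (r := r) β)).app V).hom t = 0 := rfl
  rw [this]
  unfold comp
  rw [map_zero]

/-- the composition of two matrix maps with zero product is zero -/
theorem matHom_comp_eq_zero (β : Fin n₁ → ℤ) (γ : Fin n₂ → ℤ) (ζ : Fin n₃ → ℤ)
    (D : Matrix (Fin n₁) (Fin n₂) Rr) (hD : ∀ b e, D b e ∈ Z (γ e - β b))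
    (D' : Matrix (Fin n₂) (Fin n₃) Rr) (hD' : ∀ e z, D' e z ∈ Z (ζ z - γ e))
    (h : D * D' = 0) : matHom (k := k) (r := r) γ ζ D' hD' ≫ matHom β γ D hD = 0 := by
  apply Scheme.Modules.hom_ext
  intro V
  apply AddCommGrpCat.hom_ext
  apply AddMonoidHom.ext
  intro t
  apply comp_ext β
  intro b
  apply valO_ext
  intro x
  have h0 : valO Ar (comp β ((((0 : sumTw (k := k) (r := r) ζ ⟶ sumTw β)).app V).hom t) b) x = 0 := by
    rw [comp_zero_app]
    rfl
  refine Eq.trans ?_ h0.symm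
  have h1 : ((matHom (k := k) (r := r) γ ζ D' hD' ≫ matHom β γ D hD).app V).hom t =
      ((matHom β γ D hD).app V).hom (((matHom (k := k) (r := r) γ ζ D' hD').app V).hom t) := rfl
  rw [h1, valO_comp_matHom]
  have h3 : ∀ e, valO Ar (comp γ (((matHom (k := k) (r := r) γ ζ D' hD').app V).hom t) e) x *
      mkOne Ar (D b e) x.1 =
      ∑ z, valO Ar (comp ζ t z) x * (mkOne Ar (D' e z) x.1 * mkOne Ar (D b e) x.1) := by
    intro e
    rw [valO_comp_matHom, Finset.sum_mul]
    exact Finset.sum_congr rfl fun z _ => mul_assoc _ _ _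
  rw [Finset.sum_congr rfl (fun e _ => h3 e), Finset.sum_comm]
  refine Finset.sum_eq_zero fun z _ => ?_
  rw [← Finset.mul_sum]
  have h4 := sum_mkOne_mul D D' b z x.1
  have h5 : mkOne Ar ((D * D') b z) x.1 = 0 := by
    rw [h, Matrix.zero_apply]
    exact mkOne_zero _
  exact (congrArg (valO Ar (comp ζ t z) x * ·) (h4.trans h5)).trans (mul_zero _)


/-- the values of `matHom` on a section with components the fractions `c e / g` -/
lemma valO_matHom_of_frac (β : Fin n₁ → ℤ) (γ : Fin n₂ → ℤ) (D : Matrix (Fin n₁) (Fin n₂) Rr)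
    (hD : ∀ b e, D b e ∈ Z (γ e - β b)) {W : (Proj Ar).Opens}
    (t : Γ(sumTw (k := k) (r := r) γ, W)) (c : Fin n₂ → Rr) (g : Rr)
    (hgW : ∀ z : W, g ∉ z.1.asHomogeneousIdeal)
    (hval : ∀ e (z : W), valO Ar (comp γ t e) z = Localization.mk (c e) ⟨g, hgW z⟩)
    (b : Fin n₁) (z : W) :
    valO Ar (comp β (((matHom β γ D hD).app W).hom t) b) z =
      Localization.mk (D.mulVec c b) ⟨g, hgW z⟩ := by
  rw [valO_comp_matHom]
  have h1 : ∀ e, valO Ar (comp γ t e) z * mkOne Ar (D b e) z.1 =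
      Localization.mk (D b e * c e) ⟨g, hgW z⟩ := by
    intro e
    refine (congrArg (· * mkOne Ar (D b e) z.1) (hval e z)).trans ?_
    refine (mk_mul_mkOne z.1 (c e) (D b e) ⟨g, hgW z⟩).trans ?_
    rw [mul_comm]
  rw [Finset.sum_congr rfl (fun e _ => h1 e)]
  exact (Localization.mk_sum _ _ _).symm

/-- exactness of `∐ O(-ζ) ⟶ ∐ O(-γ) ⟶ ∐ O(-β)` from exactness of the matrices -/
theorem matHom_exact (β : Fin n₁ → ℤ) (γ : Fin n₂ → ℤ) (ζ : Fin n₃ → ℤ)
    (D : Matrix (Fin n₁) (Fin n₂) Rr) (hD : ∀ b e, D b e ∈ Z (γ e - β b))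
    (D' : Matrix (Fin n₂) (Fin n₃) Rr) (hD' : ∀ e z, D' e z ∈ Z (ζ z - γ e))
    (w : matHom (k := k) (r := r) γ ζ D' hD' ≫ matHom β γ D hD = 0)
    (hker : ∀ c : Fin n₂ → Rr, D.mulVec c = 0 → ∃ h : Fin n₃ → Rr, c = D'.mulVec h) :
    (ShortComplex.mk _ _ w).Exact := by
  apply exact_of_locally
  intro V s hs y hy
  change Γ(sumTw (k := k) (r := r) γ, V) at s
  change ((matHom β γ D hD).app V).hom s = 0 at hs
  obtain ⟨W, hW, hyW, j, g, hg, hgW, c, hc, hval⟩ :=
    exists_common_frac (fun e => -γ e) (fun e => comp γ s e) y hy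
  -- the numerators are killed by `D`
  have hval' : ∀ e (z : W), valO Ar (comp γ ((sumTw (k := k) (r := r) γ).presheaf.map
      (homOfLE hW).op s) e) z = Localization.mk (c e) ⟨g, hgW z⟩ := by
    intro e z
    rw [comp_res, valO_res]
    exact hval e z
  have hDc : D.mulVec c = 0 := by
    funext b
    have h1 := valO_matHom_of_frac β γ D hD _ c g hgW hval' b ⟨y, hyW⟩
    have h2 : ((matHom β γ D hD).app W).hom ((sumTw (k := k) (r := r) γ).presheaf.map
        (homOfLE hW).op s) = 0 := by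
      rw [app_res, hs, map_zero]
    rw [h2] at h1
    have h3 : valO Ar (comp β (0 : Γ(sumTw (k := k) (r := r) β, W)) b) ⟨y, hyW⟩ = 0 := by
      unfold comp
      rw [map_zero]
      rfl
    exact (mk_eq_zero_iff _ _ _).mp (h1.symm.trans h3)
  obtain ⟨h, hh⟩ := hker c hDc
  have hh' := matrix_homog γ ζ D' hD' (j : ℤ) c
    (fun e => by rw [sub_eq_add_neg]; exact hc e) h hh
  refine ⟨W, hW, hyW, ofComp ζ (fun z => fracZ (-ζ z) W (pr ((j : ℤ) - ζ z) (h z)) g j hg hgW
    (by rw [← sub_eq_add_neg]; exact pr_mem _ _)), ?_⟩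
  change ((matHom γ ζ D' hD').app W).hom _ = (sumTw (k := k) (r := r) γ).presheaf.map
      (homOfLE hW).op s
  apply comp_ext γ
  intro e
  apply valO_ext
  intro z
  rw [valO_matHom_of_frac γ ζ D' hD' _ (fun z => pr ((j : ℤ) - ζ z) (h z)) g hgW
    (fun z' x => by rw [comp_ofComp]; exact fracZ_val _ _ _ _ _ _ _ _ _) e z, hval' e z, ← hh']

end Groth.Agent.Lib.helper20.SumTw
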