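import Mathlib
import Groth.Agent.Lib.Helper20.Rank2Simple3
import Groth.Agent.Lib.Helper17.RegSmoothSch
import Groth.Agent.S1689
import Groth.Agent.Lib.Helper11.FibLift4

/-!
# Kernels of maps from vector bundles to torsion-free sheaves on regular surfaces (helper20)
-/

set_option autoImplicit false
set_option linter.style.haveILetI false
universe u

open CategoryTheory CategoryTheory.Limits AlgebraicGeometry Opposite TopologicalSpace

namespace Groth.Agent.Lib.Helper20.SurfKernel

open Groth.Agent.Lib.Helper20.Rank2Simple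

/-- a scheme smooth over a perfect field has regular local rings -/
theorem isRegularLocalRing_stalk_of_smooth (k : Type u) [Field k] [PerfectField k]
    (X : Scheme.{u}) [X.Over (Spec (CommRingCat.of k))]
    [Smooth (X ↘ Spec (CommRingCat.of k))] (x : X) :
    IsRegularLocalRing (X.presheaf.stalk x) := by
  rw [← Groth.Agent.Lib.helper17.RegSmooth.mem_smoothLocus_iff_isRegularLocalRing_of_perfectField
    (X ↘ Spec (CommRingCat.of k)) x, Scheme.Hom.smoothLocus_eq_top]
  trivial

variable {X : Scheme.{u}} [IsIntegral X] [IsLocallyNoetherian X]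

/-- the kernel of a morphism from a reflexive coherent module to a torsion-free coherent module on
a regular integral scheme is reflexive -/
theorem isReflexive_kernel (hreg : ∀ x : X, IsRegularLocalRing (X.presheaf.stalk x))
    {M N : X.Modules} (hMc : Coh.IsCoh M) (hMr : RefHull.IsReflexive M)
    (hNc : Coh.IsCoh N) (hNtf : TorSh.IsTorsionFree N) (φ : M ⟶ N) :
    RefHull.IsReflexive (kernel φ) := by
  have hKc : Coh.IsCoh (kernel φ) := Groth.Agent.Lib.helper7.CohKer.isCoh_kernel hMc hNc φ
  have hMtf : TorSh.IsTorsionFree M :=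
    Groth.Agent.Lib.Lead.TorsPure.isTorsionFree_of_isReflexive M hMr
  let S : ShortComplex X.Modules :=
    ShortComplex.mk (kernel.ι φ) (cokernel.π (kernel.ι φ)) (cokernel.condition _)
  have hS : S.ShortExact :=
    { exact := ShortComplex.exact_cokernel (kernel.ι φ)
      mono_f := inferInstanceAs (Mono (kernel.ι φ))
      epi_g := inferInstanceAs (Epi (cokernel.π (kernel.ι φ))) }
  have hQtf : TorSh.IsTorsionFree S.X₃ := by
    let j : cokernel (kernel.ι φ) ⟶ N := Abelian.factorThruCoimage φ
    haveI : Mono j := inferInstanceAs (Mono (Abelian.factorThruCoimage φ))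
    exact Groth.Agent.Lib.Lead.TorsPure.isTorsionFree_of_mono j hNtf
  have hQc : Coh.IsCoh S.X₃ := Groth.Agent.Lib.helper7.CohKer.isCoh_cokernel hKc hMc _
  have hnorm := Groth.Agent.S16490.result X hreg S hS hKc hMc hQc hMr hQtf
  have hKtf : TorSh.IsTorsionFree (kernel φ) :=
    Groth.Agent.Lib.Lead.TorsPure.isTorsionFree_of_mono (kernel.ι φ) hMtf
  exact (Groth.Agent.S16489.result X hreg (kernel φ) hKc).2 ⟨hKtf, hnorm⟩

/-- on a regular integral scheme of dimension at most two, the kernel of a morphism from a vector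
bundle to a torsion-free coherent module is a vector bundle -/
theorem isFinLocFree_kernel (hreg : ∀ x : X, IsRegularLocalRing (X.presheaf.stalk x))
    (hdim : topologicalKrullDim X ≤ 2)
    {M N : X.Modules} (hM : FlatMod.IsFinLocFree M)
    (hNc : Coh.IsCoh N) (hNtf : TorSh.IsTorsionFree N) (φ : M ⟶ N) :
    FlatMod.IsFinLocFree (kernel φ) := by
  have hMc : Coh.IsCoh M := Groth.Agent.Lib.Lead.SerreFin.isCoh_of_isFinLocFree hM
  have hKc : Coh.IsCoh (kernel φ) := Groth.Agent.Lib.helper7.CohKer.isCoh_kernel hMc hNc φ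
  have hKr := isReflexive_kernel hreg hMc (isReflexive_of_isFinLocFree hM) hNc hNtf φ
  refine (Groth.Agent.S1689.result X hreg hdim (kernel φ) hKc).1 (fun x => ?_)
  exact (Groth.Agent.Lib.Lead.RH.isReflexive_iff_forall_isReflexiveAt (kernel φ) hKc).1 hKr x

open Groth.Agent.Lib.helper11.IsoLocus Scheme.Modules in
/-- a monomorphism of coherent modules is an isomorphism off the support of its cokernel -/
theorem compl_support_cokernel_le_isoLocus {Y : Scheme.{u}} {M N : Y.Modules} (φ : M ⟶ N) [Mono φ]
    (U : Y.Opens) (hU : ∀ p ∈ U, p ∉ CohB1.support (cokernel φ)) : U ≤ isoLocus φ := by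
  rw [le_isoLocus_iff, isIso_restrict_iff_stalk]
  intro p hp
  let S := DerSch.stalkFunctor Y p
  have h1 : IsZero (cokernel (S.map φ)) :=
    (Groth.Agent.Lib.helper11.FibLift.isZero_stalk_of_not_mem_support _ p (hU p hp)).of_iso
      (PreservesCokernel.iso S φ).symm
  have h2 : Epi (S.map φ) := Preadditive.epi_of_isZero_cokernel _ h1
  have h3 : Function.Surjective (S.map φ).hom := (ModuleCat.epi_iff_surjective _).1 h2
  have h4 : Mono (S.map φ) := inferInstance
  have h5 : Function.Injective (S.map φ).hom := (ModuleCat.mono_iff_injective _).1 h4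
  have h6 : Function.Bijective (stalkMap φ p) := ⟨h5, h3⟩
  exact (ConcreteCategory.isIso_iff_bijective _).2 h6

open Groth.Agent.Lib.helper11.IsoLocus Scheme.Modules in
/-- **Hartogs for monomorphisms of reflexive sheaves**: a monomorphism between reflexive coherent
modules on a regular integral scheme whose cokernel is supported in codimension at least two is an
isomorphism -/
theorem isIso_of_mono_of_support_cokernel (hreg : ∀ x : X, IsRegularLocalRing (X.presheaf.stalk x))
    {M N : X.Modules} (hMc : Coh.IsCoh M) (hMr : RefHull.IsReflexive M)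
    (hNc : Coh.IsCoh N) (hNr : RefHull.IsReflexive N) (φ : M ⟶ N) [Mono φ]
    (hsupp : ∀ x ∈ CohB1.support (cokernel φ),
      (2 : WithBot ℕ∞) ≤ ringKrullDim (X.presheaf.stalk x)) : IsIso φ := by
  have hQc : Coh.IsCoh (cokernel φ) := Groth.Agent.Lib.helper7.CohKer.isCoh_cokernel hMc hNc φ
  have hcl := Groth.Agent.Lib.helper8.Dev.isClosed_support_of_isCoh (cokernel φ) hQc
  let V : X.Opens := ⟨(CohB1.support (cokernel φ))ᶜ, hcl.isOpen_compl⟩
  have hV : V ≤ isoLocus φ := compl_support_cokernel_le_isoLocus φ V (fun p hp => hp)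
  have hMn := ((Groth.Agent.S16489.result X hreg M hMc).1 hMr).2
  have hNn := ((Groth.Agent.S16489.result X hreg N hNc).1 hNr).2
  rw [Hom.isIso_iff_isIso_app]
  intro U
  have hle : U ⊓ V ≤ U := inf_le_left
  have hdim : ∀ x : X, x ∈ U → x ∉ U ⊓ V →
      (2 : WithBot ℕ∞) ≤ ringKrullDim (X.presheaf.stalk x) := by
    intro x hxU hx
    apply hsupp
    by_contra hxs
    exact hx ⟨hxU, hxs⟩
  have bM := hMn U (U ⊓ V) hle hdim
  have bN := hNn U (U ⊓ V) hle hdim
  haveI : IsIso (φ.app (U ⊓ V)) := isIso_app_of_le_isoLocus φ (inf_le_right.trans hV)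
  have bφ : Function.Bijective (φ.app (U ⊓ V)).hom :=
    (ConcreteCategory.isIso_iff_bijective _).1 inferInstance
  have nat : ∀ s : Γ(M, U), N.presheaf.map (homOfLE hle).op ((φ.app U).hom s) =
      (φ.app (U ⊓ V)).hom (M.presheaf.map (homOfLE hle).op s) := by
    intro s
    have := congrArg (fun f => f.hom s) (φ.mapPresheaf.naturality (homOfLE hle).op)
    simp only [Scheme.Modules.mapPresheaf_app] at this
    exact this.symm
  apply (ConcreteCategory.isIso_iff_bijective _).2
  constructor
  · intro s s' h
    apply bM.1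
    apply bφ.1
    rw [← nat, ← nat]
    exact congrArg _ h
  · intro t
    obtain ⟨u, hu⟩ := bφ.2 (N.presheaf.map (homOfLE hle).op t)
    obtain ⟨s, rfl⟩ := bM.2 u
    refine ⟨s, ?_⟩
    apply bN.1
    rw [nat]
    exact hu

end Groth.Agent.Lib.Helper20.SurfKernel
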