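import Groth.Agent.Lib.Helper20.PushClProj

/-!
# The twisting functors `F ↦ F(d)` on `P^n_Y` are exact (helper20)
-/

set_option autoImplicit false
universe u

open CategoryTheory CategoryTheory.Limits AlgebraicGeometry MonoidalCategory

namespace Groth.Agent.Lib.Helper20.TwFun

open Groth.Agent.Lib.Lead.ModTensor Groth.Agent.Lib.Helper20.TensorEquiv

noncomputable section

variable {X : Scheme.{u}}

/-- left tensoring is naturally isomorphic to right tensoring -/
def leftRightIso (E : X.Modules) : (DCoh.tensorBi (X := X)).obj E ≅ tensorRight E :=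
  NatIso.ofComponents (fun M => braid E M) (by
    intro M M' f
    show (L X).map (CohB1.toPMod E ◁ (V X).map f) ≫ (L X).map (β_ _ _).hom =
      (L X).map (β_ _ _).hom ≫ (L X).map ((V X).map f ⊗ₘ (V X).map (𝟙 E))
    rw [← Functor.map_comp, ← Functor.map_comp]
    congr 1
    rw [(V X).map_id]
    have h1 : ((V X).map f ⊗ₘ 𝟙 ((V X).obj E)) = (V X).map f ▷ CohB1.toPMod E :=
      MonoidalCategory.tensorHom_id _ _
    rw [h1]
    exact BraidedCategory.braiding_naturality_right _ _)

/-- `E ⊗ −` is exact for `E` finite locally free -/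
theorem shortExact_map_tensorLeft {E : X.Modules} (hE : FlatMod.IsFinLocFree E)
    (S : ShortComplex X.Modules) (hS : S.ShortExact) :
    (S.map ((DCoh.tensorBi (X := X)).obj E)).ShortExact := by
  haveI := Groth.Agent.Lib.helper11.ProjFormula.preservesFiniteLimits_tensorRight hE
  haveI : PreservesFiniteColimits (tensorRight E) :=
    Groth.Agent.Lib.helper12.TensorCocont.preservesFiniteColimits_tensorRight E
  haveI : PreservesFiniteLimits ((DCoh.tensorBi (X := X)).obj E) :=
    preservesFiniteLimits_of_natIso (leftRightIso E).symm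
  haveI : PreservesFiniteColimits ((DCoh.tensorBi (X := X)).obj E) :=
    preservesFiniteColimits_of_natIso (leftRightIso E).symm
  exact hS.map_of_exact _

end

end Groth.Agent.Lib.Helper20.TwFun
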