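import Groth.Agent.Lib.Helper20.DualProjCM
import Groth.Agent.Lib.Helper20.EquidimClosedPt
import Groth.Agent.Lib.Helper20.SheafHomExt
import Groth.Agent.Lib.Helper20.TwFun
import Groth.Agent.Lib.Helper21.TensorMon
import Groth.Agent.Lib.Lead.ProperFin2

/-!
# Numerical Serre duality on a Cohen–Macaulay projective scheme with a dualizing pair (helper20)

`X ⊆ P^N_k` closed, integral of dimension `n`, all local rings Cohen–Macaulay, `(ω, t)` a dualizing
pair (no hypothesis on the field `k`).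

* `finrank_HH_eq`: `dim H^i(X, F) = dim H^{n-i}(X, ℋom(F, ω))` for `F` finite locally free, `i ≤ n`.
* `sheafHomIso`: for `e : L' ⊗ L ≅ O`, `ℋom(L', -) ≅ - ⊗ L` (uniqueness of right adjoints).
* `finrank_HH_inverse`: `dim H^i(X, L') = dim H^{n-i}(X, ω ⊗ L)` for `L' ⊗ L ≅ O`.
* `finrank_HH_unit`: `dim H^i(X, O) = dim H^{n-i}(X, ω)`.
-/

set_option autoImplicit false
universe u
open CategoryTheory CategoryTheory.Limits AlgebraicGeometry
attribute [local instance] HasDerivedCategory.standard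

namespace Groth.Agent.Lib.Helper20.SurfRR

open Groth.Agent.Lib.Helper20.TensorEquiv Groth.Agent.Lib.Helper20.TwFun

section Adj

variable {X : Scheme.{u}}

/-- for `e : L' ⊗ L ≅ O`, the sheaf Hom functor `ℋom(L', -)` is `- ⊗ L` -/
noncomputable def sheafHomIso {L L' : X.Modules} (e : CohB1.tensorMod L' L ≅ Coh.structureModule X)
    [DCoh.HasSheafHom L'] : DCoh.sheafHom L' ≅ tensorRight L :=
  (DCoh.sheafHomAdj L').rightAdjointUniq
    (Adjunction.ofNatIsoLeft (tensorEquiv e).toAdjunction (leftRightIso L').symm)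

end Adj

section Dual

variable (k : Type u) [Field k] (N n : ℕ) (X : Scheme.{u}) [X.Over (Spec (CommRingCat.of k))]
  (ι : X ⟶ CohB1.ProjSpace N k) [IsClosedImmersion ι]
  (hι : ι ≫ CohB1.ProjSpace.toSpec N k = X ↘ Spec (CommRingCat.of k))
  [IsIntegral X] (hn : topologicalKrullDim ↥X = n)
  (hCM : ∀ x : X, LocCoh.IsCohenMacaulayLocalRing (X.presheaf.stalk x))
  (ω : X.Modules) (hω : Coh.IsCoh ω) (t : Coh.HH X ω n →ₗ[k] k)
  (hdual : ∀ F : X.Modules, Coh.IsCoh F → ∀ ψ : Coh.HH X F n →ₗ[k] k,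
      ∃! φ : F ⟶ ω, ∀ x : Coh.HH X F n,
        ψ x = t (Sheaf.H.map ((SheafOfModules.toSheaf X.ringCatSheaf).map φ) n x))

include hι hn hCM hω hdual in
theorem nonempty_dual_equiv (F : X.Modules) (hF : FlatMod.IsFinLocFree F) [DCoh.HasSheafHom F]
    (i : ℕ) (hi : i ≤ n) :
    Nonempty (Module.Dual k (Coh.HH X F i) ≃ₗ[k] Coh.HH X ((DCoh.sheafHom F).obj ω) (n - i)) := by
  have hgood : ∀ G : X.Modules, Coh.IsCoh G → Groth.Agent.Lib.Helper20.DualDev.Good k t G :=
    fun G hG => (Groth.Agent.Lib.Helper20.DualDev.good_iff k t G).mpr (hdual G hG)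
  have heq : ∀ Z : Set ↥X, Z ∈ irreducibleComponents ↥X →
      topologicalKrullDim ↥Z = (n : WithBot ℕ∞) := by
    intro Z hZ
    rw [irreducibleComponents_eq_singleton, Set.mem_singleton_iff] at hZ
    subst hZ
    rw [← hn]
    exact IsHomeomorph.topologicalKrullDim_eq _ (Homeomorph.Set.univ ↥X).isHomeomorph
  have hCM' : ∀ x : X, IsClosed ({x} : Set ↥X) →
      LocCoh.IsCohenMacaulayLocalRing (X.presheaf.stalk x) ∧ ringKrullDim (X.presheaf.stalk x) = n :=
    fun x hx => ⟨hCM x, Groth.Agent.Lib.Helper20.EquidimClosedPt.ringKrullDim_stalk_of_isClosed_of_closedImmersion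
      k N X ι hι n heq x hx⟩
  have hP : IsLocallyNoetherian (CohB1.ProjSpace N k) :=
    Groth.Agent.Lib.Lead.SerreFin.isLocallyNoetherian_projSpace N k
  have hX : IsLocallyNoetherian X := LocallyOfFiniteType.isLocallyNoetherian ι
  have hExtX : HasExt.{u} X.Modules := Groth.Agent.Lib.Helper20.LargeTwist.hasExt_modules X
  have hFc : Coh.IsCoh F := Groth.Agent.Lib.Lead.SerreFin.isCoh_of_isFinLocFree hF
  obtain ⟨e1⟩ := (Groth.Agent.Lib.Helper20.DualProjCM.cm_ext_dual k N ι hι n hn hCM' ω hω t hgood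
      F hFc (n - i)).1 (by omega)
  obtain ⟨e2⟩ := Groth.Agent.Lib.Helper20.SheafHomExt.ext_linearEquiv k F hF ω (n - i)
  have hidx : n - (n - i) = i := by omega
  rw [hidx] at e1
  exact ⟨e1.symm.trans e2⟩

end Dual

section FinrankIso

variable (k : Type u) [Field k] {X : Scheme.{u}} [X.Over (Spec (CommRingCat.of k))]

theorem finrank_HH_eq_of_iso {F G : X.Modules} (e : F ≅ G) (i : ℕ) :
    Module.finrank k (Coh.HH X F i) = Module.finrank k (Coh.HH X G i) :=
  LinearEquiv.finrank_eq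
    { Groth.Agent.Lib.Helper18.HH.mapOver k e.hom i with
      invFun := Groth.Agent.Lib.Helper18.HH.mapOver k e.inv i
      left_inv := fun x => by
        change Groth.Agent.Lib.Helper18.HH.map e.inv i (Groth.Agent.Lib.Helper18.HH.map e.hom i x) = x
        rw [← Groth.Agent.Lib.Helper18.HH.map_comp_apply, e.hom_inv_id,
          Groth.Agent.Lib.Helper18.HH.map_id]
        rfl
      right_inv := fun x => by
        change Groth.Agent.Lib.Helper18.HH.map e.hom i (Groth.Agent.Lib.Helper18.HH.map e.inv i x) = x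
        rw [← Groth.Agent.Lib.Helper18.HH.map_comp_apply, e.inv_hom_id,
          Groth.Agent.Lib.Helper18.HH.map_id]
        rfl }

end FinrankIso

section Num

variable (k : Type u) [Field k] (N n : ℕ) (X : Scheme.{u}) [X.Over (Spec (CommRingCat.of k))]
  (ι : X ⟶ CohB1.ProjSpace N k) [IsClosedImmersion ι]
  (hι : ι ≫ CohB1.ProjSpace.toSpec N k = X ↘ Spec (CommRingCat.of k))
  [IsIntegral X] (hn : topologicalKrullDim ↥X = n)
  (hCM : ∀ x : X, LocCoh.IsCohenMacaulayLocalRing (X.presheaf.stalk x))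
  (ω : X.Modules) (hω : Coh.IsCoh ω) (t : Coh.HH X ω n →ₗ[k] k)
  (hdual : ∀ F : X.Modules, Coh.IsCoh F → ∀ ψ : Coh.HH X F n →ₗ[k] k,
      ∃! φ : F ⟶ ω, ∀ x : Coh.HH X F n,
        ψ x = t (Sheaf.H.map ((SheafOfModules.toSheaf X.ringCatSheaf).map φ) n x))

include hι hn hCM hω hdual in
/-- `dim H^i(X, L') = dim H^{n-i}(X, ω ⊗ L)` for `L' ⊗ L ≅ O` -/
theorem finrank_HH_inverse {L L' : X.Modules} (e : CohB1.tensorMod L' L ≅ Coh.structureModule X)
    (hL' : FlatMod.IsFinLocFree L') (i : ℕ) (hi : i ≤ n) :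
    Module.finrank k (Coh.HH X L' i) =
      Module.finrank k (Coh.HH X (CohB1.tensorMod ω L) (n - i)) := by
  haveI : DCoh.HasSheafHom L' := Groth.Agent.Lib.Helper21.TensorMon.isLeftAdjoint_tensL X.sheaf L'
  obtain ⟨e1⟩ := nonempty_dual_equiv k N n X ι hι hn hCM ω hω t hdual L' hL' i hi
  rw [← Subspace.dual_finrank_eq, e1.finrank_eq]
  exact finrank_HH_eq_of_iso k ((sheafHomIso e).app ω) (n - i)

end Num

end Groth.Agent.Lib.Helper20.SurfRR
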