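import Groth.Agent.Lib.Helper20.SurfRR1
import Groth.Agent.Lib.Lead.BddInt
import Groth.Agent.Lib.Helper7.SnapperSplit
import Groth.Agent.Lib.Helper11.AmpleInv
import Groth.Agent.Lib.Helper16.FLF5

/-!
# Riemann–Roch on a Cohen–Macaulay projective surface with an invertible dualizing sheaf (helper20)

`rr`: `X ⊆ P^N_k` closed, integral of dimension two with Cohen–Macaulay local rings, `(ω, t)` a
dualizing pair with `ω` invertible, `L` invertible: `2 χ(L) = (L·L) − (L·ω) + 2 χ(O_X)`.
-/

set_option autoImplicit false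
universe u
open CategoryTheory CategoryTheory.Limits AlgebraicGeometry Polynomial

namespace Groth.Agent.Lib.Helper20.SurfRR

open Groth.Agent.Lib.Helper14.PicCls Groth.Agent.Lib.Lead.BddInt

theorem third_diff (p : ℚ[X]) (hp : p.natDegree ≤ 2) :
    p.eval 2 - 3 * p.eval 1 + 3 * p.eval 0 - p.eval (-1) = 0 := by
  have h3 : p.natDegree < 3 := by omega
  rw [eval_eq_sum_range' h3 2, eval_eq_sum_range' h3 1, eval_eq_sum_range' h3 0,
    eval_eq_sum_range' h3 (-1)]
  simp only [Finset.sum_range_succ, Finset.sum_range_zero]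
  ring

section IntNum

variable (k : Type u) [Field k] (X : Scheme.{u}) [X.Over (Spec (CommRingCat.of k))]

theorem intNum_two (d : ℕ) (A B F : X.Modules) :
    FGA.intNum k X d ![A, B] F =
      FGA.eulerCharLE k X (CohB1.tensorMod (Coh.structureModule X) F) d
      - FGA.eulerCharLE k X (CohB1.tensorMod (CohB1.tensorMod A (Coh.structureModule X)) F) d
      - FGA.eulerCharLE k X (CohB1.tensorMod (CohB1.tensorMod B (Coh.structureModule X)) F) d
      + FGA.eulerCharLE k X (CohB1.tensorMod
          (CohB1.tensorMod A (CohB1.tensorMod B (Coh.structureModule X))) F) d := by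
  unfold FGA.intNum
  have hu : (Finset.univ : Finset (Finset (Fin 2))) = {∅, {0}, {1}, {0, 1}} := by decide
  rw [hu]
  have s0 : (∅ : Finset (Fin 2)).sort (· ≤ ·) = [] := Finset.sort_empty _
  have s1 : ({0} : Finset (Fin 2)).sort (· ≤ ·) = [0] := Finset.sort_singleton _ _
  have s2 : ({1} : Finset (Fin 2)).sort (· ≤ ·) = [1] := Finset.sort_singleton _ _
  have s3 : ({0, 1} : Finset (Fin 2)).sort (· ≤ ·) = [0, 1] := by
    have h := Finset.sort_insert (r := fun x1 x2 : Fin 2 => x1 ≤ x2) (s := {1}) (a := 0)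
      (by decide) (by decide)
    rw [s2] at h
    exact h
  rw [Finset.sum_insert (by decide), Finset.sum_insert (by decide), Finset.sum_insert (by decide),
    Finset.sum_singleton, s0, s1, s2, s3]
  simp only [List.map_nil, List.map_cons, FGA.tensorList, Finset.card_empty, Finset.card_singleton,
    Matrix.cons_val_zero, Matrix.cons_val_one]
  have hc : ({0, 1} : Finset (Fin 2)).card = 2 := by decide
  rw [hc]
  ring

end IntNum

section Chi

variable (k : Type u) [Field k] (X : Scheme.{u}) [X.Over (Spec (CommRingCat.of k))]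

/-- the Euler characteristic on isomorphism classes -/
noncomputable def chiCls : Cls X → ℤ :=
  Quotient.lift (fun M : X.Modules => Curv2.euler k X M)
    (fun _ _ h => by
      obtain ⟨e⟩ := h
      exact Groth.Agent.Lib.Lead.CurveEuler.euler_eq_of_iso k X e)

theorem chiCls_cls (M : X.Modules) : chiCls k X (cls M) = Curv2.euler k X M := rfl

end Chi

section Main

variable (k : Type u) [Field k] (N : ℕ) (X : Scheme.{u}) [X.Over (Spec (CommRingCat.of k))]
  (ι : X ⟶ CohB1.ProjSpace N k) [IsClosedImmersion ι]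
  (hι : ι ≫ CohB1.ProjSpace.toSpec N k = X ↘ Spec (CommRingCat.of k))
  [IsIntegral X] (hn : topologicalKrullDim ↥X = 2)
  (hCM : ∀ x : X, LocCoh.IsCohenMacaulayLocalRing (X.presheaf.stalk x))
  (ω : X.Modules) (hω : Coh.IsCoh ω) (t : Coh.HH X ω 2 →ₗ[k] k)
  (hdual : ∀ F : X.Modules, Coh.IsCoh F → ∀ ψ : Coh.HH X F 2 →ₗ[k] k,
      ∃! φ : F ⟶ ω, ∀ x : Coh.HH X F 2,
        ψ x = t (Sheaf.H.map ((SheafOfModules.toSheaf X.ringCatSheaf).map φ) 2 x))

include hι hn hCM hω hdual in
/-- numerical duality for Euler characteristics: `χ(L') = χ(ω ⊗ L)` for `L' ⊗ L ≅ O` -/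
theorem eulerCharLE_inverse {L L' : X.Modules} (e : CohB1.tensorMod L' L ≅ Coh.structureModule X)
    (hL' : FlatMod.IsFinLocFree L') :
    FGA.eulerCharLE k X L' 2 = FGA.eulerCharLE k X (CohB1.tensorMod ω L) 2 := by
  have hn' : topologicalKrullDim ↥X = ((2 : ℕ) : WithBot ℕ∞) := hn
  have h0 := finrank_HH_inverse k N 2 X ι hι hn' hCM ω hω t hdual e hL' 0 (by omega)
  have h1 := finrank_HH_inverse k N 2 X ι hι hn' hCM ω hω t hdual e hL' 1 (by omega)
  have h2 := finrank_HH_inverse k N 2 X ι hι hn' hCM ω hω t hdual e hL' 2 (by omega)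
  unfold FGA.eulerCharLE
  simp only [Finset.sum_range_succ, Finset.sum_range_zero]
  rw [h0, h1, h2]
  norm_num
  ring

include hι hn hCM hω hdual in
/-- **Riemann–Roch on a Cohen–Macaulay projective surface with invertible dualizing sheaf** -/
theorem rr (L : X.Modules) (hL : PicF.IsInvertible L) :
    2 * Curv2.euler k X L =
      FGA.intNum k X 2 ![L, L] (Coh.structureModule X) -
        FGA.intNum k X 2 ![L, ω] (Coh.structureModule X) +
          2 * Curv2.euler k X (Coh.structureModule X) := by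
  haveI : IsProper (X ↘ Spec (CommRingCat.of k)) := by
    rw [← hι]
    infer_instance
  have hd : topologicalKrullDim ↥X ≤ ((2 : ℕ) : WithBot ℕ∞) := le_of_eq hn
  obtain ⟨L', hL'inv, ⟨e⟩, ⟨e'⟩⟩ := Groth.Agent.Lib.helper12.InvDual.exists_inverse hL
  have hE : ∀ G : X.Modules, FGA.eulerCharLE k X G 2 = Curv2.euler k X G :=
    Groth.Agent.Lib.helper7.SnapperSplit.eulerCharLE_eq k X 2 hd
  have hL'f : FlatMod.IsFinLocFree L' :=
    Groth.Agent.Lib.helper16.FLF.isFinLocFree_of_isInvertible hL'inv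
  -- duality
  have hD1 : chiCls k X (cls L') = chiCls k X (cls ω * cls L) := by
    rw [← cls_tensor, chiCls_cls, chiCls_cls, ← hE, ← hE]
    exact eulerCharLE_inverse k N X ι hι hn hCM ω hω t hdual e' hL'f
  have hD2 : chiCls k X 1 = chiCls k X (cls ω) := by
    have hO : FlatMod.IsFinLocFree (Coh.structureModule X) :=
      Groth.Agent.Lib.helper16.FLF.isFinLocFree_of_isInvertible
        (Groth.Agent.Lib.helper12.TensorInvLocal.isInvertible_of_tensor_iso _ _
          (Groth.Agent.Lib.Lead.ModTensor.rightUnitor (Coh.structureModule X)))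
    have h := eulerCharLE_inverse k N X ι hι hn hCM ω hω t hdual
      (Groth.Agent.Lib.Lead.ModTensor.rightUnitor (Coh.structureModule X)) hO
    rw [hE, hE] at h
    have h' : chiCls k X (cls (Coh.structureModule X)) =
        chiCls k X (cls ω * cls (Coh.structureModule X)) := h
    rw [cls_unit, mul_one] at h'
    exact h'
  -- Snapper polynomial
  set u : (Cls X)ˣ := unitOfIso e with hu
  obtain ⟨p, hp, hpe⟩ := exists_poly_int_le k X (zfamOfUnit u) (Coh.structureModule X)
    (Groth.Agent.Lib.helper11.AmpleInv.isCoh_structureModule X) 2 hd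
  have hval : ∀ m : ℤ, (chiCls k X (((u ^ m : (Cls X)ˣ) : Cls X)) : ℚ) = p.eval (m : ℚ) := by
    intro m
    rw [← hpe m, ← chiCls_cls, cls_tensor, cls_unit, one_mul, cls_zfamOfUnit]
  have h2 := hval 2
  have h1 := hval 1
  have h0 := hval 0
  have hm := hval (-1)
  have e2 : (((u ^ (2 : ℤ) : (Cls X)ˣ)) : Cls X) = cls L * cls L := by
    rw [zpow_two, Units.val_mul]
    rfl
  have e1 : (((u ^ (1 : ℤ) : (Cls X)ˣ)) : Cls X) = cls L := by
    rw [zpow_one]
    rfl
  have e0 : (((u ^ (0 : ℤ) : (Cls X)ˣ)) : Cls X) = 1 := by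
    rw [zpow_zero]
    rfl
  have em : (((u ^ (-1 : ℤ) : (Cls X)ˣ)) : Cls X) = cls L' := by
    rw [zpow_neg_one]
    rfl
  rw [e2] at h2
  rw [e1] at h1
  rw [e0] at h0
  rw [em] at hm
  have h3 := third_diff p hp
  -- intersection numbers
  rw [intNum_two, intNum_two]
  simp only [hE]
  simp only [← chiCls_cls, cls_tensor, cls_unit, mul_one, one_mul]
  rw [mul_comm (cls ω) (cls L)] at hD1
  have key : (chiCls k X (cls L * cls L) : ℚ) - 3 * chiCls k X (cls L) + 3 * chiCls k X 1
      - chiCls k X (cls L') = 0 := by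
    rw [h2, h1, h0, hm]
    simpa using h3
  have key' : chiCls k X (cls L * cls L) - 3 * chiCls k X (cls L) + 3 * chiCls k X 1
      - chiCls k X (cls L') = 0 := by exact_mod_cast key
  rw [hD1] at key'
  rw [← hD2]
  linarith

end Main

end Groth.Agent.Lib.Helper20.SurfRR
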