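import Groth.Agent.Lib.Helper20.KPr
import Groth.Agent.Lib.Helper25.PullTensorIso

/-!
# The swap `P^n_{P^m_Y} ≅ P^m_{P^n_Y}` (helper20)

* `swap n m Y`, `swap_pr`, `swap_q1`, `swap_projSpaceMap`, `swap_swap`.
* `sec n g : X ⟶ P^n_X` the section given by `g : X ⟶ P^n_ℤ`; `emb_swap`.
* `pushIsoPull`: for mutually inverse `σ`, `τ`: `σ_* ≅ τ^*`.
* `genIso`: `σ_*(O(a) ⊗ q^*E) ≅ ψ'^*E ⊗ q'^*O(a)`.
-/

set_option autoImplicit false
universe v u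

open CategoryTheory CategoryTheory.Limits AlgebraicGeometry Opposite TopologicalSpace

namespace Groth.Agent.Lib.Helper20.SwapPP

open Groth.Agent.Lib.Helper20.KosPY Groth.Agent.Lib.Helper20.FibreReg
  Groth.Agent.Lib.Lead.ModTensor

noncomputable section

section Swap

variable (n m : ℕ) (Y : Scheme.{u})

/-- the swap `P^n_{P^m_Y} ⟶ P^m_{P^n_Y}` -/
def swap : KRR.PY n (KRR.PY m Y) ⟶ KRR.PY m (KRR.PY n Y) :=
  pullback.lift (KRR.pr n (KRR.PY m Y) ≫ q1 m Y) (KRR.projSpaceMap n (KRR.pr m Y))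
    (specULiftZIsTerminal.hom_ext _ _)

theorem swap_pr : swap n m Y ≫ KRR.pr m (KRR.PY n Y) = KRR.projSpaceMap n (KRR.pr m Y) :=
  pullback.lift_snd _ _ _

theorem swap_q1 : swap n m Y ≫ q1 m (KRR.PY n Y) = KRR.pr n (KRR.PY m Y) ≫ q1 m Y :=
  pullback.lift_fst _ _ _

theorem swap_projSpaceMap :
    swap n m Y ≫ KRR.projSpaceMap m (KRR.pr n Y) = KRR.pr n (KRR.PY m Y) := by
  refine pullback.hom_ext ?_ ?_
  · have h1 : KRR.projSpaceMap m (KRR.pr n Y) ≫ q1 m Y = q1 m (KRR.PY n Y) :=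
      projSpaceMap_fst m (KRR.pr n Y)
    show (swap n m Y ≫ KRR.projSpaceMap m (KRR.pr n Y)) ≫ q1 m Y = KRR.pr n (KRR.PY m Y) ≫ q1 m Y
    rw [Category.assoc, h1, swap_q1]
  · show (swap n m Y ≫ KRR.projSpaceMap m (KRR.pr n Y)) ≫ KRR.pr m Y =
      KRR.pr n (KRR.PY m Y) ≫ KRR.pr m Y
    rw [Category.assoc, projSpaceMap_pr, ← Category.assoc, swap_pr, projSpaceMap_pr]

theorem swap_swap : swap n m Y ≫ swap m n Y = 𝟙 _ := by
  refine pullback.hom_ext ?_ ?_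
  · show (swap n m Y ≫ swap m n Y) ≫ q1 n (KRR.PY m Y) = 𝟙 _ ≫ q1 n (KRR.PY m Y)
    rw [Category.assoc, swap_q1, ← Category.assoc, swap_pr, Category.id_comp]
    exact projSpaceMap_fst n (KRR.pr m Y)
  · show (swap n m Y ≫ swap m n Y) ≫ KRR.pr n (KRR.PY m Y) = 𝟙 _ ≫ KRR.pr n (KRR.PY m Y)
    rw [Category.assoc, swap_pr, swap_projSpaceMap, Category.id_comp]

instance : IsIso (swap n m Y) :=
  ⟨swap m n Y, swap_swap n m Y, swap_swap m n Y⟩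

end Swap

section Sec

variable (n : ℕ) {X : Scheme.{u}} (g : X ⟶ CohB1.ProjSpace n (ULift.{u} ℤ))

/-- the section of `P^n_X ⟶ X` given by `g : X ⟶ P^n_ℤ` -/
def sec : X ⟶ KRR.PY n X :=
  pullback.lift g (𝟙 X) (specULiftZIsTerminal.hom_ext _ _)

theorem sec_pr : sec n g ≫ KRR.pr n X = 𝟙 X := pullback.lift_snd _ _ _

theorem sec_q1 : sec n g ≫ q1 n X = g := pullback.lift_fst _ _ _

end Sec

section Emb

variable {n m : ℕ} {X Y : Scheme.{u}} (i₁ : X ⟶ KRR.PY n Y) (i₂ : X ⟶ KRR.PY m Y)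
  (h : i₁ ≫ KRR.pr n Y = i₂ ≫ KRR.pr m Y)

/-- the diagonal embedding `X ⟶ P^n_{P^m_Y}` -/
def emb : X ⟶ KRR.PY n (KRR.PY m Y) := sec n (i₁ ≫ q1 n Y) ≫ KRR.projSpaceMap n i₂

theorem emb_pr : emb i₁ i₂ ≫ KRR.pr n (KRR.PY m Y) = i₂ := by
  unfold emb
  rw [Category.assoc, projSpaceMap_pr, ← Category.assoc, sec_pr, Category.id_comp]

theorem emb_q1 : emb i₁ i₂ ≫ q1 n (KRR.PY m Y) = i₁ ≫ q1 n Y := by
  unfold emb
  have h1 : KRR.projSpaceMap n i₂ ≫ q1 n (KRR.PY m Y) = q1 n X := projSpaceMap_fst n i₂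
  rw [Category.assoc, h1, sec_q1]

include h in
theorem emb_projSpaceMap : emb i₁ i₂ ≫ KRR.projSpaceMap n (KRR.pr m Y) = i₁ := by
  refine pullback.hom_ext ?_ ?_
  · have h1 : KRR.projSpaceMap n (KRR.pr m Y) ≫ q1 n Y = q1 n (KRR.PY m Y) :=
      projSpaceMap_fst n (KRR.pr m Y)
    show (emb i₁ i₂ ≫ KRR.projSpaceMap n (KRR.pr m Y)) ≫ q1 n Y = i₁ ≫ q1 n Y
    rw [Category.assoc, h1, emb_q1]
  · show (emb i₁ i₂ ≫ KRR.projSpaceMap n (KRR.pr m Y)) ≫ KRR.pr n Y = i₁ ≫ KRR.pr n Y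
    rw [Category.assoc, projSpaceMap_pr, ← Category.assoc, emb_pr, h]

include h in
theorem emb_swap : emb i₁ i₂ ≫ swap n m Y = emb i₂ i₁ := by
  refine pullback.hom_ext ?_ ?_
  · show (emb i₁ i₂ ≫ swap n m Y) ≫ q1 m (KRR.PY n Y) = emb i₂ i₁ ≫ q1 m (KRR.PY n Y)
    rw [Category.assoc, swap_q1, ← Category.assoc, emb_pr, emb_q1]
  · show (emb i₁ i₂ ≫ swap n m Y) ≫ KRR.pr m (KRR.PY n Y) = emb i₂ i₁ ≫ KRR.pr m (KRR.PY n Y)
    rw [Category.assoc, swap_pr, emb_projSpaceMap i₁ i₂ h, emb_pr]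

end Emb

section PushPull

variable {A B : Scheme.{u}} (σ : A ⟶ B) (τ : B ⟶ A) (h1 : σ ≫ τ = 𝟙 A) (h2 : τ ≫ σ = 𝟙 B)

/-- `σ_*` is an equivalence with inverse `τ_*` -/
def pushEquiv : A.Modules ≌ B.Modules :=
  CategoryTheory.Equivalence.mk (Scheme.Modules.pushforward σ) (Scheme.Modules.pushforward τ)
    ((Scheme.Modules.pushforwardId A).symm ≪≫ (Scheme.Modules.pushforwardCongr h1).symm ≪≫
      (Scheme.Modules.pushforwardComp σ τ).symm)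
    (Scheme.Modules.pushforwardComp τ σ ≪≫ Scheme.Modules.pushforwardCongr h2 ≪≫
      Scheme.Modules.pushforwardId B)

/-- `σ_* ≅ τ^*` -/
def pushIsoPull : Scheme.Modules.pushforward σ ≅ Scheme.Modules.pullback τ :=
  ((pushEquiv σ τ h1 h2).toAdjunction).leftAdjointUniq
    (Scheme.Modules.pullbackPushforwardAdjunction τ)

end PushPull

section Gen

variable (n m : ℕ) (Y : Scheme.{u})

/-- `σ_*(O(a) ⊗ q^*E) ≅ ψ'^*E ⊗ q'^*O(a)` -/
def genIso (E : (KRR.PY m Y).Modules) (a : ℤ) :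
    (Scheme.Modules.pushforward (swap n m Y)).obj
        (KRR.twF n (KRR.PY m Y) a ((Scheme.Modules.pullback (KRR.pr n (KRR.PY m Y))).obj E)) ≅
      CohB1.tensorMod ((Scheme.Modules.pullback (KRR.projSpaceMap m (KRR.pr n Y))).obj E)
        ((Scheme.Modules.pullback (KRR.pr m (KRR.PY n Y))).obj (Twist.twistOver n Y a)) :=
  (pushIsoPull (swap n m Y) (swap m n Y) (swap_swap n m Y) (swap_swap m n Y)).app _ ≪≫
    Groth.Agent.Lib.Helper25.PullTensorIso.pullTensorIso (swap m n Y) _ _ ≪≫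
    tensorIso
      ((Scheme.Modules.pullbackComp (swap m n Y) (q1 n (KRR.PY m Y))).app _ ≪≫
        (Scheme.Modules.pullbackCongr (swap_q1 m n Y)).app _ ≪≫
        ((Scheme.Modules.pullbackComp (KRR.pr m (KRR.PY n Y)) (q1 n Y)).app _).symm)
      ((Scheme.Modules.pullbackComp (swap m n Y) (KRR.pr n (KRR.PY m Y))).app E ≪≫
        (Scheme.Modules.pullbackCongr (swap_pr m n Y)).app E) ≪≫
    braid _ _

end Gen

end

end Groth.Agent.Lib.Helper20.SwapPP
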