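import Mathlib

/-!
# A regular element in the maximal ideal of a reduced Noetherian local ring of positive dimension
(helper20)

* `exists_regular_mem_maximalIdeal`: a reduced Noetherian local ring with a prime ideal different
  from the maximal ideal has a regular element in its maximal ideal.
* `eq_zero_of_maximalIdeal_smul_eq_zero`: in a torsion-free module over such a ring no nonzero
  element is killed by the maximal ideal.
-/

set_option autoImplicit false

namespace Groth.Agent.Lib.Helper20.TFCurveAlg

open scoped nonZeroDivisors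

variable {R : Type*} [CommRing R] [IsNoetherianRing R] [IsReduced R] [IsLocalRing R]

theorem exists_regular_mem_maximalIdeal (q : Ideal R) [hqp : q.IsPrime]
    (hq : q ≠ IsLocalRing.maximalIdeal R) :
    ∃ a ∈ IsLocalRing.maximalIdeal R, IsRegular a := by
  classical
  have hfin : (minimalPrimes R).Finite := minimalPrimes.finite_of_isNoetherianRing R
  by_contra hcon
  push_neg at hcon
  have hsub : ((IsLocalRing.maximalIdeal R : Ideal R) : Set R) ⊆
      ⋃ p ∈ (hfin.toFinset : Set (Ideal R)), ((id p : Ideal R) : Set R) := by
    intro a ha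
    have hna : a ∉ R⁰ := fun h => hcon a ha (isRegular_iff_mem_nonZeroDivisors.2 h)
    rw [mem_nonZeroDivisors_iff_right] at hna
    push_neg at hna
    obtain ⟨b, hba, hb0⟩ := hna
    have hb : b ∉ sInf (minimalPrimes R) := by
      have h1 : sInf (minimalPrimes R) = (⊥ : Ideal R).radical := Ideal.sInf_minimalPrimes
      rw [h1]
      intro hb
      have h2 : (⊥ : Ideal R).radical = ⊥ := by
        have := nilradical_eq_zero R
        rw [nilradical] at this
        exact this
      rw [h2] at hb
      exact hb0 (by simpa using hb)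
    rw [Ideal.mem_sInf] at hb
    push_neg at hb
    obtain ⟨p, hp, hbp⟩ := hb
    have hpp : p.IsPrime := hp.1.1
    have : b * a ∈ p := by rw [hba]; exact p.zero_mem
    rcases hpp.mem_or_mem this with h | h
    · exact absurd h hbp
    · refine Set.mem_biUnion (x := p) ?_ h
      simpa using hp
  rw [Ideal.subset_union_prime (⊥ : Ideal R) (⊥ : Ideal R)] at hsub
  · obtain ⟨p, hp, hmp⟩ := hsub
    have hp' : p ∈ minimalPrimes R := by simpa using hp
    have hpp : p.IsPrime := hp'.1.1
    have hpm : p = IsLocalRing.maximalIdeal R :=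
      le_antisymm (IsLocalRing.le_maximalIdeal hpp.ne_top) hmp
    have hqle : q ≤ p := hpm ▸ IsLocalRing.le_maximalIdeal hqp.ne_top
    have hpq : p ≤ q := hp'.2 ⟨hqp, bot_le⟩ hqle
    exact hq ((le_antisymm hqle hpq).trans hpm)
  · intro p hp _ _
    have hp' : p ∈ minimalPrimes R := by simpa using hp
    exact hp'.1.1

theorem eq_zero_of_maximalIdeal_smul_eq_zero {M : Type*} [AddCommGroup M] [Module R M]
    [Module.IsTorsionFree R M] (q : Ideal R) [q.IsPrime]
    (hq : q ≠ IsLocalRing.maximalIdeal R) (m : M)
    (hm : ∀ a ∈ IsLocalRing.maximalIdeal R, a • m = 0) : m = 0 := by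
  obtain ⟨a, ha, hreg⟩ := exists_regular_mem_maximalIdeal q hq
  have h1 : IsSMulRegular M a := Module.IsTorsionFree.isSMulRegular hreg
  apply h1
  change a • m = a • (0 : M)
  rw [smul_zero]
  exact hm a ha

end Groth.Agent.Lib.Helper20.TFCurveAlg
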