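import Mathlib
import Groth.Agent.Lib.Helper20.TFCurveAlg
import Groth.Agent.Lib.Helper20.DecShMult
import Groth.Agent.Lib.Lead.TorsPure
import Groth.Agent.Lib.Helper16.IrrDec1
import Groth.Agent.Lib.Lead.CurveEuler

/-!
# Torsion-free sheaves on a reduced curve without isolated points (helper20)

* `exists_prime_ne_maximalIdeal`: the local ring of a closed non-open point of a locally
  Noetherian scheme has a non-maximal prime.
* `not_isAssPoint_of_isTorsionFree`: a torsion-free module on a reduced locally Noetherian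
  scheme has no closed non-open associated point.
* `dim_support_eq_one`: on a reduced locally Noetherian scheme of dimension one without isolated
  points, a nonzero coherent torsion-free module has support of dimension one.
* `one_le_mult`: its multiplicity `α(F) = χ(F ⊗ L) − χ(F)` is at least one (`L` ample, `X` proper
  over a field).
* `mult_add`, `mult_le_of_mono`: additivity and monotonicity of the multiplicity.
-/

set_option autoImplicit false
universe u

open CategoryTheory CategoryTheory.Limits AlgebraicGeometry TopologicalSpace Polynomial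

namespace Groth.Agent.Lib.Helper20.TFCurve

open Groth.Agent.Lib.Lead.HilbPos Groth.Agent.Lib.Helper20.DecShMult

section Top

/-- In a Noetherian quasi-sober space a closed point without proper generizations is open
(copied from helper1's `FieldDim`, to avoid its heavy imports). -/
theorem isOpen_singleton_of_noetherianSpace {W : Type*} [TopologicalSpace W] [NoetherianSpace W]
    [QuasiSober W] (u : W) (hcl : IsClosed ({u} : Set W)) (hmax : ∀ u' : W, u' ⤳ u → u' = u) :
    IsOpen ({u} : Set W) := by
  have hfin : (irreducibleComponents W).Finite := NoetherianSpace.finite_irreducibleComponents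
  have hcomp : ({u} : Set W)ᶜ = ⋃ Z ∈ {Z ∈ irreducibleComponents W | u ∉ Z}, Z := by
    ext w
    simp only [Set.mem_compl_iff, Set.mem_singleton_iff, Set.mem_ofPred_eq, Set.mem_iUnion,
      exists_prop]
    constructor
    · intro hw
      refine ⟨irreducibleComponent w, ⟨irreducibleComponent_mem_irreducibleComponents w, ?_⟩,
        mem_irreducibleComponent⟩
      intro hu
      have hirr : IsIrreducible (irreducibleComponent w) := isIrreducible_irreducibleComponent
      have hclc : IsClosed (irreducibleComponent w) := isClosed_irreducibleComponent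
      have hg := hirr.isGenericPoint_genericPoint hclc
      have h1 : hirr.genericPoint = u := hmax _ (hg.specializes hu)
      rw [h1] at hg
      have h2 : w ∈ closure ({u} : Set W) := by
        rw [hg.def]; exact mem_irreducibleComponent
      rw [hcl.closure_eq] at h2
      exact hw h2
    · rintro ⟨Z, ⟨_, huZ⟩, hwZ⟩ rfl
      exact huZ hwZ
  rw [← isClosed_compl_iff, hcomp]
  exact (hfin.subset (fun Z hZ => hZ.1)).isClosed_biUnion
    fun Z hZ => isClosed_of_mem_irreducibleComponents Z hZ.1

/-- In a locally Noetherian scheme a locally closed point without proper generizations is open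
(copied from helper1's `FieldDim`). -/
theorem isOpen_singleton_of_isLocallyNoetherian {U : Scheme.{u}} [IsLocallyNoetherian U] (u : U)
    (hcl : IsLocallyClosed ({u} : Set U)) (hmax : ∀ u' : U, u' ⤳ u → u' = u) :
    IsOpen ({u} : Set U) := by
  obtain ⟨O, C, hO, hC, hOC⟩ := hcl
  have huO : u ∈ O := by
    have : u ∈ O ∩ C := hOC ▸ Set.mem_singleton u
    exact this.1
  obtain ⟨_, ⟨(W : U.Opens), hW, rfl⟩, huW, hWO⟩ :=
    (U.isBasis_affineOpens).exists_subset_of_mem_open huO hO
  haveI : IsNoetherianRing Γ(U, W) := IsLocallyNoetherian.component_noetherian ⟨W, hW⟩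
  haveI : NoetherianSpace ↥W := noetherianSpace_of_isAffineOpen W hW
  haveI : QuasiSober ↥W := W.isOpen.isOpenEmbedding_subtypeVal.quasiSober
  have h1 : IsClosed ({⟨u, huW⟩} : Set ↥W) := by
    have : ({⟨u, huW⟩} : Set ↥W) = Subtype.val ⁻¹' C := by
      ext w
      simp only [Set.mem_singleton_iff, Set.mem_preimage]
      constructor
      · rintro rfl
        have : u ∈ O ∩ C := hOC ▸ Set.mem_singleton u
        exact this.2
      · intro hw
        have : (w : U) ∈ ({u} : Set U) := by rw [hOC]; exact ⟨hWO w.2, hw⟩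
        exact Subtype.ext this
    rw [this]
    exact hC.preimage continuous_subtype_val
  have h2 : ∀ w : ↥W, w ⤳ ⟨u, huW⟩ → w = ⟨u, huW⟩ := by
    intro w hw
    have := hmax w.1 (hw.map continuous_subtype_val)
    exact Subtype.ext this
  have h3 := isOpen_singleton_of_noetherianSpace (⟨u, huW⟩ : ↥W) h1 h2
  have h4 := W.isOpen.isOpenEmbedding_subtypeVal.isOpenMap _ h3
  simpa using h4

/-- In a `T0` space of dimension at most zero, specialization is trivial (copied from helper1's
`FieldDim`). -/
theorem eq_of_specializes_of_dim_le_zero {T : Type*} [TopologicalSpace T] [T0Space T]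
    (h : topologicalKrullDim T ≤ 0) {a b : T} (hab : a ⤳ b) : a = b := by
  by_contra hne
  have hlt : (⟨closure {b}, isIrreducible_singleton.closure, isClosed_closure⟩ : IrreducibleCloseds T) <
      ⟨closure {a}, isIrreducible_singleton.closure, isClosed_closure⟩ := by
    refine lt_of_le_of_ne ?_ ?_
    · change closure {b} ⊆ closure {a}
      exact closure_minimal (Set.singleton_subset_iff.2 hab.mem_closure) isClosed_closure
    · intro heq
      have h1 : closure ({b} : Set T) = closure {a} := congrArg IrreducibleCloseds.carrier heq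
      have : Inseparable b a := by
        rw [inseparable_iff_closure_eq]; exact h1
      exact hne this.eq.symm
  have hpos : 0 < topologicalKrullDim T := Order.krullDim_pos_iff.2 ⟨_, _, hlt⟩
  exact absurd h (not_le.2 hpos)

/-- In a `T0` space of dimension at most zero all points are closed (copied from helper1's
`FieldDim`). -/
theorem isClosed_singleton_of_dim_le_zero {T : Type*} [TopologicalSpace T] [T0Space T]
    (h : topologicalKrullDim T ≤ 0) (t : T) : IsClosed ({t} : Set T) := by
  rw [← closure_eq_iff_isClosed]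
  refine subset_antisymm ?_ subset_closure
  intro w hw
  exact (eq_of_specializes_of_dim_le_zero h (specializes_iff_mem_closure.2 hw)).symm

end Top

section Local

variable {X : Scheme.{u}}

theorem exists_prime_ne_maximalIdeal [IsLocallyNoetherian X] (x : X)
    (hcl : IsClosed ({x} : Set X)) (hno : ¬ IsOpen ({x} : Set X)) :
    ∃ q : Ideal (X.presheaf.stalk x), q.IsPrime ∧
      q ≠ IsLocalRing.maximalIdeal (X.presheaf.stalk x) := by
  have h1 : ¬ ∀ x' : X, x' ⤳ x → x' = x := fun h =>
    hno (isOpen_singleton_of_isLocallyNoetherian x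
      hcl.isLocallyClosed h)
  push_neg at h1
  obtain ⟨x', hx', hne⟩ := h1
  have hr : x' ∈ Set.range (X.fromSpecStalk x) := by
    rw [Scheme.range_fromSpecStalk]; exact hx'
  obtain ⟨z, hz⟩ := hr
  refine ⟨z.asIdeal, z.isPrime, fun h => hne ?_⟩
  have hzc : z = IsLocalRing.closedPoint (X.presheaf.stalk x) := PrimeSpectrum.ext h
  rw [← hz, hzc, Scheme.fromSpecStalk_closedPoint]

theorem not_isAssPoint_of_isTorsionFree [IsLocallyNoetherian X] [IsReduced X] (G : X.Modules)
    (hG : TorSh.IsTorsionFree G) (x : X) (hcl : IsClosed ({x} : Set X))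
    (hno : ¬ IsOpen ({x} : Set X)) : ¬ Curv2.IsAssPoint G x := by
  intro hass
  obtain ⟨q, hqp, hq⟩ := exists_prime_ne_maximalIdeal x hcl hno
  haveI := hqp
  haveI := hG x
  obtain ⟨hprime, m, hm⟩ := (isAssociatedPrime_iff).1 hass
  have hm0 : m = 0 :=
    Groth.Agent.Lib.Helper20.TFCurveAlg.eq_zero_of_maximalIdeal_smul_eq_zero q hq m
      (fun a ha => by
        rw [hm, Submodule.mem_colon_singleton] at ha
        simpa using ha)
  apply hprime.ne_top
  rw [hm, hm0]
  ext a
  simp [Submodule.mem_colon_singleton]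

theorem dim_support_eq_one [IsLocallyNoetherian X] [IsReduced X]
    (hdim : topologicalKrullDim X = 1) (hpure : ∀ x : X, ¬ IsOpen ({x} : Set X))
    (G : X.Modules) (hG : Coh.IsCoh G) (hG0 : ¬ IsZero G) (htf : TorSh.IsTorsionFree G) :
    topologicalKrullDim ↥(CohB1.support G) = ((1 : ℕ) : WithBot ℕ∞) := by
  have hle : topologicalKrullDim ↥(CohB1.support G) ≤ ((1 : ℕ) : WithBot ℕ∞) :=
    dim_support_le X 1 (by rw [hdim]; exact le_of_eq Nat.cast_one.symm) G
  by_contra hne
  have hlt : topologicalKrullDim ↥(CohB1.support G) < ((1 : ℕ) : WithBot ℕ∞) :=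
    lt_of_le_of_ne hle hne
  have h0 : topologicalKrullDim ↥(CohB1.support G) ≤ 0 := by
    generalize topologicalKrullDim ↥(CohB1.support G) = d at hlt
    induction d using WithBot.recBotCoe with
    | bot => exact bot_le
    | coe e =>
      have h1 : e < 1 := by
        have : ((e : ℕ∞) : WithBot ℕ∞) < ((1 : ℕ∞) : WithBot ℕ∞) := by
          simpa using hlt
        exact WithBot.coe_lt_coe.1 this
      have h2 : e = 0 := ENat.lt_one_iff_eq_zero.1 h1
      rw [h2]; rfl
  haveI : G.IsQuasicoherent := hG.1
  have hex : ∃ x : X, x ∈ CohB1.support G := by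
    by_contra hcon
    push_neg at hcon
    apply hG0
    refine Groth.Agent.Lib.Lead.TorsPure.isZero_of_forall_subsingleton_stalk G (fun x => ?_)
    by_contra hx
    exact hcon x hx
  obtain ⟨x, hx⟩ := hex
  obtain ⟨y, hy, hyx⟩ : ∃ y ∈ AssSch.Ass G, y ⤳ x := by
    have hx' : ¬ Subsingleton ↑(G.presheaf.stalk x) := hx
    rw [not_subsingleton_iff_nontrivial] at hx'
    obtain ⟨n, hn⟩ := exists_ne (0 : ↑(G.presheaf.stalk x))
    obtain ⟨V, hxV, t, rfl⟩ := G.presheaf.exists_germ_eq n
    obtain ⟨y, -, hyx, hy, -⟩ :=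
      Groth.Agent.Lib.helper16.IrrDec.exists_assPoint_of_germ_ne_zero G V t x hxV hn
    exact ⟨y, hy, hyx⟩
  have hyS : y ∈ CohB1.support G := by
    intro hsub
    haveI : Subsingleton ↑(G.presheaf.stalk y) := hsub
    exact not_isAssociatedPrime_of_subsingleton hy
  have hsp : (⟨y, hyS⟩ : ↥(CohB1.support G)) ⤳ ⟨x, hx⟩ :=
    (subtype_specializes_iff _ _).2 hyx
  have hyx' : (⟨y, hyS⟩ : ↥(CohB1.support G)) = ⟨x, hx⟩ :=
    eq_of_specializes_of_dim_le_zero h0 hsp
  have hyx'' : y = x := congrArg Subtype.val hyx'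
  subst hyx''
  have hclS : IsClosed (CohB1.support G) :=
    Groth.Agent.Lib.helper8.Dev.isClosed_support_of_isCoh G hG
  have hcl1 : IsClosed ({⟨y, hx⟩} : Set ↥(CohB1.support G)) :=
    isClosed_singleton_of_dim_le_zero h0 _
  have hcl : IsClosed ({y} : Set X) := by
    have := hclS.isClosedEmbedding_subtypeVal.isClosedMap _ hcl1
    simpa using this
  exact not_isAssPoint_of_isTorsionFree G htf y hcl (hpure y) hy

end Local

section Global

variable (k : Type u) [Field k] (X : Scheme.{u}) [X.Over (Spec (CommRingCat.of k))]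
  [IsProper (X ↘ Spec (CommRingCat.of k))]

/-- additivity of the multiplicity on short exact sequences of coherent modules on a curve -/
theorem mult_add {L : X.Modules} (hL : CohB1.IsAmple L)
    (hdim : topologicalKrullDim X ≤ ((1 : ℕ) : WithBot ℕ∞))
    (S : ShortComplex X.Modules) (hS : S.ShortExact)
    (h₁ : Coh.IsCoh S.X₁) (h₂ : Coh.IsCoh S.X₂) (h₃ : Coh.IsCoh S.X₃) :
    DecSh.mult k X L S.X₂ = DecSh.mult k X L S.X₁ + DecSh.mult k X L S.X₃ := by
  obtain ⟨P₁, hP₁, -⟩ := exists_isHilbPoly k X hL.1 h₁ 1 (dim_support_le X 1 hdim _)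
  obtain ⟨P₃, hP₃, -⟩ := exists_isHilbPoly k X hL.1 h₃ 1 (dim_support_le X 1 hdim _)
  have hP₂ := isHilbPoly_add k X hL.1 S hS h₁ h₃ hP₁ hP₃
  have e₁ := mult_eq_coeff_one k X hL.1 h₁ (dim_support_le X 1 hdim _) hP₁
  have e₂ := mult_eq_coeff_one k X hL.1 h₂ (dim_support_le X 1 hdim _) hP₂
  have e₃ := mult_eq_coeff_one k X hL.1 h₃ (dim_support_le X 1 hdim _) hP₃
  have : (DecSh.mult k X L S.X₂ : ℚ) =
      (DecSh.mult k X L S.X₁ : ℚ) + (DecSh.mult k X L S.X₃ : ℚ) := by
    rw [e₁, e₂, e₃, coeff_add]
  exact_mod_cast this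

/-- the multiplicity of a coherent submodule is at most that of the module -/
theorem mult_le_of_mono {L : X.Modules} (hL : CohB1.IsAmple L)
    (hdim : topologicalKrullDim X ≤ ((1 : ℕ) : WithBot ℕ∞))
    {F E : X.Modules} (ι : F ⟶ E) [Mono ι] (hF : Coh.IsCoh F) (hE : Coh.IsCoh E) :
    DecSh.mult k X L F ≤ DecSh.mult k X L E := by
  haveI := Groth.Agent.Lib.Lead.CurveEuler.isNoetherian k X
  have hQ : Coh.IsCoh (cokernel ι) :=
    Groth.Agent.Lib.helper7.CohKer.isCoh_cokernel hF hE ι
  have h1 := mult_add k X hL hdim (ShortComplex.mk ι (cokernel.π ι) (cokernel.condition ι))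
    (Groth.Agent.Lib.helper8.Dev.shortExact_cokernel ι) hF hE hQ
  have h2 := mult_nonneg k X hL hQ hdim
  change DecSh.mult k X L E = DecSh.mult k X L F + DecSh.mult k X L (cokernel ι) at h1
  omega

/-- a nonzero coherent torsion-free module on a reduced proper curve without isolated points has
multiplicity at least one -/
theorem one_le_mult [IsReduced X] (hdim : topologicalKrullDim X = 1)
    (hpure : ∀ x : X, ¬ IsOpen ({x} : Set X)) {L : X.Modules} (hL : CohB1.IsAmple L)
    {F : X.Modules} (hF : Coh.IsCoh F) (hF0 : ¬ IsZero F) (htf : TorSh.IsTorsionFree F) :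
    1 ≤ DecSh.mult k X L F := by
  haveI := Groth.Agent.Lib.Lead.CurveEuler.isNoetherian k X
  have hd := dim_support_eq_one hdim hpure F hF hF0 htf
  obtain ⟨P, hP, -⟩ := exists_isHilbPoly k X hL.1 hF 1 (le_of_eq hd)
  have h1 := mult_eq_coeff_one k X hL.1 hF (le_of_eq hd) hP
  have h2 := alpha_pos k X hL hF 1 hd hP
  unfold StabCat.alpha at h2
  have h3 : (0 : ℚ) < (DecSh.mult k X L F : ℚ) := by
    rw [h1]; simpa using h2
  have h4 : 0 < DecSh.mult k X L F := by exact_mod_cast h3
  omega

/-- variant for a coherent submodule of a torsion-free module -/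
theorem one_le_mult_of_mono [IsReduced X] (hdim : topologicalKrullDim X = 1)
    (hpure : ∀ x : X, ¬ IsOpen ({x} : Set X)) {L : X.Modules} (hL : CohB1.IsAmple L)
    {F E : X.Modules} (ι : F ⟶ E) [Mono ι] (hF : Coh.IsCoh F) (hF0 : ¬ IsZero F)
    (htf : TorSh.IsTorsionFree E) : 1 ≤ DecSh.mult k X L F :=
  one_le_mult k X hdim hpure hL hF hF0
    (Groth.Agent.Lib.Lead.TorsPure.isTorsionFree_of_mono ι htf)

end Global

end Groth.Agent.Lib.Helper20.TFCurve
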