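import Mathlib

/-!
# Adic completion commutes with `M ⊗ -` on flat modules, for `M` finite over a Noetherian ring
(helper20, request of helper23)

* `map_exact_of_AR`: exactness of `AdicCompletion.map` in the middle under an Artin–Rees
  hypothesis (no finiteness).
* `theta I M N : M ⊗ N^ → (M ⊗ N)^`, natural in `M`.
* `theta_bijective`: bijective for `M` finite over Noetherian `A` and `N` flat.
* `exists_tensor_adicCompletion_equiv`.
-/

set_option autoImplicit false

open TensorProduct

universe u

namespace Groth.Agent.Lib.Helper20.TensorAdic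

variable {A : Type u} [CommRing A] (I : Ideal A)

section AR

variable {M' M M'' : Type u} [AddCommGroup M'] [Module A M'] [AddCommGroup M] [Module A M]
  [AddCommGroup M''] [Module A M'']

/-- exactness of adic completion in the middle, under an Artin–Rees hypothesis -/
theorem map_exact_of_AR {f : M' →ₗ[A] M} {g : M →ₗ[A] M''} (hf : Function.Injective f)
    (hfg : Function.Exact f g) (hg : Function.Surjective g) (k : ℕ)
    (hk : ∀ n, (I ^ (n + k) • ⊤ : Submodule A M) ⊓ LinearMap.range f ≤
      Submodule.map f (I ^ n • ⊤ : Submodule A M')) :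
    Function.Exact (AdicCompletion.map I f) (AdicCompletion.map I g) := by
  refine LinearMap.exact_of_comp_eq_zero_of_ker_le_range ?_ (fun y => ?_)
  · rw [AdicCompletion.map_comp, hfg.linearMap_comp_eq_zero, AdicCompletion.map_zero]
  · apply AdicCompletion.induction_on I M y (fun b => ?_)
    intro hz
    have hb (n : ℕ) : g (b n) ∈ (I ^ n • ⊤ : Submodule A M'') := by
      simpa using congrArg (fun x ↦ x.val n) hz
    have h1 : ∀ n, ∃ d ∈ (I ^ n • ⊤ : Submodule A M), g d = g (b n) := by
      intro n
      have : g (b n) ∈ Submodule.map g (I ^ n • ⊤ : Submodule A M) := by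
        rw [Submodule.map_smul'', Submodule.map_top, LinearMap.range_eq_top.mpr hg]
        exact hb n
      obtain ⟨d, hd, hdg⟩ := this
      exact ⟨d, hd, hdg⟩
    choose d hd hdg using h1
    have h2 : ∀ n, ∃ a : M', f a = b n - d n := fun n =>
      (hfg (b n - d n)).mp (by rw [map_sub, hdg, sub_self])
    choose a ha using h2
    have hc : ∀ n, a (n + k) ≡ a (n + 1 + k) [SMOD (I ^ n • ⊤ : Submodule A M')] := by
      intro n
      rw [SModEq.sub_mem]
      have hmem : f (a (n + k) - a (n + 1 + k)) ∈
          (I ^ (n + k) • ⊤ : Submodule A M) ⊓ LinearMap.range f := by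
        refine ⟨?_, ⟨_, rfl⟩⟩
        rw [map_sub, ha, ha]
        have e : b (n + k) - d (n + k) - (b (n + 1 + k) - d (n + 1 + k)) =
            (b (n + k) - b (n + 1 + k)) - d (n + k) + d (n + 1 + k) := by abel
        rw [e]
        refine Submodule.add_mem _ (Submodule.sub_mem _ ?_ (hd _)) ?_
        · have := b.property (show n + k ≤ n + 1 + k by omega)
          rwa [SModEq.sub_mem] at this
        · exact Submodule.smul_mono_left (Ideal.pow_le_pow_right (by omega)) (hd (n + 1 + k))
      obtain ⟨c, hc, hfc⟩ := hk n hmem
      rwa [hf hfc] at hc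
    refine ⟨AdicCompletion.mk I M' (AdicCompletion.AdicCauchySequence.mk I M' (fun n => a (n + k)) hc), ?_⟩
    refine AdicCompletion.ext (fun n => ?_)
    change Submodule.Quotient.mk (p := (I ^ n • ⊤ : Submodule A M)) (f (a (n + k))) =
      Submodule.Quotient.mk (p := (I ^ n • ⊤ : Submodule A M)) (b n)
    rw [ha, Submodule.Quotient.mk_sub, AdicCompletion.AdicCauchySequence.mk_eq_mk (show n ≤ n + k by omega) b,
      sub_eq_self, Submodule.Quotient.mk_eq_zero]
    exact Submodule.smul_mono_left (Ideal.pow_le_pow_right (by omega)) (hd (n + k))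

end AR


section Theta

variable (M : Type u) [AddCommGroup M] [Module A M] (N : Type u) [AddCommGroup N] [Module A N]

theorem map_add_apply {P Q : Type u} [AddCommGroup P] [Module A P] [AddCommGroup Q] [Module A Q]
    (f g : P →ₗ[A] Q) (x : AdicCompletion I P) :
    AdicCompletion.map I (f + g) x = AdicCompletion.map I f x + AdicCompletion.map I g x := by
  apply AdicCompletion.induction_on I P x (fun b => ?_)
  rw [AdicCompletion.map_mk, AdicCompletion.map_mk, AdicCompletion.map_mk, ← map_add]
  rfl

theorem map_smul_apply {P Q : Type u} [AddCommGroup P] [Module A P] [AddCommGroup Q] [Module A Q]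
    (r : A) (f : P →ₗ[A] Q) (x : AdicCompletion I P) :
    AdicCompletion.map I (r • f) x = r • AdicCompletion.map I f x := by
  apply AdicCompletion.induction_on I P x (fun b => ?_)
  rw [AdicCompletion.map_mk, AdicCompletion.map_mk, ← map_smul]
  rfl

/-- the natural map `M ⊗ N^ → (M ⊗ N)^` -/
noncomputable def theta : M ⊗[A] AdicCompletion I N →ₗ[A] AdicCompletion I (M ⊗[A] N) :=
  TensorProduct.lift
    { toFun := fun m => (AdicCompletion.map I (TensorProduct.mk A M N m)).restrictScalars A
      map_add' := fun m m' => by
        apply LinearMap.ext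
        intro x
        rw [map_add]
        exact map_add_apply I _ _ x
      map_smul' := fun r m => by
        apply LinearMap.ext
        intro x
        rw [map_smul]
        exact map_smul_apply I r _ x }

@[simp]
theorem theta_tmul (m : M) (x : AdicCompletion I N) :
    theta I M N (m ⊗ₜ[A] x) = AdicCompletion.map I (TensorProduct.mk A M N m) x := rfl

variable {M} in
theorem theta_naturality {M₂ : Type u} [AddCommGroup M₂] [Module A M₂] (p : M →ₗ[A] M₂)
    (z : M ⊗[A] AdicCompletion I N) :
    AdicCompletion.map I (p.rTensor N) (theta I M N z) =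
      theta I M₂ N (p.rTensor (AdicCompletion I N) z) := by
  induction z using TensorProduct.induction_on with
  | zero => simp
  | tmul m x =>
    rw [theta_tmul, LinearMap.rTensor_tmul, theta_tmul, AdicCompletion.map_comp_apply]
    rfl
  | add a b ha hb => rw [map_add, map_add, ha, hb, map_add, map_add]


variable {M} in
theorem map_rTensor_id_apply (x : AdicCompletion I (M ⊗[A] N)) :
    AdicCompletion.map I ((LinearMap.id : M →ₗ[A] M).rTensor N) x = x := by
  rw [LinearMap.rTensor_id, AdicCompletion.map_id]
  rfl

/-- transport of bijectivity of `theta` along a linear equivalence -/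
theorem theta_bijective_of_equiv {M₂ : Type u} [AddCommGroup M₂] [Module A M₂] (e : M ≃ₗ[A] M₂)
    (h : Function.Bijective (theta I M N)) : Function.Bijective (theta I M₂ N) := by
  have h1 : ∀ z, theta I M₂ N z = AdicCompletion.map I (e.toLinearMap.rTensor N)
      (theta I M N (e.symm.toLinearMap.rTensor (AdicCompletion I N) z)) := by
    intro z
    have : e.toLinearMap ∘ₗ e.symm.toLinearMap = LinearMap.id := by
      ext x; simp
    rw [theta_naturality, ← LinearMap.rTensor_comp_apply, this, LinearMap.rTensor_id]
    rfl
  have hb1 : Function.Bijective (AdicCompletion.map I (e.toLinearMap.rTensor N)) :=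
    (AdicCompletion.congr I (TensorProduct.congr e (LinearEquiv.refl A N))).bijective
  have hb2 : Function.Bijective (e.symm.toLinearMap.rTensor (AdicCompletion I N)) :=
    (TensorProduct.congr e.symm (LinearEquiv.refl A (AdicCompletion I N))).bijective
  have : (theta I M₂ N : _ → _) = (AdicCompletion.map I (e.toLinearMap.rTensor N)) ∘
      (theta I M N) ∘ (e.symm.toLinearMap.rTensor (AdicCompletion I N)) := funext h1
  rw [this]
  exact hb1.comp (h.comp hb2)

/-- `theta` is bijective on a product if it is on both factors -/
theorem theta_bijective_prod (P Q : Type u) [AddCommGroup P] [Module A P] [AddCommGroup Q]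
    [Module A Q] (hP : Function.Bijective (theta I P N)) (hQ : Function.Bijective (theta I Q N)) :
    Function.Bijective (theta I (P × Q) N) := by
  have hid : (LinearMap.inl A P Q) ∘ₗ (LinearMap.fst A P Q) +
      (LinearMap.inr A P Q) ∘ₗ (LinearMap.snd A P Q) = LinearMap.id := by
    ext x <;> simp
  constructor
  · rw [injective_iff_map_eq_zero]
    intro z hz
    have h1 : (LinearMap.fst A P Q).rTensor (AdicCompletion I N) z = 0 := by
      apply hP.1
      rw [← theta_naturality, hz, map_zero, map_zero]
    have h2 : (LinearMap.snd A P Q).rTensor (AdicCompletion I N) z = 0 := by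
      apply hQ.1
      rw [← theta_naturality, hz, map_zero, map_zero]
    have : z = (LinearMap.id : P × Q →ₗ[A] P × Q).rTensor (AdicCompletion I N) z := by
      rw [LinearMap.rTensor_id]; rfl
    rw [this, ← hid, LinearMap.rTensor_add, LinearMap.add_apply, LinearMap.rTensor_comp,
      LinearMap.rTensor_comp, LinearMap.comp_apply, LinearMap.comp_apply, h1, h2, map_zero,
      map_zero, add_zero]
  · intro w
    obtain ⟨zP, hzP⟩ := hP.2 (AdicCompletion.map I ((LinearMap.fst A P Q).rTensor N) w)
    obtain ⟨zQ, hzQ⟩ := hQ.2 (AdicCompletion.map I ((LinearMap.snd A P Q).rTensor N) w)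
    refine ⟨(LinearMap.inl A P Q).rTensor (AdicCompletion I N) zP +
      (LinearMap.inr A P Q).rTensor (AdicCompletion I N) zQ, ?_⟩
    rw [map_add, ← theta_naturality, ← theta_naturality, hzP, hzQ,
      AdicCompletion.map_comp_apply, AdicCompletion.map_comp_apply, ← map_add_apply,
      ← LinearMap.rTensor_comp, ← LinearMap.rTensor_comp, ← LinearMap.rTensor_add, hid]
    exact map_rTensor_id_apply I N w


theorem subsingleton_adicCompletion (P : Type u) [AddCommGroup P] [Module A P] [Subsingleton P] :
    Subsingleton (AdicCompletion I P) := by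
  refine ⟨fun x y => ?_⟩
  apply AdicCompletion.induction_on I P x (fun b => ?_)
  apply AdicCompletion.induction_on I P y (fun c => ?_)
  congr 1
  exact AdicCompletion.AdicCauchySequence.ext (fun n => Subsingleton.elim _ _)

theorem theta_bijective_of_subsingleton [Subsingleton M] : Function.Bijective (theta I M N) := by
  have : Subsingleton (M ⊗[A] AdicCompletion I N) := inferInstance
  have : Subsingleton (M ⊗[A] N) := inferInstance
  have := subsingleton_adicCompletion I (M ⊗[A] N)
  exact ⟨fun x y _ => Subsingleton.elim _ _, fun y => ⟨0, Subsingleton.elim _ _⟩⟩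

/-- `theta` is bijective for `M = A` -/
theorem theta_bijective_self : Function.Bijective (theta I A N) := by
  have h : ∀ z, theta I A N z = AdicCompletion.map I (TensorProduct.lid A N).symm.toLinearMap
      (TensorProduct.lid A (AdicCompletion I N) z) := by
    intro z
    induction z using TensorProduct.induction_on with
    | zero => simp
    | tmul a x =>
      rw [theta_tmul, TensorProduct.lid_tmul]
      have : TensorProduct.mk A A N a = a • (TensorProduct.lid A N).symm.toLinearMap := by
        ext n
        simp [TensorProduct.smul_tmul']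
      rw [this, map_smul_apply, LinearMap.map_smul_of_tower]
    | add a b ha hb => rw [map_add, map_add, ha, hb, map_add]
  have : (theta I A N : _ → _) = (AdicCompletion.congr I (TensorProduct.lid A N).symm) ∘
      (TensorProduct.lid A (AdicCompletion I N)) := funext h
  rw [this]
  exact (AdicCompletion.congr I (TensorProduct.lid A N).symm).bijective.comp
    (TensorProduct.lid A (AdicCompletion I N)).bijective

/-- `(Fin (n+1) → A) ≃ A × (Fin n → A)` -/
def finSuccEquiv (n : ℕ) : (Fin (n + 1) → A) ≃ₗ[A] A × (Fin n → A) where
  toFun v := (v 0, fun i => v i.succ)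
  invFun p := Fin.cons p.1 p.2
  map_add' _ _ := rfl
  map_smul' _ _ := rfl
  left_inv v := Fin.cons_self_tail v
  right_inv p := by simp

theorem theta_bijective_pi (n : ℕ) : Function.Bijective (theta I (Fin n → A) N) := by
  induction n with
  | zero => exact theta_bijective_of_subsingleton I _ N
  | succ n ih =>
    exact theta_bijective_of_equiv I _ N (finSuccEquiv n).symm
      (theta_bijective_prod I N A (Fin n → A) (theta_bijective_self I N) ih)


/-- `theta` is surjective for finite `M` -/
theorem theta_surjective_of_finite [Module.Finite A M] : Function.Surjective (theta I M N) := by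
  obtain ⟨n, p, hp⟩ := Module.Finite.exists_fin' A M
  have hs : Function.Surjective ((AdicCompletion.map I (p.rTensor N)) ∘ (theta I (Fin n → A) N)) :=
    (AdicCompletion.map_surjective I (LinearMap.rTensor_surjective N hp)).comp
      (theta_bijective_pi I N n).2
  intro w
  obtain ⟨z, hz⟩ := hs w
  exact ⟨p.rTensor (AdicCompletion I N) z, by rw [← theta_naturality]; exact hz⟩

end Theta

section Flat

variable {F : Type u} [AddCommGroup F] [Module A F] (N : Type u) [AddCommGroup N] [Module A N]

theorem tmul_mem_smul_top {K : Type u} [AddCommGroup K] [Module A K] (J : Ideal A) (k : K)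
    (hk : k ∈ (J • ⊤ : Submodule A K)) (n : N) : k ⊗ₜ[A] n ∈ (J • ⊤ : Submodule A (K ⊗[A] N)) := by
  refine Submodule.smul_induction_on hk (fun r hr k0 _ => ?_) (fun x y hx hy => ?_)
  · rw [← TensorProduct.smul_tmul']
    exact Submodule.smul_mem_smul hr trivial
  · rw [TensorProduct.add_tmul]
    exact Submodule.add_mem _ hx hy

/-- Artin–Rees for `K ⊗ N ⊆ F ⊗ N`, `N` flat -/
theorem exists_AR_flat [IsNoetherianRing A] [Module.Finite A F] [Module.Flat A N]
    (K : Submodule A F) :
    ∃ k : ℕ, ∀ n, (I ^ (n + k) • ⊤ : Submodule A (F ⊗[A] N)) ⊓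
        LinearMap.range (K.subtype.rTensor N) ≤
      Submodule.map (K.subtype.rTensor N) (I ^ n • ⊤ : Submodule A (K ⊗[A] N)) := by
  obtain ⟨k, hk⟩ := Ideal.exists_pow_inf_eq_pow_smul I K
  refine ⟨k, fun n => ?_⟩
  rintro y ⟨hy1, ⟨x, rfl⟩⟩
  refine ⟨x, ?_, rfl⟩
  -- the quotient `Q = F / I^(n+k) F`
  let q : F →ₗ[A] F ⧸ (I ^ (n + k) • ⊤ : Submodule A F) := Submodule.mkQ _
  let g : K →ₗ[A] F ⧸ (I ^ (n + k) • ⊤ : Submodule A F) := q ∘ₗ K.subtype
  have hkill : ∀ z ∈ (I ^ (n + k) • ⊤ : Submodule A (F ⊗[A] N)), q.rTensor N z = 0 := by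
    intro z hz
    refine Submodule.smul_induction_on hz (fun r hr z0 hz0 => ?_) (fun a b ha hb => ?_)
    · rw [map_smul]
      clear hz0
      induction z0 using TensorProduct.induction_on with
      | zero => simp
      | tmul f0 n0 =>
        rw [LinearMap.rTensor_tmul, TensorProduct.smul_tmul', ← map_smul]
        have : q (r • f0) = 0 := by
          rw [Submodule.mkQ_apply, Submodule.Quotient.mk_eq_zero]
          exact Submodule.smul_mem_smul hr trivial
        rw [this, TensorProduct.zero_tmul]
      | add a b ha hb => rw [map_add, smul_add, ha, hb, add_zero]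
    · rw [map_add, ha, hb, add_zero]
  have hgx : g.rTensor N x = 0 := by
    have := hkill _ hy1
    rwa [← LinearMap.rTensor_comp_apply] at this
  have hex : Function.Exact ((LinearMap.ker g).subtype.rTensor N) (g.rTensor N) :=
    Module.Flat.rTensor_exact N (LinearMap.exact_subtype_ker_map g)
  obtain ⟨x', rfl⟩ := (hex x).mp hgx
  -- elements of `ker g` lie in `I^n K`
  have hker : ∀ c : LinearMap.ker g, (c : K) ∈ (I ^ n • ⊤ : Submodule A K) := by
    intro c
    have hc : q ((c : K) : F) = 0 := c.2
    rw [Submodule.mkQ_apply, Submodule.Quotient.mk_eq_zero] at hc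
    have h1 : ((c : K) : F) ∈ (I ^ (n + k) • ⊤ : Submodule A F) ⊓ K := ⟨hc, (c : K).2⟩
    rw [hk (n + k) (by omega), Nat.add_sub_cancel] at h1
    have h2 : ((c : K) : F) ∈ I ^ n • K :=
      (smul_mono_right _ inf_le_right : I ^ n • (I ^ k • ⊤ ⊓ K) ≤ I ^ n • K) h1
    rw [← Submodule.comap_map_eq_of_injective K.injective_subtype (I ^ n • ⊤ : Submodule A K),
      Submodule.map_smul'', Submodule.map_top, Submodule.range_subtype]
    exact h2
  clear hgx hy1
  induction x' using TensorProduct.induction_on with
  | zero => simp
  | tmul c n0 =>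
    rw [LinearMap.rTensor_tmul]
    exact tmul_mem_smul_top N _ _ (hker c) n0
  | add a b ha hb =>
    rw [map_add]
    exact Submodule.add_mem _ ha hb

end Flat

section Main

variable [IsNoetherianRing A] (M N : Type u) [AddCommGroup M] [Module A M] [Module.Finite A M]
  [AddCommGroup N] [Module A N] [Module.Flat A N]

theorem map_exact_of_flat {F : Type u} [AddCommGroup F] [Module A F] [Module.Finite A F]
    (p : F →ₗ[A] M) (hp : Function.Surjective p) :
    Function.Exact (AdicCompletion.map I ((LinearMap.ker p).subtype.rTensor N))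
      (AdicCompletion.map I (p.rTensor N)) := by
  obtain ⟨k, hk⟩ := exists_AR_flat I N (LinearMap.ker p)
  have hinj : Function.Injective ((LinearMap.ker p).subtype.rTensor N) :=
    Module.Flat.rTensor_preserves_injective_linearMap _ (LinearMap.ker p).injective_subtype
  have hex : Function.Exact ((LinearMap.ker p).subtype.rTensor N) (p.rTensor N) :=
    rTensor_exact N (LinearMap.exact_subtype_ker_map p) hp
  have hsurj : Function.Surjective (p.rTensor N) := LinearMap.rTensor_surjective N hp
  exact map_exact_of_AR I hinj hex hsurj k hk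

theorem theta_injective_of_surjective {F : Type u} [AddCommGroup F] [Module A F]
    [Module.Finite A F] (p : F →ₗ[A] M) (hp : Function.Surjective p)
    (hF : Function.Injective (theta I F N)) : Function.Injective (theta I M N) := by
  have hbot := map_exact_of_flat I M N p hp
  let g₁ : AdicCompletion I (LinearMap.ker p ⊗[A] N) →ₗ[A] AdicCompletion I (F ⊗[A] N) :=
    (AdicCompletion.map I ((LinearMap.ker p).subtype.rTensor N)).restrictScalars A
  let g₂ : AdicCompletion I (F ⊗[A] N) →ₗ[A] AdicCompletion I (M ⊗[A] N) :=
    (AdicCompletion.map I (p.rTensor N)).restrictScalars A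
  have hc₁ : g₁.comp (theta I (LinearMap.ker p) N) = (theta I F N).comp
      ((LinearMap.ker p).subtype.rTensor (AdicCompletion I N)) :=
    LinearMap.ext fun z => theta_naturality I N (LinearMap.ker p).subtype z
  have hc₂ : g₂.comp (theta I F N) = (theta I M N).comp (p.rTensor (AdicCompletion I N)) :=
    LinearMap.ext fun z => theta_naturality I N p z
  have hg₁ : Function.Exact g₁ g₂ := hbot
  have hf₁ : Function.Exact ((LinearMap.ker p).subtype.rTensor (AdicCompletion I N))
      (p.rTensor (AdicCompletion I N)) :=
    rTensor_exact (AdicCompletion I N) (LinearMap.exact_subtype_ker_map p) hp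
  exact LinearMap.injective_of_surjective_of_injective_of_right_exact
    ((LinearMap.ker p).subtype.rTensor (AdicCompletion I N)) (p.rTensor (AdicCompletion I N))
    g₁ g₂ (theta I (LinearMap.ker p) N) (theta I F N) (theta I M N) hc₁ hc₂ hf₁ hg₁
    (theta_surjective_of_finite I (LinearMap.ker p) N) hF
    (LinearMap.rTensor_surjective (AdicCompletion I N) hp)

/-- **`M ⊗ N^ → (M ⊗ N)^` is bijective** for `M` finite over the Noetherian ring `A`, `N` flat. -/
theorem theta_bijective : Function.Bijective (theta I M N) := by
  refine ⟨?_, theta_surjective_of_finite I M N⟩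
  obtain ⟨n, p, hp⟩ := Module.Finite.exists_fin' A M
  exact theta_injective_of_surjective I M N p hp (theta_bijective_pi I N n).1

/-- the statement requested by helper23 -/
theorem exists_tensor_adicCompletion_equiv :
    ∃ e : M ⊗[A] AdicCompletion I N ≃ₗ[A] AdicCompletion I (M ⊗[A] N),
      ∀ (m : M) (x : AdicCompletion I N),
        e (m ⊗ₜ[A] x) = AdicCompletion.map I (TensorProduct.mk A M N m) x :=
  ⟨LinearEquiv.ofBijective (theta I M N) (theta_bijective I M N), fun _ _ => rfl⟩

end Main

end Groth.Agent.Lib.Helper20.TensorAdic
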