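import Mathlib
import Groth.Agent.Lib.Helper20.TwistVal
import Groth.Agent.Lib.Helper28.TildeTwist
import Groth.Prelude.Def_GrMod2

/-!
# Values of sections of `M~` on `P^r_k` for a `ℤ`-graded module; the map `O(-α) ⟶ M~` given by a homogeneous
element of degree `α` (helper20)
-/

set_option autoImplicit false
universe u

open CategoryTheory AlgebraicGeometry Opposite TopologicalSpace

namespace Groth.Agent.Lib.helper20.TildeVal

open Groth.Agent.Lib.helper28.TwistFree Groth.Agent.Lib.Helper20.ProjMulHom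
  Groth.Agent.Lib.helper20.StdGr Groth.Agent.Lib.helper20.TwistVal
  Groth.Agent.Lib.helper28.TildeQCoh Groth.Agent.Lib.helper28.TildeMul
  Groth.Agent.Lib.helper28.TildeTwist

variable {k : Type u} [Field k] {r : ℕ}

local notation "Ar" => CohB1.polyGrading r k
local notation "Rr" => MvPolynomial (Fin (r + 1)) k
local notation "Z" => GrSyz.stdGr k (Fin (r + 1))

variable {M : Type u} [AddCommGroup M] [Module k M] [Module (MvPolynomial (Fin (r + 1)) k) M]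
  [IsScalarTower k (MvPolynomial (Fin (r + 1)) k) M]
  (ℳ : ℤ → Submodule k M) [SetLike.GradedSMul (GrSyz.stdGr k (Fin (r + 1))) ℳ]
  [SetLike.GradedSMul (CohB1.polyGrading r k) (fun n : ℕ => ℳ (n : ℤ))]

/-- the truncation to non-negative degrees -/
local notation "ℳ'" => fun n : ℕ => ℳ (n : ℤ)

/-- the module `M~` -/
noncomputable abbrev Mt : (Proj Ar).Modules := GrTilde.tilde Ar ℳ' 0

/-- a section of `M~` as a dependent function -/
def toSecM {U : (Proj Ar).Opens} (s : Γ(Mt ℳ, U)) : GrTilde.sect Ar ℳ' 0 (op U) := s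

/-- a dependent function as a section of `M~` -/
def ofSecM {U : (Proj Ar).Opens} (s : GrTilde.sect Ar ℳ' 0 (op U)) : Γ(Mt ℳ, U) := s

/-- the value of a section of `M~` at a point -/
noncomputable def valM {U : (Proj Ar).Opens} (s : Γ(Mt ℳ, U)) (x : U) :
    GrTilde.LocMod Ar (M := M) x.1 :=
  (((toSecM ℳ s).1 x : GrTilde.tildeAt Ar ℳ' 0 x.1) : GrTilde.LocMod Ar (M := M) x.1)

variable {ℳ}

lemma valM_ext {U : (Proj Ar).Opens} (s t : Γ(Mt ℳ, U)) (h : ∀ x : U, valM ℳ s x = valM ℳ t x) :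
    s = t :=
  sect_ext' Ar ℳ' (toSecM ℳ s) (toSecM ℳ t) h

lemma valM_add {U : (Proj Ar).Opens} (s t : Γ(Mt ℳ, U)) (x : U) :
    valM ℳ (s + t) x = valM ℳ s x + valM ℳ t x := rfl

lemma valM_zero {U : (Proj Ar).Opens} (x : U) : valM ℳ (0 : Γ(Mt ℳ, U)) x = 0 := rfl

lemma valM_sum {U : (Proj Ar).Opens} {ι : Type*} (s : Finset ι) (σ : ι → Γ(Mt ℳ, U)) (x : U) :
    valM ℳ (∑ i ∈ s, σ i) x = ∑ i ∈ s, valM ℳ (σ i) x := by
  classical
  induction s using Finset.induction_on with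
  | empty => simp [valM_zero]
  | insert a s ha ih => rw [Finset.sum_insert ha, Finset.sum_insert ha, valM_add, ih]

lemma valM_res {U W : (Proj Ar).Opens} (hW : W ≤ U) (s : Γ(Mt ℳ, U)) (x : W) :
    valM ℳ ((Mt ℳ).presheaf.map (homOfLE hW).op s) x = valM ℳ s ⟨x.1, hW x.2⟩ := rfl

/-- a section of `M~` is locally a fraction -/
lemma exists_local_fracM {U : (Proj Ar).Opens} (s : Γ(Mt ℳ, U)) (y : Proj Ar) (hy : y ∈ U) :
    ∃ (W : (Proj Ar).Opens) (hW : W ≤ U), y ∈ W ∧ ∃ (j : ℕ) (g : Rr) (_ : g ∈ Ar j)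
      (hgW : ∀ z : W, g ∉ z.1.asHomogeneousIdeal) (m : M), m ∈ ℳ (j : ℤ) ∧
        ∀ z : W, valM ℳ s ⟨z.1, hW z.2⟩ = LocalizedModule.mk m ⟨g, hgW z⟩ := by
  obtain ⟨V, hyV, iV, i, j, m, g, hg, hdeg, hval⟩ := (toSecM ℳ s).2 ⟨y, hy⟩
  refine ⟨V, iV.le, hyV, j, g.1, g.2, hg, m.1, ?_, hval⟩
  rcases hdeg with h | h
  · have hij : i = j := by omega
    subst hij
    exact m.2
  · rw [h]; exact Submodule.zero_mem _

/-- the section `m / g` of `M~` -/
noncomputable def fracM (W : (Proj Ar).Opens) (m : M) (g : Rr) (j : ℕ) (hg : g ∈ Ar j)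
    (hgW : ∀ z : W, g ∉ z.1.asHomogeneousIdeal) (hm : m ∈ ℳ (j : ℤ)) : Γ(Mt ℳ, W) :=
  ofSecM ℳ ⟨fun x => ⟨LocalizedModule.mk m ⟨g, hgW x⟩,
      Submodule.subset_span ⟨j, j, ⟨m, hm⟩, ⟨g, hg⟩, hgW x, by simp, rfl⟩⟩,
    fun x => ⟨W, x.2, 𝟙 _, j, j, ⟨m, hm⟩, ⟨g, hg⟩, hgW, Or.inl (by simp), fun _ => rfl⟩⟩

lemma fracM_val (W : (Proj Ar).Opens) (m : M) (g : Rr) (j : ℕ) (hg : g ∈ Ar j)
    (hgW : ∀ z : W, g ∉ z.1.asHomogeneousIdeal) (hm : m ∈ ℳ (j : ℤ)) (z : W) :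
    valM ℳ (fracM W m g j hg hgW hm) z = LocalizedModule.mk m ⟨g, hgW z⟩ := rfl

/-- `c • a` has the degree of the denominator -/
lemma smul_mem_of_frac {α : ℤ} {a : M} (ha : a ∈ ℳ α) {i j : ℕ} (c : Ar i)
    (hij : (i : ℤ) = j + -α ∨ c.1 = 0) : c.1 • a ∈ ℳ (j : ℤ) := by
  rcases hij with hij | hc
  · have := SetLike.GradedSMul.smul_mem (mem_stdGr_natCast_iff.mpr c.2) ha
    have e : (i : ℤ) + α = j := by omega
    rw [← e]
    exact this
  · rw [hc, zero_smul]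
    exact Submodule.zero_mem _

/-- the product of a degree `-α` fraction with `a / 1`, `a ∈ ℳ α`, is a degree `0` fraction of `M_x` -/
theorem smul_mk_mem {α : ℤ} {a : M} (ha : a ∈ ℳ α) (x : ProjectiveSpectrum Ar) {q : Twist.Loc Ar x}
    (hq : q ∈ Twist.twistAt Ar (-α) x) :
    q • (LocalizedModule.mk a 1 : GrTilde.LocMod Ar (M := M) x) ∈ GrTilde.tildeAt Ar ℳ' 0 x := by
  obtain ⟨i, j, c, s, hs, hij, rfl⟩ :=
    Groth.Agent.Lib.helper28.TwistMul.exists_fraction_of_mem Ar (-α) x q hq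
  rw [LocalizedModule.mk_smul_mk, mul_one]
  exact mk_mem_tildeAt Ar ℳ' 0 x (⟨c.1 • a, smul_mem_of_frac ha c hij⟩ : ℳ' j) s hs
    (Or.inl (by simp))

/-- the underlying function of `epsFun` -/
noncomputable def epsFun0 {α : ℤ} {a : M} (ha : a ∈ ℳ α) (U : Opens (ProjectiveSpectrum.top Ar))
    (t : Twist.sectN (𝒜 := Ar) (-α) (op U)) (x : U) : GrTilde.tildeAt Ar ℳ' 0 x.1 :=
  ⟨(t.1 x).1 • (LocalizedModule.mk a 1 : GrTilde.LocMod Ar (M := M) x.1),
      smul_mk_mem ha x.1 (t.1 x).2⟩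

lemma epsFun0_val {α : ℤ} {a : M} (ha : a ∈ ℳ α) (U : Opens (ProjectiveSpectrum.top Ar))
    (t : Twist.sectN (𝒜 := Ar) (-α) (op U)) (x : U) :
    ((epsFun0 ha U t x : GrTilde.tildeAt Ar ℳ' 0 x.1) : GrTilde.LocMod Ar (M := M) x.1) =
      ((t.1 x : Twist.twistAt Ar (-α) x.1) : Twist.Loc Ar x.1) •
        (LocalizedModule.mk a 1 : GrTilde.LocMod Ar (M := M) x.1) := rfl

lemma epsFun0_pred {α : ℤ} {a : M} (ha : a ∈ ℳ α) (U : Opens (ProjectiveSpectrum.top Ar))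
    (t : Twist.sectN (𝒜 := Ar) (-α) (op U)) :
    (GrTilde.isLocFrac Ar ℳ' 0).pred (epsFun0 ha U t) := by
  intro x
  obtain ⟨V, mV, iV, i, j, c, g, nin, cb, wb⟩ := t.2 x
  have hm : c.1 • a ∈ ℳ (j : ℤ) := smul_mem_of_frac ha c cb
  let m' : ℳ' j := ⟨c.1 • a, hm⟩
  have hdeg : ((j : ℤ) = j + 0 ∨ m'.1 = 0) := Or.inl (by simp)
  have key : ∀ y : V, ((epsFun0 ha U t (iV y) : GrTilde.tildeAt Ar ℳ' 0 (iV y).1) :
      GrTilde.LocMod Ar (M := M) (iV y).1) = LocalizedModule.mk m'.1 ⟨g.1, nin y⟩ := by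
    intro y
    have e2 := wb y
    rw [epsFun0_val]
    refine (congrArg (· • (LocalizedModule.mk a 1 : GrTilde.LocMod Ar (M := M) y.1)) e2).trans ?_
    rw [LocalizedModule.mk_smul_mk, mul_one]
  exact ⟨V, mV, iV, j, j, m', g, nin, hdeg, key⟩

/-- multiplication of a section of `O(-α)` by `a ∈ ℳ α`, a section of `M~` -/
noncomputable def epsFun {α : ℤ} {a : M} (ha : a ∈ ℳ α) (U : Opens (ProjectiveSpectrum.top Ar))
    (t : Twist.sectN (𝒜 := Ar) (-α) (op U)) : GrTilde.sect Ar ℳ' 0 (op U) :=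
  ⟨epsFun0 ha U t, epsFun0_pred ha U t⟩

lemma epsFun_val {α : ℤ} {a : M} (ha : a ∈ ℳ α) (U : Opens (ProjectiveSpectrum.top Ar))
    (t : Twist.sectN (𝒜 := Ar) (-α) (op U)) (x : U) :
    (((epsFun ha U t).1 x : GrTilde.tildeAt Ar ℳ' 0 x.1) : GrTilde.LocMod Ar (M := M) x.1) =
      ((t.1 x : Twist.twistAt Ar (-α) x.1) : Twist.Loc Ar x.1) •
        (LocalizedModule.mk a 1 : GrTilde.LocMod Ar (M := M) x.1) := rfl

lemma epsFun_add {α : ℤ} {a : M} (ha : a ∈ ℳ α) (U : Opens (ProjectiveSpectrum.top Ar))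
    (t t' : Twist.sectN (𝒜 := Ar) (-α) (op U)) :
    epsFun ha U (t + t') = epsFun ha U t + epsFun ha U t' :=
  sect_ext' Ar ℳ' _ _ fun x => by
    change ((t.1 x).1 + (t'.1 x).1) • (LocalizedModule.mk a 1 : GrTilde.LocMod Ar (M := M) x.1) =
      (t.1 x).1 • (LocalizedModule.mk a 1 : GrTilde.LocMod Ar (M := M) x.1) +
        (t'.1 x).1 • (LocalizedModule.mk a 1 : GrTilde.LocMod Ar (M := M) x.1)
    exact add_smul _ _ _

lemma epsFun_smul {α : ℤ} {a : M} (ha : a ∈ ℳ α) (U : Opens (ProjectiveSpectrum.top Ar))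
    (c : Twist.O (𝒜 := Ar) (op U)) (t : Twist.sectN (𝒜 := Ar) (-α) (op U)) :
    epsFun ha U (c • t) = c • epsFun ha U t :=
  sect_ext' Ar ℳ' _ _ fun x => by
    have h1 := epsFun_val ha U (c • t) x
    have h2 := Groth.Agent.Lib.helper28.TwistFree.smul_val (𝒜 := Ar) c t x
    have h3 := smul_val' Ar ℳ' c (epsFun ha U t) x
    have h4 := epsFun_val ha U t x
    refine h1.trans (Eq.trans ?_ h3.symm)
    refine (congrArg (· • (LocalizedModule.mk a 1 : GrTilde.LocMod Ar (M := M) x.1)) h2).trans ?_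
    refine (mul_smul _ _ _).trans ?_
    exact congrArg ((c.1 x).val • ·) h4.symm

lemma epsFun_res {α : ℤ} {a : M} (ha : a ∈ ℳ α) {W W' : (Opens (ProjectiveSpectrum.top Ar))ᵒᵖ}
    (i : W ⟶ W') (t : Twist.sectN (𝒜 := Ar) (-α) W) :
    epsFun ha W'.unop (Twist.resN (-α) i t) = GrTilde.res Ar ℳ' 0 i (epsFun ha W.unop t) :=
  sect_ext' Ar ℳ' _ _ fun _ => rfl

/-- the natural transformation of abelian presheaves underlying `epsHom` -/
noncomputable def epsPre {α : ℤ} {a : M} (ha : a ∈ ℳ α) :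
    Twist.twistPre Ar (-α) ⟶ GrTilde.tildePre Ar ℳ' 0 where
  app W := AddCommGrpCat.ofHom (AddMonoidHom.mk' (epsFun ha W.unop) (epsFun_add ha W.unop))
  naturality {W W'} i := by
    apply AddCommGrpCat.hom_ext
    apply AddMonoidHom.ext
    intro σ
    exact epsFun_res ha i σ

/-- multiplication by `a ∈ ℳ α` as a morphism `O(-α) ⟶ M~` -/
noncomputable def epsHom {α : ℤ} {a : M} (ha : a ∈ ℳ α) : Twist.twist Ar (-α) ⟶ Mt ℳ :=
  ⟨PresheafOfModules.homMk (M₁ := Twist.twistPMod Ar (-α)) (M₂ := GrTilde.tildePMod Ar ℳ' 0)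
    (epsPre ha) (fun W c σ => epsFun_smul ha W.unop c σ)⟩

lemma epsHom_val {α : ℤ} {a : M} (ha : a ∈ ℳ α) {U : (Proj Ar).Opens}
    (σ : Γ(Twist.twist Ar (-α), U)) (x : U) :
    valM ℳ (((epsHom ha).app U).hom σ) x =
      valO Ar σ x • (LocalizedModule.mk a 1 : GrTilde.LocMod Ar (M := M) x.1) := rfl

end Groth.Agent.Lib.helper20.TildeVal
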