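import Mathlib
import Groth.Agent.Lib.Helper20.SumTw
import Groth.Agent.Lib.Helper20.TildeVal

/-!
# The augmentation `∐ O(-α b) ⟶ M~` of a graded presentation, exactness and surjectivity (helper20)
-/

set_option autoImplicit false
universe u

open CategoryTheory CategoryTheory.Limits AlgebraicGeometry Opposite TopologicalSpace

namespace Groth.Agent.Lib.helper20.TildeRes

open Groth.Agent.Lib.helper20.TwistVal Groth.Agent.Lib.helper20.ExactLoc
  Groth.Agent.Lib.helper20.LFMono Groth.Agent.Lib.Helper20.ProjMulHom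
  Groth.Agent.Lib.helper20.ResAlg Groth.Agent.Lib.helper20.SumTw
  Groth.Agent.Lib.helper20.TildeVal

variable {k : Type u} [Field k] {r : ℕ}

local notation "Ar" => CohB1.polyGrading r k
local notation "Rr" => MvPolynomial (Fin (r + 1)) k
local notation "Z" => GrSyz.stdGr k (Fin (r + 1))

section LocMk

variable {A M : Type*} [CommRing A] [AddCommGroup M] [Module A M] {S : Submonoid A}

theorem mk_add_same (a b : M) (s : S) :
    LocalizedModule.mk (a + b) s = LocalizedModule.mk a s + LocalizedModule.mk b s := by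
  rw [LocalizedModule.mk_add_mk, ← smul_add, LocalizedModule.mk_cancel_common_left]

theorem mk_sum_same {ι : Type*} (T : Finset ι) (f : ι → M) (s : S) :
    LocalizedModule.mk (∑ i ∈ T, f i) s = ∑ i ∈ T, LocalizedModule.mk (f i) s := by
  classical
  induction T using Finset.induction_on with
  | empty => simp
  | insert a T ha ih => rw [Finset.sum_insert ha, Finset.sum_insert ha, mk_add_same, ih]

end LocMk

variable {M : Type u} [AddCommGroup M] [Module k M] [Module (MvPolynomial (Fin (r + 1)) k) M]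
  [IsScalarTower k (MvPolynomial (Fin (r + 1)) k) M]
  {ℳ : ℤ → Submodule k M} [SetLike.GradedSMul (GrSyz.stdGr k (Fin (r + 1))) ℳ]
  [SetLike.GradedSMul (CohB1.polyGrading r k) (fun n : ℕ => ℳ (n : ℤ))]

variable {n₁ n₂ : ℕ}

/-- the augmentation `∐ O(-α b) ⟶ M~` -/
noncomputable def augHom (α : Fin n₁ → ℤ) (aug : Fin n₁ → M) (haug : ∀ b, aug b ∈ ℳ (α b)) :
    sumTw (k := k) (r := r) α ⟶ Mt ℳ :=
  Sigma.desc fun b => epsHom (haug b)

lemma valM_augHom (α : Fin n₁ → ℤ) (aug : Fin n₁ → M) (haug : ∀ b, aug b ∈ ℳ (α b))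
    {V : (Proj Ar).Opens} (t : Γ(sumTw (k := k) (r := r) α, V)) (x : V) :
    valM ℳ (((augHom α aug haug).app V).hom t) x =
      ∑ b, valO Ar (comp α t b) x •
        (LocalizedModule.mk (aug b) 1 : GrTilde.LocMod Ar (M := M) x.1) := by
  have h1 : ((augHom α aug haug).app V).hom t =
      ∑ b, ((epsHom (haug b)).app V).hom (comp α t b) := by
    conv_lhs => rw [← ofComp_comp α t]
    unfold ofComp
    rw [map_sum]
    refine Finset.sum_congr rfl fun b _ => ?_
    change (((Sigma.ι (tw (k := k) (r := r) α) b ≫ augHom α aug haug).app V).hom (comp α t b)) = _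
    unfold augHom
    rw [Sigma.ι_desc]
  rw [h1, valM_sum]
  exact Finset.sum_congr rfl fun b _ => epsHom_val (haug b) (comp α t b) x

/-- the values of `augHom` on a section with components the fractions `c b / g` -/
lemma valM_augHom_of_frac (α : Fin n₁ → ℤ) (aug : Fin n₁ → M) (haug : ∀ b, aug b ∈ ℳ (α b))
    {W : (Proj Ar).Opens} (t : Γ(sumTw (k := k) (r := r) α, W)) (c : Fin n₁ → Rr) (g : Rr)
    (hgW : ∀ z : W, g ∉ z.1.asHomogeneousIdeal)
    (hval : ∀ b (z : W), valO Ar (comp α t b) z = Localization.mk (c b) ⟨g, hgW z⟩) (z : W) :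
    valM ℳ (((augHom α aug haug).app W).hom t) z =
      LocalizedModule.mk (∑ b, c b • aug b) ⟨g, hgW z⟩ := by
  rw [valM_augHom]
  have h1 : ∀ b, valO Ar (comp α t b) z •
      (LocalizedModule.mk (aug b) 1 : GrTilde.LocMod Ar (M := M) z.1) =
      LocalizedModule.mk (c b • aug b) ⟨g, hgW z⟩ := by
    intro b
    refine (congrArg (· • (LocalizedModule.mk (aug b) 1 : GrTilde.LocMod Ar (M := M) z.1))
      (hval b z)).trans ?_
    rw [LocalizedModule.mk_smul_mk, mul_one]
  rw [Finset.sum_congr rfl (fun b _ => h1 b)]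
  exact (mk_sum_same _ _ _).symm


lemma mkOne_smul_mk (p : Rr) (m : M) (x : ProjectiveSpectrum Ar) :
    mkOne Ar p x • (LocalizedModule.mk m 1 : GrTilde.LocMod Ar (M := M) x) =
      LocalizedModule.mk (p • m) 1 := by
  unfold mkOne
  rw [LocalizedModule.mk_smul_mk]
  congr 1
  exact mul_one _

/-- the composition `∐ O(-γ) ⟶ ∐ O(-α) ⟶ M~` is zero when the matrix kills the generators -/
theorem matHom_augHom_eq_zero (α : Fin n₁ → ℤ) (γ : Fin n₂ → ℤ) (aug : Fin n₁ → M)
    (haug : ∀ b, aug b ∈ ℳ (α b)) (D : Matrix (Fin n₁) (Fin n₂) Rr)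
    (hD : ∀ b e, D b e ∈ Z (γ e - α b)) (h : ∀ e, ∑ b, D b e • aug b = 0) :
    matHom (k := k) (r := r) α γ D hD ≫ augHom α aug haug = 0 := by
  apply Scheme.Modules.hom_ext
  intro V
  apply AddCommGrpCat.hom_ext
  apply AddMonoidHom.ext
  intro t
  apply valM_ext
  intro x
  refine Eq.trans ?_ (valM_zero x).symm
  have h1 : ((matHom (k := k) (r := r) α γ D hD ≫ augHom α aug haug).app V).hom t =
      ((augHom α aug haug).app V).hom (((matHom (k := k) (r := r) α γ D hD).app V).hom t) := rfl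
  rw [h1, valM_augHom]
  have h3 : ∀ b, valO Ar (comp α (((matHom (k := k) (r := r) α γ D hD).app V).hom t) b) x •
      (LocalizedModule.mk (aug b) 1 : GrTilde.LocMod Ar (M := M) x.1) =
      ∑ e, valO Ar (comp γ t e) x •
        (LocalizedModule.mk (D b e • aug b) 1 : GrTilde.LocMod Ar (M := M) x.1) := by
    intro b
    rw [valO_comp_matHom, Finset.sum_smul]
    refine Finset.sum_congr rfl fun e _ => ?_
    rw [mul_smul]
    exact congrArg (valO Ar (comp γ t e) x • ·) (mkOne_smul_mk (D b e) (aug b) x.1)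
  rw [Finset.sum_congr rfl (fun b _ => h3 b), Finset.sum_comm]
  refine Finset.sum_eq_zero fun e _ => ?_
  rw [← Finset.smul_sum, ← mk_sum_same, h e, LocalizedModule.zero_mk, smul_zero]


section decomp

variable [DirectSum.Decomposition ℳ]

/-- the augmentation is an epimorphism when the `aug b` generate `M` -/
theorem augHom_epi (α : Fin n₁ → ℤ) (aug : Fin n₁ → M) (haug : ∀ b, aug b ∈ ℳ (α b))
    (hsurj : ∀ m : M, ∃ c : Fin n₁ → Rr, m = ∑ b, c b • aug b) :
    Epi (augHom (k := k) (r := r) α aug haug) := by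
  apply Groth.Agent.Lib.helper28.SecEpi.epi_of_locally_surjective
  intro V s y hy
  obtain ⟨W, hW, hyW, j, g, hg, hgW, m, hm, hval⟩ := exists_local_fracM s y hy
  obtain ⟨c, hc⟩ := hsurj m
  have hc' := aug_homog ℳ α aug haug (j : ℤ) m hm c hc
  refine ⟨W, hW, hyW, ofComp α (fun b => fracZ (-α b) W (pr ((j : ℤ) - α b) (c b)) g j hg hgW
    (by rw [← sub_eq_add_neg]; exact pr_mem _ _)), ?_⟩
  change ((augHom α aug haug).app W).hom _ = (Mt ℳ).presheaf.map (homOfLE hW).op s
  apply valM_ext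
  intro z
  rw [valM_augHom_of_frac α aug haug _ (fun b => pr ((j : ℤ) - α b) (c b)) g hgW
    (fun b z' => by rw [comp_ofComp]; exact fracZ_val _ _ _ _ _ _ _ _ _) z, valM_res, hval z,
    ← hc']


/-- exactness of `∐ O(-γ) ⟶ ∐ O(-α) ⟶ M~` from exactness of the presentation -/
theorem augHom_exact (α : Fin n₁ → ℤ) (γ : Fin n₂ → ℤ) (aug : Fin n₁ → M)
    (haug : ∀ b, aug b ∈ ℳ (α b)) (D : Matrix (Fin n₁) (Fin n₂) Rr)
    (hD : ∀ b e, D b e ∈ Z (γ e - α b))
    (w : matHom (k := k) (r := r) α γ D hD ≫ augHom α aug haug = 0)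
    (hker : ∀ c : Fin n₁ → Rr, ∑ b, c b • aug b = 0 → ∃ h : Fin n₂ → Rr, c = D.mulVec h) :
    (ShortComplex.mk _ _ w).Exact := by
  apply exact_of_locally
  intro V s hs y hy
  change Γ(sumTw (k := k) (r := r) α, V) at s
  change ((augHom α aug haug).app V).hom s = 0 at hs
  obtain ⟨W, hW, hyW, j, g, hg, hgW, c, hc, hval⟩ :=
    exists_common_frac (fun b => -α b) (fun b => comp α s b) y hy
  have hval' : ∀ b (z : W), valO Ar (comp α ((sumTw (k := k) (r := r) α).presheaf.map
      (homOfLE hW).op s) b) z = Localization.mk (c b) ⟨g, hgW z⟩ := by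
    intro b z
    rw [comp_res, valO_res]
    exact hval b z
  have hm : ∑ b, c b • aug b ∈ ℳ (j : ℤ) := Submodule.sum_mem _ fun b _ => by
    have h1 := SetLike.GradedSMul.smul_mem (hc b) (haug b)
    have e : (j : ℤ) + -α b + α b = j := by ring
    rw [← e]
    exact h1
  have h0 : valM ℳ (((augHom α aug haug).app W).hom ((sumTw (k := k) (r := r) α).presheaf.map
      (homOfLE hW).op s)) ⟨y, hyW⟩ = 0 := by
    rw [app_res, hs, map_zero]
    rfl
  rw [valM_augHom_of_frac α aug haug _ c g hgW hval' ⟨y, hyW⟩] at h0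
  obtain ⟨u, hu⟩ := (Groth.Agent.Lib.helper28.TildeQCoh.mk_eq_zero_iff _ _).mp h0
  obtain ⟨l, v, hv, hvy, hvm⟩ := exists_homog_annihilator ℳ y u.2 hm hu
  let W' : (Proj Ar).Opens := W ⊓ Proj.basicOpen Ar v
  have hW' : W' ≤ V := inf_le_left.trans hW
  have hyW' : y ∈ W' := ⟨hyW, hvy⟩
  have hvg : v * g ∈ Ar (l + j) := SetLike.mul_mem_graded hv hg
  have hvgW : ∀ z : W', v * g ∉ z.1.asHomogeneousIdeal := fun z hz =>
    (z.1.isPrime.mem_or_mem hz).elim z.2.2 (hgW ⟨z.1, z.2.1⟩)
  have hval'' : ∀ b (z : W'), valO Ar (comp α ((sumTw (k := k) (r := r) α).presheaf.map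
      (homOfLE hW').op s) b) z = Localization.mk (v * c b) ⟨v * g, hvgW z⟩ := by
    intro b z
    rw [comp_res, valO_res]
    refine (hval b ⟨z.1, z.2.1⟩).trans ?_
    rw [Localization.mk_eq_mk_iff, Localization.r_iff_exists]
    exact ⟨1, by simp only [OneMemClass.coe_one, one_mul]; ring⟩
  have hker' : ∑ b, (v * c b) • aug b = 0 := by
    have : ∀ b, (v * c b) • aug b = v • (c b • aug b) := fun b => mul_smul _ _ _
    rw [Finset.sum_congr rfl (fun b _ => this b), ← Finset.smul_sum]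
    exact hvm
  obtain ⟨h, hh⟩ := hker (fun b => v * c b) hker'
  have hcdeg : ∀ b, v * c b ∈ Z (((l + j : ℕ) : ℤ) - α b) := fun b => by
    have h1 := stdGr_mul_mem (mem_Z_of_mem hv (l : ℤ) rfl) (hc b)
    have e : (l : ℤ) + ((j : ℤ) + -α b) = ((l + j : ℕ) : ℤ) - α b := by push_cast; ring
    rw [← e]
    exact h1
  have hh' := matrix_homog α γ D hD ((l + j : ℕ) : ℤ) _ hcdeg h hh
  refine ⟨W', hW', hyW', ofComp γ (fun e => fracZ (-γ e) W'
    (pr (((l + j : ℕ) : ℤ) - γ e) (h e)) (v * g) (l + j) hvg hvgW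
    (by rw [← sub_eq_add_neg]; exact pr_mem _ _)), ?_⟩
  change ((matHom α γ D hD).app W').hom _ = (sumTw (k := k) (r := r) α).presheaf.map
      (homOfLE hW').op s
  apply comp_ext α
  intro b
  apply valO_ext
  intro z
  rw [valO_matHom_of_frac α γ D hD _ (fun e => pr (((l + j : ℕ) : ℤ) - γ e) (h e)) (v * g) hvgW
    (fun e z' => by rw [comp_ofComp]; exact fracZ_val _ _ _ _ _ _ _ _ _) b z, hval'' b z, ← hh']

end decomp

end Groth.Agent.Lib.helper20.TildeRes
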