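import Mathlib
import Groth.Agent.Lib.Helper20.MumfordUnif1
import Groth.Agent.Lib.Helper20.MumfordLemma
import Groth.Agent.Lib.Helper20.GenericZero
import Groth.Agent.Lib.Helper7.SnapperNewton
import Groth.Agent.Lib.Lead.HilbPos30
import Groth.Agent.Lib.Lead.HilbPos5
import Groth.Agent.Lib.Helper18.HHEuler

/-!
# Nonvanishing of the top cohomology of some twist on `P^n_k` (helper20)

* `growth`: for `F` coherent on `P^n_k` (`k` infinite) and every `i` there is `C` with
  `h^i(F(-m)) ≤ C (m+1)^i` for all `m : ℕ`.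
* `exists_nontrivial_HH_twist`: if `dim Supp G = a ≥ 1` then `H^a(G(m)) ≠ 0` for some `m : ℤ`.
-/

set_option autoImplicit false
set_option linter.style.haveILetI false
universe u

open CategoryTheory CategoryTheory.Limits AlgebraicGeometry Opposite TopologicalSpace Polynomial

namespace Groth.Agent.Lib.Helper20.TopCohNonzero

section LinAlg

theorem finrank_le_of_exact {K V₁ V₂ V₃ : Type*} [Field K] [AddCommGroup V₁] [Module K V₁]
    [AddCommGroup V₂] [Module K V₂] [AddCommGroup V₃] [Module K V₃]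
    [Module.Finite K V₁] [Module.Finite K V₂] [Module.Finite K V₃]
    (f : V₃ →ₗ[K] V₁) (g : V₁ →ₗ[K] V₂) (h : Function.Exact f g) :
    Module.finrank K V₁ ≤ Module.finrank K V₃ + Module.finrank K V₂ := by
  have h1 := LinearMap.finrank_range_add_finrank_ker g
  have h2 : LinearMap.ker g = LinearMap.range f := (LinearMap.exact_iff.mp h)
  have h3 : Module.finrank K (LinearMap.range f) ≤ Module.finrank K V₃ :=
    LinearMap.finrank_range_le f
  have h4 : Module.finrank K (LinearMap.range g) ≤ Module.finrank K V₂ :=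
    Submodule.finrank_le _
  rw [h2] at h1
  omega

/-- a polynomial of degree `a ≥ 1` is not `O(m^(a-1))` -/
theorem no_bound (q : ℚ[X]) (a : ℕ) (ha : 1 ≤ a) (hq : q.natDegree = a) (C : ℚ)
    (h : ∀ m : ℕ, |q.eval (m : ℚ)| ≤ C * ((m : ℚ) + 1) ^ (a - 1)) : False := by
  open Groth.Agent.Lib.Lead.HilbPos in
  set B : ℚ[X] := Polynomial.C C * (X + 1) ^ (a - 1) with hB
  have hBdeg : B.natDegree ≤ a - 1 := by
    refine le_trans (natDegree_C_mul_le _ _) ?_
    refine le_trans natDegree_pow_le ?_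
    have : (X + 1 : ℚ[X]).natDegree ≤ 1 := by
      have := natDegree_X_add_C (1 : ℚ)
      rw [map_one] at this
      rw [this]
    calc (a - 1) * (X + 1 : ℚ[X]).natDegree ≤ (a - 1) * 1 := Nat.mul_le_mul_left _ this
      _ = a - 1 := mul_one _
  have hBev : ∀ m : ℕ, B.eval (m : ℚ) = C * ((m : ℚ) + 1) ^ (a - 1) := by
    intro m
    simp [hB]
  have hq0 : q ≠ 0 := by
    intro h0
    rw [h0, natDegree_zero] at hq
    omega
  have hdeg : B.degree < q.degree := by
    apply degree_lt_degree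
    rw [hq]
    omega
  have hlc : q.leadingCoeff ≠ 0 := leadingCoeff_ne_zero.mpr hq0
  have h1 : (B - q).leadingCoeff = - q.leadingCoeff := by
    rw [← neg_sub, leadingCoeff_neg, leadingCoeff_sub_of_degree_lt hdeg]
  have h2 : (B + q).leadingCoeff = q.leadingCoeff := leadingCoeff_add_of_degree_lt hdeg
  have e1 : EvNonneg (B - q) := ⟨0, fun m _ => by
    rw [eval_sub, hBev]
    have := h m
    have := le_abs_self (q.eval (m : ℚ))
    linarith⟩
  have e2 : EvNonneg (B + q) := ⟨0, fun m _ => by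
    rw [eval_add, hBev]
    have := h m
    have := neg_abs_le (q.eval (m : ℚ))
    linarith⟩
  have n1 : B - q ≠ 0 := by
    intro h0
    rw [h0, leadingCoeff_zero] at h1
    exact hlc (neg_eq_zero.mp h1.symm)
  have n2 : B + q ≠ 0 := by
    intro h0
    rw [h0, leadingCoeff_zero] at h2
    exact hlc h2.symm
  have p1 := leadingCoeff_pos_of_evNonneg _ e1 n1
  have p2 := leadingCoeff_pos_of_evNonneg _ e2 n2
  rw [h1] at p1
  rw [h2] at p2
  linarith

end LinAlg

open Groth.Agent.Lib.helper20.MumfordLemma Groth.Agent.Lib.Helper20.MumfordUnif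
  Groth.Agent.Lib.Helper18.HH

section Growth

variable {n : ℕ} {k : Type u} [Field k] [Infinite k]

theorem exists_mono_hF (F : (CohB1.ProjSpace n k).Modules) (hFc : Coh.IsCoh F) :
    ∃ h : CohB1.polyGrading n k 1, Mono (hF n k F h) := by
  haveI : F.IsQuasicoherent := hFc.1
  have hc := Groth.Agent.Lib.helper20.CMGG.isCoh_twist hFc (-1)
  obtain ⟨h, h1, -⟩ := exists_good_form n k _ _ hc hc
  exact ⟨h, mono_hF n k F h h1⟩

theorem pow_succ_ge (x i : ℕ) : x ^ (i + 1) + x ^ i ≤ (x + 1) ^ (i + 1) := by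
  have h1 : x ^ i ≤ (x + 1) ^ i := Nat.pow_le_pow_left (Nat.le_succ x) i
  calc x ^ (i + 1) + x ^ i = x ^ i * (x + 1) := by ring
    _ ≤ (x + 1) ^ i * (x + 1) := Nat.mul_le_mul_right _ h1
    _ = (x + 1) ^ (i + 1) := by ring

/-- polynomial growth of the cohomology of negative twists -/
theorem growth : ∀ (i : ℕ) (F : (CohB1.ProjSpace n k).Modules), Coh.IsCoh F →
    ∃ C : ℕ, ∀ m : ℕ,
      Module.finrank k (Coh.HH (CohB1.ProjSpace n k) (tw F (-(m : ℤ))) i) ≤ C * (m + 1) ^ i := by
  intro i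
  induction i with
  | zero =>
    intro F hFc
    obtain ⟨h, hmono⟩ := exists_mono_hF F hFc
    haveI := hmono
    refine ⟨Module.finrank k (Coh.HH (CohB1.ProjSpace n k) (tw F (-((0 : ℕ) : ℤ))) 0),
      fun m => ?_⟩
    rw [pow_zero, mul_one]
    induction m with
    | zero => exact le_rfl
    | succ m ih =>
      refine le_trans ?_ ih
      have hT := T_shortExact (hF n k F h) (-((m + 1 : ℕ) : ℤ)) (-(m : ℤ)) (by push_cast; ring)
      have hinj := injective_mapOver_f_zero hT k
      haveI : Module.Finite k (Coh.HH (CohB1.ProjSpace n k) (tw F (-(m : ℤ))) 0) :=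
        finite_H hFc _ 0
      exact LinearMap.finrank_le_finrank_of_injective hinj
  | succ i ih =>
    intro F hFc
    obtain ⟨h, hmono⟩ := exists_mono_hF F hFc
    haveI := hmono
    have hGc : Coh.IsCoh (cokernel (hF n k F h)) := isCoh_G (hF n k F h) hFc
    obtain ⟨C', hC'⟩ := ih (cokernel (hF n k F h)) hGc
    set D := Module.finrank k (Coh.HH (CohB1.ProjSpace n k) (tw F (-((0 : ℕ) : ℤ))) (i + 1))
      with hD
    refine ⟨D + C', fun m => ?_⟩
    induction m with
    | zero =>
      simp only [Nat.zero_add, one_pow, mul_one]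
      exact Nat.le_add_right _ _
    | succ m ihm =>
      have hT := T_shortExact (hF n k F h) (-((m + 1 : ℕ) : ℤ)) (-(m : ℤ)) (by push_cast; ring)
      have hex := exactOver₁ hT k i
      haveI : Module.Finite k (Coh.HH (CohB1.ProjSpace n k) (tw F (-((m + 1 : ℕ) : ℤ))) (i + 1)) :=
        finite_H hFc _ _
      haveI : Module.Finite k (Coh.HH (CohB1.ProjSpace n k) (tw F (-(m : ℤ))) (i + 1)) :=
        finite_H hFc _ _
      haveI : Module.Finite k (Coh.HH (CohB1.ProjSpace n k)
          (tw (cokernel (hF n k F h)) (-(m : ℤ))) i) := finite_H hGc _ _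
      have h1 : Module.finrank k (Coh.HH (CohB1.ProjSpace n k) (tw F (-((m + 1 : ℕ) : ℤ))) (i + 1)) ≤
          Module.finrank k (Coh.HH (CohB1.ProjSpace n k)
            (tw (cokernel (hF n k F h)) (-(m : ℤ))) i) +
          Module.finrank k (Coh.HH (CohB1.ProjSpace n k) (tw F (-(m : ℤ))) (i + 1)) :=
        finrank_le_of_exact
          (V₁ := Coh.HH (CohB1.ProjSpace n k) (tw F (-((m + 1 : ℕ) : ℤ))) (i + 1))
          (V₂ := Coh.HH (CohB1.ProjSpace n k) (tw F (-(m : ℤ))) (i + 1))
          (V₃ := Coh.HH (CohB1.ProjSpace n k) (tw (cokernel (hF n k F h)) (-(m : ℤ))) i)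
          _ _ hex
      have h2 := hC' m
      have h3 := pow_succ_ge (m + 1) i
      calc Module.finrank k (Coh.HH (CohB1.ProjSpace n k) (tw F (-((m + 1 : ℕ) : ℤ))) (i + 1))
          ≤ C' * (m + 1) ^ i + (D + C') * (m + 1) ^ (i + 1) := le_trans h1 (Nat.add_le_add h2 ihm)
        _ ≤ (D + C') * ((m + 1) ^ (i + 1) + (m + 1) ^ i) := by
            rw [mul_add, add_comm]
            exact Nat.add_le_add_left (Nat.mul_le_mul_right _ (Nat.le_add_left _ _)) _
        _ ≤ (D + C') * (m + 1 + 1) ^ (i + 1) := Nat.mul_le_mul_left _ h3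

end Growth

section Main

variable {n : ℕ} {k : Type u} [Field k] [Infinite k]

open Groth.Agent.Lib.Lead.HilbPos in
theorem exists_nontrivial_HH_twist (G : (CohB1.ProjSpace n k).Modules) (hG : Coh.IsCoh G)
    (a : ℕ) (ha : 1 ≤ a) (hdim : topologicalKrullDim ↥(CohB1.support G) = a) :
    ∃ m : ℤ, Nontrivial (Coh.HH (CohB1.ProjSpace n k) (tw G m) a) := by
  by_contra hcon
  have hsub : ∀ m : ℤ, Subsingleton (Coh.HH (CohB1.ProjSpace n k) (tw G m) a) := by
    intro m
    by_contra h
    exact hcon ⟨m, not_subsingleton_iff_nontrivial.mp h⟩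
  haveI : CompactSpace (CohB1.ProjSpace n k) := by
    haveI := Groth.Agent.Lib.helper19.ProjSpaceProper.proper_toSpec n k
    exact QuasiCompact.compactSpace_of_compactSpace (CohB1.ProjSpace.toSpec n k)
  have hOc : ∀ d : ℤ, Coh.IsCoh (Twist.twistProjSpace n k d) := by
    intro d
    have hL := Groth.Agent.Lib.helper28.TwistPn.isInvertible n k d
    exact ⟨Groth.Agent.Lib.helper12.AmpleBasis.isQuasicoherent_of_isInvertible hL,
      Groth.Agent.Lib.helper16.FLF.isFiniteType_of_isFinLocFree _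
        (Groth.Agent.Lib.helper16.FLF.isFinLocFree_of_isInvertible hL)⟩
  have hvan : ∀ (m : ℤ) (i : ℕ), a - 1 < i →
      Subsingleton (Coh.HH (CohB1.ProjSpace n k) (tw G m) i) := by
    intro m i hi
    rcases Nat.lt_or_ge a i with h | h
    · exact Groth.Agent.Lib.Helper20.GenericZero.subsingleton_HH_of_dim_support_le (tw G m)
        (Groth.Agent.Lib.helper20.CMGG.isCoh_twist hG m) (CohB1.support G)
        (Groth.Agent.Lib.helper7.SnapperNewton.support_tensorMod_subset hG (hOc m)) a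
        (le_of_eq hdim) i h
    · have : i = a := by omega
      subst this
      exact hsub m
  obtain ⟨p, hp⟩ := exists_isHilbPoly_pn n k hG
  have hpdeg : p.natDegree = a :=
    natDegree_eq k (CohB1.ProjSpace n k) (isAmple_O1 n k) hG a hdim hp
  obtain ⟨Cf, hCf⟩ : ∃ Cf : ℕ → ℕ, ∀ (i m : ℕ), Module.finrank k
      (Coh.HH (CohB1.ProjSpace n k) (tw G (-(m : ℤ))) i) ≤ Cf i * (m + 1) ^ i :=
    ⟨fun i => (growth i G hG).choose, fun i => (growth i G hG).choose_spec⟩
  set C : ℕ := ∑ i ∈ Finset.range a, Cf i with hC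
  refine no_bound (p.comp (-X)) a ha ?_ (C : ℚ) ?_
  · rw [natDegree_comp, natDegree_neg, natDegree_X, mul_one, hpdeg]
  · intro m
    rw [eval_comp, eval_neg, eval_X]
    have h1 := int_of_isHilbPoly n k hG hp (-(m : ℤ))
    have h1' : ((Curv2.euler k (CohB1.ProjSpace n k) (tw G (-(m : ℤ))) : ℤ) : ℚ) =
        p.eval (-(m : ℚ)) := by
      rw [h1]; push_cast; rfl
    rw [← h1']
    have h2 := Groth.Agent.Lib.Helper18.HH.euler_eq_sum k (tw G (-(m : ℤ))) (a - 1)
      (fun i hi => hvan _ i hi)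
    rw [h2, Nat.sub_add_cancel ha]
    have h3 : |((∑ i ∈ Finset.range a, (-1 : ℤ) ^ i *
        (Module.finrank k (Coh.HH (CohB1.ProjSpace n k) (tw G (-(m : ℤ))) i) : ℤ) : ℤ) : ℚ)| ≤
        ∑ i ∈ Finset.range a,
          ((Module.finrank k (Coh.HH (CohB1.ProjSpace n k) (tw G (-(m : ℤ))) i) : ℕ) : ℚ) := by
      push_cast
      refine le_trans (Finset.abs_sum_le_sum_abs _ _) (Finset.sum_le_sum fun i _ => ?_)
      rw [abs_mul, abs_pow, abs_neg, abs_one, one_pow, one_mul, Nat.abs_cast]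
    refine le_trans h3 ?_
    rw [hC]
    push_cast
    rw [Finset.sum_mul]
    refine Finset.sum_le_sum fun i hi => ?_
    have hi' : i ≤ a - 1 := by
      have := Finset.mem_range.mp hi
      omega
    have h4 : ((Module.finrank k (Coh.HH (CohB1.ProjSpace n k) (tw G (-(m : ℤ))) i) : ℕ) : ℚ) ≤
        ((Cf i * (m + 1) ^ i : ℕ) : ℚ) := by exact_mod_cast hCf i m
    refine le_trans h4 ?_
    push_cast
    have h5 : ((m : ℚ) + 1) ^ i ≤ ((m : ℚ) + 1) ^ (a - 1) :=
      pow_le_pow_right₀ (by linarith [(Nat.cast_nonneg m : (0 : ℚ) ≤ m)]) hi'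
    exact mul_le_mul_of_nonneg_left h5 (Nat.cast_nonneg _)

end Main

end Groth.Agent.Lib.Helper20.TopCohNonzero
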