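import Mathlib

namespace Groth.Agent.Lib.Helper20.TraceLocal

open Module

section additivity
variable {R V : Type*} [CommRing R] [AddCommGroup V] [Module R V] [Module.Finite R V]
    (W : Submodule R V) [Module.Free R W] [Module.Finite R W] [Module.Free R (V ⧸ W)]

open Module.Basis in
theorem trace_eq_trace_add_trace (e : V →ₗ[R] V) (he : W ≤ W.comap e) :
    LinearMap.trace R V e =
      LinearMap.trace R W (e.restrict he) + LinearMap.trace R (V ⧸ W) (W.mapQ W e he) := by
  let m := Module.Free.ChooseBasisIndex R W
  let bW : Basis m R W := Module.Free.chooseBasis R W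
  let n := Module.Free.ChooseBasisIndex R (V ⧸ W)
  let bQ : Basis n R (V ⧸ W) := Module.Free.chooseBasis R (V ⧸ W)
  let b := sumQuot bW bQ
  let A : Matrix m m R := LinearMap.toMatrix bW bW (e.restrict he)
  let B : Matrix m n R := Matrix.of fun i l ↦
    ((sumQuot bW bQ).repr (e ((sumQuot bW bQ) (Sum.inr l)))) (Sum.inl i)
  let D : Matrix n n R := LinearMap.toMatrix bQ bQ (W.mapQ W e he)
  have key : LinearMap.toMatrix b b e = Matrix.fromBlocks A B 0 D := by
    ext u v
    cases u with
    | inl i =>
      cases v with
      | inl k =>
        simp only [b, sumQuot_inl, Matrix.fromBlocks_apply₁₁, A, LinearMap.toMatrix_apply]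
        apply sumQuot_repr_inl_of_mem
      | inr l => simp [b, LinearMap.toMatrix_apply, Matrix.fromBlocks_apply₁₂, B]
    | inr j =>
      cases v with
      | inl k =>
        suffices W.mkQ (e (bW k)) = 0 by simp [LinearMap.toMatrix_apply, b, this]
        rw [← LinearMap.mem_ker, Submodule.ker_mkQ]
        exact he (Submodule.coe_mem (bW k))
      | inr l =>
        simp only [LinearMap.toMatrix_apply, sumQuot_repr_inr,
          Matrix.fromBlocks_apply₂₂, b, D]
        rw [← sumQuot_inr bW bQ l, W.mapQ_apply]
        simp
  rw [LinearMap.trace_eq_matrix_trace R b, key,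
    LinearMap.trace_eq_matrix_trace R bW, LinearMap.trace_eq_matrix_trace R bQ]
  simp [Matrix.trace, Fintype.sum_sum_type, A, D]

end additivity

section exact
variable {k : Type*} [Field k] {M' M M'' : Type*} [AddCommGroup M'] [AddCommGroup M]
  [AddCommGroup M''] [Module k M'] [Module k M] [Module k M''] [Module.Finite k M]

/-- Additivity of the trace along a short exact sequence of finite-dimensional vector spaces with
compatible endomorphisms. -/
theorem trace_eq_add_of_exact (i : M' →ₗ[k] M) (q : M →ₗ[k] M'')
    (hi : Function.Injective i) (hq : Function.Surjective q) (H : Function.Exact i q)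
    (f' : M' →ₗ[k] M') (f : M →ₗ[k] M) (f'' : M'' →ₗ[k] M'')
    (h1 : ∀ x, i (f' x) = f (i x)) (h2 : ∀ x, q (f x) = f'' (q x)) :
    LinearMap.trace k M f = LinearMap.trace k M' f' + LinearMap.trace k M'' f'' := by
  set W := LinearMap.range i with hW
  have hWk : W = LinearMap.ker q := (LinearMap.exact_iff.mp H).symm
  have he : W ≤ W.comap f := by
    rintro _ ⟨x, rfl⟩
    exact ⟨f' x, h1 x⟩
  rw [trace_eq_trace_add_trace W f he]
  let e1 : M' ≃ₗ[k] W := LinearEquiv.ofInjective i hi
  let e2 : (M ⧸ W) ≃ₗ[k] M'' :=
    (Submodule.quotEquivOfEq _ _ hWk).trans (q.quotKerEquivOfSurjective hq)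
  have he1 : ∀ x, ((e1 x : W) : M) = i x := fun x => LinearEquiv.ofInjective_apply i x
  have he2 : ∀ x, e2 (Submodule.Quotient.mk x) = q x := fun x => by
    simp [e2]
  congr 1
  · rw [← LinearMap.trace_conj' f' e1]
    congr 1
    apply LinearMap.ext
    intro w
    obtain ⟨x, rfl⟩ := e1.surjective w
    apply Subtype.ext
    rw [LinearEquiv.conj_apply_apply, LinearEquiv.symm_apply_apply, he1,
      LinearMap.coe_restrict_apply, he1, h1]
  · rw [← LinearMap.trace_conj' (W.mapQ W f he) e2]
    congr 1
    apply LinearMap.ext
    intro y
    obtain ⟨x, rfl⟩ := hq y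
    rw [LinearEquiv.conj_apply_apply, ← he2 x, LinearEquiv.symm_apply_apply,
      Submodule.mapQ_apply, he2, he2, h2]

end exact


section loc
universe v
variable {k C : Type*} [Field k] [CommRing C] [Algebra k C]

/-- Multiplication by `x : C` on a `C`-module `M`, as a `k`-linear map. -/
noncomputable def act (k : Type*) {C : Type*} (M : Type*) [Field k] [CommRing C] [Algebra k C]
    [AddCommGroup M] [Module k M] [Module C M] [IsScalarTower k C M] (x : C) : M →ₗ[k] M :=
  (LinearMap.lsmul C M x).restrictScalars k

@[simp] theorem act_apply {M : Type*} [AddCommGroup M] [Module k M] [Module C M]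
    [IsScalarTower k C M] (x : C) (m : M) : act k M x m = x • m := rfl

variable [IsLocalRing C]

theorem trace_act (n : ℕ) : ∀ (M : Type v) [AddCommGroup M] [Module k M] [Module C M]
    [IsScalarTower k C M] [Module.Finite k M], Module.finrank k M = n → ∀ x : C,
    LinearMap.trace k M (act k M x) =
      (Module.length C M).toNat • Algebra.trace k (IsLocalRing.ResidueField C)
        (IsLocalRing.residue C x) := by
  induction n using Nat.strong_induction_on with
  | _ n ih =>
    intro M _ _ _ _ _ hn x
    by_cases hM : Subsingleton M
    · have h0 : act k M x = 0 := LinearMap.ext fun m => Subsingleton.elim _ _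
      rw [h0, map_zero, Module.length_eq_zero]
      simp
    · rw [not_subsingleton_iff_nontrivial] at hM
      have : IsArtinian C M := isArtinian_of_tower k inferInstance
      have : IsNoetherian C M := isNoetherian_of_tower k inferInstance
      have : IsAtomic (Submodule C M) :=
        isAtomic_of_orderBot_wellFounded_lt (wellFounded_lt (α := Submodule C M))
      obtain ⟨N, hN⟩ := IsAtomic.exists_atom (Submodule C M)
      have hsimple : IsSimpleModule C N := isSimpleModule_iff_isAtom.mpr hN
      obtain ⟨I, hI, ⟨φ⟩⟩ := isSimpleModule_iff_quot_maximal.mp hsimple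
      obtain rfl : I = IsLocalRing.maximalIdeal C := IsLocalRing.eq_maximalIdeal hI
      -- exact sequence
      have hex := trace_eq_add_of_exact (N.subtype.restrictScalars k) (N.mkQ.restrictScalars k)
        N.injective_subtype N.mkQ_surjective (LinearMap.exact_subtype_mkQ N)
        (act k N x) (act k M x) (act k (M ⧸ N) x) (fun _ => rfl) (fun _ => rfl)
      rw [hex]
      -- the simple submodule
      have hN1 : LinearMap.trace k N (act k N x) =
          Algebra.trace k (IsLocalRing.ResidueField C) (IsLocalRing.residue C x) := by
        rw [← LinearMap.trace_conj' (act k N x) (φ.restrictScalars k), Algebra.trace_apply]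
        congr 1
        apply LinearMap.ext
        intro y
        obtain ⟨c, rfl⟩ := Ideal.Quotient.mk_surjective y
        rw [LinearEquiv.conj_apply_apply]
        simp only [LinearEquiv.restrictScalars_symm_apply, LinearEquiv.restrictScalars_apply,
          act_apply, map_smul, LinearEquiv.apply_symm_apply]
        rfl
      -- the quotient
      have hlt : Module.finrank k (M ⧸ N) < n := by
        have h1 := LinearMap.finrank_range_add_finrank_ker (N.mkQ.restrictScalars k)
        have h2 : LinearMap.range (N.mkQ.restrictScalars k) = ⊤ :=
          LinearMap.range_eq_top.mpr N.mkQ_surjective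
        rw [h2, finrank_top] at h1
        have h3 : 0 < Module.finrank k (LinearMap.ker (N.mkQ.restrictScalars k)) := by
          obtain ⟨y, hy, hy0⟩ := Submodule.exists_mem_ne_zero_of_ne_bot hN.1
          rw [Module.finrank_pos_iff_exists_ne_zero]
          refine ⟨⟨y, ?_⟩, ?_⟩
          · simpa using hy
          · intro h
            exact hy0 (congrArg Subtype.val h)
        omega
      have hQ := ih _ hlt (M ⧸ N) rfl x
      rw [hN1, hQ]
      have hlen : Module.length C M = Module.length C N + Module.length C (M ⧸ N) :=
        Module.length_eq_add_of_exact N.subtype N.mkQ N.injective_subtype N.mkQ_surjective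
          (LinearMap.exact_subtype_mkQ N)
      have h1 : Module.length C N = 1 := Module.length_eq_one C N
      rw [hlen, h1, ENat.toNat_add (by simp) Module.length_ne_top]
      simp [add_smul]

end loc

end Groth.Agent.Lib.Helper20.TraceLocal
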