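import Mathlib
import Groth.Agent.Lib.Helper20.OmegaSimple

/-!
# Global vector fields on projective space over a field vanish somewhere (helper20)
-/

set_option autoImplicit false
universe u

open CategoryTheory CategoryTheory.Limits AlgebraicGeometry Opposite TopologicalSpace

namespace Groth.Agent.Lib.helper20.VecField

open Groth.Agent.Lib.helper20.TwistVal
  Groth.Agent.Lib.helper28.TwistFree Groth.Agent.Lib.helper28.TwistMul
  Groth.Agent.Lib.Helper20.ProjMulHom Groth.Agent.Lib.helper20.Euler3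
  Groth.Agent.Lib.helper20.Euler2 Groth.Agent.Lib.helper20.Euler3a
  Groth.Agent.Lib.helper20.EulerAlg
  Groth.Agent.Lib.helper20.Euler4a Groth.Agent.Lib.helper20.Euler4d
  Groth.Agent.Lib.helper20.Euler4c
  Groth.Agent.Lib.helper20.Euler4e Groth.Agent.Lib.helper20.Euler4f
  Groth.Agent.Lib.helper20.TwistHom Groth.Agent.Lib.helper20.ExtUnit
  Groth.Agent.Lib.helper20.ExactLoc Groth.Agent.Lib.helper7.KerSections
  Groth.Agent.Lib.helper20.OmegaSimple

noncomputable section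

section Forms

variable {n : ℕ} {A : Type u} [CommRing A]

local notation "𝒜ₙ" => CohB1.polyGrading n A
local notation "S" => MvPolynomial (Fin (n + 1)) A

/-- morphisms out of `Z_1` extend to `K_1` when `H¹` of the target vanishes -/
theorem exists_ext' (F : (Proj 𝒜ₙ).Modules) (hF : Subsingleton (Coh.HH (Proj 𝒜ₙ) F 1))
    (ψ' : Z n A 1 ⟶ F) : ∃ Ψ : K n A 1 ⟶ F, ιZ n A 1 ≫ Ψ = ψ' :=
  exists_extension (shortExact_sesZ (n := n) (A := A) 0) isoZ0 F hF ψ'

lemma subsingleton_H1_O : Subsingleton (Coh.HH (Proj 𝒜ₙ) (tw n A 0) 1) :=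
  Groth.Agent.S0844.result A n 0 1 (by omega) (by omega)

variable [QuasiSeparated (fP n A)]

/-- a morphism `Z_1 ⟶ O` is given by a row of linear forms -/
theorem exists_forms (ξ' : Z n A 1 ⟶ tw n A 0) :
    ∃ p : Idx n 1 → 𝒜ₙ 1, ∀ (U : (Proj 𝒜ₙ).Opens) (z : Γ(Z n A 1, U)) (x : U),
      valO 𝒜ₙ ((ξ'.app U).hom z) x =
        ∑ I, valO 𝒜ₙ (comp (fun _ : Idx n 1 => tw n A 1) (((ιZ n A 1).app U).hom z) I) x *
          mkOne 𝒜ₙ (p I).1 x.1 := by
  obtain ⟨Ψ, hΨ⟩ := exists_ext' (tw n A 0) subsingleton_H1_O ξ'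
  choose p hp using fun I : Idx n 1 =>
    exists_poly_of_hom 1 0 (by norm_num) (Sigma.ι (fun _ : Idx n 1 => tw n A 1) I ≫ Ψ)
  refine ⟨p, fun U z x => ?_⟩
  obtain ⟨a, ha⟩ : ∃ a, a = ((ιZ n A 1).app U).hom z := ⟨_, rfl⟩
  have h1 : (ξ'.app U).hom z = (Ψ.app U).hom a := by
    have := congrArg (fun φ => (Scheme.Modules.Hom.app φ U).hom z) hΨ
    rw [ha]
    exact this.symm
  have h2 : a = ∑ I, ((Sigma.ι (fun _ : Idx n 1 => tw n A 1) I).app U).hom
      (comp (fun _ : Idx n 1 => tw n A 1) a I) := sec_eq_sum _ U a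
  rw [h1, ← ha]
  conv_lhs => rw [h2]
  rw [map_sum, valO_sum]
  refine Finset.sum_congr rfl fun I _ => ?_
  exact hp I U (comp (fun _ : Idx n 1 => tw n A 1) a I) x

end Forms

section Point

variable (k : Type u) [Field k] (n : ℕ)

local notation "𝒜ₙ" => CohB1.polyGrading n k
local notation "S" => MvPolynomial (Fin (n + 1)) k

/-- a linear form is a combination of the variables -/
lemma exists_coeffs (q : 𝒜ₙ 1) :
    ∃ c : Fin (n + 1) → k, q.1 = ∑ m, MvPolynomial.C (c m) * (MvPolynomial.X m : S) := by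
  have hq : q.1.IsHomogeneous 1 := (MvPolynomial.mem_homogeneousSubmodule _ _).mp q.2
  have h1 := hq.sum_X_mul_pderiv
  have h2 : ∀ m : Fin (n + 1), ∃ c : k, MvPolynomial.pderiv m q.1 = MvPolynomial.C c := by
    intro m
    have hm : MvPolynomial.pderiv m q.1 ∈ MvPolynomial.homogeneousSubmodule (Fin (n + 1)) k 0 :=
      pderiv_mem q.2 m
    rw [MvPolynomial.homogeneousSubmodule_zero, Submodule.mem_one] at hm
    obtain ⟨c, hc⟩ := hm
    exact ⟨c, hc.symm⟩
  choose c hc using h2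
  refine ⟨c, ?_⟩
  rw [one_smul] at h1
  rw [← h1]
  exact Finset.sum_congr rfl fun m _ => by rw [hc, mul_comm]

/-- the common zero of the `2 × 2` minors of `(X | p)`: a point of projective space attached to an
eigenvector over the algebraic closure -/
theorem exists_point (p : Fin (n + 1) → 𝒜ₙ 1) :
    ∃ x : ProjectiveSpectrum 𝒜ₙ, ∀ a b : Fin (n + 1),
      ((MvPolynomial.X a : S) * (p b).1 - MvPolynomial.X b * (p a).1) ∈ x.asHomogeneousIdeal := by
  classical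
  choose c hc using fun l => exists_coeffs k n (p l)
  let f : Module.End (AlgebraicClosure k) (Fin (n + 1) → AlgebraicClosure k) :=
    Matrix.toLin' (Matrix.of fun l m => algebraMap k (AlgebraicClosure k) (c l m))
  obtain ⟨μ, hμ⟩ := Module.End.exists_eigenvalue f
  obtain ⟨v, hv⟩ := hμ.exists_hasEigenvector
  have hv0 : v ≠ 0 := hv.2
  have hfv : f v = μ • v := hv.apply_eq_smul
  let ev : S →ₐ[k] AlgebraicClosure k := MvPolynomial.aeval v
  have hev : ∀ l, ev (p l).1 = μ * v l := by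
    intro l
    rw [hc l, map_sum]
    have h1 := congrFun hfv l
    simp only [f, Matrix.toLin'_apply, Matrix.mulVec, dotProduct, Matrix.of_apply, Pi.smul_apply,
      smul_eq_mul] at h1
    rw [← h1]
    refine Finset.sum_congr rfl fun m _ => ?_
    rw [map_mul, MvPolynomial.aeval_C, MvPolynomial.aeval_X]
  have hprime : (RingHom.ker ev.toRingHom).IsPrime := RingHom.ker_isPrime _
  obtain ⟨i, hi⟩ : ∃ i, v i ≠ 0 := by
    by_contra h
    push Not at h
    exact hv0 (funext h)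
  have hXi : (MvPolynomial.X i : S) ∉ RingHom.ker ev.toRingHom := fun h => by
    have h1 : ev (MvPolynomial.X i) = 0 := (RingHom.mem_ker).mp h
    rw [MvPolynomial.aeval_X] at h1
    exact hi h1
  refine ⟨⟨(RingHom.ker ev.toRingHom).homogeneousCore 𝒜ₙ, hprime.homogeneousCore, fun hle => ?_⟩,
    fun a b => ?_⟩
  · apply hXi
    apply Ideal.toIdeal_homogeneousCore_le 𝒜ₙ (RingHom.ker ev.toRingHom)
    exact hle (HomogeneousIdeal.mem_irrelevant_of_mem 𝒜ₙ Nat.one_pos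
      (MvPolynomial.isHomogeneous_X k i))
  · apply Ideal.mem_homogeneousCore_of_homogeneous_of_mem
    · exact ⟨1 + 1, sub_mem
        (SetLike.mul_mem_graded (MvPolynomial.isHomogeneous_X k a) (p b).2)
        (SetLike.mul_mem_graded (MvPolynomial.isHomogeneous_X k b) (p a).2)⟩
    · change ev _ = 0
      rw [map_sub, map_mul, map_mul, hev, hev, MvPolynomial.aeval_X, MvPolynomial.aeval_X]
      ring

end Point

section Germ

variable {n : ℕ} {A : Type u} [CommRing A]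

local notation "𝒜ₙ" => CohB1.polyGrading n A
local notation "S" => MvPolynomial (Fin (n + 1)) A

/-- a local function whose value at `x` lies in the maximal ideal of the localization at `x` has
its germ at `x` in the maximal ideal of the stalk -/
theorem germ_mem_maximalIdeal (U : (Proj 𝒜ₙ).Opens) (x : Proj 𝒜ₙ) (hx : x ∈ U)
    (f : Γ(Proj 𝒜ₙ, U))
    (hf : ((show Twist.O (𝒜 := 𝒜ₙ) (op U) from f).1 ⟨x, hx⟩).val ∈
      IsLocalRing.maximalIdeal (Twist.Loc 𝒜ₙ x)) :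
    (Proj 𝒜ₙ).presheaf.germ U x hx f ∈
      IsLocalRing.maximalIdeal ((Proj 𝒜ₙ).presheaf.stalk x) := by
  by_contra hcon
  have hu : IsUnit ((Proj 𝒜ₙ).presheaf.germ U x hx f) :=
    IsLocalRing.notMem_maximalIdeal.mp hcon
  obtain ⟨V, i, hxV, hV⟩ := (Proj 𝒜ₙ).toRingedSpace.isUnit_res_of_isUnit_germ U f x hx hu
  obtain ⟨g, hg⟩ := hV.exists_right_inv
  have h1 := congrArg (fun t : Twist.O (𝒜 := 𝒜ₙ) (op V) => (t.1 ⟨x, hxV⟩).val) hg
  have h2 : ((show Twist.O (𝒜 := 𝒜ₙ) (op U) from f).1 ⟨x, hx⟩).val *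
      ((show Twist.O (𝒜 := 𝒜ₙ) (op V) from g).1 ⟨x, hxV⟩).val = 1 := by
    have e1 := O_mul_val V
      (show Twist.O (𝒜 := 𝒜ₙ) (op V) from (Proj 𝒜ₙ).presheaf.map i.op f)
      (show Twist.O (𝒜 := 𝒜ₙ) (op V) from g) ⟨x, hxV⟩
    refine Eq.trans ?_ (e1.symm.trans (h1.trans ?_))
    · rfl
    · exact HomogeneousLocalization.val_one (𝒜 := 𝒜ₙ)
        (x := x.asHomogeneousIdeal.toIdeal.primeCompl)
  exact (IsLocalRing.notMem_maximalIdeal.mpr (IsUnit.of_mul_eq_one _ h2)) hf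

/-- the algebraic heart: a combination of linear forms with cycle coefficients lies in the maximal
ideal at a common zero of the minors -/
lemma sum_mem_maximalIdeal (x : ProjectiveSpectrum 𝒜ₙ) (p : Fin (n + 1) → S)
    (hp : ∀ a b : Fin (n + 1),
      ((MvPolynomial.X a : S) * p b - MvPolynomial.X b * p a) ∈ x.asHomogeneousIdeal)
    (zv : Fin (n + 1) → Twist.Loc 𝒜ₙ x) (hz : ∑ l, xi x l * zv l = 0) :
    ∑ l, zv l * mkOne 𝒜ₙ (p l) x ∈ IsLocalRing.maximalIdeal (Twist.Loc 𝒜ₙ x) := by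
  obtain ⟨a, ha⟩ := Groth.Agent.Lib.helper28.TwistPn.exists_X_notMem n A x
  have hal : ∀ f : S, mkOne 𝒜ₙ f x = algebraMap S (Twist.Loc 𝒜ₙ x) f := fun f =>
    Localization.mk_one_eq_algebraMap f
  have hmem : ∀ q : S, q ∈ x.asHomogeneousIdeal →
      mkOne 𝒜ₙ q x ∈ IsLocalRing.maximalIdeal (Twist.Loc 𝒜ₙ x) := by
    intro q hq
    rw [hal]
    exact (IsLocalization.AtPrime.to_map_mem_maximal_iff (Twist.Loc 𝒜ₙ x)
      x.asHomogeneousIdeal.toIdeal q).mpr hq
  have hxa : xi x a ∉ IsLocalRing.maximalIdeal (Twist.Loc 𝒜ₙ x) := by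
    intro h
    unfold xi at h
    rw [hal] at h
    exact ha ((IsLocalization.AtPrime.to_map_mem_maximal_iff (Twist.Loc 𝒜ₙ x)
      x.asHomogeneousIdeal.toIdeal _).mp h)
  have key : xi x a * ∑ l, zv l * mkOne 𝒜ₙ (p l) x =
      ∑ l, zv l * mkOne 𝒜ₙ ((MvPolynomial.X a : S) * p l - MvPolynomial.X l * p a) x +
        mkOne 𝒜ₙ (p a) x * ∑ l, xi x l * zv l := by
    rw [Finset.mul_sum, Finset.mul_sum, ← Finset.sum_add_distrib]
    refine Finset.sum_congr rfl fun l _ => ?_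
    unfold xi
    rw [hal, hal, hal, hal, hal, map_sub, map_mul, map_mul]
    ring
  rw [hz, mul_zero, add_zero] at key
  have h3 : xi x a * ∑ l, zv l * mkOne 𝒜ₙ (p l) x ∈
      IsLocalRing.maximalIdeal (Twist.Loc 𝒜ₙ x) := by
    rw [key]
    exact Ideal.sum_mem _ fun l _ => Ideal.mul_mem_left _ _ (hmem _ (hp a l))
  exact ((IsLocalRing.maximalIdeal.isMaximal (Twist.Loc 𝒜ₙ x)).isPrime.mem_or_mem h3).resolve_left
    hxa

end Germ

section Main

variable (k : Type u) [Field k] (n : ℕ) [QuasiSeparated (fP n k)]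

local notation "𝒜ₙ" => CohB1.polyGrading n k
local notation "S" => MvPolynomial (Fin (n + 1)) k
local notation "Ωₙ" => Omega.sheaf (fP n k)

/-- **Every global vector field on projective space over a field vanishes at some point.** -/
theorem exists_zero (ξ : Ωₙ ⟶ Coh.structureModule (Proj 𝒜ₙ)) :
    ∃ x : Proj 𝒜ₙ, ∀ (U : (Proj 𝒜ₙ).Opens) (hx : x ∈ U) (s : Γ(Ωₙ, U)),
      (Proj 𝒜ₙ).presheaf.germ U x hx (OmegaSh.fnSect (Proj 𝒜ₙ) U (ξ.app U s)) ∈
        IsLocalRing.maximalIdeal ((Proj 𝒜ₙ).presheaf.stalk x) := by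
  classical
  obtain ⟨e⟩ := nonempty_iso_Z (n := n) (A := k) (p := 1) (L := Ωₙ) extDataOne extCompat_one
  let u : Coh.structureModule (Proj 𝒜ₙ) ⟶ Twist.twist 𝒜ₙ 0 :=
    Groth.Agent.Lib.helper28.TwistZero.unitToTwistZero 𝒜ₙ
  let ξ' : Z n k 1 ⟶ tw n k 0 := e.inv ≫ ξ ≫ u
  obtain ⟨p, hp⟩ := exists_forms ξ'
  obtain ⟨x, hx⟩ := exists_point k n (fun l => p (sing l))
  refine ⟨x, fun U hxU s => ?_⟩
  apply germ_mem_maximalIdeal
  obtain ⟨z, hz⟩ : ∃ z : Γ(Z n k 1, U), z = (e.hom.app U).hom s := ⟨_, rfl⟩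
  obtain ⟨b, hb⟩ : ∃ b : Γ(Proj 𝒜ₙ, U), b = OmegaSh.fnSect (Proj 𝒜ₙ) U (ξ.app U s) := ⟨_, rfl⟩
  have h1 : (ξ'.app U).hom z =
      (u.app U).hom (show Γ(Coh.structureModule (Proj 𝒜ₙ), U) from b) := by
    have h0 : e.hom ≫ ξ' = ξ ≫ u := by
      simp only [ξ', Iso.hom_inv_id_assoc]
    have h := congrArg (fun φ => (Scheme.Modules.Hom.app φ U).hom s) h0
    rw [hz, hb]
    exact h
  have h2 : valO 𝒜ₙ ((u.app U).hom (show Γ(Coh.structureModule (Proj 𝒜ₙ), U) from b)) ⟨x, hxU⟩ =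
      ((show Twist.O (𝒜 := 𝒜ₙ) (op U) from b).1 ⟨x, hxU⟩).val := by
    have h := Groth.Agent.Lib.helper28.TwistZero.unitToTwistZero_app 𝒜ₙ U b
    refine (congrArg (fun σ => valO 𝒜ₙ σ ⟨x, hxU⟩) h).trans ?_
    rw [valO_smul]
    have h3 : valO 𝒜ₙ (show Γ(Twist.twist 𝒜ₙ 0, U) from
        Groth.Agent.Lib.helper28.TwistZero.oneSect 𝒜ₙ U) ⟨x, hxU⟩ = 1 :=
      Localization.mk_self (1 : x.asHomogeneousIdeal.toIdeal.primeCompl)
    rw [h3, mul_one]
    rfl
  rw [← hb, ← h2, ← h1, hp U z ⟨x, hxU⟩]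
  have hbij : Function.Bijective (sing (n := n)) :=
    ⟨sing_injective, fun I => (exists_sing I).imp fun _ h => h.symm⟩
  rw [← hbij.sum_comp]
  refine sum_mem_maximalIdeal x (fun l => (p (sing l)).1) hx
    (fun l => valO 𝒜ₙ (comp (fun _ : Idx n 1 => tw n k 1) (((ιZ n k 1).app U).hom z) (sing l))
      ⟨x, hxU⟩) ?_
  have hcyc : IsCyc (((ιZ n k 1).app U).hom z) :=
    (dd_app_eq_zero_iff _).mp (kernel_ι_app_comp (dd n k 1) U z)
  have h0 := hcyc ⟨x, hxU⟩ ∅
  rw [bd_empty] at h0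
  refine Eq.trans (Finset.sum_congr rfl fun l _ => ?_) h0
  congr 1

end Main

end

end Groth.Agent.Lib.helper20.VecField
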